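import Mathlib
import Groth.Prelude.Def_Found
import Groth.Prelude.Def_CAlg
import Groth.Agent.CAlgH3.FlatDepth
import Groth.Agent.CAlgH3.RegularHom
import Groth.Agent.CAlgH3.Serre
import Groth.Agent.HenselLib.HullNoeth

/-! Faithfully flat descent of regularity, (R_k), (S_k). -/
universe u
open IsLocalRing TensorProduct

namespace Groth.Agent.CAlgH

theorem isRegularLocalRing_atPrime_of_flat {R S : Type u} [CommRing R] [IsNoetherianRing R] [CommRing S] [Algebra R S]
    [Module.Flat R S] (p : Ideal R) [p.IsPrime] (q : Ideal S) [q.IsPrime] (hq : p = q.comap (algebraMap R S))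
    [IsRegularLocalRing (Localization.AtPrime q)] : IsRegularLocalRing (Localization.AtPrime p) := by
  letI := (Localization.localRingHom p q (algebraMap R S) hq).toAlgebra
  haveI : IsLocalHom (algebraMap (Localization.AtPrime p) (Localization.AtPrime q)) :=
    Localization.isLocalHom_localRingHom p q (algebraMap R S) hq
  haveI : Module.Flat (Localization.AtPrime p) (Localization.AtPrime q) :=
    RingHom.flat_algebraMap_iff.mp (RingHom.Flat.localRingHom (RingHom.flat_algebraMap_iff.mpr ‹_›) q p hq)
  haveI : IsNoetherianRing (Localization.AtPrime p) := IsLocalization.isNoetherianRing p.primeCompl _ inferInstance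
  exact CAlgH3.isRegularLocalRing_of_flat (Localization.AtPrime q)

theorem isRegularRing_of_faithfullyFlat (R S : Type u) [CommRing R] [CommRing S] [Algebra R S]
    [Module.FaithfullyFlat R S] [IsRegularRing S] : IsRegularRing R := by
  haveI := HenselLib.isNoetherianRing_of_faithfullyFlat R S
  refine isRegularRing_iff.2 fun p _ => ?_
  obtain ⟨q, hq⟩ := PrimeSpectrum.comap_surjective_of_faithfullyFlat (A := R) (B := S) ⟨p, inferInstance⟩
  exact isRegularLocalRing_atPrime_of_flat p q.asIdeal (congrArg PrimeSpectrum.asIdeal hq).symm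

/-- A prime over `p` of the same height, minimal over `pS`. -/
theorem exists_prime_over_height_eq {R S : Type u} [CommRing R] [IsNoetherianRing R] [CommRing S] [IsNoetherianRing S]
    [Algebra R S] [Module.FaithfullyFlat R S] (p : Ideal R) [p.IsPrime] :
    ∃ q : Ideal S, q ∈ (p.map (algebraMap R S)).minimalPrimes ∧ p = q.comap (algebraMap R S) ∧ q.height = p.height := by
  obtain ⟨q0, hq0⟩ := PrimeSpectrum.comap_surjective_of_faithfullyFlat (A := R) (B := S) ⟨p, inferInstance⟩
  have hq0' : q0.asIdeal.comap (algebraMap R S) = p := congrArg PrimeSpectrum.asIdeal hq0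
  obtain ⟨q, hqmin, hqle⟩ := Ideal.exists_minimalPrimes_le (Ideal.map_le_iff_le_comap.mpr hq0'.ge)
  haveI := hqmin.1.1
  have hqp : p = q.comap (algebraMap R S) :=
    le_antisymm (Ideal.map_le_iff_le_comap.mp hqmin.1.2) ((Ideal.comap_mono hqle).trans hq0'.le)
  haveI : q.LiesOver p := ⟨hqp⟩
  refine ⟨q, hqmin, hqp, ?_⟩
  rw [Ideal.height_eq_height_add_of_liesOver_of_hasGoingDown p q]
  let π := Ideal.Quotient.mk (p.map (algebraMap R S))
  have hk : RingHom.ker π ≤ q := by rw [Ideal.mk_ker]; exact hqmin.1.2
  haveI : (q.map π).IsPrime := Ideal.map_isPrime_of_surjective Ideal.Quotient.mk_surjective hk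
  have h0 : (q.map π).height = 0 := by
    rw [Ideal.height_eq_zero_iff]
    refine ⟨⟨inferInstance, bot_le⟩, fun J hJ hle => ?_⟩
    haveI := hJ.1
    have h1 : q ≤ J.comap π := hqmin.2 ⟨inferInstance, fun x hx => by
      rw [Ideal.mem_comap, show π x = 0 from Ideal.Quotient.eq_zero_iff_mem.mpr hx]; exact J.zero_mem⟩ fun x hx => by
        have := hle (Ideal.mem_comap.mp hx)
        rwa [← Ideal.mem_comap, Ideal.comap_map_of_surjective π Ideal.Quotient.mk_surjective, ← RingHom.ker_eq_comap_bot,
          sup_eq_left.mpr hk] at this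
    exact Ideal.map_le_iff_le_comap.mpr h1
  rw [h0, add_zero]

theorem hasRk_of_faithfullyFlat (k : ℕ) (R S : Type u) [CommRing R] [CommRing S] [Algebra R S]
    [Module.FaithfullyFlat R S] [IsNoetherianRing S] (h : LocCoh.HasRk k S) : IsNoetherianRing R ∧ LocCoh.HasRk k R := by
  haveI := HenselLib.isNoetherianRing_of_faithfullyFlat R S
  refine ⟨inferInstance, fun p _ hp => ?_⟩
  obtain ⟨q, hmin, hq, hh⟩ := exists_prime_over_height_eq (S := S) p
  haveI := hmin.1.1
  haveI := h q (hh.trans_le hp)
  exact isRegularLocalRing_atPrime_of_flat p q hq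

theorem depth_le_of_flat {A B : Type u} [CommRing A] [CommRing B] [IsLocalRing A] [IsLocalRing B]
    [IsNoetherianRing A] [IsNoetherianRing B] [Algebra A B] [IsLocalHom (algebraMap A B)] [Module.Flat A B]
    (hfib : LocCoh.depth B (B ⧸ (maximalIdeal A).map (algebraMap A B)) = 0) :
    ∀ (n : ℕ) (N : Type u) [AddCommGroup N] [Module A N] [Module.Finite A N] [Nontrivial N],
      LocCoh.depth A N = n → LocCoh.depth B (B ⊗[A] N) ≤ n := by
  haveI : Module.FaithfullyFlat A B := Module.FaithfullyFlat.of_flat_of_isLocalHom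
  intro n
  induction n with
  | zero =>
    intro N _ _ _ _ hN
    rw [Nat.cast_zero] at hN ⊢
    haveI : Nontrivial (B ⊗[A] N) := Module.FaithfullyFlat.lTensor_nontrivial A B N
    rw [nonpos_iff_eq_zero, CAlgH3.depth_eq_zero_iff]
    obtain ⟨f, hf⟩ := ((isAssociatedPrime_iff_exists_injective_linearMap _ N).1 (CAlgH3.depth_eq_zero_iff.1 hN)).2
    let I := (maximalIdeal A).map (algebraMap A B)
    have hI : I ≠ ⊤ := fun h => (maximalIdeal.isMaximal B).ne_top (top_le_iff.mp
      (h ▸ Ideal.map_le_iff_le_comap.mpr fun a ha => map_nonunit _ a ha))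
    haveI : Nontrivial (B ⧸ I) := Ideal.Quotient.nontrivial_iff.2 hI
    let g : (B ⧸ I) →ₗ[B] B ⊗[A] N := (AlgebraTensorModule.lTensor B B f).comp
      (Algebra.TensorProduct.quotIdealMapEquivTensorQuot B (maximalIdeal A)).toLinearEquiv.toLinearMap
    have hg : Function.Injective g :=
      (Module.Flat.lTensor_preserves_injective_linearMap (M := B) f hf).comp
        (Algebra.TensorProduct.quotIdealMapEquivTensorQuot B (maximalIdeal A)).injective
    exact associatedPrimes.subset_of_injective hg (CAlgH3.depth_eq_zero_iff.1 hfib)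
  | succ n ih =>
    intro N _ _ _ _ hN
    obtain ⟨x, hx, hreg⟩ := CAlgH3.exists_regular_of_one_le_depth (M := N) (by rw [hN]; simp)
    haveI : Nontrivial (QuotSMulTop x N) := CAlgH3.nontrivial_quotSMulTop (M := N) hx
    rw [← CAlgH3.depth_quotSMulTop_add_one hx hreg, Nat.cast_add, Nat.cast_one] at hN
    rw [CAlgH3.depth_tensor_quot hx hreg, Nat.cast_add, Nat.cast_one]
    exact add_le_add (ih _ (WithTop.add_right_cancel ENat.one_ne_top hN)) le_rfl

theorem hasSk_of_faithfullyFlat (k : ℕ) (R S : Type u) [CommRing R] [CommRing S] [Algebra R S]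
    [Module.FaithfullyFlat R S] [IsNoetherianRing S] (h : LocCoh.HasSk k S S) :
    IsNoetherianRing R ∧ LocCoh.HasSk k R R := by
  haveI := HenselLib.isNoetherianRing_of_faithfullyFlat R S
  refine ⟨inferInstance, (CAlgH3.hasSk_self_iff k).2 fun p _ => ?_⟩
  obtain ⟨q, hmin, hq, hh⟩ := exists_prime_over_height_eq (S := S) p
  haveI := hmin.1.1
  have hs := (CAlgH3.hasSk_self_iff k).1 h q
  let A := Localization.AtPrime p
  let B := Localization.AtPrime q
  letI := (Localization.localRingHom p q (algebraMap R S) hq).toAlgebra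
  haveI : IsLocalHom (algebraMap A B) := Localization.isLocalHom_localRingHom p q (algebraMap R S) hq
  haveI : Module.Flat A B :=
    RingHom.flat_algebraMap_iff.mp (RingHom.Flat.localRingHom (RingHom.flat_algebraMap_iff.mpr inferInstance) q p hq)
  haveI : IsNoetherianRing A := IsLocalization.isNoetherianRing p.primeCompl _ inferInstance
  haveI : IsNoetherianRing B := IsLocalization.isNoetherianRing q.primeCompl _ inferInstance
  let I := (maximalIdeal A).map (algebraMap A B)
  have hfib : LocCoh.depth B (B ⧸ I) = 0 := by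
    have hI : I ≤ maximalIdeal B := Ideal.map_le_iff_le_comap.mpr fun a ha => map_nonunit _ a ha
    haveI : Nontrivial (B ⧸ I) :=
      Ideal.Quotient.nontrivial_iff.2 fun h => (maximalIdeal.isMaximal B).ne_top (top_le_iff.mp (h ▸ hI))
    obtain ⟨P, hP⟩ := associatedPrimes.nonempty B (B ⧸ I)
    have hPp : P.IsPrime := IsAssociatedPrime.isPrime hP
    have hIP : I ≤ P := by
      refine le_trans ?_ (IsAssociatedPrime.annihilator_le hP)
      rw [Submodule.annihilator_top, Ideal.annihilator_quotient]
    rw [CAlgH3.depth_eq_zero_iff]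
    have : maximalIdeal B = P := by
      refine le_antisymm ?_ (le_maximalIdeal hPp.ne_top)
      have hle : p.map (algebraMap R S) ≤ P.comap (algebraMap S B) := by
        refine Ideal.map_le_iff_le_comap.mpr fun r hr => Ideal.mem_comap.mpr (Ideal.mem_comap.mpr (hIP ?_))
        have h1 := Ideal.mem_map_of_mem (algebraMap A B)
          ((IsLocalization.AtPrime.to_map_mem_maximal_iff A p r).mpr hr)
        rwa [RingHom.algebraMap_toAlgebra, Localization.localRingHom_to_map] at h1
      have hPq : P.comap (algebraMap S B) ≤ q := fun s hs => by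
        by_contra hns
        exact hPp.ne_top (Ideal.eq_top_of_isUnit_mem _ hs (IsLocalization.map_units B (⟨s, hns⟩ : q.primeCompl)))
      have hqP : q ≤ P.comap (algebraMap S B) := hmin.2 ⟨inferInstance, hle⟩ hPq
      rw [← Localization.AtPrime.map_eq_maximalIdeal, Ideal.map_le_iff_le_comap]
      exact hqP
    rw [this]; exact hP
  obtain ⟨n, hn⟩ := CAlgH3.exists_depth_eq_natCast (R := A) (M := A)
  have hd := depth_le_of_flat hfib n A hn
  rw [CAlgH3.depth_congr (AlgebraTensorModule.rid A B B)] at hd
  refine le_trans ?_ (le_trans hs ?_)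
  · rw [IsLocalization.AtPrime.ringKrullDim_eq_height p A, IsLocalization.AtPrime.ringKrullDim_eq_height q B, hh]
  · rw [hn]; exact WithBot.coe_le_coe.mpr hd

end Groth.Agent.CAlgH
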