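import Mathlib
import Groth.Prelude.Def_Found
import Groth.Agent.CAlgH3.RegularCore
import Groth.Agent.CAlgH3.DimIneq
import Groth.Agent.CAlgH.RegularDescent

/-! Regular ring maps: elementary properties. -/
universe u
open IsLocalRing TensorProduct

namespace Groth.Agent.CAlgH

/-- Flat local extension of a regular local ring with regular closed fibre is regular. -/
theorem isRegularLocalRing_of_flat_fibre {A B : Type u} [CommRing A] [CommRing B] [IsRegularLocalRing A] [IsLocalRing B]
    [IsNoetherianRing B] [Algebra A B] [IsLocalHom (algebraMap A B)] [Module.Flat A B]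
    [hF : IsRegularLocalRing (B ⧸ (maximalIdeal A).map (algebraMap A B))] : IsRegularLocalRing B := by
  let I := (maximalIdeal A).map (algebraMap A B)
  haveI : (maximalIdeal B).LiesOver (maximalIdeal A) :=
    ⟨(((IsLocalRing.local_hom_TFAE (algebraMap A B)).out 0 4 rfl rfl).mp inferInstance).symm⟩
  have h := Ideal.height_eq_height_add_of_liesOver_of_hasGoingDown (maximalIdeal A) (maximalIdeal B)
  rw [IsLocalRing.map_maximalIdeal_of_surjective _ Ideal.Quotient.mk_surjective] at h
  refine IsRegularLocalRing.of_spanFinrank_maximalIdeal_le B ?_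
  rw [← IsLocalRing.maximalIdeal_height_eq_ringKrullDim, h, WithBot.coe_add,
    IsLocalRing.maximalIdeal_height_eq_ringKrullDim, IsLocalRing.maximalIdeal_height_eq_ringKrullDim,
    ← IsRegularLocalRing.spanFinrank_maximalIdeal, ← IsRegularLocalRing.spanFinrank_maximalIdeal, ← Nat.cast_add]
  refine Nat.cast_le.mpr (le_trans (CAlgH3.spanFinrank_maximalIdeal_le_add I) (Nat.add_le_add_right ?_ _))
  classical
  obtain ⟨s, hs, hs'⟩ := (IsNoetherian.noetherian (maximalIdeal A)).exists_span_finset_card_eq_spanFinrank
  have : I = Ideal.span ((s.image (algebraMap A B) : Finset B) : Set B) := by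
    rw [Finset.coe_image, ← Ideal.map_span]
    exact congrArg (Ideal.map (algebraMap A B)) hs'.symm
  rw [this, ← hs]
  refine le_trans (Submodule.spanFinrank_span_le_ncard_of_finite (Finset.finite_toSet _)) ?_
  rw [Set.ncard_coe_finset]
  exact Finset.card_image_le

theorem isRegularRing_of_isGeometricallyRegular {k F : Type u} [Field k] [CommRing F] [Algebra k F]
    (h : CAlg.IsGeometricallyRegular k F) : IsRegularRing F :=
  haveI := h k (Module.Finite.self k)
  IsRegularRing.of_ringEquiv (Algebra.TensorProduct.lid k F).toRingEquiv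

theorem exists_fibre_prime {R S : Type u} [CommRing R] [CommRing S] [Algebra R S] (p : Ideal R) [p.IsPrime]
    (q : Ideal S) [q.IsPrime] (h : q.comap (algebraMap R S) = p) :
    ∃ (Q : Ideal (p.Fiber S)) (_ : Q.IsPrime), Q.comap Algebra.TensorProduct.includeRight = q := by
  let x : p.primesOver S := ⟨q, inferInstance, ⟨h.symm⟩⟩
  refine ⟨(PrimeSpectrum.primesOverOrderIsoFiber R S p x).asIdeal, (PrimeSpectrum.primesOverOrderIsoFiber R S p x).isPrime, ?_⟩
  rw [← PrimeSpectrum.coe_primesOverOrderIsoFiber_symm_apply, OrderIso.symm_apply_apply]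

/-- The local fibre ring `S_q / p S_q` of a regular map is regular. -/
theorem isRegularLocalRing_fibre {R S : Type u} [CommRing R] [CommRing S] [Algebra R S] (h : CAlg.IsRegularHom R S)
    (p : Ideal R) [p.IsPrime] (q : Ideal S) [q.IsPrime] (hq : q.comap (algebraMap R S) = p) :
    IsRegularLocalRing (Localization.AtPrime q ⧸ p.map (algebraMap R (Localization.AtPrime q))) := by
  haveI := (h.2 p).1
  haveI := isRegularRing_of_isGeometricallyRegular (h.2 p).2
  obtain ⟨Q, _, hQ⟩ := exists_fibre_prime p q hq
  subst hQ
  let r := Q.comap (Algebra.TensorProduct.includeRight : S →ₐ[R] p.Fiber S)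
  have hr : p = r.comap (algebraMap R S) := hq.symm
  letI : Algebra (Localization.AtPrime p) (Localization.AtPrime r) :=
    (Localization.localRingHom p r (algebraMap R S) hr).toAlgebra
  haveI : r.LiesOver p := ⟨hr⟩
  haveI : Localization.AtPrime.IsLiesOverAlgebra p r := ⟨rfl⟩
  haveI : IsRegularLocalRing (Localization.AtPrime Q) := IsRegularRing.isRegularLocalRing_localization Q
  exact IsRegularLocalRing.of_ringEquiv (R := Localization.AtPrime Q) (Ideal.Fiber.localizationAlgEquivQuotient p Q).toRingEquiv

theorem isRegularLocalRing_of_isRegularHom {R S : Type u} [CommRing R] [CommRing S] [Algebra R S] [IsNoetherianRing S]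
    (h : CAlg.IsRegularHom R S) (q : Ideal S) [q.IsPrime]
    [IsRegularLocalRing (Localization.AtPrime (q.comap (algebraMap R S)))] :
    IsRegularLocalRing (Localization.AtPrime q) := by
  let p := q.comap (algebraMap R S)
  let A := Localization.AtPrime p
  let B := Localization.AtPrime q
  haveI := h.1
  letI : Algebra A B := (Localization.localRingHom p q (algebraMap R S) rfl).toAlgebra
  haveI : IsLocalHom (algebraMap A B) := Localization.isLocalHom_localRingHom p q (algebraMap R S) rfl
  haveI : Module.Flat A B :=
    RingHom.flat_algebraMap_iff.mp (RingHom.Flat.localRingHom (RingHom.flat_algebraMap_iff.mpr h.1) q p rfl)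
  have hmap : (maximalIdeal A).map (algebraMap A B) = p.map (algebraMap R B) := by
    rw [← Localization.AtPrime.map_eq_maximalIdeal, Ideal.map_map]
    refine congrArg (fun f => Ideal.map f p) ?_
    exact RingHom.ext fun x => Localization.localRingHom_to_map p q (algebraMap R S) rfl x
  haveI := isRegularLocalRing_fibre h p q rfl
  haveI : IsRegularLocalRing (B ⧸ (maximalIdeal A).map (algebraMap A B)) :=
    IsRegularLocalRing.of_ringEquiv (Ideal.quotEquivOfEq hmap.symm)
  exact isRegularLocalRing_of_flat_fibre (A := A)

theorem isRegularRing_of_isRegularHom {R S : Type u} [CommRing R] [CommRing S] [Algebra R S] [IsRegularRing R]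
    [IsNoetherianRing S] (h : CAlg.IsRegularHom R S) : IsRegularRing S :=
  isRegularRing_iff.2 fun q _ => isRegularLocalRing_of_isRegularHom h q

theorem flat_of_comp_faithfullyFlat (A B C : Type u) [CommRing A] [CommRing B] [CommRing C] [Algebra A B] [Algebra B C]
    [Algebra A C] [IsScalarTower A B C] [Module.FaithfullyFlat B C] [Module.Flat A C] : Module.Flat A B := by
  have hinj : ∀ (N : Type u) [AddCommGroup N] [Module A N],
      Function.Injective ((IsScalarTower.toAlgHom A B C).toLinearMap.rTensor N) := by
    intro N _ _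
    have h : ⇑((IsScalarTower.toAlgHom A B C).toLinearMap.rTensor N) =
        (AlgebraTensorModule.cancelBaseChange A B C C N) ∘ (TensorProduct.mk B C (B ⊗[A] N) 1) := by
      funext z
      induction z using TensorProduct.induction_on with
      | zero => simp
      | add a b ha hb =>
        simp only [Function.comp_apply, map_add] at *
        rw [ha, hb]
      | tmul b n => simp [Algebra.smul_def]
    rw [h]
    exact (LinearEquiv.injective _).comp (Module.FaithfullyFlat.tensorProduct_mk_injective (A := B) (B := C) (B ⊗[A] N))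
  refine Module.Flat.iff_lTensor_preserves_injective_linearMap.mpr fun N N' _ _ _ _ f hf x y hxy => hinj N ?_
  refine Module.Flat.lTensor_preserves_injective_linearMap (M := C) f hf ?_
  have h := congrArg ((IsScalarTower.toAlgHom A B C).toLinearMap.rTensor N') hxy
  rw [← LinearMap.comp_apply, ← LinearMap.comp_apply, LinearMap.rTensor_comp_lTensor] at h
  rw [← LinearMap.comp_apply, ← LinearMap.comp_apply, LinearMap.lTensor_comp_rTensor]
  exact h

theorem isRegularRing_tensor_descent (A B C k : Type u) [CommRing A] [CommRing B] [CommRing C] [CommRing k] [Algebra A B]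
    [Algebra B C] [Algebra A C] [IsScalarTower A B C] [Algebra A k] [Module.FaithfullyFlat B C]
    [IsRegularRing (k ⊗[A] C)] : IsRegularRing (k ⊗[A] B) := by
  let T := B ⊗[A] k
  let e : T ⊗[B] C ≃+* k ⊗[A] C :=
    ((Algebra.TensorProduct.comm B T C).toRingEquiv.trans
      (Algebra.TensorProduct.cancelBaseChange A B C C k).toRingEquiv).trans (Algebra.TensorProduct.comm A C k).toRingEquiv
  haveI : IsRegularRing (T ⊗[B] C) := IsRegularRing.of_ringEquiv e.symm
  haveI : IsRegularRing T := isRegularRing_of_faithfullyFlat T (T ⊗[B] C)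
  exact IsRegularRing.of_ringEquiv (Algebra.TensorProduct.comm A B k).toRingEquiv

theorem isRegularHom_of_comp (A B C : Type u) [CommRing A] [CommRing B] [CommRing C] [Algebra A B] [Algebra B C]
    [Algebra A C] [IsScalarTower A B C] (hAC : CAlg.IsRegularHom A C) [Module.FaithfullyFlat B C] :
    CAlg.IsRegularHom A B := by
  haveI := hAC.1
  refine ⟨flat_of_comp_faithfullyFlat A B C, fun p _ => ⟨?_, fun k' _ _ hk' => ?_⟩⟩
  · haveI := isRegularRing_of_isGeometricallyRegular (hAC.2 p).2
    haveI := isRegularRing_tensor_descent A B C p.ResidueField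
    exact inferInstance
  · letI : Algebra A k' := ((algebraMap p.ResidueField k').comp (algebraMap A p.ResidueField)).toAlgebra
    haveI : IsScalarTower A p.ResidueField k' := IsScalarTower.of_algebraMap_eq fun _ => rfl
    haveI : IsRegularRing (k' ⊗[p.ResidueField] p.Fiber C) := (hAC.2 p).2 k' hk'
    haveI : IsRegularRing (k' ⊗[A] C) :=
      IsRegularRing.of_ringEquiv (Algebra.TensorProduct.cancelBaseChange A p.ResidueField k' k' C).toRingEquiv
    haveI := isRegularRing_tensor_descent A B C k'
    exact IsRegularRing.of_ringEquiv (Algebra.TensorProduct.cancelBaseChange A p.ResidueField k' k' B).toRingEquiv.symm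

end Groth.Agent.CAlgH
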