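import Mathlib
import Groth.Prelude.Def_Found
import Groth.Agent.CAlgH.RegularHom

/-! Geometrically regular algebras and finitely generated field extensions. -/
universe u
open IsLocalRing TensorProduct

namespace Groth.Agent.CAlgH

theorem isRegularRing_localization {R : Type u} [CommRing R] [IsRegularRing R] (M : Submonoid R) (S : Type u) [CommRing S]
    [Algebra R S] [IsLocalization M S] : IsRegularRing S := by
  haveI : IsNoetherianRing S := IsLocalization.isNoetherianRing M S inferInstance
  refine isRegularRing_iff.2 fun q _ => ?_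
  let p := q.comap (algebraMap R S)
  haveI : IsLocalization p.primeCompl (Localization.AtPrime q) :=
    IsLocalization.isLocalization_isLocalization_atPrime_isLocalization M (Localization.AtPrime q) q
  exact IsRegularLocalRing.of_ringEquiv
    (IsLocalization.algEquiv p.primeCompl (Localization.AtPrime p) (Localization.AtPrime q)).toRingEquiv

theorem isRegularRing_of_etale (A B : Type u) [CommRing A] [IsRegularRing A] [CommRing B] [Algebra A B] [Algebra.Etale A B] :
    IsRegularRing B := by
  haveI : IsNoetherianRing B := Algebra.FiniteType.isNoetherianRing A B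
  refine isRegularRing_iff.2 fun q _ => ?_
  let p := q.comap (algebraMap A B)
  let R1 := Localization.AtPrime p
  let S1 := Localization.AtPrime q
  haveI : q.LiesOver p := ⟨rfl⟩
  letI : Algebra R1 S1 := (Localization.localRingHom p q (algebraMap A B) rfl).toAlgebra
  haveI : Localization.AtPrime.IsLiesOverAlgebra p q := ⟨rfl⟩
  haveI : IsLocalHom (algebraMap R1 S1) := Localization.isLocalHom_localRingHom p q (algebraMap A B) rfl
  haveI : Module.Flat R1 S1 :=
    RingHom.flat_algebraMap_iff.mp (RingHom.Flat.localRingHom (RingHom.flat_algebraMap_iff.mpr inferInstance) q p rfl)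
  haveI : Algebra.IsUnramifiedAt A q := inferInstance
  have h := ((Algebra.isUnramifiedAt_iff_map_eq A p q).mp inferInstance).2
  have hmap : (maximalIdeal R1).map (algebraMap R1 S1) = maximalIdeal S1 := by
    rw [← h, ← Localization.AtPrime.map_eq_maximalIdeal, Ideal.map_map]
    exact congrArg (fun f => Ideal.map f p) (RingHom.ext fun x => Localization.localRingHom_to_map p q (algebraMap A B) rfl x)
  haveI : IsRegularLocalRing (S1 ⧸ (maximalIdeal R1).map (algebraMap R1 S1)) := by
    haveI : IsRegularLocalRing (S1 ⧸ maximalIdeal S1) := by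
      letI := Ideal.Quotient.field (maximalIdeal S1)
      infer_instance
    exact IsRegularLocalRing.of_ringEquiv (Ideal.quotEquivOfEq hmap.symm)
  exact isRegularLocalRing_of_flat_fibre (A := R1)

theorem isRegularRing_separable_baseChange (K L : Type u) [Field K] [Field L] [Algebra K L] [FiniteDimensional K L]
    [Algebra.IsSeparable K L] (A : Type u) [CommRing A] [Algebra K A] [IsRegularRing A] : IsRegularRing (L ⊗[K] A) := by
  haveI : Algebra.FormallyEtale K L := Algebra.FormallyEtale.of_isSeparable K L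
  haveI : Algebra.Etale K L := ⟨inferInstance, Algebra.FinitePresentation.of_finiteType.mp inferInstance⟩
  haveI : IsRegularRing (A ⊗[K] L) := isRegularRing_of_etale A (A ⊗[K] L)
  exact IsRegularRing.of_ringEquiv (Algebra.TensorProduct.comm K A L).toRingEquiv

theorem isRegularRing_fractionRing_tensor (k M : Type u) [Field k] [Field M] [Algebra k M] (σ : Type u) [Finite σ]
    [Algebra (MvPolynomial σ k) M] [IsScalarTower k (MvPolynomial σ k) M] [IsFractionRing (MvPolynomial σ k) M]
    (G : Type u) [CommRing G] [Algebra k G] [IsRegularRing G] : IsRegularRing (G ⊗[k] M) := by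
  let P := MvPolynomial σ k
  haveI : IsRegularRing (G ⊗[k] P) :=
    IsRegularRing.of_ringEquiv (MvPolynomial.algebraTensorAlgEquiv k G (σ := σ)).symm.toRingEquiv
  letI : Algebra (G ⊗[k] P) (G ⊗[k] M) :=
    (Algebra.TensorProduct.map (AlgHom.id k G) (IsScalarTower.toAlgHom k P M)).toAlgebra
  haveI : IsScalarTower G (G ⊗[k] P) (G ⊗[k] M) :=
    @IsScalarTower.of_algebraMap_eq G (G ⊗[k] P) (G ⊗[k] M) _ _ _ _ _ _ fun x => by
      show x ⊗ₜ[k] (1 : M) = Algebra.TensorProduct.map (AlgHom.id k G) (IsScalarTower.toAlgHom k P M) (x ⊗ₜ[k] (1 : P))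
      simp
  haveI := IsLocalization.tensorProduct_tensorProduct_right k G (nonZeroDivisors P) M
    (RingHom.ext fun x => by simp [RingHom.algebraMap_toAlgebra])
  exact isRegularRing_localization ((nonZeroDivisors P).map
    (Algebra.TensorProduct.includeRight (R := k) (A := G))) (G ⊗[k] M)

theorem isRegularRing_pure_tensor (k Ω : Type u) [Field k] [Field Ω] [Algebra k Ω] (s : Finset Ω)
    (hs : AlgebraicIndependent k ((↑) : s → Ω)) (G : Type u) [CommRing G] [Algebra k G] [IsRegularRing G] :
    IsRegularRing (G ⊗[k] IntermediateField.adjoin k (Set.range ((↑) : s → Ω))) := by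
  haveI := isRegularRing_fractionRing_tensor k (FractionRing (MvPolynomial s k)) s G
  exact IsRegularRing.of_ringEquiv (Algebra.TensorProduct.congr (AlgEquiv.refl (R := k) (A₁ := G)) hs.aevalEquivField).toRingEquiv

theorem isRegularRing_tower_aux (k k' M L : Type u) [Field k] [Field k'] [Field M] [Field L] [Algebra k k'] [Algebra k M]
    [Algebra k L] [Algebra k' M] [Algebra M L] [IsScalarTower k k' M] [IsScalarTower k M L] [FiniteDimensional M L]
    [Algebra.IsSeparable M L] (F : Type u) [CommRing F] [Algebra k F] [IsRegularRing (M ⊗[k'] (k' ⊗[k] F))] :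
    IsRegularRing (L ⊗[k] F) := by
  haveI : IsRegularRing (M ⊗[k] F) :=
    IsRegularRing.of_ringEquiv (Algebra.TensorProduct.cancelBaseChange k k' k' M F).toRingEquiv
  haveI : IsRegularRing (L ⊗[M] (M ⊗[k] F)) := isRegularRing_separable_baseChange M L _
  exact IsRegularRing.of_ringEquiv (Algebra.TensorProduct.cancelBaseChange k M M L F).toRingEquiv

theorem isRegularRing_tower_tensor (k k' L : Type u) [Field k] [Field k'] [Field L] [Algebra k k'] [Algebra k L] [Algebra k' L]
    [IsScalarTower k k' L] (sL : Finset L) (hind : AlgebraicIndependent k' ((↑) : sL → L))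
    [FiniteDimensional (IntermediateField.adjoin k' (Set.range ((↑) : sL → L))) L]
    [Algebra.IsSeparable (IntermediateField.adjoin k' (Set.range ((↑) : sL → L))) L]
    (F : Type u) [CommRing F] [Algebra k F] [IsRegularRing (k' ⊗[k] F)] : IsRegularRing (L ⊗[k] F) := by
  haveI : IsRegularRing (IntermediateField.adjoin k' (Set.range ((↑) : sL → L)) ⊗[k'] (k' ⊗[k] F)) :=
    haveI := isRegularRing_pure_tensor k' L sL hind (k' ⊗[k] F)
    IsRegularRing.of_ringEquiv (Algebra.TensorProduct.comm k' (k' ⊗[k] F) _).toRingEquiv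
  haveI : IsScalarTower k (IntermediateField.adjoin k' (Set.range ((↑) : sL → L))) L :=
    IsScalarTower.of_algebraMap_eq fun x => by
      rw [IsScalarTower.algebraMap_apply k k' (IntermediateField.adjoin k' (Set.range ((↑) : sL → L)))]
      exact IsScalarTower.algebraMap_apply k k' L x
  exact isRegularRing_tower_aux k k' (IntermediateField.adjoin k' (Set.range ((↑) : sL → L))) L F

open IntermediateField in
theorem exists_finite_sub_of_mem_adjoin {k Ω : Type u} [Field k] [Field Ω] [Algebra k Ω] (E : IntermediateField k Ω)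
    (S : Set Ω) {x : Ω} (hx : x ∈ adjoin E S) : ∃ c : Finset Ω, (c : Set Ω) ⊆ E ∧ x ∈ adjoin k ((c : Set Ω) ∪ S) := by
  classical
  have h : x ∈ adjoin k ((E : Set Ω) ∪ S) := by
    have := (restrictScalars_adjoin k E S)
    rw [← this]; exact hx
  obtain ⟨T, hT, hxT⟩ := exists_finset_of_mem_adjoin h
  refine ⟨T.filter (fun t => t ∈ E), fun t ht => (Finset.mem_filter.mp ht).2, adjoin.mono k _ _ (fun t ht => ?_) hxT⟩
  by_cases htE : t ∈ E
  · exact Or.inl (Finset.mem_filter.mpr ⟨ht, htE⟩)
  · exact Or.inr ((hT ht).resolve_left htE)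

open IntermediateField in
set_option maxHeartbeats 800000 in
set_option synthInstance.maxHeartbeats 100000 in
/-- It suffices to test finite purely inseparable extensions. -/
theorem isRegularRing_fg_ext_of_purelyInseparable (k K F : Type u) [Field k] [Field K] [Algebra k K] [Algebra.EssFiniteType k K]
    [CommRing F] [Algebra k F] (hF : ∀ (k' : Type u) [Field k'] [Algebra k k'], Module.Finite k k' → IsPurelyInseparable k k' →
      IsRegularRing (k' ⊗[k] F)) : IsRegularRing (K ⊗[k] F) := by
  classical
  obtain ⟨gK, hgK⟩ := IntermediateField.fg_top k K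
  let Ω := AlgebraicClosure K
  let kp := perfectClosure k Ω
  let gen : Finset Ω := gK.image (algebraMap K Ω)
  let E := adjoin kp (gen : Set Ω)
  haveI : Algebra.EssFiniteType kp E := IntermediateField.essFiniteType_iff.mpr (IntermediateField.fg_adjoin_finset gen)
  obtain ⟨s, hsB, hsep⟩ := exists_isTranscendenceBasis_and_isSeparable_of_perfectField kp E
  let sΩ : Finset Ω := s.image Subtype.val
  -- the finitely many purely inseparable constants
  have hsfin : ∀ t ∈ sΩ, ∃ c : Finset Ω, (c : Set Ω) ⊆ kp ∧ t ∈ adjoin k ((c : Set Ω) ∪ gen) := fun t ht => by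
    obtain ⟨e, -, rfl⟩ := Finset.mem_image.mp ht
    exact exists_finite_sub_of_mem_adjoin kp _ e.2
  have hgE : ∀ g ∈ gen, g ∈ E := fun g hg => subset_adjoin _ _ hg
  have hcoef : ∀ g ∈ gen, ∃ P : Polynomial Ω, P.Monic ∧ P.Separable ∧ P.eval g = 0 ∧
      ∀ i, ∃ c : Finset Ω, (c : Set Ω) ⊆ kp ∧ P.coeff i ∈ adjoin k ((c : Set Ω) ∪ sΩ) := fun g hg => by
    let M0 := adjoin kp (s : Set E)
    have hsg := Algebra.IsSeparable.isSeparable M0 (⟨g, hgE g hg⟩ : E)
    let φ : M0 →+* Ω := (E.val.toRingHom).comp (M0.val.toRingHom)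
    refine ⟨(minpoly M0 (⟨g, hgE g hg⟩ : E)).map φ,
      (minpoly.monic hsg.isIntegral).map φ,
      Polynomial.Separable.map (hsg : (minpoly M0 (⟨g, hgE g hg⟩ : E)).Separable), ?_, fun i => ?_⟩
    · rw [Polynomial.eval_map]
      have h := congrArg E.val (minpoly.aeval M0 (⟨g, hgE g hg⟩ : E))
      rw [map_zero, Polynomial.aeval_def] at h
      rw [← h]
      exact (Polynomial.hom_eval₂ (minpoly M0 (⟨g, hgE g hg⟩ : E)) (algebraMap M0 E) E.val.toRingHom (⟨g, hgE g hg⟩ : E)).symm
    · rw [Polynomial.coeff_map]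
      refine exists_finite_sub_of_mem_adjoin kp _ ?_
      have hm : φ ((minpoly M0 (⟨g, hgE g hg⟩ : E)).coeff i) ∈ M0.map E.val :=
        ⟨_, ((minpoly M0 (⟨g, hgE g hg⟩ : E)).coeff i).2, rfl⟩
      rw [IntermediateField.adjoin_map] at hm
      simpa [sΩ] using hm
  choose! cs hcs1 hcs2 using hsfin
  choose! P hPm hPs hPe cP hcP1 hcP2 using hcoef
  let c : Finset Ω := sΩ.biUnion cs ∪ gen.biUnion fun g => (Finset.range ((P g).natDegree + 1)).biUnion (cP g)
  have hckp : (c : Set Ω) ⊆ kp := by
    intro x hx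
    simp only [c, Finset.coe_union, Finset.coe_biUnion, Set.mem_union, Set.mem_iUnion] at hx
    rcases hx with ⟨t, ht, hx⟩ | ⟨g, hg, i, -, hx⟩
    · exact hcs1 t ht hx
    · exact hcP1 g hg i hx
  let k' := adjoin k (c : Set Ω)
  haveI : FiniteDimensional k k' := IntermediateField.finiteDimensional_adjoin fun x hx => by
    obtain ⟨n, y, hy⟩ := (mem_perfectClosure_iff_pow_mem (ringExpChar k) (F := k)).mp (hckp hx)
    exact IsIntegral.of_pow (pow_pos (expChar_pos k (ringExpChar k)) n) (hy ▸ isIntegral_algebraMap)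
  have hk'le : k' ≤ kp := adjoin_le_iff.mpr hckp
  let L := adjoin k' (gen : Set Ω)
  have hmono : ∀ (T : Finset Ω) (d : Finset Ω), d ⊆ c → ∀ x ∈ adjoin k ((d : Set Ω) ∪ T), x ∈ adjoin k' (T : Set Ω) := by
    intro T d hd x hx
    have h1 : adjoin k ((d : Set Ω) ∪ T) ≤ (adjoin k' (T : Set Ω)).restrictScalars k := adjoin_le_iff.mpr fun y hy => by
      rcases hy with hy | hy
      · exact (adjoin k' (T : Set Ω)).algebraMap_mem ⟨y, subset_adjoin _ _ (hd hy)⟩
      · exact subset_adjoin k' _ hy
    exact h1 hx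
  have hsL : ∀ t ∈ sΩ, t ∈ L := fun t ht =>
    hmono gen (cs t) (fun y hy => Finset.mem_union_left _ (Finset.mem_biUnion.mpr ⟨t, ht, hy⟩)) t (hcs2 t ht)
  let sL : Finset L := sΩ.attach.image fun t => ⟨t.1, hsL t.1 t.2⟩
  have hind : AlgebraicIndependent k' ((↑) : sL → L) := by
    letI : Algebra k' kp := (IntermediateField.inclusion hk'le).toRingHom.toAlgebra
    haveI : IsScalarTower k' kp Ω := IsScalarTower.of_algebraMap_eq fun _ => rfl
    have h1 : AlgebraicIndependent kp (fun t : s => ((t : E) : Ω)) := hsB.1.map' (f := E.val) Subtype.val_injective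
    have h2 := h1.restrictScalars (R := k') (IntermediateField.inclusion hk'le).injective
    have hmem : ∀ t : sL, ∃ e : s, ((e : E) : Ω) = ((t : L) : Ω) := by
      rintro ⟨t, ht⟩
      obtain ⟨⟨t', ht'⟩, -, rfl⟩ := Finset.mem_image.mp ht
      obtain ⟨e, he, rfl⟩ := Finset.mem_image.mp ht'
      exact ⟨⟨e, he⟩, rfl⟩
    choose e he using hmem
    have hei : Function.Injective e := fun a b hab =>
      Subtype.ext (Subtype.ext (by rw [← he a, ← he b, hab]))
    refine AlgebraicIndependent.of_comp (f := L.val) ?_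
    convert h2.comp e hei using 1
    funext t
    exact (he t).symm
  let Mf := adjoin k' (Set.range ((↑) : sL → L))
  have hsep' : ∀ g ∈ gen, ∀ hgL : g ∈ L, IsSeparable Mf (⟨g, hgL⟩ : L) := by
    intro g hg hgL
    let ψ : Mf →+* Ω := L.val.toRingHom.comp Mf.val.toRingHom
    have hlift : P g ∈ Polynomial.lifts ψ := by
      rw [Polynomial.lifts_iff_coeff_lifts]
      intro i
      rcases lt_or_ge i ((P g).natDegree + 1) with hi | hi
      · have h := hmono sΩ (cP g i) (fun y hy => Finset.mem_union_right _ (Finset.mem_biUnion.mpr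
          ⟨g, hg, Finset.mem_biUnion.mpr ⟨i, Finset.mem_range.mpr hi, hy⟩⟩)) _ (hcP2 g hg i)
        have hle : adjoin k' (sΩ : Set Ω) ≤ Mf.map L.val := by
          rw [IntermediateField.adjoin_map]
          refine adjoin.mono _ _ _ fun t ht => ⟨⟨t, hsL t ht⟩, ⟨⟨_, ?_⟩, rfl⟩, rfl⟩
          exact Finset.mem_image.mpr ⟨⟨t, ht⟩, Finset.mem_attach _ _, rfl⟩
        obtain ⟨y, hy, hye⟩ := hle h
        exact ⟨⟨y, hy⟩, hye⟩
      · exact ⟨0, by rw [map_zero, Polynomial.coeff_eq_zero_of_natDegree_lt (by omega)]⟩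
    obtain ⟨Q, hQ, -, hQm⟩ := Polynomial.lifts_and_degree_eq_and_monic hlift (hPm g hg)
    have hQs : Q.Separable := Polynomial.separable_map ψ |>.mp (hQ ▸ hPs g hg)
    refine hQs.of_dvd (minpoly.dvd _ _ (Subtype.val_injective ?_))
    show L.val (Polynomial.aeval (⟨g, hgL⟩ : L) Q) = L.val 0
    rw [map_zero, Polynomial.aeval_def]
    refine (Polynomial.hom_eval₂ _ _ L.val.toRingHom _).trans ?_
    rw [← Polynomial.eval_map]
    show (Q.map ψ).eval g = 0
    rw [hQ]; exact hPe g hg
  let genL : Finset L := gen.attach.image fun g => ⟨g.1, subset_adjoin _ _ g.2⟩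
  have htop : adjoin Mf (genL : Set L) = ⊤ := by
    rw [eq_top_iff]
    intro x _
    have h1 : adjoin k' (gen : Set Ω) ≤ ((adjoin Mf (genL : Set L)).restrictScalars k').map L.val := by
      refine adjoin_le_iff.mpr fun g hg => ⟨⟨g, subset_adjoin _ _ hg⟩, ?_, rfl⟩
      exact subset_adjoin Mf _ (Finset.mem_image.mpr ⟨⟨g, hg⟩, Finset.mem_attach _ _, rfl⟩)
    obtain ⟨y, hy, hye⟩ := h1 x.2
    obtain rfl : y = x := Subtype.ext hye
    exact hy
  haveI hS : Algebra.IsSeparable Mf (adjoin Mf (genL : Set L)) :=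
    (IntermediateField.isSeparable_adjoin_iff_isSeparable Mf L).mpr fun x hx => by
      obtain ⟨⟨g, hg⟩, -, rfl⟩ := Finset.mem_image.mp hx
      exact hsep' g hg _
  haveI : FiniteDimensional Mf (adjoin Mf (genL : Set L)) := IntermediateField.finiteDimensional_adjoin fun x hx => by
    obtain ⟨⟨g, hg⟩, -, rfl⟩ := Finset.mem_image.mp hx
    exact (hsep' g hg _).isIntegral
  haveI : Algebra.IsSeparable Mf L :=
    Algebra.IsSeparable.of_algHom Mf (adjoin Mf (genL : Set L))
      ((IntermediateField.equivOfEq htop).trans IntermediateField.topEquiv).symm.toAlgHom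
  haveI : FiniteDimensional Mf L :=
    Module.Finite.equiv ((IntermediateField.equivOfEq htop).trans IntermediateField.topEquiv).toLinearEquiv
  -- the tensor products
  haveI hG : IsRegularRing (k' ⊗[k] F) := hF k' inferInstance ((le_perfectClosure_iff k Ω k').mp hk'le)
  haveI : IsRegularRing (L ⊗[k] F) := isRegularRing_tower_tensor k k' L sL hind F
  haveI : IsRegularRing (F ⊗[k] L) := IsRegularRing.of_ringEquiv (Algebra.TensorProduct.comm k L F).toRingEquiv
  have hKL : ∀ x : K, algebraMap K Ω x ∈ L := by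
    intro x
    have hx : x ∈ adjoin k (gK : Set K) := hgK ▸ IntermediateField.mem_top
    have hle : adjoin k (gK : Set K) ≤ (L.restrictScalars k).comap (IsScalarTower.toAlgHom k K Ω) :=
      adjoin_le_iff.mpr fun y hy => subset_adjoin k' _ (Finset.mem_image_of_mem _ hy)
    exact hle hx
  letI : Algebra K L := ((algebraMap K Ω).codRestrict L hKL).toAlgebra
  haveI : IsScalarTower k K L := IsScalarTower.of_algebraMap_eq fun x => Subtype.ext (by
    show algebraMap k' Ω (algebraMap k k' x) = algebraMap K Ω (algebraMap k K x)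
    rw [← IsScalarTower.algebraMap_apply k k' Ω, ← IsScalarTower.algebraMap_apply k K Ω])
  haveI := isRegularRing_tensor_descent k K L F
  exact IsRegularRing.of_ringEquiv (Algebra.TensorProduct.comm k F K).toRingEquiv

/-- A geometrically regular algebra stays regular after every finitely generated field extension. -/
theorem isRegularRing_fg_ext (k K F : Type u) [Field k] [Field K] [Algebra k K] [Algebra.EssFiniteType k K]
    [CommRing F] [Algebra k F] (hF : CAlg.IsGeometricallyRegular k F) : IsRegularRing (K ⊗[k] F) :=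
  isRegularRing_fg_ext_of_purelyInseparable k K F fun k' _ _ h _ => hF k' h

theorem isGeometricallyRegular_iff_purelyInseparable (k F : Type u) [Field k] [CommRing F] [Algebra k F] :
    CAlg.IsGeometricallyRegular k F ↔ ∀ (k' : Type u) [Field k'] [Algebra k k'], Module.Finite k k' →
      IsPurelyInseparable k k' → IsRegularRing (k' ⊗[k] F) :=
  ⟨fun h k' _ _ hf _ => h k' hf, fun h k' _ _ _ => isRegularRing_fg_ext_of_purelyInseparable k k' F h⟩

end Groth.Agent.CAlgH
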