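import Mathlib
import Groth.Prelude.Def_Found
import Groth.Agent.CAlgH.RegularFieldExt

/-! Geometric regularity and arbitrary field extensions, locally. -/
universe u
open IsLocalRing TensorProduct

namespace Groth.Agent.CAlgH

theorem localRingHom_bijective_of_surjective_of_ker_killed {R R' : Type u} [CommRing R] [CommRing R'] (π : R →+* R')
    (hπ : Function.Surjective π) (Q' : Ideal R') [Q'.IsPrime] (hker : ∀ x, π x = 0 → ∃ s ∉ Q'.comap π, s * x = 0) :
    Function.Bijective (Localization.localRingHom (Q'.comap π) Q' π rfl) := by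
  refine ⟨(injective_iff_map_eq_zero _).mpr fun z hz => ?_, RingHom.surjective_localRingHom_of_surjective π hπ Q'⟩
  obtain ⟨a, s, rfl⟩ := IsLocalization.exists_mk'_eq (Q'.comap π).primeCompl z
  rw [Localization.localRingHom_mk', IsLocalization.mk'_eq_zero_iff] at hz
  obtain ⟨⟨t, ht⟩, hta⟩ := hz
  obtain ⟨t, rfl⟩ := hπ t
  obtain ⟨w, hw, hwa⟩ := hker (t * a) (by rw [map_mul]; exact hta)
  refine (IsLocalization.mk'_eq_zero_iff _ _).mpr ⟨⟨w * t, fun h => ?_⟩, by rw [← hwa]; exact mul_assoc w t a⟩
  exact (Ideal.IsPrime.mem_or_mem (inferInstance : (Q'.comap π).IsPrime) h).elim hw ht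

theorem flat_map_field_aux (k K0 K A : Type u) [Field k] [Field K0] [Field K] [CommRing A] [Algebra k K0] [Algebra k K] [Algebra K0 K]
    [IsScalarTower k K0 K] [Algebra k A] :
    RingHom.Flat (Algebra.TensorProduct.map (IsScalarTower.toAlgHom k K0 K) (AlgHom.id k A)).toRingHom := by
  let e : (K0 ⊗[k] A) ⊗[K0] K ≃ₐ[K0] K ⊗[k] A :=
    (Algebra.TensorProduct.comm K0 (K0 ⊗[k] A) K).trans
      ((Algebra.TensorProduct.cancelBaseChange k K0 K K A).restrictScalars K0)
  have h := RingHom.Flat.comp (f := algebraMap (K0 ⊗[k] A) ((K0 ⊗[k] A) ⊗[K0] K))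
    (RingHom.flat_algebraMap_iff.mpr inferInstance) (RingHom.Flat.of_bijective (f := e.toAlgHom.toRingHom) e.bijective)
  convert h using 1
  refine RingHom.ext fun x => ?_
  induction x using TensorProduct.induction_on with
  | zero => simp
  | add a b ha hb => simp only [map_add, ha, hb]
  | tmul a b => simp [e, Algebra.TensorProduct.algebraMap_apply, Algebra.smul_def]

theorem isRegularLocalRing_geomRegular_of_isNoetherian_localization (k K A : Type u) [Field k] [Field K] [Algebra k K]
    [CommRing A] [Algebra k A] (h : CAlg.IsGeometricallyRegular k A) (Q : Ideal (K ⊗[k] A)) [Q.IsPrime]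
    [IsNoetherianRing (Localization.AtPrime Q)] : IsRegularLocalRing (Localization.AtPrime Q) := by
  classical
  let S1 := Localization.AtPrime Q
  have hfg : (Submodule.span S1 (algebraMap (K ⊗[k] A) S1 '' Q)).FG := IsNoetherian.noetherian _
  obtain ⟨s, hs, hspan⟩ := (Submodule.fg_span_iff_fg_span_finset_subset _).mp hfg
  obtain ⟨T, hTQ, rfl⟩ := Finset.subset_set_image_iff.mp hs
  obtain ⟨M', hM', hT⟩ := TensorProduct.exists_finite_submodule_left_of_setFinite (T : Set (K ⊗[k] A)) T.finite_toSet
  obtain ⟨g, hg⟩ := Module.Finite.iff_fg.mp hM'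
  let K0 := IntermediateField.adjoin k (g : Set K)
  haveI : Algebra.EssFiniteType k K0 :=
    IntermediateField.essFiniteType_iff.mpr (IntermediateField.fg_adjoin_finset g)
  haveI : IsRegularRing (K0 ⊗[k] A) := isRegularRing_fg_ext k K0 A h
  let f := (Algebra.TensorProduct.map (IsScalarTower.toAlgHom k K0 K) (AlgHom.id k A)).toRingHom
  have hflat : f.Flat := flat_map_field_aux k K0 K A
  have hsub : ∀ t ∈ T, t ∈ f.range := by
    intro t ht
    obtain ⟨y, hy⟩ := hT ht
    have hle : M' ≤ K0.toSubalgebra.toSubmodule := by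
      rw [← hg]; exact Submodule.span_le.mpr (IntermediateField.subset_adjoin k _)
    have hf : ∀ z : M' ⊗[k] A, f (LinearMap.rTensor A (Submodule.inclusion hle) z) = LinearMap.rTensor A M'.subtype z := by
      intro z
      induction z using TensorProduct.induction_on with
      | zero => simp
      | add a b ha hb =>
        simp only [map_add, ha, hb]
      | tmul a b => rfl
    exact ⟨_, (hf y).trans hy⟩
  let q := Q.comap f
  let R1 := Localization.AtPrime q
  letI : Algebra R1 S1 := (Localization.localRingHom q Q f rfl).toAlgebra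
  haveI : IsLocalHom (algebraMap R1 S1) := Localization.isLocalHom_localRingHom q Q f rfl
  haveI : Module.Flat R1 S1 := RingHom.flat_algebraMap_iff.mp (RingHom.Flat.localRingHom hflat Q q rfl)
  haveI : IsRegularLocalRing R1 := IsRegularRing.isRegularLocalRing_localization q
  have hmap : (maximalIdeal R1).map (algebraMap R1 S1) = maximalIdeal S1 := by
    refine le_antisymm (((IsLocalRing.local_hom_TFAE _).out 0 2 rfl rfl).mp inferInstance) ?_
    rw [← Localization.AtPrime.map_eq_maximalIdeal, Ideal.map]
    refine Ideal.span_le.mpr fun z hz => ?_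
    have hz' : z ∈ Submodule.span S1 (algebraMap (K ⊗[k] A) S1 '' Q) := Submodule.subset_span hz
    rw [hspan, Finset.coe_image] at hz'
    refine (Submodule.span_le.mpr ?_ : Submodule.span S1 _ ≤ (maximalIdeal R1).map (algebraMap R1 S1)) hz'
    rintro _ ⟨t, ht, rfl⟩
    obtain ⟨b, rfl⟩ := hsub t ht
    rw [← Localization.localRingHom_to_map q Q f rfl b]
    exact Ideal.mem_map_of_mem _ ((IsLocalization.AtPrime.to_map_mem_maximal_iff R1 q b).mpr (hTQ ht))
  haveI : IsRegularLocalRing (S1 ⧸ (maximalIdeal R1).map (algebraMap R1 S1)) := by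
    haveI : IsRegularLocalRing (S1 ⧸ maximalIdeal S1) := by
      letI := Ideal.Quotient.field (maximalIdeal S1)
      infer_instance
    exact IsRegularLocalRing.of_ringEquiv (R := S1 ⧸ maximalIdeal S1) (Ideal.quotEquivOfEq hmap.symm)
  exact isRegularLocalRing_of_flat_fibre (A := R1)

theorem isRegularRing_geomRegular_of_isNoetherian (k K A : Type u) [Field k] [Field K] [Algebra k K]
    [CommRing A] [Algebra k A] (h : CAlg.IsGeometricallyRegular k A) [IsNoetherianRing (K ⊗[k] A)] :
    IsRegularRing (K ⊗[k] A) :=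
  isRegularRing_iff.2 fun Q _ =>
    haveI : IsNoetherianRing (Localization.AtPrime Q) := IsLocalization.isNoetherianRing Q.primeCompl _ inferInstance
    isRegularLocalRing_geomRegular_of_isNoetherian_localization k K A h Q

theorem isGeometricallyRegular_baseChange (k K A : Type u) [Field k] [Field K] [Algebra k K] [Algebra.EssFiniteType k K]
    [CommRing A] [Algebra k A] (h : CAlg.IsGeometricallyRegular k A) : CAlg.IsGeometricallyRegular K (K ⊗[k] A) := by
  intro L _ _ hL
  letI : Algebra k L := ((algebraMap K L).comp (algebraMap k K)).toAlgebra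
  haveI : IsScalarTower k K L := IsScalarTower.of_algebraMap_eq fun _ => rfl
  haveI : Algebra.EssFiniteType k L := Algebra.EssFiniteType.comp k K L
  haveI := isRegularRing_fg_ext k L A h
  exact IsRegularRing.of_ringEquiv (Algebra.TensorProduct.cancelBaseChange k K L L A).toRingEquiv.symm

theorem isGeometricallyRegular_of_baseChange (k K A : Type u) [Field k] [Field K] [Algebra k K]
    [CommRing A] [Algebra k A] (h : CAlg.IsGeometricallyRegular K (K ⊗[k] A)) : CAlg.IsGeometricallyRegular k A := by
  intro k' _ _ hk'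
  haveI : Nontrivial (K ⊗[k] k') := Module.FaithfullyFlat.lTensor_nontrivial k K k'
  obtain ⟨m, hm⟩ := Ideal.exists_maximal (K ⊗[k] k')
  letI := Ideal.Quotient.field m
  let L := (K ⊗[k] k') ⧸ m
  haveI : Module.Finite K L := Module.Finite.quotient K m
  letI : Algebra k' L :=
    ((Ideal.Quotient.mk m).comp (Algebra.TensorProduct.includeRight : k' →ₐ[k] K ⊗[k] k').toRingHom).toAlgebra
  haveI : IsScalarTower k k' L := IsScalarTower.of_algebraMap_eq fun x => by
    show algebraMap k L x = Ideal.Quotient.mk m (Algebra.TensorProduct.includeRight (algebraMap k k' x))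
    rw [AlgHom.commutes]; rfl
  haveI : IsRegularRing (L ⊗[K] (K ⊗[k] A)) := h L inferInstance
  haveI : IsRegularRing (L ⊗[k] A) :=
    IsRegularRing.of_ringEquiv (Algebra.TensorProduct.cancelBaseChange k K L L A).toRingEquiv
  haveI : IsRegularRing (A ⊗[k] L) := IsRegularRing.of_ringEquiv (Algebra.TensorProduct.comm k L A).toRingEquiv
  haveI : Module.Free k' L := Module.Free.of_divisionRing k' L
  haveI : Nontrivial L := inferInstance
  haveI : Module.FaithfullyFlat k' L := @Module.FaithfullyFlat.instOfNontrivialOfFree k' L _ _ _ inferInstance inferInstance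
  haveI := isRegularRing_tensor_descent k k' L A
  exact IsRegularRing.of_ringEquiv (Algebra.TensorProduct.comm k A k').toRingEquiv

end Groth.Agent.CAlgH
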