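import Mathlib
import Groth.Prelude.Def_Found
import Groth.Agent.CAlgH.RegularLocalField

/-! Regular homomorphisms: criterion by fields, base change, localisation, composition, smooth algebras. -/
universe u
open IsLocalRing TensorProduct

namespace Groth.Agent.CAlgH

theorem isRegularRing_field_tensor {R Λ : Type u} [CommRing R] [CommRing Λ] [Algebra R Λ] (h : CAlg.IsRegularHom R Λ)
    (K : Type u) [Field K] [Algebra R K] [Algebra.EssFiniteType R K] : IsRegularRing (K ⊗[R] Λ) := by
  let p := RingHom.ker (algebraMap R K)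
  haveI : p.IsPrime := RingHom.ker_isPrime _
  letI : Algebra p.ResidueField K :=
    (Ideal.ResidueField.lift p (algebraMap R K) le_rfl fun x hx => isUnit_iff_ne_zero.mpr hx).toAlgebra
  haveI : IsScalarTower R p.ResidueField K :=
    IsScalarTower.of_algebraMap_eq fun x => (Ideal.ResidueField.lift_algebraMap p _ _ _ x).symm
  haveI : Algebra.EssFiniteType p.ResidueField K := Algebra.EssFiniteType.of_comp R _ _
  haveI := isRegularRing_fg_ext p.ResidueField K (p.Fiber Λ) (h.2 p).2
  exact IsRegularRing.of_ringEquiv (Algebra.TensorProduct.cancelBaseChange R p.ResidueField K K Λ).toRingEquiv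

theorem isRegularHom_iff_fields (R Λ : Type u) [CommRing R] [CommRing Λ] [Algebra R Λ] :
    CAlg.IsRegularHom R Λ ↔ Module.Flat R Λ ∧ ∀ (K : Type u) [Field K] [Algebra R K],
      Algebra.EssFiniteType R K → IsRegularRing (K ⊗[R] Λ) := by
  refine ⟨fun h => ⟨h.1, fun K _ _ _ => isRegularRing_field_tensor h K⟩, fun h => ⟨h.1, fun p _ => ⟨?_, fun k' _ _ _ => ?_⟩⟩⟩
  · haveI := h.2 p.ResidueField inferInstance
    exact (inferInstance : IsNoetherianRing (p.ResidueField ⊗[R] Λ))
  · letI : Algebra R k' := ((algebraMap p.ResidueField k').comp (algebraMap R p.ResidueField)).toAlgebra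
    haveI : IsScalarTower R p.ResidueField k' := IsScalarTower.of_algebraMap_eq fun _ => rfl
    haveI := h.2 k' (Algebra.EssFiniteType.comp R p.ResidueField k')
    exact IsRegularRing.of_ringEquiv (Algebra.TensorProduct.cancelBaseChange R p.ResidueField k' k' Λ).toRingEquiv.symm

/-- Regular homomorphisms are stable under base change essentially of finite type. -/
theorem isRegularHom_baseChange (R Λ R' : Type u) [CommRing R] [CommRing Λ] [CommRing R'] [Algebra R Λ] [Algebra R R']
    [Algebra.EssFiniteType R R'] (h : CAlg.IsRegularHom R Λ) : CAlg.IsRegularHom R' (R' ⊗[R] Λ) := by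
  haveI := h.1
  refine (isRegularHom_iff_fields _ _).mpr ⟨inferInstance, fun K _ _ _ => ?_⟩
  letI : Algebra R K := ((algebraMap R' K).comp (algebraMap R R')).toAlgebra
  haveI : IsScalarTower R R' K := IsScalarTower.of_algebraMap_eq fun _ => rfl
  haveI : Algebra.EssFiniteType R K := Algebra.EssFiniteType.comp R R' K
  haveI := isRegularRing_field_tensor h K
  exact IsRegularRing.of_ringEquiv (Algebra.TensorProduct.cancelBaseChange R R' K K Λ).toRingEquiv.symm

theorem isRegularHom_comp_of_noetherian_fibres (A B C : Type u) [CommRing A] [CommRing B] [CommRing C] [Algebra A B]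
    [Algebra B C] [Algebra A C] [IsScalarTower A B C] (hAB : CAlg.IsRegularHom A B) (hBC : CAlg.IsRegularHom B C)
    (hN : ∀ (p : Ideal A) [p.IsPrime], IsNoetherianRing (p.Fiber C)) : CAlg.IsRegularHom A C := by
  haveI := hAB.1
  haveI := hBC.1
  refine ⟨Module.Flat.trans A B C, fun p _ => ⟨hN p, fun k' _ _ hk' => ?_⟩⟩
  letI : Algebra A k' := ((algebraMap p.ResidueField k').comp (algebraMap A p.ResidueField)).toAlgebra
  haveI : IsScalarTower A p.ResidueField k' := IsScalarTower.of_algebraMap_eq fun _ => rfl
  haveI : Algebra.EssFiniteType A k' := Algebra.EssFiniteType.comp A p.ResidueField k'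
  haveI : IsRegularRing (k' ⊗[A] B) := isRegularRing_field_tensor hAB k'
  haveI : IsRegularRing (B ⊗[A] k') := IsRegularRing.of_ringEquiv (Algebra.TensorProduct.comm A k' B).toRingEquiv
  haveI := hN p
  haveI : IsNoetherianRing (p.ResidueField ⊗[A] C) := hN p
  haveI : IsNoetherianRing ((p.ResidueField ⊗[A] C) ⊗[p.ResidueField] k') :=
    Algebra.FiniteType.isNoetherianRing (p.ResidueField ⊗[A] C) _
  haveI : IsNoetherianRing (k' ⊗[p.ResidueField] (p.ResidueField ⊗[A] C)) :=
    isNoetherianRing_of_ringEquiv _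
      (Algebra.TensorProduct.comm p.ResidueField (p.ResidueField ⊗[A] C) k').toRingEquiv
  haveI : IsNoetherianRing (k' ⊗[A] C) :=
    isNoetherianRing_of_ringEquiv _ (Algebra.TensorProduct.cancelBaseChange A p.ResidueField k' k' C).toRingEquiv
  haveI : Algebra.EssFiniteType B (B ⊗[A] k') := inferInstance
  let e : (B ⊗[A] k') ⊗[B] C ≃+* k' ⊗[A] C :=
    ((Algebra.TensorProduct.comm B (B ⊗[A] k') C).toRingEquiv.trans
      (Algebra.TensorProduct.cancelBaseChange A B C C k').toRingEquiv).trans (Algebra.TensorProduct.comm A C k').toRingEquiv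
  haveI : IsNoetherianRing ((B ⊗[A] k') ⊗[B] C) := isNoetherianRing_of_ringEquiv _ e.symm
  haveI := isRegularRing_of_isRegularHom (isRegularHom_baseChange B C (B ⊗[A] k') hBC)
  haveI : IsRegularRing (k' ⊗[A] C) := IsRegularRing.of_ringEquiv e
  exact IsRegularRing.of_ringEquiv (Algebra.TensorProduct.cancelBaseChange A p.ResidueField k' k' C).toRingEquiv.symm

end Groth.Agent.CAlgH
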