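import Mathlib
import Groth.Prelude.Def_Found
import Groth.Agent.CAlgH.RegularBase

/-! Regular homomorphisms and localisation; tensor products with geometrically regular algebras. -/
universe u
open IsLocalRing TensorProduct

namespace Groth.Agent.CAlgH

theorem isRegularHom_of_isLocalization_target (R Λ Λ' : Type u) [CommRing R] [CommRing Λ] [CommRing Λ'] [Algebra R Λ]
    [Algebra Λ Λ'] [Algebra R Λ'] [IsScalarTower R Λ Λ'] (M : Submonoid Λ) [IsLocalization M Λ']
    (h : CAlg.IsRegularHom R Λ) : CAlg.IsRegularHom R Λ' := by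
  haveI := h.1
  haveI : Module.Flat Λ Λ' := IsLocalization.flat Λ' M
  refine (isRegularHom_iff_fields _ _).mpr ⟨Module.Flat.trans R Λ Λ', fun K _ _ _ => ?_⟩
  haveI := isRegularRing_field_tensor h K
  letI : Algebra (K ⊗[R] Λ) (K ⊗[R] Λ') :=
    (Algebra.TensorProduct.map (AlgHom.id R K) (IsScalarTower.toAlgHom R Λ Λ')).toAlgebra
  haveI : IsScalarTower K (K ⊗[R] Λ) (K ⊗[R] Λ') :=
    @IsScalarTower.of_algebraMap_eq K (K ⊗[R] Λ) (K ⊗[R] Λ') _ _ _ _ _ _ fun x => by
      show x ⊗ₜ[R] (1 : Λ') = Algebra.TensorProduct.map (AlgHom.id R K) (IsScalarTower.toAlgHom R Λ Λ') (x ⊗ₜ[R] (1 : Λ))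
      simp
  haveI := IsLocalization.tensorProduct_tensorProduct_right R K M Λ'
    (RingHom.ext fun x => by simp [RingHom.algebraMap_toAlgebra])
  exact isRegularRing_localization (M.map (Algebra.TensorProduct.includeRight (R := R) (A := K))) (K ⊗[R] Λ')

theorem isRegularHom_of_isLocalization_base (R R' Λ : Type u) [CommRing R] [CommRing R'] [CommRing Λ] [Algebra R R']
    [Algebra R Λ] [Algebra R' Λ] [IsScalarTower R R' Λ] (M : Submonoid R) [IsLocalization M R']
    (h : CAlg.IsRegularHom R Λ) : CAlg.IsRegularHom R' Λ := by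
  haveI := h.1
  refine (isRegularHom_iff_fields _ _).mpr ⟨(Module.flat_iff_of_isLocalization R' M Λ).mpr inferInstance, fun K _ _ _ => ?_⟩
  letI : Algebra R K := ((algebraMap R' K).comp (algebraMap R R')).toAlgebra
  haveI : IsScalarTower R R' K := IsScalarTower.of_algebraMap_eq fun _ => rfl
  haveI : Algebra.EssFiniteType R R' := Algebra.EssFiniteType.of_isLocalization R' M
  haveI : Algebra.EssFiniteType R K := Algebra.EssFiniteType.comp R R' K
  haveI := isRegularRing_field_tensor h K
  exact IsRegularRing.of_ringEquiv (IsLocalization.algebraTensorEquiv M R' K Λ).toRingEquiv.symm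

theorem isRegularLocalRing_prime_of_localized (R Λ : Type u) [CommRing R] [CommRing Λ] [Algebra R Λ] (n : Ideal Λ) [n.IsPrime]
    [Algebra (Localization.AtPrime (n.comap (algebraMap R Λ))) (Localization.AtPrime n)]
    [IsScalarTower R (Localization.AtPrime (n.comap (algebraMap R Λ))) (Localization.AtPrime n)]
    (h : CAlg.IsRegularHom (Localization.AtPrime (n.comap (algebraMap R Λ))) (Localization.AtPrime n))
    (K : Type u) [Field K] [Algebra R K] [Algebra.EssFiniteType R K] (Q : Ideal (K ⊗[R] Λ)) [Q.IsPrime]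
    (hQ : ∀ s ∉ n, (Algebra.TensorProduct.includeRight (R := R) (A := K)) s ∉ Q) :
    IsRegularLocalRing (Localization.AtPrime Q) := by
  let pn := n.comap (algebraMap R Λ)
  let R1 := Localization.AtPrime pn
  let L1 := Localization.AtPrime n
  have hu : ∀ r : pn.primeCompl, IsUnit (algebraMap R K r) := fun r => isUnit_iff_ne_zero.mpr fun h0 => by
    refine hQ _ r.2 ?_
    rw [AlgHom.commutes, IsScalarTower.algebraMap_apply R K (K ⊗[R] Λ), h0, map_zero]
    exact Q.zero_mem
  letI : Algebra R1 K := (IsLocalization.lift hu).toAlgebra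
  haveI : IsScalarTower R R1 K := IsScalarTower.of_algebraMap_eq fun x => (IsLocalization.lift_eq hu x).symm
  haveI : Algebra.EssFiniteType R1 K := Algebra.EssFiniteType.of_comp R _ _
  haveI := isRegularRing_field_tensor h K
  haveI : IsRegularRing (K ⊗[R] L1) :=
    IsRegularRing.of_ringEquiv (IsLocalization.algebraTensorEquiv pn.primeCompl R1 K L1).toRingEquiv
  letI : Algebra (K ⊗[R] Λ) (K ⊗[R] L1) :=
    (Algebra.TensorProduct.map (AlgHom.id R K) (IsScalarTower.toAlgHom R Λ L1)).toAlgebra
  haveI : IsScalarTower K (K ⊗[R] Λ) (K ⊗[R] L1) :=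
    @IsScalarTower.of_algebraMap_eq K (K ⊗[R] Λ) (K ⊗[R] L1) _ _ _ _ _ _ fun x => by
      show x ⊗ₜ[R] (1 : L1) = Algebra.TensorProduct.map (AlgHom.id R K) (IsScalarTower.toAlgHom R Λ L1) (x ⊗ₜ[R] (1 : Λ))
      simp
  haveI := IsLocalization.tensorProduct_tensorProduct_right R K n.primeCompl L1
    (RingHom.ext fun x => by simp [RingHom.algebraMap_toAlgebra])
  let M := n.primeCompl.map (Algebra.TensorProduct.includeRight (R := R) (A := K) : Λ →ₐ[R] K ⊗[R] Λ)
  have hd : Disjoint (M : Set (K ⊗[R] Λ)) (Q : Set (K ⊗[R] Λ)) := Set.disjoint_left.mpr fun x hx hxQ => by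
    obtain ⟨s, hs, rfl⟩ := hx
    exact hQ s hs hxQ
  let Q' := Q.map (algebraMap (K ⊗[R] Λ) (K ⊗[R] L1))
  haveI : Q'.IsPrime := IsLocalization.isPrime_of_isPrime_disjoint M _ Q inferInstance hd
  have hc : Q'.comap (algebraMap (K ⊗[R] Λ) (K ⊗[R] L1)) = Q :=
    IsLocalization.comap_map_of_isPrime_disjoint M _ inferInstance hd
  haveI := IsLocalization.isLocalization_isLocalization_atPrime_isLocalization M (Localization.AtPrime Q') Q'
  haveI : IsLocalization.AtPrime (Localization.AtPrime Q') Q := by
    unfold IsLocalization.AtPrime; simp only [← hc]; assumption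
  haveI : IsRegularLocalRing (Localization.AtPrime Q') := IsRegularRing.isRegularLocalRing_localization Q'
  exact IsRegularLocalRing.of_ringEquiv (R := Localization.AtPrime Q')
    (IsLocalization.algEquiv Q.primeCompl (Localization.AtPrime Q') (Localization.AtPrime Q)).toRingEquiv

theorem isRegularHom_iff_localRingHom (R Λ : Type u) [CommRing R] [CommRing Λ] [Algebra R Λ] [IsNoetherianRing Λ] :
    (CAlg.IsRegularHom R Λ → ∀ (q : Ideal Λ) [q.IsPrime],
      letI := (Localization.localRingHom (Ideal.comap (algebraMap R Λ) q) q (algebraMap R Λ) rfl).toAlgebra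
      CAlg.IsRegularHom (Localization.AtPrime (Ideal.comap (algebraMap R Λ) q)) (Localization.AtPrime q)) ∧
    ((∀ (n : Ideal Λ) [n.IsMaximal],
      letI := (Localization.localRingHom (Ideal.comap (algebraMap R Λ) n) n (algebraMap R Λ) rfl).toAlgebra
      CAlg.IsRegularHom (Localization.AtPrime (Ideal.comap (algebraMap R Λ) n)) (Localization.AtPrime n)) →
      CAlg.IsRegularHom R Λ) := by
  constructor
  · intro h q _
    let p := q.comap (algebraMap R Λ)
    letI := (Localization.localRingHom p q (algebraMap R Λ) rfl).toAlgebra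
    haveI : IsScalarTower R (Localization.AtPrime p) (Localization.AtPrime q) :=
      IsScalarTower.of_algebraMap_eq fun x => (Localization.localRingHom_to_map p q (algebraMap R Λ) rfl x).symm
    exact isRegularHom_of_isLocalization_base R _ _ p.primeCompl
      (isRegularHom_of_isLocalization_target R Λ _ q.primeCompl h)
  · intro h
    have hflat : Module.Flat R Λ := Module.flat_of_isLocalized_maximal Λ Λ (fun P _ => Localization.AtPrime P)
      (fun P _ => Algebra.linearMap Λ (Localization.AtPrime P)) fun P _ => by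
        let p := P.comap (algebraMap R Λ)
        letI := (Localization.localRingHom p P (algebraMap R Λ) rfl).toAlgebra
        haveI : IsScalarTower R (Localization.AtPrime p) (Localization.AtPrime P) :=
          IsScalarTower.of_algebraMap_eq fun x => (Localization.localRingHom_to_map p P (algebraMap R Λ) rfl x).symm
        exact (Module.flat_iff_of_isLocalization (Localization.AtPrime p) p.primeCompl _).mp (h P).1
    refine (isRegularHom_iff_fields _ _).mpr ⟨hflat, fun K _ _ _ => ?_⟩
    haveI : IsNoetherianRing (K ⊗[R] Λ) :=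
      haveI : IsNoetherianRing (Λ ⊗[R] K) := Algebra.EssFiniteType.isNoetherianRing Λ (Λ ⊗[R] K)
      isNoetherianRing_of_ringEquiv _ (Algebra.TensorProduct.comm R Λ K).toRingEquiv
    refine isRegularRing_iff.2 fun Q _ => ?_
    let q := Q.comap (Algebra.TensorProduct.includeRight (R := R) (A := K) : Λ →ₐ[R] K ⊗[R] Λ)
    obtain ⟨n, hn, hqn⟩ := Ideal.exists_le_maximal q (Ideal.IsPrime.ne_top (Ideal.comap_isPrime _ _))
    let p := n.comap (algebraMap R Λ)
    letI := (Localization.localRingHom p n (algebraMap R Λ) rfl).toAlgebra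
    haveI : IsScalarTower R (Localization.AtPrime p) (Localization.AtPrime n) :=
      IsScalarTower.of_algebraMap_eq fun x => (Localization.localRingHom_to_map p n (algebraMap R Λ) rfl x).symm
    exact isRegularLocalRing_prime_of_localized R Λ n (h n) K Q fun s hs hsQ => hs (hqn hsQ)

/-- A geometrically regular algebra stays regular, Noetherianity granted, over a regular base. -/
theorem isRegularHom_tensor_of_isGeometricallyRegular (k S T : Type u) [Field k] [CommRing S] [CommRing T] [Algebra k S]
    [Algebra k T] [IsNoetherianRing (S ⊗[k] T)] (hT : CAlg.IsGeometricallyRegular k T) :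
    CAlg.IsRegularHom S (S ⊗[k] T) := by
  refine (isRegularHom_iff_fields _ _).mpr ⟨inferInstance, fun K _ _ _ => ?_⟩
  letI : Algebra k K := ((algebraMap S K).comp (algebraMap k S)).toAlgebra
  haveI : IsScalarTower k S K := IsScalarTower.of_algebraMap_eq fun _ => rfl
  haveI : IsNoetherianRing ((S ⊗[k] T) ⊗[S] K) := Algebra.EssFiniteType.isNoetherianRing (S ⊗[k] T) _
  haveI : IsNoetherianRing (K ⊗[S] (S ⊗[k] T)) :=
    isNoetherianRing_of_ringEquiv _ (Algebra.TensorProduct.comm S (S ⊗[k] T) K).toRingEquiv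
  haveI : IsNoetherianRing (K ⊗[k] T) :=
    isNoetherianRing_of_ringEquiv _ (Algebra.TensorProduct.cancelBaseChange k S K K T).toRingEquiv
  haveI := isRegularRing_geomRegular_of_isNoetherian k K T hT
  exact IsRegularRing.of_ringEquiv (Algebra.TensorProduct.cancelBaseChange k S K K T).toRingEquiv.symm

theorem isGeometricallyRegular_tensor (k S T : Type u) [Field k] [CommRing S] [CommRing T] [Algebra k S] [Algebra k T]
    [IsNoetherianRing (S ⊗[k] T)] (hS : CAlg.IsGeometricallyRegular k S) (hT : CAlg.IsGeometricallyRegular k T) :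
    CAlg.IsGeometricallyRegular k (S ⊗[k] T) := by
  intro k' _ _ hk'
  haveI : IsNoetherianRing ((S ⊗[k] T) ⊗[k] k') := Algebra.FiniteType.isNoetherianRing (S ⊗[k] T) _
  haveI : IsNoetherianRing (k' ⊗[k] (S ⊗[k] T)) :=
    isNoetherianRing_of_ringEquiv _ (Algebra.TensorProduct.comm k (S ⊗[k] T) k').toRingEquiv
  let e := (Algebra.TensorProduct.assoc k k k k' S T).toRingEquiv
  haveI : IsNoetherianRing ((k' ⊗[k] S) ⊗[k] T) := isNoetherianRing_of_ringEquiv _ e.symm
  haveI := hS k' hk'
  haveI := isRegularRing_of_isRegularHom (isRegularHom_tensor_of_isGeometricallyRegular k (k' ⊗[k] S) T hT)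
  exact IsRegularRing.of_ringEquiv e

end Groth.Agent.CAlgH
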