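import Mathlib
import Groth.Prelude.Def_Found
import Groth.Agent.CAlgH.RegularLocal

/-! Separable algebraic extensions, directed unions and geometric regularity. -/
universe u
open IsLocalRing TensorProduct

namespace Groth.Agent.CAlgH

theorem isRegularRing_tensor_separable (k k' L A : Type u) [Field k] [Field k'] [Field L] [CommRing A] [IsNoetherianRing A]
    [Algebra k k'] [Algebra.IsSeparable k k'] [Algebra k' L] [Algebra k L] [IsScalarTower k k' L] [Module.Finite k' L]
    [Algebra k' A] [Algebra k A] [IsScalarTower k k' A] (h : CAlg.IsGeometricallyRegular k A) :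
    IsRegularRing (L ⊗[k'] A) := by
  haveI : IsNoetherianRing (A ⊗[k'] L) := Algebra.FiniteType.isNoetherianRing A _
  haveI : IsNoetherianRing (L ⊗[k'] A) := isNoetherianRing_of_ringEquiv _ (Algebra.TensorProduct.comm k' A L).toRingEquiv
  refine isRegularRing_iff.2 fun Q _ => ?_
  let π : L ⊗[k] A →+* L ⊗[k'] A := (Algebra.TensorProduct.mapOfCompatibleSMul k' k k' L A).toRingHom
  have hπ : Function.Surjective π := Algebra.TensorProduct.mapOfCompatibleSMul_surjective k' k k' L A
  let P := Q.comap π
  let S1 := Localization.AtPrime P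
  let u : k' →ₐ[k] L ⊗[k] A := Algebra.TensorProduct.includeLeft.comp (IsScalarTower.toAlgHom k k' L)
  let v : k' →ₐ[k] L ⊗[k] A := Algebra.TensorProduct.includeRight.comp (IsScalarTower.toAlgHom k k' A)
  let l : L ⊗[k] A →ₐ[k] S1 := IsScalarTower.toAlgHom k (L ⊗[k] A) S1
  have huv : ∀ x : k', π (u x) = π (v x) := fun x => by
    show (algebraMap k' L x) ⊗ₜ[k'] (1 : A) = (1 : L) ⊗ₜ[k'] algebraMap k' A x
    rw [Algebra.algebraMap_eq_smul_one, Algebra.algebraMap_eq_smul_one, smul_tmul]
  have key : ∀ x : k', l (u x) = l (v x) := by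
    intro x
    have hx : IsSeparable k x := Algebra.IsSeparable.isSeparable k x
    let P0 := (minpoly k x).map (algebraMap k k')
    obtain ⟨G, hG⟩ : (Polynomial.X - Polynomial.C x) ∣ P0 :=
      Polynomial.dvd_iff_isRoot.mpr (by simp [P0, Polynomial.IsRoot.def, Polynomial.eval_map, ← Polynomial.aeval_def])
    have hGx : G.eval x ≠ 0 := by
      intro h0
      have hd : P0.derivative.eval x = 0 := by rw [hG]; simp [h0]
      refine (Polynomial.Separable.aeval_derivative_ne_zero hx (minpoly.aeval k x)) ?_
      rwa [Polynomial.derivative_map, Polynomial.eval_map, ← Polynomial.aeval_def] at hd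
    -- evaluate at `v x` with coefficients through `u`
    have h1 : (l.comp u).toRingHom.comp (algebraMap k k') = algebraMap k S1 := (l.comp u).comp_algebraMap
    have h2 : Polynomial.eval₂ (l.comp u).toRingHom (l (v x)) P0 = 0 := by
      rw [Polynomial.eval₂_map, h1, ← Polynomial.aeval_def,
        show l (v x) = (l.comp v) x from rfl, Polynomial.aeval_algHom_apply, minpoly.aeval, map_zero]
    rw [hG, Polynomial.eval₂_mul, Polynomial.eval₂_sub, Polynomial.eval₂_X, Polynomial.eval₂_C] at h2
    have hG2 : IsUnit (Polynomial.eval₂ (l.comp u).toRingHom (l (v x)) G) := by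
      rw [show Polynomial.eval₂ (l.comp u).toRingHom (l (v x)) G =
        algebraMap (L ⊗[k] A) S1 (Polynomial.eval₂ u.toRingHom (v x) G) from
        (Polynomial.hom_eval₂ G u.toRingHom (algebraMap (L ⊗[k] A) S1) (v x)).symm]
      refine IsLocalization.map_units S1 (⟨_, ?_⟩ : P.primeCompl)
      show π (Polynomial.eval₂ u.toRingHom (v x) G) ∉ Q
      rw [Polynomial.hom_eval₂, ← huv]
      rw [show π (u x) = (π.comp u.toRingHom) x from rfl, Polynomial.eval₂_hom]
      exact fun hmem => Ideal.IsPrime.ne_top inferInstance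
        (Ideal.eq_top_of_isUnit_mem Q hmem ((isUnit_iff_ne_zero.mpr hGx).map _))
    exact (sub_eq_zero.mp ((IsUnit.mul_left_eq_zero hG2).mp h2)).symm
  let fL : L →ₐ[k'] S1 := { (l.comp Algebra.TensorProduct.includeLeft).toRingHom with commutes' := fun x => rfl }
  let fA : A →ₐ[k'] S1 :=
    { (l.comp Algebra.TensorProduct.includeRight).toRingHom with commutes' := fun x => (key x).symm }
  let ψ := Algebra.TensorProduct.lift fL fA fun _ _ => Commute.all _ _
  have hψ : ∀ z, ψ (π z) = l z := by
    intro z
    induction z using TensorProduct.induction_on with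
    | zero => simp
    | add a b ha hb => rw [map_add, map_add, map_add, ha, hb]
    | tmul a b =>
      show ψ (a ⊗ₜ[k'] b) = l (a ⊗ₜ[k] b)
      rw [Algebra.TensorProduct.lift_tmul]
      show l (a ⊗ₜ[k] 1) * l (1 ⊗ₜ[k] b) = _
      rw [← map_mul, Algebra.TensorProduct.tmul_mul_tmul, mul_one, one_mul]
  have hbij := localRingHom_bijective_of_surjective_of_ker_killed π hπ Q fun z hz => by
    have h0 : algebraMap (L ⊗[k] A) S1 z = algebraMap (L ⊗[k] A) S1 0 := by
      rw [map_zero]; exact (hψ z).symm.trans (by rw [hz, map_zero])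
    obtain ⟨s, hs⟩ := (IsLocalization.eq_iff_exists P.primeCompl S1).mp h0
    exact ⟨s, s.2, by rw [hs, mul_zero]⟩
  haveI : IsNoetherianRing (Localization.AtPrime Q) := IsLocalization.isNoetherianRing Q.primeCompl _ inferInstance
  haveI : IsNoetherianRing S1 := isNoetherianRing_of_ringEquiv _ (RingEquiv.ofBijective _ hbij).symm
  haveI : IsRegularLocalRing S1 := isRegularLocalRing_geomRegular_of_isNoetherian_localization k L A h P
  exact IsRegularLocalRing.of_ringEquiv (R := S1) (RingEquiv.ofBijective _ hbij)

theorem isReduced_tensor_separable (k k' K : Type u) [Field k] [Field k'] [Field K] [Algebra k k']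
    [Algebra.IsSeparable k k'] [Algebra k K] : IsReduced (K ⊗[k] k') :=
  IsReduced.tensorProduct_of_flat_of_forall_fg fun B hB => by
    haveI : Algebra.FiniteType k B := B.fg_iff_finiteType.mp hB
    haveI : Algebra.IsAlgebraic k B := Algebra.IsAlgebraic.tower_bot_of_injective (A := k') Subtype.val_injective
    haveI : IsDomain B := inferInstance
    haveI : Module.Finite k B :=
      Algebra.IsIntegral.finite
    letI : Field B := (Subalgebra.isField_of_algebraic B).toField
    haveI : Algebra.IsSeparable k B := Algebra.IsSeparable.of_algHom k k' B.val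
    haveI : Algebra.FormallyUnramified k B := Algebra.FormallyUnramified.of_isSeparable k B
    exact Algebra.FormallyUnramified.isReduced_of_field K (K ⊗[k] B)

theorem isGeometricallyRegular_of_separable (k k' A : Type u) [Field k] [Field k'] [CommRing A] [IsNoetherianRing A]
    [Algebra k k'] [Algebra.IsSeparable k k'] [Algebra k' A] [Algebra k A] [IsScalarTower k k' A]
    (h : CAlg.IsGeometricallyRegular k' A) : CAlg.IsGeometricallyRegular k A := by
  intro K _ _ hK
  haveI : IsNoetherianRing (A ⊗[k] K) := Algebra.FiniteType.isNoetherianRing A _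
  let R0 := k' ⊗[k] K
  haveI : IsReduced R0 :=
    haveI := isReduced_tensor_separable k k' K
    isReduced_of_injective _ (Algebra.TensorProduct.comm k k' K).injective
  haveI : IsArtinianRing R0 := IsArtinianRing.of_finite k' R0
  let e : A ⊗[k'] R0 ≃+* K ⊗[k] A :=
    (Algebra.TensorProduct.cancelBaseChange k k' A A K).toRingEquiv.trans (Algebra.TensorProduct.comm k A K).toRingEquiv
  suffices IsRegularRing (A ⊗[k'] R0) from IsRegularRing.of_ringEquiv e
  haveI : IsNoetherianRing (A ⊗[k'] R0) := Algebra.FiniteType.isNoetherianRing A _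
  refine isRegularRing_iff.2 fun Q _ => ?_
  let m := Q.comap (Algebra.TensorProduct.includeRight (R := k') (A := A) : R0 →ₐ[k'] A ⊗[k'] R0)
  haveI : m.IsPrime := Ideal.comap_isPrime _ _
  haveI : m.IsMaximal := IsArtinianRing.isMaximal_of_isPrime m
  letI := Ideal.Quotient.field m
  let π : A ⊗[k'] R0 →+* A ⊗[k'] (R0 ⧸ m) :=
    (Algebra.TensorProduct.map (AlgHom.id k' A) (Ideal.Quotient.mkₐ k' m)).toRingHom
  have hπ : Function.Surjective π :=
    Algebra.TensorProduct.map_surjective (AlgHom.id k' A) (Ideal.Quotient.mkₐ k' m) Function.surjective_id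
      (Ideal.Quotient.mkₐ_surjective k' m)
  have hker : RingHom.ker π ≤ Q := by
    refine (le_of_eq (Algebra.TensorProduct.lTensor_ker _ (Ideal.Quotient.mkₐ_surjective k' m))).trans ?_
    rw [show RingHom.ker (Ideal.Quotient.mkₐ k' m) = m from Ideal.mk_ker]
    exact Ideal.map_comap_le
  let Q' := Q.map π
  haveI : Q'.IsPrime := Ideal.map_isPrime_of_surjective hπ hker
  have hQ : Q'.comap π = Q := by
    rw [Ideal.comap_map_of_surjective π hπ, sup_eq_left]; exact hker
  -- `m` dies in the localisation
  have hm : ∀ x ∈ m, algebraMap R0 (Localization.AtPrime m) x = 0 := by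
    haveI : IsReduced (Localization.AtPrime m) := isReduced_localizationPreserves m.primeCompl _ inferInstance
    haveI : IsArtinianRing (Localization.AtPrime m) :=
      IsArtinianRing.localization_artinian m.primeCompl _
    intro x hx
    refine IsReduced.eq_zero _ ?_
    have hx' : algebraMap R0 (Localization.AtPrime m) x ∈ maximalIdeal (Localization.AtPrime m) :=
      (IsLocalization.AtPrime.to_map_mem_maximal_iff _ m x).mpr hx
    obtain ⟨n, hn⟩ := IsArtinianRing.isNilpotent_jacobson_bot (R := Localization.AtPrime m)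
    rw [← IsLocalRing.jacobson_eq_maximalIdeal (⊥ : Ideal (Localization.AtPrime m)) bot_ne_top] at hx'
    have hp := Ideal.pow_mem_pow hx' n
    rw [hn] at hp
    exact ⟨n, hp⟩
  haveI : IsRegularRing (A ⊗[k'] (R0 ⧸ m)) :=
    haveI := h (R0 ⧸ m) inferInstance
    IsRegularRing.of_ringEquiv (Algebra.TensorProduct.comm k' (R0 ⧸ m) A).toRingEquiv
  have hbij := localRingHom_bijective_of_surjective_of_ker_killed π hπ Q' fun z hz => by
    have hz' : z ∈ RingHom.ker (algebraMap (A ⊗[k'] R0) (Localization.AtPrime (Q'.comap π))) := by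
      refine (?_ : RingHom.ker π ≤ _) hz
      refine (le_of_eq (Algebra.TensorProduct.lTensor_ker _ (Ideal.Quotient.mkₐ_surjective k' m))).trans ?_
      rw [show RingHom.ker (Ideal.Quotient.mkₐ k' m) = m from Ideal.mk_ker, Ideal.map_le_iff_le_comap]
      intro x hx
      obtain ⟨⟨s, hs⟩, hsx⟩ := (IsLocalization.map_eq_zero_iff m.primeCompl _ x).mp (hm x hx)
      refine (IsLocalization.map_eq_zero_iff (Q'.comap π).primeCompl _ _).mpr
        ⟨⟨Algebra.TensorProduct.includeRight s, fun hmem => hs ?_⟩, ?_⟩
      · show Algebra.TensorProduct.includeRight s ∈ Q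
        rw [← hQ]; exact hmem
      · rw [← map_mul, hsx, map_zero]
    obtain ⟨s, hs⟩ := (IsLocalization.map_eq_zero_iff (Q'.comap π).primeCompl _ z).mp hz'
    exact ⟨s, s.2, hs⟩
  haveI : IsRegularLocalRing (Localization.AtPrime Q') := IsRegularRing.isRegularLocalRing_localization Q'
  haveI : IsRegularLocalRing (Localization.AtPrime (Q'.comap π)) :=
    IsRegularLocalRing.of_ringEquiv (R := Localization.AtPrime Q') (RingEquiv.ofBijective _ hbij).symm
  exact IsRegularLocalRing.of_ringEquiv (R := Localization.AtPrime (Q'.comap π))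
    (Localization.localRingEquiv (Q'.comap π) Q (RingEquiv.refl _) hQ)

/-- Descent of a finite field extension to a member of a directed family of subfields. -/
theorem isGeometricallyRegular_of_directed (k : Type u) [Field k] {ι : Type u} (K : ι → Type u) [∀ i, Field (K i)]
    [∀ i, Algebra (K i) k]
    (hdir : ∀ i j, ∃ l, Set.range (algebraMap (K i) k) ⊆ Set.range (algebraMap (K l) k) ∧
      Set.range (algebraMap (K j) k) ⊆ Set.range (algebraMap (K l) k))
    (hcov : ∀ x : k, ∃ i, x ∈ Set.range (algebraMap (K i) k))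
    (A : Type u) [CommRing A] [Algebra k A] [∀ i, Algebra (K i) A] [∀ i, IsScalarTower (K i) k A]
    (h : ∀ i, CAlg.IsGeometricallyRegular (K i) A) : CAlg.IsGeometricallyRegular k A := by
  classical
  intro k' _ _ _
  let n := Module.finrank k k'
  let b := Module.finBasis k k'
  have hfin : ∀ s : Finset k, ∃ i, (s : Set k) ⊆ Set.range (algebraMap (K i) k) := by
    intro s
    induction s using Finset.induction with
    | empty => exact ⟨(hcov 0).choose, by simp⟩
    | @insert a s _ ih =>
      obtain ⟨i, hi⟩ := ih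
      obtain ⟨j, hj⟩ := hcov a
      obtain ⟨l, hil, hjl⟩ := hdir i j
      exact ⟨l, by rw [Finset.coe_insert]; exact Set.insert_subset (hjl hj) (hi.trans hil)⟩
  obtain ⟨i, hi⟩ := hfin ((Finset.univ.image fun t : Fin n × Fin n × Fin n => b.repr (b t.1 * b t.2.1) t.2.2) ∪
    Finset.univ.image fun t => b.repr 1 t)
  let K0 := K i
  letI : Algebra K0 k' := ((algebraMap k k').comp (algebraMap K0 k)).toAlgebra
  haveI : IsScalarTower K0 k k' := IsScalarTower.of_algebraMap_eq fun _ => rfl
  let S := Submodule.span K0 (Set.range b)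
  have hmem : ∀ x : k', (∀ t, b.repr x t ∈ Set.range (algebraMap K0 k)) → x ∈ S := fun x hx => by
    rw [← b.sum_repr x]
    refine Submodule.sum_mem _ fun t _ => ?_
    obtain ⟨c, hc⟩ := hx t
    rw [← hc, algebraMap_smul]
    exact S.smul_mem c (Submodule.subset_span ⟨t, rfl⟩)
  have hbb : ∀ p q, b p * b q ∈ S := fun p q => hmem _ fun t =>
    hi (Finset.mem_union_left _ (Finset.mem_image.mpr ⟨(p, q, t), Finset.mem_univ _, rfl⟩))
  have hone : (1 : k') ∈ S := hmem _ fun t =>
    hi (Finset.mem_union_right _ (Finset.mem_image.mpr ⟨t, Finset.mem_univ _, rfl⟩))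
  have hmul : ∀ x y : k', x ∈ S → y ∈ S → x * y ∈ S := by
    have hle : S * S ≤ S := by
      rw [Submodule.span_mul_span]
      refine Submodule.span_le.mpr ?_
      rintro _ ⟨_, ⟨p, rfl⟩, _, ⟨q, rfl⟩, rfl⟩
      exact hbb p q
    exact fun x y hx hy => hle (Submodule.mul_mem_mul hx hy)
  let SA := S.toSubalgebra hone hmul
  have hli : LinearIndependent K0 b := b.linearIndependent.restrict_scalars' K0
  haveI : Module.Finite K0 SA := Module.Finite.of_basis (Module.Basis.span hli)
  haveI : IsArtinianRing SA := IsArtinianRing.of_finite K0 SA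
  let L := SA.toIntermediateField' (IsArtinianRing.isField_of_isDomain SA)
  let bL : Module.Basis (Fin n) K0 L := Module.Basis.span hli
  haveI : Module.Finite K0 L := Module.Finite.of_basis bL
  haveI : IsRegularRing (L ⊗[K0] A) := h i L inferInstance
  let φ : k ⊗[K0] L →ₐ[k] k' := Algebra.TensorProduct.lift (Algebra.ofId k k') L.val fun _ _ => Commute.all _ _
  have hφ : Function.Bijective φ := by
    let e : k ⊗[K0] L ≃ₗ[k] k' := (bL.baseChange k).equiv b (Equiv.refl _)
    have : φ.toLinearMap = e.toLinearMap := (bL.baseChange k).ext fun t => by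
      simp only [LinearEquiv.coe_coe, AlgHom.toLinearMap_apply, e, Module.Basis.equiv_apply, Equiv.refl_apply]
      rw [Module.Basis.baseChange_apply, Algebra.TensorProduct.lift_tmul, map_one, one_mul]
      exact congrArg Subtype.val (Module.Basis.span_apply hli t)
    rw [show (φ : k ⊗[K0] L → k') = φ.toLinearMap from rfl, this]
    exact e.bijective
  let ek : L ⊗[K0] A ≃+* k' ⊗[k] A :=
    (Algebra.TensorProduct.comm K0 L A).toRingEquiv.trans
      (((Algebra.TensorProduct.cancelBaseChange K0 k A A L).symm.toRingEquiv.trans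
        (Algebra.TensorProduct.congr (AlgEquiv.refl (R := k) (A₁ := A)) (AlgEquiv.ofBijective φ hφ)).toRingEquiv).trans
        (Algebra.TensorProduct.comm k A k').toRingEquiv)
  exact IsRegularRing.of_ringEquiv (R := L ⊗[K0] A) ek

end Groth.Agent.CAlgH
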