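import Mathlib
import Groth.Prelude.Def_Found
import Groth.Agent.CAlgH.RegularSepExt
import Groth.Agent.CAlgH3.RegularLocal
import Groth.Agent.HenselLib.EtaleReduced

/-! Smooth algebras over regular / reduced rings; field extensions; more base change. -/
universe u
open IsLocalRing TensorProduct

namespace Groth.Agent.CAlgH

theorem isReduced_of_isRegularRing (R : Type u) [CommRing R] [IsRegularRing R] : IsReduced R :=
  isReduced_ofLocalizationMaximal R fun J _ =>
    haveI : IsRegularLocalRing (Localization.AtPrime J) := IsRegularRing.isRegularLocalRing_localization J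
    haveI := CAlgH3.isDomain_of_isRegularLocalRing (Localization.AtPrime J)
    inferInstance

theorem isRegularRing_of_isReduced_isArtinianRing (R : Type u) [CommRing R] [IsReduced R] [IsArtinianRing R] :
    IsRegularRing R :=
  isRegularRing_iff.2 fun p _ => by
    haveI : IsReduced (Localization.AtPrime p) := isReduced_localizationPreserves p.primeCompl _ inferInstance
    haveI : IsArtinianRing (Localization.AtPrime p) := IsArtinianRing.localization_artinian p.primeCompl _
    letI := (IsArtinianRing.isField_of_isReduced_of_isLocalRing (Localization.AtPrime p)).toField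
    exact (inferInstance : IsRegularLocalRing (Localization.AtPrime p))

theorem isRegularRing_of_span_eq_top {S : Type u} [CommRing S] [IsNoetherianRing S] (s : Set S) (hs : Ideal.span s = ⊤)
    (h : ∀ f ∈ s, IsRegularRing (Localization.Away f)) : IsRegularRing S := by
  refine isRegularRing_iff.2 fun q hq => ?_
  obtain ⟨f, hf, hfq⟩ : ∃ f ∈ s, f ∉ q := by
    by_contra! h'
    exact hq.ne_top (top_le_iff.mp (hs ▸ Ideal.span_le.mpr h'))
  haveI := h f hf
  have hd : Disjoint (Submonoid.powers f : Set S) (q : Set S) :=
    (Ideal.disjoint_powers_iff_notMem_of_isPrime ..).mpr hfq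
  let q' := q.map (algebraMap S (Localization.Away f))
  haveI : q'.IsPrime := IsLocalization.isPrime_of_isPrime_disjoint (Submonoid.powers f) _ q inferInstance hd
  have hc : q'.comap (algebraMap S (Localization.Away f)) = q :=
    IsLocalization.comap_map_of_isPrime_disjoint (Submonoid.powers f) _ inferInstance hd
  haveI := IsLocalization.isLocalization_isLocalization_atPrime_isLocalization (Submonoid.powers f) (Localization.AtPrime q') q'
  haveI : IsLocalization.AtPrime (Localization.AtPrime q') q := by
    unfold IsLocalization.AtPrime; simp only [← hc]; assumption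
  haveI : IsRegularLocalRing (Localization.AtPrime q') := IsRegularRing.isRegularLocalRing_localization q'
  exact IsRegularLocalRing.of_ringEquiv (R := Localization.AtPrime q')
    (IsLocalization.algEquiv q.primeCompl (Localization.AtPrime q') (Localization.AtPrime q)).toRingEquiv

theorem isRegularRing_of_smooth (A B : Type u) [CommRing A] [IsRegularRing A] [CommRing B] [Algebra A B] [Algebra.Smooth A B] :
    IsRegularRing B := by
  haveI : IsNoetherianRing B := Algebra.FiniteType.isNoetherianRing A B
  obtain ⟨s, hs, hstd⟩ := Algebra.Smooth.exists_span_eq_top_isStandardSmooth A B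
  refine isRegularRing_of_span_eq_top s hs fun f hf => ?_
  haveI := hstd f hf
  obtain ⟨n, g, -, hg⟩ := RingHom.IsStandardSmooth.exists_etale_mvPolynomial
    (RingHom.isStandardSmooth_algebraMap.mpr (hstd f hf))
  letI := g.toAlgebra
  haveI : Algebra.Etale (MvPolynomial (Fin n) A) (Localization.Away f) := hg
  exact isRegularRing_of_etale (MvPolynomial (Fin n) A) _

theorem isReduced_of_smooth (A B : Type u) [CommRing A] [IsReduced A] [CommRing B] [Algebra A B] [Algebra.Smooth A B] :
    IsReduced B := by
  obtain ⟨s, hs, hstd⟩ := Algebra.Smooth.exists_span_eq_top_isStandardSmooth A B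
  refine ⟨fun x hx => ?_⟩
  have hzero : ∀ f ∈ s, ∃ n : ℕ, f ^ n * x = 0 := fun f hf => by
    obtain ⟨n, g, -, hg⟩ := RingHom.IsStandardSmooth.exists_etale_mvPolynomial
      (RingHom.isStandardSmooth_algebraMap.mpr (hstd f hf))
    letI := g.toAlgebra
    haveI : Algebra.Etale (MvPolynomial (Fin n) A) (Localization.Away f) := hg
    haveI : IsReduced (Localization.Away f) := HenselLib.isReduced_of_etale (MvPolynomial (Fin n) A) _
    obtain ⟨⟨_, m, rfl⟩, hm⟩ := (IsLocalization.map_eq_zero_iff (Submonoid.powers f) (Localization.Away f) x).mp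
      (IsReduced.eq_zero _ (hx.map (algebraMap B (Localization.Away f))))
    exact ⟨m, hm⟩
  let I : Ideal B := LinearMap.ker (LinearMap.toSpanSingleton B B x)
  have hann : Ideal.span s ≤ I.radical := Ideal.span_le.mpr fun f hf => by
    obtain ⟨n, hn⟩ := hzero f hf
    exact ⟨n, by simp [I, LinearMap.mem_ker, hn]⟩
  rw [hs, top_le_iff, Ideal.radical_eq_top] at hann
  have h1 : (1 : B) ∈ I := hann ▸ Submodule.mem_top
  simpa [I, LinearMap.mem_ker] using h1

theorem isGeometricallyRegular_of_smooth (k A B : Type u) [Field k] [CommRing A] [Algebra k A] [CommRing B] [Algebra k B]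
    [Algebra A B] [IsScalarTower k A B] [Algebra.Smooth A B] (hA : CAlg.IsGeometricallyRegular k A) :
    CAlg.IsGeometricallyRegular k B := by
  intro k' _ _ hk'
  haveI := hA k' hk'
  haveI : IsRegularRing (A ⊗[k] k') := IsRegularRing.of_ringEquiv (Algebra.TensorProduct.comm k k' A).toRingEquiv
  haveI := isRegularRing_of_smooth (A ⊗[k] k') ((A ⊗[k] k') ⊗[A] B)
  let e : (A ⊗[k] k') ⊗[A] B ≃+* k' ⊗[k] B :=
    ((Algebra.TensorProduct.comm A (A ⊗[k] k') B).toRingEquiv.trans
      (Algebra.TensorProduct.cancelBaseChange k A B B k').toRingEquiv).trans (Algebra.TensorProduct.comm k B k').toRingEquiv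
  exact IsRegularRing.of_ringEquiv e

theorem isGeometricallyRegular_iff_isGeometricallyReduced (k K : Type u) [Field k] [Field K] [Algebra k K] :
    CAlg.IsGeometricallyRegular k K ↔ Algebra.IsGeometricallyReduced k K := by
  constructor
  · intro h
    rw [Algebra.isGeometricallyReduced_field_iff]
    haveI : IsReduced (K ⊗[k] AlgebraicClosure k) := IsReduced.tensorProduct_of_flat_of_forall_fg fun B hB => by
      haveI : Algebra.FiniteType k B := B.fg_iff_finiteType.mp hB
      haveI : Algebra.IsAlgebraic k B :=
        Algebra.IsAlgebraic.tower_bot_of_injective (A := AlgebraicClosure k) Subtype.val_injective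
      haveI : Module.Finite k B := Algebra.IsIntegral.finite
      haveI : IsArtinianRing B := IsArtinianRing.of_finite k B
      let L := B.toIntermediateField' (IsArtinianRing.isField_of_isDomain B)
      haveI : Module.Finite k L := ‹Module.Finite k B›
      haveI := h L inferInstance
      haveI := isReduced_of_isRegularRing (L ⊗[k] K)
      exact isReduced_of_injective _ (Algebra.TensorProduct.comm k K L).injective
    exact isReduced_of_injective _ (Algebra.TensorProduct.comm k (AlgebraicClosure k) K).injective
  · intro h k' _ _ _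
    haveI : Algebra.IsAlgebraic k k' := Algebra.IsAlgebraic.of_finite k k'
    haveI : IsReduced (k' ⊗[k] K) := inferInstance
    haveI : IsArtinianRing (K ⊗[k] k') := IsArtinianRing.of_finite K _
    haveI : IsReduced (K ⊗[k] k') := isReduced_of_injective _ (Algebra.TensorProduct.comm k K k').injective
    haveI := isRegularRing_of_isReduced_isArtinianRing (K ⊗[k] k')
    exact IsRegularRing.of_ringEquiv (Algebra.TensorProduct.comm k K k').toRingEquiv

theorem isRegularHom_field_iff (k S : Type u) [Field k] [CommRing S] [Algebra k S] :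
    CAlg.IsRegularHom k S ↔ CAlg.IsGeometricallyRegular k S :=
  ⟨fun h k' _ _ _ => isRegularRing_field_tensor h k',
    fun h => (isRegularHom_iff_fields k S).mpr ⟨inferInstance, fun K _ _ _ => isRegularRing_fg_ext k K S h⟩⟩

theorem isRegularRing_field_tensor_of_isNoetherian {R Λ : Type u} [CommRing R] [CommRing Λ] [Algebra R Λ]
    (h : CAlg.IsRegularHom R Λ) (K : Type u) [Field K] [Algebra R K] [IsNoetherianRing (K ⊗[R] Λ)] :
    IsRegularRing (K ⊗[R] Λ) := by
  let p := RingHom.ker (algebraMap R K)
  haveI : p.IsPrime := RingHom.ker_isPrime _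
  letI : Algebra p.ResidueField K :=
    (Ideal.ResidueField.lift p (algebraMap R K) le_rfl fun x hx => isUnit_iff_ne_zero.mpr hx).toAlgebra
  haveI : IsScalarTower R p.ResidueField K :=
    IsScalarTower.of_algebraMap_eq fun x => (Ideal.ResidueField.lift_algebraMap p _ _ _ x).symm
  haveI : IsNoetherianRing (K ⊗[p.ResidueField] (p.ResidueField ⊗[R] Λ)) :=
    isNoetherianRing_of_ringEquiv _ (Algebra.TensorProduct.cancelBaseChange R p.ResidueField K K Λ).toRingEquiv.symm
  haveI := isRegularRing_geomRegular_of_isNoetherian p.ResidueField K (p.Fiber Λ) (h.2 p).2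
  exact IsRegularRing.of_ringEquiv (Algebra.TensorProduct.cancelBaseChange R p.ResidueField K K Λ).toRingEquiv

theorem isRegularHom_baseChange_noetherian (A B A' : Type u) [CommRing A] [CommRing B] [CommRing A'] [Algebra A B]
    [Algebra A A'] (h : CAlg.IsRegularHom A B)
    (hN : ∀ (K : Type u) [Field K] [Algebra A' K] [Algebra A K] [IsScalarTower A A' K],
      Algebra.EssFiniteType A' K → IsNoetherianRing (K ⊗[A] B)) : CAlg.IsRegularHom A' (A' ⊗[A] B) := by
  haveI := h.1
  refine (isRegularHom_iff_fields _ _).mpr ⟨inferInstance, fun K _ _ hK => ?_⟩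
  letI : Algebra A K := ((algebraMap A' K).comp (algebraMap A A')).toAlgebra
  haveI : IsScalarTower A A' K := IsScalarTower.of_algebraMap_eq fun _ => rfl
  haveI := hN K hK
  haveI := isRegularRing_field_tensor_of_isNoetherian h K
  exact IsRegularRing.of_ringEquiv (Algebra.TensorProduct.cancelBaseChange A A' K K B).toRingEquiv.symm

theorem isRegularHom_of_baseChange_faithfullyFlat (A B A' : Type u) [CommRing A] [CommRing B] [CommRing A'] [Algebra A B]
    [Algebra A A'] [IsNoetherianRing B] [Module.FaithfullyFlat A A'] (h : CAlg.IsRegularHom A' (A' ⊗[A] B)) :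
    CAlg.IsRegularHom A B := by
  haveI := h.1
  refine ⟨Module.Flat.of_flat_tensorProduct A B A', fun p hp => ?_⟩
  haveI : IsNoetherianRing (p.ResidueField ⊗[A] B) :=
    haveI : IsNoetherianRing (B ⊗[A] p.ResidueField) := Algebra.EssFiniteType.isNoetherianRing B _
    isNoetherianRing_of_ringEquiv _ (Algebra.TensorProduct.comm A B p.ResidueField).toRingEquiv
  refine ⟨inferInstance, ?_⟩
  obtain ⟨⟨p', hp'⟩, hpp'⟩ := PrimeSpectrum.comap_surjective_of_faithfullyFlat (B := A') (⟨p, hp⟩ : PrimeSpectrum A)
  have hpe : p = p'.comap (algebraMap A A') := (congrArg PrimeSpectrum.asIdeal hpp').symm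
  haveI : p'.LiesOver p := ⟨hpe⟩
  letI : Algebra p.ResidueField p'.ResidueField := (Ideal.ResidueField.map p p' (algebraMap A A') hpe).toAlgebra
  haveI : IsScalarTower A p.ResidueField p'.ResidueField := IsScalarTower.of_algebraMap_eq fun x =>
    ((IsScalarTower.algebraMap_apply A A' p'.ResidueField x).trans (Ideal.ResidueField.map_algebraMap p p' _ hpe x).symm)
  refine isGeometricallyRegular_of_baseChange p.ResidueField p'.ResidueField (p.Fiber B) fun L _ _ hL => ?_
  haveI := (h.2 p').2 L hL
  exact IsRegularRing.of_ringEquiv (R := L ⊗[p'.ResidueField] p'.Fiber (A' ⊗[A] B)) (Algebra.TensorProduct.congr (AlgEquiv.refl (R := p'.ResidueField) (A₁ := L))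
    ((Algebra.TensorProduct.cancelBaseChange A A' p'.ResidueField p'.ResidueField B).trans
      (Algebra.TensorProduct.cancelBaseChange A p.ResidueField p'.ResidueField p'.ResidueField B).symm)).toRingEquiv

end Groth.Agent.CAlgH
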