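import Mathlib
import Groth.Prelude.Def_EGA4b
import Groth.Agent.AdicRing.Basic
import Groth.Agent.S9604
import Groth.Agent.HenselLib.Local
import Groth.Agent.Matlis6.CompletionNoetherian

/-! The completion of a local ring of a finite algebra. -/
universe u
open IsLocalRing TensorProduct

namespace Groth.Agent.CAlgH

/-- A complete ring with the same truncations is the completion. -/
theorem completion_equiv_of_quotients {R S : Type u} [CommRing R] [CommRing S] (I : Ideal R) (J : Ideal S) [IsAdicComplete J S]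
    (φ : R →+* S) (hker : ∀ j, (J ^ j).comap φ = I ^ j) (hsurj : ∀ j (y : S), ∃ r, y - φ r ∈ J ^ j) :
    ∃ e : AdicCompletion I R ≃+* S, ∀ r, e (algebraMap R _ r) = φ r := by
  let q : (j : ℕ) → R ⧸ I ^ j →+* S ⧸ J ^ j := fun j => Ideal.quotientMap (J ^ j) φ (hker j).ge
  have hq : ∀ j, Function.Bijective (q j) := fun j =>
    ⟨Ideal.quotientMap_injective' (hker j).le, fun y => by
      obtain ⟨y, rfl⟩ := Ideal.Quotient.mk_surjective y
      obtain ⟨r, hr⟩ := hsurj j y
      exact ⟨Ideal.Quotient.mk _ r, (Ideal.Quotient.eq.mpr hr).symm⟩⟩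
  let e := fun j => RingEquiv.ofBijective (q j) (hq j)
  let f : (j : ℕ) → AdicCompletion I R →+* S ⧸ J ^ j := fun j => (q j).comp (AdicCompletion.evalₐ I j).toRingHom
  have hfac : ∀ {i j : ℕ} (h : i ≤ j) (z : R ⧸ I ^ j),
      Ideal.Quotient.factorPow J h (q j z) = q i (Ideal.Quotient.factorPow I h z) := fun h z => by
    obtain ⟨z, rfl⟩ := Ideal.Quotient.mk_surjective z
    simp [q]
  have hf : ∀ {i j : ℕ} (h : i ≤ j), (Ideal.Quotient.factorPow J h).comp (f j) = f i := fun {i j} h => RingHom.ext fun x => by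
    show Ideal.Quotient.factorPow J h (q j (AdicCompletion.evalₐ I j x)) = q i (AdicCompletion.evalₐ I i x)
    rw [hfac]
    congr 1
    induction x using AdicCompletion.induction_on with
    | _ g =>
      rw [AdicCompletion.evalₐ_mk, AdicCompletion.evalₐ_mk]
      have := AdicCompletion.Ideal.mk_eq_mk I h g
      simpa using this
  let F := IsAdicComplete.liftRingHom J f hf
  let g : (j : ℕ) → S →+* R ⧸ I ^ j := fun j => (e j).symm.toRingHom.comp (Ideal.Quotient.mk _)
  have hg : ∀ {i j : ℕ} (h : i ≤ j), (Ideal.Quotient.factorPow I h).comp (g j) = g i := fun {i j} h => RingHom.ext fun y => by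
    apply (hq i).1
    show q i (Ideal.Quotient.factorPow I h ((e j).symm (Ideal.Quotient.mk _ y))) = e i ((e i).symm (Ideal.Quotient.mk _ y))
    rw [RingEquiv.apply_symm_apply, ← hfac, show q j ((e j).symm (Ideal.Quotient.mk _ y)) = Ideal.Quotient.mk _ y from
      (e j).apply_symm_apply _]
    simp
  let G := AdicCompletion.liftRingHom I g hg
  have hFmk : ∀ j x, Ideal.Quotient.mk (J ^ j) (F x) = q j (AdicCompletion.evalₐ I j x) := fun j x =>
    IsAdicComplete.mk_liftRingHom J f hf j x
  have hFG : ∀ y, F (G y) = y := fun y => by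
    rw [← sub_eq_zero]
    refine IsHausdorff.haus (inferInstance : IsHausdorff J S) _ fun j => ?_
    rw [SModEq.zero, smul_eq_mul, Ideal.mul_top, ← Ideal.Quotient.eq, hFmk, AdicCompletion.evalₐ_liftRingHom]
    exact (e j).apply_symm_apply _
  have hinj : Function.Injective F := fun x y hxy => AdicCompletion.ext_evalₐ fun j => (hq j).1 (by rw [← hFmk, ← hFmk, hxy])
  refine ⟨RingEquiv.ofBijective F ⟨hinj, fun y => ⟨G y, hFG y⟩⟩, fun r => ?_⟩
  show F _ = φ r
  rw [← sub_eq_zero]
  refine IsHausdorff.haus (inferInstance : IsHausdorff J S) _ fun j => ?_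
  rw [SModEq.zero, smul_eq_mul, Ideal.mul_top, ← Ideal.Quotient.eq, hFmk, AlgHom.commutes]
  simp [q]

theorem isAdicComplete_maximal_of_finite (R L : Type u) [CommRing R] [IsLocalRing R] [IsNoetherianRing R]
    [IsAdicComplete (maximalIdeal R) R] [CommRing L] [IsLocalRing L] [Algebra R L] [Module.Finite R L] :
    IsAdicComplete (maximalIdeal L) L := by
  have h1 : IsAdicComplete (maximalIdeal R) L := AdicRing.isAdicComplete_of_finite _ L
  let J := (maximalIdeal R).map (algebraMap R L)
  have h2 : IsAdicComplete J L := (IsAdicComplete.map_algebraMap_iff _ _).mpr h1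
  have hJ : J ≤ maximalIdeal L := by
    refine IsLocalRing.le_maximalIdeal fun htop => ?_
    refine one_ne_zero (h2.toIsHausdorff.haus (1 : L) fun j => ?_)
    rw [SModEq.zero, htop, Ideal.top_pow]
    simp
  haveI : Nontrivial (L ⧸ J) :=
    Ideal.Quotient.nontrivial_iff.mpr fun h => (maximalIdeal.isMaximal L).ne_top (top_le_iff.mp (h ▸ hJ))
  haveI : Module.Finite (R ⧸ maximalIdeal R) (L ⧸ J) := Module.Finite.of_restrictScalars_finite R _ _
  haveI : IsArtinianRing (L ⧸ J) :=
    letI := Ideal.Quotient.field (maximalIdeal R)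
    IsArtinianRing.of_finite (R ⧸ maximalIdeal R) _
  haveI : IsLocalRing (L ⧸ J) := .of_surjective' _ Ideal.Quotient.mk_surjective
  obtain ⟨d, hd⟩ := IsArtinianRing.isNilpotent_jacobson_bot (R := L ⧸ J)
  rw [IsLocalRing.jacobson_eq_maximalIdeal _ bot_ne_top] at hd
  have hd' : maximalIdeal L ^ (d + 1) ≤ J := by
    refine le_trans (Ideal.pow_le_pow_right d.le_succ) ?_
    rw [← Ideal.mk_ker (I := J), RingHom.ker_eq_comap_bot, ← Ideal.map_le_iff_le_comap, Ideal.map_pow,
      IsLocalRing.map_maximalIdeal_of_surjective _ Ideal.Quotient.mk_surjective, hd]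
    exact le_rfl
  exact (S9604.result J (maximalIdeal L) 1 (d + 1) one_pos d.succ_pos (by rw [pow_one]; exact hJ) hd' L).mp h2

theorem exists_sub_mem_pow {R S : Type u} [CommRing R] [CommRing S] [IsLocalRing R] [IsLocalRing S] (φ : R →+* S)
    (hmap : (maximalIdeal R).map φ = maximalIdeal S) (hres : ∀ y : S, ∃ r, y - φ r ∈ maximalIdeal S) :
    ∀ j (y : S), ∃ r, y - φ r ∈ maximalIdeal S ^ j := by
  intro j
  induction j with
  | zero => exact fun y => ⟨0, by simp⟩
  | succ j ih =>
    intro y
    obtain ⟨r, hr⟩ := ih y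
    have hspan : maximalIdeal S ^ j = Submodule.span S (φ '' ((maximalIdeal R ^ j : Ideal R) : Set R)) := by
      rw [← hmap, ← Ideal.map_pow]; rfl
    suffices ∀ z ∈ Submodule.span S (φ '' ((maximalIdeal R ^ j : Ideal R) : Set R)), ∃ s, z - φ s ∈ maximalIdeal S ^ (j + 1) by
      obtain ⟨s, hs⟩ := this _ (hspan ▸ hr)
      exact ⟨r + s, by rw [map_add, ← sub_sub]; exact hs⟩
    intro z hz
    induction hz using Submodule.span_induction with
    | zero => exact ⟨0, by simp⟩
    | add a b _ _ ha hb =>
      obtain ⟨s, hs⟩ := ha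
      obtain ⟨t, ht⟩ := hb
      exact ⟨s + t, by simpa [add_sub_add_comm] using add_mem hs ht⟩
    | mem z hz =>
      obtain ⟨s, -, rfl⟩ := hz
      exact ⟨s, by simp⟩
    | smul c z hz ha =>
      obtain ⟨s, hs⟩ := ha
      obtain ⟨w, hw⟩ := hres c
      refine ⟨w * s, ?_⟩
      have h2 := Ideal.mul_mem_mul hw (hspan ▸ hz : z ∈ maximalIdeal S ^ j)
      rw [← pow_succ'] at h2
      have h3 := add_mem h2 (Ideal.mul_mem_left _ (φ w) hs)
      rw [smul_eq_mul, map_mul]
      convert h3 using 1; ring

theorem comap_pow_eq_of_flat {R S : Type u} [CommRing R] [CommRing S] [IsLocalRing R] [IsLocalRing S] (φ : R →+* S)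
    [IsLocalHom φ] (hflat : φ.Flat) (hmap : (maximalIdeal R).map φ = maximalIdeal S) :
    ∀ j, (maximalIdeal S ^ j).comap φ = maximalIdeal R ^ j := by
  letI := φ.toAlgebra
  haveI : IsLocalHom (algebraMap R S) := ‹IsLocalHom φ›
  haveI : Module.Flat R S := hflat
  haveI : Module.FaithfullyFlat R S := Module.FaithfullyFlat.of_flat_of_isLocalHom
  intro j
  rw [← hmap, ← Ideal.map_pow]
  exact Ideal.comap_map_eq_self_of_faithfullyFlat (A := R) (B := S) _

/-- The completion at a maximal ideal, seen inside a finite algebra over a complete local ring. -/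
theorem completion_localization_core (R B C : Type u) [CommRing R] [IsLocalRing R] [IsNoetherianRing R]
    [IsAdicComplete (maximalIdeal R) R] [CommRing B] [CommRing C] [Algebra R C] [Module.Finite R C]
    (ι : B →+* C) (hflat : ι.Flat) (n : Ideal B) [n.IsPrime] (N : Ideal C) [hN : N.IsMaximal]
    (hNn : N.comap ι = n) (hNeq : n.map ι = N) (hres : ∀ x : C, ∃ b, x - ι b ∈ N) :
    ∃ e : EGA4.Cpl (Localization.AtPrime n) ≃+* Localization.AtPrime N,
      ∀ b : B, e (algebraMap (Localization.AtPrime n) _ (algebraMap B (Localization.AtPrime n) b)) =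
        algebraMap C (Localization.AtPrime N) (ι b) := by
  haveI : HenselianLocalRing R := HenselLib.henselianLocalRing_of_henselianRing R
  have hpi := (HenselLib.isPiLocal_iff_bijective R C).mp (HenselLib.isPiLocal_of_henselian R C)
  have hsurjN : Function.Surjective (algebraMap C (Localization.AtPrime N)) := fun y => by
    classical
    obtain ⟨x, hx⟩ := hpi.2 (Pi.single (⟨N, hN⟩ : MaximalSpectrum C) y)
    exact ⟨x, by simpa using congrFun hx ⟨N, hN⟩⟩
  haveI : Module.Finite R (Localization.AtPrime N) :=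
    Module.Finite.of_surjective (IsScalarTower.toAlgHom R C (Localization.AtPrime N)).toLinearMap hsurjN
  haveI := isAdicComplete_maximal_of_finite R (Localization.AtPrime N)
  let φ := Localization.localRingHom n N ι hNn.symm
  haveI : IsLocalHom φ := Localization.isLocalHom_localRingHom n N ι hNn.symm
  have hφb : ∀ b, φ (algebraMap B (Localization.AtPrime n) b) = algebraMap C (Localization.AtPrime N) (ι b) :=
    fun b => Localization.localRingHom_to_map n N ι hNn.symm b
  have hmap : (maximalIdeal (Localization.AtPrime n)).map φ = maximalIdeal (Localization.AtPrime N) := by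
    rw [← Localization.AtPrime.map_eq_maximalIdeal, ← Localization.AtPrime.map_eq_maximalIdeal, Ideal.map_map]
    refine (congrArg (fun f => Ideal.map f n) (RingHom.ext hφb : φ.comp (algebraMap B _) = (algebraMap C _).comp ι)).trans ?_
    show n.map ((algebraMap C (Localization.AtPrime N)).comp ι) = _
    rw [← Ideal.map_map]
    exact congrArg _ hNeq
  have hker := comap_pow_eq_of_flat φ (RingHom.Flat.localRingHom hflat N n hNn.symm) hmap
  have hres' : ∀ y, ∃ r, y - φ r ∈ maximalIdeal (Localization.AtPrime N) := fun y => by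
    obtain ⟨x, rfl⟩ := hsurjN y
    obtain ⟨b, hb⟩ := hres x
    refine ⟨algebraMap B _ b, ?_⟩
    rw [hφb, ← map_sub, ← Localization.AtPrime.map_eq_maximalIdeal]
    exact Ideal.mem_map_of_mem _ hb
  obtain ⟨e, he⟩ := completion_equiv_of_quotients (maximalIdeal (Localization.AtPrime n))
    (maximalIdeal (Localization.AtPrime N)) φ hker (exists_sub_mem_pow φ hmap hres')
  exact ⟨e, fun b => (he _).trans (hφb b)⟩

/-- For `B` finite over the Noetherian local ring `A`, the completion of `B_n` is the localisation of `Â ⊗ B`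
at the unique prime over `n`. -/
theorem completion_localization_finite (A B : Type u) [CommRing A] [IsLocalRing A] [IsNoetherianRing A] [CommRing B]
    [Algebra A B] [Module.Finite A B] (n : Ideal B) [n.IsMaximal] :
    ∃ (N : Ideal (EGA4.Cpl A ⊗[A] B)) (_ : N.IsMaximal)
      (e : Localization.AtPrime N ≃+* EGA4.Cpl (Localization.AtPrime n)),
      N.comap (Algebra.TensorProduct.includeRight (R := A) (A := EGA4.Cpl A) : B →ₐ[A] EGA4.Cpl A ⊗[A] B) = n ∧
      ∀ b : B, e (algebraMap _ (Localization.AtPrime N) ((1 : EGA4.Cpl A) ⊗ₜ[A] b)) =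
        algebraMap (Localization.AtPrime n) _ (algebraMap B (Localization.AtPrime n) b) := by
  classical
  let m := maximalIdeal A
  let Ah := EGA4.Cpl A
  let C := Ah ⊗[A] B
  haveI : IsNoetherianRing B := Algebra.FiniteType.isNoetherianRing A B
  haveI : IsNoetherianRing Ah := Groth.Agent.Matlis6.isNoetherianRing_adicCompletion m
  haveI : IsNoetherianRing C := Algebra.FiniteType.isNoetherianRing Ah C
  let iR : B →ₐ[A] C := Algebra.TensorProduct.includeRight
  have hmn : m ≤ n.comap (algebraMap A B) := by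
    haveI := Ideal.isMaximal_comap_of_isIntegral_of_isMaximal (R := A) n
    exact (IsLocalRing.eq_maximalIdeal inferInstance).ge
  -- `C = B + m C`
  have hBm : ∀ x : C, ∃ b : B, x - iR b ∈ m.map (algebraMap A C) := by
    intro x
    induction x using TensorProduct.induction_on with
    | zero => exact ⟨0, by simp⟩
    | add a b ha hb =>
      obtain ⟨a', ha⟩ := ha
      obtain ⟨b', hb⟩ := hb
      exact ⟨a' + b', by simpa [add_sub_add_comm] using add_mem ha hb⟩
    | tmul t b =>
      obtain ⟨a, ha⟩ := Ideal.Quotient.mk_surjective (AdicCompletion.evalOneₐ m t)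
      refine ⟨a • b, ?_⟩
      have h1 : t - algebraMap A Ah a ∈ m.map (algebraMap A Ah) := by
        rw [← AdicCompletion.ker_evalOneₐ_eq_map _ (IsNoetherian.noetherian _), RingHom.mem_ker, map_sub, sub_eq_zero]
        exact ha.symm.trans (AlgHom.commutes _ a).symm
      have h2 : t ⊗ₜ[A] b - iR (a • b) = (Algebra.TensorProduct.includeLeft (S := A) : Ah →ₐ[A] C) (t - algebraMap A Ah a) * iR b := by
        show t ⊗ₜ[A] b - (1 : Ah) ⊗ₜ[A] (a • b) = (t - algebraMap A Ah a) ⊗ₜ[A] (1 : B) * ((1 : Ah) ⊗ₜ[A] b)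
        rw [Algebra.TensorProduct.tmul_mul_tmul, mul_one, one_mul, sub_tmul, Algebra.algebraMap_eq_smul_one, smul_tmul]
      rw [h2]
      refine Ideal.mul_mem_right _ _ ?_
      have h3 := Ideal.mem_map_of_mem (Algebra.TensorProduct.includeLeft (S := A) : Ah →ₐ[A] C).toRingHom h1
      rwa [Ideal.map_map, show (Algebra.TensorProduct.includeLeft (S := A) : Ah →ₐ[A] C).toRingHom.comp (algebraMap A Ah) =
        algebraMap A C from (Algebra.TensorProduct.includeLeft (S := A) : Ah →ₐ[A] C).comp_algebraMap] at h3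
  -- the prime over `n`
  letI := Ideal.Quotient.field n
  let ev : Ah →ₐ[A] B ⧸ n :=
    (Ideal.Quotient.liftₐ m (Algebra.ofId A (B ⧸ n)) fun a ha => Ideal.Quotient.eq_zero_iff_mem.mpr (hmn ha)).comp
      (AdicCompletion.evalOneₐ m)
  let π0 : C →ₐ[A] B ⧸ n := Algebra.TensorProduct.lift ev (Ideal.Quotient.mkₐ A n) fun _ _ => Commute.all _ _
  have hπ0 : ∀ b, π0 (iR b) = Ideal.Quotient.mk n b := fun b => by
    show π0 ((1 : Ah) ⊗ₜ[A] b) = _
    rw [Algebra.TensorProduct.lift_tmul, map_one, one_mul]
    rfl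
  have hπ0s : Function.Surjective π0 := fun y => by
    obtain ⟨b, rfl⟩ := Ideal.Quotient.mk_surjective y
    exact ⟨iR b, hπ0 b⟩
  let N := RingHom.ker π0.toRingHom
  haveI hNmax : N.IsMaximal := RingHom.ker_isMaximal_of_surjective π0.toRingHom hπ0s
  have hNn : N.comap iR = n := by
    ext b
    rw [Ideal.mem_comap, RingHom.mem_ker]
    exact (hπ0 b).symm ▸ Ideal.Quotient.eq_zero_iff_mem
  have hmC : m.map (algebraMap A C) ≤ n.map iR := by
    rw [← AlgHom.comp_algebraMap iR, ← Ideal.map_map]
    exact Ideal.map_mono (Ideal.map_le_iff_le_comap.mpr hmn)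
  have hNeq : n.map iR = N := by
    refine le_antisymm (Ideal.map_le_iff_le_comap.mpr hNn.ge) fun x hx => ?_
    obtain ⟨b, hb⟩ := hBm x
    have hxb := hmC hb
    have : iR b ∈ N := by
      have h := N.sub_mem hx ((Ideal.map_le_iff_le_comap.mpr hNn.ge) hxb)
      simpa using h
    have hb' : b ∈ n := by rw [← hNn]; exact this
    have h := add_mem hxb (Ideal.mem_map_of_mem iR hb')
    rwa [sub_add_cancel] at h
  have hflat : RingHom.Flat iR.toRingHom :=
    RingHom.Flat.comp (f := algebraMap B (B ⊗[A] Ah)) (g := (Algebra.TensorProduct.comm A B Ah).toAlgHom.toRingHom)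
      (RingHom.flat_algebraMap_iff.mpr inferInstance) (RingHom.Flat.of_bijective (Algebra.TensorProduct.comm A B Ah).bijective)
  obtain ⟨e, he⟩ := completion_localization_core Ah B C iR.toRingHom hflat n N hNn hNeq fun x => by
    obtain ⟨b, hb⟩ := hBm x
    exact ⟨b, hNeq ▸ hmC hb⟩
  exact ⟨N, hNmax, e.symm, hNn, fun b => e.injective (by rw [RingEquiv.apply_symm_apply, he]; rfl)⟩

end Groth.Agent.CAlgH
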