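import Groth.Prelude.Def_Found

/-! Catenarity transfers along convex order embeddings of spectra. -/
universe u

namespace Groth.Agent.CAlgH

open CAlg

theorem isCatenary_of_embedding {A B : Type u} [CommRing A] [CommRing B]
    (e : PrimeSpectrum B ↪o PrimeSpectrum A)
    (hconv : ∀ a b x, e a ≤ x → x ≤ e b → x ∈ Set.range e) (hA : CAlg.IsCatenary A) : CAlg.IsCatenary B := by
  refine ⟨fun p q hpq => ?_, fun s t hh hl hs ht => ?_⟩
  · obtain ⟨n, hn⟩ := hA.1 (e p) (e q) (e.monotone hpq)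
    exact ⟨n, fun s h1 h2 => hn (s.map e e.strictMono) (by simp [← h1]) (by simp [← h2])⟩
  have hcov : ∀ a b, a ⋖ b → e a ⋖ e b := fun a b hab => by
    refine ⟨e.strictMono hab.1, fun x h1 h2 => ?_⟩
    obtain ⟨y, rfl⟩ := hconv a b x h1.le h2.le
    exact hab.2 (e.lt_iff_lt.mp h1) (e.lt_iff_lt.mp h2)
  exact hA.2 (s.map e e.strictMono) (t.map e e.strictMono) (congrArg e hh) (congrArg e hl)
    (fun i => hcov _ _ (hs i)) (fun i => hcov _ _ (ht i))


end Groth.Agent.CAlgH
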