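import Groth.Prelude.Def_Found
import Mathlib.RingTheory.Localization.Integral
import Mathlib.RingTheory.Localization.LocalizationLocalization
import Mathlib.RingTheory.Localization.Finiteness
import Mathlib.RingTheory.IntegralClosure.IntegrallyClosed

/-! N-1 / N-2: independence of the fraction field, localisation, gluing. -/
universe u

namespace Groth.Agent.CAlgH

open CAlg nonZeroDivisors

theorem fin_ic_of_algEquiv {R : Type u} [CommRing R] {K K' : Type u} [CommRing K] [CommRing K'] [Algebra R K]
    [Algebra R K'] (e : K ≃ₐ[R] K') (h : Module.Finite R (integralClosure R K)) :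
    Module.Finite R (integralClosure R K') :=
  Module.Finite.equiv e.mapIntegralClosure.toLinearEquiv

theorem isN1_iff_finite {R : Type u} [CommRing R] [IsDomain R] (K : Type u) [Field K] [Algebra R K]
    [IsFractionRing R K] : IsN1 R ↔ Module.Finite R (integralClosure R K) :=
  ⟨fin_ic_of_algEquiv (FractionRing.algEquiv R K), fin_ic_of_algEquiv (FractionRing.algEquiv R K).symm⟩

theorem isN2_apply {R : Type u} [CommRing R] [IsDomain R] (h : IsN2 R) (K : Type u) [Field K] [Algebra R K]
    [IsFractionRing R K] (L : Type u) [Field L] [Algebra K L] [Algebra R L] [IsScalarTower R K L]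
    [FiniteDimensional K L] : Module.Finite R (integralClosure R L) := by
  let e := FractionRing.algEquiv R K
  letI : Algebra (FractionRing R) L := ((algebraMap K L).comp e.toAlgHom.toRingHom).toAlgebra
  have : IsScalarTower R (FractionRing R) L := IsScalarTower.of_algebraMap_eq fun x => by
    show _ = algebraMap K L (e (algebraMap R (FractionRing R) x))
    rw [AlgEquiv.commutes, ← IsScalarTower.algebraMap_apply]
  refine h L (Module.Finite.of_equiv_equiv e.toRingEquiv.symm (RingEquiv.refl L) ?_)
  ext x
  show algebraMap K L (e (e.symm x)) = algebraMap K L x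
  rw [e.apply_symm_apply]

theorem fin_ic_localization {R S L : Type u} [CommRing R] [CommRing S] [CommRing L] [Algebra R S]
    [Algebra R L] [Algebra S L] [IsScalarTower R S L] (M : Submonoid R) [IsLocalization M S]
    (h : Module.Finite R (integralClosure R L)) : Module.Finite S (integralClosure S L) := by
  obtain ⟨g, hg⟩ := (Submodule.fg_top (Subalgebra.toSubmodule (integralClosure R L))).mp h.fg_top
  refine Module.Finite.iff_fg.mpr (?_ : (Subalgebra.toSubmodule (integralClosure S L)).FG)
  refine ⟨g, le_antisymm (Submodule.span_le.mpr fun x hx => ?_) fun x hx => ?_⟩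
  · have : x ∈ integralClosure R L := hg.le (Submodule.subset_span hx)
    exact IsIntegral.tower_top (this : IsIntegral R x)
  · obtain ⟨m, hm⟩ := IsIntegral.exists_multiple_integral_of_isLocalization M x (hx : IsIntegral S x)
    have h1 : (m : R) • x ∈ Submodule.span R (g : Set L) := by rw [hg]; exact hm
    have h2 : (m : R) • x ∈ (Submodule.span S (g : Set L)).restrictScalars R :=
      Submodule.span_le_restrictScalars R S _ h1
    obtain ⟨v, hv⟩ := IsLocalization.map_units S m
    have h3 : algebraMap R S m • x ∈ Submodule.span S (g : Set L) := by rwa [algebraMap_smul]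
    rw [← hv] at h3
    simpa using Submodule.smul_mem _ (↑v⁻¹ : S) h3

theorem fin_ic_of_cover {R L : Type u} [CommRing R] [CommRing L] [Algebra R L] {ι : Type u} [Finite ι]
    (f : ι → R) (hf : Ideal.span (Set.range f) = ⊤)
    (Rf : ι → Type u) [∀ i, CommRing (Rf i)] [∀ i, Algebra R (Rf i)] [∀ i, IsLocalization.Away (f i) (Rf i)]
    [∀ i, Algebra (Rf i) L] [∀ i, IsScalarTower R (Rf i) L]
    (h : ∀ i, Module.Finite (Rf i) (integralClosure (Rf i) L)) :
    Module.Finite R (integralClosure R L) := by
  classical
  cases nonempty_fintype ι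
  choose g hg using fun i => (Submodule.fg_top (Subalgebra.toSubmodule (integralClosure (Rf i) L))).mp (h i).fg_top
  choose m hm using fun i => fun z : g i => IsIntegral.exists_multiple_integral_of_isLocalization
    (Submonoid.powers (f i)) (z : L) ((hg i).le (Submodule.subset_span z.2) : IsIntegral (Rf i) (z : L))
  let G : Finset L := Finset.univ.biUnion fun i => Finset.univ.image fun z : g i => ((m i z : R)) • (z : L)
  refine Module.Finite.iff_fg.mpr (?_ : (Subalgebra.toSubmodule (integralClosure R L)).FG)
  refine ⟨G, le_antisymm (Submodule.span_le.mpr fun x hx => ?_) fun x hx => ?_⟩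
  · simp only [G, Finset.coe_biUnion, Set.mem_iUnion, Finset.coe_image, Set.mem_image] at hx
    obtain ⟨i, -, z, -, rfl⟩ := hx
    exact hm i z
  · let T := Submodule.span R (G : Set L)
    refine Submodule.mem_of_span_eq_top_of_smul_pow_mem T (Set.range f) hf x ?_
    rintro ⟨_, i, rfl⟩
    have h1 : x ∈ Submodule.span (Rf i) (g i : Set L) := by
      rw [hg i]; exact IsIntegral.tower_top (hx : IsIntegral R x)
    suffices ∀ y ∈ Submodule.span (Rf i) (g i : Set L), ∃ n : ℕ, f i ^ n • y ∈ T from this x h1
    intro y hy
    induction hy using Submodule.span_induction with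
    | mem z hz =>
      obtain ⟨n, hn⟩ := (m i ⟨z, hz⟩).2
      refine ⟨n, ?_⟩
      have : (m i ⟨z, hz⟩ : R) • z ∈ T := Submodule.subset_span
        (Finset.mem_biUnion.mpr ⟨i, Finset.mem_univ _, Finset.mem_image.mpr ⟨⟨z, hz⟩, Finset.mem_univ _, rfl⟩⟩)
      rwa [← show f i ^ n = _ from hn] at this
    | zero => exact ⟨0, by simp⟩
    | add a b _ _ ha hb =>
      obtain ⟨n, hn⟩ := ha; obtain ⟨k, hk⟩ := hb
      refine ⟨n + k, ?_⟩
      rw [smul_add]
      refine T.add_mem ?_ ?_
      · rw [add_comm n k, pow_add, mul_smul]; exact T.smul_mem _ hn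
      · rw [pow_add, mul_smul]; exact T.smul_mem _ hk
    | smul c a _ ha =>
      obtain ⟨n, hn⟩ := ha
      obtain ⟨⟨r, ⟨_, k, rfl⟩⟩, hr⟩ := IsLocalization.surj (Submonoid.powers (f i)) c
      refine ⟨k + n, ?_⟩
      have : f i ^ (k + n) • c • a = r • (f i ^ n • a) := by
        rw [← algebraMap_smul (Rf i) (f i ^ (k + n)), ← algebraMap_smul (Rf i) r, ← algebraMap_smul (Rf i) (f i ^ n),
          smul_smul, smul_smul, ← hr, pow_add, map_mul]
        congr 1; ring
      rw [this]; exact T.smul_mem _ hn

theorem isN2_of {R : Type u} [CommRing R] [IsDomain R] (K : Type u) [Field K] [Algebra R K]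
    [IsFractionRing R K]
    (h : ∀ (L : Type u) [Field L] [Algebra R L] [Algebra K L] [IsScalarTower R K L] [FiniteDimensional K L],
      Module.Finite R (integralClosure R L)) : IsN2 R := by
  intro L _ _ _ _ hfin
  let e := FractionRing.algEquiv R K
  letI : Algebra K L := ((algebraMap (FractionRing R) L).comp e.symm.toAlgHom.toRingHom).toAlgebra
  have : IsScalarTower R K L := IsScalarTower.of_algebraMap_eq fun x => by
    show _ = algebraMap (FractionRing R) L (e.symm (algebraMap R K x))
    rw [AlgEquiv.commutes, ← IsScalarTower.algebraMap_apply]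
  have : FiniteDimensional K L := by
    refine Module.Finite.of_equiv_equiv e.toRingEquiv (RingEquiv.refl L) ?_
    ext x
    show algebraMap (FractionRing R) L (e.symm (e x)) = algebraMap (FractionRing R) L x
    rw [e.symm_apply_apply]
  exact h L

theorem exists_alg_localization {R : Type u} [CommRing R] [IsDomain R] (M : Submonoid R) (S : Type u)
    [CommRing S] [Nontrivial S] [Algebra R S] [IsLocalization M S] (K : Type u) [Field K] [Algebra R K]
    [IsFractionRing R K] : ∃ (_ : Algebra S K), IsScalarTower R S K ∧ IsFractionRing S K := by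
  have hu : ∀ m : M, IsUnit (algebraMap R K m) := fun m =>
    IsUnit.mk0 _ ((map_ne_zero_iff _ (IsFractionRing.injective R K)).mpr fun h0 => by
      have := IsLocalization.map_units S m
      simp [h0] at this)
  letI : Algebra S K := (IsLocalization.lift (M := M) (S := S) hu).toAlgebra
  have : IsScalarTower R S K := IsScalarTower.of_algebraMap_eq fun x => (IsLocalization.lift_eq hu x).symm
  exact ⟨inferInstance, this, IsFractionRing.isFractionRing_of_isDomain_of_isLocalization M S K⟩

theorem isN1_localization {R : Type u} [CommRing R] [IsDomain R] (M : Submonoid R) {S : Type u}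
    [CommRing S] [IsDomain S] [Algebra R S] [IsLocalization M S] (h : CAlg.IsN1 R) : CAlg.IsN1 S := by
  obtain ⟨_, _, _⟩ := exists_alg_localization M S (FractionRing R)
  exact (isN1_iff_finite (FractionRing R)).mpr (fin_ic_localization M h)

theorem isN2_localization {R : Type u} [CommRing R] [IsDomain R] (M : Submonoid R) {S : Type u}
    [CommRing S] [IsDomain S] [Algebra R S] [IsLocalization M S] (h : CAlg.IsN2 R) : CAlg.IsN2 S := by
  obtain ⟨_, _, _⟩ := exists_alg_localization M S (FractionRing R)
  refine isN2_of (FractionRing R) fun L _ _ _ _ _ => ?_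
  letI : Algebra R L := ((algebraMap S L).comp (algebraMap R S)).toAlgebra
  have : IsScalarTower R S L := IsScalarTower.of_algebraMap_eq fun x => rfl
  have : IsScalarTower R (FractionRing R) L := IsScalarTower.of_algebraMap_eq fun x => by
    show algebraMap S L (algebraMap R S x) = _
    rw [IsScalarTower.algebraMap_apply S (FractionRing R) L, ← IsScalarTower.algebraMap_apply R S]
  exact fin_ic_localization M (h L inferInstance)

theorem isN1_of_cover (R : Type u) [CommRing R] [IsDomain R]
    {ι : Type u} [Finite ι] (f : ι → R) (hf : Ideal.span (Set.range f) = ⊤)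
    (Rf : ι → Type u) [∀ i, CommRing (Rf i)] [∀ i, IsDomain (Rf i)] [∀ i, Algebra R (Rf i)]
    [∀ i, IsLocalization.Away (f i) (Rf i)] (h : ∀ i, CAlg.IsN1 (Rf i)) : CAlg.IsN1 R := by
  choose a ht hfr using fun i => exists_alg_localization (Submonoid.powers (f i)) (Rf i) (FractionRing R)
  letI := a
  exact fin_ic_of_cover f hf Rf fun i => (isN1_iff_finite (FractionRing R)).mp (h i)

theorem isN2_of_cover (R : Type u) [CommRing R] [IsDomain R]
    {ι : Type u} [Finite ι] (f : ι → R) (hf : Ideal.span (Set.range f) = ⊤)
    (Rf : ι → Type u) [∀ i, CommRing (Rf i)] [∀ i, IsDomain (Rf i)] [∀ i, Algebra R (Rf i)]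
    [∀ i, IsLocalization.Away (f i) (Rf i)] (h : ∀ i, CAlg.IsN2 (Rf i)) : CAlg.IsN2 R := by
  refine isN2_of (FractionRing R) fun L _ _ _ _ _ => ?_
  choose a ht hfr using fun i => exists_alg_localization (Submonoid.powers (f i)) (Rf i) (FractionRing R)
  letI := a
  letI : ∀ i, Algebra (Rf i) L := fun i =>
    ((algebraMap (FractionRing R) L).comp (algebraMap (Rf i) (FractionRing R))).toAlgebra
  have hT : ∀ i, IsScalarTower (Rf i) (FractionRing R) L := fun i => IsScalarTower.of_algebraMap_eq fun x => rfl
  have : ∀ i, IsScalarTower R (Rf i) L := fun i => IsScalarTower.of_algebraMap_eq fun x => by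
    show _ = algebraMap (FractionRing R) L (algebraMap (Rf i) (FractionRing R) (algebraMap R (Rf i) x))
    rw [← IsScalarTower.algebraMap_apply R (Rf i), ← IsScalarTower.algebraMap_apply]
  exact fin_ic_of_cover f hf Rf fun i => isN2_apply (h i) (FractionRing R) L


end Groth.Agent.CAlgH
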