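import Mathlib
import Groth.Prelude.Def_Found
import Groth.Agent.AdicRing.Basic
import Groth.Agent.CAlgH.Nagata

universe u
open CAlg

namespace Groth.Agent.CAlgH

theorem fin_ic_of_tower {R L L' : Type u} [CommRing R] [IsNoetherianRing R] [CommRing L] [CommRing L'] [Algebra R L]
    [Algebra R L'] (g : L →ₐ[R] L') (hg : Function.Injective g) (h : Module.Finite R (integralClosure R L')) :
    Module.Finite R (integralClosure R L) := by
  let ι : integralClosure R L →ₗ[R] integralClosure R L' :=
    { toFun := fun a => ⟨g a.1, IsIntegral.map g a.2⟩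
      map_add' := fun a b => Subtype.ext (map_add g a.1 b.1)
      map_smul' := fun r a => Subtype.ext (map_smul g r a.1) }
  exact Module.Finite.of_injective ι fun a b hab => Subtype.ext (hg (congrArg Subtype.val hab))

theorem finite_ic_of_separable_top {R K K' L : Type u} [CommRing R] [IsDomain R] [IsNoetherianRing R]
    [Field K] [Algebra R K] [IsFractionRing R K] [Field K'] [Algebra K K'] [FiniteDimensional K K']
    [Algebra R K'] [IsScalarTower R K K'] [Field L] [Algebra K' L] [FiniteDimensional K' L]
    [Algebra.IsSeparable K' L] [Algebra R L] [IsScalarTower R K' L]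
    (h : Module.Finite R (integralClosure R K')) : Module.Finite R (integralClosure R L) := by
  let C := integralClosure R K'
  have : IsFractionRing C K' := IsIntegralClosure.isFractionRing_of_finite_extension R K K' C
  have : IsIntegrallyClosed C := integralClosure.isIntegrallyClosedOfFiniteExtension K
  haveI : Module.Finite R C := h
  have : IsNoetherianRing C := IsNoetherianRing.of_finite R C
  have hC : Module.Finite C (integralClosure C L) := IsIntegralClosure.finite C K' L (integralClosure C L)
  have : Module.Finite R (integralClosure C L) := Module.Finite.trans C _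
  let ι : integralClosure R L →ₗ[R] integralClosure C L :=
    { toFun := fun a => ⟨a.1, IsIntegral.tower_top (a.2 : IsIntegral R a.1)⟩
      map_add' := fun a b => rfl
      map_smul' := fun r a => Subtype.ext (by simp) }
  exact Module.Finite.of_injective ι fun a b hab => Subtype.ext (congrArg (fun z : integralClosure C L => (z : L)) hab)

theorem exists_fixed_purelyInseparable (K L : Type u) [Field K] [Field L] [Algebra K L] [FiniteDimensional K L] :
    ∃ (L' : Type u) (_ : Field L') (_ : Algebra K L') (_ : L →ₐ[K] L') (K' : IntermediateField K L'),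
      FiniteDimensional K L' ∧ IsPurelyInseparable K K' ∧ Algebra.IsSeparable K' L' := by
  classical
  let Ω := AlgebraicClosure L
  let N := IntermediateField.normalClosure K L Ω
  let g0 : L →ₐ[K] Ω := IsScalarTower.toAlgHom K L Ω
  let g : L →ₐ[K] N := g0.codRestrict N.toSubalgebra (fun a => g0.fieldRange_le_normalClosure ⟨a, rfl⟩)
  let K' : IntermediateField K N := IntermediateField.fixedField (⊤ : Subgroup Gal(N/K))
  refine ⟨N, inferInstance, inferInstance, g, K', inferInstance, ?_, ?_⟩
  · rw [isPurelyInseparable_iff_natSepDegree_eq_one]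
    intro a
    rw [show minpoly K a = minpoly K (a : N) from (minpoly.algebraMap_eq (algebraMap K' N).injective a).symm,
      Polynomial.natSepDegree_eq_of_splits _ (Normal.splits inferInstance (a : N))]
    rw [Finset.card_eq_one]
    refine ⟨(a : N), Finset.eq_singleton_iff_unique_mem.mpr ⟨?_, ?_⟩⟩
    · rw [Multiset.mem_toFinset, Polynomial.mem_aroots]
      exact ⟨minpoly.ne_zero (Algebra.IsIntegral.isIntegral _), minpoly.aeval K _⟩
    · intro y hy
      rw [Multiset.mem_toFinset, Polynomial.mem_aroots] at hy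
      have h1 : minpoly K y = minpoly K (a : N) :=
        (minpoly.eq_of_irreducible_of_monic (minpoly.irreducible (Algebra.IsIntegral.isIntegral _)) hy.2
          (minpoly.monic (Algebra.IsIntegral.isIntegral _))).symm
      obtain ⟨σ, hσ⟩ := (Normal.minpoly_eq_iff_mem_orbit N).mp h1
      rw [← hσ]
      exact a.2 ⟨σ, trivial⟩
  · have : IsGalois (FixedPoints.subfield (⊤ : Subgroup Gal(N/K)) N) N := IsGalois.of_fixed_field N _
    exact (this.to_isSeparable : Algebra.IsSeparable (FixedPoints.subfield (⊤ : Subgroup Gal(N/K)) N) N)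

theorem isN2_of_purelyInseparable {R : Type u} [CommRing R] [IsDomain R] [IsNoetherianRing R]
    (K : Type u) [Field K] [Algebra R K] [IsFractionRing R K]
    (h : ∀ (L : Type u) [Field L] [Algebra R L] [Algebra K L] [IsScalarTower R K L] [FiniteDimensional K L]
      [IsPurelyInseparable K L], Module.Finite R (integralClosure R L)) : IsN2 R := by
  refine isN2_of K fun L _ _ _ _ _ => ?_
  obtain ⟨L', _, _, g, K', _, _, _⟩ := exists_fixed_purelyInseparable K L
  letI : Algebra R L' := ((algebraMap K L').comp (algebraMap R K)).toAlgebra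
  have : IsScalarTower R K L' := IsScalarTower.of_algebraMap_eq fun _ => rfl
  have hK' : Module.Finite R (integralClosure R K') := h K'
  have : IsScalarTower R K' L' := IsScalarTower.of_algebraMap_eq fun _ => rfl
  have : FiniteDimensional K' L' := inferInstance
  have hL' : Module.Finite R (integralClosure R L') := finite_ic_of_separable_top (K := K) (K' := K') hK'
  exact fin_ic_of_tower (g.restrictScalars R) g.injective hL'

theorem isN2_of_ringEquiv {A B : Type u} [CommRing A] [CommRing B] [IsDomain A] [IsDomain B] (e : A ≃+* B)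
    (h : IsN2 A) : IsN2 B := by
  letI : Algebra A B := e.toRingHom.toAlgebra
  have : IsLocalization (⊥ : Submonoid A) B :=
    { map_units := by rintro ⟨y, hy⟩; obtain rfl := Submonoid.mem_bot.mp hy; simp
      surj := fun z => ⟨(e.symm z, 1), by simp [RingHom.algebraMap_toAlgebra]⟩
      exists_of_eq := fun {x y} h => ⟨1, by rw [e.injective h]⟩ }
  exact isN2_localization ⊥ h

theorem finite_of_isN2_of_bounded {R0 T : Type u} [CommRing R0] [IsDomain R0] [IsNoetherianRing R0] [CommRing T]
    [IsDomain T] [Algebra R0 T] [Algebra.IsIntegral R0 T] (hρ : Function.Injective (algebraMap R0 T))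
    (h2 : IsN2 R0) (n : ℕ) (hn : ∀ (ι : Type u) [Fintype ι] (v : ι → T), LinearIndependent R0 v → Fintype.card ι ≤ n) :
    Module.Finite R0 T := by
  classical
  letI algkFT : Algebra (FractionRing R0) (FractionRing T) :=
    (IsFractionRing.lift (g := (algebraMap T (FractionRing T)).comp (algebraMap R0 T))
      ((IsFractionRing.injective T (FractionRing T)).comp hρ)).toAlgebra
  have : IsScalarTower R0 (FractionRing R0) (FractionRing T) := IsScalarTower.of_algebraMap_eq fun z => by
    rw [RingHom.algebraMap_toAlgebra, IsFractionRing.lift_algebraMap, RingHom.comp_apply,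
      ← IsScalarTower.algebraMap_apply]
  have hrank : ∀ (ι : Finset (FractionRing T)), LinearIndependent (FractionRing R0) (fun i : ι => (i : FractionRing T)) → ι.card ≤ n := by
    intro ι hι
    have hden : ∀ v : FractionRing T, ∃ r : R0, r ≠ 0 ∧ ∃ s : T,
        algebraMap R0 (FractionRing T) r * v = algebraMap T (FractionRing T) s := by
      intro v
      obtain ⟨a, b, hb, rfl⟩ := IsFractionRing.div_surjective T v
      obtain ⟨r, hr0, c, hc⟩ := (Algebra.IsAlgebraic.isAlgebraic (R := R0) b).exists_nonzero_dvd hb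
      refine ⟨r, hr0, a * c, ?_⟩
      have hb' : algebraMap T (FractionRing T) b ≠ 0 :=
        (map_ne_zero_iff _ (IsFractionRing.injective T (FractionRing T))).mpr (nonZeroDivisors.ne_zero hb)
      rw [IsScalarTower.algebraMap_apply R0 T (FractionRing T), hc, map_mul, map_mul]
      field_simp
    choose d hd s hs using hden
    have h1 : LinearIndependent R0 (fun i : ι => s i) := by
      rw [Fintype.linearIndependent_iff]
      intro c hc i0
      have hFT : (∑ i : ι, (algebraMap R0 (FractionRing R0) (c i * d i)) • (i : FractionRing T)) = 0 := by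
        have h3 := congrArg (algebraMap T (FractionRing T)) hc
        simp only [map_sum, map_zero] at h3
        rw [← h3]
        refine Finset.sum_congr rfl fun i _ => ?_
        rw [algebraMap_smul, Algebra.smul_def, map_mul, mul_assoc, hs i, Algebra.smul_def, map_mul,
          ← IsScalarTower.algebraMap_apply R0 T (FractionRing T)]
      have h4 := Fintype.linearIndependent_iff.mp hι _ hFT i0
      rw [map_eq_zero_iff _ (IsFractionRing.injective R0 (FractionRing R0)), mul_eq_zero] at h4
      exact h4.resolve_right (hd _)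
    simpa using hn ι _ h1
  have : FiniteDimensional (FractionRing R0) (FractionRing T) :=
    Module.rank_lt_aleph0_iff.mp (lt_of_le_of_lt (rank_le hrank) Cardinal.natCast_lt_aleph0)
  have hfin : Module.Finite R0 (integralClosure R0 (FractionRing T)) := isN2_apply h2 (FractionRing R0) (FractionRing T)
  let ι : T →ₗ[R0] integralClosure R0 (FractionRing T) :=
    { toFun := fun t => ⟨algebraMap T (FractionRing T) t, IsIntegral.map (IsScalarTower.toAlgHom R0 T (FractionRing T)) (Algebra.IsIntegral.isIntegral t)⟩
      map_add' := fun a b => Subtype.ext (map_add _ a b)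
      map_smul' := fun r a => Subtype.ext (by simp [Algebra.smul_def, ← IsScalarTower.algebraMap_apply]) }
  exact Module.Finite.of_injective ι fun a b hab => IsFractionRing.injective T (FractionRing T) (congrArg Subtype.val hab)

section core
variable {R K L : Type u} [CommRing R] [IsDomain R] [IsNoetherianRing R] [IsIntegrallyClosed R]
  [Field K] [Algebra R K] [IsFractionRing R K] [Field L] [Algebra R L] [Algebra K L] [IsScalarTower R K L]

theorem isIntegral_iff_pow_mem {Q : ℕ} (hQ : 0 < Q) (hKQ : ∀ a : L, a ^ Q ∈ (algebraMap K L).range) (a : L) :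
    IsIntegral R a ↔ ∃ r : R, algebraMap R L r = a ^ Q := by
  refine ⟨fun ha => ?_, fun ⟨r, hr⟩ => IsIntegral.of_pow hQ (hr ▸ isIntegral_algebraMap)⟩
  obtain ⟨c, hc⟩ := hKQ a
  have h1 : IsIntegral R c := (isIntegral_algebraMap_iff (algebraMap K L).injective).mp (hc ▸ ha.pow Q)
  obtain ⟨r, hr⟩ := IsIntegrallyClosed.isIntegral_iff.mp h1
  exact ⟨r, by rw [IsScalarTower.algebraMap_apply R K L, hr, hc]⟩

theorem finite_ic_purelyInseparable_core [FiniteDimensional K L] (q e : ℕ) [ExpChar L q] (x : R)
    (hx0 : x ≠ 0) [hxp : (Ideal.span {x}).IsPrime] (h2 : IsN2 (R ⧸ Ideal.span {x}))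
    [IsAdicComplete (Ideal.span {x}) R]
    (hKQ : ∀ a : L, a ^ q ^ e ∈ (algebraMap K L).range) (y : L) (hy : y ^ q ^ e = algebraMap R L x) :
    Module.Finite R (integralClosure R L) := by
  classical
  obtain ⟨Q, hQdef⟩ : ∃ Q, Q = q ^ e := ⟨_, rfl⟩
  have hQ : 0 < Q := hQdef ▸ pow_pos (expChar_pos L q) e
  have hmem := isIntegral_iff_pow_mem (R := R) (L := L) hQ (hQdef ▸ hKQ)
  rw [← hQdef] at hy
  have hinj : Function.Injective (algebraMap R L) := by
    rw [IsScalarTower.algebraMap_eq R K L]; exact (algebraMap K L).injective.comp (IsFractionRing.injective R K)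
  let S := integralClosure R L
  have hy0 : y ≠ 0 := by
    rintro rfl; rw [zero_pow hQ.ne'] at hy; exact hx0 (hinj (by rw [← hy, map_zero]))
  let yS : S := ⟨y, (hmem y).mpr ⟨x, hy.symm⟩⟩
  let P : Ideal S := Ideal.span {yS}
  have hPmem : ∀ (a : S) (r : R), algebraMap R L r = a.1 ^ Q → (a ∈ P ↔ r ∈ Ideal.span {x}) := by
    intro a r hr
    refine ⟨fun ha => ?_, fun hr' => ?_⟩
    · obtain ⟨c, rfl⟩ := Ideal.mem_span_singleton'.mp ha
      obtain ⟨t, ht⟩ := (hmem c.1).mp c.2
      refine Ideal.mem_span_singleton'.mpr ⟨t, hinj ?_⟩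
      rw [hr, map_mul, ht, ← hy]
      exact (mul_pow _ _ _).symm
    · obtain ⟨t, rfl⟩ := Ideal.mem_span_singleton'.mp hr'
      refine Ideal.mem_span_singleton'.mpr ⟨⟨a.1 / y, (hmem _).mpr ⟨t, ?_⟩⟩, Subtype.ext (div_mul_cancel₀ a.1 hy0)⟩
      rw [div_pow, ← hr, hy, map_mul, mul_div_assoc, div_self (fun h => hx0 (hinj (by rw [h, map_zero]))), mul_one]
  have hPprime : P.IsPrime := by
    refine ⟨fun htop => hxp.ne_top ?_, fun {a b} hab => ?_⟩
    · rw [Ideal.eq_top_iff_one]
      exact (hPmem 1 1 (by simp)).mp (htop ▸ Submodule.mem_top)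
    · obtain ⟨r, hr⟩ := (hmem a.1).mp a.2
      obtain ⟨s, hs⟩ := (hmem b.1).mp b.2
      have := (hPmem (a * b) (r * s) (by rw [map_mul, hr, hs]; exact (mul_pow _ _ _).symm)).mp hab
      exact (hxp.mem_or_mem this).imp (hPmem a r hr).mpr (hPmem b s hs).mpr
  let T := S ⧸ P
  let R0 := R ⧸ Ideal.span {x}
  have hcomap : ∀ r : R, algebraMap R S r ∈ P ↔ r ∈ Ideal.span {x} := by
    intro r
    rw [hPmem (algebraMap R S r) (r ^ Q) (map_pow _ r Q)]
    exact ⟨hxp.mem_of_pow_mem Q, fun h => Ideal.pow_mem_of_mem _ h Q hQ⟩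
  let ρ : R0 →+* T := Ideal.Quotient.lift _ ((Ideal.Quotient.mk P).comp (algebraMap R S))
    (fun r hr => Ideal.Quotient.eq_zero_iff_mem.mpr ((hcomap r).mpr hr))
  have hρ : Function.Injective ρ := by
    rw [injective_iff_map_eq_zero]
    intro z hz
    obtain ⟨r, rfl⟩ := Ideal.Quotient.mk_surjective z
    exact Ideal.Quotient.eq_zero_iff_mem.mpr ((hcomap r).mp (Ideal.Quotient.eq_zero_iff_mem.mp hz))
  letI := ρ.toAlgebra
  have : IsScalarTower R R0 T := IsScalarTower.of_algebraMap_eq fun _ => rfl
  have : Algebra.IsIntegral R T := inferInstance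
  have : Algebra.IsIntegral R0 T := ⟨fun t => IsIntegral.tower_top (Algebra.IsIntegral.isIntegral (R := R) t)⟩
  have hT0 : Module.Finite R0 T := finite_of_isN2_of_bounded hρ h2 (Module.finrank K L) (by
    intro ι _ v hv
    choose s hs using fun i => Ideal.Quotient.mk_surjective (I := P) (v i)
    have h1 : LinearIndependent R (fun i : ι => ((s i : S) : L)) := by
      rw [Fintype.linearIndependent_iff]
      by_contra hcon
      push Not at hcon
      obtain ⟨c, hc, i0, hi0⟩ := hcon
      -- make the relation primitive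
      have hex : ∀ m : ℕ, ∀ c : ι → R, (∑ i, c i • ((s i : S) : L)) = 0 → (∃ i, c i ∉ Ideal.span {x ^ m}) →
          ∃ c' : ι → R, (∑ i, c' i • ((s i : S) : L)) = 0 ∧ ∃ i, c' i ∉ Ideal.span {x} := by
        intro m
        induction m with
        | zero => intro c _ ⟨i, hi⟩; exact absurd (by simp) hi
        | succ m ih =>
          intro c hc ⟨i, hi⟩
          by_cases hall : ∀ j, c j ∈ Ideal.span {x}
          · choose c' hc' using fun j => Ideal.mem_span_singleton'.mp (hall j)
            refine ih c' ?_ ⟨i, fun h => hi ?_⟩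
            · have : algebraMap R L x * ∑ j, c' j • ((s j : S) : L) = 0 := by
                rw [← hc, Finset.mul_sum]
                refine Finset.sum_congr rfl fun j _ => ?_
                rw [Algebra.smul_def, Algebra.smul_def, ← hc' j, map_mul]; ring
              exact (mul_eq_zero.mp this).resolve_left (fun h => hx0 (hinj (by rw [h, map_zero])))
            · obtain ⟨t, ht⟩ := Ideal.mem_span_singleton'.mp h
              exact Ideal.mem_span_singleton'.mpr ⟨t, by rw [← hc' i, ← ht, pow_succ]; ring⟩
          · push Not at hall; exact ⟨c, hc, hall⟩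
      obtain ⟨m, hm⟩ : ∃ m, c i0 ∉ Ideal.span {x ^ m} := by
        by_contra h
        push Not at h
        exact hi0 (IsHausdorff.haus (I := Ideal.span {x}) inferInstance _ fun n => by
          rw [SModEq.zero, smul_eq_mul, Ideal.mul_top, Ideal.span_singleton_pow]; exact h n)
      obtain ⟨c', hc', i1, hi1⟩ := hex m c hc ⟨i0, hm⟩
      have hS : (∑ i, c' i • (s i : S)) = 0 := Subtype.ext (by simpa using hc')
      have hT : (∑ i, (Ideal.Quotient.mk (Ideal.span {x}) (c' i) : R0) • v i) = 0 := by
        have h3 := congrArg (Ideal.Quotient.mk P) hS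
        rw [map_sum, map_zero] at h3
        rw [← h3]
        refine Finset.sum_congr rfl fun i _ => ?_
        rw [← hs i, Algebra.smul_def, Algebra.smul_def, map_mul]; rfl
      exact hi1 (Ideal.Quotient.eq_zero_iff_mem.mp (Fintype.linearIndependent_iff.mp hv _ hT i1))
    exact ((LinearIndependent.iff_fractionRing R K).mp h1).fintype_card_le_finrank)
  have hT : Module.Finite R T := Module.Finite.trans R0 T
  obtain ⟨G, hG⟩ := hT.fg_top
  choose gS hgS using fun t : T => Ideal.Quotient.mk_surjective (I := P) t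
  have hdecomp : ∀ a : S, ∃ z ∈ Submodule.span R (gS '' (G : Set T)), ∃ c : S, a = z + yS * c := by
    intro a
    have : ∀ t ∈ Submodule.span R (G : Set T), ∃ z ∈ Submodule.span R (gS '' (G : Set T)), Ideal.Quotient.mk P z = t := by
      intro t ht
      induction ht using Submodule.span_induction with
      | mem t ht => exact ⟨gS t, Submodule.subset_span ⟨t, ht, rfl⟩, hgS t⟩
      | zero => exact ⟨0, Submodule.zero_mem _, map_zero _⟩
      | add u v _ _ hu hv =>
        obtain ⟨zu, h1, h2⟩ := hu; obtain ⟨zv, h3, h4⟩ := hv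
        exact ⟨zu + zv, Submodule.add_mem _ h1 h3, by rw [map_add, h2, h4]⟩
      | smul r u _ hu =>
        obtain ⟨zu, h1, h2⟩ := hu
        exact ⟨r • zu, Submodule.smul_mem _ r h1, by rw [← h2]; rfl⟩
    obtain ⟨z, hz, hz'⟩ := this (Ideal.Quotient.mk P a) (hG ▸ Submodule.mem_top)
    obtain ⟨c, hc⟩ := Ideal.mem_span_singleton'.mp (Ideal.Quotient.eq.mp hz'.symm)
    exact ⟨z, hz, c, by rw [mul_comm yS, hc, add_sub_cancel]⟩
  let W : Submodule R S := Submodule.span R (Set.range fun p : Fin Q × G => yS ^ (p.1 : ℕ) * gS p.2)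
  have hiter : ∀ i ≤ Q, ∀ a : S, ∃ w ∈ W, ∃ c : S, a = w + yS ^ i * c := by
    intro i
    induction i with
    | zero => intro _ a; exact ⟨0, Submodule.zero_mem _, a, by simp⟩
    | succ i ih =>
      intro hi a
      obtain ⟨w, hw, c, rfl⟩ := ih (by omega) a
      obtain ⟨z, hz, c', rfl⟩ := hdecomp c
      refine ⟨w + yS ^ i * z, Submodule.add_mem _ hw ?_, c', by rw [pow_succ]; ring⟩
      have : (Submodule.span R (gS '' (G : Set T))).map (LinearMap.mulLeft R (yS ^ i)) ≤ W := by
        rw [Submodule.map_span, Submodule.span_le]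
        rintro _ ⟨_, ⟨t, ht, rfl⟩, rfl⟩
        exact Submodule.subset_span ⟨(⟨i, by omega⟩, ⟨t, ht⟩), rfl⟩
      exact this ⟨z, hz, rfl⟩
  have hyQ : yS ^ Q = algebraMap R S x := Subtype.ext hy
  have hH : IsHausdorff (Ideal.span {x}) S := ⟨fun a ha => by
    obtain ⟨r, hr⟩ := (hmem a.1).mp a.2
    have hr0 : r = 0 := IsHausdorff.haus (I := Ideal.span {x}) inferInstance r fun n => by
      have h1 := ha n
      rw [SModEq.zero, Ideal.span_singleton_pow, Submodule.ideal_span_singleton_smul, Submodule.mem_smul_pointwise_iff_exists] at h1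
      obtain ⟨c, -, hc⟩ := h1
      obtain ⟨t, ht⟩ := (hmem c.1).mp c.2
      rw [SModEq.zero, smul_eq_mul, Ideal.mul_top, Ideal.span_singleton_pow]
      refine Ideal.mem_span_singleton'.mpr ⟨t * (x ^ n) ^ (Q - 1), hinj ?_⟩
      rw [mul_assoc, pow_sub_one_mul hQ.ne', map_mul, map_pow, map_pow, ht, hr, ← hc]
      rw [SetLike.val_smul, Algebra.smul_def, map_pow, mul_pow, mul_comm]
    rw [hr0, map_zero] at hr
    exact Subtype.ext (pow_eq_zero_iff hQ.ne' |>.mp hr.symm)⟩
  refine Groth.Agent.AdicRing.finite_of_finite_quotient (I := Ideal.span {x}) S ?_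
  refine ⟨⟨(Finset.univ : Finset (Fin Q × G)).image (fun p => Submodule.Quotient.mk (yS ^ (p.1 : ℕ) * gS p.2)), ?_⟩⟩
  rw [eq_top_iff]
  rintro t -
  obtain ⟨a, rfl⟩ := Submodule.Quotient.mk_surjective _ t
  obtain ⟨w, hw, c, rfl⟩ := hiter Q le_rfl a
  have hxc : yS ^ Q * c ∈ (Ideal.span {x} • ⊤ : Submodule R S) := by
    rw [hyQ, ← Algebra.smul_def]
    exact Submodule.smul_mem_smul (Ideal.mem_span_singleton_self x) trivial
  rw [Submodule.Quotient.mk_add, (Submodule.Quotient.mk_eq_zero _).mpr hxc, add_zero]
  have := Submodule.mem_map_of_mem (f := (Ideal.span {x} • ⊤ : Submodule R S).mkQ) hw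
  rw [Submodule.map_span, ← Set.range_comp] at this
  rw [Finset.coe_image, Finset.coe_univ, Set.image_univ]
  exact this

end core

/-- A normal Noetherian domain complete at a prime element with N-2 quotient is N-2. -/
theorem isN2_of_complete_of_quotient (R : Type u) [CommRing R] [IsDomain R]
    [IsNoetherianRing R] [IsIntegrallyClosed R] (x : R) [(Ideal.span ({x} : Set R)).IsPrime]
    (h2 : IsN2 (R ⧸ Ideal.span ({x} : Set R))) [IsAdicComplete (Ideal.span ({x} : Set R)) R] : IsN2 R := by
  classical
  by_cases hx0 : x = 0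
  · subst hx0
    have e : (R ⧸ Ideal.span ({(0 : R)} : Set R)) ≃+* R :=
      (Ideal.quotEquivOfEq (by simp)).trans (RingEquiv.quotientBot R)
    exact isN2_of_ringEquiv e h2
  let K := FractionRing R
  refine isN2_of_purelyInseparable K fun L _ _ _ _ _ _ => ?_
  obtain ⟨q, _⟩ := ExpChar.exists K
  have : ExpChar L q := expChar_of_injective_ringHom (algebraMap K L).injective q
  let b := Module.finBasis K L
  choose e he using fun i => IsPurelyInseparable.pow_mem K q (b i)
  let N := Finset.univ.sup e
  have hN : ∀ a : L, a ^ q ^ N ∈ (algebraMap K L).range := by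
    intro a
    rw [← b.sum_repr a, sum_pow_char_pow]
    refine Subring.sum_mem _ fun i _ => ?_
    obtain ⟨c, hc⟩ := he i
    refine ⟨b.repr a i ^ q ^ N * c ^ q ^ (N - e i), ?_⟩
    rw [map_mul, map_pow, map_pow, hc, ← pow_mul, ← pow_add, Nat.add_sub_cancel' (Finset.le_sup (Finset.mem_univ i)),
      Algebra.smul_def, mul_pow]
  let Ω := AlgebraicClosure L
  obtain ⟨y, hy⟩ := IsAlgClosed.exists_pow_nat_eq (algebraMap L Ω (algebraMap R L x)) (pow_pos (expChar_pos L q) N)
  let L2 := IntermediateField.adjoin L ({y} : Set Ω)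
  have hyint : IsIntegral L y := Algebra.IsIntegral.isIntegral y
  have : FiniteDimensional L L2 := IntermediateField.adjoin.finiteDimensional hyint
  have : FiniteDimensional K L2 := FiniteDimensional.trans K L L2
  have : ExpChar L2 q := expChar_of_injective_ringHom (algebraMap L L2).injective q
  have : ExpChar Ω q := expChar_of_injective_ringHom (algebraMap L Ω).injective q
  have hN2 : ∀ a : L2, a ^ q ^ N ∈ (algebraMap K L2).range := by
    rintro ⟨a, ha⟩
    rw [← IntermediateField.mem_toSubalgebra, IntermediateField.adjoin_simple_toSubalgebra_of_isAlgebraic hyint.isAlgebraic,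
      Algebra.adjoin_singleton_eq_range_aeval] at ha
    obtain ⟨P, hP⟩ := ha
    suffices a ^ q ^ N ∈ (algebraMap K Ω).range by
      obtain ⟨c, hc⟩ := this
      exact ⟨c, Subtype.ext (by rw [SubmonoidClass.coe_pow]; exact hc)⟩
    rw [← hP]
    show (Polynomial.aeval y P) ^ q ^ N ∈ _
    rw [Polynomial.aeval_eq_sum_range]
    show (∑ i ∈ Finset.range (P.natDegree + 1), P.coeff i • y ^ i) ^ q ^ N ∈ _
    rw [sum_pow_char_pow]
    refine Subring.sum_mem _ fun i _ => ?_
    obtain ⟨c, hc⟩ := hN (P.coeff i)
    refine ⟨c * (algebraMap R K x) ^ i, ?_⟩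
    rw [map_mul, map_pow, IsScalarTower.algebraMap_apply K L Ω c, hc, Algebra.smul_def, mul_pow, map_pow,
      IsScalarTower.algebraMap_apply K L Ω, ← IsScalarTower.algebraMap_apply R K L, ← hy, ← pow_mul, ← pow_mul, mul_comm i]
  have : IsScalarTower R K L2 := IsScalarTower.of_algebraMap_eq fun z => Subtype.ext (by
    show algebraMap L Ω (algebraMap R L z) = algebraMap L Ω (algebraMap K L (algebraMap R K z))
    rw [← IsScalarTower.algebraMap_apply R K L])
  have h3 := finite_ic_purelyInseparable_core (R := R) (K := K) (L := L2) q N x hx0 h2 hN2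
    ⟨y, IntermediateField.mem_adjoin_simple_self L y⟩ (Subtype.ext (by rw [SubmonoidClass.coe_pow]; exact hy))
  exact fin_ic_of_tower (IsScalarTower.toAlgHom R L L2) (algebraMap L L2).injective h3

end Groth.Agent.CAlgH
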