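import Mathlib
import Groth.Prelude.Def_Found

universe u
open IsLocalRing

namespace Groth.Agent.CAlgH

/-- A valuation ring with algebraically closed fraction field, residue field containing a given field. -/
theorem exists_big_valuationSubring (k : Type u) [Field k] :
    ∃ (Ω : Type u) (_ : Field Ω) (_ : IsAlgClosed Ω) (_ : CharZero Ω) (B : ValuationSubring Ω),
      Nonempty (k →+* ResidueField B) := by
  classical
  let A := MvPolynomial k ℤ
  let ev : A →+* k := MvPolynomial.eval₂Hom (Int.castRingHom k) id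
  have hev : Function.Surjective ev := fun a => ⟨MvPolynomial.X a, MvPolynomial.eval₂Hom_X' _ _ a⟩
  let Q : Ideal A := RingHom.ker ev
  have : Q.IsPrime := RingHom.ker_isPrime ev
  let Ω := AlgebraicClosure (FractionRing A)
  let j : A →+* Ω := (algebraMap (FractionRing A) Ω).comp (algebraMap A (FractionRing A))
  have hj : Function.Injective j :=
    (algebraMap (FractionRing A) Ω).injective.comp (IsFractionRing.injective A (FractionRing A))
  have hu : ∀ y : Q.primeCompl, IsUnit (j y) := fun y => IsUnit.mk0 _ fun h0 =>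
    y.2 (by rw [hj (h0.trans (map_zero j).symm)]; exact Q.zero_mem)
  let g : Localization.AtPrime Q →+* Ω := IsLocalization.lift hu
  obtain ⟨B, hle, hloc⟩ := (LocalSubring.range g).exists_le_valuationSubring
  let φ : Localization.AtPrime Q →+* B :=
    g.codRestrict B (fun x => hle (show g x ∈ (LocalSubring.range g).toSubring from ⟨x, rfl⟩))
  have hφ : IsLocalHom φ := by
    refine ⟨fun x hx => ?_⟩
    have h1 : IsUnit (Subring.inclusion hle ⟨g x, x, rfl⟩) := hx
    have h2 := hloc.map_nonunit _ h1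
    obtain ⟨⟨_, y, rfl⟩, hy⟩ := h2.exists_right_inv
    have h3 : g (x * y - 1) = 0 := by
      rw [map_sub, map_mul, map_one, sub_eq_zero]; exact congrArg Subtype.val hy
    have h4 : ¬ IsUnit (x * y - 1) := fun h => by
      have := h.map g
      rw [h3] at this
      exact not_isUnit_zero this
    by_contra hx'
    have h5 : x * y ∈ maximalIdeal (Localization.AtPrime Q) := Ideal.mul_mem_right _ _ ((mem_maximalIdeal _).mpr hx')
    have h6 : (1 : Localization.AtPrime Q) ∈ maximalIdeal (Localization.AtPrime Q) := by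
      have := Ideal.sub_mem _ h5 ((mem_maximalIdeal _).mpr h4)
      simpa using this
    exact (maximalIdeal.isMaximal _).ne_top ((Ideal.eq_top_iff_one _).mpr h6)
  let ψ : A →+* ResidueField B := ((residue B).comp φ).comp (algebraMap A _)
  have hψ : ∀ a ∈ Q, ψ a = 0 := by
    intro a ha
    refine Ideal.Quotient.eq_zero_iff_mem.mpr ((mem_maximalIdeal _).mpr ?_)
    intro hcon
    exact ((IsLocalization.AtPrime.isUnit_to_map_iff _ Q a).mp (hφ.map_nonunit _ hcon)) ha
  exact ⟨Ω, inferInstance, inferInstance, charZero_of_injective_ringHom (f := j.comp MvPolynomial.C) (hj.comp (MvPolynomial.C_injective k ℤ)), B,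
    ⟨(Ideal.Quotient.lift Q ψ hψ).comp (RingHom.quotientKerEquivOfSurjective hev).symm.toRingHom⟩⟩

variable {O : Type u} [CommRing O] [IsLocalRing O]

/-- Subrings that are discrete valuation rings with uniformizer `p`. -/
def PAdic (p : ℕ) (k0 : Subfield (ResidueField O)) (Λ : Subring O) : Prop :=
  (∀ x ∈ Λ, x ≠ 0 → ∃ n : ℕ, ∃ u ∈ Λ, ∃ v ∈ Λ, u * v = 1 ∧ x = (p : O) ^ n * u) ∧
    ∀ x ∈ Λ, residue O x ∈ k0

theorem pAdic_factor (p : ℕ) {k0 : Subfield (ResidueField O)} {Λ : Subring O} (hΛ : PAdic p k0 Λ)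
    (G : Polynomial Λ) (hG : G ≠ 0) :
    ∃ n : ℕ, ∃ G' : Polynomial Λ, G = Polynomial.C ((p : Λ) ^ n) * G' ∧ G'.natDegree ≤ G.natDegree ∧
      ∃ i, residue O (G'.coeff i : O) ≠ 0 := by
  classical
  choose! e u hu v hv huv he using hΛ.1
  have hne : ∀ i ∈ G.support, (G.coeff i : O) ≠ 0 := fun i hi h0 =>
    Polynomial.mem_support_iff.mp hi (Subtype.ext h0)
  obtain ⟨i0, hi0, hmin⟩ := G.support.exists_min_image (fun i => e (G.coeff i : O)) (Polynomial.support_nonempty.mpr hG)
  let n := e (G.coeff i0 : O)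
  let c : ℕ → Λ := fun i => if h : i ∈ G.support then
    (p : Λ) ^ (e (G.coeff i : O) - n) * ⟨u (G.coeff i : O), hu _ (G.coeff i).2 (hne i h)⟩ else 0
  refine ⟨n, ∑ i ∈ G.support, Polynomial.monomial i (c i), ?_, ?_, i0, ?_⟩
  · conv_lhs => rw [G.as_sum_support]
    rw [Finset.mul_sum]
    refine Finset.sum_congr rfl fun i hi => ?_
    rw [Polynomial.C_mul_monomial]
    congr 1
    apply Subtype.ext
    simp only [c, dif_pos hi, Subring.coe_mul, SubmonoidClass.coe_pow, Subring.coe_natCast]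
    rw [← mul_assoc, ← pow_add, Nat.add_sub_cancel' (hmin i hi)]
    exact he _ (G.coeff i).2 (hne i hi)
  · refine Polynomial.natDegree_sum_le_of_forall_le _ _ fun i hi => ?_
    exact (Polynomial.natDegree_monomial_le _).trans (Polynomial.le_natDegree_of_mem_supp i hi)
  · rw [Polynomial.finsetSum_coeff, Finset.sum_eq_single i0]
    · simp only [Polynomial.coeff_monomial, if_pos rfl, c, dif_pos hi0, n, Nat.sub_self, pow_zero, one_mul]
      have h1 := congrArg (residue O) (huv _ (G.coeff i0).2 (hne i0 hi0))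
      rw [map_mul, map_one] at h1
      exact left_ne_zero_of_mul_eq_one h1
    · intro j _ hj; simp [Polynomial.coeff_monomial, hj]
    · intro h; exact absurd hi0 h

theorem pAdic_extend (p : ℕ) {k0 : Subfield (ResidueField O)} {Λ : Subring O} (hΛ : PAdic p k0 Λ)
    (t : O) (ht : residue O t ∈ k0)
    (hfac : ∀ G : Polynomial Λ, G.eval₂ Λ.subtype t ≠ 0 → ∃ n : ℕ, ∃ G' : Polynomial Λ,
      G.eval₂ Λ.subtype t = (p : O) ^ n * G'.eval₂ Λ.subtype t ∧ residue O (G'.eval₂ Λ.subtype t) ≠ 0) :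
    ∃ Λ' : Subring O, PAdic p k0 Λ' ∧ Λ ≤ Λ' ∧ t ∈ Λ' := by
  let E : Polynomial Λ →+* O := Polynomial.eval₂RingHom Λ.subtype t
  have hEk : ∀ G, residue O (E G) ∈ k0 := by
    intro G
    induction G using Polynomial.induction_on' with
    | add a b ha hb => rw [map_add, map_add]; exact k0.add_mem ha hb
    | monomial n a => simp only [E, Polynomial.coe_eval₂RingHom, Polynomial.eval₂_monomial, map_mul, map_pow]
                      exact k0.mul_mem (hΛ.2 a a.2) (k0.pow_mem ht n)
  let Λ' : Subring O :=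
    { carrier := {y | ∃ a b, residue O (E b) ≠ 0 ∧ y * E b = E a}
      mul_mem' := by
        rintro x y ⟨a, b, hb, hab⟩ ⟨c, d, hd, hcd⟩
        exact ⟨a * c, b * d, by rw [map_mul, map_mul]; exact mul_ne_zero hb hd,
          by rw [map_mul, map_mul, ← hab, ← hcd]; ring⟩
      one_mem' := ⟨1, 1, by rw [map_one, map_one]; exact one_ne_zero, one_mul _⟩
      add_mem' := by
        rintro x y ⟨a, b, hb, hab⟩ ⟨c, d, hd, hcd⟩
        exact ⟨a * d + c * b, b * d, by rw [map_mul, map_mul]; exact mul_ne_zero hb hd,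
          by rw [map_add, map_mul, map_mul, map_mul, ← hab, ← hcd]; ring⟩
      zero_mem' := ⟨0, 1, by rw [map_one, map_one]; exact one_ne_zero, by rw [zero_mul, map_zero]⟩
      neg_mem' := by
        rintro x ⟨a, b, hb, hab⟩
        exact ⟨-a, b, hb, by rw [map_neg, ← hab, neg_mul]⟩ }
  have hmem : ∀ G, E G ∈ Λ' := fun G => ⟨G, 1, by rw [map_one, map_one]; exact one_ne_zero, by rw [map_one, mul_one]⟩
  refine ⟨Λ', ⟨?_, ?_⟩, fun x hx => ?_, ?_⟩
  · rintro x ⟨a, b, hb, hab⟩ hx
    obtain ⟨w, hw⟩ := (residue_ne_zero_iff_isUnit _).mp hb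
    have ha : E a ≠ 0 := by rw [← hab, ← hw]; exact fun h => hx ((Units.mul_left_eq_zero w).mp h)
    obtain ⟨n, a', he, ha'⟩ := hfac a ha
    obtain ⟨w', hw'⟩ := (residue_ne_zero_iff_isUnit _).mp ha'
    refine ⟨n, E a' * ↑w⁻¹, ⟨a', b, hb, by rw [← hw, mul_assoc, Units.inv_mul, mul_one]⟩,
      E b * ↑w'⁻¹, ⟨b, a', ha', by rw [show E a' = ↑w' from hw'.symm, mul_assoc, Units.inv_mul, mul_one]⟩, ?_, ?_⟩
    · rw [← hw, show E a' = ↑w' from hw'.symm]
      calc (↑w' * ↑w⁻¹ : O) * (↑w * ↑w'⁻¹) = ↑w' * (↑w⁻¹ * ↑w) * ↑w'⁻¹ := by ring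
        _ = 1 := by rw [Units.inv_mul, mul_one, Units.mul_inv]
    · have h2 : x = E a * ↑w⁻¹ := by rw [← hab, ← hw, mul_assoc, Units.mul_inv, mul_one]
      rw [h2, show E a = (p : O) ^ n * E a' from he, mul_assoc]
  · rintro x ⟨a, b, hb, hab⟩
    have h := congrArg (residue O) hab
    rw [map_mul, ← eq_div_iff hb] at h
    rw [h]; exact k0.div_mem (hEk a) (hEk b)
  · simpa [E] using hmem (Polynomial.C ⟨x, hx⟩)
  · simpa [E] using hmem Polynomial.X

theorem exists_pAdic_full {Ω : Type u} [Field Ω] [IsAlgClosed Ω] [CharZero Ω] (B : ValuationSubring Ω) (p : ℕ)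
    [hp : Fact p.Prime] [CharP (ResidueField B) p] (k0 : Subfield (ResidueField B)) :
    ∃ Λ : Subring B, PAdic p k0 Λ ∧ ∀ c ∈ k0, ∃ x ∈ Λ, residue B x = c := by
  classical
  let Λ0 : Subring B :=
    { carrier := {y | ∃ a b : ℤ, ¬ (p : ℤ) ∣ b ∧ y * b = a}
      mul_mem' := by
        rintro x y ⟨a, b, hb, hab⟩ ⟨c, d, hd, hcd⟩
        refine ⟨a * c, b * d, fun h => ((Nat.prime_iff_prime_int.mp hp.out).dvd_mul.mp h).elim hb hd, ?_⟩
        push_cast; rw [← hab, ← hcd]; ring
      one_mem' := ⟨1, 1, fun h => hp.out.ne_one (by exact_mod_cast Int.eq_one_of_dvd_one (by positivity) h), by simp⟩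
      add_mem' := by
        rintro x y ⟨a, b, hb, hab⟩ ⟨c, d, hd, hcd⟩
        refine ⟨a * d + c * b, b * d, fun h => ((Nat.prime_iff_prime_int.mp hp.out).dvd_mul.mp h).elim hb hd, ?_⟩
        push_cast; rw [← hab, ← hcd]; ring
      zero_mem' := ⟨0, 1, fun h => hp.out.ne_one (by exact_mod_cast Int.eq_one_of_dvd_one (by positivity) h), by simp⟩
      neg_mem' := by
        rintro x ⟨a, b, hb, hab⟩
        exact ⟨-a, b, hb, by push_cast; rw [← hab, neg_mul]⟩ }
  have hp1 : ¬ (p : ℤ) ∣ 1 := fun h => hp.out.ne_one (by exact_mod_cast Int.eq_one_of_dvd_one (by positivity) h)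
  have hint : ∀ b : ℤ, ¬ (p : ℤ) ∣ b → IsUnit (b : B) := fun b hb => by
    rw [← residue_ne_zero_iff_isUnit, map_intCast]
    exact fun h => hb ((CharP.intCast_eq_zero_iff (ResidueField B) p b).mp h)
  have h0 : PAdic p k0 Λ0 := by
    refine ⟨?_, ?_⟩
    · rintro x ⟨a, b, hb, hab⟩ hx
      obtain ⟨w, hw⟩ := hint b hb
      have ha : a ≠ 0 := by
        rintro rfl
        rw [Int.cast_zero, ← hw] at hab
        exact hx ((Units.mul_left_eq_zero w).mp hab)
      obtain ⟨c, hceq, hc⟩ := ((Int.finiteMultiplicity_iff (a := (p : ℤ)) (b := a)).mpr ⟨by simpa using hp.out.ne_one, ha⟩).exists_eq_pow_mul_and_not_dvd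
      obtain ⟨n, hn⟩ : ∃ n, multiplicity (p : ℤ) a = n := ⟨_, rfl⟩
      rw [hn] at hceq
      subst hceq
      obtain ⟨w', hw'⟩ := hint c hc
      refine ⟨n, c * ↑w⁻¹, ⟨c, b, hb, by rw [← hw, mul_assoc, Units.inv_mul, mul_one]⟩,
        b * ↑w'⁻¹, ⟨b, c, hc, by rw [← hw', mul_assoc, Units.inv_mul, mul_one]⟩, ?_, ?_⟩
      · rw [← hw, ← hw']
        calc (↑w' * ↑w⁻¹ : B) * (↑w * ↑w'⁻¹) = ↑w' * (↑w⁻¹ * ↑w) * ↑w'⁻¹ := by ring
          _ = 1 := by rw [Units.inv_mul, mul_one, Units.mul_inv]
      · push_cast at hab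
        rw [← mul_assoc, ← hab, ← hw, mul_assoc, Units.mul_inv, mul_one]
    · rintro x ⟨a, b, hb, hab⟩
      have h := congrArg (residue B) hab
      have hb' : (b : ResidueField B) ≠ 0 := fun h => hb ((CharP.intCast_eq_zero_iff (ResidueField B) p b).mp h)
      rw [map_mul, map_intCast, map_intCast, ← eq_div_iff hb'] at h
      rw [h]; exact k0.div_mem (intCast_mem k0 a) (intCast_mem k0 b)
  obtain ⟨Λ, -, hΛ⟩ := zorn_le_nonempty₀ {Λ : Subring B | PAdic p k0 Λ} (by
    intro c hc hchain y hy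
    have hdir : DirectedOn (· ≤ ·) c := hchain.directedOn
    have hne : c.Nonempty := ⟨y, hy⟩
    refine ⟨sSup c, ⟨fun x hx hx0 => ?_, fun x hx => ?_⟩, fun z hz => le_sSup hz⟩
    · obtain ⟨L, hL, hxL⟩ := (Subring.mem_sSup_of_directedOn hne hdir).mp hx
      obtain ⟨n, u, hu, v, hv, h⟩ := (hc hL).1 x hxL hx0
      exact ⟨n, u, le_sSup hL hu, v, le_sSup hL hv, h⟩
    · obtain ⟨L, hL, hxL⟩ := (Subring.mem_sSup_of_directedOn hne hdir).mp hx
      exact (hc hL).2 x hxL) Λ0 h0
  refine ⟨Λ, hΛ.prop, fun c hc => ?_⟩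
  by_contra hcon
  push Not at hcon
  let res : Λ →+* ResidueField B := (residue B).comp Λ.subtype
  let K : Subfield (ResidueField B) :=
    { res.range with
      inv_mem' := by
        rintro _ ⟨x, rfl⟩
        by_cases hr : res x = 0
        · exact ⟨0, by rw [hr, inv_zero, map_zero]⟩
        obtain ⟨n, u, hu, v, hv, huv, hx⟩ := hΛ.prop.1 x x.2 (fun h => hr (by simp [res, h]))
        have hn : n = 0 := by
          by_contra hn
          exact hr (by simp [res, hx, zero_pow hn])
        refine ⟨⟨v, hv⟩, eq_inv_of_mul_eq_one_left ?_⟩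
        show residue B v * residue B x.1 = 1
        rw [hx, hn, pow_zero, one_mul, ← map_mul, mul_comm, huv, map_one] }
  let π : Λ →+* K := res.codRestrict K (fun x => ⟨x, rfl⟩)
  have hπ : Function.Surjective π := fun ⟨_, x, hx⟩ => ⟨x, Subtype.ext hx⟩
  have hπe : ∀ (G : Polynomial Λ) (t : B), residue B (G.eval₂ Λ.subtype t) = Polynomial.aeval (residue B t) (G.map π) := by
    intro G t
    rw [Polynomial.hom_eval₂, Polynomial.aeval_def, Polynomial.eval₂_map]
    rfl
  suffices ∃ t : B, residue B t = c ∧ ∀ G : Polynomial Λ, G.eval₂ Λ.subtype t ≠ 0 → ∃ G1 : Polynomial Λ,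
      G.eval₂ Λ.subtype t = G1.eval₂ Λ.subtype t ∧
        ∀ H : Polynomial Λ, H.natDegree ≤ G1.natDegree → Polynomial.aeval c (H.map π) = 0 → H.map π = 0 by
    obtain ⟨t, htc, ht⟩ := this
    obtain ⟨Λ', hΛ', hle, htm⟩ := pAdic_extend p hΛ.prop t (htc ▸ hc) (fun G hG => by
      obtain ⟨G1, hG1, hH⟩ := ht G hG
      obtain ⟨n, G', rfl, hdeg, i, hi⟩ := pAdic_factor p hΛ.prop G1 (fun h => hG (by rw [hG1, h, Polynomial.eval₂_zero]))
      refine ⟨n, G', by rw [hG1, Polynomial.eval₂_mul, Polynomial.eval₂_C]; simp, fun h => hi ?_⟩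
      have := congrArg (fun q => Polynomial.coeff q i) (hH G' hdeg (by rw [← htc, ← hπe, h]))
      simp only [Polynomial.coeff_map, Polynomial.coeff_zero] at this
      exact congrArg Subtype.val this)
    exact hcon t ((hΛ.le_of_ge hΛ' hle) htm) htc
  by_cases halg : IsAlgebraic K c
  · have hint : IsIntegral K c := halg.isIntegral
    obtain ⟨F, hFmap, hFdeg, hFm⟩ := Polynomial.lifts_and_degree_eq_and_monic (f := π)
      (p := minpoly K c) (by rw [Polynomial.lifts_iff_coeff_lifts]; exact fun n => hπ _) (minpoly.monic hint)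
    obtain ⟨t', ht'⟩ := residue_surjective (R := B) c
    let FO : Polynomial Ω := F.map (B.subtype.comp Λ.subtype)
    have hFOm : FO.Monic := hFm.map _
    have hroot : ∀ a ∈ FO.roots, a ∈ B := by
      intro a ha
      have hi : IsIntegral B a := ⟨F.map Λ.subtype, hFm.map _, by
        rw [Polynomial.eval₂_map]
        have := (Polynomial.mem_roots hFOm.ne_zero).mp ha
        rwa [Polynomial.IsRoot, Polynomial.eval_map] at this⟩
      obtain ⟨y, hy⟩ := IsIntegrallyClosed.isIntegral_iff.mp hi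
      exact hy ▸ y.2
    obtain ⟨a, haF, hac⟩ : ∃ a : B, (a : Ω) ∈ FO.roots ∧ residue B a = c := by
      by_contra hno
      push Not at hno
      let R' : Multiset B := FO.roots.pmap (fun a h => (⟨a, h⟩ : B)) hroot
      have hprod : F.eval₂ Λ.subtype t' = (R'.map (fun a => t' - a)).prod := by
        apply Subtype.val_injective
        show B.subtype (F.eval₂ Λ.subtype t') = B.subtype _
        rw [Polynomial.hom_eval₂, ← Polynomial.eval_map, show F.map (B.subtype.comp Λ.subtype) = FO from rfl,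
          (IsAlgClosed.splits FO).eval_eq_prod_roots_of_monic hFOm, map_multiset_prod, Multiset.map_map,
          Multiset.map_pmap]
        simp [Multiset.pmap_eq_map]
      have h1 := congrArg (residue B) hprod
      rw [hπe, ht', hFmap, minpoly.aeval, map_multiset_prod, eq_comm, Multiset.prod_eq_zero_iff] at h1
      simp only [R', Multiset.mem_map, Multiset.mem_pmap] at h1
      obtain ⟨_, ⟨_, ⟨a, ha, rfl⟩, rfl⟩, h⟩ := h1
      rw [map_sub, ht', sub_eq_zero] at h
      exact hno ⟨a, hroot a ha⟩ ha h.symm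
    refine ⟨a, hac, fun G _ => ⟨G %ₘ F, ?_, fun H hH hH0 => ?_⟩⟩
    · have hF0 : F.eval₂ Λ.subtype a = 0 := by
        apply Subtype.val_injective
        show B.subtype (F.eval₂ Λ.subtype a) = 0
        rw [Polynomial.hom_eval₂, ← Polynomial.eval_map]
        exact (Polynomial.mem_roots hFOm.ne_zero).mp haF
      conv_lhs => rw [← Polynomial.modByMonic_add_div G F]
      rw [Polynomial.eval₂_add, Polynomial.eval₂_mul, hF0, zero_mul, add_zero]
    · by_contra hne
      have h2 : (minpoly K c).natDegree ≤ (H.map π).natDegree :=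
        Polynomial.natDegree_le_natDegree (minpoly.degree_le_of_ne_zero K c hne hH0)
      have h3 : (H.map π).natDegree ≤ H.natDegree := Polynomial.natDegree_map_le
      have h4 : (minpoly K c).natDegree = F.natDegree := (Polynomial.natDegree_eq_of_degree_eq hFdeg).symm
      have h5 : (G %ₘ F).natDegree < F.natDegree := Polynomial.natDegree_modByMonic_lt G hFm (fun h => by
        have := minpoly.natDegree_pos hint
        rw [h4, h, Polynomial.natDegree_one] at this
        omega)
      omega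
  · obtain ⟨t, ht⟩ := residue_surjective (R := B) c
    exact ⟨t, ht, fun G _ => ⟨G, rfl, fun H _ hH => by_contra fun hne => halg ⟨_, hne, hH⟩⟩⟩

/-- Existence of Cohen rings. -/
theorem exists_cohenRing (p : ℕ) [hp : Fact p.Prime] (k : Type u) [Field k] [CharP k p] :
    ∃ (Λ : Type u) (_ : CommRing Λ) (_ : IsLocalRing Λ), CAlg.IsCohenRing Λ ∧
      Nonempty (IsLocalRing.ResidueField Λ ≃+* k) := by
  classical
  obtain ⟨Ω, _, _, _, B, ⟨ι⟩⟩ := exists_big_valuationSubring k
  have : CharP (ResidueField B) p := (ι.charP_iff_charP p).mp inferInstance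
  obtain ⟨Λ, hΛ, hfull⟩ := exists_pAdic_full B p ι.fieldRange
  have hpB : (p : B) ≠ 0 := Nat.cast_ne_zero.mpr hp.out.ne_zero
  have hpr : residue B (p : B) = 0 := by rw [map_natCast, CharP.cast_eq_zero]
  have hunit : ∀ x : Λ, IsUnit x ↔ residue B (x : B) ≠ 0 := fun x => by
    refine ⟨fun h => ((h.map Λ.subtype).map (residue B)).ne_zero, fun h => ?_⟩
    obtain ⟨n, u, hu, v, hv, huv, hx⟩ := hΛ.1 x x.2 (fun h0 => h (by rw [h0, map_zero]))
    have hn : n = 0 := by
      by_contra hn
      exact h (by rw [hx, map_mul, map_pow, hpr, zero_pow hn, zero_mul])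
    refine IsUnit.of_mul_eq_one (⟨v, hv⟩ : Λ) (Subtype.ext ?_)
    show (x : B) * v = 1
    rw [hx, hn, pow_zero, one_mul, huv]
  have hirr : Irreducible (p : Λ) := by
    refine ⟨fun h => (hunit _).mp h (by simpa using hpr), fun a b hab => ?_⟩
    rw [hunit, hunit]
    by_contra hne
    push Not at hne
    obtain ⟨n, u, hu, v, hv, huv, ha⟩ := hΛ.1 a a.2 (fun h0 => hpB (by simpa [h0] using congrArg Subtype.val hab))
    obtain ⟨m, u', hu', v', hv', huv', hb⟩ := hΛ.1 b b.2 (fun h0 => hpB (by simpa [h0] using congrArg Subtype.val hab))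
    have hn : n ≠ 0 := fun h => by
      rw [ha, h, pow_zero, one_mul] at hne
      exact left_ne_zero_of_mul_eq_one ((map_mul (residue B) u v).symm.trans (by rw [huv, map_one])) hne.1
    have hm : m ≠ 0 := fun h => by
      rw [hb, h, pow_zero, one_mul] at hne
      exact left_ne_zero_of_mul_eq_one ((map_mul (residue B) u' v').symm.trans (by rw [huv', map_one])) hne.2
    have h1 : (p : B) * 1 = (p : B) * ((p : B) ^ (n - 1 + m) * (u * u')) := by
      have h0 := congrArg Subtype.val hab
      simp only [Subring.coe_natCast, Subring.coe_mul] at h0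
      rw [ha, hb] at h0
      rw [mul_one]
      refine h0.trans ?_
      conv_lhs => rw [show n = (n - 1) + 1 by omega, pow_succ]
      rw [pow_add]; ring
    have h2 := congrArg (residue B) (mul_left_cancel₀ hpB h1)
    rw [map_one, map_mul, map_pow, hpr, zero_pow (by omega), zero_mul] at h2
    exact one_ne_zero h2
  have : IsDiscreteValuationRing Λ := IsDiscreteValuationRing.ofHasUnitMulPowIrreducibleFactorization
    ⟨(p : Λ), hirr, fun {x} hx => by
      obtain ⟨n, u, hu, v, hv, huv, hxe⟩ := hΛ.1 x x.2 (fun h => hx (Subtype.ext h))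
      exact ⟨n, ⟨⟨u, hu⟩, ⟨v, hv⟩, Subtype.ext huv, Subtype.ext (by simpa [mul_comm] using huv)⟩,
        Subtype.ext (by simp [hxe])⟩⟩
  have hmax : maximalIdeal Λ = Ideal.span {(p : Λ)} := hirr.maximalIdeal_eq
  let C := AdicCompletion (maximalIdeal Λ) Λ
  have : IsLocalRing C := inferInstance
  have hfg : (maximalIdeal Λ).FG := IsNoetherian.noetherian _
  have hcomp : IsAdicComplete (maximalIdeal C) C := inferInstance
  have hmC : maximalIdeal C = Ideal.span {(p : C)} := by
    rw [AdicCompletion.maximalIdeal_eq_map]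
    exact (congrArg (Ideal.map (algebraMap Λ C)) hmax).trans (by rw [Ideal.map_span, Set.image_singleton, map_natCast])
  have hpC : ∀ z : C, (p : C) * z = 0 → z = 0 := by
    intro z hz
    have : IsSMulRegular C (p : Λ) := Module.Flat.isSMulRegular_of_isRegular (IsRegular.of_ne_zero hirr.ne_zero)
    apply this
    show (p : Λ) • z = (p : Λ) • 0
    rw [smul_zero, Algebra.smul_def, map_natCast, hz]
  have hfac : ∀ z : C, z ≠ 0 → ∃ n : ℕ, ∃ w : Cˣ, (p : C) ^ n * w = z := by
    intro z hz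
    have hex : ∃ n, z ∉ maximalIdeal C ^ n := by
      by_contra h
      push Not at h
      exact hz (IsHausdorff.haus hcomp.toIsHausdorff z fun n => by simpa [SModEq.zero] using h n)
    obtain ⟨n, hn, hn'⟩ : ∃ n, z ∈ maximalIdeal C ^ n ∧ z ∉ maximalIdeal C ^ (n + 1) := by
      obtain ⟨m, hm⟩ : ∃ m, Nat.find hex = m + 1 := Nat.exists_eq_succ_of_ne_zero fun h => by
        have := Nat.find_spec hex
        rw [h, pow_zero, Ideal.one_eq_top] at this
        exact this trivial
      exact ⟨m, not_not.mp (Nat.find_min hex (by omega)), hm ▸ Nat.find_spec hex⟩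
    rw [hmC, Ideal.span_singleton_pow, Ideal.mem_span_singleton] at hn
    obtain ⟨w, rfl⟩ := hn
    have hw : IsUnit w := by
      by_contra hw
      apply hn'
      rw [pow_succ]
      refine Ideal.mul_mem_mul (Ideal.pow_mem_pow ?_ n) ((mem_maximalIdeal _).mpr hw)
      rw [hmC]; exact Ideal.mem_span_singleton_self _
    exact ⟨n, hw.unit, rfl⟩
  have : IsDomain C := by
    have : NoZeroDivisors C := ⟨fun {a b} hab => by
      by_contra h
      push Not at h
      obtain ⟨n, w, rfl⟩ := hfac a h.1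
      obtain ⟨m, w', rfl⟩ := hfac b h.2
      have h2 : (p : C) ^ (n + m) * ((w * w' : Cˣ) : C) = 0 := by rw [← hab, pow_add]; push_cast; ring
      rw [Units.mul_left_eq_zero] at h2
      have h3 : ∀ j, (p : C) ^ j ≠ 0 := by
        intro j
        induction j with
        | zero => rw [pow_zero]; exact one_ne_zero
        | succ j ihj => rw [pow_succ']; exact fun h => ihj (hpC _ h)
      exact h3 _ h2⟩
    exact NoZeroDivisors.to_isDomain _
  have hirrC : Irreducible (p : C) := by
    refine ⟨fun h => (IsLocalRing.maximalIdeal.isMaximal C).ne_top (by rw [hmC]; exact Ideal.span_singleton_eq_top.mpr h), fun a b hab => ?_⟩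
    by_contra h
    push Not at h
    have ha := (mem_maximalIdeal a).mpr h.1
    have hb := (mem_maximalIdeal b).mpr h.2
    rw [hmC, Ideal.mem_span_singleton] at ha hb
    obtain ⟨a', rfl⟩ := ha; obtain ⟨b', rfl⟩ := hb
    have h3 : (p : C) * (1 - (p : C) * (a' * b')) = 0 := by
      rw [mul_sub, mul_one, sub_eq_zero]; exact hab.trans (by ring)
    have h4 : (1 : C) ∈ maximalIdeal C := by
      rw [sub_eq_zero.mp (hpC _ h3), hmC]
      exact Ideal.mul_mem_right _ _ (Ideal.mem_span_singleton_self _)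
    exact (IsLocalRing.maximalIdeal.isMaximal C).ne_top ((Ideal.eq_top_iff_one _).mpr h4)
  have : IsDiscreteValuationRing C := IsDiscreteValuationRing.ofHasUnitMulPowIrreducibleFactorization
    ⟨(p : C), hirrC, fun {x} hx => hfac x hx⟩
  let r : ResidueField Λ →+* ResidueField B := Ideal.Quotient.lift _ ((residue B).comp Λ.subtype) (fun x hx => by
    by_contra h
    exact ((mem_maximalIdeal x).mp hx) ((hunit x).mpr h))
  have hr : ∀ y, r y ∈ ι.fieldRange := fun y => by
    obtain ⟨x, rfl⟩ := residue_surjective y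
    exact hΛ.2 x x.2
  let e1 : ResidueField Λ ≃+* ι.fieldRange := RingEquiv.ofBijective (r.codRestrict ι.fieldRange hr)
    ⟨RingHom.injective _, fun c => by
      obtain ⟨x, hx, hxc⟩ := hfull c c.2
      exact ⟨residue Λ ⟨x, hx⟩, Subtype.ext hxc⟩⟩
  let e2 : k ≃+* ι.fieldRange := RingEquiv.ofBijective ι.rangeRestrictField
    ⟨RingHom.injective _, fun ⟨_, x, hx⟩ => ⟨x, Subtype.ext hx⟩⟩
  exact ⟨C, inferInstance, inferInstance, ⟨inferInstance, inferInstance, hcomp, p, hp.out, hmC⟩,
    ⟨(RingEquiv.ofBijective _ (AdicCompletion.residueField_map_bijective Λ)).symm.trans (e1.trans e2.symm)⟩⟩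

end Groth.Agent.CAlgH
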