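import Mathlib

universe u v
open TensorProduct

namespace Groth.Agent.CAlgH

theorem kerCotangentToTensor_self_eq_zero_iff {F : Type u} {k : Type v} [CommRing F] [CommRing k] [Algebra F k]
    [Algebra (MvPolynomial k F) k] [IsScalarTower F (MvPolynomial k F) k]
    (x : RingHom.ker (algebraMap (MvPolynomial k F) k)) :
    KaehlerDifferential.kerCotangentToTensor F (MvPolynomial k F) k (Ideal.toCotangent _ x) = 0 ↔
      ∀ i, algebraMap (MvPolynomial k F) k (MvPolynomial.pderiv i x.1) = 0 := by
  rw [KaehlerDifferential.kerCotangentToTensor_toCotangent]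
  let b := (KaehlerDifferential.mvPolynomialBasis F k).baseChange k
  rw [← b.repr.map_eq_zero_iff, Finsupp.ext_iff]
  refine forall_congr' fun i => ?_
  simp [b, Algebra.smul_def]

theorem formallySmooth_of_perfectField_any (F : Type u) [Field F] [PerfectField F] (k : Type v) [Field k]
    [Algebra F k] : Algebra.FormallySmooth F k := by
  classical
  letI : Algebra (MvPolynomial k F) k := (MvPolynomial.aeval (id : k → k)).toRingHom.toAlgebra
  have : IsScalarTower F (MvPolynomial k F) k := IsScalarTower.of_algHom (MvPolynomial.aeval (id : k → k))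
  have hsurj : Function.Surjective (algebraMap (MvPolynomial k F) k) := fun a =>
    ⟨MvPolynomial.X a, MvPolynomial.aeval_X _ _⟩
  refine ⟨inferInstance, (Algebra.FormallySmooth.kerCotangentToTensor_injective_iff hsurj).mp ?_⟩
  rw [injective_iff_map_eq_zero]
  intro z hz
  obtain ⟨⟨x, hx⟩, rfl⟩ := Ideal.toCotangent_surjective _ z
  rw [kerCotangentToTensor_self_eq_zero_iff] at hz
  obtain ⟨s, q, rfl⟩ := MvPolynomial.exists_finset_rename x
  let k0 : IntermediateField F k := IntermediateField.adjoin F (s : Set k)
  have : Algebra.EssFiniteType F k0 := IntermediateField.essFiniteType_iff.mpr ⟨s, rfl⟩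
  let inc : s → k0 := fun a => ⟨a.1, IntermediateField.subset_adjoin F _ a.2⟩
  letI : Algebra (MvPolynomial k0 F) k0 := (MvPolynomial.aeval (id : k0 → k0)).toRingHom.toAlgebra
  have : IsScalarTower F (MvPolynomial k0 F) k0 := IsScalarTower.of_algHom (MvPolynomial.aeval (id : k0 → k0))
  have hsurj0 : Function.Surjective (algebraMap (MvPolynomial k0 F) k0) := fun a =>
    ⟨MvPolynomial.X a, MvPolynomial.aeval_X _ _⟩
  have hinj := (Algebra.FormallySmooth.kerCotangentToTensor_injective_iff (R := F) hsurj0).mpr inferInstance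
  let ren : MvPolynomial k0 F →ₐ[F] MvPolynomial k F := MvPolynomial.rename Subtype.val
  have hcomp : ∀ y, algebraMap (MvPolynomial k F) k (ren y) = (algebraMap (MvPolynomial k0 F) k0 y : k) := by
    intro y
    exact DFunLike.congr_fun
      (MvPolynomial.algHom_ext (f := (MvPolynomial.aeval (id : k → k)).comp ren)
        (g := k0.val.comp (MvPolynomial.aeval (id : k0 → k0))) (fun i => by simp [ren])) y
  let q0 : MvPolynomial k0 F := MvPolynomial.rename inc q
  have hq : ren q0 = MvPolynomial.rename Subtype.val q := by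
    simp only [ren, q0, MvPolynomial.rename_rename]; rfl
  have hq0 : q0 ∈ RingHom.ker (algebraMap (MvPolynomial k0 F) k0) := by
    rw [RingHom.mem_ker]
    apply Subtype.ext
    rw [← hcomp, hq]; exact hx
  have h0 : Ideal.toCotangent _ ⟨q0, hq0⟩ = 0 := by
    apply hinj
    rw [map_zero, kerCotangentToTensor_self_eq_zero_iff]
    intro i
    apply Subtype.ext
    rw [← hcomp]
    show algebraMap (MvPolynomial k F) k (MvPolynomial.rename Subtype.val (MvPolynomial.pderiv i q0)) = 0
    rw [← MvPolynomial.pderiv_rename Subtype.val_injective]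
    show algebraMap (MvPolynomial k F) k (MvPolynomial.pderiv i.1 (ren q0)) = 0
    rw [hq]; exact hz i.1
  rw [Ideal.toCotangent_eq_zero] at h0 ⊢
  show MvPolynomial.rename Subtype.val q ∈ _
  rw [← hq]
  have := Ideal.mem_map_of_mem ren h0
  rw [Ideal.map_pow] at this
  refine Ideal.pow_right_mono ?_ 2 this
  rw [Ideal.map_le_iff_le_comap]
  intro y hy
  rw [Ideal.mem_comap, RingHom.mem_ker, hcomp, RingHom.mem_ker.mp hy]
  rfl

end Groth.Agent.CAlgH
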