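import Mathlib.RingTheory.Flat.Equalizer
import Mathlib.LinearAlgebra.TensorProduct.Quotient

/-! `K ⊓ I•M ≤ I•K` when `M/K` is flat. -/
universe u
open TensorProduct

namespace Groth.Agent.CAlgH

theorem inf_smul_top_le_of_flat_quotient {R : Type*} [CommRing R] {M : Type*} [AddCommGroup M]
    [Module R M] (K : Submodule R M) (I : Ideal R) [Module.Flat R (M ⧸ K)] :
    K ⊓ (I • ⊤ : Submodule R M) ≤ I • K := by
  rintro x ⟨hxK, hxI⟩
  have hinj := LinearMap.lTensor_injective_of_exact_of_flat K.mkQ K.mkQ_surjective K.subtype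
    K.injective_subtype (LinearMap.exact_subtype_mkQ K) (R ⧸ I)
  have h0 : (Ideal.Quotient.mk I 1) ⊗ₜ[R] (⟨x, hxK⟩ : K) = 0 := by
    apply hinj
    rw [LinearMap.lTensor_tmul, map_zero, Submodule.subtype_apply]
    apply (TensorProduct.quotTensorEquivQuotSMul M I).injective
    rw [map_zero, TensorProduct.quotTensorEquivQuotSMul_mk_tmul, one_smul]
    simpa [Submodule.Quotient.mk_eq_zero] using hxI
  have := congrArg (TensorProduct.quotTensorEquivQuotSMul K I) h0
  rw [map_zero, TensorProduct.quotTensorEquivQuotSMul_mk_tmul, one_smul] at this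
  simp [Submodule.Quotient.mk_eq_zero] at this
  have h2 := Submodule.mem_map_of_mem (f := K.subtype) this
  rw [Submodule.map_smul'', Submodule.map_top, Submodule.range_subtype] at h2
  exact h2


end Groth.Agent.CAlgH
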