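import Mathlib
import Groth.Agent.CAlgH.FlatQuotient

universe u v
open TensorProduct

namespace Groth.Agent.CAlgH

theorem apply_kerCotangentToTensor {F σ A : Type*} [CommRing F] [CommRing A] [Algebra F A]
    [Algebra (MvPolynomial σ F) A] [IsScalarTower F (MvPolynomial σ F) A] {N : Type*} [AddCommGroup N]
    [Module (MvPolynomial σ F) N] (l : A ⊗[MvPolynomial σ F] Ω[MvPolynomial σ F⁄F] →ₗ[MvPolynomial σ F] N)
    (x : RingHom.ker (algebraMap (MvPolynomial σ F) A)) :
    l (KaehlerDifferential.kerCotangentToTensor F (MvPolynomial σ F) A (Ideal.toCotangent _ x)) =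
      ((KaehlerDifferential.mvPolynomialBasis F σ).repr (KaehlerDifferential.D F _ x.1)).sum
        fun i c => c • l (1 ⊗ₜ KaehlerDifferential.D F _ (MvPolynomial.X i)) := by
  rw [KaehlerDifferential.kerCotangentToTensor_toCotangent]
  let m : Ω[MvPolynomial σ F⁄F] →ₗ[MvPolynomial σ F] N :=
    l ∘ₗ (TensorProduct.mk (MvPolynomial σ F) A _ 1)
  show m (KaehlerDifferential.D F _ x.1) = _
  conv_lhs => rw [← (KaehlerDifferential.mvPolynomialBasis F σ).linearCombination_repr (KaehlerDifferential.D F _ x.1)]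
  simp [Finsupp.linearCombination_apply, map_finsuppSum, m, KaehlerDifferential.mvPolynomialBasis_apply]

theorem smul_top_pow_le {P : Type*} [CommRing P] {N : Type*} [AddCommGroup N] [Module P N]
    (a : Ideal P) (δ : N →ₗ[P] N) (h : ∀ z, δ z ∈ a • (⊤ : Submodule P N)) :
    ∀ (k : ℕ) z, (δ ^ k) z ∈ a ^ k • (⊤ : Submodule P N) := by
  intro k
  induction k with
  | zero => intro z; simp
  | succ k ih =>
    intro z
    rw [show (δ ^ (k + 1)) z = (δ ^ k) (δ z) by rw [pow_succ]; rfl]
    have : (a • (⊤ : Submodule P N)).map (δ ^ k) ≤ a ^ (k+1) • ⊤ := by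
      rw [Submodule.map_smul'', pow_succ', Submodule.mul_smul]
      refine Submodule.smul_mono le_rfl ?_
      rintro _ ⟨y, -, rfl⟩
      exact ih y
    exact this ⟨δ z, h z, rfl⟩

/-- A flat algebra which is formally smooth modulo a nilpotent ideal is formally smooth. -/
theorem formallySmooth_of_flat_of_nilpotent {R R' : Type v} {S S' : Type u} [CommRing R] [CommRing S] [Algebra R S]
    [Module.Flat R S] [CommRing R'] [CommRing S'] [Algebra R' S']
    (π : R →+* R') (hπ : Function.Surjective π) (hnil : IsNilpotent (RingHom.ker π))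
    (q : S →+* S') (hq : Function.Surjective q) (hcomm : q.comp (algebraMap R S) = (algebraMap R' S').comp π)
    (hker : RingHom.ker q ≤ (RingHom.ker π).map (algebraMap R S)) [Algebra.FormallySmooth R' S'] :
    Algebra.FormallySmooth R S := by
  classical
  let red : MvPolynomial S R →+* MvPolynomial S R' := MvPolynomial.map π
  have hred : Function.Surjective red := MvPolynomial.map_surjective π hπ
  let ev : MvPolynomial S R →ₐ[R] S := MvPolynomial.aeval id
  have hev : Function.Surjective ev := fun a => ⟨MvPolynomial.X a, MvPolynomial.aeval_X _ _⟩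
  let I : Ideal (MvPolynomial S R) := RingHom.ker ev
  refine (Algebra.FormallySmooth.iff_of_equiv (Ideal.quotientKerAlgEquivOfSurjective hev)).mp ?_
  have : Module.Flat R (MvPolynomial S R ⧸ I) :=
    Module.Flat.of_linearEquiv (Ideal.quotientKerAlgEquivOfSurjective hev).toLinearEquiv
  letI : Algebra (MvPolynomial S R') S' := (MvPolynomial.aeval (fun a => q a)).toRingHom.toAlgebra
  have : IsScalarTower R' (MvPolynomial S R') S' := IsScalarTower.of_algHom (MvPolynomial.aeval (fun a => q a))
  have hsq : ∀ y, algebraMap (MvPolynomial S R') S' (red y) = q (ev y) := by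
    intro y
    refine DFunLike.congr_fun (MvPolynomial.ringHom_ext (f := (algebraMap (MvPolynomial S R') S').comp red)
      (g := q.comp ev.toRingHom) (fun r => ?_) (fun a => ?_)) y
    · simp [red, ev, RingHom.algebraMap_toAlgebra]
      exact (DFunLike.congr_fun hcomm r).symm
    · simp [red, ev, RingHom.algebraMap_toAlgebra]
  have hsurj' : Function.Surjective (algebraMap (MvPolynomial S R') S') := fun a => by
    obtain ⟨b, rfl⟩ := hq a
    exact ⟨MvPolynomial.X b, MvPolynomial.aeval_X _ _⟩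
  obtain ⟨l', hl'⟩ := (Algebra.FormallySmooth.iff_split_injection (R := R') hsurj').mp inferInstance
  let I' : Ideal (MvPolynomial S R') := RingHom.ker (algebraMap (MvPolynomial S R') S')
  let 𝔞 : Ideal (MvPolynomial S R) := RingHom.ker red
  have h𝔞 : 𝔞 = (RingHom.ker π).map MvPolynomial.C := MvPolynomial.ker_map π
  have hII' : I ≤ I'.comap red := fun x hx => by
    simp only [I', Ideal.mem_comap, RingHom.mem_ker, hsq]
    rw [show ev x = 0 from hx, map_zero]
  have hI'surj : ∀ y ∈ I', ∃ x ∈ I, red x = y := by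
    intro y hy
    obtain ⟨x, rfl⟩ := hred y
    have h1 : ev x ∈ (RingHom.ker π).map (algebraMap R S) := hker (by rw [RingHom.mem_ker, ← hsq]; exact hy)
    have h2 : (RingHom.ker π).map (algebraMap R S) = 𝔞.map ev := by
      rw [h𝔞, ← Ideal.map_coe ev, Ideal.map_map]; congr 1; ext r; simp [ev]
    rw [h2, Ideal.mem_map_iff_of_surjective _ hev] at h1
    obtain ⟨z, hz, hzx⟩ := h1
    refine ⟨x - z, ?_, ?_⟩
    · show ev (x - z) = 0
      rw [map_sub]; exact sub_eq_zero.mpr hzx.symm
    · rw [map_sub, RingHom.mem_ker.mp hz, sub_zero]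
  -- the algebra MvPolynomial S R → its quotient
  have hmk : RingHom.ker (algebraMap (MvPolynomial S R) (MvPolynomial S R ⧸ I)) = I := by
    rw [Ideal.Quotient.algebraMap_eq, Ideal.mk_ker]
  let J : Ideal (MvPolynomial S R) := RingHom.ker (algebraMap (MvPolynomial S R) (MvPolynomial S R ⧸ I))
  let mc : J.Cotangent →ₗ[ℤ] I'.Cotangent :=
    Ideal.mapCotangent J I' red.toIntAlgHom (by rw [show J = I from hmk]; exact hII')
  have hmc : Function.Surjective mc := by
    intro z
    obtain ⟨⟨y, hy⟩, rfl⟩ := Ideal.toCotangent_surjective _ z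
    obtain ⟨x, hx, rfl⟩ := hI'surj y hy
    exact ⟨Ideal.toCotangent _ ⟨x, hmk.ge hx⟩, rfl⟩
  have hmcsmul : ∀ (c : MvPolynomial S R) z, mc (c • z) = red c • mc z := by
    intro c z
    obtain ⟨x, rfl⟩ := Ideal.toCotangent_surjective _ z
    rw [← map_smul, Ideal.mapCotangent_toCotangent, Ideal.mapCotangent_toCotangent, ← map_smul]
    congr 1
    apply Subtype.ext
    exact map_mul red c x
  choose w hw using fun i : S => hmc (l' (1 ⊗ₜ KaehlerDifferential.D R' _ (MvPolynomial.X i)))
  have hmodJ : ∀ c ∈ J, ∀ z : J.Cotangent, c • z = 0 := fun c hc z => Ideal.Cotangent.smul_eq_zero_of_mem hc z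
  let m : Ω[MvPolynomial S R⁄R] →ₗ[MvPolynomial S R] J.Cotangent :=
    (KaehlerDifferential.mvPolynomialBasis R S).constr ℕ w
  let B : (MvPolynomial S R ⧸ I) →ₗ[MvPolynomial S R] Ω[MvPolynomial S R⁄R] →ₗ[MvPolynomial S R] J.Cotangent :=
    Submodule.liftQ I (LinearMap.toSpanSingleton _ _ m) (fun c hc => by
      apply LinearMap.ext
      intro x
      exact hmodJ c (hmk.ge hc) (m x))
  let l0 : (MvPolynomial S R ⧸ I) ⊗[MvPolynomial S R] Ω[MvPolynomial S R⁄R] →ₗ[MvPolynomial S R] J.Cotangent :=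
    TensorProduct.lift B
  have hl0 : ∀ i, l0 (1 ⊗ₜ KaehlerDifferential.D R _ (MvPolynomial.X i)) = w i := by
    intro i
    rw [TensorProduct.lift.tmul, ← map_one (Ideal.Quotient.mk I), ← Ideal.Quotient.mk_eq_mk]
    show ((1 : MvPolynomial S R) • m) _ = w i
    rw [one_smul, ← KaehlerDifferential.mvPolynomialBasis_apply]
    exact Module.Basis.constr_basis _ _ _ _
  let d := KaehlerDifferential.kerCotangentToTensor R (MvPolynomial S R) (MvPolynomial S R ⧸ I)
  let δ : Module.End (MvPolynomial S R) J.Cotangent := LinearMap.id - l0 ∘ₗ d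
  have hmcd : ∀ z, mc (l0 (d z)) = mc z := by
    intro z
    obtain ⟨x, rfl⟩ := Ideal.toCotangent_surjective _ z
    rw [apply_kerCotangentToTensor, map_finsuppSum]
    simp only [hl0, hmcsmul, hw]
    have h1 := apply_kerCotangentToTensor l' ⟨red x.1, hII' (hmk.le x.2)⟩
    rw [← LinearMap.comp_apply, hl', LinearMap.id_apply] at h1
    refine Eq.trans ?_ h1.symm
    have h2 : (KaehlerDifferential.mvPolynomialBasis R' S).repr (KaehlerDifferential.D R' _ (red x.1)) =
        ((KaehlerDifferential.mvPolynomialBasis R S).repr (KaehlerDifferential.D R _ x.1)).mapRange red (map_zero _) := by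
      ext1 i
      simp [red, MvPolynomial.pderiv_map]
    rw [h2, Finsupp.sum_mapRange_index (fun i => by simp)]
  have hkerq : ∀ z, δ z ∈ 𝔞 • (⊤ : Submodule (MvPolynomial S R) J.Cotangent) := by
    intro z
    have h0 : mc (δ z) = 0 := by simp [δ, map_sub, hmcd]
    obtain ⟨⟨y, hy⟩, hyz⟩ := Ideal.toCotangent_surjective _ (δ z)
    rw [← hyz] at h0 ⊢
    rw [Ideal.mapCotangent_toCotangent, Ideal.toCotangent_eq_zero] at h0
    have hI2 : I' ^ 2 = (I ^ 2).map red := by
      rw [Ideal.map_pow]
      congr 1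
      refine le_antisymm (fun y hy => ?_) (Ideal.map_le_iff_le_comap.mpr hII')
      obtain ⟨x, hx, rfl⟩ := hI'surj y hy
      exact Ideal.mem_map_of_mem _ hx
    rw [hI2] at h0
    obtain ⟨u, hu, hue⟩ := (Ideal.mem_map_iff_of_surjective _ hred).mp h0
    have huI : u ∈ I := Ideal.pow_le_self two_ne_zero hu
    have hyu : y - u ∈ 𝔞 := by
      simp only [𝔞, RingHom.mem_ker, map_sub]
      exact sub_eq_zero.mpr hue.symm
    have h𝔞R : (𝔞.restrictScalars R : Submodule R (MvPolynomial S R)) = RingHom.ker π • ⊤ := by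
      rw [Ideal.smul_top_eq_map, h𝔞]; rfl
    have hflat : y - u ∈ RingHom.ker π • (I.restrictScalars R : Submodule R (MvPolynomial S R)) := by
      haveI hfl : Module.Flat R (MvPolynomial S R ⧸ (I.restrictScalars R : Submodule R (MvPolynomial S R))) :=
        Module.Flat.of_linearEquiv (Submodule.Quotient.restrictScalarsEquiv R I)
      refine @inf_smul_top_le_of_flat_quotient R _ (MvPolynomial S R) _ _ (I.restrictScalars R) (RingHom.ker π) hfl _ ⟨?_, h𝔞R ▸ hyu⟩
      exact I.sub_mem (hmk.le hy) huI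
    have hmem : ∀ v, v ∈ RingHom.ker π • (I.restrictScalars R : Submodule R (MvPolynomial S R)) →
        ∃ hv : v ∈ J, Ideal.toCotangent J ⟨v, hv⟩ ∈ 𝔞 • (⊤ : Submodule (MvPolynomial S R) J.Cotangent) := by
      intro v hv
      refine Submodule.smul_induction_on' hv (p := fun v _ => ∃ hv : v ∈ J, Ideal.toCotangent J ⟨v, hv⟩ ∈ 𝔞 • (⊤ : Submodule (MvPolynomial S R) J.Cotangent)) ?_ ?_
      · intro r hr x hx
        have hx' : x ∈ J := hmk.ge hx
        refine ⟨J.smul_mem (MvPolynomial.C r) hx' |> (fun h => by rwa [MvPolynomial.smul_eq_C_mul]), ?_⟩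
        have : Ideal.toCotangent J ⟨r • x, by rw [MvPolynomial.smul_eq_C_mul]; exact J.smul_mem _ hx'⟩ =
            (MvPolynomial.C r : MvPolynomial S R) • Ideal.toCotangent J ⟨x, hx'⟩ := by
          rw [← map_smul]; congr 1; ext1; exact MvPolynomial.smul_eq_C_mul x r
        rw [this]
        exact Submodule.smul_mem_smul (by rw [h𝔞]; exact Ideal.mem_map_of_mem _ hr) trivial
      · intro a _ b _ ha hb
        obtain ⟨ha', ha''⟩ := ha; obtain ⟨hb', hb''⟩ := hb
        refine ⟨J.add_mem ha' hb', ?_⟩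
        have := Submodule.add_mem _ ha'' hb''
        rwa [← map_add] at this
    obtain ⟨hv, hv'⟩ := hmem _ hflat
    convert hv' using 1
    rw [Ideal.toCotangent_eq]
    simpa [show J = I from hmk] using hu
  obtain ⟨k, hk⟩ := hnil
  have hδ : IsNilpotent δ := ⟨k, LinearMap.ext fun z => by
    have := smul_top_pow_le 𝔞 δ hkerq k z
    rw [h𝔞, ← Ideal.map_pow, hk, Ideal.zero_eq_bot, Ideal.map_bot, Submodule.bot_smul] at this
    simpa using this⟩
  obtain ⟨v, hv⟩ := hδ.isUnit_one_sub
  refine (Algebra.FormallySmooth.iff_split_injection (R := R) (P := MvPolynomial S R) (Ideal.Quotient.mk_surjective)).mpr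
    ⟨(↑v⁻¹ : Module.End (MvPolynomial S R) J.Cotangent) ∘ₗ l0, ?_⟩
  have : l0 ∘ₗ d = (v : Module.End (MvPolynomial S R) J.Cotangent) := by
    rw [hv]; ext z; simp [δ]
  rw [LinearMap.comp_assoc]
  show (↑v⁻¹ : Module.End (MvPolynomial S R) J.Cotangent) * (l0 ∘ₗ d) = 1
  rw [this, Units.inv_mul]

end Groth.Agent.CAlgH
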