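import Mathlib
import Groth.Agent.CAlgH.FieldSmooth
import Groth.Agent.CAlgH.FlatFormallySmooth

universe u v
open TensorProduct

namespace Groth.Agent.CAlgH

theorem natCast_ne_zero_of_isMaximal {Λ : Type u} [CommRing Λ] [IsDomain Λ] (p : ℕ) [hp : Fact p.Prime]
    (hmax : (Ideal.span {(p : Λ)}).IsMaximal) (h0 : (p : Λ) ≠ 0) : CharZero Λ := by
  refine charZero_of_inj_zero fun m hm => ?_
  by_contra hm0
  obtain ⟨k, l, hl, rfl⟩ := Nat.exists_eq_pow_mul_and_not_dvd hm0 p hp.out.ne_one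
  rw [Nat.cast_mul, Nat.cast_pow, mul_eq_zero] at hm
  rcases hm with hm | hm
  · exact h0 (pow_eq_zero_iff'.mp hm).1
  · have hco : IsCoprime (p : ℤ) (l : ℤ) := Int.isCoprime_iff_gcd_eq_one.mpr (by
      simpa using (Nat.Prime.coprime_iff_not_dvd hp.out).mpr hl)
    obtain ⟨a, b, hab⟩ := hco
    apply hmax.ne_top
    rw [Ideal.eq_top_iff_one, Ideal.mem_span_singleton']
    refine ⟨(a : Λ), ?_⟩
    have := congrArg (Int.cast : ℤ → Λ) hab
    push_cast at this
    rw [hm, mul_zero, add_zero] at this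
    exact this

theorem formallySmooth_zmod_quotient (Λ : Type u) [CommRing Λ] [IsDomain Λ] (p : ℕ) [hp : Fact p.Prime]
    (hmax : (Ideal.span {(p : Λ)}).IsMaximal) (h0 : (p : Λ) ≠ 0) (n : ℕ) (hn : n ≠ 0)
    [Algebra (ZMod (p ^ n)) (Λ ⧸ Ideal.span {((p : Λ) ^ n)})] :
    Algebra.FormallySmooth (ZMod (p ^ n)) (Λ ⧸ Ideal.span {((p : Λ) ^ n)}) := by
  have : CharZero Λ := natCast_ne_zero_of_isMaximal p hmax h0
  have : Module.IsTorsionFree ℤ Λ := inferInstance
  have : Module.Flat ℤ Λ := inferInstance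
  let S := Λ ⧸ Ideal.span {((p : Λ) ^ n)}
  let mkℤ : Λ →ₐ[ℤ] S := (Ideal.Quotient.mk _).toIntAlgHom
  let fwd : ZMod (p ^ n) ⊗[ℤ] Λ →ₐ[ZMod (p ^ n)] S :=
    Algebra.TensorProduct.lift (Algebra.ofId _ _) mkℤ (fun _ _ => Commute.all _ _)
  let g : S →+* ZMod (p ^ n) ⊗[ℤ] Λ := Ideal.Quotient.lift _
    (Algebra.TensorProduct.includeRight : Λ →ₐ[ℤ] ZMod (p ^ n) ⊗[ℤ] Λ).toRingHom (by
      intro a ha
      obtain ⟨b, rfl⟩ := Ideal.mem_span_singleton'.mp ha
      have h : ((p ^ n : ℕ) : ZMod (p ^ n) ⊗[ℤ] Λ) = 0 := by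
        rw [← map_natCast (algebraMap (ZMod (p ^ n)) (ZMod (p ^ n) ⊗[ℤ] Λ)), ZMod.natCast_self, map_zero]
      rw [show b * (p : Λ) ^ n = b * ((p ^ n : ℕ) : Λ) by push_cast; rfl, map_mul, map_natCast, h, mul_zero])
  let bwd : S →ₐ[ZMod (p ^ n)] ZMod (p ^ n) ⊗[ℤ] Λ :=
    { g with commutes' := fun c => DFunLike.congr_fun (Subsingleton.elim (g.comp (algebraMap _ _)) (algebraMap _ _)) c }
  let e : ZMod (p ^ n) ⊗[ℤ] Λ ≃ₐ[ZMod (p ^ n)] S := AlgEquiv.ofAlgHom fwd bwd
    (AlgHom.ext fun x => by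
      obtain ⟨y, rfl⟩ := Ideal.Quotient.mk_surjective x
      show fwd (1 ⊗ₜ y) = _
      rw [Algebra.TensorProduct.lift_tmul, map_one, one_mul]; rfl)
    (Algebra.TensorProduct.ext (Subsingleton.elim _ _) (AlgHom.ext fun y => by
      show g (fwd (1 ⊗ₜ y)) = 1 ⊗ₜ y
      rw [Algebra.TensorProduct.lift_tmul, map_one, one_mul]; rfl))
  have : Module.Flat (ZMod (p ^ n)) S := Module.Flat.of_linearEquiv e.symm.toLinearEquiv
  let k := Λ ⧸ Ideal.span {(p : Λ)}
  letI : Field k := Ideal.Quotient.field _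
  have : CharP k p := CharP.quotient Λ p (fun h => hmax.ne_top (Ideal.span_singleton_eq_top.mpr h))
  letI : Algebra (ZMod p) k := ZMod.algebra k p
  have : Algebra.FormallySmooth (ZMod p) k := formallySmooth_of_perfectField_any (ZMod p) k
  let π : ZMod (p ^ n) →+* ZMod p := ZMod.castHom (dvd_pow_self p hn) (ZMod p)
  have hle : Ideal.span {((p : Λ) ^ n)} ≤ Ideal.span {(p : Λ)} :=
    Ideal.span_singleton_le_span_singleton.mpr (dvd_pow_self _ hn)
  have hkerπ : RingHom.ker π = Ideal.span {((p : ℕ) : ZMod (p ^ n))} := by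
    refine le_antisymm (fun x hx => ?_) ?_
    · obtain ⟨m, rfl⟩ := ZMod.natCast_zmod_surjective (n := p ^ n) x
      rw [RingHom.mem_ker, map_natCast, ZMod.natCast_eq_zero_iff] at hx
      obtain ⟨t, rfl⟩ := hx
      rw [Nat.cast_mul]
      exact Ideal.mul_mem_right _ _ (Ideal.mem_span_singleton_self _)
    · rw [Ideal.span_le, Set.singleton_subset_iff, SetLike.mem_coe, RingHom.mem_ker, map_natCast, ZMod.natCast_self]
  refine formallySmooth_of_flat_of_nilpotent π (ZMod.castHom_surjective _) ?_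
    (Ideal.Quotient.factor hle : S →+* k) (Ideal.Quotient.factor_surjective hle) (Subsingleton.elim _ _) ?_
  · refine ⟨n, ?_⟩
    rw [hkerπ, Ideal.span_singleton_pow, ← Nat.cast_pow, ZMod.natCast_self, Ideal.span_singleton_zero]
    rfl
  · intro x hx
    obtain ⟨y, rfl⟩ := Ideal.Quotient.mk_surjective x
    rw [RingHom.mem_ker, Ideal.Quotient.factor_mk, Ideal.Quotient.eq_zero_iff_mem] at hx
    obtain ⟨b, rfl⟩ := Ideal.mem_span_singleton'.mp hx
    rw [map_mul, hkerπ, Ideal.map_span, Set.image_singleton, map_natCast, map_natCast]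
    exact Ideal.mul_mem_left _ _ (Ideal.mem_span_singleton_self _)

/-- Lifting maps from a Cohen-type ring to a complete ring. -/
theorem exists_lift_cohen {Λ : Type u} [CommRing Λ] [IsDomain Λ] (p : ℕ) [hp : Fact p.Prime]
    (hmax : (Ideal.span {(p : Λ)}).IsMaximal) (h0 : (p : Λ) ≠ 0) {R : Type v} [CommRing R] (I : Ideal R)
    [IsAdicComplete I R] (hpI : (p : R) ∈ I) (f : Λ →+* R ⧸ I) :
    ∃ g : Λ →+* R, (Ideal.Quotient.mk I).comp g = f := by
  classical
  have step : ∀ (n : ℕ) (φ : Λ →+* R ⧸ I ^ (n + 1)), ∃ ψ : Λ →+* R ⧸ I ^ (n + 2),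
      (Ideal.Quotient.factor (Ideal.pow_le_pow_right (Nat.le_succ (n + 1)))).comp ψ = φ := by
    intro n φ
    let A := R ⧸ I ^ (n + 2)
    let C := R ⧸ I ^ (n + 1)
    let q : A →+* C := Ideal.Quotient.factor (Ideal.pow_le_pow_right (Nat.le_succ (n + 1)))
    have hA : ((p ^ (n + 2) : ℕ) : A) = 0 := by
      rw [← map_natCast (Ideal.Quotient.mk (I ^ (n + 2))), Ideal.Quotient.eq_zero_iff_mem, Nat.cast_pow]
      exact Ideal.pow_mem_pow hpI _
    have hq : Function.Surjective q := Ideal.Quotient.factor_surjective _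
    let cA : ZMod (p ^ (n + 2)) →+* A :=
      haveI := ringChar.charP A
      ZMod.castHom ((ringChar.spec A _).mp hA) A
    let S := Λ ⧸ Ideal.span {((p : Λ) ^ (n + 2))}
    have hS : ((p ^ (n + 2) : ℕ) : S) = 0 := by
      rw [← map_natCast (Ideal.Quotient.mk (Ideal.span {((p : Λ) ^ (n + 2))})), Ideal.Quotient.eq_zero_iff_mem, Nat.cast_pow]
      exact Ideal.mem_span_singleton_self _
    let cS : ZMod (p ^ (n + 2)) →+* S :=
      haveI := ringChar.charP S
      ZMod.castHom ((ringChar.spec S _).mp hS) S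
    letI : Algebra (ZMod (p ^ (n + 2))) A := cA.toAlgebra
    letI : Algebra (ZMod (p ^ (n + 2))) C := (q.comp cA).toAlgebra
    letI : Algebra (ZMod (p ^ (n + 2))) S := cS.toAlgebra
    have := formallySmooth_zmod_quotient Λ p hmax h0 (n + 2) (by omega)
    let φ' : S →+* C := Ideal.Quotient.lift _ φ (fun a ha => by
      obtain ⟨b, rfl⟩ := Ideal.mem_span_singleton'.mp ha
      rw [show b * (p : Λ) ^ (n + 2) = b * ((p ^ (n + 2) : ℕ) : Λ) by push_cast; rfl, map_mul, map_natCast φ,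
        ← map_natCast q, hA, map_zero, mul_zero])
    let φa : S →ₐ[ZMod (p ^ (n + 2))] C :=
      { φ' with commutes' := fun c => DFunLike.congr_fun (Subsingleton.elim (φ'.comp (algebraMap _ _)) (algebraMap _ _)) c }
    let qa : A →ₐ[ZMod (p ^ (n + 2))] C := { q with commutes' := fun _ => rfl }
    have hnil : IsNilpotent (RingHom.ker (qa : A →+* C)) := by
      refine ⟨2, ?_⟩
      show RingHom.ker q ^ 2 = 0
      rw [Ideal.Quotient.factor_ker, ← Ideal.map_pow, Ideal.zero_eq_bot, ← le_bot_iff,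
        ← Ideal.map_quotient_self (I ^ (n + 2))]
      exact Ideal.map_mono (by rw [← pow_mul]; exact Ideal.pow_le_pow_right (by omega))
    obtain ⟨ψ, hψ⟩ : ∃ ψ : S →ₐ[ZMod (p ^ (n + 2))] A, ∀ x, qa (ψ x) = φa x :=
      ⟨Algebra.FormallySmooth.liftOfSurjective φa qa hq hnil,
        fun x => Algebra.FormallySmooth.liftOfSurjective_apply φa qa hq hnil x⟩
    exact ⟨ψ.toRingHom.comp (Ideal.Quotient.mk _), RingHom.ext fun x => hψ (Ideal.Quotient.mk _ x)⟩
  choose next hnext using step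
  let F : (n : ℕ) → Λ →+* R ⧸ I ^ (n + 1) := fun n => Nat.rec (motive := fun n => Λ →+* R ⧸ I ^ (n + 1))
    ((Ideal.Quotient.factor (pow_one I).ge).comp f) (fun n φ => next n φ) n
  let G : (n : ℕ) → Λ →+* R ⧸ I ^ n := fun n =>
    (Ideal.Quotient.factor (Ideal.pow_le_pow_right (Nat.le_succ n))).comp (F n)
  have hG : ∀ {m n : ℕ} (h : m ≤ n), (Ideal.Quotient.factor (Ideal.pow_le_pow_right h)).comp (G n) = G m := by
    intro m n h
    induction n, h using Nat.le_induction with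
    | base => simp
    | succ n hmn ih =>
      rw [← ih]
      have : G n = (Ideal.Quotient.factor (Ideal.pow_le_pow_right (Nat.le_succ n))).comp (G (n + 1)) := by
        show (Ideal.Quotient.factor _).comp (F n) = (Ideal.Quotient.factor _).comp ((Ideal.Quotient.factor _).comp (F (n + 1)))
        conv_lhs => rw [← hnext n (F n)]
      conv_rhs => rw [this, ← RingHom.comp_assoc, Ideal.Quotient.factor_comp]
  refine ⟨IsAdicComplete.liftRingHom I G (fun {m n} h => hG h), RingHom.ext fun x => ?_⟩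
  have h1 := IsAdicComplete.mk_liftRingHom I G (fun {m n} h => hG h) 1 x
  obtain ⟨r, hr⟩ := Ideal.Quotient.mk_surjective (f x)
  have hF : F 0 x = Ideal.Quotient.mk (I ^ 1) r := by
    show Ideal.Quotient.factor (pow_one I).ge (f x) = _
    rw [← hr]; rfl
  have h2 : F 0 = (Ideal.Quotient.factor (Ideal.pow_le_pow_right (Nat.le_succ 1))).comp (F 1) := (hnext 0 _).symm
  have h3 : G 1 x = F 0 x := by rw [h2]
  rw [h3, hF, Ideal.Quotient.eq, pow_one] at h1
  rw [RingHom.comp_apply, ← hr, Ideal.Quotient.eq]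
  exact h1

end Groth.Agent.CAlgH
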