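import Mathlib
import Groth.Agent.AdicRing.Basic

universe u v w
open MvPolynomial

namespace Groth.Agent.CAlgH

theorem isAdicComplete_of_linearEquiv {A : Type*} [CommRing A] {I : Ideal A} {M N : Type*} [AddCommGroup M]
    [Module A M] [AddCommGroup N] [Module A N] (e : M ≃ₗ[A] N) [IsAdicComplete I M] : IsAdicComplete I N where
  toIsPrecomplete := Groth.Agent.AdicRing.isPrecomplete_of_surjective I e.toLinearMap e.surjective
  haus' x hx := by
    apply e.symm.injective
    rw [map_zero]
    refine IsHausdorff.haus (I := I) inferInstance _ fun n => ?_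
    have h := hx n
    rw [SModEq.zero] at h ⊢
    have := Submodule.mem_map_of_mem (f := e.symm.toLinearMap) h
    rwa [Submodule.map_smul'', Submodule.map_top, LinearEquiv.range] at this

/-- Power series in finitely many variables are complete for the ideal of the variables. -/
theorem isAdicComplete_mvPowerSeries (σ : Type v) [Finite σ] (R : Type u) [CommRing R] :
    IsAdicComplete (Ideal.span (Set.range (MvPowerSeries.X : σ → MvPowerSeries σ R))) (MvPowerSeries σ R) := by
  have hfg : (idealOfVars σ R).FG := by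
    classical
    haveI := Fintype.ofFinite σ
    exact ⟨Finset.univ.image X, by simp [idealOfVars]⟩
  have := AdicCompletion.isAdicComplete (M := MvPolynomial σ R) hfg
  have h1 := isAdicComplete_of_linearEquiv (I := idealOfVars σ R)
    (MvPowerSeries.toAdicCompletionAlgEquiv σ R).symm.toLinearEquiv
  have h2 := (IsAdicComplete.map_algebraMap_iff (S := MvPowerSeries σ R) (I := idealOfVars σ R)
    (M := MvPowerSeries σ R)).mpr h1
  rw [idealOfVars, Ideal.map_span, ← Set.range_comp] at h2
  convert h2 using 4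
  funext i
  exact (MvPolynomial.coe_X (R := R) i).symm

variable {Λ : Type u} [CommRing Λ] {R : Type v} [CommRing R]

/-- Evaluation of power series in a complete ring. -/
theorem exists_mvPowerSeries_eval (φ : Λ →+* R) (I : Ideal R) [IsAdicComplete I R] {σ : Type w} [Finite σ]
    (a : σ → R) (ha : ∀ i, a i ∈ I) :
    ∃ f : MvPowerSeries σ Λ →+* R, f.comp MvPowerSeries.C = φ ∧ ∀ i, f (MvPowerSeries.X i) = a i := by
  classical
  let e : MvPolynomial σ Λ →+* R := eval₂Hom φ a
  let J := idealOfVars σ Λ
  have hJ : J ≤ I.comap e := by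
    simp only [J, idealOfVars]
    rw [Ideal.span_le]
    rintro _ ⟨i, rfl⟩
    show e (X i) ∈ I
    rw [eval₂Hom_X']
    exact ha i
  have hle : ∀ k, J ^ k ≤ (I ^ k).comap e := fun k => (Ideal.pow_right_mono hJ k).trans (Ideal.le_comap_pow e k)
  let F : (k : ℕ) → AdicCompletion J (MvPolynomial σ Λ) →+* R ⧸ I ^ k := fun k =>
    (Ideal.quotientMap (I ^ k) e (hle k)).comp (AdicCompletion.evalₐ J k).toRingHom
  have hF : ∀ {i j : ℕ} (h : i ≤ j), (Ideal.Quotient.factorPow I h).comp (F j) = F i := by
    intro i j h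
    refine RingHom.ext fun x => ?_
    induction x using AdicCompletion.induction_on with
    | _ g =>
      simp only [F, RingHom.comp_apply, AlgHom.toRingHom_eq_coe, RingHom.coe_coe, AdicCompletion.evalₐ_mk]
      have := congrArg (Ideal.quotientMap (I ^ i) e (hle i)) (AdicCompletion.Ideal.mk_eq_mk J h g)
      simpa [Ideal.quotientMap_mk] using this
  let f : MvPowerSeries σ Λ →+* R :=
    (IsAdicComplete.liftRingHom I F hF).comp (MvPowerSeries.toAdicCompletionAlgEquiv σ Λ).toRingEquiv.toRingHom
  have hpoly : ∀ q : MvPolynomial σ Λ, f (q : MvPowerSeries σ Λ) = e q := by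
    intro q
    refine IsHausdorff.eq_iff_smodEq (I := I).mpr fun k => ?_
    rw [SModEq.sub_mem, smul_eq_mul, Ideal.mul_top, ← Ideal.Quotient.eq]
    show Ideal.Quotient.mk (I ^ k) (IsAdicComplete.liftRingHom I F hF
      (MvPowerSeries.toAdicCompletionAlgEquiv σ Λ (q : MvPowerSeries σ Λ))) = _
    rw [IsAdicComplete.mk_liftRingHom, MvPowerSeries.toAdicCompletionAlgEquiv_apply, MvPowerSeries.toAdicCompletion_coe]
    simp only [F, RingHom.comp_apply, AlgHom.toRingHom_eq_coe, RingHom.coe_coe]
    erw [AdicCompletion.evalₐ_of]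
  refine ⟨f, RingHom.ext fun c => ?_, fun i => ?_⟩
  · rw [RingHom.comp_apply, ← MvPolynomial.coe_C, hpoly]; exact eval₂Hom_C _ _ c
  · rw [← MvPolynomial.coe_X, hpoly]; exact eval₂Hom_X' _ _ i

/-- A map out of a power series ring is finite when it is so modulo the variables. -/
theorem finite_mvPowerSeries_hom {σ : Type w} [Finite σ] (f : MvPowerSeries σ Λ →+* R) (I : Ideal R)
    [IsHausdorff I R] (hI : ∀ i, f (MvPowerSeries.X i) ∈ I)
    (h : RingHom.Finite ((Ideal.Quotient.mk (Ideal.span (Set.range (fun i => f (MvPowerSeries.X i))))).comp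
      (f.comp MvPowerSeries.C))) : f.Finite := by
  classical
  letI := f.toAlgebra
  let J : Ideal (MvPowerSeries σ Λ) := Ideal.span (Set.range MvPowerSeries.X)
  have := isAdicComplete_mvPowerSeries σ Λ
  have hmap : J.map (algebraMap (MvPowerSeries σ Λ) R) = Ideal.span (Set.range fun i => f (MvPowerSeries.X i)) := by
    rw [Ideal.map_span, ← Set.range_comp]; rfl
  have hle : J.map (algebraMap (MvPowerSeries σ Λ) R) ≤ I := by
    rw [hmap, Ideal.span_le]; rintro _ ⟨i, rfl⟩; exact hI i
  have hH : IsHausdorff J R := by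
    rw [← IsHausdorff.map_algebraMap_iff (S := R)]
    exact ⟨fun x hx => IsHausdorff.haus (I := I) inferInstance x fun n => by
      have h1 := hx n
      rw [SModEq.zero, smul_eq_mul, Ideal.mul_top] at h1 ⊢
      exact Ideal.pow_right_mono hle n h1⟩
  refine Groth.Agent.AdicRing.finite_of_finite_quotient (I := J) R ?_
  let K : Ideal R := Ideal.span (Set.range fun i => f (MvPowerSeries.X i))
  letI : Algebra Λ (R ⧸ K) := ((Ideal.Quotient.mk K).comp (f.comp MvPowerSeries.C)).toAlgebra
  have : Module.Finite Λ (R ⧸ K) := h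
  obtain ⟨n, s, hs⟩ := Module.Finite.exists_fin (R := Λ) (M := R ⧸ K)
  choose s' hs' using fun i => Ideal.Quotient.mk_surjective (s i)
  refine ⟨⟨(Finset.univ.image fun i => (Submodule.Quotient.mk (s' i) : R ⧸ (J • ⊤ : Submodule (MvPowerSeries σ Λ) R))), ?_⟩⟩
  rw [eq_top_iff]
  rintro t -
  obtain ⟨y, rfl⟩ := Submodule.Quotient.mk_surjective _ t
  have hy : Ideal.Quotient.mk K y ∈ Submodule.span Λ (Set.range s) := hs ▸ Submodule.mem_top
  obtain ⟨c, hc⟩ := (Submodule.mem_span_range_iff_exists_fun Λ).mp hy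
  have hy2 : (Submodule.Quotient.mk y : R ⧸ (J • ⊤ : Submodule (MvPowerSeries σ Λ) R)) =
      ∑ i, (MvPowerSeries.C (c i) : MvPowerSeries σ Λ) • Submodule.Quotient.mk (s' i) := by
    simp_rw [← Submodule.Quotient.mk_smul, ← Submodule.mkQ_apply, ← map_sum]
    rw [Submodule.mkQ_apply, Submodule.mkQ_apply, Submodule.Quotient.eq, ← Submodule.restrictScalars_mem (MvPowerSeries σ Λ),
      Submodule.restrictScalars_self, Ideal.smul_top_eq_map, Submodule.restrictScalars_mem, hmap, ← Ideal.Quotient.eq, map_sum, ← hc]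
    refine Finset.sum_congr rfl fun i _ => ?_
    rw [Algebra.smul_def, Algebra.smul_def, map_mul, hs']
    rfl
  rw [hy2]
  exact Submodule.sum_mem _ fun i _ => Submodule.smul_mem _ _ (Submodule.subset_span (by simp))

/-- A map out of a power series ring into a complete ring is surjective when it is so modulo the variables. -/
theorem surjective_mvPowerSeries_hom {σ : Type w} [Finite σ] (f : MvPowerSeries σ Λ →+* R) (I : Ideal R)
    [IsHausdorff I R] (hI : ∀ i, f (MvPowerSeries.X i) ∈ I)
    (h : Function.Surjective ((Ideal.Quotient.mk (Ideal.span (Set.range (fun i => f (MvPowerSeries.X i))))).comp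
      (f.comp MvPowerSeries.C))) : Function.Surjective f := by
  letI := f.toAlgebra
  let J : Ideal (MvPowerSeries σ Λ) := Ideal.span (Set.range MvPowerSeries.X)
  have := isAdicComplete_mvPowerSeries σ Λ
  have hmap : J.map (algebraMap (MvPowerSeries σ Λ) R) = Ideal.span (Set.range fun i => f (MvPowerSeries.X i)) := by
    rw [Ideal.map_span, ← Set.range_comp]; rfl
  have hH : IsHausdorff J R := by
    rw [← IsHausdorff.map_algebraMap_iff (S := R)]
    exact ⟨fun x hx => IsHausdorff.haus (I := I) inferInstance x fun n => by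
      have h1 := hx n
      rw [SModEq.zero, smul_eq_mul, Ideal.mul_top] at h1 ⊢
      refine Ideal.pow_right_mono ?_ n h1
      rw [hmap, Ideal.span_le]; rintro _ ⟨i, rfl⟩; exact hI i⟩
  refine Groth.Agent.AdicRing.surjective_of_sup_smul_top (I := J) (Algebra.linearMap (MvPowerSeries σ Λ) R) ?_
  rw [eq_top_iff]
  rintro y -
  obtain ⟨c, hc⟩ := h (Ideal.Quotient.mk _ y)
  rw [Submodule.mem_sup]
  refine ⟨algebraMap _ R (MvPowerSeries.C c), ⟨_, rfl⟩, y - algebraMap _ R (MvPowerSeries.C c), ?_, add_sub_cancel _ _⟩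
  rw [Ideal.smul_top_eq_map, Submodule.restrictScalars_mem, hmap, ← Ideal.Quotient.eq]
  exact hc.symm

end Groth.Agent.CAlgH
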