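import Mathlib
import Groth.Prelude.Def_Found
import Groth.Agent.AdicRing.Basic
import Groth.Agent.CAlgH.PowerSeriesEval
import Groth.Agent.CAlgH.CohenLift
import Groth.Agent.CAlgH.CohenExistence
import Groth.Agent.CAlgH3.RegularLocal
import Groth.Agent.DimLib.Algebra

universe u v
open IsLocalRing

namespace Groth.Agent.CAlgH

/-- An Artinian local algebra whose residue field is a quotient of the base is module-finite. -/
theorem finite_of_residue_surjective {Λ A : Type u} [CommRing Λ] [CommRing A] [IsLocalRing A] [IsArtinianRing A]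
    (φ : Λ →+* A) (hφ : Function.Surjective ((residue A).comp φ)) : φ.Finite := by
  classical
  letI := φ.toAlgebra
  obtain ⟨N, hN⟩ := (isArtinianRing_iff_isNilpotent_maximalIdeal A).mp ‹_›
  suffices ∀ j, ∃ s : Finset A, ((maximalIdeal A) ^ (N - j) : Ideal A).restrictScalars Λ ≤ Submodule.span Λ (s : Set A) by
    obtain ⟨s, hs⟩ := this N
    refine ⟨⟨s, top_unique (le_trans ?_ hs)⟩⟩
    rw [Nat.sub_self, pow_zero, Ideal.one_eq_top]; intro x _; trivial
  intro j
  induction j with
  | zero => exact ⟨∅, fun x hx => by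
      have : x = 0 := by simpa [hN] using hx
      rw [this]; exact Submodule.zero_mem _⟩
  | succ j ih =>
    by_cases hj : N ≤ j
    · simpa [Nat.sub_eq_zero_of_le hj, Nat.sub_eq_zero_of_le (hj.trans (Nat.le_succ j))] using ih
    obtain ⟨s, hs⟩ := ih
    obtain ⟨i, hi⟩ : ∃ i, i = N - (j + 1) := ⟨_, rfl⟩
    have hi1 : N - j = i + 1 := by omega
    rw [hi1] at hs
    obtain ⟨g, hg⟩ := IsNoetherian.noetherian (maximalIdeal A ^ i : Ideal A)
    refine ⟨s ∪ g, fun x hx => ?_⟩
    rw [← hi, Submodule.restrictScalars_mem] at hx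
    have key : ∀ y ∈ Submodule.span A (g : Set A), ∃ z ∈ Submodule.span Λ (g : Set A), y - z ∈ maximalIdeal A ^ (i + 1) := by
      intro y hy
      induction hy using Submodule.span_induction with
      | mem y hy => exact ⟨y, Submodule.subset_span hy, by simp⟩
      | zero => exact ⟨0, Submodule.zero_mem _, by simp⟩
      | add a b _ _ ha hb =>
        obtain ⟨za, h1, h2⟩ := ha; obtain ⟨zb, h3, h4⟩ := hb
        exact ⟨za + zb, Submodule.add_mem _ h1 h3, by simpa [add_sub_add_comm] using Ideal.add_mem _ h2 h4⟩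
      | smul c a ha' ha =>
        obtain ⟨z, h1, h2⟩ := ha
        obtain ⟨l, hl⟩ := hφ (residue A c)
        refine ⟨l • z, Submodule.smul_mem _ _ h1, ?_⟩
        have hz : z ∈ maximalIdeal A ^ i := by
          have h5 : a ∈ maximalIdeal A ^ i := hg.le ha'
          have := Ideal.sub_mem _ h5 (Ideal.pow_le_pow_right i.le_succ h2)
          simpa using this
        have hcl : c - φ l ∈ maximalIdeal A := by
          rw [← residue_eq_zero_iff, map_sub, sub_eq_zero]; exact hl.symm
        have h6 : c • a - l • z = c * (a - z) + (c - φ l) * z := by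
          rw [smul_eq_mul, Algebra.smul_def]; show c * a - φ l * z = _; ring
        rw [h6]
        refine Ideal.add_mem _ (Ideal.mul_mem_left _ _ h2) ?_
        rw [pow_succ']; exact Ideal.mul_mem_mul hcl hz
    obtain ⟨z, hz, hxz⟩ := key x (hg.symm.le hx)
    have h7 := hs hxz
    rw [Finset.coe_union, Submodule.span_union]
    exact Submodule.mem_sup.mpr ⟨_, h7, z, hz, sub_add_cancel x z⟩

theorem exists_sop (A : Type u) [CommRing A] [IsLocalRing A] [IsNoetherianRing A] :
    ∃ (n : ℕ) (a : Fin n → A), ringKrullDim A = n ∧ (∀ i, a i ∈ maximalIdeal A) ∧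
      IsArtinianRing (A ⧸ Ideal.span (Set.range a)) := by
  classical
  obtain ⟨s, hs, hcard⟩ := Ideal.exists_finset_card_eq_height_of_isNoetherianRing (maximalIdeal A)
  refine ⟨s.card, fun i => (s.equivFin.symm i : A), ?_, fun i => hs.1.2 (Ideal.subset_span (s.equivFin.symm i).2), ?_⟩
  · rw [← maximalIdeal_height_eq_ringKrullDim, ← hcard]; rfl
  · have : Set.range (fun i => (s.equivFin.symm i : A)) = s := by
      ext x; constructor
      · rintro ⟨i, rfl⟩; exact (s.equivFin.symm i).2
      · intro hx; exact ⟨s.equivFin ⟨x, hx⟩, by simp⟩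
    rw [this]
    exact quotient_artinian_of_mem_minimalPrimes_of_isLocalRing _ hs

theorem isRegularLocalRing_powerSeries (A : Type u) [CommRing A] [IsRegularLocalRing A] :
    IsRegularLocalRing (PowerSeries A) ∧ ringKrullDim (PowerSeries A) ≤ ringKrullDim A + 1 := by
  classical
  have : IsNoetherianRing (PowerSeries A) := inferInstance
  have : IsLocalRing (PowerSeries A) := inferInstance
  obtain ⟨s, hs, hspan⟩ := Submodule.FG.exists_span_finset_card_eq_spanFinrank (IsNoetherian.noetherian (maximalIdeal A))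
  let t : Finset (PowerSeries A) := insert PowerSeries.X (s.image PowerSeries.C)
  have ht : maximalIdeal (PowerSeries A) = Ideal.span (t : Set (PowerSeries A)) := by
    refine le_antisymm (fun f hf => ?_) ?_
    · have hc : PowerSeries.constantCoeff f ∈ maximalIdeal A := fun h =>
        (mem_maximalIdeal f).mp hf (PowerSeries.isUnit_iff_constantCoeff.mpr h)
      have h1 : f - PowerSeries.C (PowerSeries.constantCoeff f) ∈ Ideal.span {(PowerSeries.X : PowerSeries A)} := by
        rw [Ideal.mem_span_singleton, PowerSeries.X_dvd_iff]; simp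
      have h2 : PowerSeries.C (PowerSeries.constantCoeff f) ∈ (Ideal.span (s : Set A)).map (PowerSeries.C (R := A)) :=
        Ideal.mem_map_of_mem _ (hspan.symm.le hc)
      rw [Ideal.map_span] at h2
      rw [show f = (f - PowerSeries.C (PowerSeries.constantCoeff f)) + PowerSeries.C (PowerSeries.constantCoeff f) by ring]
      refine Ideal.add_mem _ (Ideal.span_mono ?_ h1) (Ideal.span_mono ?_ h2)
      · simp [t]
      · simp [t]
    · rw [Ideal.span_le]
      intro x hx
      simp only [t, Finset.coe_insert, Finset.coe_image, Set.mem_insert_iff, Set.mem_image] at hx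
      refine (mem_maximalIdeal x).mpr fun hu => ?_
      have hu' := PowerSeries.isUnit_iff_constantCoeff.mp hu
      rcases hx with rfl | ⟨y, hy, rfl⟩
      · simp at hu'
      · rw [PowerSeries.constantCoeff_C] at hu'
        exact (mem_maximalIdeal y).mp (hspan.le (Submodule.subset_span hy)) hu'
  have hcard : (maximalIdeal (PowerSeries A)).spanFinrank ≤ (maximalIdeal A).spanFinrank + 1 := by
    rw [ht]
    refine (Submodule.spanFinrank_span_le_ncard_of_finite t.finite_toSet).trans ?_
    rw [Set.ncard_coe_finset, ← hs]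
    exact (Finset.card_insert_le _ _).trans (Nat.add_le_add_right Finset.card_image_le 1)
  have hA := IsRegularLocalRing.spanFinrank_maximalIdeal (R := A)
  refine ⟨IsRegularLocalRing.of_spanFinrank_maximalIdeal_le _ (le_trans ?_ ringKrullDim_succ_le_ringKrullDim_powerseries), ?_⟩
  · rw [← hA]; exact_mod_cast hcard
  · refine (ringKrullDim_le_spanFinrank_maximalIdeal (R := PowerSeries A)).trans ?_
    rw [← hA]; exact_mod_cast hcard

theorem isRegularLocalRing_mvPowerSeries (Λ : Type u) [CommRing Λ] [IsRegularLocalRing Λ] :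
    ∀ n : ℕ, IsRegularLocalRing (MvPowerSeries (Fin n) Λ) ∧
      ringKrullDim (MvPowerSeries (Fin n) Λ) ≤ ringKrullDim Λ + n := by
  intro n
  induction n with
  | zero =>
    let e : Λ ≃+* MvPowerSeries (Fin 0) Λ := (MvPowerSeries.isEmptyEquiv (Fin 0) Λ).toRingEquiv.symm
    exact ⟨IsRegularLocalRing.of_ringEquiv e, by rw [← ringKrullDim_eq_of_ringEquiv e]; simp⟩
  | succ n ih =>
    obtain ⟨h1, h2⟩ := ih
    obtain ⟨h3, h4⟩ := isRegularLocalRing_powerSeries (MvPowerSeries (Fin n) Λ)
    let e : PowerSeries (MvPowerSeries (Fin n) Λ) ≃+* MvPowerSeries (Fin (n + 1)) Λ :=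
      (MvPowerSeries.finSuccEquiv Λ n).toRingEquiv.symm
    refine ⟨IsRegularLocalRing.of_ringEquiv e, ?_⟩
    rw [← ringKrullDim_eq_of_ringEquiv e, Nat.cast_succ, ← add_assoc]
    exact h4.trans (add_le_add h2 le_rfl)

theorem injective_mvPowerSeries_hom {Λ R : Type u} [CommRing Λ] [IsRegularLocalRing Λ] [CommRing R] [IsDomain R]
    {n : ℕ} (f : MvPowerSeries (Fin n) Λ →+* R) (hf : f.Finite) (h : ringKrullDim Λ + n ≤ ringKrullDim R)
    [IsNoetherianRing R] [IsLocalRing R] : Function.Injective f := by
  obtain ⟨hreg, hdim⟩ := isRegularLocalRing_mvPowerSeries Λ n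
  have := CAlgH3.isDomain_of_isRegularLocalRing (MvPowerSeries (Fin n) Λ)
  let P := MvPowerSeries (Fin n) Λ
  rw [injective_iff_map_eq_zero]
  intro z hz
  by_contra hz0
  letI := f.toAlgebra
  have : Module.Finite P R := hf
  let K := RingHom.ker f
  have : Nontrivial (P ⧸ K) := Ideal.Quotient.nontrivial_iff.mpr (RingHom.ker_ne_top f)
  let g : P ⧸ K →+* R := RingHom.kerLift f
  have hgf : g.Finite := RingHom.Finite.of_comp_finite (f := Ideal.Quotient.mk K) (show (g.comp (Ideal.Quotient.mk K)).Finite from hf)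
  letI := g.toAlgebra
  have : Module.Finite (P ⧸ K) R := hgf
  have h1 : ringKrullDim R = ringKrullDim (P ⧸ K) :=
    (DimLib.ringKrullDim_eq_of_isIntegral (R := P ⧸ K) (S := R) (RingHom.kerLift_injective f)).symm
  have h2 : ringKrullDim (P ⧸ K) + 1 ≤ ringKrullDim P := by
    refine le_trans (add_le_add ?_ le_rfl) (ringKrullDim_quotient_succ_le_of_nonZeroDivisor (mem_nonZeroDivisors_of_ne_zero hz0))
    exact ringKrullDim_le_of_surjective (Ideal.Quotient.factor ((Ideal.span_singleton_le_iff_mem _).mpr hz))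
      (Ideal.Quotient.factor_surjective _)
  obtain ⟨d, hd⟩ := CAlgH3.exists_nat_eq_of_le_spanFinrank (ringKrullDim_le_spanFinrank_maximalIdeal (R := R))
  have h3 := (h2.trans hdim).trans h
  rw [← h1, hd] at h3
  have h4 : d + 1 ≤ d := by exact_mod_cast h3
  omega

theorem exists_coefficient_field {F : Type v} {R : Type u} [Field F] [PerfectField F] [CommRing R] [IsLocalRing R]
    [IsAdicComplete (maximalIdeal R) R] [Algebra F R] :
    ∃ s : ResidueField R →+* R, Function.Surjective ((residue R).comp s) := by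
  have : Algebra.FormallySmooth F (ResidueField R) := formallySmooth_of_perfectField_any F _
  obtain ⟨g, hg⟩ := Algebra.FormallySmooth.exists_mkₐ_comp_eq_of_isAdicComplete
    (R := F) (A := ResidueField R) (S := R) (I := maximalIdeal R) (AlgHom.id F (ResidueField R))
  exact ⟨g.toRingHom, fun x => ⟨x, DFunLike.congr_fun hg x⟩⟩

theorem exists_coefficient_ring (R : Type u) [CommRing R] [IsLocalRing R] [IsAdicComplete (maximalIdeal R) R] :
    ∃ (Λ : Type u) (_ : CommRing Λ) (φ : Λ →+* R), IsRegularLocalRing Λ ∧ Function.Surjective ((residue R).comp φ) ∧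
      ((IsField Λ ∧ ringKrullDim Λ = 0) ∨
        (CAlg.IsCohenRing Λ ∧ ringKrullDim Λ = 1 ∧ ∃ p : ℕ, p.Prime ∧ (p : R) ∈ maximalIdeal R ∧ (p : R) ≠ 0 ∧
          ∃ (_ : IsLocalRing Λ), IsAdicComplete (maximalIdeal Λ) Λ ∧ maximalIdeal Λ = Ideal.span {(p : Λ)})) := by
  let k := ResidueField R
  have hfield : (∃ s : k →+* R, Function.Surjective ((residue R).comp s)) →
      ∃ (Λ : Type u) (_ : CommRing Λ) (φ : Λ →+* R), IsRegularLocalRing Λ ∧ Function.Surjective ((residue R).comp φ) ∧
      ((IsField Λ ∧ ringKrullDim Λ = 0) ∨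
        (CAlg.IsCohenRing Λ ∧ ringKrullDim Λ = 1 ∧ ∃ p : ℕ, p.Prime ∧ (p : R) ∈ maximalIdeal R ∧ (p : R) ≠ 0 ∧
          ∃ (_ : IsLocalRing Λ), IsAdicComplete (maximalIdeal Λ) Λ ∧ maximalIdeal Λ = Ideal.span {(p : Λ)})) :=
    fun ⟨s, hs⟩ => ⟨k, inferInstance, s, inferInstance, hs, Or.inl ⟨Field.toIsField k, ringKrullDim_eq_zero_of_field k⟩⟩
  obtain ⟨q, hq⟩ := CharP.exists k
  rcases CharP.char_is_prime_or_zero k q with hp | rfl
  · have : Fact q.Prime := ⟨hp⟩
    have hqm : (q : R) ∈ maximalIdeal R := by
      rw [← residue_eq_zero_iff, map_natCast]; exact CharP.cast_eq_zero k q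
    by_cases h0 : (q : R) = 0
    · apply hfield
      let e : ZMod q →+* R := haveI := ringChar.charP R; ZMod.castHom ((ringChar.spec R _).mp h0) R
      letI := e.toAlgebra
      exact exists_coefficient_field (F := ZMod q)
    · obtain ⟨Λ, _, _, hΛ, ⟨e⟩⟩ := exists_cohenRing q k
      obtain ⟨_, _, hc, p, hp', hm⟩ := id hΛ
      have hpq : p = q := by
        have : (p : k) = 0 := by
          rw [← map_natCast e, ← map_natCast (residue Λ), (residue_eq_zero_iff _).mpr (hm ▸ Ideal.mem_span_singleton_self _), map_zero]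
        exact ((Nat.prime_dvd_prime_iff_eq hp hp').mp ((CharP.cast_eq_zero_iff k q p).mp this)).symm
      subst hpq
      obtain ⟨g, hg⟩ := exists_lift_cohen p (hm ▸ maximalIdeal.isMaximal Λ)
        (fun h => IsDiscreteValuationRing.not_a_field Λ (by rw [hm, h, Ideal.span_singleton_zero]))
        (maximalIdeal R) hqm (e.toRingHom.comp (residue Λ))
      refine ⟨Λ, inferInstance, g, inferInstance, ?_, Or.inr ⟨hΛ, IsDiscreteValuationRing.ringKrullDim_eq_one Λ, p, hp, hqm, h0, inferInstance, hc, hm⟩⟩
      rw [show (residue R).comp g = _ from hg]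
      exact e.surjective.comp residue_surjective
  · apply hfield
    have : CharZero k := CharP.charP_to_charZero k
    have hu : ∀ m : nonZeroDivisors ℤ, IsUnit ((Int.castRingHom R) m) := by
      intro m
      by_contra hm
      have h1 : residue R ((m : ℤ) : R) = 0 := Ideal.Quotient.eq_zero_iff_mem.mpr hm
      rw [map_intCast, Int.cast_eq_zero] at h1
      exact nonZeroDivisors.coe_ne_zero m h1
    let e : ℚ →+* R := IsLocalization.lift (M := nonZeroDivisors ℤ) (S := ℚ) hu
    letI := e.toAlgebra
    exact exists_coefficient_field (F := ℚ)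

/-- Complete local rings with finitely generated maximal ideal are quotients of power series rings. -/
theorem exists_surjective_mvPowerSeries (R : Type u) [CommRing R] [IsLocalRing R]
    [IsAdicComplete (maximalIdeal R) R] (hfg : (maximalIdeal R).FG) :
    ∃ (Λ : Type u) (_ : CommRing Λ) (n : ℕ) (f : MvPowerSeries (Fin n) Λ →+* R),
      (IsField Λ ∨ CAlg.IsCohenRing Λ) ∧ Function.Surjective f := by
  obtain ⟨Λ, _, φ, -, hres, hcase⟩ := exists_coefficient_ring R
  obtain ⟨n, a, ha⟩ := Submodule.fg_iff_exists_fin_generating_family.mp hfg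
  have hI : ∀ i, a i ∈ maximalIdeal R := fun i => ha ▸ Submodule.subset_span ⟨i, rfl⟩
  obtain ⟨f, hfC, hfX⟩ := exists_mvPowerSeries_eval φ (maximalIdeal R) a hI
  refine ⟨Λ, inferInstance, n, f, hcase.imp (·.1) (·.1), surjective_mvPowerSeries_hom f (maximalIdeal R) (fun i => (hfX i).symm ▸ hI i) ?_⟩
  rw [show (fun i => f (MvPowerSeries.X i)) = a from funext hfX, hfC, show Ideal.span (Set.range a) = maximalIdeal R from ha]
  exact hres

/-- Noether normalization for complete local domains. -/
theorem exists_finite_injective_mvPowerSeries (R : Type u) [CommRing R]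
    [IsDomain R] [IsLocalRing R] [IsNoetherianRing R] [IsAdicComplete (maximalIdeal R) R] :
    ∃ (Λ : Type u) (_ : CommRing Λ) (n : ℕ) (f : MvPowerSeries (Fin n) Λ →+* R),
      IsRegularLocalRing Λ ∧ (IsField Λ ∨ CAlg.IsCohenRing Λ) ∧ Function.Injective f ∧ f.Finite ∧
      Function.Surjective ((residue R).comp f) := by
  classical
  obtain ⟨Λ, _, φ, hreg, hres, hcase⟩ := exists_coefficient_ring R
  have hresf : ∀ {n : ℕ} (f : MvPowerSeries (Fin n) Λ →+* R), f.comp MvPowerSeries.C = φ →
      Function.Surjective ((residue R).comp f) := fun f hf y => by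
    obtain ⟨l, hl⟩ := hres y
    exact ⟨MvPowerSeries.C l, by rw [← hl, ← hf]; rfl⟩
  rcases hcase with ⟨hfield, hdimΛ⟩ | ⟨hcohen, hdimΛ, p, hp, hpm, hp0, _, hcompl, hm⟩
  · obtain ⟨n, a, hn, hI, hart⟩ := exists_sop R
    obtain ⟨f, hfC, hfX⟩ := exists_mvPowerSeries_eval φ (maximalIdeal R) a hI
    have hfin : f.Finite := by
      refine finite_mvPowerSeries_hom f (maximalIdeal R) (fun i => (hfX i).symm ▸ hI i) ?_
      rw [show (fun i => f (MvPowerSeries.X i)) = a from funext hfX, hfC]
      have : Nontrivial (R ⧸ Ideal.span (Set.range a)) := Ideal.Quotient.nontrivial_iff.mpr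
        (ne_top_of_le_ne_top (maximalIdeal.isMaximal R).ne_top (Ideal.span_le.mpr (by rintro _ ⟨i, rfl⟩; exact hI i)))
      have : IsLocalRing (R ⧸ Ideal.span (Set.range a)) :=
        IsLocalRing.of_surjective' (Ideal.Quotient.mk _) Ideal.Quotient.mk_surjective
      have : IsLocalHom (Ideal.Quotient.mk (Ideal.span (Set.range a))) := IsLocalHom.of_surjective _ Ideal.Quotient.mk_surjective
      refine finite_of_residue_surjective _ fun y => ?_
      obtain ⟨z, rfl⟩ := residue_surjective y
      obtain ⟨r, rfl⟩ := Ideal.Quotient.mk_surjective z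
      obtain ⟨l, hl⟩ := hres (residue R r)
      refine ⟨l, ?_⟩
      have := congrArg (ResidueField.map (Ideal.Quotient.mk (Ideal.span (Set.range a)))) hl
      simpa [ResidueField.map_residue] using this
    exact ⟨Λ, inferInstance, n, f, hreg, Or.inl hfield,
      injective_mvPowerSeries_hom f hfin (by rw [hdimΛ, hn, zero_add]), hfin, hresf f hfC⟩
  · let Rp := R ⧸ Ideal.span {(p : R)}
    have hne : Ideal.span {(p : R)} ≠ ⊤ :=
      ne_top_of_le_ne_top (maximalIdeal.isMaximal R).ne_top ((Ideal.span_singleton_le_iff_mem _).mpr hpm)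
    have : Nontrivial Rp := Ideal.Quotient.nontrivial_iff.mpr hne
    have : IsLocalRing Rp := IsLocalRing.of_surjective' (Ideal.Quotient.mk _) Ideal.Quotient.mk_surjective
    have : IsLocalHom (Ideal.Quotient.mk (Ideal.span {(p : R)})) := IsLocalHom.of_surjective _ Ideal.Quotient.mk_surjective
    obtain ⟨n, b, hn, hb, hart⟩ := exists_sop Rp
    choose a ha using fun i => Ideal.Quotient.mk_surjective (b i)
    have hI : ∀ i, a i ∈ maximalIdeal R := fun i h => (mem_maximalIdeal _).mp (hb i) (ha i ▸ h.map _)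
    obtain ⟨f, hfC, hfX⟩ := exists_mvPowerSeries_eval φ (maximalIdeal R) a hI
    have hfin : f.Finite := by
      refine finite_mvPowerSeries_hom f (maximalIdeal R) (fun i => (hfX i).symm ▸ hI i) ?_
      rw [show (fun i => f (MvPowerSeries.X i)) = a from funext hfX, hfC]
      let A := R ⧸ Ideal.span (Set.range a)
      let ψ : Λ →+* A := (Ideal.Quotient.mk _).comp φ
      have : Nontrivial A := Ideal.Quotient.nontrivial_iff.mpr
        (ne_top_of_le_ne_top (maximalIdeal.isMaximal R).ne_top (Ideal.span_le.mpr (by rintro _ ⟨i, rfl⟩; exact hI i)))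
      have : IsLocalRing A := IsLocalRing.of_surjective' (Ideal.Quotient.mk _) Ideal.Quotient.mk_surjective
      have hloc : IsLocalHom (Ideal.Quotient.mk (Ideal.span (Set.range a))) := IsLocalHom.of_surjective _ Ideal.Quotient.mk_surjective
      letI := ψ.toAlgebra
      have := hcompl
      have hmap : (maximalIdeal Λ).map (algebraMap Λ A) = Ideal.span {(p : A)} := by
        rw [hm, Ideal.map_span, Set.image_singleton, map_natCast]
      have : IsHausdorff (maximalIdeal Λ) A := by
        rw [← IsHausdorff.map_algebraMap_iff (S := A), hmap]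
        refine IsHausdorff.of_le_jacobson _ _ ?_
        rw [jacobson_eq_maximalIdeal ⊥ bot_ne_top, Ideal.span_singleton_le_iff_mem, ← map_natCast (Ideal.Quotient.mk (Ideal.span (Set.range a)))]
        exact fun h => (mem_maximalIdeal _).mp hpm (hloc.map_nonunit _ h)
      refine (Groth.Agent.AdicRing.finite_of_finite_quotient (I := maximalIdeal Λ) A ?_ : Module.Finite Λ A)
      let S : Ideal A := Ideal.span {(p : A)}
      have hS : (maximalIdeal Λ • ⊤ : Submodule Λ A) = S.restrictScalars Λ := by
        rw [Ideal.smul_top_eq_map, hmap]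
      let T := A ⧸ S
      let q : R →+* T := (Ideal.Quotient.mk S).comp (Ideal.Quotient.mk _)
      have hq : Function.Surjective q := Ideal.Quotient.mk_surjective.comp Ideal.Quotient.mk_surjective
      have hqker : ∀ z ∈ Ideal.span (Set.range b), ∀ r, Ideal.Quotient.mk _ r = z → q r = 0 := by
        intro z hz r hr
        have h1 : Ideal.span (Set.range b) = (Ideal.span (Set.range a)).map (Ideal.Quotient.mk (Ideal.span {(p : R)})) := by
          rw [Ideal.map_span, ← Set.range_comp]; simp only [Function.comp_def, ha]; rfl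
        rw [h1, ← hr, ← Ideal.mem_comap, Ideal.comap_map_of_surjective' _ Ideal.Quotient.mk_surjective, Ideal.mk_ker] at hz
        obtain ⟨u, hu, v, hv, rfl⟩ := Submodule.mem_sup.mp hz
        obtain ⟨w, rfl⟩ := Ideal.mem_span_singleton'.mp hv
        show Ideal.Quotient.mk S (Ideal.Quotient.mk _ (u + w * p)) = 0
        rw [map_add, Ideal.Quotient.eq_zero_iff_mem.mpr hu, zero_add, Ideal.Quotient.eq_zero_iff_mem, map_mul, map_natCast]
        exact Ideal.mul_mem_left _ _ (Ideal.mem_span_singleton_self _)
      let q1 : Rp →+* T := Ideal.Quotient.lift _ q (fun x hx => hqker 0 (Ideal.zero_mem _) x (Ideal.Quotient.eq_zero_iff_mem.mpr hx))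
      let q2 : Rp ⧸ Ideal.span (Set.range b) →+* T := Ideal.Quotient.lift _ q1 (fun z hz => by
        obtain ⟨r, rfl⟩ := Ideal.Quotient.mk_surjective z
        exact hqker _ hz r rfl)
      have hq2 : Function.Surjective q2 := fun t => by
        obtain ⟨r, rfl⟩ := hq t
        exact ⟨Ideal.Quotient.mk _ (Ideal.Quotient.mk _ r), rfl⟩
      have : IsArtinianRing T := hq2.isArtinianRing
      have : Nontrivial T := Ideal.Quotient.nontrivial_iff.mpr (ne_top_of_le_ne_top (maximalIdeal.isMaximal A).ne_top
        ((Ideal.span_singleton_le_iff_mem _).mpr (fun h => (mem_maximalIdeal _).mp hpm (hloc.map_nonunit _ (by rwa [map_natCast])))))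
      have : IsLocalRing T := IsLocalRing.of_surjective' q hq
      have : IsLocalHom q := IsLocalHom.of_surjective _ hq
      have hTfin : ((Ideal.Quotient.mk S).comp ψ).Finite := finite_of_residue_surjective _ fun y => by
        obtain ⟨z, rfl⟩ := residue_surjective y
        obtain ⟨r, rfl⟩ := hq z
        obtain ⟨l, hl⟩ := hres (residue R r)
        refine ⟨l, ?_⟩
        have := congrArg (ResidueField.map q) hl
        simp only [RingHom.comp_apply, ResidueField.map_residue] at this
        exact this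
      have : Module.Finite Λ T := hTfin
      rw [hS]
      exact Module.Finite.equiv (Submodule.Quotient.restrictScalarsEquiv Λ S).symm
    refine ⟨Λ, inferInstance, n, f, hreg, Or.inr hcohen, injective_mvPowerSeries_hom f hfin ?_, hfin, hresf f hfC⟩
    rw [hdimΛ, add_comm, ← hn, ringKrullDim_quotient_span_singleton_succ_eq_ringKrullDim_of_mem_nonZeroDivisors
      (mem_nonZeroDivisors_of_ne_zero hp0) hpm]

end Groth.Agent.CAlgH
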