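import Mathlib
import Groth.Prelude.Def_Found
import Groth.Agent.AdicRing.Basic
import Groth.Agent.CAlgH.NagataBase
import Groth.Agent.CAlgH.CompleteLocal

universe u
open CAlg IsLocalRing

namespace Groth.Agent.CAlgH

theorem isN2_of_field {k : Type u} [CommRing k] [IsDomain k] (hk : IsField k) : IsN2 k := by
  let _ := hk.toField
  refine isN2_of k fun L _ instR instK tow fd => ?_
  have e : instR = instK := Algebra.algebra_ext _ _ fun r =>
    @IsScalarTower.algebraMap_apply k k L _ _ _ _ instK instR tow r
  subst e
  have : IsNoetherian k L := inferInstance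
  exact Module.Finite.of_injective (M := ↥(integralClosure k L)) (N := L) (integralClosure k L).val.toLinearMap (fun a b h => Subtype.ext h)

theorem finiteDimensional_fractionRing {A B : Type u} [CommRing A] [IsDomain A] [CommRing B] [IsDomain B]
    (f : A →+* B) (hinj : Function.Injective f) (hfin : f.Finite) [Algebra (FractionRing A) (FractionRing B)]
    (hcomp : ∀ a, algebraMap (FractionRing A) (FractionRing B) (algebraMap A (FractionRing A) a) =
      algebraMap B (FractionRing B) (f a)) : FiniteDimensional (FractionRing A) (FractionRing B) := by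
  classical
  letI := f.toAlgebra
  have : Module.Finite A B := hfin
  obtain ⟨g, hg⟩ := this.fg_top
  let gs : Finset (FractionRing B) := g.image (algebraMap B (FractionRing B))
  have hint : ∀ y ∈ (gs : Set (FractionRing B)), IsIntegral (FractionRing A) y := by
    intro y hy
    obtain ⟨b, -, rfl⟩ := Finset.mem_image.mp (Finset.mem_coe.mp hy)
    obtain ⟨P, hP, hP0⟩ := (Algebra.IsIntegral.isIntegral (R := A) b)
    refine ⟨P.map (algebraMap A (FractionRing A)), hP.map _, ?_⟩
    rw [Polynomial.eval₂_map, show (algebraMap (FractionRing A) (FractionRing B)).comp (algebraMap A (FractionRing A)) =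
      (algebraMap B (FractionRing B)).comp f from RingHom.ext hcomp, ← Polynomial.hom_eval₂]
    exact (congrArg (algebraMap B (FractionRing B)) hP0).trans (map_zero _)
  let S := Algebra.adjoin (FractionRing A) (gs : Set (FractionRing B))
  have hfg : (Subalgebra.toSubmodule S).FG := fg_adjoin_of_finite gs.finite_toSet hint
  haveI : Module.Finite (FractionRing A) S := Module.Finite.iff_fg.mpr hfg
  have hB : ∀ b : B, algebraMap B (FractionRing B) b ∈ S := by
    intro b
    have hb : b ∈ Submodule.span A (g : Set B) := hg ▸ Submodule.mem_top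
    induction hb using Submodule.span_induction with
    | mem y hy => exact Algebra.subset_adjoin (Finset.mem_coe.mpr (Finset.mem_image_of_mem _ hy))
    | zero => simp
    | add y z _ _ h1 h2 => rw [map_add]; exact S.add_mem h1 h2
    | smul a y _ h1 =>
      rw [Algebra.smul_def, map_mul]
      exact S.mul_mem (by rw [RingHom.algebraMap_toAlgebra, ← hcomp]; exact S.algebraMap_mem _) h1
  have htop : S = ⊤ := by
    rw [eq_top_iff]
    intro z _
    obtain ⟨a, b, hb, rfl⟩ := IsFractionRing.div_surjective B z
    rw [div_eq_mul_inv]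
    refine S.mul_mem (hB a) ?_
    have halg : IsAlgebraic (FractionRing A) (algebraMap B (FractionRing B) b) := by
      have : IsIntegral (FractionRing A) (⟨_, hB b⟩ : S) := IsIntegral.of_finite _ _
      exact (this.map S.val).isAlgebraic
    exact Subalgebra.inv_mem_of_algebraic (A := S) (x := ⟨_, hB b⟩) halg
  exact Module.Finite.of_fg_top (by rw [← Algebra.top_toSubmodule, ← htop]; exact hfg)

theorem isN2_of_finite_injective {A B : Type u} [CommRing A] [IsDomain A] [CommRing B] [IsDomain B]
    (f : A →+* B) (hinj : Function.Injective f) (hfin : f.Finite) (h : IsN2 A) : IsN2 B := by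
  letI := f.toAlgebra
  have : Module.Finite A B := hfin
  letI : Algebra (FractionRing A) (FractionRing B) := (IsFractionRing.lift
    (g := (algebraMap B (FractionRing B)).comp f) ((IsFractionRing.injective B (FractionRing B)).comp hinj)).toAlgebra
  have hcomp : ∀ a, algebraMap (FractionRing A) (FractionRing B) (algebraMap A (FractionRing A) a) =
      algebraMap B (FractionRing B) (f a) := fun a => IsFractionRing.lift_algebraMap _ a
  have := finiteDimensional_fractionRing f hinj hfin hcomp
  refine isN2_of (FractionRing B) fun L _ _ _ _ _ => ?_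
  letI : Algebra A L := ((algebraMap B L).comp f).toAlgebra
  letI : Algebra (FractionRing A) L :=
    ((algebraMap (FractionRing B) L).comp (algebraMap (FractionRing A) (FractionRing B))).toAlgebra
  have : IsScalarTower (FractionRing A) (FractionRing B) L := IsScalarTower.of_algebraMap_eq fun _ => rfl
  have : IsScalarTower A (FractionRing A) L := IsScalarTower.of_algebraMap_eq fun a => by
    show algebraMap B L (f a) = algebraMap (FractionRing B) L (algebraMap (FractionRing A) (FractionRing B) (algebraMap A (FractionRing A) a))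
    rw [hcomp, ← IsScalarTower.algebraMap_apply]
  have : IsScalarTower A B L := IsScalarTower.of_algebraMap_eq fun _ => rfl
  have : FiniteDimensional (FractionRing A) L := FiniteDimensional.trans (FractionRing A) (FractionRing B) L
  have hA : Module.Finite A (integralClosure A L) := h L inferInstance
  obtain ⟨g, hg⟩ := (Submodule.fg_top (Subalgebra.toSubmodule (integralClosure A L))).mp hA.fg_top
  refine Module.Finite.iff_fg.mpr (?_ : (Subalgebra.toSubmodule (integralClosure B L)).FG)
  refine ⟨g, le_antisymm (Submodule.span_le.mpr fun x hx => IsIntegral.tower_top ((hg.le (Submodule.subset_span hx) : x ∈ integralClosure A L) : IsIntegral A x)) fun x hx => ?_⟩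
  have h1 : x ∈ Submodule.span A (g : Set L) := hg.ge (isIntegral_trans x (hx : IsIntegral B x) : IsIntegral A x)
  exact Submodule.span_le_restrictScalars A B _ h1

theorem isDomain_mvPowerSeries (σ R : Type u) [CommRing R] [IsDomain R] : IsDomain (MvPowerSeries σ R) :=
  NoZeroDivisors.to_isDomain _

theorem isDomain_mvPowerSeries_fin (n : ℕ) (R : Type u) [CommRing R] [IsDomain R] : IsDomain (MvPowerSeries (Fin n) R) :=
  NoZeroDivisors.to_isDomain _

attribute [local instance] isDomain_mvPowerSeries_fin

theorem isN2_powerSeries (A : Type u) [CommRing A] [IsDomain A] [IsRegularLocalRing A] (h : IsN2 A) :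
    IsN2 (PowerSeries A) := by
  obtain ⟨hreg, -⟩ := isRegularLocalRing_powerSeries A
  have : IsIntegrallyClosed (PowerSeries A) := CAlgH3.isIntegrallyClosed_of_regular _
  have hker : RingHom.ker (PowerSeries.constantCoeff (R := A)) = Ideal.span {PowerSeries.X} := by
    ext f; rw [RingHom.mem_ker, Ideal.mem_span_singleton, PowerSeries.X_dvd_iff]
  have : (Ideal.span {(PowerSeries.X : PowerSeries A)}).IsPrime := hker ▸ RingHom.ker_isPrime _
  let e : PowerSeries A ⧸ Ideal.span {(PowerSeries.X : PowerSeries A)} ≃+* A :=
    (Ideal.quotEquivOfEq hker.symm).trans (RingHom.quotientKerEquivOfSurjective PowerSeries.constantCoeff_surj)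
  have hc : IsAdicComplete (Ideal.span {(PowerSeries.X : PowerSeries A)}) (PowerSeries A) := by
    have := isAdicComplete_mvPowerSeries Unit A
    rwa [Set.range_unique] at this
  exact isN2_of_complete_of_quotient (PowerSeries A) PowerSeries.X (isN2_of_ringEquiv e.symm h)

theorem isN2_mvPowerSeries (Λ : Type u) [CommRing Λ] [IsDomain Λ] [IsRegularLocalRing Λ] (h : IsN2 Λ) :
    ∀ n : ℕ, IsN2 (MvPowerSeries (Fin n) Λ) := by
  intro n
  induction n with
  | zero => exact isN2_of_ringEquiv (MvPowerSeries.isEmptyEquiv (Fin 0) Λ).toRingEquiv.symm h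
  | succ n ih =>
    have := (isRegularLocalRing_mvPowerSeries Λ n).1
    exact isN2_of_ringEquiv (MvPowerSeries.finSuccEquiv Λ n).toRingEquiv.symm (isN2_powerSeries _ ih)

theorem isN2_cohenRing (Λ : Type u) [CommRing Λ] [IsDomain Λ] (h : CAlg.IsCohenRing Λ) : IsN2 Λ := by
  obtain ⟨_, _, hc, p, hp, hm⟩ := h
  have hmax : (Ideal.span {(p : Λ)}).IsMaximal := hm ▸ maximalIdeal.isMaximal Λ
  have : IsAdicComplete (Ideal.span {(p : Λ)}) Λ := hm ▸ hc
  exact isN2_of_complete_of_quotient Λ (p : Λ) (isN2_of_field (Ideal.Quotient.maximal_ideal_iff_isField_quotient _ |>.mp hmax))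

theorem isN2_of_complete_local_domain (R : Type u) [CommRing R] [IsDomain R] [IsLocalRing R] [IsNoetherianRing R]
    [IsAdicComplete (maximalIdeal R) R] : IsN2 R := by
  obtain ⟨Λ, _, n, f, hreg, hΛ, hinj, hfin, -⟩ := exists_finite_injective_mvPowerSeries R
  have := CAlgH3.isDomain_of_isRegularLocalRing Λ
  have := (isRegularLocalRing_mvPowerSeries Λ n).1
  have := CAlgH3.isDomain_of_isRegularLocalRing (MvPowerSeries (Fin n) Λ)
  exact isN2_of_finite_injective f hinj hfin
    (isN2_mvPowerSeries Λ (hΛ.elim isN2_of_field (isN2_cohenRing Λ)) n)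

theorem isAdicComplete_quotient {R : Type u} [CommRing R] [IsLocalRing R] [IsNoetherianRing R]
    [IsAdicComplete (maximalIdeal R) R] (p : Ideal R) [IsLocalRing (R ⧸ p)] :
    IsAdicComplete (maximalIdeal (R ⧸ p)) (R ⧸ p) := by
  have h1 : IsAdicComplete (maximalIdeal R) (R ⧸ p) := Groth.Agent.AdicRing.isAdicComplete_of_finite (maximalIdeal R) _
  have h2 : maximalIdeal (R ⧸ p) = (maximalIdeal R).map (algebraMap R (R ⧸ p)) :=
    (map_mk_maximalIdeal p).symm
  rw [h2]
  exact (IsAdicComplete.map_algebraMap_iff _ _).mpr h1
where map_mk_maximalIdeal {R : Type u} [CommRing R] [IsLocalRing R] (p : Ideal R) [IsLocalRing (R ⧸ p)] :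
    (maximalIdeal R).map (algebraMap R (R ⧸ p)) = maximalIdeal (R ⧸ p) :=
  IsLocalRing.eq_maximalIdeal (Ideal.IsMaximal.map_of_surjective_of_ker_le Ideal.Quotient.mk_surjective (by rw [Ideal.mk_ker]; exact le_maximalIdeal (Ideal.Quotient.nontrivial_iff.mp inferInstance)))

theorem isNagata_of_complete_local (R : Type u) [CommRing R] [IsLocalRing R] [IsNoetherianRing R]
    [IsAdicComplete (maximalIdeal R) R] : IsNagata R := by
  refine ⟨inferInstance, fun p hp => ?_⟩
  have : IsLocalRing (R ⧸ p) := IsLocalRing.of_surjective' (Ideal.Quotient.mk p) Ideal.Quotient.mk_surjective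
  have := isAdicComplete_quotient p
  exact isN2_of_complete_local_domain (R ⧸ p)

end Groth.Agent.CAlgH
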