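import Mathlib
import Groth.Prelude.Def_Found
import Groth.Agent.CAlgH.NagataBase
import Groth.Agent.CAlgH.NagataComplete
import Groth.Agent.Matlis6.CompletionNoetherian

/-! Analytic unramifiedness of Nagata local rings. -/
universe u
open CAlg IsLocalRing TensorProduct

namespace Groth.Agent.CAlgH

/-- `p A_p` is principal, elementwise. -/
def GoodPrime {A : Type u} [CommRing A] (p : Ideal A) : Prop :=
  ∃ a ∈ p, ∃ s : A, s ∉ p ∧ ∀ b ∈ p, ∃ c : A, s * b = a * c

theorem exists_frac_unit {R K : Type u} [CommRing R] [IsDomain R] [IsNoetherianRing R] [IsIntegrallyClosed R] [Field K]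
    [Algebra R K] [IsFractionRing R K] {p : Ideal R} [hp : p.IsPrime] (y : K)
    (hy : ∀ b : R, b ∈ p ↔ ∃ r : R, algebraMap R K r = algebraMap R K b * y) :
    ∃ a ∈ p, ∃ s : R, s ∉ p ∧ algebraMap R K s = algebraMap R K a * y := by
  have h1 : ¬ IsIntegral R y := fun hi => by
    obtain ⟨r, hr⟩ := IsIntegrallyClosed.isIntegral_iff.mp hi
    exact hp.one_notMem ((hy 1).mpr ⟨r, by rw [map_one, one_mul, hr]⟩)
  let N : Submodule R K := Submodule.map (Algebra.linearMap R K) (p.restrictScalars R)
  by_cases h : ∀ b ∈ p, ∀ r : R, algebraMap R K r = algebraMap R K b * y → r ∈ p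
  · exfalso
    refine h1 (isIntegral_of_smul_mem_submodule (M := K) N ?_ (Submodule.FG.map _ (IsNoetherian.noetherian (p.restrictScalars R))) y ?_)
    · obtain ⟨a, b, hb, hab⟩ := IsFractionRing.div_surjective R y
      have hb' : algebraMap R K b ≠ 0 := (map_ne_zero_iff _ (IsFractionRing.injective R K)).mpr (nonZeroDivisors.ne_zero hb)
      have hbp : b ∈ p := (hy b).mpr ⟨a, by rw [← hab, mul_div_cancel₀ _ hb']⟩
      intro hN
      have : algebraMap R K b ∈ N := ⟨b, hbp, rfl⟩
      rw [hN, Submodule.mem_bot] at this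
      exact hb' this
    · rintro _ ⟨b, hb, rfl⟩
      obtain ⟨r, hr⟩ := (hy b).mp hb
      exact ⟨r, h b hb r hr, by show algebraMap R K r = y * algebraMap R K b; rw [hr, mul_comm]⟩
  · push Not at h
    obtain ⟨a, ha, s, hs, hsp⟩ := h
    exact ⟨a, ha, s, hsp, hs⟩

theorem goodPrime_of_frac {R K : Type u} [CommRing R] [IsDomain R] [IsNoetherianRing R] [IsIntegrallyClosed R] [Field K]
    [Algebra R K] [IsFractionRing R K] {p : Ideal R} [hp : p.IsPrime] (y : K)
    (hy : ∀ b : R, b ∈ p ↔ ∃ r : R, algebraMap R K r = algebraMap R K b * y) : GoodPrime p := by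
  obtain ⟨a, ha, s, hsp, hs⟩ := exists_frac_unit y hy
  refine ⟨a, ha, s, hsp, fun b hb => ?_⟩
  obtain ⟨c, hc⟩ := (hy b).mp hb
  exact ⟨c, IsFractionRing.injective R K (by rw [map_mul, map_mul, hs, hc]; ring)⟩

theorem goodPrime_of_isAssociatedPrime {R : Type u} [CommRing R] [IsDomain R] [IsNoetherianRing R] [IsIntegrallyClosed R]
    {x : R} (hx : x ≠ 0) {p : Ideal R} (hp : IsAssociatedPrime p (R ⧸ Ideal.span {x})) : GoodPrime p := by
  obtain ⟨hp', z, hz⟩ := isAssociatedPrime_iff.mp hp
  obtain ⟨c, rfl⟩ := Ideal.Quotient.mk_surjective z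
  have hx' : algebraMap R (FractionRing R) x ≠ 0 :=
    (map_ne_zero_iff _ (IsFractionRing.injective R (FractionRing R))).mpr hx
  refine goodPrime_of_frac (K := FractionRing R) (algebraMap R _ c / algebraMap R _ x) fun b => ?_
  rw [hz, Submodule.mem_colon_singleton, Submodule.mem_bot, Algebra.smul_def, Ideal.Quotient.algebraMap_eq, ← map_mul,
    Ideal.Quotient.eq_zero_iff_mem, Ideal.mem_span_singleton']
  constructor
  · rintro ⟨r, hr⟩
    exact ⟨r, by rw [← mul_div_assoc, eq_div_iff hx', ← map_mul, ← map_mul, hr]⟩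
  · rintro ⟨r, hr⟩
    exact ⟨r, IsFractionRing.injective R (FractionRing R) (by rw [map_mul, map_mul, hr, mul_assoc, div_mul_cancel₀ _ hx'])⟩

/-- The key criterion. -/
theorem isReduced_of_goodPrimes {A Ah : Type u} [CommRing A] [IsDomain A] [IsNoetherianRing A] [CommRing Ah]
    [Algebra A Ah] [Module.Flat A Ah] [IsNoetherianRing Ah] (x : A) (hx0 : x ≠ 0)
    (hjac : algebraMap A Ah x ∈ Ideal.jacobson (⊥ : Ideal Ah))
    (h : ∀ p : Ideal A, IsAssociatedPrime p (A ⧸ Ideal.span {x}) →
      GoodPrime p ∧ IsReduced (Ah ⧸ p.map (algebraMap A Ah))) : IsReduced Ah := by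
  classical
  have hreg : ∀ a : A, a ≠ 0 → ∀ w : Ah, algebraMap A Ah a * w = 0 → w = 0 := by
    intro a ha w hw
    have hr : IsSMulRegular Ah a := Module.Flat.isSMulRegular_of_isRegular (IsRegular.of_ne_zero ha)
    apply hr
    show a • w = a • (0 : Ah)
    rw [smul_zero, Algebra.smul_def]; exact hw
  have step : ∀ z : Ah, IsNilpotent z → ∃ z1, IsNilpotent z1 ∧ z = algebraMap A Ah x * z1 := by
    intro z hz
    let J : Ideal A := (Ideal.span {algebraMap A Ah x} : Ideal Ah).colon {z} |>.comap (algebraMap A Ah)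
    have hJ : ∀ p : Ideal A, IsAssociatedPrime p (A ⧸ Ideal.span {x}) → ¬ J ≤ p := by
      intro p hp hle
      obtain ⟨hgood, hred⟩ := h p hp
      have hpp : p.IsPrime := hp.isPrime
      obtain ⟨a, ha, s, hs, hsp⟩ := hgood
      have hxp : x ∈ p := by
        obtain ⟨-, w, hw⟩ := isAssociatedPrime_iff.mp hp
        rw [hw, Submodule.mem_colon_singleton, Submodule.mem_bot]
        obtain ⟨c, rfl⟩ := Ideal.Quotient.mk_surjective w
        rw [Algebra.smul_def, Ideal.Quotient.algebraMap_eq, ← map_mul, Ideal.Quotient.eq_zero_iff_mem]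
        exact Ideal.mul_mem_right _ _ (Ideal.mem_span_singleton_self x)
      have ha0 : a ≠ 0 := by
        rintro rfl
        obtain ⟨c, hc⟩ := hsp x hxp
        rw [zero_mul, mul_eq_zero] at hc
        exact hc.elim (fun h => hs (h ▸ p.zero_mem)) hx0
      have hdiv : ∀ (k : ℕ) (w : Ah), IsNilpotent w → ∃ t : A, t ∉ p ∧ ∃ v, algebraMap A Ah t * w = algebraMap A Ah (a ^ k) * v ∧ IsNilpotent v := by
        intro k
        induction k with
        | zero => exact fun w hw => ⟨1, hpp.one_notMem, w, by simp, hw⟩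
        | succ k ih =>
          intro w hw
          obtain ⟨t, ht, v, hv, hvn⟩ := ih w hw
          have hvp : v ∈ p.map (algebraMap A Ah) := Ideal.Quotient.eq_zero_iff_mem.mp (hvn.map _).eq_zero
          have hsv : ∀ u ∈ p.map (algebraMap A Ah), ∃ u', algebraMap A Ah s * u = algebraMap A Ah a * u' := by
            intro u hu
            rw [Ideal.map] at hu
            induction hu using Submodule.span_induction with
            | mem u hu =>
              obtain ⟨b, hb, rfl⟩ := hu
              obtain ⟨c, hc⟩ := hsp b hb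
              exact ⟨algebraMap A Ah c, by rw [← map_mul, hc, map_mul]⟩
            | zero => exact ⟨0, by simp⟩
            | add u u' _ _ hu hu' =>
              obtain ⟨c, hc⟩ := hu; obtain ⟨c', hc'⟩ := hu'
              exact ⟨c + c', by rw [mul_add, hc, hc', mul_add]⟩
            | smul r u _ hu =>
              obtain ⟨c, hc⟩ := hu
              exact ⟨r * c, by rw [smul_eq_mul, mul_left_comm, hc, mul_left_comm]⟩
          obtain ⟨v', hv'⟩ := hsv v hvp
          refine ⟨s * t, fun h => (hpp.mem_or_mem h).elim hs ht, v', ?_, ?_⟩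
          · rw [map_mul, mul_assoc, hv, mul_left_comm, hv', ← mul_assoc, ← map_mul, pow_succ]
          · obtain ⟨n, hn⟩ := hvn
            refine ⟨n, hreg (a ^ n) (pow_ne_zero n ha0) _ ?_⟩
            rw [map_pow, ← mul_pow, ← hv', mul_pow, hn, mul_zero]
      obtain ⟨n, hn1, hn2⟩ : ∃ n, (∃ t : A, t ∉ p ∧ ∃ u, t * x = a ^ n * u) ∧
          ¬ ∃ t : A, t ∉ p ∧ ∃ u, t * x = a ^ (n + 1) * u := by
        have hbd : ∃ N, ¬ ∃ t : A, t ∉ p ∧ ∃ u, t * x = a ^ N * u := by
          by_contra hcon
          push Not at hcon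
          let Ap := Localization.AtPrime p
          have hx1 : algebraMap A Ap x = 0 := IsHausdorff.haus (I := maximalIdeal Ap) inferInstance _ fun N => by
            obtain ⟨t, ht, u, htu⟩ := hcon N
            obtain ⟨w, hw⟩ := IsLocalization.map_units Ap (⟨t, ht⟩ : p.primeCompl)
            rw [SModEq.zero, smul_eq_mul, Ideal.mul_top]
            have h1 : (w : Ap) * algebraMap A Ap x ∈ maximalIdeal Ap ^ N := by
              rw [hw, ← map_mul, htu, map_mul, map_pow]
              refine Ideal.mul_mem_right _ _ (Ideal.pow_mem_pow ((mem_maximalIdeal _).mpr ?_) N)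
              exact fun hu => ((IsLocalization.AtPrime.isUnit_to_map_iff Ap p a).mp hu) ha
            simpa using Ideal.mul_mem_left _ (↑w⁻¹ : Ap) h1
          exact hx0 ((IsLocalization.injective Ap p.primeCompl_le_nonZeroDivisors) (by rw [hx1, map_zero]))
        obtain ⟨m, hm⟩ : ∃ m, Nat.find hbd = m + 1 := Nat.exists_eq_succ_of_ne_zero fun h0 => by
          have := Nat.find_spec hbd
          rw [h0] at this
          exact this ⟨1, hpp.one_notMem, x, by simp⟩
        exact ⟨m, not_not.mp (Nat.find_min hbd (by omega)), hm ▸ Nat.find_spec hbd⟩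
      obtain ⟨t, ht, u, htu⟩ := hn1
      have hu : u ∉ p := fun hu => hn2 ⟨s * t, fun h => (hpp.mem_or_mem h).elim hs ht, by
        obtain ⟨c, hc⟩ := hsp u hu
        exact ⟨c, by rw [mul_assoc, htu, pow_succ, mul_assoc (a ^ n), ← hc]; ring⟩⟩
      obtain ⟨t', ht', v, hv, -⟩ := hdiv n z hz
      have : u * t' ∈ J := by
        show algebraMap A Ah (u * t') ∈ (Ideal.span {algebraMap A Ah x} : Ideal Ah).colon {z}
        rw [Submodule.mem_colon_singleton, smul_eq_mul, Ideal.mem_span_singleton']
        refine ⟨algebraMap A Ah t * v, ?_⟩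
        have h5 := congrArg (algebraMap A Ah) htu
        rw [map_mul, map_mul] at h5
        rw [map_mul]
        linear_combination v * h5 - algebraMap A Ah u * hv
      exact (hpp.mem_or_mem (hle this)).elim hu ht'
    have hnot : ¬ ((J : Set A) ⊆ ⋃ p ∈ associatedPrimes A (A ⧸ Ideal.span {x}), (p : Set A)) := by
      intro hsub
      have hf := associatedPrimes.finite A (A ⧸ Ideal.span {x})
      obtain ⟨p, hp, hle⟩ := (Ideal.subset_union_prime_finite hf (f := id) ⊤ ⊤ (fun p hp _ _ => hp.isPrime)).mp hsub
      exact hJ p hp hle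
    rw [biUnion_associatedPrimes_eq_zero_divisors, Set.not_subset] at hnot
    obtain ⟨t, htJ, htnz⟩ := hnot
    have hts : IsSMulRegular (A ⧸ Ideal.span {x}) t := by
      intro u v huv
      by_contra hne
      exact htnz ⟨u - v, sub_ne_zero.mpr hne, by rw [smul_sub]; exact sub_eq_zero.mpr huv⟩
    have htsA : IsSMulRegular (Ah ⊗[A] (A ⧸ Ideal.span {x})) t := by
      have h1 := Module.Flat.lTensor_preserves_injective_linearMap (M := Ah)
        (LinearMap.lsmul A (A ⧸ Ideal.span {x}) t) hts
      intro u v huv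
      apply h1
      have e : LinearMap.lTensor Ah (LinearMap.lsmul A (A ⧸ Ideal.span {x}) t) = LinearMap.lsmul A _ t :=
        TensorProduct.ext' fun a b => by simp [TensorProduct.smul_tmul']
      rw [e]; exact huv
    let e := Algebra.TensorProduct.quotIdealMapEquivTensorQuot Ah (Ideal.span {x})
    have hz0 : Ideal.Quotient.mk ((Ideal.span {x}).map (algebraMap A Ah)) z = 0 := by
      apply e.injective
      rw [map_zero]
      apply htsA
      show t • _ = t • (0 : Ah ⊗[A] (A ⧸ Ideal.span {x}))
      rw [smul_zero]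
      show t • (e.restrictScalars A) (Ideal.Quotient.mk _ z) = 0
      rw [← map_smul]
      have : t • Ideal.Quotient.mk ((Ideal.span {x}).map (algebraMap A Ah)) z = 0 := by
        rw [Algebra.smul_def, IsScalarTower.algebraMap_apply A Ah (Ah ⧸ _), Ideal.Quotient.algebraMap_eq, ← map_mul,
          Ideal.Quotient.eq_zero_iff_mem, Ideal.map_span, Set.image_singleton]
        have h3 : algebraMap A Ah t ∈ (Ideal.span {algebraMap A Ah x} : Ideal Ah).colon {z} := htJ
        rwa [Submodule.mem_colon_singleton, smul_eq_mul] at h3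
      rw [this, map_zero]
    rw [Ideal.Quotient.eq_zero_iff_mem, Ideal.map_span, Set.image_singleton, Ideal.mem_span_singleton'] at hz0
    obtain ⟨z1, hz1⟩ := hz0
    obtain ⟨n, hn⟩ := hz
    refine ⟨z1, ⟨n, hreg (x ^ n) (pow_ne_zero n hx0) _ ?_⟩, by rw [← hz1, mul_comm]⟩
    rw [map_pow, ← mul_pow, mul_comm, hz1, hn]
  refine ⟨fun z hz => ?_⟩
  have hH : IsHausdorff (Ideal.span {algebraMap A Ah x}) Ah :=
    IsHausdorff.of_le_jacobson _ _ ((Ideal.span_singleton_le_iff_mem _).mpr hjac)
  refine IsHausdorff.haus hH z fun n => ?_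
  rw [SModEq.zero, smul_eq_mul, Ideal.mul_top, Ideal.span_singleton_pow]
  induction n generalizing z with
  | zero => simp
  | succ n ih =>
    obtain ⟨z1, hz1, rfl⟩ := step z hz
    obtain ⟨c, hc⟩ := Ideal.mem_span_singleton'.mp (ih z1 hz1)
    exact Ideal.mem_span_singleton'.mpr ⟨c, by rw [← hc, pow_succ]; ring⟩

theorem completion_quotient_equiv {A B : Type u} [CommRing A] [IsLocalRing A] [IsNoetherianRing A] [CommRing B]
    [IsLocalRing B] [IsNoetherianRing B] (π : A →+* B) (hπ : Function.Surjective π) :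
    Nonempty ((AdicCompletion (maximalIdeal A) A ⧸ (RingHom.ker π).map (algebraMap A (AdicCompletion (maximalIdeal A) A)))
      ≃+* AdicCompletion (maximalIdeal B) B) := by
  have : IsLocalHom π := IsLocalHom.of_surjective π hπ
  have := Groth.Agent.Matlis6.isNoetherianRing_adicCompletion (maximalIdeal A)
  let m := maximalIdeal A
  let Ah := AdicCompletion m A
  have hmB : m.map π = maximalIdeal B := by
    refine le_antisymm (Ideal.map_le_iff_le_comap.mpr fun a ha h => (mem_maximalIdeal a).mp ha (isUnit_of_map_unit π a h)) fun b hb => ?_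
    obtain ⟨a, rfl⟩ := hπ b
    exact Ideal.mem_map_of_mem π ((mem_maximalIdeal a).mpr fun h => (mem_maximalIdeal _).mp hb (h.map π))
  have hle : ∀ n, m ^ n ≤ (maximalIdeal B ^ n).comap π := fun n => by
    rw [← hmB, ← Ideal.map_pow]; exact Ideal.le_comap_map
  let f : (n : ℕ) → Ah →+* B ⧸ maximalIdeal B ^ n := fun n =>
    (Ideal.quotientMap (maximalIdeal B ^ n) π (hle n)).comp (AdicCompletion.evalₐ m n).toRingHom
  have hf : ∀ {i j : ℕ} (h : i ≤ j), (Ideal.Quotient.factorPow (maximalIdeal B) h).comp (f j) = f i := by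
    intro i j h
    refine RingHom.ext fun x => ?_
    induction x using AdicCompletion.induction_on with
    | _ g =>
      show Ideal.Quotient.factorPow (maximalIdeal B) h (Ideal.quotientMap _ π (hle j) (AdicCompletion.evalₐ m j (AdicCompletion.mk m A g))) = Ideal.quotientMap _ π (hle i) (AdicCompletion.evalₐ m i (AdicCompletion.mk m A g))
      rw [AdicCompletion.evalₐ_mk, AdicCompletion.evalₐ_mk]
      have := congrArg (Ideal.quotientMap (maximalIdeal B ^ i) π (hle i)) (AdicCompletion.Ideal.mk_eq_mk m h g)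
      simpa [Ideal.quotientMap_mk] using this
  let φ : Ah →+* AdicCompletion (maximalIdeal B) B := AdicCompletion.liftRingHom (maximalIdeal B) f hf
  have hfg : m.FG := IsNoetherian.noetherian m
  have hmaxA : maximalIdeal Ah = m.map (algebraMap A Ah) := AdicCompletion.maximalIdeal_eq_map
  have hφof : ∀ a : A, φ (algebraMap A Ah a) = algebraMap B _ (π a) := by
    intro a
    refine AdicCompletion.ext_evalₐ fun n => ?_
    rw [AdicCompletion.evalₐ_liftRingHom]
    simp [f]
  have hmapB : (maximalIdeal Ah).map φ = maximalIdeal (AdicCompletion (maximalIdeal B) B) := by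
    rw [hmaxA, Ideal.map_map, show φ.comp (algebraMap A Ah) = (algebraMap B _).comp π from RingHom.ext hφof,
      ← Ideal.map_map, hmB, AdicCompletion.maximalIdeal_eq_map]
  have hsurj : Function.Surjective φ := by
    have : IsHausdorff ((maximalIdeal Ah).map φ) (AdicCompletion (maximalIdeal B) B) := by
      rw [hmapB]; infer_instance
    apply surjective_of_mk_map_comp_surjective (I := maximalIdeal Ah) φ
    intro y
    obtain ⟨y, rfl⟩ := Ideal.Quotient.mk_surjective y
    obtain ⟨b, hb⟩ := Ideal.Quotient.mk_surjective (AdicCompletion.evalOneₐ (maximalIdeal B) y)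
    obtain ⟨a, rfl⟩ := hπ b
    refine ⟨algebraMap A Ah a, ?_⟩
    rw [RingHom.comp_apply, hφof, Ideal.Quotient.eq, hmapB, AdicCompletion.maximalIdeal_eq_map,
      ← AdicCompletion.ker_evalOneₐ_eq_map _ (IsNoetherian.noetherian _), RingHom.mem_ker, map_sub, sub_eq_zero]
    exact (AlgHom.commutes _ _).trans hb
  have hker : RingHom.ker φ = (RingHom.ker π).map (algebraMap A Ah) := by
    refine le_antisymm (fun x hx => ?_) (Ideal.map_le_iff_le_comap.mpr fun a ha => ?_)
    · let P := (RingHom.ker π).map (algebraMap A Ah)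
      have hH : IsHausdorff (maximalIdeal Ah) (Ah ⧸ P) := inferInstance
      rw [← Ideal.Quotient.eq_zero_iff_mem]
      refine hH.haus _ fun n => ?_
      rw [SModEq.zero]
      have h1 : f n x = 0 := by
        rw [← AdicCompletion.evalₐ_liftRingHom (maximalIdeal B) f hf]
        show AdicCompletion.evalₐ _ n (φ x) = 0
        rw [RingHom.mem_ker.mp hx, map_zero]
      obtain ⟨a, ha⟩ := Ideal.Quotient.mk_surjective (AdicCompletion.evalₐ m n x)
      simp only [f, RingHom.comp_apply, AlgHom.toRingHom_eq_coe, RingHom.coe_coe, ← ha, Ideal.quotientMap_mk,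
        Ideal.Quotient.eq_zero_iff_mem, ← hmB, ← Ideal.map_pow] at h1
      obtain ⟨b, hb, hba⟩ := (Ideal.mem_map_iff_of_surjective π hπ).mp h1
      have h2 : algebraMap A Ah (a - b) ∈ P := Ideal.mem_map_of_mem _ (by rw [RingHom.mem_ker, map_sub, hba, sub_self])
      have h3 : x - algebraMap A Ah (a - b) ∈ maximalIdeal Ah ^ n := by
        rw [hmaxA, ← Ideal.map_pow, ← Submodule.restrictScalars_mem A, ← Ideal.smul_top_eq_map,
          AdicCompletion.pow_smul_top_eq_ker_eval hfg, LinearMap.mem_ker, map_sub, sub_eq_zero]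
        have h4 : AdicCompletion.evalₐ m n (algebraMap A Ah (a - b)) = AdicCompletion.evalₐ m n x := by
          rw [AlgHom.commutes, ← ha, Ideal.Quotient.algebraMap_eq, Ideal.Quotient.eq, sub_sub_cancel_left]
          exact (m ^ n).neg_mem hb
        rw [← AdicCompletion.factor_evalₐ_eq_eval m x (by simp), ← AdicCompletion.factor_evalₐ_eq_eval m _ (by simp), h4]
      have h5 := Submodule.smul_mem_smul h3 (Submodule.mem_top : (1 : Ah ⧸ P) ∈ (⊤ : Submodule Ah (Ah ⧸ P)))
      rw [Algebra.smul_def, mul_one, Ideal.Quotient.algebraMap_eq, map_sub, Ideal.Quotient.eq_zero_iff_mem.mpr h2, sub_zero] at h5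
      exact h5
    · rw [Ideal.mem_comap, RingHom.mem_ker, hφof, RingHom.mem_ker.mp ha, map_zero]
  exact ⟨(Ideal.quotEquivOfEq hker.symm).trans (RingHom.quotientKerEquivOfSurjective hsurj)⟩

set_option maxHeartbeats 800000 in
/-- `R̂ ⊗ T` is reduced for every finite domain `T` over a Nagata local ring. -/
theorem isReduced_completion_tensor {R : Type u} [CommRing R] [IsLocalRing R] (hR : IsNagata R)
    (T : Type u) [CommRing T] [IsDomain T] [Algebra R T] [Module.Finite R T] :
    IsReduced (AdicCompletion (maximalIdeal R) R ⊗[R] T) := by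
  have := hR.1
  have := Groth.Agent.Matlis6.isNoetherianRing_adicCompletion (maximalIdeal R)
  let Rh := AdicCompletion (maximalIdeal R) R
  suffices H : ∀ q : Ideal R, ∀ (T : Type u) [CommRing T] [IsDomain T] [Algebra R T] [Module.Finite R T],
      RingHom.ker (algebraMap R T) = q → IsReduced (Rh ⊗[R] T) from H _ T rfl
  intro q
  induction q using (IsWellFounded.wf (r := ((· > ·) : Ideal R → Ideal R → Prop))).induction with
  | h q ih =>
    intro T _ _ _ _ hq
    subst hq
    have := RingHom.ker_isPrime (algebraMap R T)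
    have : IsNoetherianRing (R ⧸ RingHom.ker (algebraMap R T)) := inferInstance
    have hN2 : IsN2 T := isN2_of_finite_injective (RingHom.kerLift (algebraMap R T))
      (RingHom.kerLift_injective _)
      (RingHom.Finite.of_comp_finite (f := Ideal.Quotient.mk (RingHom.ker (algebraMap R T)))
        (show ((RingHom.kerLift (algebraMap R T)).comp (Ideal.Quotient.mk _)).Finite from RingHom.finite_algebraMap.mpr inferInstance))
      (hR.2 _)
    let C := integralClosure T (FractionRing T)
    have hTC : Module.Finite T C := isN2_apply hN2 (FractionRing T) (FractionRing T)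
    have : Module.Finite R C := Module.Finite.trans T C
    have : IsNoetherianRing T := IsNoetherianRing.of_finite R T
    have : IsNoetherianRing C := IsNoetherianRing.of_finite T C
    have : IsIntegrallyClosed C := integralClosure.isIntegrallyClosedOfFiniteExtension (FractionRing T)
    have hTCinj : Function.Injective (algebraMap T C) := fun a b h =>
      IsFractionRing.injective T (FractionRing T) (congrArg Subtype.val h)
    suffices IsReduced (Rh ⊗[R] C) from
      isReduced_of_injective (Algebra.TensorProduct.map (AlgHom.id R Rh) (IsScalarTower.toAlgHom R T C))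
        (Module.Flat.lTensor_preserves_injective_linearMap (IsScalarTower.toAlgHom R T C).toLinearMap hTCinj)
    have hkerC : RingHom.ker (algebraMap R C) = RingHom.ker (algebraMap R T) := by
      ext r
      rw [RingHom.mem_ker, RingHom.mem_ker, IsScalarTower.algebraMap_apply R T C, map_eq_zero_iff _ hTCinj]
    by_cases hm : maximalIdeal R ≤ RingHom.ker (algebraMap R C)
    · have hff : Module.FaithfullyFlat R Rh := Module.FaithfullyFlat.of_flat_of_isLocalHom
      have hs : Function.Surjective (Algebra.TensorProduct.includeRight : C →ₐ[R] Rh ⊗[R] C) := by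
        intro w
        induction w using TensorProduct.induction_on with
        | zero => exact ⟨0, map_zero _⟩
        | add a b ha hb =>
          obtain ⟨a, rfl⟩ := ha; obtain ⟨b, rfl⟩ := hb; exact ⟨a + b, map_add _ _ _⟩
        | tmul r c =>
          obtain ⟨r0, hr0⟩ := Ideal.Quotient.mk_surjective (AdicCompletion.evalOneₐ (maximalIdeal R) r)
          refine ⟨r0 • c, ?_⟩
          have h1 : r - algebraMap R Rh r0 ∈ (maximalIdeal R).map (algebraMap R Rh) := by
            rw [← AdicCompletion.ker_evalOneₐ_eq_map _ (IsNoetherian.noetherian _), RingHom.mem_ker, map_sub, sub_eq_zero]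
            exact hr0.symm.trans (AlgHom.commutes _ _).symm
          have h2 : ∀ w ∈ (maximalIdeal R).map (algebraMap R Rh), w ⊗ₜ[R] c = 0 := by
            intro w hw
            rw [← Submodule.restrictScalars_mem R, ← Ideal.smul_top_eq_map] at hw
            refine Submodule.smul_induction_on hw (fun m hm' u _ => ?_) (fun a b ha hb => by rw [add_tmul, ha, hb, add_zero])
            rw [smul_tmul, Algebra.smul_def, RingHom.mem_ker.mp (hm hm'), zero_mul, tmul_zero]
          rw [Algebra.TensorProduct.includeRight_apply, ← smul_tmul, Algebra.smul_def, mul_one]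
          have := h2 _ h1
          rw [sub_tmul, sub_eq_zero] at this
          exact this.symm
      exact (RingEquiv.ofBijective (Algebra.TensorProduct.includeRight : C →ₐ[R] Rh ⊗[R] C).toRingHom
        ⟨Module.FaithfullyFlat.tensorProduct_mk_injective (A := R) (B := Rh) C, hs⟩).symm.injective |>
        isReduced_of_injective _
    · obtain ⟨x, hxm, hx⟩ := SetLike.not_le_iff_exists.mp hm
      rw [RingHom.mem_ker] at hx
      suffices IsReduced (C ⊗[R] Rh) from
        isReduced_of_injective (Algebra.TensorProduct.comm R Rh C).toRingHom (Algebra.TensorProduct.comm R Rh C).injective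
      have : IsNoetherianRing (C ⊗[R] Rh) :=
        have : IsNoetherianRing (Rh ⊗[R] C) := IsNoetherianRing.of_finite Rh _
        isNoetherianRing_of_ringEquiv (S := C ⊗[R] Rh) (Rh ⊗[R] C) (Algebra.TensorProduct.comm R Rh C).toRingEquiv
      refine isReduced_of_goodPrimes (A := C) (Ah := C ⊗[R] Rh) (algebraMap R C x) hx ?_ fun p hp => ⟨goodPrime_of_isAssociatedPrime hx hp, ?_⟩
      · letI : Algebra Rh (C ⊗[R] Rh) := (Algebra.TensorProduct.includeRight : Rh →ₐ[R] C ⊗[R] Rh).toRingHom.toAlgebra
        have he : (Algebra.TensorProduct.includeRight : Rh →ₐ[R] C ⊗[R] Rh).toRingHom =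
            (Algebra.TensorProduct.comm R Rh C).toRingEquiv.toRingHom.comp (algebraMap Rh (Rh ⊗[R] C)) :=
          RingHom.ext fun r => by simp
        have hint : Algebra.IsIntegral Rh (C ⊗[R] Rh) := algebraMap_isIntegral_iff.mp (by
          rw [RingHom.algebraMap_toAlgebra, he]
          exact RingHom.IsIntegral.trans (algebraMap Rh (Rh ⊗[R] C)) (Algebra.TensorProduct.comm R Rh C).toRingEquiv.toRingHom
            (algebraMap_isIntegral_iff.mpr (Algebra.IsIntegral.of_finite Rh (Rh ⊗[R] C)))
            (RingHom.isIntegral_of_surjective _ fun z => ⟨_, (Algebra.TensorProduct.comm R Rh C).apply_symm_apply z⟩))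
        have hxR : algebraMap R Rh x ∈ maximalIdeal Rh := by
          rw [AdicCompletion.maximalIdeal_eq_map]; exact Ideal.mem_map_of_mem _ hxm
        rw [Ideal.jacobson, Submodule.mem_sInf]
        rintro M ⟨-, hM⟩
        have hc : (Ideal.comap (algebraMap Rh (C ⊗[R] Rh)) M).IsMaximal :=
          @Ideal.isMaximal_comap_of_isIntegral_of_isMaximal Rh _ (C ⊗[R] Rh) _ _ hint M hM
        rw [← IsLocalRing.eq_maximalIdeal hc] at hxR
        convert (Ideal.mem_comap.mp hxR) using 1
        show algebraMap R C x ⊗ₜ[R] (1 : Rh) = (1 : C) ⊗ₜ[R] algebraMap R Rh x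
        rw [Algebra.algebraMap_eq_smul_one, Algebra.algebraMap_eq_smul_one, smul_tmul]
      · have hp' : p.IsPrime := hp.isPrime
        have : Module.Finite R (C ⧸ p) := Module.Finite.of_surjective (Ideal.Quotient.mkₐ R p).toLinearMap Ideal.Quotient.mk_surjective
        have hxp : algebraMap R C x ∈ p := by
          obtain ⟨-, w, hw⟩ := isAssociatedPrime_iff.mp hp
          obtain ⟨c, rfl⟩ := Ideal.Quotient.mk_surjective w
          rw [hw, Submodule.mem_colon_singleton, Submodule.mem_bot, Algebra.smul_def, Ideal.Quotient.algebraMap_eq, ← map_mul,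
            Ideal.Quotient.eq_zero_iff_mem]
          exact Ideal.mul_mem_right _ _ (Ideal.mem_span_singleton_self _)
        have hgt : RingHom.ker (algebraMap R T) < RingHom.ker (algebraMap R (C ⧸ p)) := by
          rw [← hkerC]
          refine SetLike.lt_iff_le_and_exists.mpr ⟨fun r hr => ?_, x, ?_, by simpa using hx⟩
          · rw [RingHom.mem_ker, IsScalarTower.algebraMap_apply R C (C ⧸ p), RingHom.mem_ker.mp hr, map_zero]
          · rw [RingHom.mem_ker, IsScalarTower.algebraMap_apply R C (C ⧸ p)]
            exact Ideal.Quotient.eq_zero_iff_mem.mpr hxp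
        have hred := ih _ hgt (C ⧸ p) rfl
        let e1 := Algebra.TensorProduct.quotientTensorEquiv (R := R) R Rh C p
        let e2 := Algebra.TensorProduct.comm R (C ⧸ p) Rh
        exact isReduced_of_injective (e2.toRingEquiv.toRingHom.comp e1.symm.toRingEquiv.toRingHom)
          (e2.injective.comp e1.symm.injective)

theorem isReduced_completion_quotient {R : Type u} [CommRing R] [IsLocalRing R] (hR : IsNagata R) (p : Ideal R)
    [p.IsPrime] [IsLocalRing (R ⧸ p)] : IsReduced (AdicCompletion (maximalIdeal (R ⧸ p)) (R ⧸ p)) := by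
  have := hR.1
  obtain ⟨e⟩ := completion_quotient_equiv (Ideal.Quotient.mk p) Ideal.Quotient.mk_surjective
  have h1 := isReduced_completion_tensor hR (R ⧸ p)
  have h2 : IsReduced (AdicCompletion (maximalIdeal R) R ⧸ p.map (algebraMap R (AdicCompletion (maximalIdeal R) R))) :=
    isReduced_of_injective (Algebra.TensorProduct.quotIdealMapEquivTensorQuot (AdicCompletion (maximalIdeal R) R) p).toRingHom
      (AlgEquiv.injective _)
  rw [← Ideal.mk_ker (I := p)] at h2
  exact isReduced_of_injective e.symm.toRingHom e.symm.injective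

theorem isReduced_completion_of_surjective {R B : Type u} [CommRing R] [IsLocalRing R] (hR : IsNagata R)
    [CommRing B] [IsDomain B] [IsLocalRing B] [IsNoetherianRing B] (ρ : R →+* B) (hρ : Function.Surjective ρ) :
    IsReduced (AdicCompletion (maximalIdeal B) B) := by
  have := hR.1
  haveI : (RingHom.ker ρ).IsPrime := RingHom.ker_isPrime ρ
  obtain ⟨e⟩ := completion_quotient_equiv ρ hρ
  have h1 := isReduced_completion_tensor hR (R ⧸ RingHom.ker ρ)
  have h2 : IsReduced (AdicCompletion (maximalIdeal R) R ⧸ (RingHom.ker ρ).map (algebraMap R (AdicCompletion (maximalIdeal R) R))) :=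
    isReduced_of_injective (Algebra.TensorProduct.quotIdealMapEquivTensorQuot (AdicCompletion (maximalIdeal R) R) (RingHom.ker ρ)).toRingHom
      (AlgEquiv.injective _)
  exact isReduced_of_injective e.symm.toRingHom e.symm.injective

theorem isReduced_completion_of_isNagata {R : Type u} [CommRing R] [IsDomain R] [IsLocalRing R] (hR : IsNagata R) :
    IsReduced (AdicCompletion (maximalIdeal R) R) := by
  have := isReduced_completion_tensor hR R
  exact isReduced_of_injective (Algebra.TensorProduct.rid R R (AdicCompletion (maximalIdeal R) R)).symm.toRingHom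
    (AlgEquiv.injective _)

/-- Reduced completion implies N-1. -/
theorem isN1_of_isReduced_completion {A : Type u} [CommRing A] [IsDomain A] [IsLocalRing A] [IsNoetherianRing A]
    (hred : IsReduced (AdicCompletion (maximalIdeal A) A)) : IsN1 A := by
  classical
  let Ah := AdicCompletion (maximalIdeal A) A
  have : IsNoetherianRing Ah := Groth.Agent.Matlis6.isNoetherianRing_adicCompletion (maximalIdeal A)
  have : Module.FaithfullyFlat A Ah := Module.FaithfullyFlat.of_flat_of_isLocalHom
  let K := FractionRing A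
  let ι := {q : Ideal Ah // q ∈ minimalPrimes Ah}
  haveI : Finite ι := (minimalPrimes.finite_of_isNoetherianRing Ah).to_subtype
  haveI hprime : ∀ q : ι, q.1.IsPrime := fun q => q.2.1.1
  let θ : ∀ q : ι, A →+* FractionRing (Ah ⧸ q.1) := fun q =>
    (algebraMap Ah (FractionRing (Ah ⧸ q.1))).comp (algebraMap A Ah)
  have hθ : ∀ q, Function.Injective (θ q) := by
    intro q
    rw [injective_iff_map_eq_zero]
    intro a ha
    by_contra ha0
    rw [RingHom.comp_apply, IsScalarTower.algebraMap_apply Ah (Ah ⧸ q.1) (FractionRing (Ah ⧸ q.1)),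
      map_eq_zero_iff _ (IsFractionRing.injective (Ah ⧸ q.1) _)] at ha
    refine notMem_nonZeroDivisors_of_mem_mem_minimalPrimes (Ideal.Quotient.eq_zero_iff_mem.mp ha) q.2 ?_
    rw [mem_nonZeroDivisors_iff_right]
    intro w hw
    have hr : IsSMulRegular Ah a := Module.Flat.isSMulRegular_of_isRegular (IsRegular.of_ne_zero ha0)
    apply hr
    show a • w = a • (0 : Ah)
    rw [smul_zero, Algebra.smul_def, mul_comm]; exact hw
  let Θ : K →+* ((q : ι) → FractionRing (Ah ⧸ q.1)) := Pi.ringHom fun q => IsFractionRing.lift (hθ q)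
  have hΘ : ∀ a : A, Θ (algebraMap A K a) = algebraMap Ah _ (algebraMap A Ah a) := fun a =>
    funext fun q => IsFractionRing.lift_algebraMap (hθ q) a
  let W : Submodule Ah ((q : ι) → FractionRing (Ah ⧸ q.1)) :=
    Submodule.pi Set.univ fun q => (Subalgebra.toSubmodule (integralClosure (Ah ⧸ q.1) (FractionRing (Ah ⧸ q.1)))).restrictScalars Ah
  have hWfg : W.FG := by
    refine Submodule.fg_pi fun q => ?_
    have : IsLocalRing (Ah ⧸ q.1) := IsLocalRing.of_surjective' (Ideal.Quotient.mk q.1) Ideal.Quotient.mk_surjective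
    have := isAdicComplete_quotient q.1
    have h1 : Module.Finite (Ah ⧸ q.1) (integralClosure (Ah ⧸ q.1) (FractionRing (Ah ⧸ q.1))) :=
      isN2_apply (isN2_of_complete_local_domain (Ah ⧸ q.1)) (FractionRing (Ah ⧸ q.1)) (FractionRing (Ah ⧸ q.1))
    have h2 : Module.Finite Ah (integralClosure (Ah ⧸ q.1) (FractionRing (Ah ⧸ q.1))) := Module.Finite.trans (Ah ⧸ q.1) _
    exact Module.Finite.iff_fg.mp h2
  have hΘW : ∀ c : K, IsIntegral A c → Θ c ∈ W := by
    intro c hc q _
    show IsIntegral (Ah ⧸ q.1) (IsFractionRing.lift (hθ q) c)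
    obtain ⟨P, hP, hP0⟩ := hc
    refine ⟨P.map ((Ideal.Quotient.mk q.1).comp (algebraMap A Ah)), hP.map _, ?_⟩
    have h1 := congrArg (IsFractionRing.lift (hθ q)) hP0
    rw [Polynomial.hom_eval₂, map_zero] at h1
    rw [Polynomial.eval₂_map]
    convert h1 using 2
    · rfl
    ·
      refine RingHom.ext fun a => ?_
      show _ = IsFractionRing.lift (hθ q) (algebraMap A K a)
      rw [IsFractionRing.lift_algebraMap]
      rfl
  haveI : IsNoetherian Ah W := isNoetherian_of_fg_of_noetherian W hWfg
  let N : Finset (integralClosure A K) → Submodule Ah W := fun s => (Submodule.span Ah ((fun c : integralClosure A K => Θ (c : K)) '' (s : Set (integralClosure A K)))).comap W.subtype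
  obtain ⟨M, ⟨s, rfl⟩, hmax⟩ := set_has_maximal_iff_noetherian.mpr inferInstance (Set.range N) ⟨_, ⟨∅, rfl⟩⟩
  refine (isN1_iff_finite K).mpr ⟨⟨s, eq_top_iff.mpr fun c _ => ?_⟩⟩
  have hsc : N (insert c s) = N s := by
    by_contra hne
    refine hmax _ ⟨_, rfl⟩ (lt_of_le_of_ne (Submodule.comap_mono (Submodule.span_mono (Set.image_mono ?_))) (Ne.symm hne))
    exact Finset.coe_subset.mpr (Finset.subset_insert c s)
  have hc : Θ (c : K) ∈ Submodule.span Ah ((fun c : integralClosure A K => Θ (c : K)) '' (s : Set (integralClosure A K))) := by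
    have : (⟨Θ c, hΘW c c.2⟩ : W) ∈ N (insert c s) := Submodule.subset_span ⟨c, Finset.mem_insert_self c s, rfl⟩
    rw [hsc] at this; exact this
  obtain ⟨⟨d, hd⟩, hd'⟩ := IsLocalization.exist_integer_multiples_of_finset (nonZeroDivisors A) ((insert c s).image fun z : integralClosure A K => (z : K))
  have hd0 : d ≠ 0 := nonZeroDivisors.ne_zero hd
  have hint : ∀ z ∈ insert c s, ∃ a : A, algebraMap A K a = d • (z : K) := fun z hz =>
    hd' _ (Finset.mem_image_of_mem _ hz)
  choose! num hnum using hint
  let I : Ideal A := Ideal.span (num '' (s : Set (integralClosure A K)))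
  have hinj : Function.Injective (algebraMap Ah ((q : ι) → FractionRing (Ah ⧸ q.1))) := by
    rw [injective_iff_map_eq_zero]
    intro w hw
    have hmem : w ∈ nilradical Ah := by
      rw [nilradical, ← Ideal.sInf_minimalPrimes, Submodule.mem_sInf]
      intro q hq
      have h1 := congrFun hw ⟨q, hq⟩
      haveI : Ideal.IsPrime q := hq.1.1
      rw [Pi.algebraMap_apply, IsScalarTower.algebraMap_apply Ah (Ah ⧸ q) (FractionRing (Ah ⧸ q)), Pi.zero_apply,
        map_eq_zero_iff _ (IsFractionRing.injective (Ah ⧸ q) _)] at h1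
      exact Ideal.Quotient.eq_zero_iff_mem.mp h1
    exact (mem_nilradical.mp hmem).eq_zero
  have hkey : ∀ v ∈ Submodule.span Ah ((fun c : integralClosure A K => Θ (c : K)) '' (s : Set (integralClosure A K))),
      ∃ w ∈ I.map (algebraMap A Ah), algebraMap A Ah d • v = algebraMap Ah _ w := by
    intro v hv
    induction hv using Submodule.span_induction with
    | mem v hv =>
      obtain ⟨z, hz, rfl⟩ := hv
      refine ⟨algebraMap A Ah (num z), Ideal.mem_map_of_mem _ (Ideal.subset_span ⟨z, hz, rfl⟩), ?_⟩
      rw [← hΘ, hnum z (Finset.mem_insert_of_mem hz), Algebra.smul_def, Algebra.smul_def, map_mul, hΘ]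
    | zero => exact ⟨0, Ideal.zero_mem _, by simp⟩
    | add a b _ _ ha hb =>
      obtain ⟨w, hw, e⟩ := ha; obtain ⟨w', hw', e'⟩ := hb
      exact ⟨w + w', Ideal.add_mem _ hw hw', by rw [smul_add, e, e', map_add]⟩
    | smul r a _ ha =>
      obtain ⟨w, hw, e⟩ := ha
      exact ⟨r * w, Ideal.mul_mem_left _ _ hw, by rw [smul_comm, e, map_mul, Algebra.smul_def]⟩
  obtain ⟨w, hw, hwe⟩ := hkey _ hc
  have hnumc : algebraMap A Ah (num c) = w := by
    apply hinj
    rw [← hwe, ← hΘ, hnum c (Finset.mem_insert_self c s), Algebra.smul_def, Algebra.smul_def, map_mul, hΘ]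
  have hcI : num c ∈ I := by
    rw [← Ideal.comap_map_eq_self_of_faithfullyFlat (B := Ah) I, Ideal.mem_comap, hnumc]; exact hw
  have hlin : ∀ r ∈ I, ∃ e ∈ Submodule.span A (s : Set (integralClosure A K)), algebraMap A K r = d • (e : K) := by
    intro r hr
    induction hr using Submodule.span_induction with
    | mem r hr =>
      obtain ⟨z, hz, rfl⟩ := hr
      exact ⟨z, Submodule.subset_span hz, hnum z (Finset.mem_insert_of_mem hz)⟩
    | zero => exact ⟨0, Submodule.zero_mem _, by simp⟩
    | add a b _ _ ha hb =>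
      obtain ⟨e, he, h1⟩ := ha; obtain ⟨e', he', h2⟩ := hb
      exact ⟨e + e', Submodule.add_mem _ he he', by rw [map_add, h1, h2, ← smul_add]; rfl⟩
    | smul r a _ ha =>
      obtain ⟨e, he, h1⟩ := ha
      refine ⟨r • e, Submodule.smul_mem _ r he, ?_⟩
      rw [smul_eq_mul, map_mul, h1, SetLike.val_smul, smul_comm, Algebra.smul_def r]
  obtain ⟨e, he, hee⟩ := hlin _ hcI
  rw [hnum c (Finset.mem_insert_self c s)] at hee
  have : c = e := Subtype.ext (by
    rw [Algebra.smul_def, Algebra.smul_def] at hee
    exact mul_left_cancel₀ ((map_ne_zero_iff _ (IsFractionRing.injective A K)).mpr hd0) hee)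
  rw [this]; exact he

end Groth.Agent.CAlgH
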