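import Mathlib
import Groth.Agent.CAlgH.FiniteCompletion

/-! Extending derivations to localisations and completions. -/
universe u
open IsLocalRing TensorProduct

namespace Groth.Agent.CAlgH

theorem derivation_mem_pow {B : Type u} [CommRing B] (D : Derivation ℤ B B) (I : Ideal B) :
    ∀ (n : ℕ) (x : B), x ∈ I ^ (n + 1) → D x ∈ I ^ n := by
  intro n
  induction n with
  | zero => intro x _; simp
  | succ n ih =>
    intro x hx
    rw [pow_succ] at hx
    refine Submodule.mul_induction_on hx (fun a ha b hb => ?_) (fun a b ha hb => by rw [map_add]; exact add_mem ha hb)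
    rw [Derivation.leibniz, smul_eq_mul, smul_eq_mul]
    refine add_mem (Ideal.mul_mem_right _ _ ha) ?_
    rw [pow_succ']
    exact Ideal.mul_mem_mul hb (ih a ha)

/-- Derivations extend to a complete ring with the same truncations. -/
theorem exists_derivation_of_quotients {R S : Type u} [CommRing R] [CommRing S] (I : Ideal R) (J : Ideal S)
    [IsAdicComplete J S] (φ : R →+* S) (hker : ∀ j, (J ^ j).comap φ = I ^ j) (hsurj : ∀ j (y : S), ∃ r, y - φ r ∈ J ^ j)
    (D : Derivation ℤ R R) : ∃ D' : Derivation ℤ S S, ∀ r, D' (φ r) = φ (D r) := by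
  have key : ∀ (j : ℕ) (x y : R), φ x - φ y ∈ J ^ (j + 1) → φ (D x) - φ (D y) ∈ J ^ j := fun j x y h => by
    rw [← map_sub] at h ⊢
    have h1 : x - y ∈ I ^ (j + 1) := by rw [← hker]; exact h
    rw [← map_sub D, ← Ideal.mem_comap, hker]
    exact derivation_mem_pow D I j _ h1
  have hex : ∀ y : S, ∃ z : S, ∀ j r, y - φ r ∈ J ^ (j + 1) → z - φ (D r) ∈ J ^ j := by
    intro y
    choose r hr using fun j => hsurj (j + 1) y
    obtain ⟨z, hz⟩ := IsPrecomplete.prec (I := J) (M := S) inferInstance (f := fun j => φ (D (r j))) fun {m n} hmn => by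
      rw [SModEq.sub_mem, smul_eq_mul, Ideal.mul_top]
      refine key m _ _ ?_
      rw [show φ (r m) - φ (r n) = (y - φ (r n)) - (y - φ (r m)) by ring]
      exact Ideal.sub_mem _ (Ideal.pow_le_pow_right (Nat.succ_le_succ hmn) (hr n)) (hr m)
    refine ⟨z, fun j s hs => ?_⟩
    have h1 := hz j
    rw [SModEq.sub_mem, smul_eq_mul, Ideal.mul_top] at h1
    have h2 := key j (r j) s (by
      rw [show φ (r j) - φ s = (y - φ s) - (y - φ (r j)) by ring]
      exact Ideal.sub_mem _ hs (hr j))
    rw [show z - φ (D s) = (φ (D (r j)) - φ (D s)) - (φ (D (r j)) - z) by ring]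
    exact Ideal.sub_mem _ h2 h1
  choose f hf using hex
  have huniq : ∀ (y z : S), (∀ j r, y - φ r ∈ J ^ (j + 1) → z - φ (D r) ∈ J ^ j) → f y = z := fun y z h => by
    rw [← sub_eq_zero]
    refine IsHausdorff.haus (inferInstance : IsHausdorff J S) _ fun j => ?_
    rw [SModEq.zero, smul_eq_mul, Ideal.mul_top]
    obtain ⟨r, hr⟩ := hsurj (j + 1) y
    rw [show f y - z = (f y - φ (D r)) - (z - φ (D r)) by ring]
    exact Ideal.sub_mem _ (hf y j r hr) (h j r hr)
  have hφ : ∀ r, f (φ r) = φ (D r) := fun r => huniq _ _ fun j s hs => key j r s hs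
  have hadd : ∀ a b, f (a + b) = f a + f b := fun a b => huniq _ _ fun j r hr => by
    obtain ⟨ra, hra⟩ := hsurj (j + 1) a
    have hrb : b - φ (r - ra) ∈ J ^ (j + 1) := by
      rw [map_sub, show b - (φ r - φ ra) = (a + b - φ r) - (a - φ ra) by ring]
      exact Ideal.sub_mem _ hr hra
    have h := Ideal.add_mem _ (hf a j ra hra) (hf b j _ hrb)
    rw [map_sub, map_sub] at h
    convert h using 1; ring
  have hmul : ∀ a b, f (a * b) = a * f b + b * f a := fun a b => huniq _ _ fun j r hr => by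
    obtain ⟨ra, hra⟩ := hsurj (j + 1) a
    obtain ⟨rb, hrb⟩ := hsurj (j + 1) b
    have hprod : φ r - φ (ra * rb) ∈ J ^ (j + 1) := by
      rw [map_mul, show φ r - φ ra * φ rb = (a - φ ra) * b + φ ra * (b - φ rb) - (a * b - φ r) by ring]
      exact Ideal.sub_mem _ (Ideal.add_mem _ (Ideal.mul_mem_right _ _ hra) (Ideal.mul_mem_left _ _ hrb)) hr
    have h1 := key j r (ra * rb) hprod
    rw [Derivation.leibniz, smul_eq_mul, smul_eq_mul, map_add, map_mul, map_mul] at h1
    have hle : J ^ (j + 1) ≤ J ^ j := Ideal.pow_le_pow_right j.le_succ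
    have h2 := Ideal.add_mem _ (Ideal.add_mem _ (Ideal.mul_mem_left _ (φ ra) (hf b j rb hrb)) (Ideal.mul_mem_left _ (φ rb) (hf a j ra hra)))
      (Ideal.add_mem _ (Ideal.mul_mem_right (f b) _ (hle hra)) (Ideal.mul_mem_right (f a) _ (hle hrb)))
    have h3 := Ideal.sub_mem _ h2 h1
    convert h3 using 1; ring
  let L : S →ₗ[ℤ] S := (AddMonoidHom.mk' f hadd).toIntLinearMap
  refine ⟨Derivation.mk' L fun a b => by simpa [L, smul_eq_mul] using hmul a b, fun r => hφ r⟩

/-- Derivations extend to localisations. -/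
theorem exists_derivation_localization {B L : Type u} [CommRing B] [CommRing L] [Algebra B L] (M : Submonoid B)
    [IsLocalization M L] (D : Derivation ℤ B B) :
    ∃ D' : Derivation ℤ L L, ∀ b, D' (algebraMap B L b) = algebraMap B L (D b) := by
  let φ : B →+* DualNumber L :=
    { toFun := fun b => TrivSqZeroExt.inl (algebraMap B L b) + TrivSqZeroExt.inr (algebraMap B L (D b))
      map_one' := by simp
      map_zero' := by simp
      map_add' := fun a b => by
        ext
        · simp
        · simp only [TrivSqZeroExt.snd_add, TrivSqZeroExt.snd_inl, TrivSqZeroExt.snd_inr, map_add, zero_add]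
      map_mul' := fun a b => by
        ext
        · simp
        · simp only [DualNumber.snd_mul, TrivSqZeroExt.snd_add, TrivSqZeroExt.snd_inl, TrivSqZeroExt.snd_inr,
            TrivSqZeroExt.fst_add, TrivSqZeroExt.fst_inl, TrivSqZeroExt.fst_inr, Derivation.leibniz, map_add, map_mul,
            smul_eq_mul, zero_add, add_zero]
          ring }
  have hu : ∀ y : M, IsUnit (φ y) := fun y => by
    rw [TrivSqZeroExt.isUnit_iff_isUnit_fst]
    simpa [φ] using IsLocalization.map_units L y
  let Φ : L →+* DualNumber L := IsLocalization.lift hu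
  have hΦ : ∀ b, Φ (algebraMap B L b) = φ b := fun b => IsLocalization.lift_eq hu b
  have hfst : ∀ x, (Φ x).fst = x := fun x =>
    DFunLike.congr_fun (IsLocalization.ringHom_ext (S := L) M (j := ((TrivSqZeroExt.fstHom L L L).toRingHom).comp Φ)
      (k := RingHom.id L) (RingHom.ext fun b => by simp [hΦ, φ])) x
  let T : L →ₗ[ℤ] L := (AddMonoidHom.mk' (fun x => (Φ x).snd) fun a b => by simp).toIntLinearMap
  refine ⟨Derivation.mk' T fun a b => ?_, fun b => ?_⟩
  · show (Φ (a * b)).snd = a • (Φ b).snd + b • (Φ a).snd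
    rw [map_mul, DualNumber.snd_mul, hfst, hfst, smul_eq_mul, smul_eq_mul]; ring
  · show (Φ (algebraMap B L b)).snd = _
    simp only [hΦ, φ, RingHom.coe_mk, MonoidHom.coe_mk, OneHom.coe_mk, TrivSqZeroExt.snd_add, TrivSqZeroExt.snd_inl,
      TrivSqZeroExt.snd_inr, zero_add]

theorem exists_sub_mem_pow_ideal {R S : Type u} [CommRing R] [CommRing S] (φ : R →+* S) (I : Ideal R) (J : Ideal S)
    (hmap : I.map φ = J) (hres : ∀ y : S, ∃ r, y - φ r ∈ J) : ∀ j (y : S), ∃ r, y - φ r ∈ J ^ j := by
  subst hmap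
  intro j
  induction j with
  | zero => exact fun y => ⟨0, by simp⟩
  | succ j ih =>
    intro y
    obtain ⟨r, hr⟩ := ih y
    have hspan : I.map φ ^ j = Submodule.span S (φ '' ((I ^ j : Ideal R) : Set R)) := by rw [← Ideal.map_pow]; rfl
    suffices ∀ z ∈ Submodule.span S (φ '' ((I ^ j : Ideal R) : Set R)), ∃ s, z - φ s ∈ I.map φ ^ (j + 1) by
      obtain ⟨s, hs⟩ := this _ (hspan ▸ hr)
      exact ⟨r + s, by rw [map_add, ← sub_sub]; exact hs⟩
    intro z hz
    induction hz using Submodule.span_induction with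
    | zero => exact ⟨0, by simp⟩
    | add a b _ _ ha hb =>
      obtain ⟨s, hs⟩ := ha
      obtain ⟨t, ht⟩ := hb
      exact ⟨s + t, by simpa [add_sub_add_comm] using add_mem hs ht⟩
    | mem z hz =>
      obtain ⟨s, -, rfl⟩ := hz
      exact ⟨s, by simp⟩
    | smul c z hz ha =>
      obtain ⟨s, hs⟩ := ha
      obtain ⟨w, hw⟩ := hres c
      refine ⟨w * s, ?_⟩
      have h2 := Ideal.mul_mem_mul hw (hspan ▸ hz : z ∈ I.map φ ^ j)
      rw [← pow_succ'] at h2
      have h3 := add_mem h2 (Ideal.mul_mem_left _ (φ w) hs)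
      rw [smul_eq_mul, map_mul]
      convert h3 using 1; ring

theorem exists_derivation_finite_core (R B C : Type u) [CommRing R] [IsLocalRing R] [IsNoetherianRing R]
    [IsAdicComplete (maximalIdeal R) R] [CommRing B] [CommRing C] [Algebra R C] [Module.Finite R C]
    (ι : B →+* C) (hff : ι.FaithfullyFlat) (I : Ideal B) (hI : I.map ι = (maximalIdeal R).map (algebraMap R C))
    (hres : ∀ x : C, ∃ b, x - ι b ∈ (maximalIdeal R).map (algebraMap R C)) (D : Derivation ℤ B B) :
    ∃ D' : Derivation ℤ C C, ∀ b, D' (ι b) = ι (D b) := by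
  haveI : IsAdicComplete ((maximalIdeal R).map (algebraMap R C)) C :=
    (IsAdicComplete.map_algebraMap_iff _ _).mpr (AdicRing.isAdicComplete_of_finite _ C)
  letI := ι.toAlgebra
  haveI : Module.FaithfullyFlat B C := hff
  refine exists_derivation_of_quotients I _ ι (fun j => ?_) (exists_sub_mem_pow_ideal ι I _ hI hres) D
  rw [← hI, ← Ideal.map_pow]
  exact Ideal.comap_map_eq_self_of_faithfullyFlat (A := B) (B := C) _

/-- A derivation of a finite algebra over a Noetherian local ring extends to the completed algebra. -/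
theorem exists_derivation_completion (A B : Type u) [CommRing A] [IsLocalRing A] [IsNoetherianRing A] [CommRing B]
    [Algebra A B] [Module.Finite A B] (D : Derivation ℤ B B) :
    ∃ D' : Derivation ℤ (EGA4.Cpl A ⊗[A] B) (EGA4.Cpl A ⊗[A] B),
      ∀ b, D' ((1 : EGA4.Cpl A) ⊗ₜ[A] b) = (1 : EGA4.Cpl A) ⊗ₜ[A] D b := by
  haveI : IsNoetherianRing (EGA4.Cpl A) := Groth.Agent.Matlis6.isNoetherianRing_adicCompletion _
  haveI : IsLocalHom (algebraMap A (EGA4.Cpl A)) := by
    refine ⟨fun a ha => ?_⟩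
    by_contra h
    have h' := Ideal.mem_map_of_mem (algebraMap A (EGA4.Cpl A)) ((mem_maximalIdeal a).mpr h)
    rw [← AdicCompletion.maximalIdeal_eq_map] at h'
    exact (mem_maximalIdeal _).mp h' ha
  haveI : Module.FaithfullyFlat A (EGA4.Cpl A) := Module.FaithfullyFlat.of_flat_of_isLocalHom
  let C := EGA4.Cpl A ⊗[A] B
  let ι : B →ₐ[A] C := Algebra.TensorProduct.includeRight
  have hff : ι.toRingHom.FaithfullyFlat :=
    RingHom.FaithfullyFlat.stableUnderComposition (algebraMap B (B ⊗[A] EGA4.Cpl A))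
      (Algebra.TensorProduct.comm A B (EGA4.Cpl A)).toAlgHom.toRingHom
      (RingHom.faithfullyFlat_algebraMap_iff.mpr inferInstance)
      (RingHom.FaithfullyFlat.of_bijective (Algebra.TensorProduct.comm A B (EGA4.Cpl A)).bijective)
  have hm : (maximalIdeal (EGA4.Cpl A)).map (algebraMap (EGA4.Cpl A) C) = (maximalIdeal A).map (algebraMap A C) := by
    rw [AdicCompletion.maximalIdeal_eq_map, Ideal.map_map, ← IsScalarTower.algebraMap_eq]
  refine exists_derivation_finite_core (EGA4.Cpl A) B C ι.toRingHom hff ((maximalIdeal A).map (algebraMap A B)) ?_ ?_ D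
  · rw [Ideal.map_map, hm]
    exact congrArg (fun f => Ideal.map f _) ι.comp_algebraMap
  · intro x
    rw [hm]
    induction x using TensorProduct.induction_on with
    | zero => exact ⟨0, by simp⟩
    | add a b ha hb =>
      obtain ⟨a', ha⟩ := ha
      obtain ⟨b', hb⟩ := hb
      exact ⟨a' + b', by simpa [add_sub_add_comm] using add_mem ha hb⟩
    | tmul t b =>
      obtain ⟨a, ha⟩ := Ideal.Quotient.mk_surjective (AdicCompletion.evalOneₐ (maximalIdeal A) t)
      refine ⟨a • b, ?_⟩
      have h1 : t - algebraMap A _ a ∈ (maximalIdeal A).map (algebraMap A (EGA4.Cpl A)) := by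
        rw [← AdicCompletion.ker_evalOneₐ_eq_map _ (IsNoetherian.noetherian _), RingHom.mem_ker, map_sub, sub_eq_zero]
        exact ha.symm.trans (AlgHom.commutes _ a).symm
      have h2 : t ⊗ₜ[A] b - ι (a • b) = algebraMap (EGA4.Cpl A) C (t - algebraMap A _ a) * ι b := by
        show t ⊗ₜ[A] b - (1 : EGA4.Cpl A) ⊗ₜ[A] (a • b) = (t - algebraMap A _ a) ⊗ₜ[A] (1 : B) * ((1 : EGA4.Cpl A) ⊗ₜ[A] b)
        rw [Algebra.TensorProduct.tmul_mul_tmul, mul_one, one_mul, sub_tmul, Algebra.algebraMap_eq_smul_one, smul_tmul]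
      show t ⊗ₜ[A] b - ι (a • b) ∈ _
      rw [h2]
      refine Ideal.mul_mem_right _ _ ?_
      have h3 := Ideal.mem_map_of_mem (algebraMap (EGA4.Cpl A) C) h1
      rwa [Ideal.map_map, ← IsScalarTower.algebraMap_eq] at h3

end Groth.Agent.CAlgH
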