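import Mathlib
import Groth.Prelude.Def_EGA4b
import Groth.Prelude.Def_Found
import Groth.Agent.CAlgH.RegularSmooth
import Groth.Agent.CAlgH.FiniteCompletion

/-! Formal fibres along finite maps; the generic-fibre criterion. -/
universe u
open IsLocalRing TensorProduct

namespace Groth.Agent.CAlgH

theorem isRegularHom_of_algEquiv {R Λ Λ' : Type u} [CommRing R] [CommRing Λ] [CommRing Λ'] [Algebra R Λ] [Algebra R Λ']
    (e : Λ ≃ₐ[R] Λ') (h : CAlg.IsRegularHom R Λ) : CAlg.IsRegularHom R Λ' := by
  haveI := h.1
  refine (isRegularHom_iff_fields _ _).mpr ⟨Module.Flat.of_linearEquiv e.toLinearEquiv.symm, fun K _ _ _ => ?_⟩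
  haveI := isRegularRing_field_tensor h K
  exact IsRegularRing.of_ringEquiv (R := K ⊗[R] Λ)
    (Algebra.TensorProduct.congr (AlgEquiv.refl (R := R) (A₁ := K)) e).toRingEquiv

theorem isGeometricallyRegular_of_algEquiv {k Λ Λ' : Type u} [Field k] [CommRing Λ] [CommRing Λ'] [Algebra k Λ] [Algebra k Λ']
    (e : Λ ≃ₐ[k] Λ') (h : CAlg.IsGeometricallyRegular k Λ) : CAlg.IsGeometricallyRegular k Λ' := fun k' _ _ hk' =>
  haveI := h k' hk'
  IsRegularRing.of_ringEquiv (R := k' ⊗[k] Λ)
    (Algebra.TensorProduct.congr (AlgEquiv.refl (R := k) (A₁ := k')) e).toRingEquiv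

/-- Only one fibre is involved. -/
theorem isRegularRing_field_tensor_prime {R Λ : Type u} [CommRing R] [CommRing Λ] [Algebra R Λ] (p : Ideal R) [p.IsPrime]
    (h : CAlg.IsGeometricallyRegular p.ResidueField (p.Fiber Λ))
    (K : Type u) [Field K] [Algebra R K] [Algebra.EssFiniteType R K] (hp : RingHom.ker (algebraMap R K) = p) :
    IsRegularRing (K ⊗[R] Λ) := by
  letI : Algebra p.ResidueField K :=
    (Ideal.ResidueField.lift p (algebraMap R K) hp.ge fun x hx => isUnit_iff_ne_zero.mpr fun h0 => hx (hp ▸ h0)).toAlgebra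
  haveI : IsScalarTower R p.ResidueField K :=
    IsScalarTower.of_algebraMap_eq fun x => (Ideal.ResidueField.lift_algebraMap p _ _ _ x).symm
  haveI : Algebra.EssFiniteType p.ResidueField K := Algebra.EssFiniteType.of_comp R _ _
  haveI := isRegularRing_fg_ext p.ResidueField K (p.Fiber Λ) h
  exact IsRegularRing.of_ringEquiv (Algebra.TensorProduct.cancelBaseChange R p.ResidueField K K Λ).toRingEquiv

theorem isRegularRing_tensor_localization (B C L K : Type u) [CommRing B] [CommRing C] [CommRing L] [CommRing K]
    [Algebra B C] [Algebra C L] [Algebra B L] [IsScalarTower B C L] [Algebra B K] (M : Submonoid C) [IsLocalization M L]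
    [IsRegularRing (K ⊗[B] C)] : IsRegularRing (K ⊗[B] L) := by
  letI : Algebra (K ⊗[B] C) (K ⊗[B] L) :=
    (Algebra.TensorProduct.map (AlgHom.id B K) (IsScalarTower.toAlgHom B C L)).toAlgebra
  haveI : IsScalarTower K (K ⊗[B] C) (K ⊗[B] L) :=
    @IsScalarTower.of_algebraMap_eq K (K ⊗[B] C) (K ⊗[B] L) _ _ _ _ _ _ fun x => by
      show x ⊗ₜ[B] (1 : L) = Algebra.TensorProduct.map (AlgHom.id B K) (IsScalarTower.toAlgHom B C L) (x ⊗ₜ[B] (1 : C))
      simp
  haveI := IsLocalization.tensorProduct_tensorProduct_right B K M L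
    (RingHom.ext fun x => by simp [RingHom.algebraMap_toAlgebra])
  exact isRegularRing_localization (M.map (Algebra.TensorProduct.includeRight (R := B) (A := K))) (K ⊗[B] L)

/-- `K ⊗ (B_n)^` is a localisation of `K ⊗ Â` for `B` finite over `A`. -/
theorem isRegularRing_field_completion (A B : Type u) [CommRing A] [IsLocalRing A] [IsNoetherianRing A] [CommRing B]
    [Algebra A B] [Module.Finite A B] (n : Ideal B) [n.IsMaximal] (K : Type u) [Field K] [Algebra A K] [Algebra B K]
    [IsScalarTower A B K] [Algebra (Localization.AtPrime n) K] [IsScalarTower B (Localization.AtPrime n) K]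
    [IsRegularRing (K ⊗[A] EGA4.Cpl A)] :
    IsRegularRing (K ⊗[Localization.AtPrime n] EGA4.Cpl (Localization.AtPrime n)) := by
  obtain ⟨N, hN, e, -, he⟩ := completion_localization_finite A B n
  let C := B ⊗[A] EGA4.Cpl A
  let Bn := Localization.AtPrime n
  let c : C ≃ₐ[A] EGA4.Cpl A ⊗[A] B := Algebra.TensorProduct.comm A B (EGA4.Cpl A)
  let L := Localization.AtPrime (N.comap c.toRingEquiv.toRingHom)
  let eL : L ≃+* EGA4.Cpl Bn :=
    (Localization.localRingEquiv (N.comap c.toRingEquiv.toRingHom) N c.toRingEquiv rfl).trans e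
  have heL : ∀ b, eL (algebraMap B L b) = algebraMap B (EGA4.Cpl Bn) b := fun b => by
    rw [IsScalarTower.algebraMap_apply B C L, IsScalarTower.algebraMap_apply B Bn (EGA4.Cpl Bn), ← he b]
    show e (Localization.localRingHom (N.comap c.toRingEquiv.toRingHom) N c.toRingEquiv.toRingHom rfl _) = _
    rw [Localization.localRingHom_to_map]
    rfl
  let g : L →ₐ[B] EGA4.Cpl Bn := { eL.toRingHom with commutes' := heL }
  let gE : L ≃ₐ[B] EGA4.Cpl Bn := AlgEquiv.ofBijective g eL.bijective
  haveI : IsRegularRing (K ⊗[B] C) :=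
    IsRegularRing.of_ringEquiv (Algebra.TensorProduct.cancelBaseChange A B K K (EGA4.Cpl A)).toRingEquiv.symm
  let M := (N.comap c.toRingEquiv.toRingHom).primeCompl
  haveI : IsRegularRing (K ⊗[B] L) := isRegularRing_tensor_localization B C L K M
  exact IsRegularRing.of_ringEquiv (R := K ⊗[B] L)
    ((Algebra.TensorProduct.congr (AlgEquiv.refl (R := B) (A₁ := K)) gE).toRingEquiv.trans
      (IsLocalization.algebraTensorEquiv n.primeCompl Bn K (EGA4.Cpl Bn)).toRingEquiv.symm)

/-- A formal fibre of a local ring of a finite algebra, from the formal fibre below. -/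
theorem isGeometricallyRegular_formalFibre_finite (A B : Type u) [CommRing A] [IsLocalRing A] [IsNoetherianRing A]
    [CommRing B] [Algebra A B] [Module.Finite A B] (n : Ideal B) [n.IsMaximal] (Q' : Ideal (Localization.AtPrime n))
    [Q'.IsPrime] (Q : Ideal A) [Q.IsPrime] (hQ : Q'.comap (algebraMap A (Localization.AtPrime n)) = Q)
    (h : CAlg.IsGeometricallyRegular Q.ResidueField (EGA4.formalFibre A Q)) :
    CAlg.IsGeometricallyRegular Q'.ResidueField (EGA4.formalFibre (Localization.AtPrime n) Q') := by
  intro L _ _ _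
  let Bn := Localization.AtPrime n
  letI : Algebra Bn L := ((algebraMap Q'.ResidueField L).comp (algebraMap Bn Q'.ResidueField)).toAlgebra
  haveI : IsScalarTower Bn Q'.ResidueField L := IsScalarTower.of_algebraMap_eq fun _ => rfl
  letI : Algebra B L := ((algebraMap Bn L).comp (algebraMap B Bn)).toAlgebra
  haveI : IsScalarTower B Bn L := IsScalarTower.of_algebraMap_eq fun _ => rfl
  letI : Algebra A L := ((algebraMap Bn L).comp (algebraMap A Bn)).toAlgebra
  haveI : IsScalarTower A Bn L := IsScalarTower.of_algebraMap_eq fun _ => rfl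
  haveI : IsScalarTower A B L := IsScalarTower.of_algebraMap_eq fun x => by
    show algebraMap Bn L (algebraMap A Bn x) = algebraMap Bn L (algebraMap B Bn (algebraMap A B x))
    rw [← IsScalarTower.algebraMap_apply A B Bn]
  haveI : Algebra.EssFiniteType B Bn := Algebra.EssFiniteType.of_isLocalization Bn n.primeCompl
  haveI : Algebra.EssFiniteType Bn L := Algebra.EssFiniteType.comp Bn Q'.ResidueField L
  haveI : Algebra.EssFiniteType B L := Algebra.EssFiniteType.comp B Bn L
  haveI : Algebra.EssFiniteType A L := Algebra.EssFiniteType.comp A B L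
  haveI := isRegularRing_field_tensor_prime Q h L (by
    show RingHom.ker (((algebraMap Q'.ResidueField L).comp (algebraMap Bn Q'.ResidueField)).comp (algebraMap A Bn)) = Q
    rw [← RingHom.comap_ker, ← RingHom.comap_ker,
      (RingHom.injective_iff_ker_eq_bot (algebraMap Q'.ResidueField L)).mp (RingHom.injective _),
      ← RingHom.ker_eq_comap_bot, Ideal.ker_algebraMap_residueField, hQ])
  haveI := isRegularRing_field_completion A B n L
  exact IsRegularRing.of_ringEquiv (R := L ⊗[Bn] EGA4.Cpl Bn)
    (Algebra.TensorProduct.cancelBaseChange Bn Q'.ResidueField L L (EGA4.Cpl Bn)).toRingEquiv.symm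

theorem isRegularHom_cpl_of_fibres (A : Type u) [CommRing A] [IsLocalRing A] [IsNoetherianRing A]
    (h : ∀ (p : Ideal A) [p.IsPrime], CAlg.IsGeometricallyRegular p.ResidueField (EGA4.formalFibre A p)) :
    CAlg.IsRegularHom A (EGA4.Cpl A) := by
  haveI : IsNoetherianRing (EGA4.Cpl A) := Groth.Agent.Matlis6.isNoetherianRing_adicCompletion _
  refine ⟨inferInstance, fun p _ => ⟨?_, h p⟩⟩
  haveI := isRegularRing_of_isGeometricallyRegular (h p)
  exact (inferInstance : IsNoetherianRing (EGA4.formalFibre A p))

/-- The completion map of a local ring of a finite algebra is regular. -/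
theorem isRegularHom_cpl_finite (A B : Type u) [CommRing A] [IsLocalRing A] [IsNoetherianRing A]
    [CommRing B] [Algebra A B] [Module.Finite A B] (n : Ideal B) [n.IsMaximal]
    (h : CAlg.IsRegularHom A (EGA4.Cpl A)) :
    CAlg.IsRegularHom (Localization.AtPrime n) (EGA4.Cpl (Localization.AtPrime n)) :=
  haveI : IsNoetherianRing B := Algebra.FiniteType.isNoetherianRing A B
  haveI : IsNoetherianRing (Localization.AtPrime n) := IsLocalization.isNoetherianRing n.primeCompl _ inferInstance
  isRegularHom_cpl_of_fibres _ fun Q' _ =>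
    isGeometricallyRegular_formalFibre_finite A B n Q' _ rfl (h.2 _).2

theorem exists_sub_algebraMap_mem (A : Type u) [CommRing A] [IsLocalRing A] [IsNoetherianRing A] (y : EGA4.Cpl A) :
    ∃ a, y - algebraMap A (EGA4.Cpl A) a ∈ maximalIdeal (EGA4.Cpl A) := by
  obtain ⟨a, ha⟩ := Ideal.Quotient.mk_surjective (AdicCompletion.evalOneₐ (maximalIdeal A) y)
  refine ⟨a, ?_⟩
  rw [AdicCompletion.maximalIdeal_eq_map, ← AdicCompletion.ker_evalOneₐ_eq_map _ (IsNoetherian.noetherian _),
    RingHom.mem_ker, map_sub, sub_eq_zero]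
  exact ha.symm.trans (AlgHom.commutes _ a).symm

/-- Completion is functorial in isomorphisms. -/
theorem cpl_equiv_of_equiv {A A' : Type u} [CommRing A] [IsLocalRing A] [IsNoetherianRing A] [CommRing A'] [IsLocalRing A']
    (f : A ≃+* A') : ∃ e : EGA4.Cpl A ≃+* EGA4.Cpl A', ∀ a, e (algebraMap A _ a) = algebraMap A' _ (f a) := by
  haveI : IsNoetherianRing A' := isNoetherianRing_of_ringEquiv A f
  let φ := (algebraMap A' (EGA4.Cpl A')).comp f.toRingHom
  haveI : IsLocalHom f.toRingHom := ⟨fun a ha => by simpa using (ha.map f.symm.toRingHom)⟩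
  haveI : IsLocalHom (algebraMap A' (EGA4.Cpl A')) := by
    refine ⟨fun a ha => ?_⟩
    by_contra h
    have h' := Ideal.mem_map_of_mem (algebraMap A' (EGA4.Cpl A')) ((mem_maximalIdeal a).mpr h)
    rw [← AdicCompletion.maximalIdeal_eq_map] at h'
    exact (mem_maximalIdeal _).mp h' ha
  have hmap : (maximalIdeal A).map φ = maximalIdeal (EGA4.Cpl A') := by
    rw [AdicCompletion.maximalIdeal_eq_map, ← Ideal.map_map]
    exact congrArg _ (IsLocalRing.map_maximalIdeal_of_surjective _ f.surjective)
  have hflat : φ.Flat := RingHom.Flat.comp (RingHom.Flat.of_bijective f.bijective) (RingHom.flat_algebraMap_iff.mpr inferInstance)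
  have hres : ∀ y, ∃ r, y - φ r ∈ maximalIdeal (EGA4.Cpl A') := fun y => by
    obtain ⟨a, ha⟩ := exists_sub_algebraMap_mem A' y
    exact ⟨f.symm a, by simpa [φ] using ha⟩
  haveI : IsLocalHom φ := RingHom.isLocalHom_comp _ _
  exact completion_equiv_of_quotients _ _ φ (comap_pow_eq_of_flat φ hflat hmap) (exists_sub_mem_pow φ hmap hres)

theorem cpl_tensor_surjective (A A' : Type u) [CommRing A] [IsLocalRing A] [IsNoetherianRing A] [CommRing A']
    [IsLocalRing A'] [Algebra A A'] (hπ : Function.Surjective (algebraMap A A')) :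
    Nonempty (A' ⊗[A] EGA4.Cpl A ≃ₐ[A'] EGA4.Cpl A') := by
  haveI : Module.Finite A A' := Module.Finite.of_surjective (Algebra.linearMap A A') hπ
  haveI : IsNoetherianRing A' := isNoetherianRing_of_surjective _ _ (algebraMap A A') hπ
  let n := maximalIdeal A'
  have hu : n.primeCompl ≤ IsUnit.submonoid A' := fun x hx => not_not.mp hx
  let f : Localization.AtPrime n ≃+* A' := (IsLocalization.atUnits A' n.primeCompl hu).symm.toRingEquiv
  haveI : IsNoetherianRing (Localization.AtPrime n) := IsLocalization.isNoetherianRing n.primeCompl _ inferInstance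
  obtain ⟨N, hN, e, -, he⟩ := completion_localization_finite A A' n
  obtain ⟨e2, he2⟩ := cpl_equiv_of_equiv f
  let C := EGA4.Cpl A ⊗[A] A'
  have hs : Function.Surjective (Algebra.TensorProduct.includeLeft (R := A) (S := A) : EGA4.Cpl A →ₐ[A] C) := by
    intro z
    induction z using TensorProduct.induction_on with
    | zero => exact ⟨0, map_zero _⟩
    | add x y hx hy =>
      obtain ⟨x', rfl⟩ := hx
      obtain ⟨y', rfl⟩ := hy
      exact ⟨x' + y', map_add _ _ _⟩
    | tmul x y =>
      obtain ⟨a, rfl⟩ := hπ y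
      refine ⟨a • x, ?_⟩
      show (a • x) ⊗ₜ[A] (1 : A') = x ⊗ₜ[A] algebraMap A A' a
      rw [Algebra.algebraMap_eq_smul_one, smul_tmul]
  haveI : Nontrivial C := nontrivial_of_ne 0 1 fun h => hN.ne_top (Ideal.eq_top_of_isUnit_mem N (h ▸ N.zero_mem) isUnit_one)
  haveI : IsLocalRing C := IsLocalRing.of_surjective' (Algebra.TensorProduct.includeLeft (R := A) (S := A) : EGA4.Cpl A →ₐ[A] C).toRingHom hs
  have huC : N.primeCompl ≤ IsUnit.submonoid C := fun x hx => by
    by_contra h
    exact hx ((IsLocalRing.eq_maximalIdeal hN).symm ▸ (mem_maximalIdeal x).mpr h)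
  let e1 : C ≃+* EGA4.Cpl A' := ((IsLocalization.atUnits C N.primeCompl (S := Localization.AtPrime N) huC).toRingEquiv.trans e).trans e2
  let c : A' ⊗[A] EGA4.Cpl A ≃+* EGA4.Cpl A' :=
    (Algebra.TensorProduct.comm A A' (EGA4.Cpl A)).toRingEquiv.trans e1
  have hc : ∀ b : A', c (algebraMap A' (A' ⊗[A] EGA4.Cpl A) b) = algebraMap A' (EGA4.Cpl A') b := fun b => by
    show e2 (e (algebraMap C (Localization.AtPrime N) ((1 : EGA4.Cpl A) ⊗ₜ[A] b))) = _
    rw [he, he2]
    exact congrArg _ ((IsLocalization.atUnits A' n.primeCompl hu).symm_apply_eq.mpr (AlgEquiv.commutes _ _).symm)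
  let g : A' ⊗[A] EGA4.Cpl A →ₐ[A'] EGA4.Cpl A' := { c.toRingHom with commutes' := hc }
  exact ⟨AlgEquiv.ofBijective g c.bijective⟩

/-- Formal fibres of a quotient are formal fibres. -/
theorem isRegularRing_field_cpl_surjective (A A' : Type u) [CommRing A] [IsLocalRing A] [IsNoetherianRing A]
    [CommRing A'] [IsLocalRing A'] [Algebra A A'] (hπ : Function.Surjective (algebraMap A A')) (L : Type u) [Field L]
    [Algebra A' L] [Algebra A L] [IsScalarTower A A' L] :
    IsRegularRing (L ⊗[A] EGA4.Cpl A) ↔ IsRegularRing (L ⊗[A'] EGA4.Cpl A') := by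
  obtain ⟨g⟩ := cpl_tensor_surjective A A' hπ
  let e : L ⊗[A] EGA4.Cpl A ≃+* L ⊗[A'] EGA4.Cpl A' :=
    (Algebra.TensorProduct.cancelBaseChange A A' L L (EGA4.Cpl A)).toRingEquiv.symm.trans
      (Algebra.TensorProduct.congr (AlgEquiv.refl (R := A') (A₁ := L)) g).toRingEquiv
  exact ⟨fun _ => IsRegularRing.of_ringEquiv e, fun _ => IsRegularRing.of_ringEquiv e.symm⟩

theorem isGeometricallyRegular_formalFibre_surjective {A A' : Type u} [CommRing A] [IsLocalRing A] [IsNoetherianRing A]
    [CommRing A'] [IsLocalRing A'] (π : A →+* A') (hπ : Function.Surjective π) (Q : Ideal A') [Q.IsPrime] :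
    CAlg.IsGeometricallyRegular (Q.comap π).ResidueField (EGA4.formalFibre A (Q.comap π)) ↔
      CAlg.IsGeometricallyRegular Q.ResidueField (EGA4.formalFibre A' Q) := by
  letI : Algebra A A' := π.toAlgebra
  let P := Q.comap π
  letI : Algebra P.ResidueField Q.ResidueField := (Ideal.ResidueField.map P Q π rfl).toAlgebra
  constructor
  · intro h L _ _ _
    letI : Algebra A' L := ((algebraMap Q.ResidueField L).comp (algebraMap A' Q.ResidueField)).toAlgebra
    haveI : IsScalarTower A' Q.ResidueField L := IsScalarTower.of_algebraMap_eq fun _ => rfl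
    letI : Algebra A L := ((algebraMap A' L).comp π).toAlgebra
    haveI : IsScalarTower A A' L := IsScalarTower.of_algebraMap_eq fun _ => rfl
    haveI : Algebra.EssFiniteType A' L := Algebra.EssFiniteType.comp A' Q.ResidueField L
    haveI : Algebra.FiniteType A A' := Algebra.FiniteType.of_surjective (Algebra.ofId A A') hπ
    haveI : Algebra.EssFiniteType A L := Algebra.EssFiniteType.comp A A' L
    haveI := isRegularRing_field_tensor_prime P h L (by
      show RingHom.ker (((algebraMap Q.ResidueField L).comp (algebraMap A' Q.ResidueField)).comp π) = _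
      rw [← RingHom.comap_ker, ← RingHom.comap_ker,
        (RingHom.injective_iff_ker_eq_bot (algebraMap Q.ResidueField L)).mp (RingHom.injective _),
        ← RingHom.ker_eq_comap_bot, Ideal.ker_algebraMap_residueField])
    haveI := (isRegularRing_field_cpl_surjective A A' hπ L).mp inferInstance
    exact IsRegularRing.of_ringEquiv (R := L ⊗[A'] EGA4.Cpl A')
      (Algebra.TensorProduct.cancelBaseChange A' Q.ResidueField L L (EGA4.Cpl A')).toRingEquiv.symm
  · intro h L _ _ _
    have hbij : Function.Bijective (Ideal.ResidueField.map P Q π rfl) :=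
      (RingHom.surjectiveOnStalks_of_surjective hπ).residueFieldMap_bijective P Q rfl
    letI : Algebra Q.ResidueField L :=
      ((algebraMap P.ResidueField L).comp (RingEquiv.ofBijective _ hbij).symm.toRingHom).toAlgebra
    haveI : IsScalarTower P.ResidueField Q.ResidueField L := IsScalarTower.of_algebraMap_eq fun x => by
      show _ = algebraMap P.ResidueField L ((RingEquiv.ofBijective _ hbij).symm (Ideal.ResidueField.map P Q π rfl x))
      exact (congrArg _ ((RingEquiv.ofBijective _ hbij).symm_apply_apply x)).symm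
    haveI : Module.Finite Q.ResidueField L := Module.Finite.of_restrictScalars_finite P.ResidueField _ _
    letI : Algebra A' L := ((algebraMap Q.ResidueField L).comp (algebraMap A' Q.ResidueField)).toAlgebra
    haveI : IsScalarTower A' Q.ResidueField L := IsScalarTower.of_algebraMap_eq fun _ => rfl
    letI : Algebra A L := ((algebraMap P.ResidueField L).comp (algebraMap A P.ResidueField)).toAlgebra
    haveI : IsScalarTower A P.ResidueField L := IsScalarTower.of_algebraMap_eq fun _ => rfl
    haveI : IsScalarTower A A' L := IsScalarTower.of_algebraMap_eq fun x => by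
      show algebraMap P.ResidueField L (algebraMap A P.ResidueField x) = algebraMap Q.ResidueField L (algebraMap A' Q.ResidueField (π x))
      rw [IsScalarTower.algebraMap_apply P.ResidueField Q.ResidueField L]
      exact congrArg _ (Ideal.ResidueField.map_algebraMap P Q π rfl x)
    haveI := h L inferInstance
    haveI : IsRegularRing (L ⊗[A'] EGA4.Cpl A') := IsRegularRing.of_ringEquiv
      (Algebra.TensorProduct.cancelBaseChange A' Q.ResidueField L L (EGA4.Cpl A')).toRingEquiv
    haveI := (isRegularRing_field_cpl_surjective A A' hπ L).mpr inferInstance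
    exact IsRegularRing.of_ringEquiv (R := L ⊗[A] EGA4.Cpl A)
      (Algebra.TensorProduct.cancelBaseChange A P.ResidueField L L (EGA4.Cpl A)).toRingEquiv.symm

theorem isRegularHom_cpl_surjective {A A' : Type u} [CommRing A] [IsLocalRing A] [IsNoetherianRing A]
    [CommRing A'] [IsLocalRing A'] (π : A →+* A') (hπ : Function.Surjective π) (h : CAlg.IsRegularHom A (EGA4.Cpl A)) :
    CAlg.IsRegularHom A' (EGA4.Cpl A') :=
  haveI : IsNoetherianRing A' := isNoetherianRing_of_surjective _ _ π hπ
  isRegularHom_cpl_of_fibres _ fun Q _ => (isGeometricallyRegular_formalFibre_surjective π hπ Q).mp (h.2 _).2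

/-- A Noetherian ring is a G-ring iff the local domains `(R/q)_P` have geometrically regular generic formal fibre. -/
theorem isGRing_iff_generic (R : Type u) [CommRing R] [IsNoetherianRing R] :
    CAlg.IsGRing R ↔ ∀ (q : Ideal R) [q.IsPrime] (P : Ideal (R ⧸ q)) [P.IsPrime],
      CAlg.IsGeometricallyRegular (⊥ : Ideal (Localization.AtPrime P)).ResidueField
        (EGA4.formalFibre (Localization.AtPrime P) (⊥ : Ideal (Localization.AtPrime P))) := by
  constructor
  · intro h q _ P _
    let p := P.comap (Ideal.Quotient.mk q)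
    haveI : IsNoetherianRing (Localization.AtPrime p) := IsLocalization.isNoetherianRing p.primeCompl _ inferInstance
    exact (isGeometricallyRegular_formalFibre_surjective _
      (RingHom.surjective_localRingHom_of_surjective (Ideal.Quotient.mk q) Ideal.Quotient.mk_surjective P) ⊥).mp
      ((h.2 p).2 _).2
  · intro h
    refine ⟨inferInstance, fun p _ => ?_⟩
    haveI : IsNoetherianRing (Localization.AtPrime p) := IsLocalization.isNoetherianRing p.primeCompl _ inferInstance
    refine isRegularHom_cpl_of_fibres _ fun Q _ => ?_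
    -- pass to `R / q`
    let A := Localization.AtPrime p
    let q := Q.comap (algebraMap R A)
    have hqp : q ≤ p := by
      intro x hx
      by_contra hxp
      exact Ideal.IsPrime.ne_top inferInstance
        (Ideal.eq_top_of_isUnit_mem Q hx (IsLocalization.map_units A (⟨x, hxp⟩ : p.primeCompl)))
    let P := p.map (Ideal.Quotient.mk q)
    haveI : P.IsPrime := Ideal.map_isPrime_of_surjective Ideal.Quotient.mk_surjective (by rwa [Ideal.mk_ker])
    have hP : p = P.comap (Ideal.Quotient.mk q) := by
      rw [Ideal.comap_map_of_surjective _ Ideal.Quotient.mk_surjective, ← RingHom.ker_eq_comap_bot, Ideal.mk_ker,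
        sup_eq_left.mpr hqp]
    let A' := Localization.AtPrime P
    let π := Localization.localRingHom p P (Ideal.Quotient.mk q) hP
    have hπ : Function.Surjective π := fun y => by
      obtain ⟨a, ⟨s, hs⟩, rfl⟩ := IsLocalization.exists_mk'_eq P.primeCompl y
      obtain ⟨a, rfl⟩ := Ideal.Quotient.mk_surjective a
      obtain ⟨s, rfl⟩ := Ideal.Quotient.mk_surjective s
      exact ⟨IsLocalization.mk' A a (⟨s, fun hsp => hs (Ideal.mem_map_of_mem _ hsp)⟩ : p.primeCompl),
        Localization.localRingHom_mk' ..⟩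
    have hker : RingHom.ker π = Q := by
      ext x
      obtain ⟨a, ⟨s, hs⟩, rfl⟩ := IsLocalization.exists_mk'_eq p.primeCompl x
      rw [RingHom.mem_ker, Localization.localRingHom_mk', IsLocalization.mk'_eq_zero_iff, IsLocalization.mk'_mem_iff]
      constructor
      · rintro ⟨⟨t, ht⟩, hta⟩
        obtain ⟨t, rfl⟩ := Ideal.Quotient.mk_surjective t
        rw [← map_mul, Ideal.Quotient.eq_zero_iff_mem] at hta
        exact (Ideal.IsPrime.mem_or_mem (inferInstance : q.IsPrime) hta).resolve_left fun htq =>
          ht (by rw [Ideal.Quotient.eq_zero_iff_mem.mpr htq]; exact P.zero_mem)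
      · intro ha
        exact ⟨1, by rw [OneMemClass.coe_one, one_mul, Ideal.Quotient.eq_zero_iff_mem]; exact ha⟩
    haveI : (⊥ : Ideal A').IsPrime := by
      haveI : IsDomain (R ⧸ q) := inferInstance
      haveI : IsDomain A' := IsLocalization.isDomain_localization (Ideal.primeCompl_le_nonZeroDivisors P)
      exact Ideal.bot_prime
    have main : ∀ (Q' : Ideal A) [Q'.IsPrime], Q' = (⊥ : Ideal A').comap π →
        CAlg.IsGeometricallyRegular Q'.ResidueField (EGA4.formalFibre A Q') := by
      intro Q' _ hQ'
      subst hQ'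
      exact (isGeometricallyRegular_formalFibre_surjective π hπ ⊥).mpr (h q P)
    exact main Q (hker.symm.trans (RingHom.ker_eq_comap_bot π))

end Groth.Agent.CAlgH
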