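import Mathlib
import Groth.Agent.CAlgH3.RegularCore
import Groth.Agent.CAlgH3.QuotientLocal

/-! Derivations and regularity of quotients. -/
universe u
open IsLocalRing RingTheory.Sequence

namespace Groth.Agent.CAlgH

theorem derivation_mem_of_mem_sq {R : Type u} [CommRing R] (D : Derivation ℤ R R) {P : Ideal R} {x : R} (hx : x ∈ P ^ 2) :
    D x ∈ P := by
  rw [pow_two] at hx
  refine Submodule.mul_induction_on hx (fun a ha b hb => ?_) fun a b ha hb => by rw [map_add]; exact P.add_mem ha hb
  rw [D.leibniz]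
  exact P.add_mem (P.mul_mem_right _ ha) (P.mul_mem_right _ hb)

theorem quotient_regular_of_indep : ∀ (m : ℕ) (R : Type u) [CommRing R] [IsRegularLocalRing R] (f : Fin m → R),
    (∀ i, f i ∈ maximalIdeal R) →
    (∀ a : Fin m → R, ∑ j, a j * f j ∈ maximalIdeal R ^ 2 → ∀ j, a j ∈ maximalIdeal R) →
    IsRegularLocalRing (R ⧸ Ideal.span (Set.range f)) ∧ IsWeaklyRegular R (List.ofFn f) := by
  intro m
  induction m with
  | zero =>
    intro R _ _ f _ _
    have hbot : Ideal.span (Set.range f) = (⊥ : Ideal R) := by simp [Set.range_eq_empty f]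
    refine ⟨?_, by simp⟩
    exact IsRegularLocalRing.of_ringEquiv ((RingEquiv.quotientBot R).symm.trans (Ideal.quotEquivOfEq hbot.symm))
  | succ m ih =>
    intro R _ _ f hf hind
    let x := f 0
    have hx2 : x ∉ maximalIdeal R ^ 2 := fun h => by
      have := hind (fun j => if j = 0 then 1 else 0) (by simpa using h) 0
      simp at this
    obtain ⟨hq, -⟩ := CAlgH3.regular_quotient_of_notMem_sq (hf 0) hx2
    let R1 := R ⧸ Ideal.span {x}
    let g : Fin m → R1 := fun j => Ideal.Quotient.mk _ (f j.succ)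
    have hgm : ∀ j, g j ∈ maximalIdeal R1 := fun j => by
      rw [← IsLocalRing.map_maximalIdeal_of_surjective (Ideal.Quotient.mk (Ideal.span {x})) Ideal.Quotient.mk_surjective]
      exact Ideal.mem_map_of_mem _ (hf _)
    have hgi : ∀ a : Fin m → R1, ∑ j, a j * g j ∈ maximalIdeal R1 ^ 2 → ∀ j, a j ∈ maximalIdeal R1 := by
      intro a ha j
      choose b hb using fun j => Ideal.Quotient.mk_surjective (a j)
      rw [← IsLocalRing.map_maximalIdeal_of_surjective (Ideal.Quotient.mk (Ideal.span {x})) Ideal.Quotient.mk_surjective,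
        ← Ideal.map_pow, Ideal.mem_map_iff_of_surjective _ Ideal.Quotient.mk_surjective] at ha
      obtain ⟨w, hw, hwe⟩ := ha
      have hdiff : (∑ j, b j * f j.succ) - w ∈ Ideal.span {x} := by
        rw [← Ideal.Quotient.eq_zero_iff_mem, map_sub, map_sum, sub_eq_zero, hwe]
        exact Finset.sum_congr rfl fun j _ => by rw [map_mul, hb]
      obtain ⟨c, hc⟩ := Ideal.mem_span_singleton'.mp hdiff
      have := hind (Fin.cons (-c) b) (by
        rw [Fin.sum_univ_succ]
        simp only [Fin.cons_zero, Fin.cons_succ]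
        rwa [show -c * f 0 + ∑ i, b i * f i.succ = w by linear_combination -hc]) j.succ
      rw [Fin.cons_succ] at this
      rw [← hb, ← IsLocalRing.map_maximalIdeal_of_surjective (Ideal.Quotient.mk (Ideal.span {x})) Ideal.Quotient.mk_surjective]
      exact Ideal.mem_map_of_mem _ this
    obtain ⟨h1, h2⟩ := ih R1 g hgm hgi
    have hsup : Ideal.span (Set.range f) = Ideal.span {x} ⊔ Ideal.span (Set.range fun j => f (j : Fin m).succ) := by
      rw [← Ideal.span_union]
      congr 1
      ext z
      simp only [Set.mem_range, Set.mem_union, Set.mem_singleton_iff, x]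
      exact ⟨fun ⟨i, hi⟩ => Fin.cases (fun h => Or.inl h.symm) (fun j h => Or.inr ⟨j, h⟩) i hi,
        fun h => h.elim (fun h => ⟨0, h.symm⟩) fun ⟨j, hj⟩ => ⟨j.succ, hj⟩⟩
    refine ⟨?_, ?_⟩
    · have hmap : (Ideal.span (Set.range fun j => f (j : Fin m).succ)).map (Ideal.Quotient.mk (Ideal.span {x})) = Ideal.span (Set.range g) := by
        rw [Ideal.map_span, ← Set.range_comp]; rfl
      exact IsRegularLocalRing.of_ringEquiv
        (((Ideal.quotEquivOfEq hmap.symm).trans (DoubleQuot.quotQuotEquivQuotSup _ _)).trans (Ideal.quotEquivOfEq hsup.symm))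
    · rw [List.ofFn_succ]
      refine (isWeaklyRegular_cons_iff R x _).2 ⟨CAlgH3.isSMulRegular_of_notMem_sq hx2, ?_⟩
      rw [(CAlgH3.quotSMulTopSelf x).isWeaklyRegular_congr,
        ← isWeaklyRegular_map_algebraMap_iff (S := R ⧸ Ideal.span {x}), List.map_ofFn]
      exact h2

theorem regular_quotient_of_derivations (R : Type u) [CommRing R] [IsRegularLocalRing R] (m : ℕ) (f : Fin m → R)
    (hf : ∀ i, f i ∈ maximalIdeal R) (D : Fin m → Derivation ℤ R R)
    (hdet : IsUnit (Matrix.det (Matrix.of fun i j : Fin m => D i (f j)))) :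
    IsRegularLocalRing (R ⧸ Ideal.span (Set.range f)) ∧ IsRegular R (List.ofFn f) := by
  have hind : ∀ a : Fin m → R, ∑ j, a j * f j ∈ maximalIdeal R ^ 2 → ∀ j, a j ∈ maximalIdeal R := by
    intro a ha
    let M := Matrix.of fun i j : Fin m => D i (f j)
    let π := Ideal.Quotient.mk (maximalIdeal R)
    have hv : ∀ i, ∑ j, π (M i j) * π (a j) = 0 := fun i => by
      have h1 := derivation_mem_of_mem_sq (D i) ha
      simp only [← map_mul, ← map_sum]
      rw [Ideal.Quotient.eq_zero_iff_mem]
      rw [map_sum] at h1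
      have : (∑ j, M i j * a j) = (∑ j, (D i) (a j * f j)) - ∑ j, f j * D i (a j) := by
        rw [← Finset.sum_sub_distrib]
        refine Finset.sum_congr rfl fun j _ => ?_
        rw [(D i).leibniz, smul_eq_mul, smul_eq_mul]
        show D i (f j) * a j = _
        ring
      rw [this]
      exact Ideal.sub_mem _ h1 (Ideal.sum_mem _ fun j _ => Ideal.mul_mem_right _ _ (hf j))
    have hu : IsUnit (M.map π) := by
      rw [Matrix.isUnit_iff_isUnit_det, ← RingHom.mapMatrix_apply, ← RingHom.map_det]
      exact hdet.map π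
    intro j
    have h0 : (M.map π).mulVec (fun j => π (a j)) = (M.map π).mulVec 0 := by
      rw [Matrix.mulVec_zero]; ext i; exact hv i
    have := congrFun (Matrix.mulVec_injective_of_isUnit hu h0) j
    exact Ideal.Quotient.eq_zero_iff_mem.mp this
  obtain ⟨h1, h2⟩ := quotient_regular_of_indep m R f hf hind
  refine ⟨h1, h2, fun h => (maximalIdeal.isMaximal R).ne_top ?_⟩
  rw [smul_eq_mul, Ideal.mul_top, eq_comm] at h
  rw [eq_top_iff, ← h, Ideal.ofList, Ideal.span_le]
  intro z hz
  obtain ⟨i, rfl⟩ := List.mem_ofFn.mp hz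
  exact hf i

theorem isRegularRing_quotient_of_derivation (R : Type u) [CommRing R] [IsRegularRing R] (f : R) (D : Derivation ℤ R R)
    (hD : IsUnit (Ideal.Quotient.mk (Ideal.span {f}) (D f))) : IsRegularRing (R ⧸ Ideal.span ({f} : Set R)) := by
  refine isRegularRing_iff.2 fun q _ => ?_
  let p := q.comap (Ideal.Quotient.mk (Ideal.span {f}))
  let A := Localization.AtPrime p
  obtain ⟨e, -⟩ := CAlgH3.exists_quotientLocalEquiv (Ideal.span {f}) q
  have hfp : f ∈ p := by
    show Ideal.Quotient.mk _ f ∈ q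
    rw [Ideal.Quotient.eq_zero_iff_mem.2 (Ideal.mem_span_singleton_self f)]
    exact zero_mem q
  have hDp : D f ∉ p := fun h => (Ideal.IsPrime.ne_top inferInstance) (Ideal.eq_top_of_isUnit_mem q h hD)
  have hfm : algebraMap R A f ∈ maximalIdeal A := (IsLocalization.AtPrime.to_map_mem_maximal_iff A p f).mpr hfp
  have hf2 : algebraMap R A f ∉ maximalIdeal A ^ 2 := by
    intro h
    rw [← Localization.AtPrime.map_eq_maximalIdeal, ← Ideal.map_pow,
      IsLocalization.algebraMap_mem_map_algebraMap_iff p.primeCompl] at h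
    obtain ⟨s, hs, hsf⟩ := h
    have h1 := derivation_mem_of_mem_sq D hsf
    rw [D.leibniz, smul_eq_mul, smul_eq_mul] at h1
    exact (Ideal.IsPrime.mem_or_mem inferInstance
      ((Submodule.add_mem_iff_left p (p.mul_mem_right _ hfp)).mp h1)).elim hs hDp
  obtain ⟨hq, -⟩ := CAlgH3.regular_quotient_of_notMem_sq hfm hf2
  have hmap : (Ideal.span {f}).map (algebraMap R A) = Ideal.span {algebraMap R A f} := by
    rw [Ideal.map_span, Set.image_singleton]
  exact IsRegularLocalRing.of_ringEquiv ((Ideal.quotEquivOfEq hmap.symm).trans e)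

theorem isRegularRing_polynomial_quotient (R : Type u) [CommRing R] [IsRegularRing R] (f : R) (D : Derivation ℤ R R)
    (hD : IsUnit (D f)) (p : Polynomial ℤ) : IsRegularRing (Polynomial R ⧸
      Ideal.span ({Polynomial.map (Int.castRingHom R) p - Polynomial.C f} : Set (Polynomial R))) := by
  letI : Differential R := ⟨D⟩
  refine isRegularRing_quotient_of_derivation _ _ Differential.mapCoeffs ?_
  have h : Differential.mapCoeffs (Polynomial.map (Int.castRingHom R) p - Polynomial.C f) = - Polynomial.C (D f) := by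
    ext i
    rw [Differential.coeff_mapCoeffs, Polynomial.coeff_sub, Polynomial.coeff_map, Polynomial.coeff_neg]
    show D (_ - _) = _
    rw [map_sub, eq_intCast, Derivation.map_intCast]
    rcases eq_or_ne i 0 with rfl | hi
    · simp
    · simp [Polynomial.coeff_C, hi]
  have h2 : IsUnit (Ideal.Quotient.mk (Ideal.span ({Polynomial.map (Int.castRingHom R) p - Polynomial.C f} : Set (Polynomial R)))
      (- Polynomial.C (D f))) := ((Polynomial.isUnit_C.mpr hD).neg).map _
  rw [← h] at h2
  exact h2

end Groth.Agent.CAlgH
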