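import Mathlib

/-! Cofinite subrings containing the `p`-th powers, with intersection the `p`-th powers. -/
universe u

namespace Groth.Agent.CAlgH

/-- A subring containing all `p`-th powers over which the ring is finite, with a linear retraction. -/
def GoodSub (p : ℕ) {A : Type u} [CommRing A] (A' : Subring A) : Prop :=
  (∀ a : A, a ^ p ∈ A') ∧ Module.Finite A' A ∧
    ∃ r : A →+ A, (∀ a, r a ∈ A') ∧ (∀ a ∈ A', r a = a) ∧ ∀ a, ∀ s ∈ A', r (a * s) = r a * s

/-- A downward directed family of good subrings whose intersection consists of `p`-th powers. -/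
def GoodFamily (p : ℕ) (A : Type u) [CommRing A] : Prop :=
  ∃ (ι : Type u) (A' : ι → Subring A), Nonempty ι ∧ (∀ i, GoodSub p (A' i)) ∧
    (∀ i j, ∃ l, A' l ≤ A' i ∧ A' l ≤ A' j) ∧ ∀ a, (∀ i, a ∈ A' i) → ∃ b, b ^ p = a

section field
open Polynomial
variable (p : ℕ) {k : Type u} [Field k]

/-- The subfield generated by `p`-th powers and a set. -/
def pGen (S : Set k) : Subfield k := Subfield.closure (Set.range (fun x : k => x ^ p) ∪ S)

theorem pow_mem_pGen (S : Set k) (x : k) : x ^ p ∈ pGen p S := Subfield.subset_closure (Or.inl ⟨x, rfl⟩)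

theorem mem_pGen_of_mem {S : Set k} {x : k} (h : x ∈ S) : x ∈ pGen p S := Subfield.subset_closure (Or.inr h)

theorem pGen_mono {S T : Set k} (h : S ⊆ T) : pGen p S ≤ pGen p T :=
  Subfield.closure_mono (Set.union_subset_union_right _ h)

theorem exists_finset_mem_pGen {S : Set k} {x : k} (h : x ∈ pGen p S) :
    ∃ T : Finset k, (T : Set k) ⊆ S ∧ x ∈ pGen p (T : Set k) := by
  classical
  induction h using Subfield.closure_induction with
  | mem x hx =>
    rcases hx with hx | hx
    · exact ⟨∅, by simp, Subfield.subset_closure (Or.inl hx)⟩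
    · exact ⟨{x}, by simpa using hx, mem_pGen_of_mem p (by simp)⟩
  | one => exact ⟨∅, by simp, one_mem _⟩
  | add x y _ _ hx hy =>
    obtain ⟨T, hT, hx⟩ := hx
    obtain ⟨U, hU, hy⟩ := hy
    exact ⟨T ∪ U, by rw [Finset.coe_union]; exact Set.union_subset hT hU,
      add_mem (pGen_mono p (by simp) hx) (pGen_mono p (by simp) hy)⟩
  | neg x _ hx => exact hx.imp fun T hT => ⟨hT.1, neg_mem hT.2⟩
  | inv x _ hx => exact hx.imp fun T hT => ⟨hT.1, inv_mem hT.2⟩
  | mul x y _ _ hx hy =>
    obtain ⟨T, hT, hx⟩ := hx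
    obtain ⟨U, hU, hy⟩ := hy
    exact ⟨T ∪ U, by rw [Finset.coe_union]; exact Set.union_subset hT hU,
      mul_mem (pGen_mono p (by simp) hx) (pGen_mono p (by simp) hy)⟩

variable [hp : Fact p.Prime] [CharP k p]

theorem minpoly_eq_X_pow_sub (M : Subfield k) (a : k) (ha : a ∉ M) (hap : a ^ p ∈ M) :
    minpoly M a = X ^ p - C (⟨a ^ p, hap⟩ : M) := by
  refine (minpoly.eq_of_irreducible_of_monic ?_ ?_ (monic_X_pow_sub_C _ hp.out.ne_zero)).symm
  · refine X_pow_sub_C_irreducible_of_prime hp.out fun b hb => ha ?_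
    have h : (b : k) ^ p = a ^ p := congrArg Subtype.val hb
    rw [← frobenius_def, ← frobenius_def] at h
    exact (frobenius k p).injective h ▸ b.2
  · simp [Polynomial.aeval_def, eval₂_sub]
    exact sub_self _

theorem exists_poly_of_mem (S : Set k) (t : k) {x : k} (hx : x ∈ pGen p (insert t S)) (ht : t ∉ pGen p S) :
    ∃ q : (pGen p S)[X], q.natDegree < p ∧ aeval t q = x := by
  let M := pGen p S
  have hint : IsIntegral M t := IsIntegral.of_pow hp.out.pos
    (⟨X - C (⟨t ^ p, pow_mem_pGen p S t⟩ : M), monic_X_sub_C _, by simp [M]; exact sub_self _⟩)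
  have hle : pGen p (insert t S) ≤ (IntermediateField.adjoin M ({t} : Set k)).toSubfield :=
    Subfield.closure_le.mpr fun y hy => by
      rcases hy with hy | rfl | hy
      · exact (IntermediateField.adjoin M {t}).algebraMap_mem ⟨y, Subfield.subset_closure (Or.inl hy)⟩
      · exact IntermediateField.mem_adjoin_simple_self M _
      · exact (IntermediateField.adjoin M {t}).algebraMap_mem ⟨y, mem_pGen_of_mem p hy⟩
  have hx' : x ∈ (IntermediateField.adjoin M ({t} : Set k)).toSubalgebra := hle hx
  rw [IntermediateField.adjoin_simple_toSubalgebra_of_isAlgebraic hint.isAlgebraic, Algebra.adjoin_singleton_eq_range_aeval] at hx'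
  obtain ⟨q, hq⟩ := hx'
  refine ⟨q %ₘ minpoly M t, ?_, ?_⟩
  · have h := natDegree_modByMonic_lt q (minpoly.monic hint) (minpoly.ne_one M t)
    exact h.trans_eq (by rw [minpoly_eq_X_pow_sub p M t ht (pow_mem_pGen p S t), natDegree_X_pow_sub_C])
  · rw [modByMonic_eq_sub_mul_div, map_sub, map_mul, minpoly.aeval, zero_mul, sub_zero]
    exact hq

theorem pGen_exchange {S : Set k} {a b : k} (ha : a ∉ pGen p S) (hb : b ∉ pGen p S) (hab : b ∈ pGen p (insert a S)) :
    a ∈ pGen p (insert b S) := by
  let M := pGen p S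
  have hint : ∀ c : k, IsIntegral M c := fun c => IsIntegral.of_pow hp.out.pos
    (⟨X - C (⟨c ^ p, pow_mem_pGen p S c⟩ : M), monic_X_sub_C _, by simp [M]; exact sub_self _⟩)
  have hdeg : ∀ c : k, c ∉ M → Module.finrank M (IntermediateField.adjoin M ({c} : Set k)) = p := fun c hc => by
    rw [IntermediateField.adjoin.finrank (hint c), minpoly_eq_X_pow_sub p M c hc (pow_mem_pGen p S c), natDegree_X_pow_sub_C]
  have hba : IntermediateField.adjoin M ({b} : Set k) ≤ IntermediateField.adjoin M {a} := by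
    rw [IntermediateField.adjoin_simple_le_iff]
    obtain ⟨q, -, hq⟩ := exists_poly_of_mem p S a hab ha
    rw [← hq]
    exact IntermediateField.algebra_adjoin_le_adjoin M _ (Polynomial.aeval_mem_adjoin_singleton M a)
  haveI := IntermediateField.adjoin.finiteDimensional (hint a)
  have heq := IntermediateField.eq_of_le_of_finrank_eq hba ((hdeg b hb).trans (hdeg a ha).symm)
  have h1 : a ∈ IntermediateField.adjoin M ({b} : Set k) := heq ▸ IntermediateField.mem_adjoin_simple_self M a
  have hle : IntermediateField.adjoin M ({b} : Set k) ≤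
      ({ pGen p (insert b S) with algebraMap_mem' := fun y => pGen_mono p (Set.subset_insert b S) y.2 } : IntermediateField M k) := by
    rw [IntermediateField.adjoin_simple_le_iff]
    exact mem_pGen_of_mem p (Set.mem_insert b S)
  exact hle h1

theorem exists_pBasis : ∃ B : Set k, (∀ a ∈ B, a ∉ pGen p (B \ {a})) ∧ pGen p B = ⊤ := by
  classical
  obtain ⟨B, hB⟩ := zorn_subset {B : Set k | ∀ a ∈ B, a ∉ pGen p (B \ {a})} fun c hc hch => by
    refine ⟨⋃₀ c, fun a ⟨s, hs, has⟩ hmem => ?_, fun s hs => Set.subset_sUnion_of_mem hs⟩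
    obtain ⟨T, hT, haT⟩ := exists_finset_mem_pGen p hmem
    rcases c.eq_empty_or_nonempty with rfl | hne
    · simp at hs
    obtain ⟨u, hu, hTu⟩ := DirectedOn.exists_mem_subset_of_finite_of_subset_sUnion hne hch.directedOn T.finite_toSet
      fun x hx => (hT hx).1
    obtain ⟨v, hv, huv, hsv⟩ := hch.directedOn u hu s hs
    exact hc hv a (hsv has) (pGen_mono p (fun x hx => ⟨huv (hTu hx), (hT hx).2⟩ : (T : Set k) ⊆ v \ {a}) haT)
  refine ⟨B, hB.1, eq_top_iff.mpr fun a _ => ?_⟩
  by_contra ha
  have haB : a ∉ B := fun h => ha (mem_pGen_of_mem p h)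
  have hins : insert a B ∈ {B : Set k | ∀ a ∈ B, a ∉ pGen p (B \ {a})} := by
    intro b hb hmem
    rcases hb with rfl | hb
    · exact ha (pGen_mono p (by simp) hmem)
    · have h1 : insert a B \ {b} = insert a (B \ {b}) := by
        ext x; simp only [Set.mem_diff, Set.mem_insert_iff, Set.mem_singleton_iff]
        constructor
        · rintro ⟨rfl | h, hne⟩
          · exact Or.inl rfl
          · exact Or.inr ⟨h, hne⟩
        · rintro (rfl | ⟨h, hne⟩)
          · exact ⟨Or.inl rfl, fun h => haB (h ▸ hb)⟩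
          · exact ⟨Or.inr h, hne⟩
      rw [h1] at hmem
      have := pGen_exchange p (fun h => ha (pGen_mono p Set.sdiff_subset h)) (hB.1 b hb) hmem
      exact ha (by simpa [Set.insert_eq_of_mem hb] using this)
  exact haB (hB.2 hins (Set.subset_insert a B) (Set.mem_insert a B))

theorem mem_range_pow_of_mem_pGen {B : Set k} (hB : ∀ a ∈ B, a ∉ pGen p (B \ {a})) (T : Finset k) (hT : (T : Set k) ⊆ B)
    (x : k) (h1 : x ∈ pGen p (T : Set k)) (h2 : x ∈ pGen p (B \ T)) : x ∈ pGen p (∅ : Set k) := by
  classical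
  induction T using Finset.induction generalizing x with
  | empty => simpa using h1
  | @insert t T htT ih =>
    rw [Finset.coe_insert] at h1 hT h2
    have htB : t ∈ B := hT (Set.mem_insert t _)
    have hTB : (T : Set k) ⊆ B \ {t} := fun y hy => ⟨hT (Set.mem_insert_of_mem _ hy), fun h => htT (h ▸ hy)⟩
    have ht : t ∉ pGen p (T : Set k) := fun h => hB t htB (pGen_mono p hTB h)
    obtain ⟨q, hq, hqx⟩ := exists_poly_of_mem p _ t h1 ht
    let M := pGen p (B \ {t})
    let i : pGen p (T : Set k) →+* M := Subfield.inclusion (pGen_mono p hTB)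
    have hxM : x ∈ M := pGen_mono p (Set.sdiff_subset_sdiff_right (Set.singleton_subset_iff.mpr (Set.mem_insert t _))) h2
    let g : M[X] := q.map i - C (⟨x, hxM⟩ : M)
    have hg : aeval t g = 0 := by
      simp only [g, map_sub, aeval_C, Polynomial.aeval_def, eval₂_map, eval₂_C]
      rw [show ((algebraMap M k).comp i) = algebraMap (pGen p (T : Set k)) k from rfl, ← Polynomial.aeval_def, hqx]
      exact sub_self x
    have hg0 : g = 0 := by
      by_contra hne
      have h := Polynomial.natDegree_le_natDegree (minpoly.degree_le_of_ne_zero M t hne hg)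
      rw [minpoly_eq_X_pow_sub p M t (hB t htB) (pow_mem_pGen p _ t), natDegree_X_pow_sub_C] at h
      have : g.natDegree ≤ q.natDegree := (natDegree_sub_le _ _).trans (by simp)
      omega
    have hx : ((q.coeff 0 : pGen p (T : Set k)) : k) = x := by
      have := congrArg (fun f : M[X] => ((f.coeff 0 : M) : k)) hg0
      simp only [g, coeff_sub, coeff_map, coeff_C_zero, coeff_zero, ZeroMemClass.coe_zero, AddSubgroupClass.coe_sub] at this
      exact sub_eq_zero.mp this
    refine ih ((Set.subset_insert _ _).trans hT) x (hx ▸ (q.coeff 0).2) (pGen_mono p ?_ h2)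
    exact fun y hy => ⟨hy.1, fun h => hy.2 (Set.mem_insert_of_mem _ h)⟩

/-- Every field of characteristic `p` has a good family. -/
theorem goodFamily_field (k : Type u) [Field k] [CharP k p] : GoodFamily p k := by
  classical
  obtain ⟨B, hB, htop⟩ := exists_pBasis p (k := k)
  refine ⟨Finset k, fun S => (pGen p (B \ (S : Set k))).toSubring, ⟨∅⟩, fun S => ?_, fun S T => ⟨S ∪ T, ?_, ?_⟩, fun x hx => ?_⟩
  · let M := pGen p (B \ S)
    have hint : ∀ c : k, IsIntegral M c := fun c => IsIntegral.of_pow hp.out.pos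
      (⟨X - C (⟨c ^ p, pow_mem_pGen p _ c⟩ : M), monic_X_sub_C _, by simp [M]; exact sub_self _⟩)
    have hfin : Module.Finite M k := by
      have h : IntermediateField.adjoin M (S : Set k) = ⊤ := eq_top_iff.mpr fun y _ => by
        have hle : pGen p B ≤ (IntermediateField.adjoin M (S : Set k)).toSubfield := Subfield.closure_le.mpr fun z hz => by
          rcases hz with hz | hz
          · exact (IntermediateField.adjoin M (S : Set k)).algebraMap_mem ⟨z, Subfield.subset_closure (Or.inl hz)⟩
          · by_cases hzS : z ∈ S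
            · exact IntermediateField.subset_adjoin M _ hzS
            · exact (IntermediateField.adjoin M (S : Set k)).algebraMap_mem ⟨z, mem_pGen_of_mem p ⟨hz, hzS⟩⟩
        exact hle (htop ▸ Subfield.mem_top y)
      haveI := IntermediateField.finiteDimensional_adjoin (K := M) (S := (S : Set k)) fun c _ => hint c
      exact Module.Finite.equiv ((IntermediateField.equivOfEq h).trans IntermediateField.topEquiv).toLinearEquiv
    obtain ⟨π, hπ⟩ := (Algebra.linearMap M k).exists_leftInverse_of_injective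
      (LinearMap.ker_eq_bot.mpr (algebraMap M k).injective)
    refine ⟨fun a => pow_mem_pGen p _ a, hfin, (algebraMap M k).toAddMonoidHom.comp π.toAddMonoidHom,
      fun a => (π a).2, fun a ha => ?_, fun a s hs => ?_⟩
    · exact congrArg Subtype.val (LinearMap.congr_fun hπ ⟨a, ha⟩)
    · show ((π (a * s) : M) : k) = (π a : k) * s
      rw [show a * s = (⟨s, hs⟩ : M) • a from mul_comm a s, map_smul]
      exact mul_comm s _
  · dsimp only; rw [Finset.coe_union]; exact pGen_mono p (Set.sdiff_subset_sdiff_right Set.subset_union_left)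
  · dsimp only; rw [Finset.coe_union]; exact pGen_mono p (Set.sdiff_subset_sdiff_right Set.subset_union_right)
  · obtain ⟨T, hT, hxT⟩ := exists_finset_mem_pGen p (show x ∈ pGen p B from htop ▸ Subfield.mem_top x)
    have h := mem_range_pow_of_mem_pGen p hB T hT x hxT (hx T)
    have hle : pGen p (∅ : Set k) ≤ (frobenius k p).fieldRange := Subfield.closure_le.mpr fun y hy => by
      rcases hy with ⟨z, rfl⟩ | hy
      · exact ⟨z, frobenius_def ..⟩
      · exact hy.elim
    obtain ⟨b, hb⟩ := hle h
    exact ⟨b, by rw [← frobenius_def]; exact hb⟩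

end field

section series
open MvPowerSeries
variable (p : ℕ) [hp : Fact p.Prime] {R : Type u} [CommRing R] [CharP R p] {σ : Type} [Finite σ]

/-- Series with coefficients in `R'` and exponents divisible by `p`. -/
noncomputable def pSub (R' : Subring R) : Subring (MvPowerSeries σ R) where
  carrier := {φ | (∀ e, coeff e φ ∈ R') ∧ ∀ e, coeff e φ ≠ 0 → ∀ i, p ∣ e i}
  one_mem' := by
    classical
    refine ⟨fun e => ?_, fun e he i => ?_⟩
    · rw [coeff_one]; split_ifs <;> simp
    · rw [coeff_one] at he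
      split_ifs at he with h
      · simp [h]
      · exact absurd rfl he
  zero_mem' := ⟨fun e => by simp, fun e he => absurd (by simp) he⟩
  add_mem' {a b} ha hb := ⟨fun e => by simpa using R'.add_mem (ha.1 e) (hb.1 e), fun e he => by
    by_cases h : coeff e a = 0
    · exact hb.2 e (by simpa [h] using he)
    · exact ha.2 e h⟩
  neg_mem' {a} ha := ⟨fun e => by simpa using R'.neg_mem (ha.1 e), fun e he => ha.2 e (by simpa using he)⟩
  mul_mem' {a b} ha hb := by
    classical
    refine ⟨fun e => ?_, fun e he i => ?_⟩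
    · rw [MvPowerSeries.coeff_mul]
      exact R'.sum_mem fun x _ => R'.mul_mem (ha.1 _) (hb.1 _)
    · rw [MvPowerSeries.coeff_mul] at he
      obtain ⟨x, hx, hne⟩ := Finset.exists_ne_zero_of_sum_ne_zero he
      rw [← Finset.HasAntidiagonal.mem_antidiagonal.mp hx, Finsupp.add_apply]
      exact dvd_add (ha.2 _ (left_ne_zero_of_mul hne) i) (hb.2 _ (right_ne_zero_of_mul hne) i)

theorem mem_pSub {R' : Subring R} {φ : MvPowerSeries σ R} :
    φ ∈ pSub p R' ↔ (∀ e, coeff e φ ∈ R') ∧ ∀ e, coeff e φ ≠ 0 → ∀ i, p ∣ e i := Iff.rfl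

theorem pow_mem_pSub (R' : Subring R) (hR : ∀ a : R, a ^ p ∈ R') (φ : MvPowerSeries σ R) : φ ^ p ∈ pSub p R' := by
  rw [← MvPowerSeries.map_frobenius_expand p hp.out.ne_zero]
  refine ⟨fun e => ?_, fun e he i => ?_⟩
  · rw [MvPowerSeries.coeff_map, frobenius_def]; exact hR _
  · by_contra h
    exact he (by rw [MvPowerSeries.coeff_map, coeff_expand_of_not_dvd p _ φ h, map_zero])

theorem pSub_retraction (R' : Subring R) (r : R →+ R) (hr1 : ∀ a, r a ∈ R') (hr2 : ∀ a ∈ R', r a = a)
    (hr3 : ∀ a, ∀ s ∈ R', r (a * s) = r a * s) : ∃ r' : MvPowerSeries σ R →+ MvPowerSeries σ R,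
      (∀ a, r' a ∈ pSub p R') ∧ (∀ a ∈ pSub p R', r' a = a) ∧ (∀ a, ∀ s ∈ pSub p R', r' (a * s) = r' a * s) ∧
      ∀ a e, coeff e a = 0 → coeff e (r' a) = 0 := by
  classical
  let r' : MvPowerSeries σ R →+ MvPowerSeries σ R := AddMonoidHom.mk'
    (fun φ => (fun e => if ∀ i, p ∣ e i then r (coeff e φ) else 0 : MvPowerSeries σ R)) fun a b => by
      funext e
      show (if _ then r (coeff e (a + b)) else 0) = (if _ then r (coeff e a) else 0) + (if _ then r (coeff e b) else 0)
      split_ifs <;> simp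
  have hc : ∀ φ e, coeff e (r' φ) = if ∀ i, p ∣ e i then r (coeff e φ) else 0 := fun φ e => rfl
  refine ⟨r', fun a => ⟨fun e => ?_, fun e he => ?_⟩, fun a ha => ?_, fun a s hs => ?_, fun a e he => ?_⟩
  · rw [hc]; split_ifs; exacts [hr1 _, R'.zero_mem]
  · rw [hc] at he
    by_contra h
    exact he (if_neg h)
  · ext e
    rw [hc]
    split_ifs with h
    · exact hr2 _ (ha.1 e)
    · by_contra h'
      exact h (ha.2 e (Ne.symm h'))
  · ext e
    rw [hc, MvPowerSeries.coeff_mul, MvPowerSeries.coeff_mul]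
    split_ifs with h
    · rw [map_sum]
      refine Finset.sum_congr rfl fun x hx => ?_
      rw [hr3 _ _ (hs.1 _), hc]
      by_cases h2 : coeff x.2 s = 0
      · simp [h2]
      · rw [if_pos fun i => ?_]
        have h3 := h i
        rw [← Finset.HasAntidiagonal.mem_antidiagonal.mp hx, Finsupp.add_apply] at h3
        exact (Nat.dvd_add_left (hs.2 _ h2 i)).mp h3
    · refine (Finset.sum_eq_zero fun x hx => ?_).symm
      rw [hc]
      by_cases h2 : coeff x.2 s = 0
      · simp [h2]
      · rw [if_neg fun hall => h fun i => ?_, zero_mul]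
        rw [← Finset.HasAntidiagonal.mem_antidiagonal.mp hx, Finsupp.add_apply]
        exact dvd_add (hall i) (hs.2 _ h2 i)
  · rw [hc, he]; simp

theorem finite_pSub (R' : Subring R) [Module.Finite R' R] : Module.Finite (pSub (σ := σ) p R') (MvPowerSeries σ R) := by
  classical
  have := Fintype.ofFinite σ
  obtain ⟨n, c, hc⟩ := Module.Finite.exists_fin (R := R') (M := R)
  have hl : ∀ x : R, ∃ l : Fin n → R', ∑ j, l j • c j = x := fun x =>
    (Submodule.mem_span_range_iff_exists_fun R').mp (hc ▸ Submodule.mem_top)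
  choose l hl using hl
  let ex : (σ → Fin p) → (σ →₀ ℕ) := fun f => Finsupp.equivFunOnFinite.symm fun i => (f i : ℕ)
  let gen : (σ → Fin p) × Fin n → MvPowerSeries σ R := fun x => monomial (ex x.1) (c x.2)
  refine ⟨⟨Finset.univ.image gen, eq_top_iff.mpr fun φ _ => ?_⟩⟩
  rw [Finset.coe_image, Finset.coe_univ, Set.image_univ, Submodule.mem_span_range_iff_exists_fun]
  let coef : (σ → Fin p) × Fin n → pSub (σ := σ) p R' := fun x =>
    ⟨fun d => if ∀ i, p ∣ d i then ((l (coeff (d + ex x.1) φ) x.2 : R') : R) else 0, fun d => by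
      show (if _ then _ else _) ∈ R'
      split_ifs; exacts [(l _ _).2, R'.zero_mem], fun d hd => by
      by_contra h
      exact hd (if_neg h)⟩
  refine ⟨coef, ?_⟩
  ext e
  rw [map_sum]
  let f0 : σ → Fin p := fun i => ⟨e i % p, Nat.mod_lt _ hp.out.pos⟩
  have hterm : ∀ x : (σ → Fin p) × Fin n, coeff e (coef x • gen x) =
      if x.1 = f0 then ((l (coeff e φ) x.2 : R') : R) * c x.2 else 0 := by
    intro x
    show coeff e ((coef x : MvPowerSeries σ R) * monomial (ex x.1) (c x.2)) = _
    rw [coeff_mul_monomial]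
    by_cases hle : ex x.1 ≤ e
    · rw [if_pos hle]
      show (if ∀ i, p ∣ (e - ex x.1) i then ((l (coeff (e - ex x.1 + ex x.1) φ) x.2 : R') : R) else 0) * c x.2 = _
      rw [tsub_add_cancel_of_le hle]
      by_cases h : x.1 = f0
      · rw [if_pos h, if_pos fun i => ?_]
        rw [Finsupp.tsub_apply, h]
        exact Nat.dvd_sub_mod (e i)
      · rw [if_neg h, if_neg fun hall => h (funext fun i => Fin.ext ?_), zero_mul]
        have h1 := hall i
        rw [Finsupp.tsub_apply] at h1
        show (x.1 i : ℕ) = e i % p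
        have h2 : (ex x.1) i ≤ e i := hle i
        have h3 : e i % p = (ex x.1) i % p := (Nat.modEq_of_dvd' h2 h1).symm
        rw [h3]
        exact (Nat.mod_eq_of_lt (x.1 i).2).symm
    · rw [if_neg hle, if_neg]
      exact fun h => hle fun i => by
        show (x.1 i : ℕ) ≤ e i
        rw [h]; exact Nat.mod_le _ _
  rw [Finset.sum_congr rfl fun x _ => hterm x, Fintype.sum_prod_type, Finset.sum_eq_single f0
    (fun f _ hf => Finset.sum_eq_zero fun j _ => if_neg hf) (by simp)]
  simp only [if_true]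
  exact hl _

theorem goodFamily_mvPowerSeries (h : GoodFamily p R) : GoodFamily p (MvPowerSeries σ R) := by
  classical
  have := Fintype.ofFinite σ
  obtain ⟨ι, R', hne, hg, hdir, hint⟩ := h
  refine ⟨ι, fun i => pSub p (R' i), hne, fun i => ?_, fun i j => ?_, fun φ hφ => ?_⟩
  · obtain ⟨h1, h2, r, hr1, hr2, hr3⟩ := hg i
    obtain ⟨r', a, b, c, -⟩ := pSub_retraction (σ := σ) p (R' i) r hr1 hr2 hr3
    exact ⟨pow_mem_pSub p _ h1, finite_pSub p (R' i), r', a, b, c⟩
  · obtain ⟨l, hi, hj⟩ := hdir i j
    exact ⟨l, fun φ hφ => ⟨fun e => hi (hφ.1 e), hφ.2⟩, fun φ hφ => ⟨fun e => hj (hφ.1 e), hφ.2⟩⟩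
  · choose b hb using fun e => hint (coeff e φ) fun i => (hφ i).1 e
    let ψ : MvPowerSeries σ R := fun e => b (p • e)
    refine ⟨ψ, ?_⟩
    rw [← MvPowerSeries.map_frobenius_expand p hp.out.ne_zero]
    ext e
    rw [MvPowerSeries.coeff_map]
    by_cases h : ∀ i, p ∣ e i
    · let d : σ →₀ ℕ := Finsupp.equivFunOnFinite.symm fun i => e i / p
      have he : p • d = e := Finsupp.ext fun i => by simp [d, Nat.mul_div_cancel' (h i)]
      rw [← he, coeff_expand_smul, frobenius_def]
      exact hb _
    · obtain ⟨i, hi⟩ := not_forall.mp h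
      rw [coeff_expand_of_not_dvd p _ ψ hi, map_zero]
      by_contra hne'
      exact h ((hφ hne.some).2 e (Ne.symm hne'))

theorem goodFamily_mvPolynomial (h : GoodFamily p R) : GoodFamily p (MvPolynomial σ R) := by
  classical
  have := Fintype.ofFinite σ
  obtain ⟨ι, R', hne, hg, hdir, hint⟩ := h
  let co : MvPolynomial σ R →+* MvPowerSeries σ R := MvPolynomial.coeToMvPowerSeries.ringHom
  refine ⟨ι, fun i => (pSub p (R' i)).comap co, hne, fun i => ?_, fun i j => ?_, fun φ hφ => ?_⟩
  · obtain ⟨h1, h2, r, hr1, hr2, hr3⟩ := hg i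
    obtain ⟨r', a, b, c, d⟩ := pSub_retraction (σ := σ) p (R' i) r hr1 hr2 hr3
    have hcoe : ∀ e (φ : MvPolynomial σ R), coeff e (co φ) = φ.coeff e := fun e φ => MvPolynomial.coeff_coe ..
    have hsupp : ∀ φ : MvPolynomial σ R, ∃ ψ : MvPolynomial σ R, co ψ = r' (co φ) := fun φ => by
      refine ⟨∑ e ∈ φ.support, MvPolynomial.monomial e (coeff e (r' (co φ))), ?_⟩
      ext e
      rw [hcoe, MvPolynomial.coeff_sum]
      simp only [MvPolynomial.coeff_monomial, Finset.sum_ite_eq']
      split_ifs with he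
      · rfl
      · exact (d _ e (by rw [hcoe]; exact MvPolynomial.notMem_support_iff.mp he)).symm
    choose r0 hr0 using hsupp
    have hinj : Function.Injective co := MvPolynomial.coe_injective σ R
    have hadd : ∀ x y, r0 (x + y) = r0 x + r0 y := fun x y => hinj (by rw [hr0, map_add, map_add, map_add, hr0, hr0])
    refine ⟨fun φ => Subring.mem_comap.mpr (by rw [map_pow]; exact pow_mem_pSub p _ h1 _), ?_,
      AddMonoidHom.mk' r0 hadd,
      fun φ => Subring.mem_comap.mpr (by rw [AddMonoidHom.mk'_apply, hr0]; exact a _),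
      fun φ hφ => hinj (by rw [AddMonoidHom.mk'_apply, hr0]; exact b _ hφ),
      fun φ s hs => hinj (by
        rw [AddMonoidHom.mk'_apply, hr0, map_mul co φ s, map_mul co (r0 φ) s, hr0]
        exact c _ _ hs)⟩
    -- finiteness
    let A' := (pSub p (R' i)).comap co
    obtain ⟨n, g, hg'⟩ := Module.Finite.exists_fin (R := R' i) (M := R)
    have hC : ∀ x ∈ R' i, MvPolynomial.C x ∈ A' := fun x hx => by
      refine ⟨fun e => ?_, fun e he => ?_⟩
      · rw [hcoe, MvPolynomial.coeff_C]; split_ifs; exacts [hx, (R' i).zero_mem]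
      · rw [hcoe, MvPolynomial.coeff_C] at he
        split_ifs at he with h0
        · subst h0; simp
        · exact absurd rfl he
    have hft : Algebra.adjoin A' ((Set.range fun j => MvPolynomial.C (g j)) ∪ Set.range (MvPolynomial.X (R := R) (σ := σ))) = ⊤ := by
      refine eq_top_iff.mpr fun φ hφ => ?_
      clear hφ
      induction φ using MvPolynomial.induction_on with
      | C x =>
        obtain ⟨l, hl⟩ := (Submodule.mem_span_range_iff_exists_fun (R' i)).mp (hg' ▸ Submodule.mem_top (x := x))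
        rw [← hl, map_sum]
        refine Subalgebra.sum_mem _ fun j _ => ?_
        rw [show l j • g j = ((l j : R' i) : R) * g j from rfl, map_mul]
        exact Subalgebra.mul_mem _ (Subalgebra.algebraMap_mem _ (⟨_, hC _ (l j).2⟩ : A'))
          (Algebra.subset_adjoin (Or.inl ⟨j, rfl⟩))
      | add x y hx hy => exact Subalgebra.add_mem _ hx hy
      | mul_X x j hx => exact Subalgebra.mul_mem _ hx (Algebra.subset_adjoin (Or.inr ⟨j, rfl⟩))
    have hfg := fg_adjoin_of_finite (R := A') (A := MvPolynomial σ R) ((Set.finite_range _).union (Set.finite_range _))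
      (s := (Set.range fun j => MvPolynomial.C (g j)) ∪ Set.range (MvPolynomial.X (R := R) (σ := σ))) fun x _ => by
        refine IsIntegral.of_pow hp.out.pos ?_
        exact isIntegral_algebraMap (x := (⟨x ^ p, Subring.mem_comap.mpr (by rw [map_pow]; exact pow_mem_pSub p _ h1 _)⟩ : A'))
    rw [hft] at hfg
    exact ⟨hfg⟩
  · obtain ⟨l, hi, hj⟩ := hdir i j
    exact ⟨l, fun φ hφ => ⟨fun e => hi (hφ.1 e), hφ.2⟩, fun φ hφ => ⟨fun e => hj (hφ.1 e), hφ.2⟩⟩
  · have hcoe : ∀ e, coeff e (co φ) = φ.coeff e := fun e => MvPolynomial.coeff_coe ..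
    choose b hb using fun e => hint (φ.coeff e) fun i => by rw [← hcoe]; exact (hφ i).1 e
    refine ⟨∑ e ∈ φ.support, MvPolynomial.monomial (Finsupp.equivFunOnFinite.symm fun i => e i / p) (b e), ?_⟩
    rw [sum_pow_char p]
    conv_rhs => rw [φ.as_sum]
    refine Finset.sum_congr rfl fun e he => ?_
    rw [MvPolynomial.monomial_pow, hb]
    refine congrArg (fun d => MvPolynomial.monomial d (φ.coeff e)) (Finsupp.ext fun i => ?_)
    have := (hφ hne.some).2 e (by rw [hcoe]; exact MvPolynomial.mem_support_iff.mp he) i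
    simp [Nat.mul_div_cancel' this]

end series

end Groth.Agent.CAlgH
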