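import Mathlib
import Groth.Prelude.Def_Found
import Groth.Agent.CAlgH.PFamily
import Groth.Agent.CAlgH.CompletionDerivation
import Groth.Agent.CAlgH.RegularSmooth
import Groth.Agent.CAlgH.JacobianRegular

/-! Geometric regularity of generic formal fibres through derivations. -/
universe u
open IsLocalRing TensorProduct Polynomial

namespace Groth.Agent.CAlgH

/-- Derivations of finite domains over `A` extend to the base change to `C`. -/
def ExtendsDer (A C : Type u) [CommRing A] [CommRing C] [Algebra A C] : Prop :=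
  ∀ (B : Type u) [CommRing B] [IsDomain B] [Algebra A B] [Module.Finite A B] (D : Derivation ℤ B B),
    ∃ D' : Derivation ℤ (C ⊗[A] B) (C ⊗[A] B), ∀ b, D' ((1 : C) ⊗ₜ[A] b) = (1 : C) ⊗ₜ[A] D b

theorem mem_range_algebraMap_iff_mul {A : Type u} [CommRing A] [IsDomain A] (A' : Subring A) (r : A →+ A)
    (hr1 : ∀ a, r a ∈ A') (hr2 : ∀ a ∈ A', r a = a) (hr3 : ∀ a, ∀ s ∈ A', r (a * s) = r a * s)
    (a s : A) (hs : s ∈ A') (hs0 : s ≠ 0) (hmem : a * s ∈ A') : a ∈ A' := by
  have h := hr2 _ hmem
  rw [hr3 a s hs] at h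
  exact mul_right_cancel₀ hs0 h ▸ hr1 a

/-- An element in every span over a directed family of subfields with intersection the `p`-th powers is a `p`-th power. -/
theorem exists_index_notMem_span_aux (p : ℕ) [hp : Fact p.Prime] {ι : Type u} (hne : Nonempty ι) (K : Type u) [Field K]
    (Ki : ι → Subfield K) (hdir : ∀ i j, ∃ l, Ki l ≤ Ki i ∧ Ki l ≤ Ki j) (hKinter : ∀ c : K, (∀ i, c ∈ Ki i) → ∃ e, e ^ p = c)
    (M : Type u) [Field M] [CharP M p] [Algebra K M] {n : ℕ} (b : Fin n → M) (f : M) (hf : ∀ g, g ^ p ≠ f) :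
    ∃ i, f ∉ Submodule.span (Ki i) (Set.range fun s => b s ^ p) := by
  classical
  let bp : Fin n → M := fun s => b s ^ p
  by_contra! hall
  let Good : Finset (Fin n) → Prop := fun T => ∃ i, LinearIndepOn (Ki i) bp (T : Set (Fin n))
  obtain ⟨T, hT, hmax⟩ := Finset.exists_max_image (Finset.univ.filter Good) Finset.card
    ⟨∅, Finset.mem_filter.mpr ⟨Finset.mem_univ _, hne.some, by simp⟩⟩
  obtain ⟨i0, hi0⟩ := (Finset.mem_filter.mp hT).2
  have hspan : ∀ l, Ki l ≤ Ki i0 → ∃ c : Fin n → Ki l, f = ∑ s ∈ T, (c s : K) • bp s := by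
    intro l hl
    have hindl : LinearIndepOn (Ki l) bp (T : Set (Fin n)) := by
      refine linearIndepOn_iff'.mpr fun t g htT hg s hs => ?_
      exact Subtype.ext (congrArg Subtype.val
        (linearIndepOn_iff'.mp hi0 t (fun s => ⟨g s, hl (g s).2⟩) htT hg s hs) :)
    have hle : Submodule.span (Ki l) (Set.range bp) ≤ Submodule.span (Ki l) (bp '' T) := by
      refine Submodule.span_le.mpr ?_
      rintro _ ⟨s, rfl⟩
      by_contra hs
      have hsT : s ∉ T := fun h => hs (Submodule.subset_span ⟨s, h, rfl⟩)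
      have hins : LinearIndepOn (Ki l) bp ((insert s T : Finset (Fin n)) : Set (Fin n)) := by
        rw [Finset.coe_insert]; exact hindl.insert hs
      have := hmax (insert s T) (Finset.mem_filter.mpr ⟨Finset.mem_univ _, l, hins⟩)
      rw [Finset.card_insert_of_notMem hsT] at this
      omega
    obtain ⟨c, hc⟩ := (Submodule.mem_span_image_finset_iff_exists_fun (Ki l)).mp (hle (hall l))
    refine ⟨fun s => if h : s ∈ T then c ⟨s, h⟩ else 0, ?_⟩
    rw [← hc, ← Finset.sum_attach T (fun s => ((if h : s ∈ T then c ⟨s, h⟩ else 0 : Ki l) : K) • bp s),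
      Finset.univ_eq_attach]
    refine Finset.sum_congr rfl fun s _ => ?_
    rw [dif_pos s.2]
    rfl
  obtain ⟨c0, hc0⟩ := hspan i0 le_rfl
  have hall' : ∀ s ∈ T, ∀ i, (c0 s : K) ∈ Ki i := by
    intro s hs i
    obtain ⟨l, hli, hl0⟩ := hdir i i0
    obtain ⟨c, hc⟩ := hspan l hl0
    have h0 : ∑ t ∈ T, ((⟨c t, hl0 (c t).2⟩ : Ki i0) - c0 t) • bp t = 0 := by
      simp only [sub_smul, Finset.sum_sub_distrib]
      exact sub_eq_zero.mpr (hc.symm.trans hc0)
    have h1 := sub_eq_zero.mp (linearIndepOn_iff'.mp hi0 T _ (subset_refl _) h0 s hs)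
    rw [← h1]
    exact hli (c s).2
  choose! e he using fun s hs => hKinter _ (hall' s hs)
  refine hf (∑ s ∈ T, e s • b s) ?_
  rw [sum_pow_char p, hc0]
  refine Finset.sum_congr rfl fun s hs => ?_
  rw [_root_.smul_pow, he s hs]

set_option maxHeartbeats 800000 in
/-- A non `p`-th power escapes some member of the family. -/
theorem exists_index_notMem_span (p : ℕ) [hp : Fact p.Prime] (A K : Type u) [CommRing A] [IsDomain A]
    [CharP A p] {ι : Type u} (A' : ι → Subring A) (hne : Nonempty ι) (hgood : ∀ i, GoodSub p (A' i))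
    (hdir : ∀ i j, ∃ l, A' l ≤ A' i ∧ A' l ≤ A' j) (hint : ∀ a, (∀ i, a ∈ A' i) → ∃ b, b ^ p = a)
    [Field K] [Algebra A K] [IsFractionRing A K] (M : Type u) [Field M] [CharP M p] [Algebra K M] {n : ℕ}
    (b : Module.Basis (Fin n) K M) (f : M) (hf : ∀ g, g ^ p ≠ f) :
    let bp := fun s => b s ^ p
    let Ki := fun i => Subfield.closure ((algebraMap A K) '' (A' i : Set A))
    (∀ i (c : K), c ^ p ∈ Ki i) ∧ (∀ i (g : M), g ^ p ∈ Submodule.span (Ki i) (Set.range bp)) ∧
      ∃ i, f ∉ Submodule.span (Ki i) (Set.range bp) := by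
  classical
  haveI : CharP K p := charP_of_injective_algebraMap (IsFractionRing.injective A K) p
  intro bp0 Ki
  have hKmem : ∀ i (c : K), c ∈ Ki i → ∃ t ∈ A' i, ∃ s ∈ A' i, algebraMap A K t / algebraMap A K s = c := by
    intro i c hc
    obtain ⟨y, hy, z, hz, rfl⟩ := Subfield.mem_closure_iff.mp hc
    have hcl : Subring.closure ((algebraMap A K) '' (A' i : Set A)) = (A' i).map (algebraMap A K) := by
      rw [← RingHom.map_closure, Subring.closure_eq]
    rw [hcl] at hy hz
    obtain ⟨t, ht, rfl⟩ := hy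
    obtain ⟨s, hs, rfl⟩ := hz
    exact ⟨t, ht, s, hs, rfl⟩
  have hKpow : ∀ i (c : K), c ^ p ∈ Ki i := fun i c => by
    obtain ⟨a, s, -, rfl⟩ := IsFractionRing.div_surjective (A := A) c
    rw [div_pow, ← map_pow, ← map_pow]
    exact div_mem (Subfield.subset_closure ⟨_, (hgood i).1 a, rfl⟩) (Subfield.subset_closure ⟨_, (hgood i).1 s, rfl⟩)
  have hKinter : ∀ c : K, (∀ i, c ∈ Ki i) → ∃ e, e ^ p = c := by
    intro c hc
    obtain ⟨g, h, hh, rfl⟩ := IsFractionRing.div_surjective (A := A) c
    have hh0 : h ≠ 0 := nonZeroDivisors.ne_zero hh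
    have hmem : ∀ i, g * h ^ (p - 1) ∈ A' i := fun i => by
      obtain ⟨t, ht, s, hs, hts⟩ := hKmem i _ (hc i)
      obtain ⟨hpow, -, r, hr1, hr2, hr3⟩ := hgood i
      rcases eq_or_ne s 0 with rfl | hs0
      · have hg0 : g = 0 := by
          rw [map_zero, div_zero, eq_comm, div_eq_zero_iff] at hts
          exact IsFractionRing.injective A K (by rw [map_zero]; exact hts.resolve_right fun h' => hh0 (IsFractionRing.injective A K (by rw [map_zero]; exact h')))
        rw [hg0, zero_mul]; exact (A' i).zero_mem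
      refine mem_range_algebraMap_iff_mul (A' i) r hr1 hr2 hr3 _ s hs hs0 ?_
      have heq : t * h = g * s := IsFractionRing.injective A K (by
        rw [map_mul, map_mul]
        exact (div_eq_div_iff (fun h' => hs0 (IsFractionRing.injective A K (by rw [map_zero]; exact h')))
          (fun h' => hh0 (IsFractionRing.injective A K (by rw [map_zero]; exact h')))).mp hts)
      rw [show g * h ^ (p - 1) * s = t * h ^ p by
        rw [mul_assoc, mul_comm (h ^ (p - 1)) s, ← mul_assoc, ← heq, mul_assoc, ← pow_succ', Nat.sub_add_cancel hp.out.one_le]]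
      exact (A' i).mul_mem ht (hpow h)
    obtain ⟨e, he⟩ := hint _ hmem
    refine ⟨algebraMap A K e / algebraMap A K h, ?_⟩
    have hh0' : algebraMap A K h ≠ 0 := fun h' => hh0 (IsFractionRing.injective A K (by rw [map_zero]; exact h'))
    rw [div_pow, ← map_pow, he, map_mul, map_pow, div_eq_div_iff (pow_ne_zero _ hh0') hh0', mul_assoc, ← pow_succ,
      Nat.sub_add_cancel hp.out.one_le]
  let bp : Fin n → M := bp0
  have hMp : ∀ i (g : M), g ^ p ∈ Submodule.span (Ki i) (Set.range bp) := fun i g => by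
    rw [← b.sum_repr g, sum_pow_char p]
    refine Submodule.sum_mem _ fun s _ => ?_
    rw [_root_.smul_pow]
    exact Submodule.smul_mem _ (⟨_, hKpow i _⟩ : Ki i) (Submodule.subset_span ⟨s, rfl⟩)
  have hKle : ∀ {i j}, A' i ≤ A' j → Ki i ≤ Ki j := fun h => Subfield.closure_mono (Set.image_mono h)
  have hdirK : ∀ i j, ∃ l, Ki l ≤ Ki i ∧ Ki l ≤ Ki j := fun i j =>
    let ⟨l, hli, hlj⟩ := hdir i j
    ⟨l, hKle hli, hKle hlj⟩
  have hesc := exists_index_notMem_span_aux p hne K Ki hdirK hKinter M b f hf
  exact ⟨hKpow, hMp, hesc⟩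

/-- A derivation killing a subfield containing the `p`-th powers, nonzero at a given element outside. -/
theorem exists_derivation_kill (p : ℕ) [hp : Fact p.Prime] (F M : Type u) [Field F] [Field M] [CharP M p] [Algebra F M]
    (L0 : IntermediateField F M) (hpow : ∀ x : M, x ^ p ∈ L0) (f : M) (hfL0 : f ∉ L0) :
    ∃ θ : Derivation ℤ M M, (∀ z ∈ L0, θ z = 0) ∧ θ f = 1 := by
  obtain ⟨L, hL0, hLf⟩ := zorn_le_nonempty₀ {L : IntermediateField F M | L0 ≤ L ∧ f ∉ L} (fun c hc hch y hy => by
    have hdir : DirectedOn (· ≤ ·) c := hch.directedOn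
    haveI : Nonempty c := ⟨⟨y, hy⟩⟩
    refine ⟨⨆ L : c, (L : IntermediateField F M), ⟨(hc hy).1.trans (le_iSup (fun L : c => (L : IntermediateField F M)) ⟨y, hy⟩), ?_⟩,
      fun z hz => le_iSup (fun L : c => (L : IntermediateField F M)) ⟨z, hz⟩⟩
    have hcoe := IntermediateField.coe_iSup_of_directed (hdir.directed_val)
    intro h
    rw [← SetLike.mem_coe, hcoe, Set.mem_iUnion] at h
    obtain ⟨z, hz⟩ := h
    exact (hc z.2).2 hz) L0 ⟨le_rfl, hfL0⟩
  have hfL : f ∉ L := hLf.1.2
  have hxp : ∀ x : M, x ^ p ∈ L := fun x => hLf.1.1 (hpow x)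
  have hirr : Irreducible (X ^ p - C (⟨f ^ p, hxp f⟩ : L)) := X_pow_sub_C_irreducible_of_prime hp.out fun c hc => hfL (by
    have h : (c : M) ^ p = f ^ p := congrArg Subtype.val hc
    rw [← frobenius_def, ← frobenius_def] at h
    exact (frobenius M p).injective h ▸ c.2)
  have hmin : minpoly L f = X ^ p - C (⟨f ^ p, hxp f⟩ : L) :=
    (minpoly.eq_of_irreducible_of_monic hirr (by simp [Polynomial.aeval_def]) (monic_X_pow_sub_C _ hp.out.ne_zero)).symm
  haveI : CharP L p := (RingHom.charP_iff L.val.toRingHom L.val.toRingHom.injective p).mpr ‹CharP M p›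
  have hintf : IsIntegral L f := IsIntegral.of_pow hp.out.pos (isIntegral_algebraMap (x := (⟨f ^ p, hxp f⟩ : L)))
  have htop : ∀ y : M, ∃ q : L[X], aeval f q = y := by
    intro y
    by_cases hy : y ∈ L
    · exact ⟨C ⟨y, hy⟩, by simp⟩
    have hfy : f ∈ IntermediateField.adjoin L ({y} : Set M) := by
      by_contra hn
      have h := hLf.2 (y := (IntermediateField.adjoin L ({y} : Set M)).restrictScalars F)
        ⟨hLf.1.1.trans fun z hz => (IntermediateField.adjoin L {y}).algebraMap_mem ⟨z, hz⟩, hn⟩
        fun z hz => (IntermediateField.adjoin L {y}).algebraMap_mem ⟨z, hz⟩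
      exact hy (h (IntermediateField.mem_adjoin_simple_self L y))
    have hyint : IsIntegral L y := IsIntegral.of_pow hp.out.pos (isIntegral_algebraMap (x := (⟨y ^ p, hxp y⟩ : L)))
    have hdeg : ∀ z : M, z ∉ L → Module.finrank L (IntermediateField.adjoin L ({z} : Set M)) = p := fun z hz => by
      have hirr' : Irreducible (X ^ p - C (⟨z ^ p, hxp z⟩ : L)) := X_pow_sub_C_irreducible_of_prime hp.out fun c hc => hz (by
        have h : (c : M) ^ p = z ^ p := congrArg Subtype.val hc
        rw [← frobenius_def, ← frobenius_def] at h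
        exact (frobenius M p).injective h ▸ c.2)
      rw [IntermediateField.adjoin.finrank (IsIntegral.of_pow hp.out.pos (isIntegral_algebraMap (x := (⟨z ^ p, hxp z⟩ : L)))),
        ← minpoly.eq_of_irreducible_of_monic hirr' (by simp [Polynomial.aeval_def]) (monic_X_pow_sub_C _ hp.out.ne_zero),
        natDegree_X_pow_sub_C]
    haveI := IntermediateField.adjoin.finiteDimensional hyint
    have heq := IntermediateField.eq_of_le_of_finrank_eq (IntermediateField.adjoin_simple_le_iff.mpr hfy) ((hdeg f hfL).trans (hdeg y hy).symm)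
    have hy' : y ∈ (IntermediateField.adjoin L ({f} : Set M)).toSubalgebra := heq ▸ IntermediateField.mem_adjoin_simple_self L y
    rw [IntermediateField.adjoin_simple_toSubalgebra_of_isAlgebraic hintf.isAlgebraic, Algebra.adjoin_singleton_eq_range_aeval] at hy'
    obtain ⟨q, hq⟩ := hy'
    exact ⟨q, hq⟩
  choose q hq using htop
  have hwell : ∀ (q1 : L[X]) (y : M), aeval f q1 = y → aeval f (derivative q1) = aeval f (derivative (q y)) := fun q1 y h => by
    obtain ⟨w, hw⟩ : X ^ p - C (⟨f ^ p, hxp f⟩ : L) ∣ q1 - q y := hmin ▸ minpoly.dvd L f (by rw [map_sub, h, hq, sub_self])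
    have h1 : derivative (q1 - q y) = (X ^ p - C (⟨f ^ p, hxp f⟩ : L)) * derivative w := by
      rw [hw, derivative_mul, derivative_sub, derivative_X_pow, derivative_C]
      simp
    rw [← sub_eq_zero, ← map_sub, ← derivative_sub, h1, map_mul, map_sub, map_pow, aeval_X, aeval_C]
    exact mul_eq_zero_of_left (sub_eq_zero.mpr rfl) _
  let θ0 : M →ₗ[ℤ] M := (AddMonoidHom.mk' (fun y => aeval f (derivative (q y))) fun x y => by
    rw [← hwell (q x + q y) (x + y) (by rw [map_add, hq, hq]), derivative_add, map_add]).toIntLinearMap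
  let θ : Derivation ℤ M M := Derivation.mk' θ0 fun x y => by
    show aeval f (derivative (q (x * y))) = x • aeval f (derivative (q y)) + y • aeval f (derivative (q x))
    rw [← hwell (q x * q y) (x * y) (by rw [map_mul, hq, hq]), derivative_mul, map_add, map_mul, map_mul, hq, hq,
      smul_eq_mul, smul_eq_mul]
    ring
  have hθL : ∀ z ∈ L, θ z = 0 := fun z hz => by
    show aeval f (derivative (q z)) = 0
    rw [← hwell (C ⟨z, hz⟩) z (by simp), derivative_C, map_zero]
  have hθf : θ f = 1 := by
    show aeval f (derivative (q f)) = 1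
    rw [← hwell X f (by simp), derivative_X, map_one]
  exact ⟨θ, fun z hz => hθL z (hLf.1.1 hz), hθf⟩

set_option maxHeartbeats 800000 in
/-- Clearing denominators of a derivation killing a good subring. -/
theorem exists_subalgebra_derivation (A K : Type u) [CommRing A] [IsDomain A] [IsNoetherianRing A] [Field K] [Algebra A K]
    [IsFractionRing A K] (A₁ : Subring A) [Module.Finite A₁ A] (M : Type u) [Field M] [Algebra A M] [FaithfulSMul A M]
    [Algebra K M] [IsScalarTower A K M] [FiniteDimensional K M] (θ : Derivation ℤ M M)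
    (hθA : ∀ a ∈ A₁, θ (algebraMap A M a) = 0) :
    ∃ (B : Subalgebra A M) (_ : Module.Finite A B) (D : Derivation ℤ B B) (e : A),
      e ≠ 0 ∧ IsLocalization (Algebra.algebraMapSubmonoid B (nonZeroDivisors A)) M ∧
      ∀ b : B, ((D b : B) : M) = algebraMap A M e * θ b := by
  classical
  let n := Module.finrank K M
  let b := Module.finBasis K M
  obtain ⟨m, g, hg⟩ := Module.Finite.exists_fin (R := A₁) (M := A)
  have hd : ∀ y : M, ∃ d : A, d ≠ 0 ∧ IsIntegral A (d • y) := fun y => by
    haveI : Algebra.IsAlgebraic A K := IsLocalization.isAlgebraic K (nonZeroDivisors A)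
    haveI : Algebra.IsAlgebraic K M := Algebra.IsAlgebraic.of_finite K M
    haveI : Algebra.IsAlgebraic A M := Algebra.IsAlgebraic.trans A K M
    obtain ⟨d, hd0, hd⟩ := (Algebra.IsAlgebraic.isAlgebraic (R := A) y).exists_integral_multiple
    exact ⟨d, hd0, hd⟩
  choose d hd0 hdint using hd
  let bs : Fin n → M := fun s => d (b s) • b s
  let B := Algebra.adjoin A (Set.range bs)
  haveI hBfin : Module.Finite A B := ⟨(Submodule.fg_top _).mpr (fg_adjoin_of_finite (Set.finite_range _)
    (by rintro _ ⟨s, rfl⟩; exact hdint _))⟩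
  have hinjA : ∀ a : A, algebraMap A M a = 0 → a = 0 := fun a h => FaithfulSMul.algebraMap_injective A M (by rw [h, map_zero])
  haveI hloc : IsLocalization (Algebra.algebraMapSubmonoid B (nonZeroDivisors A)) M :=
    { map_units := by
        rintro ⟨_, a, ha, rfl⟩
        exact isUnit_iff_ne_zero.mpr fun h => nonZeroDivisors.ne_zero ha (hinjA a h)
      surj := fun y => by
        have hy : ∃ a : A, a ≠ 0 ∧ algebraMap A M a * y ∈ B := by
          rw [← b.sum_repr y]
          induction (Finset.univ : Finset (Fin n)) using Finset.induction with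
          | empty => exact ⟨1, one_ne_zero, by simp⟩
          | @insert s t hst ih =>
            obtain ⟨a, ha0, ha⟩ := ih
            obtain ⟨u, v, hv, huv⟩ := IsFractionRing.div_surjective (A := A) (b.repr y s)
            have hv0 : algebraMap A M v ≠ 0 := fun h => nonZeroDivisors.ne_zero hv (hinjA v h)
            refine ⟨a * (v * d (b s)), mul_ne_zero ha0 (mul_ne_zero (nonZeroDivisors.ne_zero hv) (hd0 _)), ?_⟩
            rw [Finset.sum_insert hst, mul_add]
            refine B.add_mem ?_ ?_
            · have : algebraMap A M (a * (v * d (b s))) * (b.repr y s • b s) = algebraMap A M (a * u) * bs s := by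
                rw [← huv, Algebra.smul_def, map_div₀, ← IsScalarTower.algebraMap_apply, ← IsScalarTower.algebraMap_apply]
                simp only [bs, Algebra.smul_def, map_mul]
                field_simp
              rw [this]
              exact B.mul_mem (B.algebraMap_mem _) (Algebra.subset_adjoin ⟨s, rfl⟩)
            · rw [show a * (v * d (b s)) = (v * d (b s)) * a from mul_comm _ _, map_mul, mul_assoc]
              exact B.mul_mem (B.algebraMap_mem _) ha
        obtain ⟨a, ha0, ha⟩ := hy
        exact ⟨(⟨_, ha⟩, ⟨algebraMap A B a, a, mem_nonZeroDivisors_of_ne_zero ha0, rfl⟩), mul_comm _ _⟩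
      exists_of_eq := fun {x y} h => ⟨1, by rw [Subtype.coe_injective h]⟩ }
  -- clear denominators
  let G : Finset M := Finset.univ.image (fun j => algebraMap A M (g j)) ∪ Finset.univ.image bs
  obtain ⟨⟨_, e, he, rfl⟩, hGe⟩ := IsLocalization.exist_integer_multiples_of_finset (Algebra.algebraMapSubmonoid B (nonZeroDivisors A)) (G.image θ)
  let θ1 : Derivation ℤ M M := algebraMap A M e • θ
  let S : Subring M :=
    { carrier := {y | y ∈ B ∧ θ1 y ∈ B}
      mul_mem' := fun {x y} hx hy => ⟨B.mul_mem hx.1 hy.1, by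
        rw [Derivation.leibniz, smul_eq_mul, smul_eq_mul]
        exact B.add_mem (B.mul_mem hx.1 hy.2) (B.mul_mem hy.1 hx.2)⟩
      one_mem' := ⟨B.one_mem, by simp⟩
      add_mem' := fun {x y} hx hy => ⟨B.add_mem hx.1 hy.1, by rw [map_add]; exact B.add_mem hx.2 hy.2⟩
      zero_mem' := ⟨B.zero_mem, by simp⟩
      neg_mem' := fun {x} hx => ⟨B.neg_mem hx.1, by rw [map_neg]; exact B.neg_mem hx.2⟩ }
  have hGS : ∀ y ∈ G, y ∈ B → y ∈ S := fun y hy hyB => ⟨hyB, by
    obtain ⟨z, hz⟩ := hGe (θ y) (Finset.mem_image_of_mem _ hy)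
    show algebraMap A M e • θ y ∈ B
    rw [smul_eq_mul]
    exact (show ((z : B) : M) = algebraMap A M e * θ y from hz) ▸ z.2⟩
  have hAS : ∀ a : A, algebraMap A M a ∈ S := by
    intro a
    obtain ⟨l, hl⟩ := (Submodule.mem_span_range_iff_exists_fun A₁).mp (hg ▸ Submodule.mem_top (x := a))
    rw [← hl, map_sum]
    refine S.sum_mem fun j _ => ?_
    rw [show l j • g j = ((l j : A₁) : A) * g j from rfl, map_mul]
    refine S.mul_mem ⟨B.algebraMap_mem _, ?_⟩ (hGS _ (Finset.mem_union_left _ (Finset.mem_image_of_mem _ (Finset.mem_univ j))) (B.algebraMap_mem _))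
    show algebraMap A M e • θ _ ∈ B
    rw [hθA _ (l j).2, smul_zero]; exact B.zero_mem
  have hBS : ∀ y ∈ B, θ1 y ∈ B := fun y hy => by
    have : y ∈ S := by
      induction hy using Algebra.adjoin_induction with
      | mem z hz =>
        obtain ⟨s, rfl⟩ := hz
        exact hGS _ (Finset.mem_union_right _ (Finset.mem_image_of_mem _ (Finset.mem_univ s))) (Algebra.subset_adjoin ⟨s, rfl⟩)
      | algebraMap a => exact hAS a
      | add _ _ _ _ ha hb => exact S.add_mem ha hb
      | mul _ _ _ _ ha hb => exact S.mul_mem ha hb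
    exact this.2
  let D0 : B →ₗ[ℤ] B := (AddMonoidHom.mk' (fun y : B => (⟨θ1 y, hBS _ y.2⟩ : B)) fun x y => Subtype.ext (map_add θ1 _ _)).toIntLinearMap
  exact ⟨B, hBfin, Derivation.mk' D0 fun x y => Subtype.ext (Derivation.leibniz θ1 _ _), e,
    nonZeroDivisors.ne_zero he, hloc, fun _ => smul_eq_mul _ _⟩

set_option maxHeartbeats 400000 in
/-- A derivation nonzero on a given non `p`-th power, with bounded denominators on a finite subalgebra. -/
theorem exists_derivation_scaled (p : ℕ) [hp : Fact p.Prime] (A : Type u) [CommRing A] [IsDomain A] [IsNoetherianRing A]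
    [CharP A p] (hA : GoodFamily p A) (M : Type u) [Field M] [Algebra A M] [FaithfulSMul A M]
    [Algebra (FractionRing A) M] [IsScalarTower A (FractionRing A) M] [FiniteDimensional (FractionRing A) M]
    (f : M) (hf : ∀ g, g ^ p ≠ f) :
    ∃ (B : Subalgebra A M) (_ : Module.Finite A B) (D : Derivation ℤ B B) (θ : Derivation ℤ M M),
      IsLocalization (Algebra.algebraMapSubmonoid B (nonZeroDivisors A)) M ∧
      (∀ b : B, ((D b : B) : M) = θ b) ∧ θ f ≠ 0 := by
  obtain ⟨ι, A', hne, hgood, hdir, hint⟩ := hA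
  haveI : CharP M p := charP_of_injective_algebraMap (FaithfulSMul.algebraMap_injective A M) p
  let K := FractionRing A
  obtain ⟨hKpow, hMp, i, hi⟩ := exists_index_notMem_span p A K A' hne hgood hdir hint M (Module.finBasis K M) f hf
  let Ki := Subfield.closure ((algebraMap A K) '' (A' i : Set A))
  let S := Submodule.span Ki (Set.range fun s => Module.finBasis K M s ^ p)
  have hmul : ∀ x y, x ∈ S → y ∈ S → x * y ∈ S := by
    have hle : S * S ≤ S := by
      rw [Submodule.span_mul_span]
      refine Submodule.span_le.mpr ?_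
      rintro _ ⟨_, ⟨s, rfl⟩, _, ⟨t, rfl⟩, rfl⟩
      show Module.finBasis K M s ^ p * Module.finBasis K M t ^ p ∈ S
      rw [← mul_pow]; exact hMp i _
    exact fun x y hx hy => hle (Submodule.mul_mem_mul hx hy)
  let SA := S.toSubalgebra (by simpa using hMp i 1) hmul
  haveI : Algebra.IsIntegral Ki K :=
    ⟨fun c => IsIntegral.of_pow hp.out.pos (isIntegral_algebraMap (x := (⟨c ^ p, hKpow i c⟩ : Ki)))⟩
  haveI : Algebra.IsIntegral Ki M := Algebra.IsIntegral.trans K
  let L0 : IntermediateField Ki M := SA.toIntermediateField' (Subalgebra.isField_of_algebraic SA)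
  obtain ⟨θ, hθ, hθf⟩ := exists_derivation_kill p Ki M L0 (fun x => hMp i x) f hi
  haveI := (hgood i).2.1
  obtain ⟨B, hB, D, e, he, hloc, hD⟩ := exists_subalgebra_derivation A K (A' i) M θ fun a ha => hθ _ (by
    rw [IsScalarTower.algebraMap_apply A K M]
    exact L0.algebraMap_mem (⟨_, Subfield.subset_closure ⟨a, ha, rfl⟩⟩ : Ki))
  refine ⟨B, hB, D, algebraMap A M e • θ, hloc, fun b => (hD b).trans (smul_eq_mul _ _).symm, ?_⟩
  show algebraMap A M e • θ f ≠ 0
  rw [hθf, smul_eq_mul, mul_one]
  exact fun h => he (FaithfulSMul.algebraMap_injective A M (by rw [h, map_zero]))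

/-- One purely inseparable step. -/
theorem isRegularRing_tensor_pStep (p : ℕ) [hp : Fact p.Prime] (A C : Type u) [CommRing A] [IsDomain A] [IsNoetherianRing A]
    [CharP A p] (hA : GoodFamily p A) [CommRing C] [Algebra A C] (hext : ExtendsDer A C)
    (M N : Type u) [Field M] [Algebra A M] [FaithfulSMul A M]
    [Algebra (FractionRing A) M] [IsScalarTower A (FractionRing A) M] [FiniteDimensional (FractionRing A) M]
    [Field N] [Algebra A N] [Algebra M N] [IsScalarTower A M N] (x : N) (f : M) (hxf : x ^ p = algebraMap M N f)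
    (hf : ∀ g, g ^ p ≠ f) (hgen : ∀ y : N, y ∈ IntermediateField.adjoin M ({x} : Set N))
    [IsRegularRing (C ⊗[A] M)] : IsRegularRing (C ⊗[A] N) := by
  obtain ⟨B, hB, D, θ, hloc, hDθ, hθf⟩ := exists_derivation_scaled p A hA M f hf
  obtain ⟨D', hD'⟩ := hext B D
  letI : Algebra (C ⊗[A] B) (C ⊗[A] M) := (Algebra.TensorProduct.map (AlgHom.id A C) B.val).toAlgebra
  haveI : IsScalarTower C (C ⊗[A] B) (C ⊗[A] M) :=
    @IsScalarTower.of_algebraMap_eq C (C ⊗[A] B) (C ⊗[A] M) _ _ _ _ _ _ fun x => by
      show x ⊗ₜ[A] (1 : M) = Algebra.TensorProduct.map (AlgHom.id A C) B.val (x ⊗ₜ[A] (1 : B))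
      simp
  haveI := hloc
  haveI := IsLocalization.tensorProduct_tensorProduct_right A C (Algebra.algebraMapSubmonoid B (nonZeroDivisors A)) M
    (RingHom.ext fun x => by simp [RingHom.algebraMap_toAlgebra])
  obtain ⟨E, hE⟩ := exists_derivation_localization
    ((Algebra.algebraMapSubmonoid B (nonZeroDivisors A)).map (Algebra.TensorProduct.includeRight (R := A) (A := C)))
    (L := C ⊗[A] M) D'
  have hEb : ∀ b : B, E ((1 : C) ⊗ₜ[A] (b : M)) = (1 : C) ⊗ₜ[A] θ b := fun b => by
    have h := hE ((1 : C) ⊗ₜ[A] b)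
    have h2 := h.trans (congrArg (algebraMap (C ⊗[A] B) (C ⊗[A] M)) (hD' b))
    simpa [RingHom.algebraMap_toAlgebra, hDθ] using h2
  -- value at `f`
  obtain ⟨⟨b, ⟨_, a, ha, rfl⟩⟩, hab⟩ := IsLocalization.surj (Algebra.algebraMapSubmonoid B (nonZeroDivisors A)) f
  let ι : M →ₐ[A] C ⊗[A] M := Algebra.TensorProduct.includeRight
  have hab' : f * ((algebraMap A B a : B) : M) = ((b : B) : M) := hab
  have hu : IsUnit (ι ((algebraMap A B a : B) : M)) :=
    (IsLocalization.map_units M (⟨algebraMap A B a, a, ha, rfl⟩ : Algebra.algebraMapSubmonoid B (nonZeroDivisors A))).map ι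
  have hEf : E (ι f) = ι (θ f) := by
    have h1 : E (ι f * ι ((algebraMap A B a : B) : M)) = ι (θ (f * ((algebraMap A B a : B) : M))) := by
      rw [← map_mul ι, hab']; exact hEb b
    rw [Derivation.leibniz, Derivation.leibniz, smul_eq_mul, smul_eq_mul, smul_eq_mul, smul_eq_mul, map_add, map_mul, map_mul,
      show E (ι ((algebraMap A B a : B) : M)) = ι (θ ((algebraMap A B a : B) : M)) from hEb _, add_right_inj] at h1
    exact hu.mul_left_cancel h1
  have hDf : IsUnit (E (ι f)) := hEf ▸ (isUnit_iff_ne_zero.mpr hθf).map ι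
  haveI := isRegularRing_polynomial_quotient (C ⊗[A] M) (ι f) E hDf (X ^ p)
  let g : M[X] := X ^ p - Polynomial.C f
  haveI : Fact (Irreducible g) := ⟨X_pow_sub_C_irreducible_of_prime hp.out hf⟩
  have hx0 : g.eval₂ (Algebra.ofId M N : M →+* N) x = 0 := by simp [g, hxf]
  let ψ : AdjoinRoot g →ₐ[M] N := AdjoinRoot.liftAlgHom g (Algebra.ofId M N) x hx0
  have hψ : Function.Bijective ψ := ⟨ψ.toRingHom.injective, fun y => by
    have hle : IntermediateField.adjoin M ({x} : Set N) ≤ ψ.fieldRange :=
      IntermediateField.adjoin_simple_le_iff.mpr ⟨AdjoinRoot.root g, by simp [ψ]⟩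
    exact hle (hgen y)⟩
  let e := AdjoinRoot.tensorAlgEquiv (R := A) (T := C) g ((g.map (Algebra.TensorProduct.includeRight : M →ₐ[A] C ⊗[A] M).toRingHom)) rfl
  have hq : g.map (Algebra.TensorProduct.includeRight : M →ₐ[A] C ⊗[A] M).toRingHom =
      Polynomial.map (Int.castRingHom (C ⊗[A] M)) (X ^ p) - Polynomial.C (ι f) := by
    simp [g, ι]
  haveI : IsRegularRing (AdjoinRoot (g.map (Algebra.TensorProduct.includeRight : M →ₐ[A] C ⊗[A] M).toRingHom)) := by
    rw [hq]; assumption
  haveI : IsRegularRing (C ⊗[A] AdjoinRoot g) := IsRegularRing.of_ringEquiv e.toRingEquiv.symm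
  exact IsRegularRing.of_ringEquiv (R := C ⊗[A] AdjoinRoot g)
    (Algebra.TensorProduct.congr (AlgEquiv.refl (R := A) (A₁ := C)) ((AlgEquiv.ofBijective ψ hψ).restrictScalars A)).toRingEquiv

/-- The generic fibre of `A → C` is geometrically regular. -/
theorem isGeometricallyRegular_generic (p : ℕ) [hp : Fact p.Prime] (A C : Type u) [CommRing A] [IsDomain A] [IsNoetherianRing A]
    [CharP A p] (hA : GoodFamily p A) [CommRing C] [Algebra A C] (hext : ExtendsDer A C)
    [IsRegularRing (FractionRing A ⊗[A] C)] :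
    CAlg.IsGeometricallyRegular (FractionRing A) (FractionRing A ⊗[A] C) := by
  refine (isGeometricallyRegular_iff_purelyInseparable _ _).mpr fun K' _ _ _ _ => ?_
  let K := FractionRing A
  letI : Algebra A K' := ((algebraMap K K').comp (algebraMap A K)).toAlgebra
  haveI : IsScalarTower A K K' := IsScalarTower.of_algebraMap_eq fun _ => rfl
  haveI : FaithfulSMul A K' := (faithfulSMul_iff_algebraMap_injective A K').mpr
    ((algebraMap K K').injective.comp (IsFractionRing.injective A K))
  haveI : CharP K' p := charP_of_injective_algebraMap (FaithfulSMul.algebraMap_injective A K') p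
  haveI : CharP K p := charP_of_injective_algebraMap (IsFractionRing.injective A K) p
  suffices h : ∀ M : IntermediateField K K', IsRegularRing (C ⊗[A] M) by
    haveI := h ⊤
    haveI : IsRegularRing (C ⊗[A] K') := IsRegularRing.of_ringEquiv (R := C ⊗[A] (⊤ : IntermediateField K K'))
      (Algebra.TensorProduct.congr (AlgEquiv.refl (R := A) (A₁ := C)) (IntermediateField.topEquiv.restrictScalars A)).toRingEquiv
    haveI : IsRegularRing (K' ⊗[A] C) := IsRegularRing.of_ringEquiv (Algebra.TensorProduct.comm A C K').toRingEquiv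
    exact IsRegularRing.of_ringEquiv (Algebra.TensorProduct.cancelBaseChange A K K' K' C).toRingEquiv.symm
  intro M
  refine IntermediateField.induction_on_adjoin_fg (fun M => IsRegularRing (C ⊗[A] M)) ?_ ?_ M (IntermediateField.fg_of_fg_toSubalgebra M (Subalgebra.fg_of_fg_toSubmodule (IsNoetherian.noetherian _)))
  · haveI : IsRegularRing (C ⊗[A] K) := IsRegularRing.of_ringEquiv (Algebra.TensorProduct.comm A K C).toRingEquiv
    exact IsRegularRing.of_ringEquiv (R := C ⊗[A] K)
      (Algebra.TensorProduct.congr (AlgEquiv.refl (R := A) (A₁ := C)) ((IntermediateField.botEquiv K K').symm.restrictScalars A)).toRingEquiv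
  · intro M x hM
    obtain ⟨n, hn⟩ : ∃ n, x ^ p ^ n ∈ M := by
      obtain ⟨n, y, hy⟩ := IsPurelyInseparable.pow_mem K p x
      exact ⟨n, hy ▸ M.algebraMap_mem y⟩
    induction n generalizing x with
    | zero =>
      rw [pow_zero, pow_one] at hn
      have : (IntermediateField.adjoin M ({x} : Set K')).restrictScalars K = M :=
        le_antisymm (fun y hy => by
          have h2 : IntermediateField.adjoin M ({x} : Set K') = ⊥ := IntermediateField.adjoin_simple_eq_bot_iff.mpr
            (IntermediateField.mem_bot.mpr ⟨⟨x, hn⟩, rfl⟩)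
          rw [IntermediateField.mem_restrictScalars, h2, IntermediateField.mem_bot] at hy
          obtain ⟨z, rfl⟩ := hy
          exact z.2) fun y hy => (IntermediateField.adjoin M {x}).algebraMap_mem ⟨y, hy⟩
      rw [this]; exact hM
    | succ n ih =>
      have hxp : (x ^ p) ^ p ^ n ∈ M := by rw [← pow_mul, ← pow_succ']; exact hn
      have hM' := ih (x ^ p) hxp
      let M' := (IntermediateField.adjoin M ({x ^ p} : Set K')).restrictScalars K
      let N := (IntermediateField.adjoin M ({x} : Set K')).restrictScalars K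
      have hle : M' ≤ N := fun y hy => (IntermediateField.adjoin_simple_le_iff.mpr
        (pow_mem (IntermediateField.mem_adjoin_simple_self M x) p) : IntermediateField.adjoin M ({x ^ p} : Set K') ≤ _) hy
      have hxM' : x ^ p ∈ M' := IntermediateField.mem_adjoin_simple_self M _
      by_cases hx : x ∈ M'
      · have heq : N = M' := le_antisymm (fun y hy => (IntermediateField.adjoin_simple_le_iff.mpr hx :
          IntermediateField.adjoin M ({x} : Set K') ≤ IntermediateField.adjoin M ({x ^ p} : Set K')) hy) hle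
        show IsRegularRing (C ⊗[A] N)
        rw [heq]; exact hM'
      letI : Algebra M' N := (IntermediateField.inclusion hle).toRingHom.toAlgebra
      haveI : IsScalarTower A M' N := IsScalarTower.of_algebraMap_eq fun _ => rfl
      haveI : IsScalarTower M' N K' := IsScalarTower.of_algebraMap_eq fun _ => rfl
      haveI : FaithfulSMul A M' := (faithfulSMul_iff_algebraMap_injective A M').mpr fun a b h =>
        FaithfulSMul.algebraMap_injective A K' (congrArg Subtype.val h :)
      haveI : IsRegularRing (C ⊗[A] M') := hM'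
      refine isRegularRing_tensor_pStep p A C hA hext M' N ⟨x, IntermediateField.mem_adjoin_simple_self M x⟩ ⟨x ^ p, hxM'⟩ rfl ?_ ?_
      · intro g hg
        have h : (g : K') ^ p = x ^ p := congrArg Subtype.val hg
        rw [← frobenius_def, ← frobenius_def] at h
        exact hx ((frobenius K' p).injective h ▸ g.2)
      · intro y
        have hsub : N ≤ ((IntermediateField.adjoin M' ({(⟨x, IntermediateField.mem_adjoin_simple_self M x⟩ : N)} : Set N)).map
            (IsScalarTower.toAlgHom M' N K')).restrictScalars K := by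
          intro z hz
          rw [IntermediateField.mem_restrictScalars, IntermediateField.adjoin_map, Set.image_singleton]
          have : IntermediateField.adjoin M ({x} : Set K') ≤ ({ (IntermediateField.adjoin M' ({x} : Set K')).toSubfield with
              algebraMap_mem' := fun m => (IntermediateField.adjoin M' {x}).algebraMap_mem ⟨m, (IntermediateField.adjoin M {x ^ p}).algebraMap_mem m⟩ } : IntermediateField M K') :=
            IntermediateField.adjoin_simple_le_iff.mpr (IntermediateField.mem_adjoin_simple_self M' x)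
          exact this hz
        obtain ⟨w, hw, hwy⟩ := hsub y.2
        rwa [← (IsScalarTower.toAlgHom M' N K').injective (hwy : _ = IsScalarTower.toAlgHom M' N K' y)]

end Groth.Agent.CAlgH
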