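import Mathlib
import Groth.Agent.CAlgH.GRingBasic
import Groth.Agent.CAlgH.CompletionDerivation
import Groth.Agent.CAlgH.GenericFibre
import Groth.Agent.CAlgH.CompleteLocal
import Groth.Agent.CAlgH.NagataComplete
import Groth.Agent.S19474

/-! Generic formal fibres of regular domains. -/
universe u
open IsLocalRing TensorProduct

namespace Groth.Agent.CAlgH

theorem isRegularLocalRing_cpl (A : Type u) [CommRing A] [IsRegularLocalRing A] :
    IsRegularLocalRing (EGA4.Cpl A) :=
  (Groth.Agent.S19474.result A _ (maximalIdeal.isMaximal A).ne_top).2.mp inferInstance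

/-- Derivations of finite algebras extend to the completion of a localisation. -/
theorem exists_derivation_cpl_localization (A AP : Type u) [CommRing A] [CommRing AP] [Algebra A AP] [IsLocalRing AP]
    [IsNoetherianRing AP] (M : Submonoid A) [IsLocalization M AP] (B : Type u) [CommRing B] [Algebra A B]
    [Module.Finite A B] (D : Derivation ℤ B B) :
    ∃ D' : Derivation ℤ (EGA4.Cpl AP ⊗[A] B) (EGA4.Cpl AP ⊗[A] B),
      ∀ b, D' ((1 : EGA4.Cpl AP) ⊗ₜ[A] b) = (1 : EGA4.Cpl AP) ⊗ₜ[A] D b := by
  letI : Algebra B (AP ⊗[A] B) := Algebra.TensorProduct.rightAlgebra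
  obtain ⟨E, hE⟩ := exists_derivation_localization (Algebra.algebraMapSubmonoid B M) (L := AP ⊗[A] B) D
  obtain ⟨D1, hD1⟩ := exists_derivation_completion AP (AP ⊗[A] B) E
  let e := (Algebra.TensorProduct.cancelBaseChange A AP (EGA4.Cpl AP) (EGA4.Cpl AP) B).toRingEquiv
  let D2 := (AddMonoidHom.mk' (fun y => e (D1 (e.symm y))) fun a b => by simp).toIntLinearMap
  refine ⟨Derivation.mk' D2 fun a b => ?_, fun b => ?_⟩
  · show e (D1 (e.symm (a * b))) = a • e (D1 (e.symm b)) + b • e (D1 (e.symm a))
    rw [map_mul, Derivation.leibniz, smul_eq_mul, smul_eq_mul, smul_eq_mul, smul_eq_mul, map_add, map_mul, map_mul,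
      RingEquiv.apply_symm_apply, RingEquiv.apply_symm_apply]
  · show e (D1 (e.symm ((1 : EGA4.Cpl AP) ⊗ₜ[A] b))) = _
    have h : e.symm ((1 : EGA4.Cpl AP) ⊗ₜ[A] b) = (1 : EGA4.Cpl AP) ⊗ₜ[AP] ((1 : AP) ⊗ₜ[A] b) := rfl
    have hb : ((1 : AP) ⊗ₜ[A] b) = algebraMap B (AP ⊗[A] B) b := rfl
    rw [h, hD1, hb, hE]
    show Algebra.TensorProduct.cancelBaseChange A AP (EGA4.Cpl AP) (EGA4.Cpl AP) B ((1 : EGA4.Cpl AP) ⊗ₜ[AP] ((1 : AP) ⊗ₜ[A] D b)) = _
    rw [Algebra.TensorProduct.cancelBaseChange_tmul, one_smul]

/-- The generic fibre over a localisation, from the generic fibre over the base. -/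
theorem isGeometricallyRegular_bot_fibre (A AP C : Type u) [CommRing A] [IsDomain A] [CommRing AP] [IsDomain AP]
    [Algebra A AP] (M : Submonoid A) [IsLocalization M AP] [CommRing C] [Algebra A C] [Algebra AP C]
    [IsScalarTower A AP C] (hinj : Function.Injective (algebraMap A AP))
    (hgeo : CAlg.IsGeometricallyRegular (FractionRing A) (FractionRing A ⊗[A] C)) :
    CAlg.IsGeometricallyRegular (⊥ : Ideal AP).ResidueField ((⊥ : Ideal AP).Fiber C) := by
  intro L _ _ _
  let k := (⊥ : Ideal AP).ResidueField
  letI : Algebra AP L := ((algebraMap k L).comp (algebraMap AP k)).toAlgebra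
  haveI : IsScalarTower AP k L := IsScalarTower.of_algebraMap_eq fun _ => rfl
  letI : Algebra A L := ((algebraMap AP L).comp (algebraMap A AP)).toAlgebra
  haveI : IsScalarTower A AP L := IsScalarTower.of_algebraMap_eq fun _ => rfl
  have hk : Function.Injective (algebraMap AP k) :=
    (RingHom.injective_iff_ker_eq_bot _).mpr (Ideal.ker_algebraMap_residueField _)
  have hL : Function.Injective (algebraMap A L) := fun x y h =>
    hinj (hk ((algebraMap k L).injective h))
  haveI : Algebra.EssFiniteType A AP := Algebra.EssFiniteType.of_isLocalization AP M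
  haveI : Algebra.EssFiniteType AP L := Algebra.EssFiniteType.comp AP k L
  haveI : Algebra.EssFiniteType A L := Algebra.EssFiniteType.comp A AP L
  haveI : FaithfulSMul A L := (faithfulSMul_iff_algebraMap_injective A L).mpr hL
  letI : Algebra (FractionRing A) L := FractionRing.liftAlgebra A L
  haveI : Algebra.EssFiniteType (FractionRing A) L := Algebra.EssFiniteType.of_comp A _ _
  haveI := isRegularRing_fg_ext (FractionRing A) L (FractionRing A ⊗[A] C) hgeo
  haveI : IsRegularRing (L ⊗[A] C) :=
    IsRegularRing.of_ringEquiv (Algebra.TensorProduct.cancelBaseChange A (FractionRing A) L L C).toRingEquiv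
  haveI : IsRegularRing (L ⊗[AP] C) :=
    IsRegularRing.of_ringEquiv (IsLocalization.algebraTensorEquiv M AP L C).toRingEquiv.symm
  exact IsRegularRing.of_ringEquiv (R := L ⊗[AP] C)
    (Algebra.TensorProduct.cancelBaseChange AP k L L C).toRingEquiv.symm

theorem isRegularRing_fractionRing_tensor_of_regular (A C : Type u) [CommRing A] [IsDomain A] [CommRing C] [Algebra A C]
    [IsRegularRing C] : IsRegularRing (FractionRing A ⊗[A] C) := by
  letI : Algebra C (FractionRing A ⊗[A] C) := Algebra.TensorProduct.rightAlgebra
  exact isRegularRing_localization (Algebra.algebraMapSubmonoid C (nonZeroDivisors A)) _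

theorem isGeometricallyRegular_of_perfectField (K F : Type u) [Field K] [PerfectField K] [CommRing F] [Algebra K F]
    [IsRegularRing F] : CAlg.IsGeometricallyRegular K F := fun L _ _ h =>
  haveI := h
  haveI : Algebra.IsSeparable K L := inferInstance
  isRegularRing_separable_baseChange K L F

/-- Characteristic zero, or a good family of subrings in characteristic `p`. -/
def GoodBase (A : Type u) [CommRing A] : Prop :=
  CharZero A ∨ ∃ p : ℕ, p.Prime ∧ CharP A p ∧ GoodFamily p A

/-- The generic formal fibres of a regular domain with a good base are geometrically regular. -/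
theorem formalFibre_bot_regular (A : Type u) [CommRing A] [IsDomain A] [IsRegularRing A] (hA : GoodBase A)
    (P : Ideal A) [P.IsPrime] :
    CAlg.IsGeometricallyRegular (⊥ : Ideal (Localization.AtPrime P)).ResidueField
      (EGA4.formalFibre (Localization.AtPrime P) (⊥ : Ideal (Localization.AtPrime P))) := by
  let AP := Localization.AtPrime P
  haveI : IsDomain AP := IsLocalization.isDomain_localization P.primeCompl_le_nonZeroDivisors
  haveI : IsRegularLocalRing AP := IsRegularRing.isRegularLocalRing_localization P
  let C := EGA4.Cpl AP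
  haveI : IsRegularLocalRing C := isRegularLocalRing_cpl AP
  haveI : IsRegularRing C := CAlgH3.isRegularRing_of_isRegularLocalRing
  haveI := isRegularRing_fractionRing_tensor_of_regular A C
  refine isGeometricallyRegular_bot_fibre A AP C P.primeCompl
    (IsLocalization.injective AP P.primeCompl_le_nonZeroDivisors) ?_
  rcases hA with hA | ⟨p, hp, hpA, hA⟩
  · haveI : CharZero (FractionRing A) :=
      charZero_of_injective_algebraMap (IsFractionRing.injective A (FractionRing A))
    exact isGeometricallyRegular_of_perfectField _ _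
  · haveI := Fact.mk hp
    exact isGeometricallyRegular_generic p A C hA fun B _ _ _ _ D =>
      exists_derivation_cpl_localization A AP P.primeCompl B D

theorem formalFibre_of_eq {A : Type u} [CommRing A] [IsLocalRing A] {Q Q' : Ideal A} [Q.IsPrime] [Q'.IsPrime] (e : Q = Q')
    (h : CAlg.IsGeometricallyRegular Q.ResidueField (EGA4.formalFibre A Q)) :
    CAlg.IsGeometricallyRegular Q'.ResidueField (EGA4.formalFibre A Q') := by
  subst e; exact h

/-- Generic formal fibres along a finite extension of domains. -/
theorem formalFibre_bot_finite (R₀ R : Type u) [CommRing R₀] [IsDomain R₀] [IsNoetherianRing R₀] [CommRing R] [IsDomain R]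
    [Algebra R₀ R] [FaithfulSMul R₀ R] [Module.Finite R₀ R] (P : Ideal R) [P.IsPrime]
    (h : CAlg.IsGeometricallyRegular (⊥ : Ideal (Localization.AtPrime (P.comap (algebraMap R₀ R)))).ResidueField
      (EGA4.formalFibre (Localization.AtPrime (P.comap (algebraMap R₀ R)))
        (⊥ : Ideal (Localization.AtPrime (P.comap (algebraMap R₀ R)))))) :
    CAlg.IsGeometricallyRegular (⊥ : Ideal (Localization.AtPrime P)).ResidueField
      (EGA4.formalFibre (Localization.AtPrime P) (⊥ : Ideal (Localization.AtPrime P))) := by
  let P₀ := P.comap (algebraMap R₀ R)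
  let A := Localization.AtPrime P₀
  let M := Algebra.algebraMapSubmonoid R P₀.primeCompl
  let B := Localization M
  haveI : IsNoetherianRing R := Algebra.FiniteType.isNoetherianRing R₀ R
  haveI : IsNoetherianRing A := IsLocalization.isNoetherianRing P₀.primeCompl _ inferInstance
  haveI : Module.Finite A B := Module.Finite.of_isLocalization R₀ R P₀.primeCompl
  have hdisj : Disjoint (M : Set R) (P : Set R) := by
    rw [Set.disjoint_left]
    rintro _ ⟨x, hx, rfl⟩ hxP
    exact hx hxP
  let n := P.map (algebraMap R B)
  haveI : n.IsPrime := IsLocalization.isPrime_of_isPrime_disjoint M B P inferInstance hdisj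
  have hnP : n.comap (algebraMap R B) = P := IsLocalization.comap_map_of_isPrime_disjoint M B inferInstance hdisj
  haveI : n.IsMaximal := by
    haveI : Algebra.IsIntegral A B := Algebra.IsIntegral.of_finite A B
    refine Ideal.isMaximal_of_isIntegral_of_isMaximal_comap (R := A) n ?_
    rw [show n.comap (algebraMap A B) = maximalIdeal A from ?_]
    · exact maximalIdeal.isMaximal A
    · haveI : (n.comap (algebraMap A B)).IsPrime := Ideal.IsPrime.comap _
      refine le_antisymm (IsLocalRing.le_maximalIdeal (Ideal.IsPrime.ne_top inferInstance)) ?_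
      rw [← Localization.AtPrime.map_eq_maximalIdeal, Ideal.map_le_iff_le_comap, Ideal.comap_comap,
        ← IsScalarTower.algebraMap_eq, IsScalarTower.algebraMap_eq R₀ R B, ← Ideal.comap_comap, hnP]
  haveI : IsLocalization.AtPrime (Localization.AtPrime n) P := by
    have h1 := IsLocalization.isLocalization_isLocalization_atPrime_isLocalization M (Localization.AtPrime n) n
    have hcongr : ∀ (Q : Ideal R) [Q.IsPrime], Q = P → IsLocalization.AtPrime (Localization.AtPrime n) Q →
        IsLocalization.AtPrime (Localization.AtPrime n) P := fun Q _ hQ hl => by subst hQ; exact hl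
    exact hcongr _ hnP h1
  let e := IsLocalization.algEquiv P.primeCompl (Localization.AtPrime n) (Localization.AtPrime P)
  haveI : IsDomain (Localization.AtPrime P) := IsLocalization.isDomain_localization P.primeCompl_le_nonZeroDivisors
  haveI : IsDomain (Localization.AtPrime n) := e.toRingEquiv.toMulEquiv.isDomain
  have hinj : Function.Injective (algebraMap A (Localization.AtPrime n)) := by
    rw [injective_iff_map_eq_zero]
    intro x hx
    obtain ⟨a, s, rfl⟩ := IsLocalization.exists_mk'_eq P₀.primeCompl x
    have h2 : algebraMap R₀ (Localization.AtPrime n) a = 0 := by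
      rw [IsScalarTower.algebraMap_apply R₀ A (Localization.AtPrime n), ← IsLocalization.mk'_spec A a s, map_mul, hx, zero_mul]
    rw [IsScalarTower.algebraMap_apply R₀ R (Localization.AtPrime n),
      map_eq_zero_iff _ (IsLocalization.injective (Localization.AtPrime n) P.primeCompl_le_nonZeroDivisors),
      map_eq_zero_iff _ (FaithfulSMul.algebraMap_injective R₀ R)] at h2
    rw [h2, IsLocalization.mk'_zero]
  have h3 := isGeometricallyRegular_formalFibre_finite A B n (⊥ : Ideal (Localization.AtPrime n)) ⊥
    (Ideal.comap_bot_of_injective _ hinj) h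
  exact (isGeometricallyRegular_formalFibre_surjective e.toRingEquiv.toRingHom e.surjective ⊥).mp
    (formalFibre_of_eq (Ideal.comap_bot_of_injective _ e.injective).symm h3)

theorem isCohenRing_charZero {Λ : Type u} [CommRing Λ] (h : CAlg.IsCohenRing Λ) : CharZero Λ := by
  obtain ⟨_, _, -, p, hp, hm⟩ := h
  obtain ⟨q, hq⟩ := CharP.exists Λ
  rcases CharP.char_is_prime_or_zero Λ q with hq' | rfl
  · exfalso
    have hpm : (p : Λ) ∈ maximalIdeal Λ := by rw [hm]; exact Ideal.mem_span_singleton_self _
    by_cases hpq : p = q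
    · refine IsDiscreteValuationRing.not_a_field Λ ?_
      rw [hm, hpq, CharP.cast_eq_zero, Ideal.span_singleton_eq_bot]
    · obtain ⟨a, b, hab⟩ := Int.isCoprime_iff_gcd_eq_one.mpr
        (by exact_mod_cast (Nat.coprime_primes hp hq').mpr hpq : Int.gcd (p : ℤ) (q : ℤ) = 1)
      have h1 := congrArg (Int.cast : ℤ → Λ) hab
      simp only [Int.cast_add, Int.cast_mul, Int.cast_natCast, Int.cast_one, CharP.cast_eq_zero, mul_zero, add_zero] at h1
      exact (maximalIdeal.isMaximal Λ).ne_top ((Ideal.eq_top_iff_one _).mpr (h1 ▸ Ideal.mul_mem_left _ _ hpm))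
  · exact CharP.charP_to_charZero Λ

theorem goodBase_mvPowerSeries {Λ : Type u} [CommRing Λ] (h : IsField Λ ∨ CAlg.IsCohenRing Λ) (n : ℕ) :
    GoodBase (MvPowerSeries (Fin n) Λ) := by
  have hcz : CharZero Λ → GoodBase (MvPowerSeries (Fin n) Λ) := fun _ =>
    Or.inl (charZero_of_injective_ringHom (f := MvPowerSeries.C (σ := Fin n) (R := Λ)) MvPowerSeries.C_injective)
  rcases h with h | h
  · letI := h.toField
    obtain ⟨p, hp⟩ := CharP.exists Λ
    rcases CharP.char_is_prime_or_zero Λ p with hp' | rfl
    · haveI := Fact.mk hp'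
      exact Or.inr ⟨p, hp', charP_of_injective_ringHom (f := MvPowerSeries.C (σ := Fin n) (R := Λ)) MvPowerSeries.C_injective p,
        goodFamily_mvPowerSeries p (σ := Fin n) (goodFamily_field p Λ)⟩
    · exact hcz (CharP.charP_to_charZero Λ)
  · exact hcz (isCohenRing_charZero h)

/-- The generic formal fibres of a complete local domain are geometrically regular. -/
theorem formalFibre_bot_complete (R : Type u) [CommRing R] [IsDomain R] [IsLocalRing R] [IsNoetherianRing R]
    [IsAdicComplete (maximalIdeal R) R] (P : Ideal R) [P.IsPrime] :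
    CAlg.IsGeometricallyRegular (⊥ : Ideal (Localization.AtPrime P)).ResidueField
      (EGA4.formalFibre (Localization.AtPrime P) (⊥ : Ideal (Localization.AtPrime P))) := by
  obtain ⟨Λ, _, n, f, hreg, hcase, hinj, hfin, -⟩ := exists_finite_injective_mvPowerSeries R
  haveI : IsRegularLocalRing (MvPowerSeries (Fin n) Λ) := (isRegularLocalRing_mvPowerSeries Λ n).1
  haveI : IsRegularRing (MvPowerSeries (Fin n) Λ) := CAlgH3.isRegularRing_of_isRegularLocalRing
  letI := f.toAlgebra
  haveI : Module.Finite (MvPowerSeries (Fin n) Λ) R := hfin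
  haveI : FaithfulSMul (MvPowerSeries (Fin n) Λ) R := (faithfulSMul_iff_algebraMap_injective _ _).mpr hinj
  haveI : IsDomain (MvPowerSeries (Fin n) Λ) := hinj.isDomain f
  exact formalFibre_bot_finite (MvPowerSeries (Fin n) Λ) R P (formalFibre_bot_regular _ (goodBase_mvPowerSeries hcase n) _)

theorem isGRing_complete (R : Type u) [CommRing R] [IsLocalRing R] [IsNoetherianRing R]
    [IsAdicComplete (maximalIdeal R) R] : CAlg.IsGRing R :=
  (isGRing_iff_generic R).mpr fun q _ P _ => by
    haveI := Ideal.Quotient.nontrivial_iff.mpr (Ideal.IsPrime.ne_top (inferInstance : q.IsPrime))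
    haveI : IsLocalRing (R ⧸ q) := IsLocalRing.of_surjective' (Ideal.Quotient.mk q) Ideal.Quotient.mk_surjective
    haveI := isAdicComplete_quotient q
    exact formalFibre_bot_complete (R ⧸ q) P

end Groth.Agent.CAlgH
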