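import Mathlib
import Groth.Agent.CAlgH.GRingRegular
import Groth.Agent.CAlgH.JacobianRegular
import Groth.Agent.CAlgH.RegularBase

/-! Formal fibres of polynomial rings in one variable. -/
universe u
open IsLocalRing TensorProduct Polynomial

namespace Groth.Agent.CAlgH

theorem exists_derivation_cpl (A : Type u) [CommRing A] [IsLocalRing A] [IsNoetherianRing A] (D : Derivation ℤ A A) :
    ∃ D' : Derivation ℤ (EGA4.Cpl A) (EGA4.Cpl A), ∀ a, D' (algebraMap A _ a) = algebraMap A _ (D a) := by
  haveI : IsLocalHom (algebraMap A (EGA4.Cpl A)) := by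
    refine ⟨fun a ha => ?_⟩
    by_contra h
    have h' := Ideal.mem_map_of_mem (algebraMap A (EGA4.Cpl A)) ((mem_maximalIdeal a).mpr h)
    rw [← AdicCompletion.maximalIdeal_eq_map] at h'
    exact (mem_maximalIdeal _).mp h' ha
  exact exists_derivation_of_quotients (maximalIdeal A) (maximalIdeal (EGA4.Cpl A)) (algebraMap A _)
    (comap_pow_eq_of_flat _ (RingHom.flat_algebraMap_iff.mpr inferInstance) AdicCompletion.maximalIdeal_eq_map.symm)
    (exists_sub_mem_pow _ AdicCompletion.maximalIdeal_eq_map.symm (exists_sub_algebraMap_mem A)) D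

/-- A derivation extends coefficientwise to polynomials. -/
theorem exists_derivation_polynomial {B : Type u} [CommRing B] (D : Derivation ℤ B B) :
    ∃ D' : Derivation ℤ B[X] B[X], (∀ b, D' (C b) = C (D b)) ∧ D' X = 0 := by
  let φ : B →+* DualNumber B[X] :=
    { toFun := fun b => TrivSqZeroExt.inl (C b) + TrivSqZeroExt.inr (C (D b))
      map_one' := by simp
      map_zero' := by simp
      map_add' := fun a b => by
        ext : 1
        · simp
        · simp only [TrivSqZeroExt.snd_add, TrivSqZeroExt.snd_inl, TrivSqZeroExt.snd_inr, map_add, zero_add]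
      map_mul' := fun a b => by
        ext : 1
        · simp
        · simp only [DualNumber.snd_mul, TrivSqZeroExt.snd_add, TrivSqZeroExt.snd_inl, TrivSqZeroExt.snd_inr,
            TrivSqZeroExt.fst_add, TrivSqZeroExt.fst_inl, TrivSqZeroExt.fst_inr, Derivation.leibniz, map_add, map_mul,
            smul_eq_mul, zero_add, add_zero]
          ring }
  let Φ : B[X] →+* DualNumber B[X] := eval₂RingHom φ (TrivSqZeroExt.inl X)
  have hC : ∀ b, Φ (C b) = φ b := fun b => eval₂_C _ _
  have hX : Φ X = TrivSqZeroExt.inl X := eval₂_X _ _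
  have hfst : ∀ x, (Φ x).fst = x := fun x =>
    DFunLike.congr_fun (Polynomial.ringHom_ext (f := ((TrivSqZeroExt.fstHom B[X] B[X] B[X]).toRingHom).comp Φ)
      (g := RingHom.id B[X]) (fun b => by simp [hC, φ]) (by simp [hX])) x
  let T : B[X] →ₗ[ℤ] B[X] := (AddMonoidHom.mk' (fun x => (Φ x).snd) fun a b => by simp).toIntLinearMap
  refine ⟨Derivation.mk' T fun a b => ?_, fun b => ?_, ?_⟩
  · show (Φ (a * b)).snd = a • (Φ b).snd + b • (Φ a).snd
    rw [map_mul, DualNumber.snd_mul, hfst, hfst, smul_eq_mul, smul_eq_mul]; ring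
  · show (Φ (C b)).snd = _
    simp only [hC, φ, RingHom.coe_mk, MonoidHom.coe_mk, OneHom.coe_mk, TrivSqZeroExt.snd_add, TrivSqZeroExt.snd_inl,
      TrivSqZeroExt.snd_inr, zero_add]
  · show (Φ X).snd = _
    rw [hX, TrivSqZeroExt.snd_inl]

theorem exists_derivation_conj {R S : Type u} [CommRing R] [CommRing S] (e : R ≃+* S) (D : Derivation ℤ R R) :
    ∃ D' : Derivation ℤ S S, ∀ r, D' (e r) = e (D r) := by
  let T := (AddMonoidHom.mk' (fun y => e (D (e.symm y))) fun a b => by simp).toIntLinearMap
  refine ⟨Derivation.mk' T fun a b => ?_, fun r => ?_⟩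
  · show e (D (e.symm (a * b))) = a • e (D (e.symm b)) + b • e (D (e.symm a))
    rw [map_mul, Derivation.leibniz, smul_eq_mul, smul_eq_mul, smul_eq_mul, smul_eq_mul, map_add, map_mul, map_mul,
      RingEquiv.apply_symm_apply, RingEquiv.apply_symm_apply]
  · show e (D (e.symm (e r))) = _
    rw [RingEquiv.symm_apply_apply]

/-- Derivations of finite algebras over the base extend to completions of localised polynomial rings. -/
theorem extendsDer_cpl_polynomial (R₀ AP : Type u) [CommRing R₀] [CommRing AP] [Algebra R₀ AP] [Algebra R₀[X] AP]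
    [IsScalarTower R₀ R₀[X] AP] [IsLocalRing AP] [IsNoetherianRing AP] (M : Submonoid R₀[X]) [IsLocalization M AP] :
    ExtendsDer R₀ (EGA4.Cpl AP) := by
  intro B _ _ _ _ D
  obtain ⟨D₁, hD₁, -⟩ := exists_derivation_polynomial D
  let e : B[X] ≃+* R₀[X] ⊗[R₀] B :=
    ((polyEquivTensor R₀ B).trans (Algebra.TensorProduct.comm R₀ B R₀[X])).toRingEquiv
  have he : ∀ b, e (C b) = (1 : R₀[X]) ⊗ₜ[R₀] b := fun b => by
    show Algebra.TensorProduct.comm R₀ B R₀[X] (polyEquivTensor R₀ B (C b)) = _
    rw [polyEquivTensor_apply, eval₂_C]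
    rfl
  obtain ⟨D₂, hD₂⟩ := exists_derivation_conj e D₁
  obtain ⟨D₃, hD₃⟩ := exists_derivation_cpl_localization R₀[X] AP M (R₀[X] ⊗[R₀] B) D₂
  let f := (Algebra.TensorProduct.cancelBaseChange R₀ R₀[X] (EGA4.Cpl AP) (EGA4.Cpl AP) B).toRingEquiv
  obtain ⟨D₄, hD₄⟩ := exists_derivation_conj f D₃
  have hf : ∀ b, f ((1 : EGA4.Cpl AP) ⊗ₜ[R₀[X]] ((1 : R₀[X]) ⊗ₜ[R₀] b)) = (1 : EGA4.Cpl AP) ⊗ₜ[R₀] b := fun b => by
    show Algebra.TensorProduct.cancelBaseChange R₀ R₀[X] (EGA4.Cpl AP) (EGA4.Cpl AP) B _ = _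
    rw [Algebra.TensorProduct.cancelBaseChange_tmul, one_smul]
  refine ⟨D₄, fun b => ?_⟩
  exact (congrArg D₄ (hf b).symm).trans ((hD₄ _).trans ((congrArg f ((hD₃ _).trans (congrArg _
    ((congrArg D₂ (he b).symm).trans ((hD₂ _).trans ((congrArg e (hD₁ b)).trans (he _))))))).trans (hf _)))

/-- Specialising the variable keeps a base change regular, by the derivation `d/dX`. -/
theorem isRegularRing_tensor_polynomial (R₀ S L : Type u) [CommRing R₀] [CommRing S] [CommRing L] [Algebra R₀ S]
    [Algebra R₀[X] S] [IsScalarTower R₀ R₀[X] S] [Algebra R₀ L] [Algebra R₀[X] L] [IsScalarTower R₀ R₀[X] L]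
    (D : Derivation R₀ S S) (hD : D (algebraMap R₀[X] S X) = 1) [IsRegularRing (L ⊗[R₀] S)] :
    IsRegularRing (L ⊗[R₀[X]] S) := by
  let t : (L ⊗[R₀] S) := algebraMap R₀[X] L X ⊗ₜ[R₀] (1 : S) - (1 : L) ⊗ₜ[R₀] algebraMap R₀[X] S X
  let T := (D.toLinearMap.lTensor L)
  have hT : ∀ l s, T (l ⊗ₜ[R₀] s) = l ⊗ₜ[R₀] D s := fun _ _ => rfl
  have hleib : ∀ a b : (L ⊗[R₀] S), T (a * b) = a * T b + b * T a := by
    intro a b
    induction a using TensorProduct.induction_on with
    | zero => simp
    | add a a' ha ha' => simp only [add_mul, map_add, mul_add, ha, ha']; ring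
    | tmul l s =>
      induction b using TensorProduct.induction_on with
      | zero => simp
      | add b b' hb hb' => simp only [mul_add, map_add, add_mul, hb, hb']; ring
      | tmul l' s' =>
        rw [Algebra.TensorProduct.tmul_mul_tmul, hT, hT, hT, Algebra.TensorProduct.tmul_mul_tmul,
          Algebra.TensorProduct.tmul_mul_tmul, Derivation.leibniz, smul_eq_mul, smul_eq_mul, tmul_add]
        rw [mul_comm l' l]
  let T' : (L ⊗[R₀] S) →ₗ[ℤ] (L ⊗[R₀] S) := T.toAddMonoidHom.toIntLinearMap
  let D' := Derivation.mk' T' fun a b => hleib a b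
  have hDt : D' t = -1 := by
    show T t = _
    rw [map_sub, hT, hT, Derivation.map_one_eq_zero, tmul_zero, hD, zero_sub]
    rfl
  haveI := isRegularRing_quotient_of_derivation (L ⊗[R₀] S) t D' ((congrArg (fun z => IsUnit (Ideal.Quotient.mk (Ideal.span ({t} : Set (L ⊗[R₀] S))) z)) hDt).mpr ((isUnit_one.neg).map _))
  let Q := (L ⊗[R₀] S) ⧸ Ideal.span ({t} : Set (L ⊗[R₀] S))
  let π := Ideal.Quotient.mkₐ R₀ (Ideal.span ({t} : Set (L ⊗[R₀] S)))
  let iL : L →ₐ[R₀] Q := π.comp Algebra.TensorProduct.includeLeft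
  let iS : S →ₐ[R₀] Q := π.comp Algebra.TensorProduct.includeRight
  have hagree : iS.toRingHom.comp (algebraMap R₀[X] S) = algebraMap R₀[X] Q := by
    refine Polynomial.ringHom_ext (fun r => ?_) ?_
    · show iS (algebraMap R₀[X] S (C r)) = iL (algebraMap R₀[X] L (C r))
      rw [show (C r : R₀[X]) = algebraMap R₀ R₀[X] r from rfl, ← IsScalarTower.algebraMap_apply,
        ← IsScalarTower.algebraMap_apply, AlgHom.commutes, AlgHom.commutes]
    · show iS (algebraMap R₀[X] S X) = iL (algebraMap R₀[X] L X)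
      exact Eq.symm (Ideal.Quotient.eq.mpr (Ideal.mem_span_singleton_self t))
  let χ : L ⊗[R₀[X]] S →ₐ[R₀[X]] Q := Algebra.TensorProduct.lift (R := R₀[X]) (S := R₀[X])
    { iL.toRingHom with commutes' := fun _ => rfl }
    { iS.toRingHom with commutes' := fun a => RingHom.congr_fun hagree a } fun _ _ => Commute.all _ _
  let ψ : (L ⊗[R₀] S) →ₐ[R₀] L ⊗[R₀[X]] S := Algebra.TensorProduct.mapOfCompatibleSMul R₀[X] R₀ R₀ L S
  have hψ : ∀ l s, ψ (l ⊗ₜ[R₀] s) = l ⊗ₜ[R₀[X]] s := fun _ _ => rfl
  have hψt : ψ t = 0 := by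
    rw [map_sub, hψ, hψ, sub_eq_zero, Algebra.algebraMap_eq_smul_one, smul_tmul, ← Algebra.algebraMap_eq_smul_one]
  let ψ' : Q →+* L ⊗[R₀[X]] S := Ideal.Quotient.lift _ ψ.toRingHom fun a ha => by
    obtain ⟨c, rfl⟩ := Ideal.mem_span_singleton'.mp ha
    show ψ (c * t) = 0
    rw [map_mul, hψt, mul_zero]
  have h1 : ∀ w : (L ⊗[R₀] S), χ (ψ w) = π w := by
    intro w
    induction w using TensorProduct.induction_on with
    | zero => simp
    | add a b ha hb => simp [ha, hb]
    | tmul l s =>
      rw [hψ, Algebra.TensorProduct.lift_tmul]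
      show π (l ⊗ₜ[R₀] (1 : S)) * π ((1 : L) ⊗ₜ[R₀] s) = _
      rw [← map_mul, Algebra.TensorProduct.tmul_mul_tmul, mul_one, one_mul]
  have hbij : Function.Bijective ψ' := by
    refine ⟨fun a b hab => ?_, fun y => ?_⟩
    · obtain ⟨a, rfl⟩ := Ideal.Quotient.mk_surjective a
      obtain ⟨b, rfl⟩ := Ideal.Quotient.mk_surjective b
      have h := congrArg χ hab
      exact (h1 a).symm.trans (h.trans (h1 b))
    · obtain ⟨w, rfl⟩ := Algebra.TensorProduct.mapOfCompatibleSMul_surjective R₀[X] R₀ R₀ L S y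
      exact ⟨π w, rfl⟩
  exact IsRegularRing.of_ringEquiv (R := Q) (RingEquiv.ofBijective ψ' hbij)

theorem isGeometricallyRegular_generic_goodBase (A C : Type u) [CommRing A] [IsDomain A] [IsNoetherianRing A]
    (hA : GoodBase A) [CommRing C] [Algebra A C] [IsRegularRing C] (hext : ExtendsDer A C) :
    CAlg.IsGeometricallyRegular (FractionRing A) (FractionRing A ⊗[A] C) := by
  haveI := isRegularRing_fractionRing_tensor_of_regular A C
  rcases hA with hA | ⟨p, hp, hpA, hA⟩
  · haveI : CharZero (FractionRing A) :=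
      charZero_of_injective_algebraMap (IsFractionRing.injective A (FractionRing A))
    exact isGeometricallyRegular_of_perfectField _ _
  · haveI := Fact.mk hp
    exact isGeometricallyRegular_generic p A C hA hext

theorem exists_derivation_cpl_X (R₀ AP : Type u) [CommRing R₀] [CommRing AP] [Algebra R₀ AP] [Algebra R₀[X] AP]
    [IsScalarTower R₀ R₀[X] AP] [IsLocalRing AP] [IsNoetherianRing AP] (M : Submonoid R₀[X]) [IsLocalization M AP] :
    ∃ D : Derivation R₀ (EGA4.Cpl AP) (EGA4.Cpl AP), D (algebraMap R₀[X] (EGA4.Cpl AP) X) = 1 := by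
  obtain ⟨E, hE⟩ := exists_derivation_localization M (L := AP)
    ((Polynomial.derivative' (R := R₀)).restrictScalars ℤ)
  obtain ⟨F, hF⟩ := exists_derivation_cpl AP E
  have h : ∀ a : R₀[X], F (algebraMap R₀[X] (EGA4.Cpl AP) a) = algebraMap R₀[X] (EGA4.Cpl AP) (derivative a) := fun a => by
    rw [IsScalarTower.algebraMap_apply R₀[X] AP (EGA4.Cpl AP), hF, hE, ← IsScalarTower.algebraMap_apply]
    rfl
  let T : EGA4.Cpl AP →ₗ[R₀] EGA4.Cpl AP :=
    { toFun := F
      map_add' := map_add F
      map_smul' := fun r y => by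
        rw [Algebra.smul_def, Derivation.leibniz, IsScalarTower.algebraMap_apply R₀ R₀[X] (EGA4.Cpl AP), h,
          show derivative (algebraMap R₀ R₀[X] r) = 0 from derivative_C, map_zero, smul_zero, add_zero, smul_eq_mul,
          RingHom.id_apply, Algebra.smul_def, IsScalarTower.algebraMap_apply R₀ R₀[X] (EGA4.Cpl AP)] }
  refine ⟨Derivation.mk' T fun a b => F.leibniz a b, ?_⟩
  show F _ = 1
  rw [h, derivative_X, map_one]

/-- A fibre of a localised polynomial ring over the generic point, from the generic fibre below. -/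
theorem isGeometricallyRegular_poly_fibre (R₀ AQ S : Type u) [CommRing R₀] [IsDomain R₀] [CommRing AQ] [Algebra R₀ AQ]
    [Algebra R₀[X] AQ] [IsScalarTower R₀ R₀[X] AQ] (M : Submonoid R₀[X]) [IsLocalization M AQ] [CommRing S] [Algebra R₀ S]
    [Algebra R₀[X] S] [IsScalarTower R₀ R₀[X] S] [Algebra AQ S] [IsScalarTower R₀[X] AQ S] (Q : Ideal AQ) [Q.IsPrime]
    (hQ : Q.comap (algebraMap R₀ AQ) = ⊥) (D : Derivation R₀ S S) (hD : D (algebraMap R₀[X] S X) = 1)
    (hgeo : CAlg.IsGeometricallyRegular (FractionRing R₀) (FractionRing R₀ ⊗[R₀] S)) :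
    CAlg.IsGeometricallyRegular Q.ResidueField (Q.Fiber S) := by
  intro L _ _ _
  let k := Q.ResidueField
  letI : Algebra AQ L := ((algebraMap k L).comp (algebraMap AQ k)).toAlgebra
  haveI : IsScalarTower AQ k L := IsScalarTower.of_algebraMap_eq fun _ => rfl
  letI : Algebra R₀[X] L := ((algebraMap AQ L).comp (algebraMap R₀[X] AQ)).toAlgebra
  haveI : IsScalarTower R₀[X] AQ L := IsScalarTower.of_algebraMap_eq fun _ => rfl
  letI : Algebra R₀ L := ((algebraMap R₀[X] L).comp (algebraMap R₀ R₀[X])).toAlgebra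
  haveI : IsScalarTower R₀ R₀[X] L := IsScalarTower.of_algebraMap_eq fun _ => rfl
  haveI : Algebra.EssFiniteType R₀[X] AQ := Algebra.EssFiniteType.of_isLocalization AQ M
  haveI : Algebra.EssFiniteType AQ L := Algebra.EssFiniteType.comp AQ k L
  haveI : Algebra.EssFiniteType R₀[X] L := Algebra.EssFiniteType.comp R₀[X] AQ L
  haveI : Algebra.EssFiniteType R₀ L := Algebra.EssFiniteType.comp R₀ R₀[X] L
  have hL : Function.Injective (algebraMap R₀ L) := by
    rw [injective_iff_map_eq_zero]
    intro r hr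
    have h1 : algebraMap AQ k (algebraMap R₀ AQ r) = 0 := by
      refine (algebraMap k L).injective ?_
      rw [map_zero, ← hr, IsScalarTower.algebraMap_apply R₀ R₀[X] AQ]
      rfl
    rw [← RingHom.mem_ker, Ideal.ker_algebraMap_residueField, ← Ideal.mem_comap, hQ, Ideal.mem_bot] at h1
    exact h1
  haveI : FaithfulSMul R₀ L := (faithfulSMul_iff_algebraMap_injective R₀ L).mpr hL
  letI : Algebra (FractionRing R₀) L := FractionRing.liftAlgebra R₀ L
  haveI : Algebra.EssFiniteType (FractionRing R₀) L := Algebra.EssFiniteType.of_comp R₀ _ _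
  haveI := isRegularRing_fg_ext (FractionRing R₀) L (FractionRing R₀ ⊗[R₀] S) hgeo
  haveI : IsRegularRing (L ⊗[R₀] S) :=
    IsRegularRing.of_ringEquiv (Algebra.TensorProduct.cancelBaseChange R₀ (FractionRing R₀) L L S).toRingEquiv
  haveI := isRegularRing_tensor_polynomial R₀ S L D hD
  haveI : IsRegularRing (L ⊗[AQ] S) :=
    IsRegularRing.of_ringEquiv (IsLocalization.algebraTensorEquiv M AQ L S).toRingEquiv.symm
  exact IsRegularRing.of_ringEquiv (R := L ⊗[AQ] S)
    (Algebra.TensorProduct.cancelBaseChange AQ k L L S).toRingEquiv.symm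

/-- Formal fibres of `R₀[X]` over the generic point of a regular domain with good base. -/
theorem formalFibre_poly_regular (R₀ : Type u) [CommRing R₀] [IsDomain R₀] [IsRegularRing R₀] (hR : GoodBase R₀)
    (q : Ideal R₀[X]) [q.IsPrime] (Q : Ideal (Localization.AtPrime q)) [Q.IsPrime]
    (hQ : Q.comap (algebraMap R₀ (Localization.AtPrime q)) = ⊥) :
    CAlg.IsGeometricallyRegular Q.ResidueField (EGA4.formalFibre (Localization.AtPrime q) Q) := by
  let AQ := Localization.AtPrime q
  let Ch := EGA4.Cpl AQ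
  haveI : IsRegularLocalRing AQ := IsRegularRing.isRegularLocalRing_localization q
  haveI : IsRegularLocalRing Ch := isRegularLocalRing_cpl AQ
  haveI : IsRegularRing Ch := CAlgH3.isRegularRing_of_isRegularLocalRing
  obtain ⟨D, hD⟩ := exists_derivation_cpl_X R₀ AQ q.primeCompl
  exact isGeometricallyRegular_poly_fibre R₀ AQ Ch q.primeCompl Q hQ D hD
    (isGeometricallyRegular_generic_goodBase R₀ Ch hR (extendsDer_cpl_polynomial R₀ AQ q.primeCompl))

/-- Formal fibres of local rings along a finite extension. -/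
theorem formalFibre_localization_finite (R₁ R₂ : Type u) [CommRing R₁] [IsNoetherianRing R₁] [CommRing R₂]
    [Algebra R₁ R₂] [Module.Finite R₁ R₂] (P : Ideal R₂) [P.IsPrime] (Q : Ideal (Localization.AtPrime P)) [Q.IsPrime]
    (h : CAlg.IsGeometricallyRegular
      (Q.comap (Localization.localRingHom (P.comap (algebraMap R₁ R₂)) P (algebraMap R₁ R₂) rfl)).ResidueField
      (EGA4.formalFibre (Localization.AtPrime (P.comap (algebraMap R₁ R₂)))
        (Q.comap (Localization.localRingHom (P.comap (algebraMap R₁ R₂)) P (algebraMap R₁ R₂) rfl)))) :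
    CAlg.IsGeometricallyRegular Q.ResidueField (EGA4.formalFibre (Localization.AtPrime P) Q) := by
  let P₀ := P.comap (algebraMap R₁ R₂)
  let A := Localization.AtPrime P₀
  let M := Algebra.algebraMapSubmonoid R₂ P₀.primeCompl
  let B := Localization M
  haveI : IsNoetherianRing R₂ := Algebra.FiniteType.isNoetherianRing R₁ R₂
  haveI : IsNoetherianRing A := IsLocalization.isNoetherianRing P₀.primeCompl _ inferInstance
  haveI : Module.Finite A B := Module.Finite.of_isLocalization R₁ R₂ P₀.primeCompl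
  have hdisj : Disjoint (M : Set R₂) (P : Set R₂) := by
    rw [Set.disjoint_left]
    rintro _ ⟨x, hx, rfl⟩ hxP
    exact hx hxP
  let n := P.map (algebraMap R₂ B)
  haveI : n.IsPrime := IsLocalization.isPrime_of_isPrime_disjoint M B P inferInstance hdisj
  have hnP : n.comap (algebraMap R₂ B) = P := IsLocalization.comap_map_of_isPrime_disjoint M B inferInstance hdisj
  haveI : n.IsMaximal := by
    haveI : Algebra.IsIntegral A B := Algebra.IsIntegral.of_finite A B
    refine Ideal.isMaximal_of_isIntegral_of_isMaximal_comap (R := A) n ?_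
    rw [show n.comap (algebraMap A B) = maximalIdeal A from ?_]
    · exact maximalIdeal.isMaximal A
    · haveI : (n.comap (algebraMap A B)).IsPrime := Ideal.IsPrime.comap _
      refine le_antisymm (IsLocalRing.le_maximalIdeal (Ideal.IsPrime.ne_top inferInstance)) ?_
      rw [← Localization.AtPrime.map_eq_maximalIdeal, Ideal.map_le_iff_le_comap, Ideal.comap_comap,
        ← IsScalarTower.algebraMap_eq, IsScalarTower.algebraMap_eq R₁ R₂ B, ← Ideal.comap_comap, hnP]
  haveI : IsLocalization.AtPrime (Localization.AtPrime n) P := by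
    have h1 := IsLocalization.isLocalization_isLocalization_atPrime_isLocalization M (Localization.AtPrime n) n
    have hcongr : ∀ (I : Ideal R₂) [I.IsPrime], I = P → IsLocalization.AtPrime (Localization.AtPrime n) I →
        IsLocalization.AtPrime (Localization.AtPrime n) P := fun I _ hI hl => by subst hI; exact hl
    exact hcongr _ hnP h1
  let e := IsLocalization.algEquiv P.primeCompl (Localization.AtPrime n) (Localization.AtPrime P)
  have hcomp : e.toRingEquiv.toRingHom.comp (algebraMap A (Localization.AtPrime n)) =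
      Localization.localRingHom P₀ P (algebraMap R₁ R₂) rfl := by
    refine IsLocalization.ringHom_ext P₀.primeCompl (RingHom.ext fun x => ?_)
    rw [RingHom.comp_apply, RingHom.comp_apply, RingHom.comp_apply, Localization.localRingHom_to_map,
      ← IsScalarTower.algebraMap_apply, IsScalarTower.algebraMap_apply R₁ R₂ (Localization.AtPrime n)]
    exact e.commutes _
  haveI : (Q.comap e.toRingEquiv.toRingHom).IsPrime := Ideal.IsPrime.comap _
  have hQ : (Q.comap e.toRingEquiv.toRingHom).comap (algebraMap A (Localization.AtPrime n)) =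
      Q.comap (Localization.localRingHom P₀ P (algebraMap R₁ R₂) rfl) := by rw [Ideal.comap_comap, hcomp]
  have h3 := isGeometricallyRegular_formalFibre_finite A B n (Q.comap e.toRingEquiv.toRingHom) _ hQ h
  exact (isGeometricallyRegular_formalFibre_surjective e.toRingEquiv.toRingHom e.surjective Q).mp h3

attribute [local instance] Polynomial.algebra in
theorem finite_polynomial (R S : Type u) [CommRing R] [CommRing S] [Algebra R S] [Module.Finite R S] :
    Module.Finite R[X] S[X] :=
  Module.Finite.equiv (Algebra.IsPushout.out (R := R) (S := R[X]) (R' := S) (S' := S[X])).equiv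

attribute [local instance] Polynomial.algebra in
/-- Formal fibres of `R[X]` over the generic point of a complete local domain. -/
theorem formalFibre_poly_complete_domain (R : Type u) [CommRing R] [IsDomain R] [IsLocalRing R] [IsNoetherianRing R]
    [IsAdicComplete (maximalIdeal R) R] (q : Ideal R[X]) [q.IsPrime] (Q : Ideal (Localization.AtPrime q)) [Q.IsPrime]
    (hQ : Q.comap (algebraMap R (Localization.AtPrime q)) = ⊥) :
    CAlg.IsGeometricallyRegular Q.ResidueField (EGA4.formalFibre (Localization.AtPrime q) Q) := by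
  obtain ⟨Λ, _, n, f, hreg, hcase, hinj, hfin, -⟩ := exists_finite_injective_mvPowerSeries R
  haveI : IsRegularLocalRing (MvPowerSeries (Fin n) Λ) := (isRegularLocalRing_mvPowerSeries Λ n).1
  haveI : IsRegularRing (MvPowerSeries (Fin n) Λ) := CAlgH3.isRegularRing_of_isRegularLocalRing
  letI := f.toAlgebra
  haveI : Module.Finite (MvPowerSeries (Fin n) Λ) R := hfin
  haveI : IsDomain (MvPowerSeries (Fin n) Λ) := hinj.isDomain f
  haveI := finite_polynomial (MvPowerSeries (Fin n) Λ) R
  haveI : IsNoetherianRing (MvPowerSeries (Fin n) Λ) := inferInstance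
  refine formalFibre_localization_finite (MvPowerSeries (Fin n) Λ)[X] R[X] q Q
    (formalFibre_poly_regular _ (goodBase_mvPowerSeries hcase n) _ _ ?_)
  rw [Ideal.comap_comap]
  have h : (Localization.localRingHom (q.comap (algebraMap (MvPowerSeries (Fin n) Λ)[X] R[X])) q
      (algebraMap (MvPowerSeries (Fin n) Λ)[X] R[X]) rfl).comp (algebraMap (MvPowerSeries (Fin n) Λ) _) =
      (algebraMap R (Localization.AtPrime q)).comp f := RingHom.ext fun x => by
    rw [RingHom.comp_apply, RingHom.comp_apply,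
      IsScalarTower.algebraMap_apply (MvPowerSeries (Fin n) Λ) (MvPowerSeries (Fin n) Λ)[X],
      Localization.localRingHom_to_map, IsScalarTower.algebraMap_apply R R[X] (Localization.AtPrime q)]
    exact congrArg _ (Polynomial.map_C (algebraMap (MvPowerSeries (Fin n) Λ) R))
  rw [h, ← Ideal.comap_comap, hQ]
  exact Ideal.comap_bot_of_injective f hinj

theorem formalFibre_of_surjective {A A' : Type u} [CommRing A] [IsLocalRing A] [IsNoetherianRing A] [CommRing A']
    [IsLocalRing A'] (π : A →+* A') (hπ : Function.Surjective π) (Q : Ideal A) [Q.IsPrime] (Q' : Ideal A') [Q'.IsPrime]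
    (hQ : Q'.comap π = Q) (h : CAlg.IsGeometricallyRegular Q'.ResidueField (EGA4.formalFibre A' Q')) :
    CAlg.IsGeometricallyRegular Q.ResidueField (EGA4.formalFibre A Q) := by
  subst hQ
  exact (isGeometricallyRegular_formalFibre_surjective π hπ Q').mpr h

/-- All formal fibres of `R[X]` for a complete local ring `R`. -/
theorem formalFibre_poly_complete (R : Type u) [CommRing R] [IsLocalRing R] [IsNoetherianRing R]
    [IsAdicComplete (maximalIdeal R) R] (q : Ideal R[X]) [q.IsPrime] (Q : Ideal (Localization.AtPrime q)) [Q.IsPrime] :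
    CAlg.IsGeometricallyRegular Q.ResidueField (EGA4.formalFibre (Localization.AtPrime q) Q) := by
  let A := Localization.AtPrime q
  let p₀ := Q.comap (algebraMap R A)
  haveI : p₀.IsPrime := Ideal.IsPrime.comap _
  haveI := Ideal.Quotient.nontrivial_iff.mpr (Ideal.IsPrime.ne_top (inferInstance : p₀.IsPrime))
  haveI : IsLocalRing (R ⧸ p₀) := IsLocalRing.of_surjective' (Ideal.Quotient.mk p₀) Ideal.Quotient.mk_surjective
  haveI := isAdicComplete_quotient p₀
  let π : R[X] →+* (R ⧸ p₀)[X] := Polynomial.mapRingHom (Ideal.Quotient.mk p₀)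
  have hπ : Function.Surjective π := Polynomial.map_surjective _ Ideal.Quotient.mk_surjective
  have hker : ∀ g ∈ RingHom.ker π, algebraMap R[X] A g ∈ Q := by
    intro g hg
    have hcoeff : ∀ i, g.coeff i ∈ p₀ := fun i => by
      rw [RingHom.mem_ker] at hg
      exact Ideal.Quotient.eq_zero_iff_mem.mp ((Polynomial.coeff_map _ i).symm.trans (by
        rw [show g.map (Ideal.Quotient.mk p₀) = 0 from hg, coeff_zero]))
    rw [g.as_sum_range_C_mul_X_pow, map_sum]
    refine Q.sum_mem fun i _ => ?_
    rw [map_mul, ← Polynomial.algebraMap_eq, ← IsScalarTower.algebraMap_apply]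
    exact Q.mul_mem_right _ (hcoeff i)
  have hQq : Q.comap (algebraMap R[X] A) ≤ q := fun x hx => by
    by_contra hxq
    exact Ideal.IsPrime.ne_top inferInstance
      (Ideal.eq_top_of_isUnit_mem Q hx (IsLocalization.map_units A (⟨x, hxq⟩ : q.primeCompl)))
  let P := q.map π
  have hle : RingHom.ker π ≤ q := fun g hg => hQq (hker g hg)
  haveI : P.IsPrime := Ideal.map_isPrime_of_surjective hπ hle
  have hP : q = P.comap π := by
    rw [Ideal.comap_map_of_surjective _ hπ, ← RingHom.ker_eq_comap_bot, sup_eq_left.mpr hle]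
  let π' := Localization.localRingHom q P π hP
  have hπ' : Function.Surjective π' := fun y => by
    obtain ⟨a, ⟨s, hs⟩, rfl⟩ := IsLocalization.exists_mk'_eq P.primeCompl y
    obtain ⟨a, rfl⟩ := hπ a
    obtain ⟨s, rfl⟩ := hπ s
    exact ⟨IsLocalization.mk' A a (⟨s, fun hsp => hs (Ideal.mem_map_of_mem _ hsp)⟩ : q.primeCompl),
      Localization.localRingHom_mk' ..⟩
  have hker' : RingHom.ker π' ≤ Q := fun x hx => by
    obtain ⟨a, ⟨s, hs⟩, rfl⟩ := IsLocalization.exists_mk'_eq q.primeCompl x
    rw [RingHom.mem_ker, Localization.localRingHom_mk', IsLocalization.mk'_eq_zero_iff] at hx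
    obtain ⟨⟨t, ht⟩, hta⟩ := hx
    obtain ⟨t, rfl⟩ := hπ t
    rw [← map_mul, ← RingHom.mem_ker] at hta
    have h := hker _ hta
    rw [map_mul] at h
    have htq : t ∉ q := fun h' => ht (Ideal.mem_map_of_mem _ h')
    have hu : algebraMap R[X] A t ∉ Q := fun h' => htq (hQq h')
    have ha := (Ideal.IsPrime.mem_or_mem inferInstance h).resolve_left hu
    rw [IsLocalization.mk'_eq_mul_mk'_one]
    exact Q.mul_mem_right _ ha
  haveI : (Q.map π').IsPrime := Ideal.map_isPrime_of_surjective hπ' hker'
  have hQ' : (Q.map π').comap π' = Q := by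
    rw [Ideal.comap_map_of_surjective _ hπ', ← RingHom.ker_eq_comap_bot, sup_eq_left.mpr hker']
  have hbot : (Q.map π').comap (algebraMap (R ⧸ p₀) (Localization.AtPrime P)) = ⊥ := by
    refine eq_bot_iff.mpr fun x hx => ?_
    obtain ⟨x, rfl⟩ := Ideal.Quotient.mk_surjective x
    have h : algebraMap (R ⧸ p₀) (Localization.AtPrime P) (Ideal.Quotient.mk p₀ x) = π' (algebraMap R A x) := by
      rw [IsScalarTower.algebraMap_apply R R[X] A, Localization.localRingHom_to_map,
        IsScalarTower.algebraMap_apply (R ⧸ p₀) (R ⧸ p₀)[X] (Localization.AtPrime P)]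
      exact congrArg _ (Polynomial.map_C (Ideal.Quotient.mk p₀)).symm
    rw [Ideal.mem_comap, h, ← Ideal.mem_comap, hQ'] at hx
    exact Ideal.Quotient.eq_zero_iff_mem.mpr hx
  haveI : IsNoetherianRing A := IsLocalization.isNoetherianRing q.primeCompl _ inferInstance
  have h1 := formalFibre_poly_complete_domain (R ⧸ p₀) P (Q.map π') hbot
  exact formalFibre_of_surjective π' hπ' Q _ hQ' h1

theorem isGRing_polynomial_complete (R : Type u) [CommRing R] [IsLocalRing R] [IsNoetherianRing R]
    [IsAdicComplete (maximalIdeal R) R] : CAlg.IsGRing R[X] :=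
  by
  refine ⟨inferInstance, fun q hq => ?_⟩
  haveI : IsNoetherianRing (Localization.AtPrime q) := IsLocalization.isNoetherianRing q.primeCompl _ inferInstance
  exact isRegularHom_cpl_of_fibres _ fun Q _ => formalFibre_poly_complete R q Q

end Groth.Agent.CAlgH
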