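import Mathlib
import Groth.Agent.CAlgH.GRingPoly

/-! Algebras of finite type over G-rings are G-rings. -/
universe u
open IsLocalRing TensorProduct Polynomial

namespace Groth.Agent.CAlgH

theorem isNoetherianRing_fiber (A C : Type u) [CommRing A] [CommRing C] [Algebra A C] [IsNoetherianRing C] (p : Ideal A)
    [p.IsPrime] : IsNoetherianRing (p.Fiber C) :=
  haveI : IsNoetherianRing (C ⊗[A] p.ResidueField) := Algebra.EssFiniteType.isNoetherianRing C _
  isNoetherianRing_of_ringEquiv _ (Algebra.TensorProduct.comm A C p.ResidueField).toRingEquiv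

theorem isLocalHom_algebraMap_cpl (A : Type u) [CommRing A] [IsLocalRing A] [IsNoetherianRing A] :
    IsLocalHom (algebraMap A (EGA4.Cpl A)) := by
  refine ⟨fun a ha => ?_⟩
  by_contra h
  have h' := Ideal.mem_map_of_mem (algebraMap A (EGA4.Cpl A)) ((mem_maximalIdeal a).mpr h)
  rw [← AdicCompletion.maximalIdeal_eq_map] at h'
  exact (mem_maximalIdeal _).mp h' ha

/-- A regular map with the same completions passes regularity of the completion map down. -/
theorem isRegularHom_cpl_of_regular_local (A B : Type u) [CommRing A] [IsLocalRing A] [IsNoetherianRing A] [CommRing B]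
    [IsLocalRing B] [IsNoetherianRing B] [Algebra A B] [IsLocalHom (algebraMap A B)] (h : CAlg.IsRegularHom A B)
    (hmap : (maximalIdeal A).map (algebraMap A B) = maximalIdeal B)
    (hres : ∀ y : B, ∃ a, y - algebraMap A B a ∈ maximalIdeal B) (hB : CAlg.IsRegularHom B (EGA4.Cpl B)) :
    CAlg.IsRegularHom A (EGA4.Cpl A) := by
  haveI := h.1
  haveI : IsNoetherianRing (EGA4.Cpl B) := Groth.Agent.Matlis6.isNoetherianRing_adicCompletion _
  haveI := isLocalHom_algebraMap_cpl B
  have hAC := isRegularHom_comp_of_noetherian_fibres A B (EGA4.Cpl B) h hB fun p _ => isNoetherianRing_fiber A _ p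
  haveI : IsLocalHom (algebraMap A (EGA4.Cpl B)) :=
    IsScalarTower.algebraMap_eq A B (EGA4.Cpl B) ▸ RingHom.isLocalHom_comp (algebraMap B (EGA4.Cpl B)) (algebraMap A B)
  have hm : (maximalIdeal A).map (algebraMap A (EGA4.Cpl B)) = maximalIdeal (EGA4.Cpl B) := by
    rw [AdicCompletion.maximalIdeal_eq_map, IsScalarTower.algebraMap_eq A B (EGA4.Cpl B), ← Ideal.map_map, hmap]
  have hr : ∀ y : EGA4.Cpl B, ∃ a, y - algebraMap A (EGA4.Cpl B) a ∈ maximalIdeal (EGA4.Cpl B) := fun y => by
    obtain ⟨b, hb⟩ := exists_sub_algebraMap_mem B y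
    obtain ⟨a, ha⟩ := hres b
    refine ⟨a, ?_⟩
    have h2 := Ideal.mem_map_of_mem (algebraMap B (EGA4.Cpl B)) ha
    rw [← AdicCompletion.maximalIdeal_eq_map, map_sub, ← IsScalarTower.algebraMap_apply] at h2
    convert add_mem hb h2 using 1
    ring
  obtain ⟨e, he⟩ := completion_equiv_of_quotients (maximalIdeal A) (maximalIdeal (EGA4.Cpl B)) (algebraMap A _)
    (comap_pow_eq_of_flat _ (RingHom.flat_algebraMap_iff.mpr hAC.1) hm) (exists_sub_mem_pow _ hm hr)
  let g : EGA4.Cpl A →ₐ[A] EGA4.Cpl B := { e.toRingHom with commutes' := he }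
  exact isRegularHom_of_algEquiv (AlgEquiv.ofBijective g e.bijective).symm hAC

/-- Descent of a regular completion map along a regular map of rings. -/
theorem isRegularHom_cpl_localization_descent (R S : Type u) [CommRing R] [IsNoetherianRing R] [CommRing S]
    [IsNoetherianRing S] [Algebra R S] (h : CAlg.IsRegularHom R S) (Q : Ideal S) [Q.IsPrime]
    (hmap : (Q.comap (algebraMap R S)).map (algebraMap R S) = Q) (hres : ∀ x, ∃ r, x - algebraMap R S r ∈ Q)
    (hS : CAlg.IsRegularHom (Localization.AtPrime Q) (EGA4.Cpl (Localization.AtPrime Q))) :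
    CAlg.IsRegularHom (Localization.AtPrime (Q.comap (algebraMap R S)))
      (EGA4.Cpl (Localization.AtPrime (Q.comap (algebraMap R S)))) := by
  let q := Q.comap (algebraMap R S)
  let φ := Localization.localRingHom q Q (algebraMap R S) rfl
  letI := φ.toAlgebra
  haveI : IsNoetherianRing (Localization.AtPrime q) := IsLocalization.isNoetherianRing q.primeCompl _ inferInstance
  haveI : IsNoetherianRing (Localization.AtPrime Q) := IsLocalization.isNoetherianRing Q.primeCompl _ inferInstance
  haveI : IsLocalHom (algebraMap (Localization.AtPrime q) (Localization.AtPrime Q)) :=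
    Localization.isLocalHom_localRingHom q Q _ rfl
  have hreg := (isRegularHom_iff_localRingHom R S).1 h Q
  refine isRegularHom_cpl_of_regular_local (Localization.AtPrime q) (Localization.AtPrime Q) hreg ?_ ?_ hS
  · rw [← Localization.AtPrime.map_eq_maximalIdeal, ← Localization.AtPrime.map_eq_maximalIdeal, Ideal.map_map]
    have hc : φ.comp (algebraMap R (Localization.AtPrime q)) = (algebraMap S (Localization.AtPrime Q)).comp (algebraMap R S) :=
      RingHom.ext fun x => Localization.localRingHom_to_map q Q _ rfl x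
    show q.map (φ.comp (algebraMap R (Localization.AtPrime q))) = _
    rw [hc, ← Ideal.map_map]
    exact congrArg _ hmap
  · intro y
    obtain ⟨a, ⟨s, hs⟩, rfl⟩ := IsLocalization.exists_mk'_eq Q.primeCompl y
    obtain ⟨a1, ha⟩ := hres a
    obtain ⟨s1, hs1⟩ := hres s
    have hs1q : s1 ∉ q := fun h1 => hs (by
      show s ∈ Q
      simpa using add_mem hs1 (h1 : algebraMap R S s1 ∈ Q))
    refine ⟨IsLocalization.mk' (Localization.AtPrime q) a1 (⟨s1, hs1q⟩ : q.primeCompl), ?_⟩
    show _ - φ _ ∈ _
    rw [Localization.localRingHom_mk', ← IsLocalization.mk'_sub, IsLocalization.AtPrime.mk'_mem_maximal_iff (Localization.AtPrime Q) Q]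
    show a * algebraMap R S s1 - algebraMap R S a1 * s ∈ Q
    rw [show a * algebraMap R S s1 - algebraMap R S a1 * s =
      (a - algebraMap R S a1) * algebraMap R S s1 - algebraMap R S a1 * (s - algebraMap R S s1) by ring]
    exact sub_mem (Q.mul_mem_right _ ha) (Q.mul_mem_left _ hs1)

attribute [local instance] Polynomial.algebra in
/-- Polynomial rings over a local ring with regular completion map. -/
theorem isRegularHom_cpl_polynomial_local (R : Type u) [CommRing R] [IsLocalRing R] [IsNoetherianRing R]
    (hR : CAlg.IsRegularHom R (EGA4.Cpl R)) (q : Ideal R[X]) [q.IsPrime] (hq : q.comap C = maximalIdeal R) :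
    CAlg.IsRegularHom (Localization.AtPrime q) (EGA4.Cpl (Localization.AtPrime q)) := by
  haveI : IsNoetherianRing (EGA4.Cpl R) := Groth.Agent.Matlis6.isNoetherianRing_adicCompletion _
  let κ := R ⧸ maximalIdeal R
  let ev : EGA4.Cpl R →ₐ[R] κ := AdicCompletion.evalOneₐ (maximalIdeal R)
  let ρ : R[X] →+* κ[X] := mapRingHom (Ideal.Quotient.mk (maximalIdeal R))
  let ρ' : (EGA4.Cpl R)[X] →+* κ[X] := mapRingHom ev.toRingHom
  let φ := algebraMap R[X] (EGA4.Cpl R)[X]
  have hρφ : ∀ g, ρ' (φ g) = ρ g := fun g => by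
    show (g.map (algebraMap R (EGA4.Cpl R))).map ev.toRingHom = g.map (Ideal.Quotient.mk _)
    rw [Polynomial.map_map]
    exact congrArg (fun f => g.map f) ev.comp_algebraMap
  have hρ : Function.Surjective ρ := Polynomial.map_surjective _ Ideal.Quotient.mk_surjective
  have hmq : (maximalIdeal R).map C ≤ q := Ideal.map_le_iff_le_comap.mpr hq.ge
  have hle : RingHom.ker ρ ≤ q := by
    show RingHom.ker (mapRingHom (Ideal.Quotient.mk (maximalIdeal R))) ≤ q
    rw [Polynomial.ker_mapRingHom, Ideal.mk_ker]
    exact hmq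
  let qb := q.map ρ
  haveI : qb.IsPrime := Ideal.map_isPrime_of_surjective hρ hle
  let Q := qb.comap ρ'
  haveI : Q.IsPrime := Ideal.IsPrime.comap _
  have hQq : Q.comap φ = q := by
    rw [Ideal.comap_comap, show ρ'.comp φ = ρ from RingHom.ext hρφ, Ideal.comap_map_of_surjective _ hρ,
      ← RingHom.ker_eq_comap_bot, sup_eq_left.mpr hle]
  have hker : RingHom.ker ρ' ≤ q.map φ := by
    show RingHom.ker (mapRingHom ev.toRingHom) ≤ _
    rw [Polynomial.ker_mapRingHom,
      show RingHom.ker ev.toRingHom = (maximalIdeal R).map (algebraMap R (EGA4.Cpl R)) from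
        AdicCompletion.ker_evalOneₐ_eq_map _ (IsNoetherian.noetherian _),
      Ideal.map_map, show (C : EGA4.Cpl R →+* _).comp (algebraMap R (EGA4.Cpl R)) = φ.comp C from
        RingHom.ext fun x => (Polynomial.map_C _).symm, ← Ideal.map_map]
    exact Ideal.map_mono hmq
  have hmap : (Q.comap φ).map φ = Q := by
    refine le_antisymm Ideal.map_comap_le fun x hx => ?_
    rw [hQq]
    obtain ⟨y, hy, hyx⟩ := (Ideal.mem_map_iff_of_surjective ρ hρ).mp (hx : ρ' x ∈ qb)
    have h1 : x - φ y ∈ q.map φ := hker (by rw [RingHom.mem_ker, map_sub, hρφ, hyx, sub_self])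
    simpa using add_mem h1 (Ideal.mem_map_of_mem φ hy)
  have hres : ∀ x, ∃ r, x - φ r ∈ Q := fun x => by
    obtain ⟨r, hr⟩ := hρ (ρ' x)
    refine ⟨r, ?_⟩
    show ρ' (x - φ r) ∈ qb
    rw [map_sub, hρφ, hr, sub_self]
    exact qb.zero_mem
  have hreg : CAlg.IsRegularHom R[X] (EGA4.Cpl R)[X] := by
    have h1 := isRegularHom_baseChange_noetherian R (EGA4.Cpl R) R[X] hR fun K _ _ _ _ hK => by
      haveI : Algebra.EssFiniteType R K := Algebra.EssFiniteType.comp R R[X] K
      haveI := isRegularRing_field_tensor hR K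
      infer_instance
    exact isRegularHom_of_algEquiv (Algebra.IsPushout.equiv R R[X] (EGA4.Cpl R) (EGA4.Cpl R)[X]) h1
  have hfin := isRegularHom_cpl_localization_descent R[X] (EGA4.Cpl R)[X] hreg Q hmap hres
    ((isGRing_polynomial_complete (EGA4.Cpl R)).2 Q)
  have hcongr : ∀ (I : Ideal R[X]) [I.IsPrime], I = q →
      CAlg.IsRegularHom (Localization.AtPrime I) (EGA4.Cpl (Localization.AtPrime I)) →
      CAlg.IsRegularHom (Localization.AtPrime q) (EGA4.Cpl (Localization.AtPrime q)) := fun I _ hI hl => by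
    subst hI; exact hl
  exact hcongr _ hQq hfin

theorem isGRing_of_surjective {R S : Type u} [CommRing R] [CommRing S] (f : R →+* S) (hf : Function.Surjective f)
    (h : CAlg.IsGRing R) : CAlg.IsGRing S := by
  haveI := h.1
  refine ⟨isNoetherianRing_of_surjective _ _ f hf, fun P _ => ?_⟩
  haveI : IsNoetherianRing (Localization.AtPrime (P.comap f)) := IsLocalization.isNoetherianRing (P.comap f).primeCompl _ inferInstance
  exact isRegularHom_cpl_surjective _ (RingHom.surjective_localRingHom_of_surjective f hf P) (h.2 _)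

attribute [local instance] Polynomial.algebra Polynomial.isLocalization in
theorem isGRing_polynomial (R : Type u) [CommRing R] (h : CAlg.IsGRing R) : CAlg.IsGRing R[X] := by
  haveI := h.1
  refine ⟨inferInstance, fun q hq => ?_⟩
  let P := q.comap C
  haveI : P.IsPrime := Ideal.IsPrime.comap _
  let R₁ := Localization.AtPrime P
  haveI : IsNoetherianRing R₁ := IsLocalization.isNoetherianRing P.primeCompl _ inferInstance
  let M : Submonoid R[X] := P.primeCompl.map (C : R →+* R[X])
  haveI : IsLocalization M R₁[X] := Polynomial.isLocalization P.primeCompl R₁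
  have hdisj : Disjoint (M : Set R[X]) (q : Set R[X]) := by
    rw [Set.disjoint_left]
    rintro _ ⟨x, hx, rfl⟩ hxq
    exact hx hxq
  let q₁ := q.map (algebraMap R[X] R₁[X])
  haveI : q₁.IsPrime := IsLocalization.isPrime_of_isPrime_disjoint M R₁[X] q inferInstance hdisj
  have hq₁ : q₁.comap (algebraMap R[X] R₁[X]) = q := IsLocalization.comap_map_of_isPrime_disjoint M R₁[X] inferInstance hdisj
  have hq₁C : q₁.comap C = maximalIdeal R₁ := by
    haveI : (q₁.comap (C : R₁ →+* R₁[X])).IsPrime := Ideal.IsPrime.comap _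
    refine le_antisymm (IsLocalRing.le_maximalIdeal (Ideal.IsPrime.ne_top inferInstance)) ?_
    rw [← Localization.AtPrime.map_eq_maximalIdeal, Ideal.map_le_iff_le_comap, Ideal.comap_comap,
      show (C : R₁ →+* R₁[X]).comp (algebraMap R R₁) = (algebraMap R[X] R₁[X]).comp C from
        RingHom.ext fun x => (Polynomial.map_C _).symm, ← Ideal.comap_comap, hq₁]
  haveI : IsLocalization.AtPrime (Localization.AtPrime q₁) q := by
    have h1 := IsLocalization.isLocalization_isLocalization_atPrime_isLocalization M (Localization.AtPrime q₁) q₁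
    have hcongr : ∀ (I : Ideal R[X]) [I.IsPrime], I = q → IsLocalization.AtPrime (Localization.AtPrime q₁) I →
        IsLocalization.AtPrime (Localization.AtPrime q₁) q := fun I _ hI hl => by subst hI; exact hl
    exact hcongr _ hq₁ h1
  let e := IsLocalization.algEquiv q.primeCompl (Localization.AtPrime q₁) (Localization.AtPrime q)
  haveI : IsNoetherianRing (Localization.AtPrime q₁) := IsLocalization.isNoetherianRing q₁.primeCompl _ inferInstance
  exact isRegularHom_cpl_surjective e.toRingEquiv.toRingHom e.surjective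
    (isRegularHom_cpl_polynomial_local R₁ (h.2 P) q₁ hq₁C)

theorem isGRing_mvPolynomial (R : Type u) [CommRing R] (h : CAlg.IsGRing R) :
    ∀ n : ℕ, CAlg.IsGRing (MvPolynomial (Fin n) R)
  | 0 => isGRing_of_surjective (MvPolynomial.C : R →+* MvPolynomial (Fin 0) R) (MvPolynomial.C_surjective _) h
  | n + 1 => isGRing_of_surjective (MvPolynomial.finSuccEquiv R n).symm.toRingEquiv.toRingHom
      (MvPolynomial.finSuccEquiv R n).symm.surjective (isGRing_polynomial _ (isGRing_mvPolynomial R h n))

/-- Algebras of finite type over G-rings are G-rings. -/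
theorem isGRing_of_finiteType (R : Type u) [CommRing R] (h : CAlg.IsGRing R) (S : Type u) [CommRing S] [Algebra R S]
    [Algebra.FiniteType R S] : CAlg.IsGRing S := by
  obtain ⟨n, f, hf⟩ := Algebra.FiniteType.iff_quotient_mvPolynomial''.mp (inferInstance : Algebra.FiniteType R S)
  exact isGRing_of_surjective f.toRingHom hf (isGRing_mvPolynomial R h n)

end Groth.Agent.CAlgH
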