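import Mathlib
import Groth.Agent.CAlgH.GRingFiniteType

/-! Completions of G-rings. -/
universe u
open IsLocalRing TensorProduct

namespace Groth.Agent.CAlgH

/-- A flat local map with the same completion is regular if the completion map below is. -/
theorem isRegularHom_of_same_completion (A B : Type u) [CommRing A] [IsLocalRing A] [IsNoetherianRing A] [CommRing B]
    [IsLocalRing B] [IsNoetherianRing B] [Algebra A B] [IsLocalHom (algebraMap A B)] [Module.Flat A B]
    (hmap : (maximalIdeal A).map (algebraMap A B) = maximalIdeal B)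
    (hres : ∀ y : B, ∃ a, y - algebraMap A B a ∈ maximalIdeal B) (hA : CAlg.IsRegularHom A (EGA4.Cpl A)) :
    CAlg.IsRegularHom A B := by
  haveI : IsNoetherianRing (EGA4.Cpl B) := Groth.Agent.Matlis6.isNoetherianRing_adicCompletion _
  haveI := isLocalHom_algebraMap_cpl B
  haveI : IsLocalHom (algebraMap A (EGA4.Cpl B)) :=
    IsScalarTower.algebraMap_eq A B (EGA4.Cpl B) ▸ RingHom.isLocalHom_comp (algebraMap B (EGA4.Cpl B)) (algebraMap A B)
  haveI : Module.Flat A (EGA4.Cpl B) := Module.Flat.trans A B _
  haveI : Module.FaithfullyFlat B (EGA4.Cpl B) := Module.FaithfullyFlat.of_flat_of_isLocalHom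
  have hm : (maximalIdeal A).map (algebraMap A (EGA4.Cpl B)) = maximalIdeal (EGA4.Cpl B) := by
    rw [AdicCompletion.maximalIdeal_eq_map, IsScalarTower.algebraMap_eq A B (EGA4.Cpl B), ← Ideal.map_map, hmap]
  have hr : ∀ y : EGA4.Cpl B, ∃ a, y - algebraMap A (EGA4.Cpl B) a ∈ maximalIdeal (EGA4.Cpl B) := fun y => by
    obtain ⟨b, hb⟩ := exists_sub_algebraMap_mem B y
    obtain ⟨a, ha⟩ := hres b
    refine ⟨a, ?_⟩
    have h2 := Ideal.mem_map_of_mem (algebraMap B (EGA4.Cpl B)) ha
    rw [← AdicCompletion.maximalIdeal_eq_map, map_sub, ← IsScalarTower.algebraMap_apply] at h2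
    convert add_mem hb h2 using 1
    ring
  obtain ⟨e, he⟩ := completion_equiv_of_quotients (maximalIdeal A) (maximalIdeal (EGA4.Cpl B)) (algebraMap A _)
    (comap_pow_eq_of_flat _ (RingHom.flat_algebraMap_iff.mpr inferInstance) hm) (exists_sub_mem_pow _ hm hr)
  let g : EGA4.Cpl A →ₐ[A] EGA4.Cpl B := { e.toRingHom with commutes' := he }
  exact isRegularHom_of_comp A B (EGA4.Cpl B) (isRegularHom_of_algEquiv (AlgEquiv.ofBijective g e.bijective) hA)

/-- The completion of a G-ring at any ideal is regular over it. -/
theorem isRegularHom_adicCompletion_of_isGRing (A : Type u) [CommRing A] (hA : CAlg.IsGRing A) (I : Ideal A) :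
    CAlg.IsRegularHom A (AdicCompletion I A) := by
  haveI := hA.1
  let B := AdicCompletion I A
  haveI : IsNoetherianRing B := Groth.Agent.Matlis6.isNoetherianRing_adicCompletion _
  refine (isRegularHom_iff_localRingHom A B).2 fun n _ => ?_
  let q := n.comap (algebraMap A B)
  letI := (Localization.localRingHom q n (algebraMap A B) rfl).toAlgebra
  let J := I.map (algebraMap A B)
  have hI := IsNoetherian.noetherian I
  haveI : IsAdicComplete J B := (IsAdicComplete.map_algebraMap_iff _ _).mpr (AdicCompletion.isAdicComplete hI)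
  have hJn : J ≤ n := (IsAdicComplete.le_jacobson_bot J).trans (sInf_le ⟨bot_le, inferInstance⟩)
  have hker : RingHom.ker (AdicCompletion.evalOneₐ I).toRingHom = J := AdicCompletion.ker_evalOneₐ_eq_map _ hI
  have hres : ∀ x : B, ∃ a, x - algebraMap A B a ∈ J := fun x => by
    obtain ⟨a, ha⟩ := Ideal.Quotient.mk_surjective (AdicCompletion.evalOneₐ I x)
    refine ⟨a, ?_⟩
    rw [← hker, RingHom.mem_ker, map_sub, sub_eq_zero]
    exact ha.symm.trans (AlgHom.commutes _ a).symm
  have hqn : q.map (algebraMap A B) = n := by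
    refine le_antisymm Ideal.map_comap_le fun x hx => ?_
    obtain ⟨a, ha⟩ := hres x
    have haq : a ∈ q := by
      show algebraMap A B a ∈ n
      simpa using sub_mem hx (hJn ha)
    have h1 : J ≤ q.map (algebraMap A B) := Ideal.map_mono fun i hi => hJn (Ideal.mem_map_of_mem _ hi)
    simpa using add_mem (h1 ha) (Ideal.mem_map_of_mem (algebraMap A B) haq)
  haveI : IsNoetherianRing (Localization.AtPrime q) := IsLocalization.isNoetherianRing q.primeCompl _ inferInstance
  haveI : IsNoetherianRing (Localization.AtPrime n) := IsLocalization.isNoetherianRing n.primeCompl _ inferInstance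
  haveI : IsLocalHom (algebraMap (Localization.AtPrime q) (Localization.AtPrime n)) :=
    Localization.isLocalHom_localRingHom q n _ rfl
  haveI : Module.Flat (Localization.AtPrime q) (Localization.AtPrime n) :=
    RingHom.Flat.localRingHom (f := algebraMap A B) (RingHom.flat_algebraMap_iff.mpr inferInstance) n q rfl
  refine isRegularHom_of_same_completion (Localization.AtPrime q) (Localization.AtPrime n) ?_ ?_ (hA.2 q)
  · rw [← Localization.AtPrime.map_eq_maximalIdeal, ← Localization.AtPrime.map_eq_maximalIdeal, Ideal.map_map]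
    show q.map ((Localization.localRingHom q n (algebraMap A B) rfl).comp (algebraMap A (Localization.AtPrime q))) = _
    rw [show (Localization.localRingHom q n (algebraMap A B) rfl).comp (algebraMap A (Localization.AtPrime q)) =
      (algebraMap B (Localization.AtPrime n)).comp (algebraMap A B) from
        RingHom.ext fun x => Localization.localRingHom_to_map q n _ rfl x, ← Ideal.map_map, hqn]
  · intro y
    obtain ⟨a, ⟨s, hs⟩, rfl⟩ := IsLocalization.exists_mk'_eq n.primeCompl y
    obtain ⟨a1, ha⟩ := hres a
    obtain ⟨s1, hs1⟩ := hres s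
    have hs1q : s1 ∉ q := fun h1 => hs (by
      show s ∈ n
      simpa using add_mem (hJn hs1) (h1 : algebraMap A B s1 ∈ n))
    refine ⟨IsLocalization.mk' (Localization.AtPrime q) a1 (⟨s1, hs1q⟩ : q.primeCompl), ?_⟩
    show _ - Localization.localRingHom q n (algebraMap A B) rfl _ ∈ _
    rw [Localization.localRingHom_mk', ← IsLocalization.mk'_sub,
      IsLocalization.AtPrime.mk'_mem_maximal_iff (Localization.AtPrime n) n]
    show a * algebraMap A B s1 - algebraMap A B a1 * s ∈ n
    rw [show a * algebraMap A B s1 - algebraMap A B a1 * s =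
      (a - algebraMap A B a1) * algebraMap A B s1 - algebraMap A B a1 * (s - algebraMap A B s1) by ring]
    exact sub_mem (n.mul_mem_right _ (hJn ha)) (n.mul_mem_left _ (hJn hs1))

end Groth.Agent.CAlgH
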