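import Mathlib
import Groth.Agent.CAlgH.GRingCompletion
import Groth.Agent.CommAlg6.CompletionMap

/-! The G-ring property is tested at maximal ideals. -/
universe u
open IsLocalRing TensorProduct

namespace Groth.Agent.CAlgH

/-- A regular local map to a ring with regular completion map. -/
theorem isRegularHom_cpl_of_regular_target (A B : Type u) [CommRing A] [IsLocalRing A] [IsNoetherianRing A] [CommRing B]
    [IsLocalRing B] [IsNoetherianRing B] [Algebra A B] [IsLocalHom (algebraMap A B)] (h : CAlg.IsRegularHom A B)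
    (hB : CAlg.IsRegularHom B (EGA4.Cpl B)) : CAlg.IsRegularHom A (EGA4.Cpl A) := by
  haveI := h.1
  haveI : IsNoetherianRing (EGA4.Cpl B) := Groth.Agent.Matlis6.isNoetherianRing_adicCompletion _
  have hAC := isRegularHom_comp_of_noetherian_fibres A B (EGA4.Cpl B) h hB fun p _ => isNoetherianRing_fiber A _ p
  obtain ⟨_, _, _⟩ := Groth.Agent.CommAlg6.exists_algebra_completion A B
  exact isRegularHom_of_comp A (EGA4.Cpl A) (EGA4.Cpl B) hAC

/-- Localisations of a local ring with regular completion map have regular completion maps. -/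
theorem isRegularHom_cpl_localization_of_local (A : Type u) [CommRing A] [IsLocalRing A] [IsNoetherianRing A]
    (h : CAlg.IsRegularHom A (EGA4.Cpl A)) (p : Ideal A) [hp : p.IsPrime] :
    CAlg.IsRegularHom (Localization.AtPrime p) (EGA4.Cpl (Localization.AtPrime p)) := by
  let Ah := EGA4.Cpl A
  haveI : IsNoetherianRing Ah := Groth.Agent.Matlis6.isNoetherianRing_adicCompletion _
  haveI := isLocalHom_algebraMap_cpl A
  haveI : Module.FaithfullyFlat A Ah := Module.FaithfullyFlat.of_flat_of_isLocalHom
  obtain ⟨⟨P, hP⟩, hPp⟩ := PrimeSpectrum.comap_surjective_of_faithfullyFlat (B := Ah) (⟨p, hp⟩ : PrimeSpectrum A)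
  obtain rfl : P.comap (algebraMap A Ah) = p := congrArg PrimeSpectrum.asIdeal hPp
  let q := P.comap (algebraMap A Ah)
  letI := (Localization.localRingHom q P (algebraMap A Ah) rfl).toAlgebra
  haveI : IsNoetherianRing (Localization.AtPrime q) := IsLocalization.isNoetherianRing q.primeCompl _ inferInstance
  haveI : IsNoetherianRing (Localization.AtPrime P) := IsLocalization.isNoetherianRing P.primeCompl _ inferInstance
  haveI : IsLocalHom (algebraMap (Localization.AtPrime q) (Localization.AtPrime P)) :=
    Localization.isLocalHom_localRingHom q P _ rfl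
  exact isRegularHom_cpl_of_regular_target (Localization.AtPrime q) (Localization.AtPrime P)
    ((isRegularHom_iff_localRingHom A Ah).1 h P) ((isGRing_complete Ah).2 P)

theorem isGRing_of_maximals (R : Type u) [CommRing R] [IsNoetherianRing R]
    (h : ∀ (m : Ideal R) [m.IsMaximal], CAlg.IsRegularHom (Localization.AtPrime m) (EGA4.Cpl (Localization.AtPrime m))) :
    CAlg.IsGRing R := by
  refine ⟨inferInstance, fun p hp => ?_⟩
  obtain ⟨m, hm, hpm⟩ := Ideal.exists_le_maximal p hp.ne_top
  let A := Localization.AtPrime m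
  haveI : IsNoetherianRing A := IsLocalization.isNoetherianRing m.primeCompl _ inferInstance
  have hdisj : Disjoint (m.primeCompl : Set R) (p : Set R) := by
    rw [Set.disjoint_left]
    exact fun x hx hxp => hx (hpm hxp)
  let p' := p.map (algebraMap R A)
  haveI : p'.IsPrime := IsLocalization.isPrime_of_isPrime_disjoint m.primeCompl A p inferInstance hdisj
  have hp' : p'.comap (algebraMap R A) = p := IsLocalization.comap_map_of_isPrime_disjoint m.primeCompl A inferInstance hdisj
  haveI : IsLocalization.AtPrime (Localization.AtPrime p') p := by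
    have h1 := IsLocalization.isLocalization_isLocalization_atPrime_isLocalization m.primeCompl (Localization.AtPrime p') p'
    have hcongr : ∀ (I : Ideal R) [I.IsPrime], I = p → IsLocalization.AtPrime (Localization.AtPrime p') I →
        IsLocalization.AtPrime (Localization.AtPrime p') p := fun I _ hI hl => by subst hI; exact hl
    exact hcongr _ hp' h1
  let e := IsLocalization.algEquiv p.primeCompl (Localization.AtPrime p') (Localization.AtPrime p)
  haveI : IsNoetherianRing (Localization.AtPrime p') := IsLocalization.isNoetherianRing p'.primeCompl _ inferInstance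
  exact isRegularHom_cpl_surjective e.toRingEquiv.toRingHom e.surjective
    (isRegularHom_cpl_localization_of_local A (h m) p')

/-- Ring maps out of a completion into a completion agree once they agree on the base. -/
theorem cpl_ringHom_ext (A B : Type u) [CommRing A] [IsLocalRing A] [IsNoetherianRing A] [CommRing B] [IsLocalRing B]
    [IsNoetherianRing B] [Algebra A B] [IsLocalHom (algebraMap A B)] (ψ ψ' : EGA4.Cpl A →+* EGA4.Cpl B)
    (h : ψ.comp (algebraMap A (EGA4.Cpl A)) = (algebraMap B (EGA4.Cpl B)).comp (algebraMap A B))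
    (h' : ψ'.comp (algebraMap A (EGA4.Cpl A)) = (algebraMap B (EGA4.Cpl B)).comp (algebraMap A B)) : ψ = ψ' := by
  haveI := isLocalHom_algebraMap_cpl A
  haveI : IsAdicComplete (maximalIdeal (EGA4.Cpl B)) (EGA4.Cpl B) := inferInstance
  have hm : ∀ χ : EGA4.Cpl A →+* EGA4.Cpl B,
      χ.comp (algebraMap A (EGA4.Cpl A)) = (algebraMap B (EGA4.Cpl B)).comp (algebraMap A B) →
      ∀ j, ((maximalIdeal (EGA4.Cpl A)) ^ j).map χ ≤ maximalIdeal (EGA4.Cpl B) ^ j := fun χ hχ j => by
    rw [Ideal.map_pow, AdicCompletion.maximalIdeal_eq_map, Ideal.map_map, hχ, ← Ideal.map_map]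
    refine Ideal.pow_right_mono ?_ j
    rw [AdicCompletion.maximalIdeal_eq_map]
    exact Ideal.map_mono (IsLocalRing.map_maximalIdeal_le _)
  ext x : 1
  rw [← sub_eq_zero]
  refine IsHausdorff.haus (inferInstance : IsHausdorff (maximalIdeal (EGA4.Cpl B)) (EGA4.Cpl B)) _ fun j => ?_
  rw [SModEq.zero, smul_eq_mul, Ideal.mul_top]
  obtain ⟨a, ha⟩ := exists_sub_mem_pow _ AdicCompletion.maximalIdeal_eq_map.symm (exists_sub_algebraMap_mem A) j x
  have h1 := hm ψ h j (Ideal.mem_map_of_mem ψ ha)
  have h2 := hm ψ' h' j (Ideal.mem_map_of_mem ψ' ha)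
  rw [map_sub] at h1 h2
  have e : ψ (algebraMap A _ a) = ψ' (algebraMap A _ a) := (RingHom.congr_fun h a).trans (RingHom.congr_fun h' a).symm
  rw [e] at h1
  simpa using sub_mem h1 h2

theorem completion_map_flat_iff (A B : Type u) [CommRing A] [CommRing B] [IsLocalRing A] [IsLocalRing B]
    [IsNoetherianRing A] [IsNoetherianRing B] [Algebra A B] [IsLocalHom (algebraMap A B)]
    (ψ : EGA4.Cpl A →+* EGA4.Cpl B)
    (hψ : ψ.comp (algebraMap A (EGA4.Cpl A)) = (algebraMap B (EGA4.Cpl B)).comp (algebraMap A B)) :
    ψ.Flat ↔ (algebraMap A B).Flat := by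
  constructor
  · intro h
    haveI := isLocalHom_algebraMap_cpl B
    haveI : Module.FaithfullyFlat B (EGA4.Cpl B) := Module.FaithfullyFlat.of_flat_of_isLocalHom
    haveI : Module.Flat A (EGA4.Cpl B) := RingHom.flat_algebraMap_iff.mp (by
      rw [IsScalarTower.algebraMap_eq A B (EGA4.Cpl B), ← hψ]
      exact (RingHom.flat_algebraMap_iff.mpr inferInstance).comp h)
    exact RingHom.flat_algebraMap_iff.mpr (flat_of_comp_faithfullyFlat A B (EGA4.Cpl B))
  · intro h
    haveI : Module.Flat A B := RingHom.flat_algebraMap_iff.mp h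
    obtain ⟨_, hT, hff⟩ := Groth.Agent.CommAlg6.exists_algebra_completion A B
    rw [cpl_ringHom_ext A B ψ (algebraMap _ _) hψ (by rw [← IsScalarTower.algebraMap_eq, ← IsScalarTower.algebraMap_eq])]
    exact RingHom.flat_algebraMap_iff.mpr inferInstance

theorem completion_map_bijective (A B : Type u) [CommRing A] [CommRing B] [IsLocalRing A] [IsLocalRing B]
    [IsNoetherianRing A] [IsNoetherianRing B] [Algebra A B] [IsLocalHom (algebraMap A B)] [Module.Flat A B]
    (hm : Ideal.map (algebraMap A B) (maximalIdeal A) = maximalIdeal B)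
    (hk : Function.Surjective (IsLocalRing.ResidueField.map (algebraMap A B)))
    (ψ : EGA4.Cpl A →+* EGA4.Cpl B)
    (hψ : ψ.comp (algebraMap A (EGA4.Cpl A)) = (algebraMap B (EGA4.Cpl B)).comp (algebraMap A B)) :
    Function.Bijective ψ := by
  haveI := isLocalHom_algebraMap_cpl B
  haveI : IsLocalHom (algebraMap A (EGA4.Cpl B)) :=
    IsScalarTower.algebraMap_eq A B (EGA4.Cpl B) ▸ RingHom.isLocalHom_comp (algebraMap B (EGA4.Cpl B)) (algebraMap A B)
  haveI : Module.Flat A (EGA4.Cpl B) := Module.Flat.trans A B _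
  have hm' : (maximalIdeal A).map (algebraMap A (EGA4.Cpl B)) = maximalIdeal (EGA4.Cpl B) := by
    rw [AdicCompletion.maximalIdeal_eq_map, IsScalarTower.algebraMap_eq A B (EGA4.Cpl B), ← Ideal.map_map, hm]
  have hr : ∀ y : EGA4.Cpl B, ∃ a, y - algebraMap A (EGA4.Cpl B) a ∈ maximalIdeal (EGA4.Cpl B) := fun y => by
    obtain ⟨b, hb⟩ := exists_sub_algebraMap_mem B y
    obtain ⟨z, hz⟩ := hk (residue B b)
    obtain ⟨a, rfl⟩ := residue_surjective z
    have ha : b - algebraMap A B a ∈ maximalIdeal B := Ideal.Quotient.eq.mp ((IsLocalRing.ResidueField.map_residue _ a).symm.trans hz).symm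
    refine ⟨a, ?_⟩
    have h2 := Ideal.mem_map_of_mem (algebraMap B (EGA4.Cpl B)) ha
    rw [← AdicCompletion.maximalIdeal_eq_map, map_sub, ← IsScalarTower.algebraMap_apply] at h2
    convert add_mem hb h2 using 1
    ring
  obtain ⟨e, he⟩ := completion_equiv_of_quotients (maximalIdeal A) (maximalIdeal (EGA4.Cpl B)) (algebraMap A _)
    (comap_pow_eq_of_flat _ (RingHom.flat_algebraMap_iff.mpr inferInstance) hm') (exists_sub_mem_pow _ hm' hr)
  rw [cpl_ringHom_ext A B ψ e.toRingHom hψ (RingHom.ext fun a => (he a).trans (IsScalarTower.algebraMap_apply A B (EGA4.Cpl B) a))]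
  exact e.bijective

/-- Localisations of G-rings are G-rings. -/
theorem isGRing_localization {R : Type u} [CommRing R] (M : Submonoid R) (S : Type u) [CommRing S] [Algebra R S]
    [IsLocalization M S] (h : CAlg.IsGRing R) : CAlg.IsGRing S := by
  haveI := h.1
  refine ⟨IsLocalization.isNoetherianRing M S inferInstance, fun P _ => ?_⟩
  let p := P.comap (algebraMap R S)
  haveI : IsLocalization.AtPrime (Localization.AtPrime P) p :=
    IsLocalization.isLocalization_isLocalization_atPrime_isLocalization M (Localization.AtPrime P) P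
  let e := IsLocalization.algEquiv p.primeCompl (Localization.AtPrime p) (Localization.AtPrime P)
  haveI : IsNoetherianRing (Localization.AtPrime p) := IsLocalization.isNoetherianRing p.primeCompl _ inferInstance
  exact isRegularHom_cpl_surjective e.toRingEquiv.toRingHom e.surjective (h.2 p)

end Groth.Agent.CAlgH
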