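import Mathlib
import Groth.Prelude.Def_CAlgX

/-! Basic properties of adic formal smoothness. -/
universe u
open TensorProduct

namespace Groth.Agent.CAlgH.AdicSmooth

variable {R S : Type u} [CommRing R] [CommRing S] [Algebra R S] {𝔫 : Ideal S}

/-- Lifting, stated with ring maps. -/
theorem exists_lift_ringHom (h : CAlgX.IsAdicFormallySmooth R S 𝔫) {A : Type u} [CommRing A] (f : R →+* A)
    (J : Ideal A) (hJ : J ^ 2 = ⊥) (ψ : S →+* A ⧸ J) (hψ : ψ.comp (algebraMap R S) = (Ideal.Quotient.mk J).comp f)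
    (hk : ∃ k : ℕ, ∀ x ∈ 𝔫 ^ k, ψ x = 0) :
    ∃ χ : S →+* A, χ.comp (algebraMap R S) = f ∧ (Ideal.Quotient.mk J).comp χ = ψ := by
  letI : Algebra R A := f.toAlgebra
  let ψ' : S →ₐ[R] A ⧸ J := { ψ with commutes' := fun r => RingHom.congr_fun hψ r }
  obtain ⟨χ, hχ⟩ := h A J hJ ψ' hk
  exact ⟨χ.toRingHom, χ.comp_algebraMap, RingHom.ext fun x => AlgHom.congr_fun hχ x⟩

theorem of_ringHom
    (h : ∀ (A : Type u) [CommRing A] (f : R →+* A) (J : Ideal A), J ^ 2 = ⊥ → ∀ ψ : S →+* A ⧸ J,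
      ψ.comp (algebraMap R S) = (Ideal.Quotient.mk J).comp f → (∃ k : ℕ, ∀ x ∈ 𝔫 ^ k, ψ x = 0) →
      ∃ χ : S →+* A, χ.comp (algebraMap R S) = f ∧ (Ideal.Quotient.mk J).comp χ = ψ) :
    CAlgX.IsAdicFormallySmooth R S 𝔫 := fun A _ _ J hJ ψ hk => by
  obtain ⟨χ, h1, h2⟩ := h A (algebraMap R A) J hJ ψ.toRingHom ψ.comp_algebraMap hk
  exact ⟨{ χ with commutes' := fun r => RingHom.congr_fun h1 r }, AlgHom.ext fun x => RingHom.congr_fun h2 x⟩

theorem of_formallySmooth [Algebra.FormallySmooth R S] : CAlgX.IsAdicFormallySmooth R S 𝔫 :=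
  fun _ _ _ J hJ ψ _ => Algebra.FormallySmooth.comp_surjective R S J hJ ψ

theorem mono {𝔫' : Ideal S} (c : ℕ) (hc : 𝔫 ^ c ≤ 𝔫') (h : CAlgX.IsAdicFormallySmooth R S 𝔫) :
    CAlgX.IsAdicFormallySmooth R S 𝔫' := fun A _ _ J hJ ψ ⟨k, hk⟩ =>
  h A J hJ ψ ⟨c * k, fun x hx => hk x (Ideal.pow_right_mono hc k (by rwa [← pow_mul]))⟩

theorem trans {T : Type u} [CommRing T] [Algebra R T] [Algebra S T] [IsScalarTower R S T] {𝔮 : Ideal T}
    (hle : 𝔫.map (algebraMap S T) ≤ 𝔮) (h : CAlgX.IsAdicFormallySmooth R S 𝔫)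
    (h' : CAlgX.IsAdicFormallySmooth S T 𝔮) : CAlgX.IsAdicFormallySmooth R T 𝔮 := by
  refine of_ringHom fun A _ f J hJ ψ hψ ⟨k, hk⟩ => ?_
  obtain ⟨g, hg1, hg2⟩ := exists_lift_ringHom h f J hJ (ψ.comp (algebraMap S T))
    (by rw [RingHom.comp_assoc, ← IsScalarTower.algebraMap_eq, hψ]) ⟨k, fun x hx => hk _ (by
      have h1 := Ideal.mem_map_of_mem (algebraMap S T) hx
      rw [Ideal.map_pow] at h1
      exact Ideal.pow_right_mono hle k h1)⟩
  obtain ⟨χ, hχ1, hχ2⟩ := exists_lift_ringHom h' g J hJ ψ hg2.symm ⟨k, hk⟩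
  exact ⟨χ, by rw [IsScalarTower.algebraMap_eq R S T, ← RingHom.comp_assoc, hχ1, hg1], hχ2⟩

theorem of_algEquiv {S' : Type u} [CommRing S'] [Algebra R S'] (e : S ≃ₐ[R] S') {𝔫' : Ideal S'}
    (he : 𝔫.map e.toAlgHom.toRingHom = 𝔫') (h : CAlgX.IsAdicFormallySmooth R S 𝔫) :
    CAlgX.IsAdicFormallySmooth R S' 𝔫' := by
  intro A _ _ J hJ ψ ⟨k, hk⟩
  obtain ⟨χ, hχ⟩ := h A J hJ (ψ.comp e.toAlgHom) ⟨k, fun x hx => hk _ (by
    rw [← he, ← Ideal.map_pow]
    exact Ideal.mem_map_of_mem _ hx)⟩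
  refine ⟨χ.comp e.symm.toAlgHom, AlgHom.ext fun x => ?_⟩
  have := AlgHom.congr_fun hχ (e.symm x)
  simpa using this

theorem baseChange (R' : Type u) [CommRing R'] [Algebra R R'] (h : CAlgX.IsAdicFormallySmooth R S 𝔫) :
    CAlgX.IsAdicFormallySmooth R' (R' ⊗[R] S)
      (𝔫.map (Algebra.TensorProduct.includeRight : S →ₐ[R] R' ⊗[R] S)) := by
  intro A _ _ J hJ ψ ⟨k, hk⟩
  letI : Algebra R A := ((algebraMap R' A).comp (algebraMap R R')).toAlgebra
  haveI : IsScalarTower R R' A := IsScalarTower.of_algebraMap_eq fun _ => rfl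
  obtain ⟨χ, hχ⟩ := h A J hJ ((ψ.restrictScalars R).comp Algebra.TensorProduct.includeRight) ⟨k, fun x hx => hk _ (by
    rw [← Ideal.map_pow]
    exact Ideal.mem_map_of_mem _ hx)⟩
  refine ⟨Algebra.TensorProduct.lift (Algebra.ofId R' A) χ fun _ _ => Commute.all _ _,
    Algebra.TensorProduct.ext (Subsingleton.elim _ _) (AlgHom.ext fun x => ?_)⟩
  have := AlgHom.congr_fun hχ x
  simpa using this

/-- The same base change for a pushout square with surjective base map. -/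
theorem quotient (I : Ideal R) [Algebra (R ⧸ I) (S ⧸ I.map (algebraMap R S))]
    [IsScalarTower R (R ⧸ I) (S ⧸ I.map (algebraMap R S))] (h : CAlgX.IsAdicFormallySmooth R S 𝔫) :
    CAlgX.IsAdicFormallySmooth (R ⧸ I) (S ⧸ I.map (algebraMap R S))
      (𝔫.map (Ideal.Quotient.mk (I.map (algebraMap R S)))) := by
  refine of_ringHom fun A _ f J hJ ψ hψ ⟨k, hk⟩ => ?_
  obtain ⟨g, hg1, hg2⟩ := exists_lift_ringHom h (f.comp (Ideal.Quotient.mk I)) J hJ
    (ψ.comp (Ideal.Quotient.mk _)) (RingHom.ext fun r => by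
      have h1 := RingHom.congr_fun hψ (Ideal.Quotient.mk I r)
      simp only [RingHom.comp_apply] at h1 ⊢
      rw [← h1, show Ideal.Quotient.mk I r = algebraMap R (R ⧸ I) r from rfl, ← IsScalarTower.algebraMap_apply]
      rfl)
    ⟨k, fun x hx => hk _ (by
      rw [← Ideal.map_pow]
      exact Ideal.mem_map_of_mem _ hx)⟩
  have hker : I.map (algebraMap R S) ≤ RingHom.ker g := Ideal.map_le_iff_le_comap.mpr fun r hr => by
    rw [Ideal.mem_comap, RingHom.mem_ker, ← RingHom.comp_apply, hg1, RingHom.comp_apply,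
      Ideal.Quotient.eq_zero_iff_mem.mpr hr, map_zero]
  refine ⟨Ideal.Quotient.lift _ g fun x hx => hker hx, Ideal.Quotient.ringHom_ext (RingHom.ext fun r => ?_),
    Ideal.Quotient.ringHom_ext (RingHom.ext fun x => RingHom.congr_fun hg2 x)⟩
  simp only [RingHom.comp_apply]
  rw [show Ideal.Quotient.mk I r = algebraMap R (R ⧸ I) r from rfl, ← IsScalarTower.algebraMap_apply]
  exact RingHom.congr_fun hg1 r

theorem localization (M : Submonoid S) (T : Type u) [CommRing T] [Algebra S T] [IsLocalization M T] [Algebra R T]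
    [IsScalarTower R S T] (h : CAlgX.IsAdicFormallySmooth R S 𝔫) :
    CAlgX.IsAdicFormallySmooth R T (𝔫.map (algebraMap S T)) := by
  refine of_ringHom fun A _ f J hJ ψ hψ ⟨k, hk⟩ => ?_
  obtain ⟨g, hg1, hg2⟩ := exists_lift_ringHom h f J hJ (ψ.comp (algebraMap S T))
    (by rw [RingHom.comp_assoc, ← IsScalarTower.algebraMap_eq, hψ]) ⟨k, fun x hx => hk _ (by
      rw [← Ideal.map_pow]
      exact Ideal.mem_map_of_mem _ hx)⟩
  have hu : ∀ y : M, IsUnit (g y) := fun y => by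
    have h1 : IsUnit (Ideal.Quotient.mk J (g y)) := by
      rw [show Ideal.Quotient.mk J (g y) = ψ (algebraMap S T y) from RingHom.congr_fun hg2 _]
      exact (IsLocalization.map_units T y).map ψ
    haveI : IsLocalHom (Ideal.Quotient.mk J) := isLocalHom_of_le_jacobson_bot J fun x hx =>
      Ideal.mem_sInf.mpr fun {P} hP => hP.2.isPrime.mem_of_pow_mem 2 (by
        have h2 := Ideal.pow_mem_pow hx 2
        rw [hJ, Ideal.mem_bot] at h2
        rw [h2]; exact P.zero_mem)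
    exact isUnit_of_map_unit (Ideal.Quotient.mk J) _ h1
  refine ⟨IsLocalization.lift hu, RingHom.ext fun r => ?_, IsLocalization.ringHom_ext M (RingHom.ext fun x => ?_)⟩
  · rw [RingHom.comp_apply, IsScalarTower.algebraMap_apply R S T, IsLocalization.lift_eq]
    exact RingHom.congr_fun hg1 r
  · rw [RingHom.comp_apply, RingHom.comp_apply, IsLocalization.lift_eq]
    exact RingHom.congr_fun hg2 x

/-- The base may be shrunk along a localisation. -/
theorem of_isLocalization_base (M : Submonoid R) (R' : Type u) [CommRing R'] [Algebra R R'] [IsLocalization M R']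
    [Algebra R' S] [IsScalarTower R R' S] (h : CAlgX.IsAdicFormallySmooth R S 𝔫) :
    CAlgX.IsAdicFormallySmooth R' S 𝔫 := by
  refine of_ringHom fun A _ f J hJ ψ hψ hk => ?_
  obtain ⟨g, hg1, hg2⟩ := exists_lift_ringHom h (f.comp (algebraMap R R')) J hJ ψ
    (by rw [IsScalarTower.algebraMap_eq R R' S, ← RingHom.comp_assoc, hψ, RingHom.comp_assoc]) hk
  refine ⟨g, IsLocalization.ringHom_ext M ?_, hg2⟩
  rw [RingHom.comp_assoc, ← IsScalarTower.algebraMap_eq, hg1]

/-- Lifting into a complete ring. -/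
theorem exists_lift_complete (h : CAlgX.IsAdicFormallySmooth R S 𝔫) {T : Type u} [CommRing T] (f : R →+* T)
    (J : Ideal T) [IsAdicComplete J T] (ψ : S →+* T ⧸ J) (hψ : ψ.comp (algebraMap R S) = (Ideal.Quotient.mk J).comp f)
    (hk : ∃ k : ℕ, ∀ x ∈ 𝔫 ^ k, ψ x = 0) :
    ∃ χ : S →+* T, χ.comp (algebraMap R S) = f ∧ (Ideal.Quotient.mk J).comp χ = ψ := by
  classical
  obtain ⟨k, hk⟩ := hk
  let P : ∀ n, (S →+* T ⧸ J ^ (n + 1)) → Prop := fun n χ =>
    χ.comp (algebraMap R S) = (Ideal.Quotient.mk _).comp f ∧ ∀ x ∈ 𝔫 ^ k, χ x ∈ J.map (Ideal.Quotient.mk (J ^ (n + 1)))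
  have step : ∀ n (χ : S →+* T ⧸ J ^ (n + 1)), P n χ → ∃ χ' : S →+* T ⧸ J ^ (n + 2), P (n + 1) χ' ∧
      (Ideal.Quotient.factor (Ideal.pow_le_pow_right (Nat.le_succ (n + 1)))).comp χ' = χ := by
    intro n χ hχ
    have hle : J ^ (n + 2) ≤ J ^ (n + 1) := Ideal.pow_le_pow_right (Nat.le_succ (n + 1))
    let q : T ⧸ J ^ (n + 2) →+* T ⧸ J ^ (n + 1) := Ideal.Quotient.factor hle
    have hq : Function.Surjective q := Ideal.Quotient.factor_surjective hle
    have hK : RingHom.ker q = (J ^ (n + 1)).map (Ideal.Quotient.mk (J ^ (n + 2))) := Ideal.Quotient.factor_ker hle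
    have hK2 : RingHom.ker q ^ 2 = ⊥ := by
      rw [hK, ← Ideal.map_pow, ← pow_mul, Ideal.map_eq_bot_iff_le_ker, Ideal.mk_ker]
      exact Ideal.pow_le_pow_right (by omega)
    let e := RingHom.quotientKerEquivOfSurjective hq
    have he : ∀ y, e (Ideal.Quotient.mk (RingHom.ker q) y) = q y := fun y => rfl
    have hkill : ∀ x ∈ 𝔫 ^ (k * (n + 1)), χ x = 0 := fun x hx => by
      have hsub : (𝔫 ^ k).map χ ≤ J.map (Ideal.Quotient.mk (J ^ (n + 1))) := Ideal.map_le_iff_le_comap.mpr hχ.2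
      have h1 := Ideal.pow_right_mono hsub (n + 1) (by
        rw [← Ideal.map_pow, ← pow_mul]
        exact Ideal.mem_map_of_mem χ hx)
      rwa [← Ideal.map_pow, Ideal.map_quotient_self, Ideal.mem_bot] at h1
    obtain ⟨χ', h1, h2⟩ := exists_lift_ringHom h ((Ideal.Quotient.mk _).comp f) (RingHom.ker q) hK2
      (e.symm.toRingHom.comp χ) (RingHom.ext fun r => e.injective (by
        show e (e.symm (χ (algebraMap R S r))) = e (Ideal.Quotient.mk (RingHom.ker q) (Ideal.Quotient.mk _ (f r)))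
        rw [RingEquiv.apply_symm_apply, he]
        exact RingHom.congr_fun hχ.1 r))
      ⟨k * (n + 1), fun x hx => by
        show e.symm (χ x) = 0
        rw [hkill x hx, map_zero]⟩
    have h3 : q.comp χ' = χ := RingHom.ext fun x => by
      have h := congrArg e (RingHom.congr_fun h2 x)
      rw [RingHom.comp_apply, he] at h
      exact h.trans (e.apply_symm_apply _)
    refine ⟨χ', ⟨h1, fun x hx => ?_⟩, h3⟩
    obtain ⟨t, ht⟩ := Ideal.Quotient.mk_surjective (χ' x)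
    have h4 := hχ.2 x hx
    rw [← h3, RingHom.comp_apply, ← ht] at h4
    change Ideal.Quotient.mk (J ^ (n + 1)) t ∈ _ at h4
    rw [← Ideal.mem_comap, Ideal.comap_map_of_surjective _ Ideal.Quotient.mk_surjective, ← RingHom.ker_eq_comap_bot,
      Ideal.mk_ker, sup_eq_left.mpr (Ideal.pow_le_self n.succ_ne_zero)] at h4
    rw [← ht]
    exact Ideal.mem_map_of_mem _ h4
  let F0 : S →+* T ⧸ J ^ (0 + 1) := (Ideal.quotEquivOfEq (pow_one J).symm).toRingHom.comp ψ
  have hF0 : P 0 F0 := by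
    refine ⟨RingHom.ext fun r => ?_, fun x hx => ?_⟩
    · show Ideal.quotEquivOfEq (pow_one J).symm (ψ (algebraMap R S r)) = _
      rw [show ψ (algebraMap R S r) = Ideal.Quotient.mk J (f r) from RingHom.congr_fun hψ r]
      rfl
    · show Ideal.quotEquivOfEq (pow_one J).symm (ψ x) ∈ _
      rw [hk x hx, map_zero]
      exact zero_mem _
  let seq : ∀ n, {χ : S →+* T ⧸ J ^ (n + 1) // P n χ} := fun n =>
    Nat.rec ⟨F0, hF0⟩ (fun n χ => ⟨(step n χ.1 χ.2).choose, (step n χ.1 χ.2).choose_spec.1⟩) n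
  have hseq : ∀ {n : ℕ}, (Ideal.Quotient.factor (Ideal.pow_le_pow_right (Nat.le_succ (n + 1)))).comp (seq (n + 1)).1 =
      (seq n).1 := fun {n} => (step n (seq n).1 (seq n).2).choose_spec.2
  have ha : StrictMono fun n : ℕ => n + 1 := fun _ _ h => Nat.succ_lt_succ h
  let χ := IsAdicComplete.StrictMono.liftRingHom J ha (fun n => (seq n).1) (fun {m} => hseq (n := m))
  have hχ : ∀ n x, Ideal.Quotient.mk (J ^ (n + 1)) (χ x) = (seq n).1 x := fun n x =>
    IsAdicComplete.StrictMono.mk_liftRingHom J ha (fun n => (seq n).1) (fun {m} => hseq (n := m)) x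
  refine ⟨χ, RingHom.ext fun r => ?_, RingHom.ext fun x => ?_⟩
  · rw [RingHom.comp_apply, ← sub_eq_zero]
    refine IsHausdorff.haus (inferInstance : IsHausdorff J T) _ fun n => ?_
    rw [SModEq.zero, smul_eq_mul, Ideal.mul_top]
    refine Ideal.pow_le_pow_right n.le_succ (Ideal.Quotient.eq.mp ((hχ n _).trans ?_))
    exact RingHom.congr_fun (seq n).2.1 r
  · apply (Ideal.quotEquivOfEq (pow_one J).symm).injective
    rw [RingHom.comp_apply, Ideal.quotEquivOfEq_mk]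
    exact (hχ 0 x).trans (RingHom.congr_fun (show (seq 0).1 = F0 from rfl) x)

theorem isAdicComplete_of_pow_eq_bot {T : Type u} [CommRing T] {J : Ideal T} {m : ℕ} (h : J ^ m = ⊥) :
    IsAdicComplete J T := by
  haveI : IsHausdorff J T := ⟨fun x hx => by
    have h1 := hx m
    rw [SModEq.zero, smul_eq_mul, Ideal.mul_top, h, Ideal.mem_bot] at h1
    exact h1⟩
  haveI : IsPrecomplete J T := ⟨fun f hf => ⟨f m, fun n => by
    rcases le_total n m with hnm | hmn
    · exact hf hnm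
    · have h1 := hf hmn
      rw [SModEq.sub_mem, smul_eq_mul, Ideal.mul_top, h, Ideal.mem_bot, sub_eq_zero] at h1
      rw [h1]⟩⟩
  constructor

/-- Lifting along nilpotent ideals. -/
theorem exists_lift_nilpotent (h : CAlgX.IsAdicFormallySmooth R S 𝔫) {T : Type u} [CommRing T] (f : R →+* T)
    (J : Ideal T) {m : ℕ} (hJ : J ^ m = ⊥) (ψ : S →+* T ⧸ J) (hψ : ψ.comp (algebraMap R S) = (Ideal.Quotient.mk J).comp f)
    (hk : ∃ k : ℕ, ∀ x ∈ 𝔫 ^ k, ψ x = 0) :
    ∃ χ : S →+* T, χ.comp (algebraMap R S) = f ∧ (Ideal.Quotient.mk J).comp χ = ψ :=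
  haveI := isAdicComplete_of_pow_eq_bot hJ
  exists_lift_complete h f J ψ hψ hk

end Groth.Agent.CAlgH.AdicSmooth
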