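import Mathlib
import Groth.Agent.CAlgH.AdicSmooth
import Groth.Agent.CAlgH.FlatQuotient

/-! Flat algebras with formally smooth fibre are formally smooth. -/
universe u
open TensorProduct

namespace Groth.Agent.CAlgH.AdicSmooth

section
variable {A C k C₀ : Type u} [CommRing A] [CommRing C] [Algebra A C] [CommRing k] [CommRing C₀] [Algebra k C₀]

/-- Elements of `Q ∩ 𝔪P` die: flatness and Artin-Rees. -/
theorem eval_eq_zero_of_mem_inf {P : Type u} [CommRing P] [Algebra A P] [Module.Flat A C] (π : P →ₐ[A] C)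
    (hπ : Function.Surjective π) (𝔪 : Ideal A) (Ic Ik : Ideal C)
    (hAR : Ik ⊓ 𝔪.map (algebraMap A C) ≤ 𝔪.map (algebraMap A C) * Ic)
    {T : Type u} [CommRing T] (f : A →+* T) (χ : P →+* T) (hf : χ.comp (algebraMap A P) = f) (J : Ideal T)
    (hmJ : 𝔪.map f * J = ⊥) (hχ : ∀ p : P, π p ∈ Ic → χ p ∈ J) (x : P) (hxk : π x ∈ Ik)
    (hxm : x ∈ 𝔪.map (algebraMap A P)) : χ x = 0 := by
  let mP := 𝔪.map (algebraMap A P)
  let Qc : Ideal P := Ic.comap π.toRingHom
  have hmap : mP.map π.toRingHom = 𝔪.map (algebraMap A C) := by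
    show Ideal.map π.toRingHom (Ideal.map (algebraMap A P) 𝔪) = _
    rw [Ideal.map_map]
    exact congrArg (fun g => Ideal.map g 𝔪) π.comp_algebraMap
  haveI : Module.Flat A (P ⧸ LinearMap.ker π.toLinearMap) :=
    Module.Flat.of_linearEquiv (π.toLinearMap.quotKerEquivOfSurjective hπ)
  have hKmP : ∀ z : P, π z = 0 → z ∈ mP → z ∈ mP * Qc := fun z hz hzm => by
    have h2 : z ∈ (LinearMap.ker π.toLinearMap) ⊓ (𝔪 • ⊤ : Submodule A P) := by
      refine ⟨hz, ?_⟩
      rw [Ideal.smul_top_eq_map]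
      exact hzm
    refine (Submodule.smul_le (P := (mP * Qc).restrictScalars A)).mpr (fun a ha y hy => ?_)
      (inf_smul_top_le_of_flat_quotient _ _ h2)
    show a • y ∈ mP * Qc
    rw [Algebra.smul_def]
    refine Ideal.mul_mem_mul (Ideal.mem_map_of_mem _ ha) ?_
    show π y ∈ Ic
    rw [show π y = 0 from hy]
    exact zero_mem _
  have h0 : π.toRingHom x ∈ mP.map π.toRingHom := Ideal.mem_map_of_mem _ hxm
  rw [hmap] at h0
  have h1 : π x ∈ (mP * Qc).map π.toRingHom := by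
    rw [Ideal.map_mul, hmap, Ideal.map_comap_of_surjective π.toRingHom hπ]
    exact hAR ⟨hxk, h0⟩
  obtain ⟨y, hy, hyx⟩ := (Ideal.mem_map_iff_of_surjective π.toRingHom hπ).mp h1
  have h2 : x ∈ mP * Qc := by
    have h3 := hKmP (x - y) (by rw [map_sub]; exact sub_eq_zero.mpr hyx.symm) (sub_mem hxm (Ideal.mul_le_left hy))
    simpa using add_mem h3 hy
  have h3 : (mP * Qc).map χ ≤ ⊥ := by
    rw [Ideal.map_mul, ← hmJ]
    refine Ideal.mul_mono ?_ (Ideal.map_le_iff_le_comap.mpr fun p hp => hχ p hp)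
    show Ideal.map χ (Ideal.map (algebraMap A P) 𝔪) ≤ _
    rw [Ideal.map_map, hf]
  exact h3 (Ideal.mem_map_of_mem χ h2)

/-- The key case: the square-zero ideal is killed by `ker α`. -/
theorem exists_lift_of_flat_killed [IsNoetherianRing C] [Module.Flat A C] (α : A →+* k) (hα : Function.Surjective α)
    (ρ : C →+* C₀) (hρ : Function.Surjective ρ) (hker : RingHom.ker ρ = (RingHom.ker α).map (algebraMap A C))
    (hcomm : ρ.comp (algebraMap A C) = (algebraMap k C₀).comp α) (𝔫 : Ideal C)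
    (h₀ : CAlgX.IsAdicFormallySmooth k C₀ (𝔫.map ρ))
    {T : Type u} [CommRing T] (f : A →+* T) (J : Ideal T) (hJ : J ^ 2 = ⊥)
    (hmJ : (RingHom.ker α).map f * J = ⊥) (ψ : C →+* T ⧸ J) (hψ : ψ.comp (algebraMap A C) = (Ideal.Quotient.mk J).comp f)
    (hk : ∃ c : ℕ, ∀ x ∈ 𝔫 ^ c, ψ x = 0) :
    ∃ χ : C →+* T, χ.comp (algebraMap A C) = f ∧ (Ideal.Quotient.mk J).comp χ = ψ := by
  classical
  obtain ⟨c, hc⟩ := hk
  let 𝔪 := RingHom.ker α
  obtain ⟨d, hd⟩ := Ideal.exists_pow_inf_eq_pow_smul 𝔫 (𝔪.map (algebraMap A C) : Submodule C C)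
  let k' := c + d
  have hAR : 𝔫 ^ k' ⊓ 𝔪.map (algebraMap A C) ≤ 𝔪.map (algebraMap A C) * 𝔫 ^ c := by
    have h1 := hd k' (Nat.le_add_left d c)
    simp only [smul_eq_mul, Ideal.mul_top] at h1 ⊢
    rw [h1, mul_comm]
    refine Ideal.mul_mono inf_le_right (Ideal.pow_le_pow_right ?_)
    omega
  -- a presentation
  let P := MvPolynomial C A
  let π : P →ₐ[A] C := MvPolynomial.aeval id
  have hπ : Function.Surjective π := fun x => ⟨MvPolynomial.X x, MvPolynomial.aeval_X _ _⟩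
  choose l hl using fun x : C => Ideal.Quotient.mk_surjective (ψ x)
  let χ : P →+* T := MvPolynomial.eval₂Hom f l
  have hχ : ∀ p, Ideal.Quotient.mk J (χ p) = ψ (π p) := fun p => RingHom.congr_fun
    (MvPolynomial.ringHom_ext (f := (Ideal.Quotient.mk J).comp χ) (g := ψ.comp π.toRingHom)
      (fun a => by
        show Ideal.Quotient.mk J (MvPolynomial.eval₂Hom f l (MvPolynomial.C a)) = ψ (π (MvPolynomial.C a))
        rw [MvPolynomial.eval₂Hom_C, show π (MvPolynomial.C a) = algebraMap A C a from π.commutes a]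
        exact (RingHom.congr_fun hψ a).symm)
      (fun x => by
        show Ideal.Quotient.mk J (MvPolynomial.eval₂Hom f l (MvPolynomial.X x)) = ψ (π (MvPolynomial.X x))
        rw [MvPolynomial.eval₂Hom_X', show π (MvPolynomial.X x) = x from MvPolynomial.aeval_X _ _, hl])) p
  let Qc : Ideal P := (𝔫 ^ c).comap π.toRingHom
  let Q : Ideal P := (𝔫 ^ k').comap π.toRingHom
  let mP : Ideal P := 𝔪.map (MvPolynomial.C (R := A) (σ := C))
  have hQc : Q ≤ Qc := Ideal.comap_mono (Ideal.pow_le_pow_right (Nat.le_add_right c d))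
  have hχQc : ∀ p ∈ Qc, χ p ∈ J := fun p hp => Ideal.Quotient.eq_zero_iff_mem.mp (by rw [hχ]; exact hc _ hp)
  have hmap : mP.map π.toRingHom = 𝔪.map (algebraMap A C) := by
    show Ideal.map π.toRingHom (Ideal.map (MvPolynomial.C (R := A) (σ := C)) 𝔪) = _
    rw [Ideal.map_map]
    exact congrArg (fun g => Ideal.map g 𝔪) π.comp_algebraMap
  have hzero : ∀ x ∈ Q ⊓ mP, χ x = 0 := fun x hx =>
    eval_eq_zero_of_mem_inf π hπ 𝔪 (𝔫 ^ c) (𝔫 ^ k') hAR f χ (MvPolynomial.eval₂Hom_comp_C f l) J hmJ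
      (fun p hp => hχQc p hp) x hx.1 hx.2
  -- the extension of the fibre
  let N₀ : Ideal P := Q ⊓ RingHom.ker χ
  let T₀ := P ⧸ (N₀ ⊔ mP)
  let J₀ : Ideal T₀ := (Q ⊔ mP).map (Ideal.Quotient.mk (N₀ ⊔ mP))
  have hJ₀ : J₀ ^ 2 = ⊥ := by
    show (Ideal.map _ _) ^ 2 = ⊥
    rw [← Ideal.map_pow, eq_bot_iff, Ideal.map_le_iff_le_comap, pow_two, Ideal.sup_mul, Ideal.mul_sup]
    have hle : ∀ z ∈ N₀ ⊔ mP, z ∈ Ideal.comap (Ideal.Quotient.mk (N₀ ⊔ mP)) ⊥ := fun z hz => by
      rw [Ideal.mem_comap, Ideal.mem_bot, Ideal.Quotient.eq_zero_iff_mem]; exact hz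
    refine sup_le (sup_le ?_ ?_) ?_
    · refine Ideal.mul_le.mpr fun a ha b hb => hle _ (Ideal.mem_sup_left ⟨Ideal.mul_mem_right _ _ ha, ?_⟩)
      show χ (a * b) = 0
      rw [map_mul]
      have h1 := Ideal.mul_mem_mul (hχQc a (hQc ha)) (hχQc b (hQc hb))
      rwa [← pow_two, hJ, Ideal.mem_bot] at h1
    · exact Ideal.mul_le.mpr fun a _ b hb => hle _ (Ideal.mem_sup_right (Ideal.mul_mem_left _ _ hb))
    · exact Ideal.mul_le.mpr fun a ha b _ => hle _ (Ideal.mem_sup_right (Ideal.mul_mem_right _ _ ha))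
  let f₀ : k →+* T₀ := RingHom.liftOfSurjective α hα
    ⟨(Ideal.Quotient.mk (N₀ ⊔ mP)).comp (MvPolynomial.C (R := A) (σ := C)), fun a ha =>
      Ideal.Quotient.eq_zero_iff_mem.mpr (Ideal.mem_sup_right (Ideal.mem_map_of_mem _ ha))⟩
  have hf₀ : ∀ a, f₀ (α a) = Ideal.Quotient.mk _ (MvPolynomial.C a) := fun a =>
    RingHom.liftOfRightInverse_comp_apply _ _ _ _ a
  let πb : P →+* C₀ := ρ.comp π.toRingHom
  have hπb : Function.Surjective πb := hρ.comp hπ
  let ψ₀ : C₀ →+* T₀ ⧸ J₀ := RingHom.liftOfSurjective πb hπb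
    ⟨(Ideal.Quotient.mk J₀).comp (Ideal.Quotient.mk (N₀ ⊔ mP)), fun p hp => by
      rw [RingHom.mem_ker, RingHom.comp_apply, Ideal.Quotient.eq_zero_iff_mem]
      refine Ideal.mem_map_of_mem _ ?_
      have h1 : π p ∈ mP.map π.toRingHom := by rw [hmap, ← hker]; exact hp
      obtain ⟨y, hy, hyp⟩ := (Ideal.mem_map_iff_of_surjective π.toRingHom hπ).mp h1
      have h2 : p - y ∈ Q := by
        show π (p - y) ∈ 𝔫 ^ k'
        rw [map_sub, show π y = π p from hyp, sub_self]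
        exact zero_mem _
      simpa using Ideal.add_mem _ (Ideal.mem_sup_left (T := mP) h2) (Ideal.mem_sup_right (S := Q) hy)⟩
  have hψ₀ : ∀ p, ψ₀ (πb p) = Ideal.Quotient.mk J₀ (Ideal.Quotient.mk _ p) := fun p =>
    RingHom.liftOfRightInverse_comp_apply _ _ _ _ p
  have hπbC : ∀ a, πb (MvPolynomial.C a) = algebraMap k C₀ (α a) := fun a => by
    show ρ (π (MvPolynomial.C a)) = _
    rw [show π (MvPolynomial.C a) = algebraMap A C a from π.commutes a]
    exact RingHom.congr_fun hcomm a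
  obtain ⟨s, hs1, hs2⟩ := exists_lift_ringHom h₀ f₀ J₀ hJ₀ ψ₀
    (RingHom.ext fun y => by
      obtain ⟨a, rfl⟩ := hα y
      rw [RingHom.comp_apply, RingHom.comp_apply, ← hπbC, hψ₀, hf₀])
    ⟨k', fun x hx => by
      rw [← Ideal.map_pow] at hx
      obtain ⟨y, hy, rfl⟩ := (Ideal.mem_map_iff_of_surjective ρ hρ).mp hx
      obtain ⟨p, rfl⟩ := hπ y
      show ψ₀ (πb p) = 0
      rw [hψ₀, Ideal.Quotient.eq_zero_iff_mem]
      exact Ideal.mem_map_of_mem _ (Ideal.mem_sup_left hy)⟩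
  have hadj : ∀ x : C, ∃ q ∈ Q, s (ρ x) = Ideal.Quotient.mk (N₀ ⊔ mP) (MvPolynomial.X x + q) := fun x => by
    obtain ⟨w, hw⟩ := Ideal.Quotient.mk_surjective (s (ρ x))
    have h1 : Ideal.Quotient.mk J₀ (Ideal.Quotient.mk _ w) = Ideal.Quotient.mk J₀ (Ideal.Quotient.mk _ (MvPolynomial.X x)) := by
      rw [hw, show ρ x = πb (MvPolynomial.X x) from (congrArg ρ (MvPolynomial.aeval_X (id : C → C) x)).symm]
      exact (RingHom.congr_fun hs2 _).trans (hψ₀ _)
    rw [Ideal.Quotient.eq, ← map_sub, Ideal.mem_map_iff_of_surjective _ Ideal.Quotient.mk_surjective] at h1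
    obtain ⟨z, hz, hzeq⟩ := h1
    obtain ⟨q, hq, b, hb, rfl⟩ := Submodule.mem_sup.mp hz
    refine ⟨q, hq, ?_⟩
    rw [map_add, Ideal.Quotient.eq_zero_iff_mem.mpr (Ideal.mem_sup_right hb), add_zero, map_sub] at hzeq
    rw [map_add, hzeq, ← hw]
    ring
  choose q hq hsq using hadj
  let σ : P →ₐ[A] P := MvPolynomial.aeval fun x => MvPolynomial.X x + q x
  have hσs : ∀ p, Ideal.Quotient.mk (N₀ ⊔ mP) (σ p) = s (πb p) := fun p => RingHom.congr_fun
    (MvPolynomial.ringHom_ext (f := (Ideal.Quotient.mk (N₀ ⊔ mP)).comp σ.toRingHom) (g := s.comp πb)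
      (fun a => by
        simp only [RingHom.comp_apply]
        rw [hπbC, show s (algebraMap k C₀ (α a)) = f₀ (α a) from RingHom.congr_fun hs1 _, hf₀]
        exact congrArg _ (σ.commutes a))
      (fun x => by
        simp only [RingHom.comp_apply]
        rw [show σ.toRingHom (MvPolynomial.X x) = MvPolynomial.X x + q x from MvPolynomial.aeval_X _ _, ← hsq,
          show πb (MvPolynomial.X x) = ρ x from congrArg ρ (MvPolynomial.aeval_X (id : C → C) x)])) p
  have hσQ : ∀ p, π (σ p) - π p ∈ 𝔫 ^ k' := fun p => Ideal.Quotient.eq.mp (RingHom.congr_fun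
    (MvPolynomial.ringHom_ext (f := ((Ideal.Quotient.mk (𝔫 ^ k')).comp π.toRingHom).comp σ.toRingHom)
      (g := (Ideal.Quotient.mk (𝔫 ^ k')).comp π.toRingHom)
      (fun a => congrArg (fun z => Ideal.Quotient.mk (𝔫 ^ k') (π z)) (σ.commutes a))
      (fun x => by
        simp only [RingHom.comp_apply]
        rw [show σ.toRingHom (MvPolynomial.X x) = MvPolynomial.X x + q x from MvPolynomial.aeval_X _ _, map_add, map_add, Ideal.Quotient.eq_zero_iff_mem.mpr (show π.toRingHom (q x) ∈ 𝔫 ^ k' from hq x), add_zero])) p)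
  have hkill : RingHom.ker π.toRingHom ≤ RingHom.ker (χ.comp σ.toRingHom) := fun r hr => by
    have hr0 : π r = 0 := hr
    have h1 : σ r ∈ N₀ ⊔ mP := Ideal.Quotient.eq_zero_iff_mem.mp (by
      rw [hσs]; show s (ρ (π r)) = 0; rw [hr0, map_zero, map_zero])
    obtain ⟨a, ha, b, hb, hab⟩ := Submodule.mem_sup.mp h1
    have hσr : σ r ∈ Q := by
      show π (σ r) ∈ 𝔫 ^ k'
      simpa [hr0] using hσQ r
    have hbQ : b ∈ Q := by simpa [← hab] using sub_mem hσr ha.1
    show χ (σ r) = 0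
    rw [← hab, map_add, show χ a = 0 from ha.2, hzero b ⟨hbQ, hb⟩, add_zero]
  refine ⟨RingHom.liftOfSurjective π.toRingHom hπ ⟨χ.comp σ.toRingHom, hkill⟩, RingHom.ext fun a => ?_,
    RingHom.ext fun y => ?_⟩
  · have h := RingHom.liftOfRightInverse_comp_apply π.toRingHom _ (Function.rightInverse_surjInv hπ)
      ⟨χ.comp σ.toRingHom, hkill⟩ (MvPolynomial.C a)
    rw [show π.toRingHom (MvPolynomial.C a) = algebraMap A C a from π.commutes a] at h
    refine h.trans ?_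
    show χ (σ (MvPolynomial.C a)) = f a
    rw [show σ (MvPolynomial.C a) = MvPolynomial.C a from σ.commutes a]
    exact MvPolynomial.eval₂Hom_C f l a
  · obtain ⟨p, rfl⟩ := hπ y
    have h := RingHom.liftOfRightInverse_comp_apply π.toRingHom _ (Function.rightInverse_surjInv hπ)
      ⟨χ.comp σ.toRingHom, hkill⟩ p
    refine (congrArg _ h).trans ?_
    show Ideal.Quotient.mk J (χ (σ p)) = ψ (π p)
    rw [hχ, ← sub_eq_zero, ← map_sub]
    exact hc _ (Ideal.pow_le_pow_right (Nat.le_add_right c d) (hσQ p))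

/-- A flat algebra with formally smooth fibre is formally smooth. -/
theorem of_flat_of_fibre [IsNoetherianRing C] [Module.Flat A C] (α : A →+* k) (hα : Function.Surjective α)
    (ρ : C →+* C₀) (hρ : Function.Surjective ρ) (hker : RingHom.ker ρ = (RingHom.ker α).map (algebraMap A C))
    (hcomm : ρ.comp (algebraMap A C) = (algebraMap k C₀).comp α) (𝔫 : Ideal C)
    (hle : (RingHom.ker α).map (algebraMap A C) ≤ 𝔫)
    (h₀ : CAlgX.IsAdicFormallySmooth k C₀ (𝔫.map ρ)) : CAlgX.IsAdicFormallySmooth A C 𝔫 := by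
  refine of_ringHom fun T _ f J hJ ψ hψ ⟨c, hc⟩ => ?_
  let 𝔪 := RingHom.ker α
  have key : ∀ (j : ℕ) (T : Type u) (_ : CommRing T) (f : A →+* T) (J : Ideal T), J ^ 2 = ⊥ →
      (𝔪.map f) ^ j * J = ⊥ → ∀ (ψ : C →+* T ⧸ J), ψ.comp (algebraMap A C) = (Ideal.Quotient.mk J).comp f →
      (∃ c : ℕ, ∀ x ∈ 𝔫 ^ c, ψ x = 0) →
      ∃ χ : C →+* T, χ.comp (algebraMap A C) = f ∧ (Ideal.Quotient.mk J).comp χ = ψ := by
    intro j
    induction j with
    | zero =>
      intro T _ f J hJ hm ψ hψ hk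
      exact exists_lift_of_flat_killed α hα ρ hρ hker hcomm 𝔫 h₀ f J hJ (eq_bot_iff.mpr (by
        rw [pow_zero, one_mul] at hm
        rw [hm, Ideal.mul_bot])) ψ hψ hk
    | succ j ih =>
      intro T _ f J hJ hm ψ hψ hk
      obtain ⟨c, hc⟩ := hk
      let K := (𝔪.map f) ^ j * J
      have hKJ : K ≤ J := Ideal.mul_le_right
      let q := Ideal.Quotient.mk K
      let J' := J.map q
      have hJ' : J' ^ 2 = ⊥ := by
        show (Ideal.map _ _) ^ 2 = ⊥
        rw [← Ideal.map_pow, hJ, Ideal.map_bot]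
      let e : T ⧸ J →+* (T ⧸ K) ⧸ J' := Ideal.Quotient.lift J ((Ideal.Quotient.mk J').comp q) fun t ht =>
        Ideal.Quotient.eq_zero_iff_mem.mpr (Ideal.mem_map_of_mem q ht)
      obtain ⟨χ₁, h1, h2⟩ := ih (T ⧸ K) inferInstance (q.comp f) J' hJ' (by
        show _ * Ideal.map q J = ⊥
        rw [← Ideal.map_map, ← Ideal.map_pow, ← Ideal.map_mul]
        exact Ideal.map_quotient_self K) (e.comp ψ)
        (RingHom.ext fun a => by
          show e (ψ (algebraMap A C a)) = _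
          rw [show ψ (algebraMap A C a) = Ideal.Quotient.mk J (f a) from RingHom.congr_fun hψ a]
          rfl)
        ⟨c, fun x hx => by show e (ψ x) = 0; rw [hc x hx, map_zero]⟩
      have hkill : ∀ x ∈ 𝔫 ^ (c * 2), χ₁ x = 0 := fun x hx => by
        have hsub : (𝔫 ^ c).map χ₁ ≤ J' := Ideal.map_le_iff_le_comap.mpr fun y hy => by
          show χ₁ y ∈ J'
          rw [← Ideal.Quotient.eq_zero_iff_mem, show Ideal.Quotient.mk J' (χ₁ y) = e (ψ y) from RingHom.congr_fun h2 y,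
            hc y hy, map_zero]
        have h3 : χ₁ x ∈ ((𝔫 ^ c).map χ₁) ^ 2 := by
          rw [← Ideal.map_pow, ← pow_mul]; exact Ideal.mem_map_of_mem _ hx
        have h4 := Ideal.pow_right_mono hsub 2 h3
        rwa [hJ', Ideal.mem_bot] at h4
      obtain ⟨χ, h5, h6⟩ := exists_lift_of_flat_killed α hα ρ hρ hker hcomm 𝔫 h₀ f K
        (eq_bot_iff.mpr ((Ideal.pow_right_mono hKJ 2).trans hJ.le))
        (eq_bot_iff.mpr (by
          show Ideal.map f 𝔪 * (Ideal.map f 𝔪 ^ j * J) ≤ ⊥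
          rw [← mul_assoc, ← pow_succ']
          exact hm.le)) χ₁ h1 ⟨_, hkill⟩
      refine ⟨χ, h5, RingHom.ext fun x => ?_⟩
      have h7 : e (Ideal.Quotient.mk J (χ x)) = e (ψ x) := by
        rw [← show Ideal.Quotient.mk J' (χ₁ x) = e (ψ x) from RingHom.congr_fun h2 x,
          ← show q (χ x) = χ₁ x from RingHom.congr_fun h6 x]
        rfl
      obtain ⟨t, ht⟩ := Ideal.Quotient.mk_surjective (ψ x)
      rw [← ht] at h7
      change Ideal.Quotient.mk J' (q (χ x)) = Ideal.Quotient.mk J' (q t) at h7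
      rw [Ideal.Quotient.eq, ← map_sub, ← Ideal.mem_comap, Ideal.comap_map_of_surjective _ Ideal.Quotient.mk_surjective,
        ← RingHom.ker_eq_comap_bot, Ideal.mk_ker, sup_eq_left.mpr hKJ] at h7
      rw [RingHom.comp_apply, ← ht]
      exact Ideal.Quotient.eq.mpr h7
  refine key c T inferInstance f J hJ ?_ ψ hψ ⟨c, hc⟩
  have hsub : (𝔪.map f) ^ c ≤ J := by
    rw [← Ideal.map_pow, Ideal.map_le_iff_le_comap]
    intro a ha
    show f a ∈ J
    rw [← Ideal.Quotient.eq_zero_iff_mem, show Ideal.Quotient.mk J (f a) = ψ (algebraMap A C a) from (RingHom.congr_fun hψ a).symm]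
    refine hc _ (Ideal.pow_right_mono hle c ?_)
    rw [← Ideal.map_pow]
    exact Ideal.mem_map_of_mem _ ha
  exact eq_bot_iff.mpr ((Ideal.mul_mono_left hsub).trans (by rw [← pow_two, hJ]))

end
end Groth.Agent.CAlgH.AdicSmooth
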