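import Mathlib
import Groth.Agent.CAlgH.AdicSmooth
import Groth.Agent.CAlgH.GRingFiniteType
import Groth.Agent.CAlgH.GRingRegular
import Groth.Agent.CAlgH.RegularLocalField
import Groth.Agent.CAlgH3.CompleteHom
import Groth.Agent.CAlgH.FieldSmooth
import Groth.Agent.S9604
import Groth.Agent.S19474

/-! Adic formal smoothness over fields: regularity. -/
universe u
open IsLocalRing TensorProduct

namespace Groth.Agent.CAlgH.AdicSmooth

theorem isAdicComplete_pow {T : Type u} [CommRing T] (J : Ideal T) [h : IsAdicComplete J T] (c : ℕ) (hc : c ≠ 0) :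
    IsAdicComplete (J ^ c) T :=
  (Groth.Agent.S9604.result J (J ^ c) c 1 (Nat.pos_of_ne_zero hc) Nat.one_pos le_rfl
    (by rw [pow_one]; exact Ideal.pow_le_self hc) T).mp h

theorem isRegularRing_of_maximals (R : Type u) [CommRing R] [IsNoetherianRing R]
    (h : ∀ (m : Ideal R) [m.IsMaximal], IsRegularLocalRing (Localization.AtPrime m)) : IsRegularRing R := by
  refine isRegularRing_iff.2 fun p hp => ?_
  obtain ⟨m, hm, hpm⟩ := Ideal.exists_le_maximal p hp.ne_top
  haveI := h m
  haveI : IsRegularRing (Localization.AtPrime m) := CAlgH3.isRegularRing_of_isRegularLocalRing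
  let A := Localization.AtPrime m
  have hdisj : Disjoint (m.primeCompl : Set R) (p : Set R) := by
    rw [Set.disjoint_left]
    exact fun x hx hxp => hx (hpm hxp)
  let p' := p.map (algebraMap R A)
  haveI : p'.IsPrime := IsLocalization.isPrime_of_isPrime_disjoint m.primeCompl A p inferInstance hdisj
  have hp' : p'.comap (algebraMap R A) = p := IsLocalization.comap_map_of_isPrime_disjoint m.primeCompl A inferInstance hdisj
  haveI : IsLocalization.AtPrime (Localization.AtPrime p') p := by
    have h1 := IsLocalization.isLocalization_isLocalization_atPrime_isLocalization m.primeCompl (Localization.AtPrime p') p'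
    have hcongr : ∀ (I : Ideal R) [I.IsPrime], I = p → IsLocalization.AtPrime (Localization.AtPrime p') I →
        IsLocalization.AtPrime (Localization.AtPrime p') p := fun I _ hI hl => by subst hI; exact hl
    exact hcongr _ hp' h1
  exact IsRegularLocalRing.of_ringEquiv (R := Localization.AtPrime p')
    (IsLocalization.algEquiv p.primeCompl (Localization.AtPrime p') (Localization.AtPrime p)).toRingEquiv

theorem le_ringKrullDim_mvPowerSeries (K : Type u) [Field K] : ∀ d : ℕ, (d : WithBot ℕ∞) ≤ ringKrullDim (MvPowerSeries (Fin d) K) := by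
  intro d
  induction d with
  | zero => simpa using ringKrullDim_nonneg_of_nontrivial
  | succ n ih =>
    rw [← ringKrullDim_eq_of_ringEquiv (MvPowerSeries.finSuccEquiv K n).toRingEquiv.symm, Nat.cast_succ]
    exact (add_le_add ih le_rfl).trans ringKrullDim_succ_le_ringKrullDim_powerseries

/-- Maps out of a power series ring agreeing on constants and variables agree, when the variables are nilpotent. -/
theorem mvPowerSeries_hom_ext {K T : Type u} [Field K] [CommRing T] {d : ℕ} (g g' : MvPowerSeries (Fin d) K →+* T)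
    (hC : g.comp MvPowerSeries.C = g'.comp MvPowerSeries.C)
    (hX : ∀ i, g (MvPowerSeries.X i) = g' (MvPowerSeries.X i))
    (I : Ideal T) (hI : ∀ i, g (MvPowerSeries.X i) ∈ I) {N : ℕ} (hN : I ^ N = ⊥) : g = g' := by
  have key : ∀ n, ∀ f, g f - g' f ∈ I ^ n := by
    intro n
    induction n with
    | zero => intro f; simp
    | succ n ih =>
      intro f
      obtain ⟨c, hc⟩ := CAlgH3.exists_eq_sum_X (f - MvPowerSeries.C (MvPowerSeries.constantCoeff f)) (by
        rw [MvPowerSeries.isUnit_iff_constantCoeff]; simp)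
      have hCf : g (MvPowerSeries.C (MvPowerSeries.constantCoeff f)) = g' (MvPowerSeries.C (MvPowerSeries.constantCoeff f)) :=
        RingHom.congr_fun hC _
      have h1 : g f - g' f = ∑ i, (g (c i) - g' (c i)) * g (MvPowerSeries.X i) := by
        have h2 := congrArg g hc
        have h3 := congrArg g' hc
        simp only [map_sum, map_mul, map_sub, ← hX] at h2 h3
        simp only [sub_mul, Finset.sum_sub_distrib, h2, h3, hCf]
        ring
      rw [h1, pow_succ]
      exact Ideal.sum_mem _ fun i _ => Ideal.mul_mem_mul (ih (c i)) (hI i)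
  refine RingHom.ext fun f => ?_
  have := key N f
  rwa [hN, Ideal.mem_bot, sub_eq_zero] at this

variable {k : Type u} [Field k] {A : Type u} [CommRing A] [IsLocalRing A] [Algebra k A]

/-- A coefficient field modulo the square of the maximal ideal. -/
theorem exists_jet [IsNoetherianRing A] [PerfectField k] :
    ∃ (d : ℕ) (ψ : A →+* MvPowerSeries (Fin d) (ResidueField A) ⧸ maximalIdeal (MvPowerSeries (Fin d) (ResidueField A)) ^ 2),
      (maximalIdeal A).spanFinrank = d ∧
      ψ.comp (algebraMap k A) = (Ideal.Quotient.mk _).comp (MvPowerSeries.C.comp (algebraMap k (ResidueField A))) ∧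
      Function.Surjective ψ ∧ RingHom.ker ψ = maximalIdeal A ^ 2 := by
  classical
  let K := ResidueField A
  let W := A ⧸ maximalIdeal A ^ 2
  let π : A →+* W := Ideal.Quotient.mk _
  let I : Ideal W := (maximalIdeal A).map π
  have hI2 : I ^ 2 = ⊥ := by rw [← Ideal.map_pow]; exact Ideal.map_quotient_self _
  haveI := isAdicComplete_of_pow_eq_bot hI2
  haveI : Algebra.FormallySmooth k K := formallySmooth_of_perfectField_any k K
  let q : W →+* K := Ideal.Quotient.lift _ (residue A) fun a ha =>
    (residue_eq_zero_iff a).mpr (Ideal.pow_le_self (by norm_num) ha)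
  have hqker : ∀ w, q w = 0 → w ∈ I := fun w hw => by
    obtain ⟨a, rfl⟩ := Ideal.Quotient.mk_surjective w
    exact Ideal.mem_map_of_mem _ ((residue_eq_zero_iff a).mp hw)
  let eW : K →+* W ⧸ I := Ideal.Quotient.lift (maximalIdeal A) ((Ideal.Quotient.mk I).comp π) fun a ha =>
    Ideal.Quotient.eq_zero_iff_mem.mpr (Ideal.mem_map_of_mem π ha)
  obtain ⟨s, hs1, hs2⟩ := exists_lift_ringHom (of_formallySmooth (R := k) (S := K) (𝔫 := ⊥)) (π.comp (algebraMap k A))
    I hI2 eW rfl ⟨1, fun x hx => by rw [pow_one, Ideal.mem_bot] at hx; rw [hx, map_zero]⟩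
  have hqs : ∀ c, q (s c) = c := fun c => by
    obtain ⟨a, rfl⟩ := residue_surjective c
    have h1 : s (residue A a) - π a ∈ I := Ideal.Quotient.eq.mp (RingHom.congr_fun hs2 _)
    obtain ⟨b, hb, hbe⟩ := (Ideal.mem_map_iff_of_surjective π Ideal.Quotient.mk_surjective).mp h1
    have h2 := congrArg q hbe
    rw [map_sub] at h2
    change residue A b = q (s (residue A a)) - residue A a at h2
    rw [(residue_eq_zero_iff b).mpr hb, eq_comm, sub_eq_zero] at h2
    exact h2
  obtain ⟨x, hx⟩ : ∃ x : Fin (maximalIdeal A).spanFinrank → A, Ideal.span (Set.range x) = maximalIdeal A := by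
    obtain ⟨t, ht, htspan⟩ := Submodule.FG.exists_span_finset_card_eq_spanFinrank (IsNoetherian.noetherian (maximalIdeal A))
    let e := t.equivFin.trans (finCongr ht)
    refine ⟨fun i => (e.symm i : A), ?_⟩
    rw [show Set.range (fun i => (e.symm i : A)) = (t : Set A) from ?_]
    · exact htspan
    · ext a
      exact ⟨fun ⟨i, hi⟩ => hi ▸ (e.symm i).2, fun ha => ⟨e ⟨a, ha⟩, by simp⟩⟩
  let R := MvPowerSeries (Fin (maximalIdeal A).spanFinrank) K
  obtain ⟨g, hgC, hgX⟩ := exists_mvPowerSeries_eval s I (fun i => π (x i)) fun i =>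
    Ideal.mem_map_of_mem _ (hx ▸ Ideal.subset_span ⟨i, rfl⟩)
  have hgC' : ∀ c, g (MvPowerSeries.C c) = s c := RingHom.congr_fun hgC
  have hn : maximalIdeal R = Ideal.span (Set.range MvPowerSeries.X) := CAlgH3.maximalIdeal_mvPowerSeries_eq
  have hI' : I = Ideal.span (Set.range fun i => π (x i)) :=
    (congrArg (Ideal.map π) hx.symm).trans (by rw [Ideal.map_span, ← Set.range_comp]; rfl)
  have hgn : (maximalIdeal R).map g = I := by
    rw [hn, Ideal.map_span, ← Set.range_comp, hI']
    exact congrArg (fun v => Ideal.span (Set.range v)) (funext hgX)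
  have hdec : ∀ w : W, ∃ f : R, g f = w := fun w => by
    have hw : w - g (MvPowerSeries.C (q w)) ∈ I := hqker _ (by rw [map_sub, hgC', hqs, sub_self])
    have hmem : ∀ y ∈ I, ∃ f : R, g f = y := fun y hy => by
      have hy' : y ∈ Ideal.span (Set.range fun i => π (x i)) := by
        rwa [← hI']
      obtain ⟨b, rfl⟩ := Ideal.mem_span_range_iff_exists_fun.mp hy'
      refine ⟨∑ i, MvPowerSeries.C (q (b i)) * MvPowerSeries.X i, ?_⟩
      rw [map_sum]
      refine Finset.sum_congr rfl fun i _ => ?_
      rw [map_mul, hgX, hgC', ← sub_eq_zero, ← sub_mul]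
      have h1 := Ideal.mul_mem_mul (hqker (s (q (b i)) - b i) (by rw [map_sub, hqs, sub_self]))
        (Ideal.mem_map_of_mem π (hx ▸ Ideal.subset_span ⟨i, rfl⟩ : x i ∈ maximalIdeal A))
      rwa [← pow_two, hI2, Ideal.mem_bot] at h1
    obtain ⟨f, hf⟩ := hmem _ hw
    exact ⟨f + MvPowerSeries.C (q w), by rw [map_add, hf, sub_add_cancel]⟩
  have hker : RingHom.ker g = maximalIdeal R ^ 2 := by
    refine le_antisymm (fun f hf => ?_) ?_
    · have hqg : q (g f) = MvPowerSeries.constantCoeff f := by
        have h1 : f - MvPowerSeries.C (MvPowerSeries.constantCoeff f) ∈ maximalIdeal R := by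
          rw [mem_maximalIdeal, mem_nonunits_iff, MvPowerSeries.isUnit_iff_constantCoeff]; simp
        have h2 : g (f - MvPowerSeries.C (MvPowerSeries.constantCoeff f)) ∈ I := hgn ▸ Ideal.mem_map_of_mem g h1
        obtain ⟨b, hb, hbe⟩ := (Ideal.mem_map_iff_of_surjective π Ideal.Quotient.mk_surjective).mp h2
        have h3 := congrArg q hbe
        rw [map_sub g, hgC', map_sub, hqs, show q (π b) = residue A b from rfl, (residue_eq_zero_iff b).mpr hb] at h3
        exact sub_eq_zero.mp h3.symm
      rw [RingHom.mem_ker] at hf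
      rw [hf, map_zero] at hqg
      obtain ⟨c, hc⟩ := CAlgH3.exists_eq_sum_X f (by rw [MvPowerSeries.isUnit_iff_constantCoeff, ← hqg]; simp)
      choose a ha using fun i => residue_surjective (MvPowerSeries.constantCoeff (c i))
      have hterm : ∀ i, g (c i) * π (x i) = π (a i * x i) := fun i => by
        rw [map_mul, ← sub_eq_zero, ← sub_mul]
        have h1 : g (c i) - π (a i) ∈ I := hqker _ (by
          rw [map_sub, sub_eq_zero, show q (π (a i)) = residue A (a i) from rfl, ha]
          have h2 : c i - MvPowerSeries.C (MvPowerSeries.constantCoeff (c i)) ∈ maximalIdeal R := by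
            rw [mem_maximalIdeal, mem_nonunits_iff, MvPowerSeries.isUnit_iff_constantCoeff]; simp
          have h3 : g (c i - MvPowerSeries.C (MvPowerSeries.constantCoeff (c i))) ∈ I := hgn ▸ Ideal.mem_map_of_mem g h2
          obtain ⟨b, hb, hbe⟩ := (Ideal.mem_map_iff_of_surjective π Ideal.Quotient.mk_surjective).mp h3
          have h4 := congrArg q hbe
          rw [map_sub g, hgC', map_sub, hqs, show q (π b) = residue A b from rfl, (residue_eq_zero_iff b).mpr hb] at h4
          exact sub_eq_zero.mp h4.symm)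
        have h5 := Ideal.mul_mem_mul h1 (Ideal.mem_map_of_mem π (hx ▸ Ideal.subset_span ⟨i, rfl⟩ : x i ∈ maximalIdeal A))
        rwa [← pow_two, hI2, Ideal.mem_bot] at h5
      have hzero : ∑ i, a i * x i ∈ maximalIdeal A ^ 2 := by
        rw [← Ideal.Quotient.eq_zero_iff_mem, map_sum]
        have h1 := congrArg g hc
        rw [hf, map_sum] at h1
        simp only [map_mul, hgX] at h1
        rw [← h1]
        exact Finset.sum_congr rfl fun i _ => (hterm i).symm
      have hli : LinearIndependent K fun i => (maximalIdeal A).toCotangent ⟨x i, hx ▸ Ideal.subset_span ⟨i, rfl⟩⟩ := by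
        refine linearIndependent_of_top_le_span_of_card_eq_finrank (le_of_eq ?_) ?_
        · symm
          rw [eq_top_iff]
          rintro v -
          obtain ⟨⟨y, hy⟩, rfl⟩ := Ideal.toCotangent_surjective _ v
          have hy' : y ∈ Ideal.span (Set.range x) := hx.symm ▸ hy
          obtain ⟨b, hb⟩ := Ideal.mem_span_range_iff_exists_fun.mp hy'
          have : (maximalIdeal A).toCotangent ⟨y, hy⟩ =
              ∑ i, residue A (b i) • (maximalIdeal A).toCotangent ⟨x i, hx ▸ Ideal.subset_span ⟨i, rfl⟩⟩ := by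
            rw [show (⟨y, hy⟩ : maximalIdeal A) = ∑ i, b i • ⟨x i, hx ▸ Ideal.subset_span ⟨i, rfl⟩⟩ from
              Subtype.ext (by simp [hb]), map_sum]
            refine Finset.sum_congr rfl fun i _ => ?_
            rw [map_smul]
            exact (algebraMap_smul K (b i) _).symm
          rw [this]
          exact Submodule.sum_mem _ fun i _ => Submodule.smul_mem _ _ (Submodule.subset_span ⟨i, rfl⟩)
        · rw [Fintype.card_fin, spanFinrank_maximalIdeal_eq_finrank_cotangentSpace]
      have hall : ∀ i, residue A (a i) = 0 := by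
        refine Fintype.linearIndependent_iff.mp hli (fun i => residue A (a i)) ?_
        have h1 : (maximalIdeal A).toCotangent (∑ i, a i • ⟨x i, hx ▸ Ideal.subset_span ⟨i, rfl⟩⟩) = 0 := by
          rw [Ideal.toCotangent_eq_zero]
          simpa using hzero
        rw [map_sum] at h1
        rw [← h1]
        refine Finset.sum_congr rfl fun i _ => ?_
        rw [map_smul]
        exact algebraMap_smul K (a i) _
      rw [pow_two, ← hc]
      refine Ideal.sum_mem _ fun i _ => Ideal.mul_mem_mul ?_ ?_
      · rw [mem_maximalIdeal, mem_nonunits_iff, MvPowerSeries.isUnit_iff_constantCoeff, ← ha, hall]; simp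
      · rw [hn]; exact Ideal.subset_span ⟨i, rfl⟩
    · rw [RingHom.ker_eq_comap_bot, ← Ideal.map_le_iff_le_comap, Ideal.map_pow, hgn, hI2]
  let e := RingHom.quotientKerEquivOfSurjective (f := g) hdec
  let e' : R ⧸ maximalIdeal R ^ 2 ≃+* W := (Ideal.quotEquivOfEq hker.symm).trans e
  have he' : ∀ f, e' (Ideal.Quotient.mk _ f) = g f := fun f => rfl
  refine ⟨_, e'.symm.toRingHom.comp π, rfl, RingHom.ext fun c => e'.injective ?_,
    e'.symm.surjective.comp Ideal.Quotient.mk_surjective, ?_⟩
  · show e' (e'.symm (π (algebraMap k A c))) = e' (Ideal.Quotient.mk _ (MvPowerSeries.C (algebraMap k K c)))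
    rw [e'.apply_symm_apply, he', hgC']
    exact (RingHom.congr_fun hs1 c).symm
  · ext a
    rw [RingHom.mem_ker, RingHom.comp_apply]
    exact (map_eq_zero_iff _ e'.symm.injective).trans Ideal.Quotient.eq_zero_iff_mem

/-- Formally smooth Noetherian local algebras over a perfect field are regular. -/
theorem isRegularLocalRing_of_perfect [IsNoetherianRing A] [PerfectField k]
    (h : CAlgX.IsAdicFormallySmooth k A (maximalIdeal A)) : IsRegularLocalRing A := by
  obtain ⟨d, ψ, hd, hψk, hψs, hψker⟩ := exists_jet (k := k) (A := A)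
  let K := ResidueField A
  let R := MvPowerSeries (Fin d) K
  haveI : IsRegularLocalRing R := (isRegularLocalRing_mvPowerSeries K d).1
  haveI : IsAdicComplete (maximalIdeal R) R := by
    rw [CAlgH3.maximalIdeal_mvPowerSeries_eq]; exact isAdicComplete_mvPowerSeries _ _
  haveI := isAdicComplete_pow (maximalIdeal R) 2 (by norm_num)
  obtain ⟨χ, -, hχ⟩ := exists_lift_complete h (MvPowerSeries.C.comp (algebraMap k K)) (maximalIdeal R ^ 2) ψ hψk
    ⟨2, fun x hx => by rw [← hψker] at hx; exact hx⟩
  have hχ' : ∀ a, Ideal.Quotient.mk (maximalIdeal R ^ 2) (χ a) = ψ a := RingHom.congr_fun hχ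
  have hnle : ∀ r ∈ maximalIdeal R, ∃ a ∈ maximalIdeal A, χ a - r ∈ maximalIdeal R ^ 2 := fun r hr => by
    obtain ⟨a, ha⟩ := hψs (Ideal.Quotient.mk _ r)
    rw [← hχ'] at ha
    refine ⟨a, ?_, Ideal.Quotient.eq.mp ha⟩
    by_contra hu
    have hua : IsUnit a := by
      by_contra hu'; exact hu hu'
    have h1 : χ a ∈ maximalIdeal R := by
      simpa using add_mem (Ideal.pow_le_self two_ne_zero (Ideal.Quotient.eq.mp ha)) hr
    exact h1 (hua.map χ)
  have hloc : (maximalIdeal A).map χ ≤ maximalIdeal R := Ideal.map_le_iff_le_comap.mpr fun a ha => by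
    show χ a ∈ maximalIdeal R
    refine (maximalIdeal.isMaximal R).isPrime.mem_of_pow_mem 2 ?_
    rw [← map_pow]
    have h1 : ψ (a ^ 2) = 0 := by rw [← RingHom.mem_ker, hψker]; exact Ideal.pow_mem_pow ha 2
    rw [← hχ', Ideal.Quotient.eq_zero_iff_mem] at h1
    exact Ideal.pow_le_self two_ne_zero h1
  haveI : IsNoetherianRing (EGA4.Cpl A) := Groth.Agent.Matlis6.isNoetherianRing_adicCompletion _
  let F : (n : ℕ) → EGA4.Cpl A →+* R ⧸ maximalIdeal R ^ n := fun n =>
    (Ideal.quotientMap (maximalIdeal R ^ n) χ (by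
      rw [← Ideal.map_le_iff_le_comap, Ideal.map_pow]; exact Ideal.pow_right_mono hloc n)).comp
      (AdicCompletion.evalₐ (maximalIdeal A) n).toRingHom
  have hF : ∀ {i j : ℕ} (hij : i ≤ j), (Ideal.Quotient.factorPow (maximalIdeal R) hij).comp (F j) = F i := by
    intro i j hij
    refine RingHom.ext fun x => ?_
    induction x using AdicCompletion.induction_on with
    | _ g =>
      simp only [F, RingHom.comp_apply, AlgHom.toRingHom_eq_coe, RingHom.coe_coe, AdicCompletion.evalₐ_mk]
      have := congrArg (Ideal.quotientMap (maximalIdeal R ^ i) χ (by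
        rw [← Ideal.map_le_iff_le_comap, Ideal.map_pow]; exact Ideal.pow_right_mono hloc i))
        (AdicCompletion.Ideal.mk_eq_mk (maximalIdeal A) hij g)
      simpa [Ideal.quotientMap_mk] using this
  let χh : EGA4.Cpl A →+* R := IsAdicComplete.liftRingHom (maximalIdeal R) F hF
  have hχh : ∀ a, χh (algebraMap A (EGA4.Cpl A) a) = χ a := fun a => by
    refine IsHausdorff.eq_iff_smodEq (I := maximalIdeal R).mpr fun n => ?_
    rw [SModEq.sub_mem, smul_eq_mul, Ideal.mul_top, ← Ideal.Quotient.eq]
    show Ideal.Quotient.mk _ (IsAdicComplete.liftRingHom _ F hF _) = _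
    rw [IsAdicComplete.mk_liftRingHom]
    simp only [F, RingHom.comp_apply, AlgHom.toRingHom_eq_coe, RingHom.coe_coe]
    rfl
  have hsurj : Function.Surjective χh := by
    refine CAlgH3.surjective_of_maximalIdeal_le χh ?_ (fun y => ?_) fun r hr => ?_
    · rw [AdicCompletion.maximalIdeal_eq_map, Ideal.map_map]
      refine le_of_eq_of_le (congrArg (fun f => Ideal.map f (maximalIdeal A)) (RingHom.ext hχh)) hloc
    · obtain ⟨r, rfl⟩ := residue_surjective y
      obtain ⟨a, ha⟩ := hψs (Ideal.Quotient.mk _ r)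
      rw [← hχ'] at ha
      refine ⟨algebraMap A _ a, ?_⟩
      rw [RingHom.comp_apply, hχh, ← sub_eq_zero, ← map_sub, residue_eq_zero_iff]
      exact Ideal.pow_le_self two_ne_zero (Ideal.Quotient.eq.mp ha)
    · obtain ⟨a, ha, har⟩ := hnle r hr
      refine Submodule.mem_sup.mpr ⟨χ a, ?_, r - χ a, by rw [← neg_sub]; exact neg_mem har, add_sub_cancel _ _⟩
      rw [← hχh]
      refine Ideal.mem_map_of_mem _ ?_
      rw [AdicCompletion.maximalIdeal_eq_map]
      exact Ideal.mem_map_of_mem _ ha
  refine IsRegularLocalRing.of_spanFinrank_maximalIdeal_le _ ?_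
  rw [hd]
  calc (d : WithBot ℕ∞) ≤ ringKrullDim R := le_ringKrullDim_mvPowerSeries K d
    _ ≤ ringKrullDim (EGA4.Cpl A) := ringKrullDim_le_of_surjective _ hsurj
    _ = ringKrullDim A := (Groth.Agent.S19474.result A _ (maximalIdeal.isMaximal A).ne_top).1

/-- Regular local algebras over a perfect field are formally smooth. -/
theorem of_regular_perfect [PerfectField k] [IsRegularLocalRing A] :
    CAlgX.IsAdicFormallySmooth k A (maximalIdeal A) := by
  classical
  let Ah := EGA4.Cpl A
  haveI : IsNoetherianRing Ah := Groth.Agent.Matlis6.isNoetherianRing_adicCompletion _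
  haveI : IsRegularLocalRing Ah := isRegularLocalRing_cpl A
  haveI : IsDomain Ah := CAlgH3.isDomain_of_isRegularLocalRing Ah
  let K := ResidueField Ah
  haveI : Algebra.FormallySmooth k K := formallySmooth_of_perfectField_any k K
  obtain ⟨s, hs1, hs2⟩ := exists_lift_complete (of_formallySmooth (R := k) (S := K) (𝔫 := ⊥)) (algebraMap k Ah)
    (maximalIdeal Ah) (RingHom.id K) rfl ⟨1, fun x hx => by rw [pow_one, Ideal.mem_bot] at hx; exact hx⟩
  obtain ⟨t, ht, htspan⟩ := Submodule.FG.exists_span_finset_card_eq_spanFinrank (IsNoetherian.noetherian (maximalIdeal Ah))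
  have hdim := IsRegularLocalRing.spanFinrank_maximalIdeal (R := Ah)
  rw [← ht] at hdim
  let x : Fin t.card → Ah := fun i => (t.equivFin.symm i : Ah)
  have hx : Ideal.span (Set.range x) = maximalIdeal Ah := by
    rw [show Set.range x = (t : Set Ah) from ?_]
    · exact htspan
    · ext a
      exact ⟨fun ⟨i, hi⟩ => hi ▸ (t.equivFin.symm i).2, fun ha => ⟨t.equivFin ⟨a, ha⟩, by simp [x]⟩⟩
  obtain ⟨f, hfC, hfX⟩ := exists_mvPowerSeries_eval s (maximalIdeal Ah) x fun i => hx ▸ Ideal.subset_span ⟨i, rfl⟩
  have hfs : Function.Surjective f := by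
    refine surjective_mvPowerSeries_hom f (maximalIdeal Ah) (fun i => by rw [hfX]; exact hx ▸ Ideal.subset_span ⟨i, rfl⟩) ?_
    intro y
    obtain ⟨a, rfl⟩ := Ideal.Quotient.mk_surjective y
    refine ⟨residue Ah a, ?_⟩
    rw [RingHom.comp_apply, hfC, Ideal.Quotient.eq, show (fun i => f (MvPowerSeries.X i)) = x from funext hfX, hx]
    exact Ideal.Quotient.eq.mp (RingHom.congr_fun hs2 (residue Ah a))
  have hfi : Function.Injective f := by
    refine injective_mvPowerSeries_hom f (RingHom.Finite.of_surjective f hfs) ?_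
    rw [ringKrullDim_eq_zero_of_isField (Field.toIsField K), zero_add, hdim]
  let e := RingEquiv.ofBijective f ⟨hfi, hfs⟩
  let R := MvPowerSeries (Fin t.card) K
  refine of_ringHom fun T _ f₀ J hJ ψ hψ ⟨c, hc⟩ => ?_
  let ψh : Ah →+* T ⧸ J := (Ideal.Quotient.lift (maximalIdeal A ^ c) ψ hc).comp
    (AdicCompletion.evalₐ (maximalIdeal A) c).toRingHom
  have hψh : ∀ a, ψh (algebraMap A Ah a) = ψ a := fun a => rfl
  let ψ' : R →+* T ⧸ J := ψh.comp e.toRingHom
  have hCk : ∀ r, ψ' (MvPowerSeries.C (algebraMap k K r)) = Ideal.Quotient.mk J (f₀ r) := fun r => by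
    show ψh (f (MvPowerSeries.C (algebraMap k K r))) = _
    rw [show f (MvPowerSeries.C (algebraMap k K r)) = s (algebraMap k K r) from RingHom.congr_fun hfC _,
      show s (algebraMap k K r) = algebraMap k Ah r from RingHom.congr_fun hs1 r, IsScalarTower.algebraMap_apply k A Ah, hψh]
    exact RingHom.congr_fun hψ r
  obtain ⟨sT, hsT1, hsT2⟩ := exists_lift_ringHom (of_formallySmooth (R := k) (S := K) (𝔫 := ⊥)) f₀ J hJ
    (ψ'.comp MvPowerSeries.C) (RingHom.ext hCk) ⟨1, fun x hx => by rw [pow_one, Ideal.mem_bot] at hx; rw [hx, map_zero]⟩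
  choose a ha using fun i => Ideal.Quotient.mk_surjective (ψ' (MvPowerSeries.X i))
  have hnil : ∀ i, a i ^ (c * 2) = 0 := fun i => by
    have h1 : a i ^ c ∈ J := by
      rw [← Ideal.Quotient.eq_zero_iff_mem, map_pow, ha, ← map_pow]
      show ψh (f (MvPowerSeries.X i ^ c)) = 0
      rw [map_pow, hfX]
      have h2 : x i ^ c ∈ (maximalIdeal A ^ c).map (algebraMap A Ah) := by
        rw [Ideal.map_pow, ← AdicCompletion.maximalIdeal_eq_map]
        exact Ideal.pow_mem_pow (hx ▸ Ideal.subset_span ⟨i, rfl⟩) c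
      refine (Ideal.map_le_iff_le_comap.mpr fun y hy => ?_ : (maximalIdeal A ^ c).map (algebraMap A Ah) ≤ RingHom.ker ψh) h2
      rw [Ideal.mem_comap, RingHom.mem_ker, hψh]
      exact hc y hy
    have h3 := Ideal.pow_mem_pow h1 2
    rwa [hJ, Ideal.mem_bot, ← pow_mul] at h3
  let I := Ideal.span (Set.range a)
  obtain ⟨N, hN⟩ : IsNilpotent I := by
    refine (Ideal.FG.isNilpotent_iff_le_nilradical ⟨Finset.univ.image a, by simp [I]⟩).mpr (Ideal.span_le.mpr ?_)
    rintro _ ⟨i, rfl⟩
    exact ⟨_, hnil i⟩
  haveI := isAdicComplete_of_pow_eq_bot (show I ^ N = ⊥ from hN)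
  obtain ⟨g, hgC, hgX⟩ := exists_mvPowerSeries_eval sT I a fun i => Ideal.subset_span ⟨i, rfl⟩
  have hgψ : (Ideal.Quotient.mk J).comp g = ψ' := by
    refine mvPowerSeries_hom_ext _ _ (RingHom.ext fun z => ?_) (fun i => ?_) (I.map (Ideal.Quotient.mk J)) (fun i => ?_)
      (N := N) (by rw [← Ideal.map_pow, show I ^ N = ⊥ from hN, Ideal.map_bot])
    · simp only [RingHom.comp_apply]
      rw [show g (MvPowerSeries.C z) = sT z from RingHom.congr_fun hgC z]
      exact RingHom.congr_fun hsT2 z
    · rw [RingHom.comp_apply, hgX, ha]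
    · rw [RingHom.comp_apply, hgX]
      exact Ideal.mem_map_of_mem _ (Ideal.subset_span ⟨i, rfl⟩)
  refine ⟨g.comp (e.symm.toRingHom.comp (algebraMap A Ah)), RingHom.ext fun r => ?_, RingHom.ext fun y => ?_⟩
  · show g (e.symm (algebraMap A Ah (algebraMap k A r))) = f₀ r
    rw [← IsScalarTower.algebraMap_apply k A Ah, ← show s (algebraMap k K r) = algebraMap k Ah r from RingHom.congr_fun hs1 r,
      show s (algebraMap k K r) = e (MvPowerSeries.C (algebraMap k K r)) from (RingHom.congr_fun hfC _).symm,
      e.symm_apply_apply, show g (MvPowerSeries.C (algebraMap k K r)) = sT (algebraMap k K r) from RingHom.congr_fun hgC _]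
    exact RingHom.congr_fun hsT1 r
  · show Ideal.Quotient.mk J (g (e.symm (algebraMap A Ah y))) = ψ y
    rw [show Ideal.Quotient.mk J (g _) = ψ' _ from RingHom.congr_fun hgψ _]
    show ψh (e (e.symm _)) = ψ y
    rw [e.apply_symm_apply, hψh]

theorem ulift_zmod_hom_ext {p : ℕ} {S : Type u} [CommRing S] (f g : ULift.{u} (ZMod p) →+* S) : f = g :=
  RingHom.ext fun x => by
    have h : f.comp ULift.ringEquiv.symm.toRingHom = g.comp ULift.ringEquiv.symm.toRingHom := RingHom.ext_zmod _ _
    exact RingHom.congr_fun h x.down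

theorem perfectField_ulift_zmod (p : ℕ) [Fact p.Prime] : PerfectField (ULift.{u} (ZMod p)) :=
  haveI : Finite (ULift.{u} (ZMod p)) := inferInstance
  inferInstance

/-- Formally smooth Noetherian local algebras over a field are regular. -/
theorem isRegularLocalRing_of_adicSmooth [IsNoetherianRing A] (h : CAlgX.IsAdicFormallySmooth k A (maximalIdeal A)) :
    IsRegularLocalRing A := by
  obtain ⟨p, _⟩ := CharP.exists k
  rcases CharP.char_is_prime_or_zero k p with hp | hp
  · haveI := Fact.mk hp
    haveI := perfectField_ulift_zmod.{u} p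
    haveI : CharP A p := charP_of_injective_algebraMap (algebraMap k A).injective p
    letI : Algebra (ULift.{u} (ZMod p)) k := ((ZMod.castHom dvd_rfl k).comp ULift.ringEquiv.toRingHom).toAlgebra
    letI : Algebra (ULift.{u} (ZMod p)) A := ((ZMod.castHom dvd_rfl A).comp ULift.ringEquiv.toRingHom).toAlgebra
    haveI : IsScalarTower (ULift.{u} (ZMod p)) k A := IsScalarTower.of_algebraMap_eq' (ulift_zmod_hom_ext _ _)
    haveI : Algebra.FormallySmooth (ULift.{u} (ZMod p)) k := formallySmooth_of_perfectField_any _ _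
    exact isRegularLocalRing_of_perfect (k := ULift.{u} (ZMod p))
      (trans (𝔫 := ⊥) (by rw [Ideal.map_bot]; exact bot_le) of_formallySmooth h)
  · subst hp
    haveI : CharZero k := CharP.charP_to_charZero k
    exact isRegularLocalRing_of_perfect h

/-- Formally smooth Noetherian local algebras over a field are geometrically regular. -/
theorem isGeometricallyRegular_of_adicSmooth [IsNoetherianRing A]
    (h : CAlgX.IsAdicFormallySmooth k A (maximalIdeal A)) : CAlg.IsGeometricallyRegular k A := by
  intro k' _ _ hk'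
  haveI := hk'
  letI : Algebra A (k' ⊗[k] A) := Algebra.TensorProduct.rightAlgebra
  haveI : Module.Finite A (k' ⊗[k] A) := Module.Finite.equiv (Algebra.TensorProduct.commRight k A k').toLinearEquiv
  haveI : IsNoetherianRing (k' ⊗[k] A) := IsNoetherianRing.of_finite A (k' ⊗[k] A)
  refine isRegularRing_of_maximals _ fun Q hQ => ?_
  haveI : IsNoetherianRing (Localization.AtPrime Q) := IsLocalization.isNoetherianRing Q.primeCompl _ inferInstance
  haveI : Algebra.IsIntegral A (k' ⊗[k] A) := inferInstance
  haveI : (Q.comap (algebraMap A (k' ⊗[k] A))).IsMaximal :=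
    Ideal.isMaximal_comap_of_isIntegral_of_isMaximal Q
  have hQm : Q.comap (algebraMap A (k' ⊗[k] A)) = maximalIdeal A := eq_maximalIdeal inferInstance
  have h1 := localization Q.primeCompl (Localization.AtPrime Q) (baseChange k' h)
  refine isRegularLocalRing_of_adicSmooth (k := k') (mono 1 ?_ h1)
  rw [pow_one, Ideal.map_le_iff_le_comap, Ideal.map_le_iff_le_comap, ← hQm]
  intro a ha
  show algebraMap (k' ⊗[k] A) (Localization.AtPrime Q) ((1 : k') ⊗ₜ[k] a) ∈ maximalIdeal _
  rw [IsLocalization.AtPrime.to_map_mem_maximal_iff _ Q]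
  exact ha

end Groth.Agent.CAlgH.AdicSmooth
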