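import Mathlib
import Groth.Agent.CAlgH.AdicSmoothField

/-! Geometrically regular algebras in characteristic `p` are formally smooth. -/
universe u
open IsLocalRing TensorProduct Polynomial

namespace Groth.Agent.CAlgH.AdicSmooth

section
variable {R S : Type u} [CommRing R] [CommRing S] [Algebra R S] {𝔫 : Ideal S}

/-- It suffices to lift along square-zero ideals killed by `𝔫`. -/
theorem of_killed
    (h : ∀ (T : Type u) [CommRing T] (f : R →+* T) (J : Ideal T), J ^ 2 = ⊥ → ∀ ψ : S →+* T ⧸ J,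
      ψ.comp (algebraMap R S) = (Ideal.Quotient.mk J).comp f → (∃ k : ℕ, ∀ x ∈ 𝔫 ^ k, ψ x = 0) →
      (∀ x ∈ 𝔫, ∀ t : T, Ideal.Quotient.mk J t = ψ x → ∀ j ∈ J, t * j = 0) →
      ∃ χ : S →+* T, χ.comp (algebraMap R S) = f ∧ (Ideal.Quotient.mk J).comp χ = ψ) :
    CAlgX.IsAdicFormallySmooth R S 𝔫 := by
  refine of_ringHom fun T _ f J hJ ψ hψ hk => ?_
  let N : ∀ (T : Type u) [CommRing T] (J : Ideal T), (S →+* T ⧸ J) → Ideal T := fun T _ J ψ =>
    (𝔫.map ψ).comap (Ideal.Quotient.mk J)
  have key : ∀ (j : ℕ) (T : Type u) (_ : CommRing T) (f : R →+* T) (J : Ideal T), J ^ 2 = ⊥ →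
      ∀ (ψ : S →+* T ⧸ J), ψ.comp (algebraMap R S) = (Ideal.Quotient.mk J).comp f →
      (∃ c : ℕ, ∀ x ∈ 𝔫 ^ c, ψ x = 0) → N T J ψ ^ j * J = ⊥ →
      ∃ χ : S →+* T, χ.comp (algebraMap R S) = f ∧ (Ideal.Quotient.mk J).comp χ = ψ := by
    intro j
    induction j with
    | zero =>
      intro T _ f J hJ ψ hψ hk hN
      refine h T f J hJ ψ hψ hk fun x _ t _ i hi => ?_
      rw [pow_zero, one_mul] at hN
      rw [hN, Ideal.mem_bot] at hi
      rw [hi, mul_zero]
    | succ j ih =>
      intro T _ f J hJ ψ hψ hk hN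
      obtain ⟨c, hc⟩ := hk
      let K := N T J ψ ^ j * J
      have hKJ : K ≤ J := Ideal.mul_le_right
      let q := Ideal.Quotient.mk K
      let J' := J.map q
      have hJ' : J' ^ 2 = ⊥ := by
        show (Ideal.map _ _) ^ 2 = ⊥
        rw [← Ideal.map_pow, hJ, Ideal.map_bot]
      let e : T ⧸ J →+* (T ⧸ K) ⧸ J' := Ideal.Quotient.lift J ((Ideal.Quotient.mk J').comp q) fun t ht =>
        Ideal.Quotient.eq_zero_iff_mem.mpr (Ideal.mem_map_of_mem q ht)
      have he : Function.Injective e := by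
        rw [injective_iff_map_eq_zero]
        intro y hy
        obtain ⟨t, rfl⟩ := Ideal.Quotient.mk_surjective y
        change Ideal.Quotient.mk J' (q t) = 0 at hy
        rw [Ideal.Quotient.eq_zero_iff_mem, ← Ideal.mem_comap, Ideal.comap_map_of_surjective _ Ideal.Quotient.mk_surjective,
          ← RingHom.ker_eq_comap_bot, Ideal.mk_ker, sup_eq_left.mpr hKJ] at hy
        exact Ideal.Quotient.eq_zero_iff_mem.mpr hy
      have hNle : N (T ⧸ K) J' (e.comp ψ) ≤ (N T J ψ).map q := by
        intro w hw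
        obtain ⟨t, rfl⟩ := Ideal.Quotient.mk_surjective w
        refine Ideal.mem_map_of_mem q ?_
        show Ideal.Quotient.mk J t ∈ 𝔫.map ψ
        have h1 : e (Ideal.Quotient.mk J t) ∈ (𝔫.map ψ).map e := by rw [Ideal.map_map]; exact hw
        have hes : Function.Surjective e := fun y => by
          obtain ⟨y, rfl⟩ := Ideal.Quotient.mk_surjective y
          obtain ⟨y, rfl⟩ := Ideal.Quotient.mk_surjective y
          exact ⟨Ideal.Quotient.mk J y, rfl⟩
        obtain ⟨z, hz, hzt⟩ := (Ideal.mem_map_iff_of_surjective e hes).mp h1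
        rwa [← he hzt]
      obtain ⟨χ₁, h1, h2⟩ := ih (T ⧸ K) inferInstance (q.comp f) J' hJ' (e.comp ψ)
        (RingHom.ext fun a => by
          show e (ψ (algebraMap R S a)) = _
          rw [show ψ (algebraMap R S a) = Ideal.Quotient.mk J (f a) from RingHom.congr_fun hψ a]
          rfl)
        ⟨c, fun x hx => by show e (ψ x) = 0; rw [hc x hx, map_zero]⟩ (by
          refine eq_bot_iff.mpr ((Ideal.mul_mono_left (Ideal.pow_right_mono hNle j)).trans (le_of_eq ?_))
          show (Ideal.map q (N T J ψ)) ^ j * Ideal.map q J = ⊥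
          rw [← Ideal.map_pow, ← Ideal.map_mul]
          exact Ideal.map_quotient_self K)
      have hkill : ∀ x ∈ 𝔫 ^ (c * 2), χ₁ x = 0 := fun x hx => by
        have hsub : (𝔫 ^ c).map χ₁ ≤ J' := Ideal.map_le_iff_le_comap.mpr fun y hy => by
          show χ₁ y ∈ J'
          rw [← Ideal.Quotient.eq_zero_iff_mem, show Ideal.Quotient.mk J' (χ₁ y) = e (ψ y) from RingHom.congr_fun h2 y,
            hc y hy, map_zero]
        have h4 := Ideal.pow_right_mono hsub 2 (by rw [← Ideal.map_pow, ← pow_mul]; exact Ideal.mem_map_of_mem _ hx)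
        rwa [hJ', Ideal.mem_bot] at h4
      have hK2 : K ^ 2 = ⊥ := eq_bot_iff.mpr ((Ideal.pow_right_mono hKJ 2).trans hJ.le)
      obtain ⟨χ, h5, h6⟩ := h T f K hK2 χ₁ h1 ⟨_, hkill⟩ fun x hx t ht i hi => by
        have h7 : t ∈ N T J ψ := by
          show Ideal.Quotient.mk J t ∈ 𝔫.map ψ
          have h8 : e (Ideal.Quotient.mk J t) = e (ψ x) := by
            rw [← show Ideal.Quotient.mk J' (χ₁ x) = e (ψ x) from RingHom.congr_fun h2 x, ← ht]
            rfl
          rw [he h8]
          exact Ideal.mem_map_of_mem ψ hx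
        have h9 : t * i ∈ N T J ψ ^ (j + 1) * J := by
          rw [pow_succ', mul_assoc]; exact Ideal.mul_mem_mul h7 hi
        rwa [hN, Ideal.mem_bot] at h9
      refine ⟨χ, h5, RingHom.ext fun x => he ?_⟩
      rw [← show Ideal.Quotient.mk J' (χ₁ x) = e (ψ x) from RingHom.congr_fun h2 x,
        ← show q (χ x) = χ₁ x from RingHom.congr_fun h6 x]
      rfl
  obtain ⟨c, hc⟩ := hk
  refine key c T inferInstance f J hJ ψ hψ ⟨c, hc⟩ ?_
  have hsub : N T J ψ ^ c ≤ J := fun t ht => by
    rw [← Ideal.Quotient.eq_zero_iff_mem]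
    have h1 := Ideal.mem_map_of_mem (Ideal.Quotient.mk J) ht
    rw [Ideal.map_pow, Ideal.map_comap_of_surjective _ Ideal.Quotient.mk_surjective, ← Ideal.map_pow] at h1
    exact (Ideal.map_le_iff_le_comap.mpr fun y hy => hc y hy : (𝔫 ^ c).map ψ ≤ ⊥) h1
  exact eq_bot_iff.mpr ((Ideal.mul_mono_left hsub).trans (by rw [← pow_two, hJ]))

end

theorem isLocalRing_of_pow_mem (R S : Type u) [CommRing R] [IsLocalRing R] [CommRing S] [Nontrivial S] [Algebra R S]
    [Algebra.IsIntegral R S] {n : ℕ} (hn : n ≠ 0) (h : ∀ x : S, ∃ r : R, algebraMap R S r = x ^ n) :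
    IsLocalRing S := by
  refine IsLocalRing.of_unique_max_ideal ?_
  obtain ⟨Q, hQ⟩ := Ideal.exists_maximal S
  have key : ∀ (Q Q' : Ideal S), Q.IsMaximal → Q'.IsMaximal → Q ≤ Q' := fun Q Q' hQ hQ' x hx => by
    obtain ⟨r, hr⟩ := h x
    have e : ∀ (P : Ideal S), P.IsMaximal → P.comap (algebraMap R S) = maximalIdeal R := fun P hP =>
      haveI := hP
      eq_maximalIdeal (Ideal.isMaximal_comap_of_isIntegral_of_isMaximal P)
    have h1 : r ∈ Q.comap (algebraMap R S) := by
      rw [Ideal.mem_comap, hr]; exact Ideal.pow_mem_of_mem Q hx n (Nat.pos_of_ne_zero hn)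
    rw [e Q hQ, ← e Q' hQ', Ideal.mem_comap, hr] at h1
    exact hQ'.isPrime.mem_of_pow_mem n h1
  exact ⟨Q, hQ, fun Q' hQ' => (hQ'.eq_of_le hQ.ne_top (key Q' Q hQ' hQ))⟩

section
variable {P B : Type u} [CommRing P] [CommRing B] [IsLocalRing B]

theorem exists_derivation_of_truncation [IsRegularLocalRing B] (p : ℕ) [hp : Fact p.Prime] [CharP B p]
    [CharP P p] (γ : P →+* B) (hγs : Function.Surjective γ) (f : P) (hker : ∀ y, γ y = 0 → y ∈ Ideal.span {f})
    (hγf : γ f = 0) (M : Ideal P) (hM : M = (maximalIdeal B).comap γ) (I : Ideal P) (N : ℕ) (hMN : M ^ N ≤ I)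
    (hMf : M * Ideal.span {f} ≤ I) (hfI : f ∉ I) (hfM : f ∈ M) :
    ∃ e : P →+ ResidueField B, (∀ y z, e (y * z) = residue B (γ y) * e z + residue B (γ z) * e y) ∧ e f = 1 := by
  classical
  haveI : M.IsMaximal := hM ▸ Ideal.comap_isMaximal_of_surjective γ hγs
  haveI : Nontrivial (P ⧸ I) := ⟨⟨Ideal.Quotient.mk I f, 0, fun h => hfI (Ideal.Quotient.eq_zero_iff_mem.mp h)⟩⟩
  haveI : CharP (P ⧸ I) p := by
    exact (CharP.charP_iff_prime_eq_zero hp.out).mpr (by rw [← map_natCast (Ideal.Quotient.mk I), CharP.cast_eq_zero, map_zero])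
  have hann : ∀ c ∈ M, Ideal.Quotient.mk I c * Ideal.Quotient.mk I f = 0 := fun c hc => by
    rw [← map_mul, Ideal.Quotient.eq_zero_iff_mem]
    exact hMf (Ideal.mul_mem_mul hc (Ideal.mem_span_singleton_self f))
  have hunit : ∀ c, Ideal.Quotient.mk I c * Ideal.Quotient.mk I f = 0 → c ∈ M := fun c hc => by
    by_contra hcM
    have hcop : Ideal.span {c} ⊔ M ^ N = ⊤ := Ideal.sup_pow_eq_top (by
      rw [sup_comm]
      exact (Ideal.isMaximal_def.mp inferInstance).2 _ (left_lt_sup.mpr fun h => hcM (h (Ideal.mem_span_singleton_self c))))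
    obtain ⟨y, hy, z, hz, hyz⟩ := Submodule.mem_sup.mp ((Ideal.eq_top_iff_one _).mp hcop)
    obtain ⟨b, rfl⟩ := Ideal.mem_span_singleton'.mp hy
    refine hfI (Ideal.Quotient.eq_zero_iff_mem.mp ?_)
    calc Ideal.Quotient.mk I f = Ideal.Quotient.mk I (b * c + z) * Ideal.Quotient.mk I f := by rw [hyz, map_one, one_mul]
      _ = Ideal.Quotient.mk I b * (Ideal.Quotient.mk I c * Ideal.Quotient.mk I f) + Ideal.Quotient.mk I z * Ideal.Quotient.mk I f := by
        rw [map_add, map_mul]; ring
      _ = 0 := by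
        rw [hc, mul_zero, Ideal.Quotient.eq_zero_iff_mem.mpr (hMN hz), zero_mul, add_zero]
  let J : Ideal (P ⧸ I) := Ideal.span {Ideal.Quotient.mk I f}
  have hJ : J ^ 2 = ⊥ := by
    rw [Ideal.span_singleton_pow, Ideal.span_singleton_eq_bot, pow_two]
    exact hann f hfM
  let ψ : B →+* (P ⧸ I) ⧸ J := RingHom.liftOfSurjective γ hγs
    ⟨(Ideal.Quotient.mk J).comp (Ideal.Quotient.mk I), fun y hy => by
      obtain ⟨b, rfl⟩ := Ideal.mem_span_singleton'.mp (hker y hy)
      rw [RingHom.mem_ker, RingHom.comp_apply, Ideal.Quotient.eq_zero_iff_mem, map_mul]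
      exact Ideal.mul_mem_left _ _ (Ideal.mem_span_singleton_self _)⟩
  have hψ : ∀ y, ψ (γ y) = Ideal.Quotient.mk J (Ideal.Quotient.mk I y) := fun y =>
    RingHom.liftOfRightInverse_comp_apply _ _ _ _ y
  haveI := perfectField_ulift_zmod.{u} p
  letI : Algebra (ULift.{u} (ZMod p)) B := ((ZMod.castHom dvd_rfl B).comp ULift.ringEquiv.toRingHom).toAlgebra
  obtain ⟨χ, -, hχ⟩ := exists_lift_ringHom (of_regular_perfect (k := ULift.{u} (ZMod p)) (A := B))
    ((ZMod.castHom dvd_rfl (P ⧸ I)).comp ULift.ringEquiv.toRingHom) J hJ ψ (ulift_zmod_hom_ext _ _) ⟨N, fun x hx => by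
      have h1 : maximalIdeal B ^ N = (M ^ N).map γ := by
        rw [Ideal.map_pow, hM, Ideal.map_comap_of_surjective γ hγs]
      rw [h1] at hx
      obtain ⟨y, hy, rfl⟩ := (Ideal.mem_map_iff_of_surjective γ hγs).mp hx
      rw [hψ, Ideal.Quotient.eq_zero_iff_mem.mpr (hMN hy), map_zero]⟩
  have hδ : ∀ y, ∃ c : P, Ideal.Quotient.mk I y - χ (γ y) = Ideal.Quotient.mk I c * Ideal.Quotient.mk I f := fun y => by
    obtain ⟨b, hb⟩ := Ideal.mem_span_singleton'.mp (Ideal.Quotient.eq.mp
      ((hψ y).symm.trans (RingHom.congr_fun hχ (γ y)).symm))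
    obtain ⟨c, rfl⟩ := Ideal.Quotient.mk_surjective b
    exact ⟨c, hb.symm⟩
  choose e he using hδ
  have huniq : ∀ y c, Ideal.Quotient.mk I y - χ (γ y) = Ideal.Quotient.mk I c * Ideal.Quotient.mk I f →
      residue B (γ (e y)) = residue B (γ c) := fun y c h => by
    rw [← sub_eq_zero, ← map_sub, ← map_sub, residue_eq_zero_iff, ← Ideal.mem_comap, ← hM]
    refine hunit _ ?_
    rw [map_sub, sub_mul, ← he, h, sub_self]
  refine ⟨AddMonoidHom.mk' (fun y => residue B (γ (e y))) fun y z => ?_, fun y z => ?_, ?_⟩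
  · show residue B (γ (e (y + z))) = residue B (γ (e y)) + residue B (γ (e z))
    rw [← map_add, ← map_add]
    refine huniq _ _ ?_
    rw [map_add, map_add γ, map_add χ, map_add, add_mul, ← he, ← he]
    ring
  · show residue B (γ (e (y * z))) = residue B (γ y) * residue B (γ (e z)) + residue B (γ z) * residue B (γ (e y))
    refine (huniq (y * z) (y * e z + z * e y) ?_).trans (by simp only [map_add, map_mul])
    have h0 : Ideal.Quotient.mk I f * Ideal.Quotient.mk I f = 0 := hann f hfM
    have hy : χ (γ y) = Ideal.Quotient.mk I y - Ideal.Quotient.mk I (e y) * Ideal.Quotient.mk I f := by rw [← he]; ring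
    have hz : χ (γ z) = Ideal.Quotient.mk I z - Ideal.Quotient.mk I (e z) * Ideal.Quotient.mk I f := by rw [← he]; ring
    rw [map_mul, map_mul γ, map_mul χ, hy, hz, map_add, map_mul, map_mul]
    linear_combination (-(Ideal.Quotient.mk I (e y) * Ideal.Quotient.mk I (e z))) * h0
  · show residue B (γ (e f)) = 1
    rw [← map_one (residue B), ← map_one γ]
    refine huniq _ _ ?_
    rw [hγf, map_zero, sub_zero, map_one, one_mul]

end

section
variable {P B : Type u} [CommRing P] [CommRing B] [IsLocalRing B]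

/-- A derivation which is one on the equation of a regular hypersurface. -/
theorem exists_derivation_of_presentation [IsNoetherianRing P] [IsRegularLocalRing B] (p : ℕ) [hp : Fact p.Prime] [CharP B p]
    [CharP P p] (γ : P →+* B) (hγs : Function.Surjective γ) (f : P) (hker : ∀ y, γ y = 0 → y ∈ Ideal.span {f})
    (hγf : γ f = 0) (hnz : ∀ c, c * f = 0 → c = 0) :
    ∃ e : P →+ ResidueField B, (∀ y z, e (y * z) = residue B (γ y) * e z + residue B (γ z) * e y) ∧ e f = 1 := by
  classical
  let M : Ideal P := (maximalIdeal B).comap γ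
  haveI : M.IsMaximal := Ideal.comap_isMaximal_of_surjective γ hγs
  have hfM : f ∈ M := by show γ f ∈ maximalIdeal B; rw [hγf]; exact zero_mem _
  have hcancel : ∀ c : P, c * f ∈ M * Ideal.span {f} → c ∈ M := fun c hc => by
    obtain ⟨m, hm, hmc⟩ := Ideal.mem_mul_span_singleton.mp hc
    rwa [sub_eq_zero.mp (hnz _ (by rw [sub_mul, hmc, sub_self]) : c - m = 0)]
  obtain ⟨N, hN⟩ : ∃ N : ℕ, f ∉ M * Ideal.span {f} ⊔ M ^ N := by
    by_contra! hall
    let I := M * Ideal.span {f}
    have h1 : Ideal.Quotient.mk I f ∈ (⨅ i : ℕ, M ^ i • ⊤ : Submodule P (P ⧸ I)) := by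
      rw [Submodule.mem_iInf]
      intro i
      obtain ⟨y, hy, z, hz, hyz⟩ := Submodule.mem_sup.mp (hall i)
      have h2 : Ideal.Quotient.mk I f = z • (Ideal.Quotient.mk I (1 : P)) := by
        show _ = Ideal.Quotient.mk I (z * 1)
        rw [mul_one, ← hyz, map_add, Ideal.Quotient.eq_zero_iff_mem.mpr hy, zero_add]
      rw [h2]
      exact Submodule.smul_mem_smul hz Submodule.mem_top
    obtain ⟨⟨m, hm⟩, hmf⟩ := (Ideal.mem_iInf_smul_pow_eq_bot_iff M _).mp h1
    have h3 : (1 - m) * f ∈ I := by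
      rw [← Ideal.Quotient.eq_zero_iff_mem, sub_mul, one_mul, map_sub, sub_eq_zero]
      exact hmf.symm
    exact (inferInstance : M.IsMaximal).ne_top ((Ideal.eq_top_iff_one _).mpr (by simpa using add_mem (hcancel _ h3) hm))
  exact exists_derivation_of_truncation p γ hγs f hker hγf M rfl (M * Ideal.span {f} ⊔ M ^ N) N le_sup_right
    (Ideal.mul_le.mpr fun c hc y hy => Ideal.mem_sup_left (Ideal.mul_mem_mul hc hy)) hN hfM

end

theorem exists_lift_tensor_adjoinRoot {k A k1 S : Type u} [Field k] [CommRing A] [Algebra k A] [Field k1] [Algebra k k1]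
    [CommRing S] [Algebra k S] (g : k1[X]) (j : k1 ⊗[k] A →ₐ[k] S) (x : S)
    (hx : g.eval₂ (j.toRingHom.comp Algebra.TensorProduct.includeLeftRingHom) x = 0) :
    ∃ β : AdjoinRoot g ⊗[k] A →ₐ[k] S,
      (∀ y, β (Algebra.TensorProduct.map (IsScalarTower.toAlgHom k k1 (AdjoinRoot g)) (AlgHom.id k A) y) = j y) ∧
        β (AdjoinRoot.root g ⊗ₜ[k] (1 : A)) = x := by
  let i1 : k1 →ₐ[k] S := j.comp Algebra.TensorProduct.includeLeft
  have hx' : g.eval₂ (i1 : k1 →+* S) x = 0 := hx
  refine ⟨Algebra.TensorProduct.lift (AdjoinRoot.liftAlgHom g i1 x hx')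
    (j.comp Algebra.TensorProduct.includeRight) fun _ _ => Commute.all _ _, fun y => ?_, ?_⟩
  · induction y using TensorProduct.induction_on with
    | zero => simp
    | add a b ha hb => simp only [map_add, ha, hb]
    | tmul c a =>
      rw [Algebra.TensorProduct.map_tmul, Algebra.TensorProduct.lift_tmul]
      show AdjoinRoot.liftAlgHom g i1 x hx' (AdjoinRoot.of g c) * j ((1 : k1) ⊗ₜ[k] a) = _
      rw [AdjoinRoot.liftAlgHom_of]
      show j (c ⊗ₜ[k] (1 : A)) * j ((1 : k1) ⊗ₜ[k] a) = _
      rw [← map_mul, Algebra.TensorProduct.tmul_mul_tmul, mul_one, one_mul]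
  · rw [Algebra.TensorProduct.lift_tmul, AdjoinRoot.liftAlgHom_root, map_one, mul_one]

/-- The kernel of the presentation of a tensor product with a simple extension. -/
theorem mem_span_of_tensor_presentation (k A : Type u) [Field k] [CommRing A] [Algebra k A] {k1 : Type u} [Field k1]
    [Algebra k k1] (g : k1[X])
    (γ : (k1 ⊗[k] A)[X] →+* AdjoinRoot g ⊗[k] A)
    (hγC : ∀ x, γ (C x) = (Algebra.TensorProduct.map (IsScalarTower.toAlgHom k k1 (AdjoinRoot g)) (AlgHom.id k A)) x)
    (hγX : γ X = AdjoinRoot.root g ⊗ₜ[k] (1 : A)) (f : (k1 ⊗[k] A)[X])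
    (hfg : g.map (Algebra.TensorProduct.includeLeftRingHom : k1 →+* k1 ⊗[k] A) = f) :
    ∀ y, γ y = 0 → y ∈ Ideal.span {f} := by
  intro y hy
  let iC : k1 ⊗[k] A →ₐ[k] (k1 ⊗[k] A)[X] ⧸ Ideal.span {f} :=
    (Ideal.Quotient.mkₐ k (Ideal.span {f})).comp Polynomial.CAlgHom
  have hev : g.eval₂ (iC.toRingHom.comp Algebra.TensorProduct.includeLeftRingHom) (Ideal.Quotient.mk (Ideal.span {f}) X) = 0 := by
    have h1 : iC.toRingHom = (Ideal.Quotient.mk (Ideal.span {f})).comp C := rfl
    rw [h1, ← Polynomial.eval₂_map, hfg, ← Polynomial.hom_eval₂, Polynomial.eval₂_C_X,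
      Ideal.Quotient.eq_zero_iff_mem]
    exact Ideal.mem_span_singleton_self f
  obtain ⟨β, hβ1, hβ2⟩ := exists_lift_tensor_adjoinRoot (S := (k1 ⊗[k] A)[X] ⧸ Ideal.span {f}) g iC (Ideal.Quotient.mk _ X) hev
  have hβ : ∀ z, β (γ z) = Ideal.Quotient.mk _ z := fun z => RingHom.congr_fun
    (Polynomial.ringHom_ext (f := β.toRingHom.comp γ) (g := Ideal.Quotient.mk (Ideal.span {f}))
      (fun x => by
        show β (γ (C x)) = _
        rw [hγC, hβ1]
        rfl)
      (by
        show β (γ X) = _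
        rw [hγX, hβ2])) z
  rw [← Ideal.Quotient.eq_zero_iff_mem, ← hβ, hy, map_zero]

/-- From a derivation on the presentation to one on `A`. -/
theorem exists_derivation_restrict (k A : Type u) [Field k] [CommRing A] [IsLocalRing A] [Algebra k A]
    {P B : Type u} [CommRing P] [CommRing B] [IsLocalRing B] (ι : A →+* P) (j : A →+* B) (γ : P →+* B)
    (hιγ : ∀ a, γ (ι a) = j a) (hm : ∀ a ∈ maximalIdeal A, residue B (j a) = 0) (e : P →+ ResidueField B)
    (hemul : ∀ y z, e (y * z) = residue B (γ y) * e z + residue B (γ z) * e y) (p : ℕ) (a₀ : k) (s : Set k)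
    (hepow : ∀ y, e (y ^ p) = 0) (f : P) (hef : e f = 1) {x : P} (h₀ : ι (algebraMap k A a₀) = x ^ p - f)
    (hs : ∀ a ∈ s, ∃ y, ι (algebraMap k A a) = y ^ p) :
    ∃ D : Derivation ℤ A (ResidueField A), D (algebraMap k A a₀) = 1 ∧ ∀ a ∈ s, D (algebraMap k A a) = 0 := by
  let ιK : ResidueField A →+* ResidueField B := Ideal.Quotient.lift (maximalIdeal A) ((residue B).comp j) hm
  letI : Algebra (ResidueField A) (ResidueField B) := ιK.toAlgebra
  obtain ⟨π, hπ⟩ := LinearMap.exists_leftInverse_of_injective (Algebra.linearMap (ResidueField A) (ResidueField B))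
    (LinearMap.ker_eq_bot.mpr (algebraMap (ResidueField A) (ResidueField B)).injective)
  have hπ1 : π 1 = 1 := by
    have h1 := LinearMap.congr_fun hπ 1
    simpa using h1
  have hπmul : ∀ (a : A) (y : ResidueField B), π (residue B (γ (ι a)) * y) = a • π y := fun a y => by
    rw [hιγ, show residue B (j a) * y = residue A a • y from rfl, map_smul]
    rfl
  let D0 : A →+ ResidueField A := AddMonoidHom.mk' (fun a => -π (e (ι a))) fun a b => by
    rw [map_add, map_add, map_add, neg_add]
  refine ⟨Derivation.mk' D0.toIntLinearMap fun a b => ?_, ?_, fun a ha => ?_⟩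
  · show -π (e (ι (a * b))) = a • -π (e (ι b)) + b • -π (e (ι a))
    rw [map_mul, hemul, map_add, hπmul, hπmul, neg_add, smul_neg, smul_neg]
  · show -π (e (ι (algebraMap k A a₀))) = 1
    rw [h₀, map_sub, hepow, hef, zero_sub, map_neg, hπ1, neg_neg]
  · show -π (e (ι (algebraMap k A a))) = 0
    obtain ⟨y, hy⟩ := hs a ha
    rw [hy, hepow, map_zero, neg_zero]

variable {k : Type u} [Field k] {A : Type u} [CommRing A] [IsLocalRing A] [Algebra k A]

theorem exists_derivation_dual_aux [IsNoetherianRing A] (p : ℕ) [hp : Fact p.Prime] [CharP k p]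
    (hA : ∀ (k' : Type u) [Field k'] [Algebra k k'], Module.Finite k k' →
      (∀ x : k', x ^ p ∈ Set.range (algebraMap k k')) → IsRegularRing (k' ⊗[k] A))
    (k1 : Type u) [Field k1] [Algebra k k1] [FiniteDimensional k k1]
    (hk1 : ∀ x : k1, ∃ b : k, algebraMap k k1 b = x ^ p) (s : Set k) (a₀ : k)
    (hs : ∀ a ∈ s, ∃ z : k1, z ^ p = algebraMap k k1 a) (hnp : ∀ y : k1, y ^ p ≠ algebraMap k k1 a₀) :
    ∃ D : Derivation ℤ A (ResidueField A), D (algebraMap k A a₀) = 1 ∧ ∀ a ∈ s, D (algebraMap k A a) = 0 := by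
  classical
  let g : k1[X] := X ^ p - C (algebraMap k k1 a₀)
  haveI : Fact (Irreducible g) := ⟨X_pow_sub_C_irreducible_of_prime hp.out hnp⟩
  let k2 := AdjoinRoot g
  have hg : g.Monic := monic_X_pow_sub_C _ hp.out.ne_zero
  haveI : Module.Finite k1 k2 := hg.finite_adjoinRoot
  haveI : Module.Finite k k2 := Module.Finite.trans k1 k2
  haveI : CharP k1 p := charP_of_injective_algebraMap (algebraMap k k1).injective p
  haveI : CharP k2 p := charP_of_injective_algebraMap (algebraMap k k2).injective p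
  have hroot : AdjoinRoot.root g ^ p = algebraMap k k2 a₀ := by
    have h1 := AdjoinRoot.eval₂_root g
    simp only [g, eval₂_sub, eval₂_pow, eval₂_X, eval₂_C, sub_eq_zero] at h1
    rw [h1, IsScalarTower.algebraMap_apply k k1 k2]
    rfl
  have hk2 : ∀ z : k2, z ^ p ∈ Set.range (algebraMap k k2) := fun z => by
    induction z using AdjoinRoot.induction_on with
    | ih q =>
      induction q using Polynomial.induction_on' with
      | add q q' h h' =>
        obtain ⟨b, hb⟩ := h; obtain ⟨c, hc⟩ := h'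
        exact ⟨b + c, by rw [map_add, hb, hc, map_add, add_pow_char]⟩
      | monomial n c =>
        obtain ⟨b, hb⟩ := hk1 c
        refine ⟨b * a₀ ^ n, ?_⟩
        rw [← C_mul_X_pow_eq_monomial, map_mul (AdjoinRoot.mk g), map_pow (AdjoinRoot.mk g), AdjoinRoot.mk_C, AdjoinRoot.mk_X, mul_pow,
          ← pow_mul, mul_comm n p, pow_mul, hroot, map_mul, map_pow, IsScalarTower.algebraMap_apply k k1 k2 b, hb, map_pow]
        rfl
  -- the algebras over them
  let A1 := k1 ⊗[k] A
  let A2 := k2 ⊗[k] A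
  haveI : Nontrivial A := inferInstance
  haveI : Nontrivial A2 :=
    (Algebra.TensorProduct.includeLeft_injective (S := k) (algebraMap k A).injective : Function.Injective
      (Algebra.TensorProduct.includeLeft : k2 →ₐ[k] A2)).nontrivial
  haveI : Nontrivial A1 :=
    (Algebra.TensorProduct.includeLeft_injective (S := k) (algebraMap k A).injective : Function.Injective
      (Algebra.TensorProduct.includeLeft : k1 →ₐ[k] A1)).nontrivial
  letI : Algebra A A1 := Algebra.TensorProduct.rightAlgebra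
  letI : Algebra A A2 := Algebra.TensorProduct.rightAlgebra
  haveI : Module.Finite A A1 := Module.Finite.equiv (Algebra.TensorProduct.commRight k A k1).toLinearEquiv
  haveI : Module.Finite A A2 := Module.Finite.equiv (Algebra.TensorProduct.commRight k A k2).toLinearEquiv
  haveI : IsNoetherianRing A1 := IsNoetherianRing.of_finite A A1
  haveI : IsNoetherianRing A2 := IsNoetherianRing.of_finite A A2
  haveI : CharP A2 p := charP_of_injective_algebraMap (algebraMap k2 A2).injective p
  have hA2pow : ∀ z : A2, ∃ a : A, algebraMap A A2 a = z ^ p := fun z => by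
    induction z using TensorProduct.induction_on with
    | zero => exact ⟨0, by rw [map_zero, zero_pow hp.out.ne_zero]⟩
    | add x y hx hy =>
      obtain ⟨a, ha⟩ := hx; obtain ⟨b, hb⟩ := hy
      exact ⟨a + b, by rw [map_add, ha, hb, add_pow_char]⟩
    | tmul c a =>
      obtain ⟨b, hb⟩ := hk2 c
      refine ⟨algebraMap k A b * a ^ p, ?_⟩
      rw [Algebra.TensorProduct.tmul_pow, ← hb, Algebra.algebraMap_eq_smul_one (A := k2), TensorProduct.smul_tmul,
        Algebra.smul_def]
      rfl
  haveI : IsLocalRing A2 := isLocalRing_of_pow_mem A A2 hp.out.ne_zero hA2pow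
  haveI : IsRegularRing A2 := hA k2 inferInstance hk2
  haveI : IsRegularLocalRing A2 := IsRegularLocalRing.of_isRegularRing_of_isLocalRing _
  -- the presentation
  let P := A1[X]
  let γ1 : A1 →+* A2 := (Algebra.TensorProduct.map (IsScalarTower.toAlgHom k k1 k2) (AlgHom.id k A)).toRingHom
  let γ : P →+* A2 := eval₂RingHom γ1 (AdjoinRoot.root g ⊗ₜ[k] (1 : A))
  have hγ1 : ∀ (c : k1) (a : A), γ1 (c ⊗ₜ[k] a) = algebraMap k1 k2 c ⊗ₜ[k] a := fun _ _ => rfl
  have hγC : ∀ x, γ (C x) = γ1 x := fun x => eval₂_C _ _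
  have hγX : γ X = AdjoinRoot.root g ⊗ₜ[k] (1 : A) := eval₂_X _ _
  have hγs : Function.Surjective γ := fun z => by
    induction z using TensorProduct.induction_on with
    | zero => exact ⟨0, map_zero _⟩
    | add x y hx hy =>
      obtain ⟨a, rfl⟩ := hx; obtain ⟨b, rfl⟩ := hy
      exact ⟨a + b, map_add _ _ _⟩
    | tmul c a =>
      obtain ⟨q, rfl⟩ : ∃ q, AdjoinRoot.mk g q = c := AdjoinRoot.mk_surjective c
      induction q using Polynomial.induction_on' with
      | add q q' h h' =>
        obtain ⟨y, hy⟩ := h; obtain ⟨y', hy'⟩ := h'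
        exact ⟨y + y', by rw [map_add, map_add, add_tmul, hy, hy']⟩
      | monomial n c =>
        refine ⟨C (c ⊗ₜ[k] a) * X ^ n, ?_⟩
        rw [map_mul, map_pow, hγC, hγX, hγ1, Algebra.TensorProduct.tmul_pow, Algebra.TensorProduct.tmul_mul_tmul,
          one_pow, mul_one, ← C_mul_X_pow_eq_monomial, map_mul, map_pow (AdjoinRoot.mk g), AdjoinRoot.mk_C, AdjoinRoot.mk_X]
        rfl
  let f : P := X ^ p - C (algebraMap k k1 a₀ ⊗ₜ[k] (1 : A))
  have hf : f.Monic := monic_X_pow_sub_C _ hp.out.ne_zero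
  have hγf : γ f = 0 := by
    rw [map_sub, map_pow, hγC, hγX, hγ1, Algebra.TensorProduct.tmul_pow, one_pow, hroot,
      ← IsScalarTower.algebraMap_apply k k1 k2, sub_self]
  have hker : ∀ y, γ y = 0 → y ∈ Ideal.span {f} := mem_span_of_tensor_presentation k A g γ hγC hγX f
    (by simp [f, g, Polynomial.map_sub, Polynomial.map_pow])
  haveI : CharP P p := charP_of_injective_algebraMap (algebraMap k P).injective p
  haveI : CharP (ResidueField A2) p := (CharP.charP_iff_prime_eq_zero hp.out).mpr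
    (by rw [← map_natCast (residue A2), CharP.cast_eq_zero, map_zero])
  obtain ⟨e, hemul, hef⟩ := exists_derivation_of_presentation p γ hγs f hker hγf
    (fun c hc => (hf.mul_left_eq_zero_iff).mp hc)
  have hepow : ∀ y, e (y ^ p) = 0 := fun y => by
    suffices ∀ n : ℕ, e (y ^ n) = (n : ResidueField A2) * residue A2 (γ y) ^ (n - 1) * e y by
      rw [this, CharP.cast_eq_zero, zero_mul, zero_mul]
    intro n
    induction n with
    | zero =>
      have h1 := hemul 1 1
      simp only [map_one, one_mul, mul_one, left_eq_add] at h1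
      simp [h1]
    | succ n ih =>
      rw [pow_succ, hemul, ih, map_pow, map_pow, Nat.cast_succ, Nat.add_sub_cancel]
      rcases Nat.eq_zero_or_pos n with hn | hn
      · subst hn; simp
      · obtain ⟨m, rfl⟩ := Nat.exists_eq_succ_of_ne_zero hn.ne'
        simp only [Nat.succ_sub_one, pow_succ]
        ring
  -- restriction to `A`
  let ι : A →+* P := (C : A1 →+* P).comp (Algebra.TensorProduct.includeRight : A →ₐ[k] A1).toRingHom
  have hιγ : ∀ a, γ (ι a) = algebraMap A A2 a := fun a => by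
    show γ (C ((1 : k1) ⊗ₜ[k] a)) = _
    rw [hγC, hγ1, map_one]
    rfl
  have hm : ∀ a ∈ maximalIdeal A, residue A2 (algebraMap A A2 a) = 0 := fun a ha => by
    refine (residue_eq_zero_iff _).mpr ?_
    have h1 : (maximalIdeal A2).comap (algebraMap A A2) = maximalIdeal A :=
      eq_maximalIdeal (Ideal.isMaximal_comap_of_isIntegral_of_isMaximal _)
    rw [← h1] at ha
    exact ha
  exact exists_derivation_restrict k A ι (algebraMap A A2) γ hιγ hm e hemul p a₀ s hepow f hef
    (by
      show C ((1 : k1) ⊗ₜ[k] algebraMap k A a₀) = _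
      rw [sub_sub_cancel, Algebra.algebraMap_eq_smul_one, ← TensorProduct.smul_tmul, ← Algebra.algebraMap_eq_smul_one])
    fun a ha => by
      obtain ⟨z, hz⟩ := hs a ha
      refine ⟨C (z ⊗ₜ[k] (1 : A)), ?_⟩
      show C ((1 : k1) ⊗ₜ[k] algebraMap k A a) = _
      rw [← C_pow, Algebra.TensorProduct.tmul_pow, one_pow, Algebra.algebraMap_eq_smul_one, ← TensorProduct.smul_tmul,
        ← Algebra.algebraMap_eq_smul_one, hz]

/-- The differential of `a₀` survives in `Ω_A ⊗ K` modulo the differentials of the elements of `s`. -/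
theorem exists_derivation_dual [IsNoetherianRing A] (p : ℕ) [hp : Fact p.Prime] [CharP k p]
    (hA : ∀ (k' : Type u) [Field k'] [Algebra k k'], Module.Finite k k' →
      (∀ x : k', x ^ p ∈ Set.range (algebraMap k k')) → IsRegularRing (k' ⊗[k] A))
    (s : Set k) (hs : s.Finite) (a₀ : k)
    (h₀ : KaehlerDifferential.D ℤ k a₀ ∉ Submodule.span k (KaehlerDifferential.D ℤ k '' s)) :
    ∃ D : Derivation ℤ A (ResidueField A), D (algebraMap k A a₀) = 1 ∧ ∀ a ∈ s, D (algebraMap k A a) = 0 := by
  classical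
  -- the two height one extensions
  let Ω := AlgebraicClosure k
  choose r hr using fun a : k => IsAlgClosed.exists_pow_nat_eq (algebraMap k Ω a) hp.out.pos
  let k1 := IntermediateField.adjoin k (r '' s)
  haveI : CharP Ω p := charP_of_injective_algebraMap (algebraMap k Ω).injective p
  let S' := Submodule.span k (KaehlerDifferential.D ℤ k '' s)
  have hk1 : ∀ x : k1, ∃ b : k, algebraMap k k1 b = x ^ p ∧ KaehlerDifferential.D ℤ k b ∈ S' := by
    suffices ∀ x ∈ k1, ∃ b : k, algebraMap k Ω b = x ^ p ∧ KaehlerDifferential.D ℤ k b ∈ S' by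
      intro x
      obtain ⟨b, hb, hb'⟩ := this x x.2
      exact ⟨b, Subtype.ext (by simpa using hb), hb'⟩
    intro x hx
    induction hx using IntermediateField.adjoin_induction with
    | mem y hy =>
      obtain ⟨a, ha, rfl⟩ := hy
      exact ⟨a, (hr a).symm, Submodule.subset_span ⟨a, ha, rfl⟩⟩
    | algebraMap c => exact ⟨c ^ p, by rw [map_pow], by
        rw [Derivation.leibniz_pow, smul_comm, ← Nat.cast_smul_eq_nsmul k, CharP.cast_eq_zero, zero_smul, smul_zero]
        exact zero_mem _⟩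
    | add y z _ _ hy hz =>
      obtain ⟨b, hb, hb'⟩ := hy; obtain ⟨c, hc, hc'⟩ := hz
      exact ⟨b + c, by rw [map_add, hb, hc, add_pow_char], by rw [map_add]; exact add_mem hb' hc'⟩
    | inv y _ hy =>
      obtain ⟨b, hb, hb'⟩ := hy
      exact ⟨b⁻¹, by rw [map_inv₀, hb, inv_pow], by rw [Derivation.leibniz_inv]; exact Submodule.smul_mem _ _ hb'⟩
    | mul y z _ _ hy hz =>
      obtain ⟨b, hb, hb'⟩ := hy; obtain ⟨c, hc, hc'⟩ := hz
      exact ⟨b * c, by rw [map_mul, hb, hc, mul_pow], by
        rw [Derivation.leibniz]; exact add_mem (Submodule.smul_mem _ _ hc') (Submodule.smul_mem _ _ hb')⟩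
  haveI : Finite (r '' s) := (hs.image r).to_subtype
  haveI : FiniteDimensional k k1 := IntermediateField.finiteDimensional_adjoin (by
    rintro _ ⟨a, -, rfl⟩
    exact IsIntegral.of_pow hp.out.pos (by rw [hr]; exact isIntegral_algebraMap))
  have hnp : ∀ y : k1, y ^ p ≠ algebraMap k k1 a₀ := fun y hy => by
    obtain ⟨b, hb, hb'⟩ := hk1 y
    rw [hy] at hb
    exact h₀ ((algebraMap k k1).injective hb ▸ hb')
  exact exists_derivation_dual_aux p hA k1 (fun x => (hk1 x).imp fun _ h => h.1) s a₀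
    (fun a ha => ⟨⟨r a, IntermediateField.subset_adjoin k _ ⟨a, ha, rfl⟩⟩, Subtype.ext (by simp [hr])⟩) hnp

/-- Derivations of `k` into `K`-spaces extend. -/
theorem exists_derivation_extend_residue [IsNoetherianRing A] (p : ℕ) [Fact p.Prime] [CharP k p]
    (hA : ∀ (k' : Type u) [Field k'] [Algebra k k'], Module.Finite k k' →
      (∀ x : k', x ^ p ∈ Set.range (algebraMap k k')) → IsRegularRing (k' ⊗[k] A))
    (V : Type u) [AddCommGroup V] [Module A V] [Module (ResidueField A) V] [IsScalarTower A (ResidueField A) V]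
    [Module k V] [IsScalarTower k A V] (δ : Derivation ℤ k V) :
    ∃ D : Derivation ℤ A V, ∀ c, D (algebraMap k A c) = δ c := by
  classical
  let K := ResidueField A
  obtain ⟨b, hb, hbspan, hbli⟩ := exists_linearIndependent k (Set.range (KaehlerDifferential.D ℤ k))
  rw [KaehlerDifferential.span_range_derivation] at hbspan
  choose r hr using fun i : b => hb i.2
  let W := K ⊗[A] KaehlerDifferential ℤ A
  let v : b → W := fun i => (1 : K) ⊗ₜ[A] KaehlerDifferential.D ℤ A (algebraMap k A (r i))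
  have hv : LinearIndependent K v := by
    rw [linearIndependent_iff']
    intro t c hsum i hi
    have hni : KaehlerDifferential.D ℤ k (r i) ∉ Submodule.span k (KaehlerDifferential.D ℤ k '' (r '' ↑(t.erase i))) := by
      rw [← Set.image_comp, hr]
      intro h
      refine hbli.notMem_span_image (s := (↑(t.erase i) : Set b)) (x := i) (by simp) ?_
      refine Submodule.span_mono ?_ h
      rintro _ ⟨j, hj, rfl⟩
      exact ⟨j, hj, (hr j).symm⟩
    obtain ⟨D, hD1, hD0⟩ := exists_derivation_dual p hA _ ((t.erase i).finite_toSet.image r) (r i) hni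
    have h1 := congrArg (LinearMap.liftBaseChange K D.liftKaehlerDifferential) hsum
    rw [map_sum, map_zero] at h1
    simp only [map_smul, v, LinearMap.liftBaseChange_tmul, one_smul, Derivation.liftKaehlerDifferential_comp_D] at h1
    rw [Finset.sum_eq_single i (fun j hj hji => by
      rw [hD0 _ ⟨j, by simp [hji, hj], rfl⟩, smul_zero]) fun h => absurd hi h, hD1, smul_eq_mul, mul_one] at h1
    exact h1
  obtain ⟨G, hG⟩ := LinearMap.exists_extend
    ((Finsupp.linearCombination K fun i : b => δ (r i)).comp hv.repr)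
  have hGv : ∀ i, G (v i) = δ (r i) := fun i => by
    have h1 := LinearMap.congr_fun hG ⟨v i, Submodule.subset_span ⟨i, rfl⟩⟩
    simp only [LinearMap.comp_apply, Submodule.subtype_apply] at h1
    rw [h1, hv.repr_eq_single i _ rfl, Finsupp.linearCombination_single, one_smul]
  let D : Derivation ℤ A V := ((G.restrictScalars A).comp (TensorProduct.mk A K (KaehlerDifferential ℤ A) 1)).compDer
    (KaehlerDifferential.D ℤ A)
  refine ⟨D, fun c => ?_⟩
  have heq : (D.compAlgebraMap k).liftKaehlerDifferential = δ.liftKaehlerDifferential := by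
    refine LinearMap.ext_on hbspan fun ω hω => ?_
    rw [show ω = KaehlerDifferential.D ℤ k (r ⟨ω, hω⟩) from (hr ⟨ω, hω⟩).symm, Derivation.liftKaehlerDifferential_comp_D,
      Derivation.liftKaehlerDifferential_comp_D]
    exact hGv _
  have h1 := LinearMap.congr_fun heq (KaehlerDifferential.D ℤ k c)
  rwa [Derivation.liftKaehlerDifferential_comp_D, Derivation.liftKaehlerDifferential_comp_D] at h1

/-- Algebras regular after height one extensions are formally smooth. -/
theorem of_regular_height_one [IsNoetherianRing A] (p : ℕ) [hp : Fact p.Prime] [CharP k p]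
    (hA : ∀ (k' : Type u) [Field k'] [Algebra k k'], Module.Finite k k' →
      (∀ x : k', x ^ p ∈ Set.range (algebraMap k k')) → IsRegularRing (k' ⊗[k] A)) :
    CAlgX.IsAdicFormallySmooth k A (maximalIdeal A) := by
  haveI : IsRegularRing (k ⊗[k] A) := hA k inferInstance fun x => ⟨x ^ p, rfl⟩
  haveI : IsRegularRing A := IsRegularRing.of_ringEquiv (Algebra.TensorProduct.lid k A).toRingEquiv
  haveI : IsRegularLocalRing A := IsRegularLocalRing.of_isRegularRing_of_isLocalRing _
  haveI : CharP A p := charP_of_injective_algebraMap (algebraMap k A).injective p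
  haveI := perfectField_ulift_zmod.{u} p
  letI : Algebra (ULift.{u} (ZMod p)) A := ((ZMod.castHom dvd_rfl A).comp ULift.ringEquiv.toRingHom).toAlgebra
  refine of_killed fun T _ f J hJ ψ hψ hk hkill => ?_
  obtain ⟨χ₀, -, hχ₀⟩ := exists_lift_ringHom (of_regular_perfect (k := ULift.{u} (ZMod p)) (A := A))
    (f.comp ((ZMod.castHom dvd_rfl k).comp ULift.ringEquiv.toRingHom)) J hJ ψ (ulift_zmod_hom_ext _ _) hk
  have hχ : ∀ a, Ideal.Quotient.mk J (χ₀ a) = ψ a := RingHom.congr_fun hχ₀
  letI : Algebra A T := χ₀.toAlgebra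
  letI : Algebra k T := (χ₀.comp (algebraMap k A)).toAlgebra
  haveI : IsScalarTower k A T := IsScalarTower.of_algebraMap_eq fun _ => rfl
  let V := Submodule.restrictScalars A J
  have hV : Module.IsTorsionBySet A V (maximalIdeal A) := fun {v} a => Subtype.ext (by
    show χ₀ a.1 * (v : T) = 0
    exact hkill a.1 a.2 _ (hχ _) _ v.2)
  letI : Module (ResidueField A) V := hV.module
  haveI : IsScalarTower A (ResidueField A) V := hV.isScalarTower
  have hmem : ∀ c, χ₀ (algebraMap k A c) - f c ∈ J := fun c => Ideal.Quotient.eq.mp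
    ((hχ _).trans (RingHom.congr_fun hψ c))
  have hsq : ∀ x ∈ J, ∀ y ∈ J, x * y = 0 := fun x hx y hy => by
    have h1 := Ideal.mul_mem_mul hx hy
    rwa [← pow_two, hJ, Ideal.mem_bot] at h1
  let δ0 : k →+ V := AddMonoidHom.mk' (fun c => ⟨χ₀ (algebraMap k A c) - f c, hmem c⟩) fun c d =>
    Subtype.ext (by
      show χ₀ (algebraMap k A (c + d)) - f (c + d) = (χ₀ (algebraMap k A c) - f c) + (χ₀ (algebraMap k A d) - f d)
      simp only [map_add]; ring)
  let δ : Derivation ℤ k V := Derivation.mk' δ0.toIntLinearMap fun c d => Subtype.ext (by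
    show χ₀ (algebraMap k A (c * d)) - f (c * d) =
      χ₀ (algebraMap k A c) * (χ₀ (algebraMap k A d) - f d) + χ₀ (algebraMap k A d) * (χ₀ (algebraMap k A c) - f c)
    rw [map_mul, map_mul, map_mul]
    linear_combination (-1 : T) * hsq _ (hmem c) _ (hmem d))
  obtain ⟨D, hD⟩ := exists_derivation_extend_residue p hA V δ
  let χ : A →+* T :=
    { toFun := fun a => χ₀ a - (D a : T)
      map_one' := by simp
      map_zero' := by simp
      map_add' := fun a b => by rw [map_add, map_add, Submodule.coe_add]; ring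
      map_mul' := fun a b => by
        rw [map_mul, Derivation.leibniz]
        show χ₀ a * χ₀ b - (χ₀ a * (D b : T) + χ₀ b * (D a : T)) = _
        linear_combination (-1 : T) * hsq _ (D a).2 _ (D b).2 }
  refine ⟨χ, RingHom.ext fun c => ?_, RingHom.ext fun a => ?_⟩
  · show χ₀ (algebraMap k A c) - (D (algebraMap k A c) : T) = f c
    rw [hD]
    show χ₀ (algebraMap k A c) - (χ₀ (algebraMap k A c) - f c) = f c
    ring
  · show Ideal.Quotient.mk J (χ₀ a - (D a : T)) = ψ a
    rw [map_sub, Ideal.Quotient.eq_zero_iff_mem.mpr (show (D a : T) ∈ J from (D a).2), sub_zero, hχ]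

end Groth.Agent.CAlgH.AdicSmooth
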