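import Mathlib
import Groth.Agent.CAlgH.AdicSmoothField

/-! Complete regular local rings containing a field. -/
universe u
open IsLocalRing

namespace Groth.Agent.CAlgH

/-- A coefficient field of a complete local algebra over a perfect field. -/
theorem exists_coefficient_field_perfect {k R : Type u} [Field k] [PerfectField k] [CommRing R] [IsLocalRing R]
    [IsAdicComplete (maximalIdeal R) R] [Algebra k R] :
    ∃ s : ResidueField R →+* R, s.comp (algebraMap k (ResidueField R)) = algebraMap k R ∧
      ∀ c, residue R (s c) = c := by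
  haveI : Algebra.FormallySmooth k (ResidueField R) := formallySmooth_of_perfectField_any k _
  obtain ⟨s, hs1, hs2⟩ := AdicSmooth.exists_lift_complete
    (AdicSmooth.of_formallySmooth (R := k) (S := ResidueField R) (𝔫 := ⊥)) (algebraMap k R)
    (maximalIdeal R) (RingHom.id (ResidueField R)) rfl ⟨1, fun x hx => by rw [pow_one, Ideal.mem_bot] at hx; exact hx⟩
  exact ⟨s, hs1, RingHom.congr_fun hs2⟩

theorem exists_coefficient_field_of_algebra (k R : Type u) [Field k] [CommRing R] [IsLocalRing R]
    [IsAdicComplete (maximalIdeal R) R] [Algebra k R] :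
    ∃ s : ResidueField R →+* R, ∀ c, residue R (s c) = c := by
  obtain ⟨p, _⟩ := CharP.exists k
  rcases CharP.char_is_prime_or_zero k p with hp | hp
  · haveI := Fact.mk hp
    haveI := AdicSmooth.perfectField_ulift_zmod.{u} p
    haveI : CharP R p := charP_of_injective_algebraMap (algebraMap k R).injective p
    letI : Algebra (ULift.{u} (ZMod p)) R := ((ZMod.castHom dvd_rfl R).comp ULift.ringEquiv.toRingHom).toAlgebra
    obtain ⟨s, -, h⟩ := exists_coefficient_field_perfect (k := ULift.{u} (ZMod p)) (R := R)
    exact ⟨s, h⟩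
  · subst hp
    haveI : CharZero k := CharP.charP_to_charZero k
    obtain ⟨s, -, h⟩ := exists_coefficient_field_perfect (k := k) (R := R)
    exact ⟨s, h⟩

/-- A complete regular local ring with a coefficient field is a power series ring over it. -/
theorem exists_equiv_mvPowerSeries_of_coefficient {K R : Type u} [Field K] [CommRing R] [IsRegularLocalRing R]
    [IsAdicComplete (maximalIdeal R) R] (s : K →+* R) (hs : Function.Surjective ((residue R).comp s)) :
    ∃ (d : ℕ) (e : MvPowerSeries (Fin d) K ≃+* R), ∀ c, e (MvPowerSeries.C c) = s c := by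
  classical
  haveI : IsDomain R := CAlgH3.isDomain_of_isRegularLocalRing R
  obtain ⟨t, ht, htspan⟩ := Submodule.FG.exists_span_finset_card_eq_spanFinrank (IsNoetherian.noetherian (maximalIdeal R))
  have hdim := IsRegularLocalRing.spanFinrank_maximalIdeal (R := R)
  rw [← ht] at hdim
  let x : Fin t.card → R := fun i => (t.equivFin.symm i : R)
  have hx : Ideal.span (Set.range x) = maximalIdeal R := by
    rw [show Set.range x = (t : Set R) from ?_]
    · exact htspan
    · ext a
      exact ⟨fun ⟨i, hi⟩ => hi ▸ (t.equivFin.symm i).2, fun ha => ⟨t.equivFin ⟨a, ha⟩, by simp [x]⟩⟩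
  obtain ⟨f, hfC, hfX⟩ := exists_mvPowerSeries_eval s (maximalIdeal R) x fun i => hx ▸ Ideal.subset_span ⟨i, rfl⟩
  have hfs : Function.Surjective f := by
    refine surjective_mvPowerSeries_hom f (maximalIdeal R) (fun i => by rw [hfX]; exact hx ▸ Ideal.subset_span ⟨i, rfl⟩) ?_
    intro y
    obtain ⟨a, rfl⟩ := Ideal.Quotient.mk_surjective y
    obtain ⟨c, hc⟩ := hs (residue R a)
    refine ⟨c, ?_⟩
    rw [RingHom.comp_apply, hfC, Ideal.Quotient.eq, show (fun i => f (MvPowerSeries.X i)) = x from funext hfX, hx]
    exact Ideal.Quotient.eq.mp hc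
  have hfi : Function.Injective f := by
    refine injective_mvPowerSeries_hom f (RingHom.Finite.of_surjective f hfs) ?_
    rw [ringKrullDim_eq_zero_of_isField (Field.toIsField K), zero_add, hdim]
  exact ⟨t.card, RingEquiv.ofBijective f ⟨hfi, hfs⟩, RingHom.congr_fun hfC⟩

theorem exists_ringEquiv_mvPowerSeries_residueField (k R : Type u) [Field k] [CommRing R] [IsRegularLocalRing R]
    [IsAdicComplete (maximalIdeal R) R] [Algebra k R] :
    ∃ d : ℕ, Nonempty (R ≃+* MvPowerSeries (Fin d) (ResidueField R)) := by
  obtain ⟨s, hs⟩ := exists_coefficient_field_of_algebra k R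
  obtain ⟨d, e, -⟩ := exists_equiv_mvPowerSeries_of_coefficient s fun y => ⟨y, hs y⟩
  exact ⟨d, ⟨e.symm⟩⟩

/-- The completion of a regular local algebra over a field. -/
theorem exists_cpl_equiv_of_regular (k A : Type u) [Field k] [CommRing A] [IsRegularLocalRing A] [Algebra k A] :
    ∃ d : ℕ, Nonempty (EGA4.Cpl A ≃+* MvPowerSeries (Fin d) (ResidueField A)) := by
  haveI : IsNoetherianRing (EGA4.Cpl A) := Groth.Agent.Matlis6.isNoetherianRing_adicCompletion _
  haveI : IsRegularLocalRing (EGA4.Cpl A) := isRegularLocalRing_cpl A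
  obtain ⟨s, hs⟩ := exists_coefficient_field_of_algebra k (EGA4.Cpl A)
  haveI := isLocalHom_algebraMap_cpl A
  let eK : ResidueField A ≃+* ResidueField (EGA4.Cpl A) := RingEquiv.ofBijective _ (AdicCompletion.residueField_map_bijective A)
  obtain ⟨d, e, -⟩ := exists_equiv_mvPowerSeries_of_coefficient (s.comp eK.toRingHom) fun y =>
    ⟨eK.symm y, by simp [hs]⟩
  exact ⟨d, ⟨e.symm⟩⟩

end Groth.Agent.CAlgH
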