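import Mathlib
import Groth.Agent.CAlgH.AdicSmoothCharP
import Groth.Agent.CAlgH.RegularPowerSeries

/-! Formal smoothness over a field and geometric regularity. -/
universe u
open IsLocalRing TensorProduct

namespace Groth.Agent.CAlgH.AdicSmooth

/-- Geometrically regular Noetherian local algebras are formally smooth. -/
theorem of_isGeometricallyRegular {k A : Type u} [Field k] [CommRing A] [IsLocalRing A] [IsNoetherianRing A] [Algebra k A]
    (h : CAlg.IsGeometricallyRegular k A) : CAlgX.IsAdicFormallySmooth k A (maximalIdeal A) := by
  obtain ⟨p, _⟩ := CharP.exists k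
  rcases CharP.char_is_prime_or_zero k p with hp | hp
  · haveI := Fact.mk hp
    exact of_regular_height_one p fun k' _ _ hk' _ => h k' hk'
  · subst hp
    haveI : CharZero k := CharP.charP_to_charZero k
    haveI : IsRegularRing (k ⊗[k] A) := h k inferInstance
    haveI : IsRegularRing A := IsRegularRing.of_ringEquiv (Algebra.TensorProduct.lid k A).toRingEquiv
    haveI : IsRegularLocalRing A := IsRegularLocalRing.of_isRegularRing_of_isLocalRing _
    exact of_regular_perfect

theorem isGeometricallyRegular_localization (k A : Type u) [Field k] [CommRing A] [Algebra k A]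
    (h : CAlg.IsGeometricallyRegular k A) (M : Submonoid A) (T : Type u) [CommRing T] [Algebra A T] [IsLocalization M T]
    [Algebra k T] [IsScalarTower k A T] : CAlg.IsGeometricallyRegular k T := by
  intro k' _ _ hk'
  haveI := h k' hk'
  letI : Algebra (k' ⊗[k] A) (k' ⊗[k] T) :=
    (Algebra.TensorProduct.map (AlgHom.id k k') (IsScalarTower.toAlgHom k A T)).toRingHom.toAlgebra
  haveI : IsScalarTower k' (k' ⊗[k] A) (k' ⊗[k] T) :=
    @IsScalarTower.of_algebraMap_eq k' (k' ⊗[k] A) (k' ⊗[k] T) _ _ _ _ _ _ fun x => by
      show x ⊗ₜ[k] (1 : T) = Algebra.TensorProduct.map (AlgHom.id k k') (IsScalarTower.toAlgHom k A T) (x ⊗ₜ[k] (1 : A))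
      simp
  haveI := IsLocalization.tensorProduct_tensorProduct_right k k' M T
    (RingHom.ext fun x => by simp [RingHom.algebraMap_toAlgebra])
  exact isRegularRing_localization (M.map (Algebra.TensorProduct.includeRight (R := k) (A := k'))) (k' ⊗[k] T)

/-- Over a field, formal smoothness passes to localisations at primes. -/
theorem of_localization_prime {k A : Type u} [Field k] [CommRing A] [IsLocalRing A] [IsNoetherianRing A] [Algebra k A]
    (h : CAlgX.IsAdicFormallySmooth k A (maximalIdeal A)) (p : Ideal A) [p.IsPrime] :
    CAlgX.IsAdicFormallySmooth k (Localization.AtPrime p) (maximalIdeal (Localization.AtPrime p)) :=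
  haveI : IsNoetherianRing (Localization.AtPrime p) := IsLocalization.isNoetherianRing p.primeCompl _ inferInstance
  of_isGeometricallyRegular (isGeometricallyRegular_localization k A (isGeometricallyRegular_of_adicSmooth h) p.primeCompl _)

/-- The completion of a formally smooth local algebra is a power series ring. -/
theorem exists_cpl_ringEquiv_mvPowerSeries {k A : Type u} [Field k] [CommRing A] [IsLocalRing A] [IsNoetherianRing A]
    [Algebra k A] (h : CAlgX.IsAdicFormallySmooth k A (maximalIdeal A)) :
    ∃ n : ℕ, Nonempty (EGA4.Cpl A ≃+* MvPowerSeries (Fin n) (ResidueField A)) := by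
  haveI := isRegularLocalRing_of_adicSmooth h
  exact exists_cpl_equiv_of_regular k A

end Groth.Agent.CAlgH.AdicSmooth
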