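import Mathlib
import Groth.Agent.CAlgH.PowerSeriesEval

/-! Completeness of power series rings over complete local rings. -/
universe u
open IsLocalRing Finsupp

namespace Groth.Agent.CAlgH

variable {R : Type u} [CommRing R] {n : ℕ}

theorem exists_eq_C_add_sum_X_mul (f : MvPowerSeries (Fin n) R) :
    ∃ g : Fin n → MvPowerSeries (Fin n) R,
      (∀ i d, MvPowerSeries.coeff d (g i) = 0 ∨ MvPowerSeries.coeff d (g i) = MvPowerSeries.coeff (d + single i 1) f) ∧
      f = MvPowerSeries.C (MvPowerSeries.constantCoeff f) + ∑ i, MvPowerSeries.X i * g i := by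
  classical
  let g : Fin n → MvPowerSeries (Fin n) R := fun i d =>
    if ∀ j < i, d j = 0 then MvPowerSeries.coeff (d + single i 1) f else 0
  refine ⟨g, fun i d => ?_, ?_⟩
  · change (if ∀ j < i, d j = 0 then MvPowerSeries.coeff (d + single i 1) f else 0) = 0 ∨
      (if ∀ j < i, d j = 0 then MvPowerSeries.coeff (d + single i 1) f else 0) = _
    split_ifs
    · exact Or.inr rfl
    · exact Or.inl rfl
  ext d
  rw [map_add, map_sum]
  have hterm : ∀ i, MvPowerSeries.coeff d (MvPowerSeries.X i * g i) =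
      if d i ≠ 0 ∧ ∀ j < i, d j = 0 then MvPowerSeries.coeff d f else 0 := by
    intro i
    rw [MvPowerSeries.X_def, MvPowerSeries.coeff_monomial_mul]
    by_cases hi : d i = 0
    · rw [if_neg (fun h => by have := h i; simp [hi] at this), if_neg (fun h => h.1 hi)]
    · have hle : single i 1 ≤ d := by simpa [Finsupp.single_le_iff] using Nat.one_le_iff_ne_zero.2 hi
      rw [if_pos hle, one_mul]
      change (if ∀ j < i, (d - single i 1 : Fin n →₀ ℕ) j = 0 then MvPowerSeries.coeff (d - single i 1 + single i 1) f else 0) = _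
      rw [tsub_add_cancel_of_le hle]
      refine if_congr ⟨fun h => ⟨hi, fun j hj => ?_⟩, fun h j hj => ?_⟩ rfl rfl
      · simpa [Finsupp.single_eq_of_ne hj.ne] using h j hj
      · simp [h.2 j hj]
  simp only [hterm]
  by_cases hd : d = 0
  · subst hd
    rw [Finset.sum_eq_zero fun i _ => if_neg (fun h => h.1 rfl), add_zero,
      MvPowerSeries.coeff_zero_C, MvPowerSeries.coeff_zero_eq_constantCoeff_apply]
  · obtain ⟨i, hi, hmin⟩ := d.support.exists_min_image id (Finsupp.support_nonempty_iff.2 hd)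
    rw [MvPowerSeries.coeff_C, if_neg hd, zero_add, Finset.sum_eq_single i]
    · rw [if_pos ⟨Finsupp.mem_support_iff.1 hi, fun j hj => by
        by_contra h
        exact absurd (hmin j (Finsupp.mem_support_iff.2 h)) (not_le.2 hj)⟩]
    · intro j _ hj
      rw [if_neg]
      rintro ⟨h1, h2⟩
      rcases lt_or_gt_of_ne hj with h | h
      · exact absurd (hmin j (Finsupp.mem_support_iff.2 h1)) (not_le.2 h)
      · exact Finsupp.mem_support_iff.1 hi (h2 i h)
    · exact fun h => absurd (Finset.mem_univ i) h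

/-- The series whose coefficient in degree `j` lies in `𝔪 ^ (a - j)`. -/
def coeffIdeal (𝔪 : Ideal R) (a : ℕ) : Ideal (MvPowerSeries (Fin n) R) where
  carrier := {f | ∀ d, MvPowerSeries.coeff d f ∈ 𝔪 ^ (a - d.degree)}
  add_mem' := fun hf hg d => by rw [map_add]; exact add_mem (hf d) (hg d)
  zero_mem' := fun d => by rw [map_zero]; exact zero_mem _
  smul_mem' := fun c {f} hf d => by
    classical
    rw [smul_eq_mul, MvPowerSeries.coeff_mul]
    refine Ideal.sum_mem _ fun q hq => Ideal.mul_mem_left _ _ (Ideal.pow_le_pow_right ?_ (hf q.2))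
    have h := Finset.HasAntidiagonal.mem_antidiagonal.mp hq
    rw [← h, map_add]
    omega

theorem mem_coeffIdeal {𝔪 : Ideal R} {a : ℕ} {f : MvPowerSeries (Fin n) R} :
    f ∈ coeffIdeal 𝔪 a ↔ ∀ d, MvPowerSeries.coeff d f ∈ 𝔪 ^ (a - d.degree) := Iff.rfl

theorem coeffIdeal_mul_le (𝔪 : Ideal R) (a b : ℕ) :
    coeffIdeal (n := n) 𝔪 a * coeffIdeal 𝔪 b ≤ coeffIdeal 𝔪 (a + b) := by
  classical
  refine Ideal.mul_le.mpr fun f hf g hg d => ?_
  rw [MvPowerSeries.coeff_mul]
  refine Ideal.sum_mem _ fun q hq => Ideal.pow_le_pow_right ?_ (pow_add 𝔪 _ _ ▸ Ideal.mul_mem_mul (hf q.1) (hg q.2))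
  have h := Finset.HasAntidiagonal.mem_antidiagonal.mp hq
  rw [← h, map_add]
  omega

theorem coeffIdeal_eq_pow (𝔪 : Ideal R) : ∀ a, coeffIdeal (n := n) 𝔪 a = coeffIdeal 𝔪 1 ^ a := by
  intro a
  induction a with
  | zero =>
    rw [pow_zero, Ideal.one_eq_top, eq_top_iff]
    exact fun f _ d => by simp
  | succ a ih =>
    refine le_antisymm (fun f hf => ?_) ?_
    · obtain ⟨g, hg, hfg⟩ := exists_eq_C_add_sum_X_mul f
      have hC : ∀ j, ∀ r ∈ 𝔪 ^ j, MvPowerSeries.C (σ := Fin n) r ∈ coeffIdeal 𝔪 1 ^ j := by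
        intro j r hr
        have h1 := Ideal.mem_map_of_mem (MvPowerSeries.C (σ := Fin n) (R := R)) hr
        rw [Ideal.map_pow] at h1
        refine Ideal.pow_right_mono ?_ j h1
        refine Ideal.map_le_iff_le_comap.mpr fun x hx d => ?_
        rw [MvPowerSeries.coeff_C]
        split_ifs with hd
        · subst hd; simpa using hx
        · exact zero_mem _
      rw [hfg]
      refine add_mem (hC _ _ ?_) (Ideal.sum_mem _ fun i _ => ?_)
      · have h0 := hf 0
        rw [MvPowerSeries.coeff_zero_eq_constantCoeff_apply] at h0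
        simpa using h0
      · rw [pow_succ', ← ih]
        refine Ideal.mul_mem_mul ?_ fun d => ?_
        · intro d
          rw [MvPowerSeries.coeff_X]
          split_ifs with hd
          · subst hd; simp
          · exact zero_mem _
        · rcases hg i d with h | h
          · rw [h]; exact zero_mem _
          · rw [h]
            have h1 := hf (d + single i 1)
            rwa [map_add, Finsupp.degree_single, Nat.succ_sub_succ] at h1
    · rw [pow_succ, ← ih]
      exact coeffIdeal_mul_le 𝔪 a 1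

theorem isAdicComplete_coeffIdeal (𝔪 : Ideal R) [IsAdicComplete 𝔪 R] :
    IsAdicComplete (coeffIdeal (n := n) 𝔪 1) (MvPowerSeries (Fin n) R) := by
  haveI : IsHausdorff (coeffIdeal (n := n) 𝔪 1) (MvPowerSeries (Fin n) R) := ⟨fun f hf => by
    refine MvPowerSeries.ext fun d => ?_
    rw [map_zero]
    refine IsHausdorff.haus (inferInstance : IsHausdorff 𝔪 R) _ fun k => ?_
    have h1 := hf (k + d.degree)
    rw [SModEq.zero, smul_eq_mul, Ideal.mul_top, ← coeffIdeal_eq_pow, mem_coeffIdeal] at h1
    rw [SModEq.zero, smul_eq_mul, Ideal.mul_top]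
    simpa using h1 d⟩
  haveI : IsPrecomplete (coeffIdeal (n := n) 𝔪 1) (MvPowerSeries (Fin n) R) := ⟨fun f hf => by
    have hf' : ∀ {a b : ℕ}, a ≤ b → f a - f b ∈ coeffIdeal 𝔪 a := fun hab => by
      have h1 := hf hab
      rwa [SModEq.sub_mem, smul_eq_mul, Ideal.mul_top, ← coeffIdeal_eq_pow] at h1
    choose L hL using fun d : Fin n →₀ ℕ => IsPrecomplete.prec (inferInstance : IsPrecomplete 𝔪 R)
      (f := fun k => MvPowerSeries.coeff d (f (k + d.degree))) fun {a b} hab => by
        rw [SModEq.sub_mem, smul_eq_mul, Ideal.mul_top, ← map_sub]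
        simpa using hf' (Nat.add_le_add_right hab d.degree) d
    let g : MvPowerSeries (Fin n) R := fun d => L d
    refine ⟨g, fun k => ?_⟩
    rw [SModEq.sub_mem, smul_eq_mul, Ideal.mul_top, ← coeffIdeal_eq_pow]
    intro d
    rw [map_sub]
    change MvPowerSeries.coeff d (f k) - L d ∈ _
    by_cases hdk : d.degree ≤ k
    · have h1 := hL d (k - d.degree)
      rw [SModEq.sub_mem, smul_eq_mul, Ideal.mul_top, Nat.sub_add_cancel hdk] at h1
      exact h1
    · rw [Nat.sub_eq_zero_of_le (le_of_not_ge hdk), pow_zero, Ideal.one_eq_top]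
      trivial⟩
  constructor

theorem maximalIdeal_eq_coeffIdeal [IsLocalRing R] :
    maximalIdeal (MvPowerSeries (Fin n) R) = coeffIdeal (maximalIdeal R) 1 := by
  refine (eq_maximalIdeal (Ideal.isMaximal_iff.mpr ⟨fun h => ?_, fun J f hJ hf hfJ => ?_⟩)).symm
  · have h1 := h 0
    rw [MvPowerSeries.coeff_zero_eq_constantCoeff_apply, map_one] at h1
    simp at h1
  · have hu : IsUnit f := by
      rw [MvPowerSeries.isUnit_iff_constantCoeff]
      by_contra hu
      refine hf fun d => ?_
      rcases Nat.eq_zero_or_pos d.degree with h0 | h0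
      · rw [(Finsupp.degree_eq_zero_iff d).mp h0, MvPowerSeries.coeff_zero_eq_constantCoeff_apply]
        simpa using hu
      · rw [Nat.sub_eq_zero_of_le h0, pow_zero, Ideal.one_eq_top]
        trivial
    exact (Ideal.eq_top_iff_one J).mp (Ideal.eq_top_of_isUnit_mem _ hfJ hu)

/-- A power series ring over a complete local ring is complete. -/
theorem isAdicComplete_maximalIdeal_mvPowerSeries [IsLocalRing R] [IsAdicComplete (maximalIdeal R) R] :
    IsAdicComplete (maximalIdeal (MvPowerSeries (Fin n) R)) (MvPowerSeries (Fin n) R) := by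
  rw [maximalIdeal_eq_coeffIdeal]
  exact isAdicComplete_coeffIdeal _

end Groth.Agent.CAlgH
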