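import Mathlib
import Groth.Agent.CAlgH.AdicSmoothFlat
import Groth.Agent.CAlgH.AdicSmoothGeom
import Groth.Agent.CAlgH.PowerSeriesComplete
import Groth.Agent.CAlgH.CompleteLocal
import Groth.Agent.CAlgMisc1.Basic
import Groth.Agent.CommAlg6.CompletionMap
import Groth.Agent.S2082

/-! Flat lifts of formally smooth algebras; formal smoothness implies flatness. -/
universe u
open IsLocalRing TensorProduct

namespace Groth.Agent.CAlgH.AdicSmooth

theorem le_ringKrullDim_mvPowerSeries_local (W : Type u) [CommRing W] [IsNoetherianRing W] [Nontrivial W] :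
    ∀ n : ℕ, ringKrullDim W + (n : WithBot ℕ∞) ≤ ringKrullDim (MvPowerSeries (Fin n) W) := by
  intro n
  induction n with
  | zero =>
    rw [Nat.cast_zero, add_zero, ← ringKrullDim_eq_of_ringEquiv (MvPowerSeries.isEmptyEquiv (Fin 0) W).toRingEquiv.symm]
  | succ n ih =>
    rw [← ringKrullDim_eq_of_ringEquiv (MvPowerSeries.finSuccEquiv W n).toRingEquiv.symm, Nat.cast_succ, ← add_assoc]
    exact (add_le_add ih le_rfl).trans ringKrullDim_succ_le_ringKrullDim_powerseries

theorem ringKrullDim_mvPowerSeries_regular (W : Type u) [CommRing W] [IsRegularLocalRing W] (n : ℕ) :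
    ringKrullDim (MvPowerSeries (Fin n) W) = ringKrullDim W + n :=
  le_antisymm (isRegularLocalRing_mvPowerSeries W n).2 (le_ringKrullDim_mvPowerSeries_local W n)

theorem ker_constantCoeff (W : Type u) [CommRing W] (n : ℕ) :
    RingHom.ker (MvPowerSeries.constantCoeff (σ := Fin n) (R := W)) = Ideal.span (Set.range MvPowerSeries.X) := by
  refine le_antisymm (fun f hf => ?_) (Ideal.span_le.mpr ?_)
  · obtain ⟨g, -, hfg⟩ := exists_eq_C_add_sum_X_mul f
    rw [hfg, RingHom.mem_ker.mp hf, map_zero, zero_add]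
    exact Ideal.sum_mem _ fun i _ => Ideal.mul_mem_right _ _ (Ideal.subset_span ⟨i, rfl⟩)
  · rintro _ ⟨i, rfl⟩
    exact MvPowerSeries.constantCoeff_X i

/-- A lift of `B₀` over the coefficient ring gives one over power series over it. -/
theorem exists_flat_mvPowerSeries {Λ W B₀ k : Type u} [CommRing Λ] [IsRegularLocalRing Λ] [CommRing W] [IsRegularLocalRing W]
    [IsAdicComplete (maximalIdeal W) W] [CommRing B₀] [IsLocalRing B₀] [Field k] [Algebra k B₀]
    (π : W →+* B₀) (hπ : Function.Surjective π) (g : Λ →+* W) (χ : Λ →+* k) (hcomp : π.comp g = (algebraMap k B₀).comp χ)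
    (hχ : RingHom.ker χ = maximalIdeal Λ) (hker : RingHom.ker π = (maximalIdeal Λ).map g)
    (hdim : ringKrullDim W = ringKrullDim Λ + ringKrullDim B₀) (n : ℕ) :
    ∃ (ρ : MvPowerSeries (Fin n) W →+* B₀),
      IsRegularLocalRing (MvPowerSeries (Fin n) W) ∧
      IsAdicComplete (maximalIdeal (MvPowerSeries (Fin n) W)) (MvPowerSeries (Fin n) W) ∧
      (MvPowerSeries.map (σ := Fin n) g).Flat ∧ IsLocalHom (MvPowerSeries.map (σ := Fin n) g) ∧ Function.Surjective ρ ∧
      RingHom.ker ρ = (maximalIdeal (MvPowerSeries (Fin n) Λ)).map (MvPowerSeries.map g) ∧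
      ρ.comp (MvPowerSeries.map g) = (algebraMap k B₀).comp (χ.comp MvPowerSeries.constantCoeff) := by
  let ρ : MvPowerSeries (Fin n) W →+* B₀ := π.comp MvPowerSeries.constantCoeff
  haveI hreg : IsRegularLocalRing (MvPowerSeries (Fin n) W) := (isRegularLocalRing_mvPowerSeries W n).1
  haveI : IsRegularLocalRing (MvPowerSeries (Fin n) Λ) := (isRegularLocalRing_mvPowerSeries Λ n).1
  have hρs : Function.Surjective ρ := hπ.comp fun w => ⟨MvPowerSeries.C w, MvPowerSeries.constantCoeff_C w⟩
  have hρg : ρ.comp (MvPowerSeries.map g) = (algebraMap k B₀).comp (χ.comp MvPowerSeries.constantCoeff) :=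
    RingHom.ext fun f => by
      show π (MvPowerSeries.constantCoeff (MvPowerSeries.map g f)) = _
      rw [MvPowerSeries.constantCoeff_map]
      exact RingHom.congr_fun hcomp _
  have hmΛ : maximalIdeal (MvPowerSeries (Fin n) Λ) =
      (maximalIdeal Λ).map MvPowerSeries.C ⊔ Ideal.span (Set.range MvPowerSeries.X) := by
    refine le_antisymm (fun f hf => ?_) (sup_le (Ideal.map_le_iff_le_comap.mpr fun r hr => ?_) (Ideal.span_le.mpr ?_))
    · have h0 : MvPowerSeries.constantCoeff f ∈ maximalIdeal Λ := fun hu => hf (MvPowerSeries.isUnit_iff_constantCoeff.mpr hu)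
      have h1 : f - MvPowerSeries.C (MvPowerSeries.constantCoeff f) ∈ Ideal.span (Set.range MvPowerSeries.X) := by
        rw [← ker_constantCoeff, RingHom.mem_ker, map_sub, MvPowerSeries.constantCoeff_C, sub_self]
      simpa using Submodule.add_mem_sup (Ideal.mem_map_of_mem MvPowerSeries.C h0) h1
    · intro hu
      rw [MvPowerSeries.isUnit_iff_constantCoeff, MvPowerSeries.constantCoeff_C] at hu
      exact hr hu
    · rintro _ ⟨i, rfl⟩ hu
      rw [MvPowerSeries.isUnit_iff_constantCoeff, MvPowerSeries.constantCoeff_X] at hu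
      exact not_isUnit_zero hu
  have hρker : RingHom.ker ρ = (maximalIdeal (MvPowerSeries (Fin n) Λ)).map (MvPowerSeries.map g) := by
    rw [hmΛ, Ideal.map_sup, Ideal.map_map, Ideal.map_span, ← Set.range_comp,
      show (MvPowerSeries.map g).comp (MvPowerSeries.C (σ := Fin n)) = MvPowerSeries.C.comp g from
        RingHom.ext fun r => MvPowerSeries.map_C g r,
      show (MvPowerSeries.map g) ∘ MvPowerSeries.X = (MvPowerSeries.X : Fin n → MvPowerSeries (Fin n) W) from
        funext fun i => MvPowerSeries.map_X g i, ← Ideal.map_map, ← hker]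
    refine le_antisymm (fun f hf => ?_) (sup_le (Ideal.map_le_iff_le_comap.mpr fun r hr => ?_) ?_)
    · have h1 : f - MvPowerSeries.C (MvPowerSeries.constantCoeff f) ∈ Ideal.span (Set.range MvPowerSeries.X) := by
        rw [← ker_constantCoeff, RingHom.mem_ker, map_sub, MvPowerSeries.constantCoeff_C, sub_self]
      have h2 : MvPowerSeries.constantCoeff f ∈ RingHom.ker π := hf
      simpa using Submodule.add_mem_sup (Ideal.mem_map_of_mem MvPowerSeries.C h2) h1
    · show π (MvPowerSeries.constantCoeff (MvPowerSeries.C r)) = 0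
      rw [MvPowerSeries.constantCoeff_C]; exact hr
    · rw [← ker_constantCoeff]
      intro f hf
      show π (MvPowerSeries.constantCoeff f) = 0
      rw [RingHom.mem_ker.mp hf, map_zero]
  have hle : (maximalIdeal (MvPowerSeries (Fin n) Λ)).map (MvPowerSeries.map g) ≤ maximalIdeal _ :=
    hρker ▸ le_maximalIdeal (RingHom.ker_ne_top ρ)
  have hloc : IsLocalHom (MvPowerSeries.map (σ := Fin n) g) := ((local_hom_TFAE _).out 0 2 rfl rfl).mpr hle
  refine ⟨ρ, hreg, isAdicComplete_maximalIdeal_mvPowerSeries, ?_, hloc, hρs, hρker, hρg⟩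
  letI := (MvPowerSeries.map (σ := Fin n) g).toAlgebra
  haveI : IsLocalHom (algebraMap (MvPowerSeries (Fin n) Λ) (MvPowerSeries (Fin n) W)) := hloc
  haveI := CAlgH3.isCohenMacaulayLocalRing_of_regular (MvPowerSeries (Fin n) W)
  refine RingHom.flat_algebraMap_iff.mpr (Groth.Agent.S2082.result (R := MvPowerSeries (Fin n) Λ) (S := MvPowerSeries (Fin n) W) ?_)
  show _ = _ + ringKrullDim (_ ⧸ Ideal.map (MvPowerSeries.map g) _)
  rw [ringKrullDim_mvPowerSeries_regular, ringKrullDim_mvPowerSeries_regular, hdim, ← hρker,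
    ringKrullDim_eq_of_ringEquiv (RingHom.quotientKerEquivOfSurjective hρs)]
  ac_rfl

theorem ker_map_mvPowerSeries {Λ K : Type u} [CommRing Λ] [CommRing K] (h : Λ →+* K) (p : Λ)
    (hker : RingHom.ker h = Ideal.span {p}) (d : ℕ) :
    RingHom.ker (MvPowerSeries.map (σ := Fin d) h) = Ideal.span {MvPowerSeries.C p} := by
  refine le_antisymm (fun f hf => ?_) ((Ideal.span_singleton_le_iff_mem _).mpr ?_)
  · have hdvd : ∀ e, ∃ b, b * p = MvPowerSeries.coeff e f := fun e => Ideal.mem_span_singleton'.mp (hker ▸ (by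
      rw [RingHom.mem_ker, ← MvPowerSeries.coeff_map, RingHom.mem_ker.mp hf, map_zero]))
    choose b hb using hdvd
    obtain ⟨b', hb'⟩ : ∃ b' : MvPowerSeries (Fin d) Λ, ∀ e, MvPowerSeries.coeff e b' = b e := ⟨b, fun _ => rfl⟩
    refine Ideal.mem_span_singleton'.mpr ⟨b', MvPowerSeries.ext fun e => ?_⟩
    rw [mul_comm, MvPowerSeries.coeff_C_mul, mul_comm, hb']
    exact hb e
  · rw [RingHom.mem_ker, MvPowerSeries.map_C, show h p = 0 from RingHom.mem_ker.mp (hker ▸ Ideal.mem_span_singleton_self p),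
      map_zero]

/-- Lifting a complete regular algebra of characteristic `p` over a Cohen ring. -/
theorem exists_cohen_lift {Λ k B₀ : Type u} [CommRing Λ] (hΛ : CAlg.IsCohenRing Λ) [IsLocalRing Λ] [Field k]
    (χ : Λ →+* k) (hχ : RingHom.ker χ = maximalIdeal Λ)
    [CommRing B₀] [IsRegularLocalRing B₀] [IsAdicComplete (maximalIdeal B₀) B₀] [Algebra k B₀] :
    ∃ (W : Type u) (_ : CommRing W) (π : W →+* B₀) (g : Λ →+* W), IsRegularLocalRing W ∧
      (∃ _ : IsLocalRing W, IsAdicComplete (maximalIdeal W) W) ∧ Function.Surjective π ∧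
      π.comp g = (algebraMap k B₀).comp χ ∧ RingHom.ker π = (maximalIdeal Λ).map g ∧
      ringKrullDim W = ringKrullDim Λ + ringKrullDim B₀ := by
  obtain ⟨hdomΛ, hdvrΛ, hcΛ, p, hp, hm⟩ := id hΛ
  haveI := Fact.mk hp
  have hpk : (p : k) = 0 := by
    rw [← map_natCast χ, ← RingHom.mem_ker, hχ, hm]; exact Ideal.mem_span_singleton_self _
  haveI : CharP k p := (CharP.charP_iff_prime_eq_zero hp).mpr hpk
  let K := ResidueField B₀
  haveI : CharP K p := (CharP.charP_iff_prime_eq_zero hp).mpr (by rw [← map_natCast (algebraMap k K), hpk, map_zero])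
  obtain ⟨ΛK, _, _, hΛK, ⟨eK⟩⟩ := exists_cohenRing p K
  obtain ⟨hdom, hdvr, hc, p', hp', hm'⟩ := id hΛK
  have hpp : p' = p := by
    have h1 : (p' : K) = 0 := by
      rw [← map_natCast eK, ← map_natCast (residue ΛK), (residue_eq_zero_iff _).mpr (hm' ▸ Ideal.mem_span_singleton_self _), map_zero]
    exact ((Nat.prime_dvd_prime_iff_eq hp hp').mp ((CharP.cast_eq_zero_iff K p p').mp h1)).symm
  subst hpp
  obtain ⟨s, hs⟩ := exists_coefficient_field_of_algebra k B₀
  obtain ⟨d, e, -⟩ := exists_equiv_mvPowerSeries_of_coefficient s fun y => ⟨y, hs y⟩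
  haveI : IsRegularLocalRing ΛK := inferInstance
  let W := MvPowerSeries (Fin d) ΛK
  haveI : IsRegularLocalRing W := (isRegularLocalRing_mvPowerSeries ΛK d).1
  haveI : IsAdicComplete (maximalIdeal W) W := isAdicComplete_maximalIdeal_mvPowerSeries
  let h : ΛK →+* K := eK.toRingHom.comp (residue ΛK)
  have hh : Function.Surjective h := eK.surjective.comp residue_surjective
  have hhker : RingHom.ker h = Ideal.span {(p' : ΛK)} := by
    rw [RingHom.ker_equiv_comp, ker_residue, hm']
  let π : W →+* B₀ := e.toRingHom.comp (MvPowerSeries.map h)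
  have hπ : Function.Surjective π := by
    refine e.surjective.comp fun f => ?_
    choose a ha using fun j => hh (MvPowerSeries.coeff j f)
    obtain ⟨a', ha'⟩ : ∃ a' : MvPowerSeries (Fin d) ΛK, ∀ j, MvPowerSeries.coeff j a' = a j := ⟨a, fun _ => rfl⟩
    exact ⟨a', MvPowerSeries.ext fun j => by rw [MvPowerSeries.coeff_map, ha']; exact ha j⟩
  have hπker : RingHom.ker π = Ideal.span {(p' : W)} := by
    show RingHom.ker (RingHom.comp e.toRingHom (MvPowerSeries.map h)) = _
    rw [RingHom.ker_equiv_comp, ker_map_mvPowerSeries h _ hhker, map_natCast]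
  have hpW : (p' : W) ∈ maximalIdeal W :=
    le_maximalIdeal (RingHom.ker_ne_top π) (hπker ▸ Ideal.mem_span_singleton_self _)
  haveI : IsAdicComplete (Ideal.span {(p' : W)}) W := CAlgMisc1.isAdicComplete_of_le _ _
    ((Ideal.span_singleton_le_iff_mem _).mpr hpW) ⟨{(p' : W)}, by simp⟩ W
  obtain ⟨g, hg⟩ := exists_lift_cohen p' (hm ▸ maximalIdeal.isMaximal Λ)
    (fun h => IsDiscreteValuationRing.not_a_field Λ (by rw [hm, h, Ideal.span_singleton_zero]))
    (Ideal.span {(p' : W)}) (Ideal.mem_span_singleton_self _)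
    (((Ideal.quotEquivOfEq hπker).toRingHom.comp (RingHom.quotientKerEquivOfSurjective hπ).symm.toRingHom).comp
      ((algebraMap k B₀).comp χ))
  refine ⟨W, inferInstance, π, g, inferInstance, ⟨inferInstance, inferInstance⟩, hπ, RingHom.ext fun l => ?_,
    by rw [hπker, hm, Ideal.map_span, Set.image_singleton, map_natCast], ?_⟩
  · have h1 := RingHom.congr_fun hg l
    obtain ⟨w, hw⟩ := hπ (algebraMap k B₀ (χ l))
    have h2 : (RingHom.quotientKerEquivOfSurjective hπ).symm (algebraMap k B₀ (χ l)) = Ideal.Quotient.mk _ w := by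
      rw [RingEquiv.symm_apply_eq]; exact hw.symm
    simp only [RingHom.comp_apply] at h1
    change Ideal.Quotient.mk (Ideal.span {(p' : W)}) (g l) = Ideal.quotEquivOfEq hπker
      ((RingHom.quotientKerEquivOfSurjective hπ).symm (algebraMap k B₀ (χ l))) at h1
    rw [h2, Ideal.quotEquivOfEq_mk, Ideal.Quotient.eq, ← hπker, RingHom.mem_ker, map_sub, sub_eq_zero] at h1
    exact h1.trans hw
  · rw [← ringKrullDim_eq_of_ringEquiv e, ringKrullDim_mvPowerSeries_regular, ringKrullDim_mvPowerSeries_regular,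
      IsDiscreteValuationRing.ringKrullDim_eq_one, IsDiscreteValuationRing.ringKrullDim_eq_one,
      ringKrullDim_eq_zero_of_isField (Field.toIsField K), zero_add]

/-- Base change of a flat lift along a presentation. -/
theorem exists_flat_lift_of_presentation {A0 C1 : Type u} [CommRing A0] [IsLocalRing A0] [CommRing C1] [IsRegularLocalRing C1]
    [IsAdicComplete (maximalIdeal C1) C1] [Algebra A0 C1]
    (A : Type u) [CommRing A] [IsLocalRing A] [Algebra A0 A] {k : Type u} [Field k] (α : A →+* k) (hα : Function.Surjective α)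
    (hf : Function.Surjective (algebraMap A0 A)) (hkerα : RingHom.ker α = maximalIdeal A)
    (B₀ : Type u) [CommRing B₀] [Nontrivial B₀] [Algebra k B₀] (ρ₁ : C1 →+* B₀) [Module.Flat A0 C1]
    (hρs : Function.Surjective ρ₁) (hρker : RingHom.ker ρ₁ = (maximalIdeal A0).map (algebraMap A0 C1))
    (hρg : ρ₁.comp (algebraMap A0 C1) = (algebraMap k B₀).comp (α.comp (algebraMap A0 A))) :
    ∃ (C : Type u) (_ : CommRing C) (_ : IsLocalRing C) (_ : Algebra A C) (ρ : C →+* B₀),
      IsNoetherianRing C ∧ IsAdicComplete (maximalIdeal C) C ∧ Module.Flat A C ∧ IsLocalHom (algebraMap A C) ∧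
      Function.Surjective ρ ∧ RingHom.ker ρ = (maximalIdeal A).map (algebraMap A C) ∧
      ρ.comp (algebraMap A C) = (algebraMap k B₀).comp α := by
  let I := RingHom.ker (algebraMap A0 A)
  let IC := I.map (algebraMap A0 C1)
  have hIρ : IC ≤ RingHom.ker ρ₁ := by
    rw [hρker]
    exact Ideal.map_mono (le_maximalIdeal (RingHom.ker_ne_top _))
  haveI : Nontrivial (C1 ⧸ IC) := Ideal.Quotient.nontrivial_iff.mpr (ne_top_of_le_ne_top (RingHom.ker_ne_top ρ₁) hIρ)
  haveI : IsLocalRing (C1 ⧸ IC) := IsLocalRing.of_surjective' (Ideal.Quotient.mk IC) Ideal.Quotient.mk_surjective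
  let φ : A →+* C1 ⧸ IC := RingHom.liftOfSurjective (algebraMap A0 A) hf
    ⟨(Ideal.Quotient.mk IC).comp (algebraMap A0 C1), fun a ha =>
      Ideal.Quotient.eq_zero_iff_mem.mpr (Ideal.mem_map_of_mem _ ha)⟩
  have hφ : φ.comp (algebraMap A0 A) = (Ideal.Quotient.mk IC).comp (algebraMap A0 C1) :=
    RingHom.liftOfRightInverse_comp _ _ _ _
  letI : Algebra A (C1 ⧸ IC) := φ.toAlgebra
  haveI : IsScalarTower A0 A (C1 ⧸ IC) := IsScalarTower.of_algebraMap_eq' hφ.symm
  let ρ : C1 ⧸ IC →+* B₀ := Ideal.Quotient.lift IC ρ₁ fun x hx => hIρ hx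
  have hρ : RingHom.ker ρ = (maximalIdeal A).map (algebraMap A (C1 ⧸ IC)) := by
    have hm : maximalIdeal A = (maximalIdeal A0).map (algebraMap A0 A) := by
      have : IsLocalHom (algebraMap A0 A) := IsLocalHom.of_surjective _ hf
      exact (IsLocalRing.map_maximalIdeal_of_surjective _ hf).symm
    rw [hm, Ideal.map_map, ← IsScalarTower.algebraMap_eq, Ideal.ker_quotient_lift, hρker,
      show algebraMap A0 (C1 ⧸ IC) = (Ideal.Quotient.mk IC).comp (algebraMap A0 C1) from rfl, Ideal.map_map]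
  haveI : Module.Flat A (C1 ⧸ IC) := by
    let Φ : A ⊗[A0] C1 →ₐ[A] C1 ⧸ IC := Algebra.TensorProduct.lift (Algebra.ofId A _) (Ideal.Quotient.mkₐ A0 IC)
      fun _ _ => Commute.all _ _
    let Ψ : C1 ⧸ IC →+* A ⊗[A0] C1 := Ideal.Quotient.lift IC
      (Algebra.TensorProduct.includeRight : C1 →ₐ[A0] A ⊗[A0] C1).toRingHom fun x hx => by
        refine (Ideal.map_le_iff_le_comap.mpr fun i hi => ?_ : IC ≤ RingHom.ker _) hx
        show (1 : A) ⊗ₜ[A0] algebraMap A0 C1 i = 0
        rw [Algebra.algebraMap_eq_smul_one, ← TensorProduct.smul_tmul, ← Algebra.algebraMap_eq_smul_one,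
          show algebraMap A0 A i = 0 from hi, TensorProduct.zero_tmul]
    have hΨ : ∀ z, Ψ (Φ z) = z := fun z => by
      induction z using TensorProduct.induction_on with
      | zero => simp
      | add x y hx hy => simp only [map_add, hx, hy]
      | tmul a c =>
        obtain ⟨a, rfl⟩ := hf a
        rw [Algebra.TensorProduct.lift_tmul]
        show Ψ (φ (algebraMap A0 A a) * Ideal.Quotient.mk IC c) = _
        rw [show φ (algebraMap A0 A a) = Ideal.Quotient.mk IC (algebraMap A0 C1 a) from RingHom.congr_fun hφ a, ← map_mul]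
        show (1 : A) ⊗ₜ[A0] (algebraMap A0 C1 a * c) = _
        rw [← Algebra.smul_def, ← TensorProduct.smul_tmul, Algebra.smul_def, mul_one]
    have hΦs : Function.Surjective Φ := fun y => by
      obtain ⟨c, rfl⟩ := Ideal.Quotient.mk_surjective y
      exact ⟨(1 : A) ⊗ₜ[A0] c, by simp [Φ]⟩
    exact Module.Flat.of_linearEquiv (AlgEquiv.ofBijective Φ ⟨Function.LeftInverse.injective hΨ, hΦs⟩).toLinearEquiv.symm
  have hle : (maximalIdeal A).map (algebraMap A (C1 ⧸ IC)) ≤ maximalIdeal _ :=
    hρ ▸ le_maximalIdeal (RingHom.ker_ne_top ρ)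
  refine ⟨C1 ⧸ IC, inferInstance, inferInstance, inferInstance, ρ, inferInstance,
    CAlgH.isAdicComplete_quotient IC, inferInstance, ((local_hom_TFAE _).out 0 2 rfl rfl).mpr hle,
    Ideal.Quotient.lift_surjective_of_surjective _ _ hρs, hρ, RingHom.ext fun a => ?_⟩
  obtain ⟨a, rfl⟩ := hf a
  show ρ (φ (algebraMap A0 A a)) = _
  rw [show φ (algebraMap A0 A a) = Ideal.Quotient.mk IC (algebraMap A0 C1 a) from RingHom.congr_fun hφ a]
  exact RingHom.congr_fun hρg a

/-- A complete regular algebra over the residue field lifts to a complete flat algebra. -/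
theorem exists_flat_lift (A : Type u) [CommRing A] [IsLocalRing A] [IsNoetherianRing A] [IsAdicComplete (maximalIdeal A) A]
    {k : Type u} [Field k] (α : A →+* k) (hα : Function.Surjective α)
    (B₀ : Type u) [CommRing B₀] [IsRegularLocalRing B₀] [IsAdicComplete (maximalIdeal B₀) B₀] [Algebra k B₀] :
    ∃ (C : Type u) (_ : CommRing C) (_ : IsLocalRing C) (_ : Algebra A C) (ρ : C →+* B₀),
      IsNoetherianRing C ∧ IsAdicComplete (maximalIdeal C) C ∧ Module.Flat A C ∧ IsLocalHom (algebraMap A C) ∧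
      Function.Surjective ρ ∧ RingHom.ker ρ = (maximalIdeal A).map (algebraMap A C) ∧
      ρ.comp (algebraMap A C) = (algebraMap k B₀).comp α := by
  obtain ⟨Λ, _, n, f, hcase, hf⟩ := exists_surjective_mvPowerSeries A (IsNoetherian.noetherian _)
  have hkerα : RingHom.ker α = maximalIdeal A :=
    eq_maximalIdeal (RingHom.ker_isMaximal_of_surjective α hα)
  obtain ⟨hregΛ, W, _, π, g, χ, hregW, ⟨_, hcW⟩, hπ, hcomp, hχ, hker, hdim, hχf⟩ : ∃ (_ : IsRegularLocalRing Λ)
      (W : Type u) (_ : CommRing W) (π : W →+* B₀) (g : Λ →+* W) (χ : Λ →+* k), IsRegularLocalRing W ∧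
      (∃ _ : IsLocalRing W, IsAdicComplete (maximalIdeal W) W) ∧ Function.Surjective π ∧
      π.comp g = (algebraMap k B₀).comp χ ∧ RingHom.ker χ = maximalIdeal Λ ∧ RingHom.ker π = (maximalIdeal Λ).map g ∧
      ringKrullDim W = ringKrullDim Λ + ringKrullDim B₀ ∧ α.comp f = χ.comp MvPowerSeries.constantCoeff := by
    haveI hregΛ : IsRegularLocalRing Λ := by
      rcases hcase with h | h
      · letI := h.toField; infer_instance
      · obtain ⟨_, _, -⟩ := h; infer_instance
    haveI : IsRegularLocalRing (MvPowerSeries (Fin n) Λ) := (isRegularLocalRing_mvPowerSeries Λ n).1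
    let χ : Λ →+* k := (α.comp f).comp MvPowerSeries.C
    have hmax : RingHom.ker (α.comp f) = maximalIdeal (MvPowerSeries (Fin n) Λ) :=
      eq_maximalIdeal (RingHom.ker_isMaximal_of_surjective _ (hα.comp hf))
    have hχf : α.comp f = χ.comp MvPowerSeries.constantCoeff := RingHom.ext fun z => by
      have h1 : z - MvPowerSeries.C (MvPowerSeries.constantCoeff z) ∈ RingHom.ker (α.comp f) := by
        rw [hmax, mem_maximalIdeal, mem_nonunits_iff, MvPowerSeries.isUnit_iff_constantCoeff]; simp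
      rw [RingHom.mem_ker, map_sub, sub_eq_zero] at h1
      exact h1
    have hχ : RingHom.ker χ = maximalIdeal Λ := by
      ext l
      show α (f (MvPowerSeries.C l)) = 0 ↔ _
      rw [show α (f (MvPowerSeries.C l)) = (α.comp f) (MvPowerSeries.C l) from rfl, ← RingHom.mem_ker, hmax,
        mem_maximalIdeal, mem_nonunits_iff, MvPowerSeries.isUnit_iff_constantCoeff, MvPowerSeries.constantCoeff_C]
      exact (mem_maximalIdeal l).symm
    rcases hcase with h | h
    · letI := h.toField
      haveI : Nontrivial B₀ := inferInstance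
      refine ⟨hregΛ, B₀, inferInstance, RingHom.id B₀, (algebraMap k B₀).comp χ, χ, inferInstance,
        ⟨inferInstance, inferInstance⟩, Function.surjective_id, RingHom.id_comp _, hχ, ?_, ?_, hχf⟩
      · rw [show maximalIdeal Λ = ⊥ from maximalIdeal_eq_bot, Ideal.map_bot]
        exact (RingHom.injective_iff_ker_eq_bot _).mp Function.injective_id
      · rw [ringKrullDim_eq_zero_of_isField (Field.toIsField Λ), zero_add]
    · obtain ⟨W, iW, π, g, hW1, hW2, hW3, hW4, hW5, hW6⟩ := exists_cohen_lift h χ hχ (B₀ := B₀)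
      exact ⟨hregΛ, W, iW, π, g, χ, hW1, hW2, hW3, hW4, hχ, hW5, hW6, hχf⟩
  haveI := hregW; haveI := hcW
  obtain ⟨ρ₁, hreg, hc, hflat, hloc, hρs, hρker, hρg⟩ := exists_flat_mvPowerSeries π hπ g χ hcomp hχ hker hdim n
  letI : Algebra (MvPowerSeries (Fin n) Λ) (MvPowerSeries (Fin n) W) := (MvPowerSeries.map (σ := Fin n) g).toAlgebra
  letI : Algebra (MvPowerSeries (Fin n) Λ) A := f.toAlgebra
  haveI : Module.Flat (MvPowerSeries (Fin n) Λ) (MvPowerSeries (Fin n) W) := RingHom.flat_algebraMap_iff.mp hflat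
  exact exists_flat_lift_of_presentation A α hα hf hkerα B₀ ρ₁ hρs hρker
    (by rw [RingHom.algebraMap_toAlgebra, hρg, ← hχf]; rfl)

end Groth.Agent.CAlgH.AdicSmooth
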