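import Mathlib
import Groth.Agent.CAlgH.GRingMaximal
import Groth.Agent.HenselLib.WEtale
import Groth.Agent.HenselLib.HullWEt
import Groth.Agent.HenselLib.PairHens
import Groth.Agent.S1994

/-! Regular homomorphisms and weakly etale maps. -/
universe u
open IsLocalRing TensorProduct

namespace Groth.Agent.CAlgH

open HenselLib.WEt in
theorem isRegularRing_tensor_of_vnr (A E B C K : Type u) [CommRing A] [CommRing E] [CommRing B] [CommRing C] [CommRing K]
    [Algebra A E] [Algebra A B] [Algebra A C] [Algebra B C] [IsScalarTower A B C] [Algebra A K] [Algebra B K]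
    [IsScalarTower A B K] [Algebra E K] [IsScalarTower A E K] (hU : VNR (E ⊗[A] B))
    (hsurj : Function.Surjective (Algebra.TensorProduct.lift (IsScalarTower.toAlgHom A E K) (IsScalarTower.toAlgHom A B K)
      fun _ _ => Commute.all _ _))
    [IsRegularRing (E ⊗[A] C)] : IsRegularRing (K ⊗[B] C) := by
  let φ : E ⊗[A] B →ₐ[A] K :=
    Algebra.TensorProduct.lift (IsScalarTower.toAlgHom A E K) (IsScalarTower.toAlgHom A B K) fun _ _ => Commute.all _ _
  let ι : E ⊗[A] B →ₐ[A] E ⊗[A] C := Algebra.TensorProduct.map (AlgHom.id A E) (IsScalarTower.toAlgHom A B C)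
  let J : Ideal (E ⊗[A] C) := (RingHom.ker φ.toRingHom).map ι.toRingHom
  have hidem : IsIdempotentElem (RingHom.ker φ.toRingHom) := by
    refine le_antisymm Ideal.mul_le_right fun x hx => ?_
    obtain ⟨a, ha⟩ := hU x
    rw [ha, mul_assoc]
    exact Ideal.mul_mem_mul hx (Ideal.mul_mem_right _ _ hx)
  have hJ : IsIdempotentElem J := by
    show J * J = J
    rw [← Ideal.map_mul, hidem.eq]
  obtain ⟨e, he, hJe⟩ := (Ideal.isIdempotentElem_iff_of_fg J (IsNoetherian.noetherian J)).mp hJ
  haveI : IsLocalization.Away (1 - e) ((E ⊗[A] C) ⧸ J) :=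
    IsLocalization.away_of_isIdempotentElem he.one_sub (by
      rw [sub_sub_cancel, Ideal.Quotient.algebraMap_eq, Ideal.mk_ker, hJe]) Ideal.Quotient.mk_surjective
  haveI : IsRegularRing ((E ⊗[A] C) ⧸ J) := isRegularRing_localization (Submonoid.powers (1 - e)) _
  -- identify the quotient
  let π : E ⊗[A] C →ₐ[A] (E ⊗[A] C) ⧸ J := Ideal.Quotient.mkₐ A J
  let iC : C →ₐ[A] (E ⊗[A] C) ⧸ J := π.comp Algebra.TensorProduct.includeRight
  letI : Algebra B ((E ⊗[A] C) ⧸ J) := (iC.toRingHom.comp (algebraMap B C)).toAlgebra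
  let χK : K →+* (E ⊗[A] C) ⧸ J := RingHom.liftOfSurjective φ.toRingHom hsurj
    ⟨π.toRingHom.comp ι.toRingHom, fun x hx => Ideal.Quotient.eq_zero_iff_mem.mpr (Ideal.mem_map_of_mem _ hx)⟩
  have hχK : ∀ u, χK (φ u) = π (ι u) := fun u => RingHom.liftOfRightInverse_comp_apply _ _ _ _ u
  have hB : ∀ b, χK (algebraMap B K b) = iC (algebraMap B C b) := fun b => by
    rw [show algebraMap B K b = φ ((1 : E) ⊗ₜ[A] b) by simp [φ], hχK]
    rfl
  let χ : K ⊗[B] C →ₐ[B] (E ⊗[A] C) ⧸ J := Algebra.TensorProduct.lift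
    { χK with commutes' := hB } { iC.toRingHom with commutes' := fun _ => rfl } fun _ _ => Commute.all _ _
  let ψ : E ⊗[A] C →ₐ[A] K ⊗[B] C := Algebra.TensorProduct.lift
    ((IsScalarTower.toAlgHom A K (K ⊗[B] C)).comp (IsScalarTower.toAlgHom A E K))
    ((Algebra.TensorProduct.includeRight (R := B) (A := K)).restrictScalars A) fun _ _ => Commute.all _ _
  have hψ : ∀ (x : E) (c : C), ψ (x ⊗ₜ[A] c) = algebraMap E K x ⊗ₜ[B] c := fun x c => by
    rw [Algebra.TensorProduct.lift_tmul]
    show (algebraMap E K x ⊗ₜ[B] (1 : C)) * ((1 : K) ⊗ₜ[B] c) = _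
    rw [Algebra.TensorProduct.tmul_mul_tmul, mul_one, one_mul]
  have hψι : ∀ u, ψ (ι u) = φ u ⊗ₜ[B] (1 : C) := fun u => by
    induction u using TensorProduct.induction_on with
    | zero => simp
    | add a b ha hb => simp [ha, hb, add_tmul]
    | tmul x b =>
      show ψ (x ⊗ₜ[A] algebraMap B C b) = _
      rw [hψ, Algebra.algebraMap_eq_smul_one (R := B) (A := C), ← smul_tmul]
      simp [φ, Algebra.smul_def, mul_comm]
  have hψJ : ∀ x ∈ J, ψ x = 0 := fun x hx => by
    refine (Ideal.map_le_iff_le_comap.mpr fun u hu => ?_ : J ≤ RingHom.ker ψ.toRingHom) hx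
    show ψ (ι u) = 0
    rw [hψι, show φ u = 0 from hu, zero_tmul]
  let ψ' : (E ⊗[A] C) ⧸ J →+* K ⊗[B] C := Ideal.Quotient.lift J ψ.toRingHom hψJ
  have h1 : ∀ t, χ (ψ t) = π t := fun t => by
    induction t using TensorProduct.induction_on with
    | zero => simp
    | add a b ha hb => simp [ha, hb]
    | tmul x c =>
      rw [hψ, Algebra.TensorProduct.lift_tmul]
      show χK (algebraMap E K x) * iC c = _
      rw [show algebraMap E K x = φ (x ⊗ₜ[A] (1 : B)) by simp [φ], hχK]
      show π (x ⊗ₜ[A] algebraMap B C 1) * π ((1 : E) ⊗ₜ[A] c) = _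
      rw [← map_mul, Algebra.TensorProduct.tmul_mul_tmul, map_one, mul_one, one_mul]
  have hbij : Function.Bijective ψ' := by
    refine ⟨fun a b hab => ?_, fun y => ?_⟩
    · obtain ⟨a, rfl⟩ := Ideal.Quotient.mk_surjective a
      obtain ⟨b, rfl⟩ := Ideal.Quotient.mk_surjective b
      exact (h1 a).symm.trans ((congrArg χ hab).trans (h1 b))
    · induction y using TensorProduct.induction_on with
      | zero => exact ⟨0, map_zero _⟩
      | add a b ha hb =>
        obtain ⟨a', rfl⟩ := ha
        obtain ⟨b', rfl⟩ := hb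
        exact ⟨a' + b', map_add _ _ _⟩
      | tmul z c =>
        obtain ⟨u, rfl⟩ := hsurj z
        refine ⟨π (ι u * (1 : E) ⊗ₜ[A] c), ?_⟩
        show ψ (ι u * (1 : E) ⊗ₜ[A] c) = _
        rw [map_mul, hψι, hψ, map_one, Algebra.TensorProduct.tmul_mul_tmul, mul_one, one_mul]
  exact IsRegularRing.of_ringEquiv (R := (E ⊗[A] C) ⧸ J) (RingEquiv.ofBijective ψ' hbij)

open HenselLib.WEt in
/-- Regularity cancels along weakly etale maps. -/
theorem isRegularHom_of_weaklyEtale_comp (A B C : Type u) [CommRing A] [CommRing B] [CommRing C] [Algebra A B]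
    [Algebra A C] [Algebra B C] [IsScalarTower A B C] [Algebra.WeaklyEtale A B] (h : CAlg.IsRegularHom A C) :
    CAlg.IsRegularHom B C := by
  haveI := h.1
  refine (isRegularHom_iff_fields _ _).mpr
    ⟨flat_of_flat_lmul (Algebra.WeaklyEtale.flat_lmul' A B) C, fun K _ _ hK => ?_⟩
  letI : Algebra A K := ((algebraMap B K).comp (algebraMap A B)).toAlgebra
  haveI : IsScalarTower A B K := IsScalarTower.of_algebraMap_eq fun _ => rfl
  let p := RingHom.ker (algebraMap A K)
  haveI : p.IsPrime := RingHom.ker_isPrime _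
  letI : Algebra p.ResidueField K :=
    (Ideal.ResidueField.lift p (algebraMap A K) le_rfl fun x hx => isUnit_iff_ne_zero.mpr fun h0 => hx h0).toAlgebra
  haveI : IsScalarTower A p.ResidueField K :=
    IsScalarTower.of_algebraMap_eq fun x => (Ideal.ResidueField.lift_algebraMap p _ _ _ x).symm
  obtain ⟨s, hs⟩ := (Algebra.essFiniteType_iff B K).mp hK
  let E := IntermediateField.adjoin p.ResidueField (s : Set K)
  haveI : Algebra.EssFiniteType p.ResidueField E := IntermediateField.essFiniteType_iff.mpr ⟨s, rfl⟩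
  haveI : Algebra.EssFiniteType A E := Algebra.EssFiniteType.comp A p.ResidueField E
  haveI : IsScalarTower A E K := IsScalarTower.of_algebraMap_eq fun _ => rfl
  haveI := isRegularRing_field_tensor h E
  haveI : Algebra.WeaklyEtale E (E ⊗[A] B) := inferInstance
  have hU : VNR (E ⊗[A] B) := vnr_of_weaklyEtale (vnr_field E)
  refine isRegularRing_tensor_of_vnr A E B C K hU ?_
  let φ : E ⊗[A] B →ₐ[A] K :=
    Algebra.TensorProduct.lift (IsScalarTower.toAlgHom A E K) (IsScalarTower.toAlgHom A B K) fun _ _ => Commute.all _ _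
  intro y
  have hinv : ∀ z ∈ φ.range, z⁻¹ ∈ φ.range := by
    rintro z ⟨u, rfl⟩
    obtain ⟨a, ha⟩ := hU u
    by_cases h0 : φ u = 0
    · exact ⟨0, by simp [h0]⟩
    · refine ⟨a, ?_⟩
      show φ a = (φ u)⁻¹
      refine eq_inv_of_mul_eq_one_right (mul_left_cancel₀ h0 ?_)
      rw [← mul_assoc, ← map_mul, ← map_mul, ← ha, mul_one]
  have hB : ∀ z ∈ Algebra.adjoin B (s : Set K), z ∈ φ.range := by
    intro z hz
    induction hz using Algebra.adjoin_induction with
    | mem w hw => exact ⟨(⟨w, IntermediateField.subset_adjoin _ _ hw⟩ : E) ⊗ₜ[A] (1 : B), by simp [φ]⟩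
    | algebraMap b => exact ⟨(1 : E) ⊗ₜ[A] b, by simp [φ]⟩
    | add _ _ _ _ ha hb => exact add_mem ha hb
    | mul _ _ _ _ ha hb => exact mul_mem ha hb
  obtain ⟨t, htmem, htu, hty⟩ := hs y
  have h2 : y = (y * t) * t⁻¹ := by rw [mul_assoc, mul_inv_cancel₀ htu.ne_zero, mul_one]
  have : y ∈ φ.range := h2 ▸ mul_mem (hB _ hty) (hinv _ (hB _ htmem))
  exact this

theorem isRegularHom_self (R : Type u) [CommRing R] : CAlg.IsRegularHom R R :=
  (isRegularHom_iff_fields R R).mpr ⟨inferInstance, fun K _ _ _ =>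
    IsRegularRing.of_ringEquiv (R := K) (Algebra.TensorProduct.rid R R K).toRingEquiv.symm⟩

theorem isRegularHom_localization_comp (R R' S : Type u) [CommRing R] [CommRing R'] [CommRing S] [Algebra R R']
    [Algebra R' S] [Algebra R S] [IsScalarTower R R' S] (M : Submonoid R) [IsLocalization M R'] [IsNoetherianRing S]
    (h : CAlg.IsRegularHom R' S) : CAlg.IsRegularHom R S :=
  isRegularHom_comp_of_noetherian_fibres R R' S
    (isRegularHom_of_isLocalization_target R R R' M (isRegularHom_self R)) h fun p _ => isNoetherianRing_fiber R S p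

theorem isRegularHom_cpl_target (A B : Type u) [CommRing A] [CommRing B] [IsLocalRing A] [IsLocalRing B]
    [IsNoetherianRing A] [IsNoetherianRing B] [Algebra A B] [IsLocalHom (algebraMap A B)] [Module.Flat A B]
    (hm : Ideal.map (algebraMap A B) (maximalIdeal A) = maximalIdeal B)
    (hres : ∀ y : B, ∃ a, y - algebraMap A B a ∈ maximalIdeal B)
    (hA : CAlg.IsRegularHom A (EGA4.Cpl A)) : CAlg.IsRegularHom A (EGA4.Cpl B) := by
  obtain ⟨_, _, _⟩ := Groth.Agent.CommAlg6.exists_algebra_completion A B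
  have hk : Function.Surjective (IsLocalRing.ResidueField.map (algebraMap A B)) := fun z => by
    obtain ⟨y, rfl⟩ := residue_surjective z
    obtain ⟨a, ha⟩ := hres y
    exact ⟨residue A a, (Ideal.Quotient.eq.mpr ha).symm⟩
  have hb := completion_map_bijective A B hm hk (algebraMap _ _)
    (by rw [← IsScalarTower.algebraMap_eq, ← IsScalarTower.algebraMap_eq])
  exact isRegularHom_of_algEquiv (AlgEquiv.ofBijective (IsScalarTower.toAlgHom A (EGA4.Cpl A) (EGA4.Cpl B)) hb) hA

theorem isRegularHom_weaklyEtale_local (A B Aq Bn S : Type u) [CommRing A] [CommRing B] [CommRing Aq] [CommRing Bn]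
    [CommRing S] [IsNoetherianRing S] [Algebra A B] [Algebra.WeaklyEtale A B] [Algebra A Aq] [Algebra B Bn] [Algebra A Bn]
    [IsScalarTower A B Bn] [Algebra Bn S] [Algebra B S] [IsScalarTower B Bn S] [Algebra A S] [IsScalarTower A B S]
    [Algebra Aq S] [IsScalarTower A Aq S] (M : Submonoid A) [IsLocalization M Aq] (N : Submonoid B) [IsLocalization N Bn]
    (h : CAlg.IsRegularHom Aq S) : CAlg.IsRegularHom Bn S :=
  isRegularHom_of_isLocalization_base B Bn S N
    (isRegularHom_of_weaklyEtale_comp A B S (isRegularHom_localization_comp A Aq S M h))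

/-- Weakly etale algebras that do not change residual completions keep the G-ring property. -/
theorem isRegularHom_cpl_of_weaklyEtale (A B : Type u) [CommRing A] [CommRing B] [IsNoetherianRing B] [Algebra A B]
    [Algebra.WeaklyEtale A B] (hA : CAlg.IsGRing A) (n : Ideal B) [n.IsMaximal]
    (hn : (n.comap (algebraMap A B)).map (algebraMap A B) = n) (hres : ∀ x : B, ∃ a, x - algebraMap A B a ∈ n) :
    CAlg.IsRegularHom (Localization.AtPrime n) (EGA4.Cpl (Localization.AtPrime n)) := by
  haveI := hA.1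
  let q := n.comap (algebraMap A B)
  let Aq := Localization.AtPrime q
  let Bn := Localization.AtPrime n
  letI : Algebra Aq Bn := (Localization.localRingHom q n (algebraMap A B) rfl).toAlgebra
  haveI : IsScalarTower A Aq Bn := IsScalarTower.of_algebraMap_eq fun x =>
    ((Localization.localRingHom_to_map q n (algebraMap A B) rfl x).trans (IsScalarTower.algebraMap_apply A B Bn x).symm).symm
  haveI : IsNoetherianRing Aq := IsLocalization.isNoetherianRing q.primeCompl _ inferInstance
  haveI : IsNoetherianRing Bn := IsLocalization.isNoetherianRing n.primeCompl _ inferInstance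
  haveI : IsLocalHom (algebraMap Aq Bn) := Localization.isLocalHom_localRingHom q n _ rfl
  haveI : Module.Flat Aq Bn :=
    RingHom.Flat.localRingHom (f := algebraMap A B) (RingHom.flat_algebraMap_iff.mpr inferInstance) n q rfl
  haveI : IsNoetherianRing (EGA4.Cpl Bn) := Groth.Agent.Matlis6.isNoetherianRing_adicCompletion _
  refine isRegularHom_weaklyEtale_local A B Aq Bn (EGA4.Cpl Bn) q.primeCompl n.primeCompl
    (isRegularHom_cpl_target Aq Bn ?_ ?_ (hA.2 q))
  · rw [← Localization.AtPrime.map_eq_maximalIdeal, ← Localization.AtPrime.map_eq_maximalIdeal, Ideal.map_map,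
      ← IsScalarTower.algebraMap_eq, IsScalarTower.algebraMap_eq A B Bn, ← Ideal.map_map, hn]
  · intro y
    obtain ⟨a, ⟨s, hs⟩, rfl⟩ := IsLocalization.exists_mk'_eq n.primeCompl y
    obtain ⟨a1, ha⟩ := hres a
    obtain ⟨s1, hs1⟩ := hres s
    have hs1q : s1 ∉ q := fun h1 => hs (by
      show s ∈ n
      simpa using add_mem hs1 (h1 : algebraMap A B s1 ∈ n))
    refine ⟨IsLocalization.mk' Aq a1 (⟨s1, hs1q⟩ : q.primeCompl), ?_⟩
    show _ - Localization.localRingHom q n (algebraMap A B) rfl _ ∈ _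
    rw [Localization.localRingHom_mk', ← IsLocalization.mk'_sub, IsLocalization.AtPrime.mk'_mem_maximal_iff Bn n]
    show a * algebraMap A B s1 - algebraMap A B a1 * s ∈ n
    rw [show a * algebraMap A B s1 - algebraMap A B a1 * s =
      (a - algebraMap A B a1) * algebraMap A B s1 - algebraMap A B a1 * (s - algebraMap A B s1) by ring]
    exact sub_mem (n.mul_mem_right _ ha) (n.mul_mem_left _ hs1)

/-- Henselisations of pairs preserve G-rings. -/
theorem isGRing_pairHenselization (A : Type u) [CommRing A] (hA : CAlg.IsGRing A) (I : Ideal A)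
    (B : Type u) [CommRing B] [Algebra A B] (hB : Hens2.IsPairHenselization A I B) : CAlg.IsGRing B := by
  haveI := hA.1
  haveI := (Groth.Agent.S1994.result A I B hB).1
  obtain ⟨e⟩ := HenselLib.IsPairHull.equiv_pairH (R := A) (I := I) hB
  haveI : Algebra.WeaklyEtale A B := HenselLib.weaklyEtale_of_equiv e
  refine isGRing_of_maximals B fun n hn => ?_
  have hIn : I.map (algebraMap A B) ≤ n := hB.1.jac.trans (sInf_le ⟨bot_le, hn⟩)
  have hres : ∀ x : B, ∃ a, x - algebraMap A B a ∈ I.map (algebraMap A B) := fun x => by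
    obtain ⟨a, ha⟩ := HenselLib.exists_sub_algebraMap_mem A I (e.symm x)
    refine ⟨a, ?_⟩
    have h2 := Ideal.mem_map_of_mem e.toAlgHom.toRingHom ha
    rw [Ideal.map_map, show e.toAlgHom.toRingHom.comp (algebraMap A (HenselLib.PairH A I)) = algebraMap A B from
      e.toAlgHom.comp_algebraMap] at h2
    simpa using h2
  refine isRegularHom_cpl_of_weaklyEtale A B hA n (le_antisymm Ideal.map_comap_le fun x hx => ?_)
    fun x => (hres x).imp fun _ ha => hIn ha
  obtain ⟨a, ha⟩ := hres x
  have haq : a ∈ n.comap (algebraMap A B) := by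
    show algebraMap A B a ∈ n
    simpa using sub_mem hx (hIn ha)
  have h1 : I.map (algebraMap A B) ≤ (n.comap (algebraMap A B)).map (algebraMap A B) :=
    Ideal.map_mono (Ideal.map_le_iff_le_comap.mp hIn)
  simpa using add_mem (h1 ha) (Ideal.mem_map_of_mem (algebraMap A B) haq)

end Groth.Agent.CAlgH
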