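import Groth.Agent.CAlgH.Popescu
import Groth.Agent.CAlgH.AdicSmoothField
import Groth.Agent.CAlgH.WEtRegular
import Groth.Agent.CAlgH.GRingCompletion
import Mathlib

/-! Étale approximation of formal solutions along regular homomorphisms (Artin approximation core). -/

universe u

open IsLocalRing MvPolynomial
open scoped TensorProduct

namespace Groth.Agent.CAlgH.EtaleApprox

/-- An étale algebra under a smooth point whose coordinates are approximated from the base. -/
theorem exists_etale_point {R T B : Type u} [CommRing R] [CommRing T] [IsLocalRing T] [Algebra R T]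
    [IsAdicComplete (maximalIdeal T) T] [CommRing B] [Algebra R B] [Algebra.FinitePresentation R B]
    (h : B →ₐ[R] T) [Algebra.IsSmoothAt R ((maximalIdeal T).comap h.toRingHom)]
    (M : Submonoid R) (hM : ∀ s ∈ M, IsUnit (algebraMap R T s))
    (hdense : ∀ (j : ℕ) (y : T), ∃ r : R, ∃ s ∈ M, algebraMap R T s * y - algebraMap R T r ∈ maximalIdeal T ^ j)
    (N : ℕ) :
    ∃ (R' : Type u) (_ : CommRing R') (_ : Algebra R R'), Algebra.Etale R R' ∧
      ∃ (ψ : R' →ₐ[R] T) (γ : B →ₐ[R] R'), ∀ y, ψ (γ y) - h y ∈ maximalIdeal T ^ N := by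
  classical
  obtain ⟨f, hf, d, _, _, hstd⟩ :=
    Algebra.IsSmoothAt.exists_isStandardEtale_mvPolynomial (R := R) (p := (maximalIdeal T).comap h.toRingHom)
  haveI := hstd
  have hfu : IsUnit (h f) := not_not.1 fun hu => hf ((mem_maximalIdeal _).2 hu)
  let Bf := Localization.Away f
  let P := MvPolynomial (Fin d) R
  let hBf : Bf →ₐ[R] T := IsLocalization.liftAlgHom (M := Submonoid.powers f) (f := h) (by
    rintro ⟨_, m, rfl⟩
    rw [map_pow]
    exact hfu.pow m)
  have hhBf : ∀ y, hBf (algebraMap B Bf y) = h y := fun y => IsLocalization.lift_eq _ y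
  choose r s hs hr using fun i : Fin d => hdense (N + 1) (hBf (algebraMap P Bf (X i)))
  let t : R := ∏ i, s i
  have htu : IsUnit (algebraMap R T t) := hM t (M.prod_mem fun i _ => hs i)
  let Rt := Localization.Away t
  let hRt : Rt →ₐ[R] T := IsLocalization.liftAlgHom (M := Submonoid.powers t) (f := Algebra.ofId R T) (by
    rintro ⟨_, m, rfl⟩
    rw [map_pow]
    exact htu.pow m)
  let c : Fin d → Rt := fun i =>
    IsLocalization.Away.invSelf t * algebraMap R Rt (r i * ∏ j ∈ Finset.univ.erase i, s j)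
  have hc : ∀ i, hBf (algebraMap P Bf (X i)) - hRt (c i) ∈ maximalIdeal T ^ (N + 1) := by
    intro i
    have h1 : algebraMap R T t * hRt (IsLocalization.Away.invSelf t) = 1 := by
      rw [← AlgHom.commutes hRt t, ← map_mul, IsLocalization.Away.mul_invSelf, map_one]
    rw [← Ideal.unit_mul_mem_iff_mem _ htu]
    have h2 : algebraMap R T t * (hBf (algebraMap P Bf (X i)) - hRt (c i)) =
        algebraMap R T (∏ j ∈ Finset.univ.erase i, s j) *
          (algebraMap R T (s i) * hBf (algebraMap P Bf (X i)) - algebraMap R T (r i)) := by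
      simp only [c, map_mul, AlgHom.commutes]
      have h3 : algebraMap R T t = algebraMap R T (s i) * algebraMap R T (∏ j ∈ Finset.univ.erase i, s j) := by
        rw [← map_mul, Finset.mul_prod_erase _ _ (Finset.mem_univ i)]
      linear_combination hBf (algebraMap P Bf (X i)) * h3
        - (algebraMap R T (r i) * algebraMap R T (∏ j ∈ Finset.univ.erase i, s j)) * h1
    rw [h2]
    exact Ideal.mul_mem_left _ _ (hr i)
  let ev : P →ₐ[R] Rt := aeval c
  letI : Algebra P Rt := ev.toRingHom.toAlgebra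
  haveI : IsScalarTower R P Rt := IsScalarTower.of_algebraMap_eq fun x => (ev.commutes x).symm
  haveI : Algebra.Etale Rt (Rt ⊗[P] Bf) := inferInstance
  haveI : Algebra.Etale R (Rt ⊗[P] Bf) := Algebra.Etale.comp R Rt (Rt ⊗[P] Bf)
  let J := maximalIdeal T ^ (N + 1)
  haveI : IsAdicComplete J T := AdicSmooth.isAdicComplete_pow _ _ N.succ_ne_zero
  let q : T →ₐ[R] T ⧸ J := Ideal.Quotient.mkₐ R J
  letI : Algebra P (T ⧸ J) := ((q.comp hRt).toRingHom.comp ev.toRingHom).toAlgebra
  let fR : Rt →ₐ[P] T ⧸ J := { (q.comp hRt).toRingHom with commutes' := fun _ => rfl }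
  let fB : Bf →ₐ[P] T ⧸ J :=
    { (q.comp hBf).toRingHom with
      commutes' := fun p => by
        show ((q.comp hBf).comp (IsScalarTower.toAlgHom R P Bf)) p = ((q.comp hRt).comp ev) p
        congr 1
        refine MvPolynomial.algHom_ext fun i => ?_
        show Ideal.Quotient.mk J (hBf (algebraMap P Bf (X i))) = Ideal.Quotient.mk J (hRt (ev (X i)))
        rw [show ev (X i) = c i from aeval_X _ i, Ideal.Quotient.eq]
        exact hc i }
  let σ : Rt ⊗[P] Bf →ₐ[P] T ⧸ J := Algebra.TensorProduct.productMap fR fB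
  obtain ⟨χ, hχ₁, hχ₂⟩ := AdicSmooth.exists_lift_complete (S := Rt ⊗[P] Bf) (𝔫 := ⊥)
    (AdicSmooth.of_formallySmooth (R := R)) (algebraMap R T) J σ.toRingHom
    (RingHom.ext fun x => by
      show σ (algebraMap R (Rt ⊗[P] Bf) x) = q (algebraMap R T x)
      rw [Algebra.TensorProduct.algebraMap_apply]
      show σ (algebraMap R Rt x ⊗ₜ 1) = _
      rw [Algebra.TensorProduct.productMap_left_apply]
      show q (hRt (algebraMap R Rt x)) = q (algebraMap R T x)
      rw [hRt.commutes])
    ⟨1, fun x hx => by rw [pow_one, Ideal.mem_bot] at hx; rw [hx, map_zero]⟩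
  refine ⟨Rt ⊗[P] Bf, inferInstance, inferInstance, inferInstance,
    { toRingHom := χ, commutes' := fun x => RingHom.congr_fun hχ₁ x },
    ((Algebra.TensorProduct.includeRight : Bf →ₐ[P] Rt ⊗[P] Bf).restrictScalars R).comp (IsScalarTower.toAlgHom R B Bf),
    fun y => ?_⟩
  have h1 : Ideal.Quotient.mk J (χ ((1 : Rt) ⊗ₜ[P] algebraMap B Bf y)) = Ideal.Quotient.mk J (h y) := by
    rw [← RingHom.comp_apply, hχ₂]
    show σ ((1 : Rt) ⊗ₜ[P] algebraMap B Bf y) = _
    rw [Algebra.TensorProduct.productMap_right_apply]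
    show q (hBf (algebraMap B Bf y)) = _
    rw [hhBf]
    rfl
  exact Ideal.pow_le_pow_right (Nat.le_succ N) (Ideal.Quotient.eq.1 h1)

/-- Formal solutions along a regular map are approximated by solutions in étale algebras. -/
theorem exists_etale_solution {R T : Type u} [CommRing R] [IsNoetherianRing R] [CommRing T] [IsNoetherianRing T]
    [IsLocalRing T] [Algebra R T] [IsAdicComplete (maximalIdeal T) T] (hreg : CAlg.IsRegularHom R T)
    (M : Submonoid R) (hM : ∀ s ∈ M, IsUnit (algebraMap R T s))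
    (hdense : ∀ (j : ℕ) (y : T), ∃ r : R, ∃ s ∈ M, algebraMap R T s * y - algebraMap R T r ∈ maximalIdeal T ^ j)
    {n m : ℕ} (F : Fin m → MvPolynomial (Fin n) R) (a : Fin n → T) (ha : ∀ j, aeval a (F j) = 0) (N : ℕ) :
    ∃ (R' : Type u) (_ : CommRing R') (_ : Algebra R R'), Algebra.Etale R R' ∧
      ∃ (ψ : R' →ₐ[R] T) (b : Fin n → R'), (∀ j, aeval b (F j) = 0) ∧
        ∀ i, a i - ψ (b i) ∈ maximalIdeal T ^ N := by
  let I : Ideal (MvPolynomial (Fin n) R) := Ideal.span (Set.range F)
  let A := MvPolynomial (Fin n) R ⧸ I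
  haveI : Algebra.FinitePresentation R A :=
    Algebra.FinitePresentation.quotient (Submodule.fg_span (Set.finite_range F))
  let φ : A →ₐ[R] T := Ideal.Quotient.liftₐ I (aeval a) fun x hx => by
    refine (Ideal.span_le (I := RingHom.ker (aeval a : MvPolynomial (Fin n) R →ₐ[R] T))).2 ?_ hx
    rintro _ ⟨j, rfl⟩
    exact ha j
  obtain ⟨B, _, _, hB, g, h, hgh⟩ := Popescu.indSmooth_of_isRegularHom hreg A inferInstance φ
  haveI := hB
  haveI : Algebra.IsSmoothAt R ((maximalIdeal T).comap h.toRingHom) := inferInstance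
  obtain ⟨R', _, _, hR', ψ, γ, hψ⟩ := exists_etale_point h M hM hdense N
  let mk : MvPolynomial (Fin n) R →ₐ[R] A := Ideal.Quotient.mkₐ R I
  refine ⟨R', inferInstance, inferInstance, hR', ψ, fun i => γ (g (mk (X i))), fun j => ?_, fun i => ?_⟩
  · have h1 : aeval (fun i => γ (g (mk (X i)))) = (γ.comp g).comp mk :=
      (aeval_unique ((γ.comp g).comp mk)).symm
    rw [h1]
    show γ (g (mk (F j))) = 0
    rw [show mk (F j) = 0 from Ideal.Quotient.eq_zero_iff_mem.2 (Ideal.subset_span ⟨j, rfl⟩), map_zero, map_zero]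
  · have h2 : h (g (mk (X i))) = a i := by
      rw [← AlgHom.comp_apply h g, hgh]
      exact aeval_X _ i
    rw [← h2, ← neg_sub]
    exact neg_mem (hψ _)

/-- The completion is adically complete for its maximal ideal. -/
theorem isAdicComplete_cpl (R : Type u) [CommRing R] [IsLocalRing R] [IsNoetherianRing R] :
    IsAdicComplete (maximalIdeal (AdicCompletion (maximalIdeal R) R)) (AdicCompletion (maximalIdeal R) R) := by
  rw [AdicCompletion.maximalIdeal_eq_map]
  exact AdicCompletion.isAdicComplete_self _ (maximalIdeal R).fg_of_isNoetherianRing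

/-- A local ring is dense in its completion. -/
theorem exists_sub_mem (R : Type u) [CommRing R] [IsLocalRing R] [IsNoetherianRing R] (j : ℕ)
    (y : AdicCompletion (maximalIdeal R) R) :
    ∃ r : R, y - algebraMap R _ r ∈ maximalIdeal (AdicCompletion (maximalIdeal R) R) ^ j := by
  let I := maximalIdeal R
  obtain ⟨r, hr⟩ := Submodule.Quotient.mk_surjective _ (AdicCompletion.eval I R j y)
  refine ⟨r, ?_⟩
  rw [AdicCompletion.maximalIdeal_eq_map, ← Ideal.map_pow]
  have h1 : y - algebraMap R (AdicCompletion I R) r ∈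
      (I ^ j • ⊤ : Submodule R (AdicCompletion I R)) := by
    rw [AdicCompletion.pow_smul_top_eq_ker_eval I.fg_of_isNoetherianRing, LinearMap.mem_ker, map_sub, sub_eq_zero, ← hr]
    rfl
  rw [Ideal.smul_top_eq_map] at h1
  exact h1

end Groth.Agent.CAlgH.EtaleApprox
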