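import Groth.Prelude.Def_RegImm
import Groth.Prelude.Def_Mor2
import Groth.Agent.FSchLib.IdealSheaf
import Mathlib.AlgebraicGeometry.Morphisms.Flat
import Mathlib.AlgebraicGeometry.Morphisms.ClosedImmersion
import Mathlib.AlgebraicGeometry.Morphisms.Immersion
import Mathlib.RingTheory.Regular.Flat
import Mathlib.RingTheory.Flat.Localization

/-!
# Regular immersions at stalks and under flat base change
-/

universe u

set_option autoImplicit false
set_option backward.isDefEq.respectTransparency false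

open CategoryTheory CategoryTheory.Limits AlgebraicGeometry IsLocalRing RingTheory.Sequence

namespace Groth.Agent.CAlgH.RegImmStalk

variable {X Y : Scheme.{u}}

theorem app_surjective_of_restrict (f : Y ⟶ X) {U : X.Opens} (hU : IsAffineOpen U)
    [IsClosedImmersion (f ∣_ U)] : Function.Surjective (f.app U) := by
  have : IsAffine U.toScheme := hU
  have h := (f ∣_ U).app_surjective ⊤ (isAffineOpen_top _)
  rw [morphismRestrict_app] at h
  have key : ∀ {W : X.Opens}, U.ι ''ᵁ ⊤ = W → Function.Surjective (f.app W) := by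
    rintro W rfl c
    obtain ⟨a, ha⟩ := h ((Y.presheaf.map (eqToHom (image_morphismRestrict_preimage f U ⊤)).op) c)
    refine ⟨a, (ConcreteCategory.bijective_of_isIso (Y.presheaf.map (eqToHom (image_morphismRestrict_preimage f U ⊤)).op)).1 ?_⟩
    exact ha
  exact key (Scheme.Opens.ι_image_top U)

/-- The kernel of a stalk map of a closed immersion in a chart. -/
theorem ker_stalkMap_eq (f : Y ⟶ X) [IsImmersion f] (y : Y) {U : X.Opens} (hU : IsAffineOpen U)
    [IsClosedImmersion (f ∣_ U)] (hx : f y ∈ U) :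
    RingHom.ker (f.stalkMap y).hom = (RingHom.ker (f.app U).hom).map (X.presheaf.germ U (f y) hx).hom := by
  let := X.presheaf.algebra_section_stalk ⟨f y, hx⟩
  have := hU.isLocalization_stalk ⟨f y, hx⟩
  have hW : IsAffineOpen (f ⁻¹ᵁ U) := by
    have : IsAffine U.toScheme := hU
    exact isAffine_of_isAffineHom (f ∣_ U)
  have hy' : y ∈ f ⁻¹ᵁ U := hx
  let := Y.presheaf.algebra_section_stalk ⟨y, hy'⟩
  have := hW.isLocalization_stalk ⟨y, hy'⟩
  apply le_antisymm
  · intro a ha
    obtain ⟨b, s, rfl⟩ := IsLocalization.exists_mk'_eq (hU.primeIdealOf ⟨f y, hx⟩).asIdeal.primeCompl a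
    have h0 : (f.stalkMap y).hom (X.presheaf.germ U (f y) hx b) = 0 := by
      have h1 : algebraMap Γ(X, U) (X.presheaf.stalk (f y)) b =
          IsLocalization.mk' _ b s * algebraMap _ _ (s : Γ(X, U)) :=
        (IsLocalization.mk'_spec _ b s).symm
      rw [show X.presheaf.germ U (f y) hx b = algebraMap Γ(X, U) _ b from rfl, h1, map_mul,
        RingHom.mem_ker.mp ha, zero_mul]
    rw [show (f.stalkMap y).hom (X.presheaf.germ U (f y) hx b) =
      Y.presheaf.germ (f ⁻¹ᵁ U) y hx (f.app U b) from Scheme.Hom.germ_stalkMap_apply f U y hx b] at h0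
    obtain ⟨⟨c, hc⟩, hcb⟩ := (IsLocalization.map_eq_zero_iff
      (hW.primeIdealOf ⟨y, hy'⟩).asIdeal.primeCompl (Y.presheaf.stalk y) _).mp h0
    obtain ⟨c', hc'⟩ := app_surjective_of_restrict f hU c
    have hu : IsUnit (X.presheaf.germ U (f y) hx c') := by
      refine (isUnit_map_iff (f.stalkMap y).hom _).mp ?_
      rw [show (f.stalkMap y).hom (X.presheaf.germ U (f y) hx c') = Y.presheaf.germ (f ⁻¹ᵁ U) y hx c by
          rw [← hc']; exact Scheme.Hom.germ_stalkMap_apply f U y hx c']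
      exact IsLocalization.map_units (Y.presheaf.stalk y)
        (⟨c, hc⟩ : (hW.primeIdealOf ⟨y, hy'⟩).asIdeal.primeCompl)
    have hmem : c' * b ∈ RingHom.ker (f.app U).hom := by
      rw [RingHom.mem_ker, map_mul]
      exact (congrArg (· * f.app U b) hc').trans hcb
    rw [show (X.presheaf.germ U (f y) hx).hom = algebraMap Γ(X, U) (X.presheaf.stalk (f y)) from rfl,
      IsLocalization.mk'_mem_iff]
    refine (Ideal.unit_mul_mem_iff_mem _ hu).mp ?_
    have := Ideal.mem_map_of_mem (algebraMap Γ(X, U) (X.presheaf.stalk (f y))) hmem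
    rwa [map_mul] at this
  · rw [Ideal.map_le_iff_le_comap]
    intro b hb
    rw [Ideal.mem_comap, RingHom.mem_ker]
    refine (Scheme.Hom.germ_stalkMap_apply f U y hx b).trans ?_
    rw [show f.app U b = 0 from hb, map_zero]

theorem exists_isRegular_ker_stalkMap (i : Y ⟶ X) (h : RegImm.IsRegularImmersion RegImm.Kind.regular i) (z : Y) :
    ∃ rs : List (X.presheaf.stalk (i z)),
      IsRegular (X.presheaf.stalk (i z)) rs ∧ RingHom.ker (i.stalkMap z).hom = Ideal.ofList rs := by
  obtain ⟨⟨U, hU⟩, hz, hc, rs, hrs, hker⟩ := h.2 z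
  have := h.1
  let := X.presheaf.algebra_section_stalk ⟨i z, hz⟩
  have := hU.isLocalization_stalk ⟨i z, hz⟩
  have : Module.Flat Γ(X, U) (X.presheaf.stalk (i z)) :=
    IsLocalization.flat _ (hU.primeIdealOf ⟨i z, hz⟩).asIdeal.primeCompl
  have hw : IsWeaklyRegular (X.presheaf.stalk (i z))
      (rs.map (X.presheaf.germ U (i z) hz).hom) := IsWeaklyRegular.of_flat (S := X.presheaf.stalk (i z)) hrs.toIsWeaklyRegular
  have hk : RingHom.ker (i.stalkMap z).hom = Ideal.ofList (rs.map (X.presheaf.germ U (i z) hz).hom) := by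
    rw [ker_stalkMap_eq i z hU hz, hker, Ideal.map_ofList]
  refine ⟨_, ⟨hw, ?_⟩, hk⟩
  rw [smul_eq_mul, Ideal.mul_top, ← hk]
  exact (RingHom.ker_ne_top _).symm

end Groth.Agent.CAlgH.RegImmStalk

namespace Groth.Agent.CAlgH.RegImmStalk

variable {X X' Y : Scheme.{u}}

/-- Flat base change of a regular closed immersion. -/
theorem isRegularClosedImmersion_baseChange (f : Y ⟶ X) (g : X' ⟶ X) [Flat g]
    (hf : Mor2.IsRegularClosedImmersion f) : Mor2.IsRegularClosedImmersion (pullback.snd f g) := by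
  have := hf.1
  have hs : IsClosedImmersion (pullback.snd f g) := MorphismProperty.pullback_snd _ _ hf.1
  refine ⟨hs, fun w => ?_⟩
  obtain ⟨U, hU, hyU, rs, hrs, hker⟩ := hf.2 (pullback.fst f g w)
  have hgw : pullback.snd f g w ∈ g ⁻¹ᵁ U := by
    show g (pullback.snd f g w) ∈ U
    rwa [← Scheme.Hom.comp_apply, ← pullback.condition, Scheme.Hom.comp_apply]
  obtain ⟨_, ⟨U', hU', rfl⟩, hwU', hle⟩ :=
    X'.isBasis_affineOpens.exists_subset_of_mem_open hgw (g ⁻¹ᵁ U).2
  have e : U' ≤ g ⁻¹ᵁ U := hle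
  letI : Algebra Γ(X, U) Γ(X', U') := (g.appLE U U' e).hom.toAlgebra
  have : Module.Flat Γ(X, U) Γ(X', U') := HasRingHomProperty.appLE @Flat g ‹_› ⟨U, hU⟩ ⟨U', hU'⟩ e
  have hk : (pullback.snd f g).ker.ideal ⟨U', hU'⟩ = Ideal.ofList (rs.map (g.appLE U U' e).hom) := by
    rw [← pullbackSymmetry_hom_comp_fst f g, Scheme.Hom.ker_comp_of_isIso, Scheme.IdealSheafData.ker_fst_of_isClosedImmersion, FSchLib.ideal_comap_eq_map g f.ker ⟨U', hU'⟩ ⟨U, hU⟩ e,
      hker, Ideal.map_ofList]
  refine ⟨U', hU', hwU', _, ⟨IsWeaklyRegular.of_flat (S := Γ(X', U')) hrs.toIsWeaklyRegular, ?_⟩, hk⟩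
  show _ ≠ Ideal.ofList (rs.map (g.appLE U U' e).hom) • (⊤ : Submodule Γ(X', U') Γ(X', U'))
  rw [smul_eq_mul, Ideal.mul_top, ← hk, Scheme.Hom.ker_apply]
  have : Nonempty (pullback.snd f g ⁻¹ᵁ U' : (pullback f g).Opens) := ⟨⟨w, hwU'⟩⟩
  exact (RingHom.ker_ne_top _).symm

end Groth.Agent.CAlgH.RegImmStalk
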