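import Groth.Agent.CAlgH.CIOpen
import Groth.Agent.FlatMorSlice.Bridge

/-!
# Openness of the relative complete intersection locus
-/

universe u

set_option autoImplicit false
set_option backward.isDefEq.respectTransparency false

open CategoryTheory AlgebraicGeometry IsLocalRing

namespace Groth.Agent.CAlgH.CIOpenScheme

attribute [local instance] CommAlg6.isLocalRing_fibLocRing

variable {X S : Scheme.{u}} (f : X ⟶ S) {V : S.Opens} (hV : IsAffineOpen V) {U : X.Opens}
  (hU : IsAffineOpen U) (e : U ≤ f ⁻¹ᵁ V) {x : X} (hx : x ∈ U)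

include hV in
/-- The fibre local ring in a chart. -/
theorem fiberStalk_equiv_fibLocRing :
    letI := (f.appLE V U e).hom.toAlgebra
    Nonempty (CInt.fiberStalk f x ≃+* EGA4.FibLocRing Γ(S, V) Γ(X, U) (hU.primeIdealOf ⟨x, hx⟩).asIdeal) := by
  letI := (f.appLE V U e).hom.toAlgebra
  letI := X.presheaf.algebra_section_stalk ⟨x, hx⟩
  have := hU.isLocalization_stalk ⟨x, hx⟩
  let q := (hU.primeIdealOf ⟨x, hx⟩).asIdeal
  let E : X.presheaf.stalk x ≃ₐ[Γ(X, U)] Localization.AtPrime q :=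
    IsLocalization.algEquiv q.primeCompl _ _
  obtain ⟨e₁⟩ := CIScheme.fiberStalk_equiv f x
  refine ⟨e₁.symm.trans (Ideal.quotientEquiv _ _ E.toRingEquiv ?_)⟩
  rw [FlatMorSlice.map_stalkMap_maximalIdeal_eq f hV hU e hx, Ideal.map_map, Ideal.map_map,
    IsScalarTower.algebraMap_eq Γ(S, V) Γ(X, U) (Localization.AtPrime q)]
  refine congrArg (fun φ => Ideal.map φ _) (RingHom.ext fun r => ?_)
  exact (E.commutes _).symm

include hV in
theorem ci_fiberStalk_iff [LocallyOfFiniteType f] :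
    letI := (f.appLE V U e).hom.toAlgebra
    Pi1.IsCompleteIntersection (CInt.fiberStalk f x) ↔
      Pi1.IsCompleteIntersection (EGA4.FibLocRing Γ(S, V) Γ(X, U) (hU.primeIdealOf ⟨x, hx⟩).asIdeal) := by
  letI := (f.appLE V U e).hom.toAlgebra
  obtain ⟨ε⟩ := fiberStalk_equiv_fibLocRing f hV hU e hx
  have := CIScheme.isNoetherianRing_fiberStalk f x
  have := isNoetherianRing_of_ringEquiv _ ε
  exact AvramovCI.isCompleteIntersection_iff_of_equiv ε

omit hV hU e hx in
theorem isOpen_relCI [Flat f] [LocallyOfFinitePresentation f] :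
    IsOpen {x : X | Pi1.IsCompleteIntersection (CInt.fiberStalk f x)} := by
  rw [isOpen_iff_forall_mem_open]
  intro x hx
  obtain ⟨_, ⟨V, hV, rfl⟩, hxV, -⟩ :=
    S.isBasis_affineOpens.exists_subset_of_mem_open (Set.mem_univ (f x)) isOpen_univ
  obtain ⟨_, ⟨U, hU, rfl⟩, hxU, hle⟩ :=
    X.isBasis_affineOpens.exists_subset_of_mem_open hxV (f ⁻¹ᵁ V).2
  have e : U ≤ f ⁻¹ᵁ V := hle
  letI := (f.appLE V U e).hom.toAlgebra
  have : Algebra.FinitePresentation Γ(S, V) Γ(X, U) :=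
    HasRingHomProperty.appLE @LocallyOfFinitePresentation f ‹_› ⟨V, hV⟩ ⟨U, hU⟩ e
  have : Module.Flat Γ(S, V) Γ(X, U) :=
    HasRingHomProperty.appLE @Flat f ‹_› ⟨V, hV⟩ ⟨U, hU⟩ e
  obtain ⟨g, hg, h⟩ := CIOpen.exists_notMem_forall_ci (R := Γ(S, V)) _ ((ci_fiberStalk_iff f hV hU e hxU).1 hx)
  have hmem : ∀ (y : X) (hy : y ∈ U), y ∈ X.basicOpen g ↔ g ∉ (hU.primeIdealOf ⟨y, hy⟩).asIdeal := fun y hy => by
    rw [← PrimeSpectrum.mem_basicOpen, IsAffineOpen.primeIdealOf, ← hU.fromSpec_preimage_basicOpen,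
      Scheme.Hom.mem_preimage, ← Scheme.Hom.comp_apply, IsAffineOpen.isoSpec_hom,
      IsAffineOpen.toSpecΓ_fromSpec]
    rfl
  refine ⟨X.basicOpen g, fun y hy => ?_, (X.basicOpen g).2, (hmem x hxU).2 hg⟩
  have hyU : y ∈ U := X.basicOpen_le g hy
  exact (ci_fiberStalk_iff f hV hU e hyU).2 (h _ ((hmem y hyU).1 hy))

theorem isOpen_relCI_base [Flat f] [LocallyOfFinitePresentation f] [UniversallyClosed f] :
    IsOpen {s : S | ∀ x : X, f x = s → Pi1.IsCompleteIntersection (CInt.fiberStalk f x)} := by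
  have : {s : S | ∀ x : X, f x = s → Pi1.IsCompleteIntersection (CInt.fiberStalk f x)} =
      (f '' {x : X | Pi1.IsCompleteIntersection (CInt.fiberStalk f x)}ᶜ)ᶜ := by
    ext s
    constructor
    · rintro h ⟨x, hx, rfl⟩
      exact hx (h x rfl)
    · intro h x hx
      by_contra hc
      exact h ⟨x, hc, hx⟩
  rw [this]
  exact (f.isClosedMap _ (isOpen_relCI f).isClosed_compl).isOpen_compl

end Groth.Agent.CAlgH.CIOpenScheme
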