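import Groth.Prelude.Def_Mor2
import Groth.Agent.CAlgH.CIOpenScheme
import Groth.Agent.CotTLib.LciConverse
import Groth.Agent.CotTLib.Regular

/-!
# Regular immersions of flat schemes and complete intersection fibres
-/

universe u

set_option autoImplicit false
set_option backward.isDefEq.respectTransparency false

open CategoryTheory AlgebraicGeometry IsLocalRing RingTheory.Sequence

namespace Groth.Agent.CAlgH.CIImmersion

attribute [local instance] CommAlg6.isLocalRing_fibLocRing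

/-- A regular sequence with flat quotient stays regular on a Noetherian local fibre. -/
theorem isWeaklyRegular_fibre_of_flat_quotient {R L : Type u} [CommRing R] [CommRing L] [Algebra R L]
    (a : Ideal R) [IsLocalRing (L ⧸ a.map (algebraMap R L))] [IsNoetherianRing (L ⧸ a.map (algebraMap R L))]
    {n : ℕ} (r : Fin n → L) (hreg : IsWeaklyRegular L (List.ofFn r))
    [Module.Flat R (L ⧸ Ideal.span (Set.range r))]
    (hm : ∀ i, Ideal.Quotient.mk (a.map (algebraMap R L)) (r i) ∈ maximalIdeal (L ⧸ a.map (algebraMap R L))) :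
    IsWeaklyRegular (L ⧸ a.map (algebraMap R L))
      (List.ofFn fun i => Ideal.Quotient.mk (a.map (algebraMap R L)) (r i)) := by
  classical
  let π := Ideal.Quotient.mk (a.map (algebraMap R L))
  refine CotTLib.isWeaklyRegular_of_trivOf _ hm fun x hx => ?_
  choose m hmx using fun i => Ideal.Quotient.mk_surjective (I := a.map (algebraMap R L)) (x i)
  rw [Finsupp.linearCombination_apply, Finsupp.sum_fintype _ _ (by simp)] at hx
  have h1 : ∑ i, r i * m i ∈ Ideal.span (Set.range r) :=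
    Ideal.sum_mem _ fun i _ => Ideal.mul_mem_right _ _ (Ideal.subset_span ⟨i, rfl⟩)
  have h2 : ∑ i, r i * m i ∈ a.map (algebraMap R L) := by
    rw [← Ideal.Quotient.eq_zero_iff_mem, map_sum, ← hx]
    refine Finset.sum_congr rfl fun i _ => ?_
    rw [map_mul, hmx, smul_eq_mul, mul_comm]
  have h3 := CIOpen.mem_map_mul_of_flat_quotient a _ h1 h2
  rw [← smul_eq_mul] at h3
  obtain ⟨p, hp, hpe⟩ := (Submodule.mem_ideal_smul_span_iff_exists_sum _ r _).1 h3
  rw [Finsupp.sum_fintype _ _ (by simp)] at hpe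
  obtain ⟨d, hd⟩ := CotTLib.exists_alternating r L hreg (fun i => m i - p i) (by
    simp only [smul_eq_mul, mul_sub, Finset.sum_sub_distrib, sub_eq_zero, ← hpe]
    exact Finset.sum_congr rfl fun i _ => mul_comm _ _)
  have hx' : x = ∑ i, ∑ j, π (d i j) • ((π ∘ r) j • Finsupp.single i (1 : L ⧸ a.map (algebraMap R L)) -
      (π ∘ r) i • Finsupp.single j 1) := by
    ext k
    simp only [Finset.sum_sub_distrib, smul_sub, Finsupp.coe_finsetSum, Finset.sum_apply, Finsupp.sub_apply,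
      Finsupp.smul_apply, Finsupp.single_apply, smul_eq_mul, mul_ite, mul_one, mul_zero, Finsupp.coe_sub,
      Pi.sub_apply]
    simp only [Finset.sum_ite_irrel, Finset.sum_const_zero, Finset.sum_ite_eq', Finset.mem_univ, if_true]
    have h0 : π (p k) = 0 := Ideal.Quotient.eq_zero_iff_mem.2 (hp k)
    rw [← hmx k, ← sub_zero (π (m k)), ← h0, ← map_sub, hd k, map_sum, ← Finset.sum_sub_distrib]
    refine Finset.sum_congr rfl fun j _ => ?_
    simp only [Function.comp_apply, smul_eq_mul, map_mul, map_sub]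
    ring
  rw [hx']
  exact Submodule.sum_mem _ fun i _ => Submodule.sum_mem _ fun j _ =>
    Submodule.smul_mem _ _ (Submodule.subset_span ⟨(j, i), rfl⟩)

variable {X Y S : Scheme.{u}}

/-- The kernel of a stalk map of a closed immersion in a chart. -/
theorem ker_stalkMap_eq (f : Y ⟶ X) [IsClosedImmersion f] (y : Y) {U : X.Opens} (hU : IsAffineOpen U)
    (hx : f y ∈ U) :
    RingHom.ker (f.stalkMap y).hom = (RingHom.ker (f.app U).hom).map (X.presheaf.germ U (f y) hx).hom := by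
  let := X.presheaf.algebra_section_stalk ⟨f y, hx⟩
  have := hU.isLocalization_stalk ⟨f y, hx⟩
  have hW : IsAffineOpen (f ⁻¹ᵁ U) := hU.preimage f
  have hy' : y ∈ f ⁻¹ᵁ U := hx
  let := Y.presheaf.algebra_section_stalk ⟨y, hy'⟩
  have := hW.isLocalization_stalk ⟨y, hy'⟩
  apply le_antisymm
  · intro a ha
    obtain ⟨b, s, rfl⟩ := IsLocalization.exists_mk'_eq (hU.primeIdealOf ⟨f y, hx⟩).asIdeal.primeCompl a
    have h0 : (f.stalkMap y).hom (X.presheaf.germ U (f y) hx b) = 0 := by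
      have h1 : algebraMap Γ(X, U) (X.presheaf.stalk (f y)) b =
          IsLocalization.mk' _ b s * algebraMap _ _ (s : Γ(X, U)) :=
        (IsLocalization.mk'_spec _ b s).symm
      rw [show X.presheaf.germ U (f y) hx b = algebraMap Γ(X, U) _ b from rfl, h1, map_mul,
        RingHom.mem_ker.mp ha, zero_mul]
    rw [show (f.stalkMap y).hom (X.presheaf.germ U (f y) hx b) =
      Y.presheaf.germ (f ⁻¹ᵁ U) y hx (f.app U b) from Scheme.Hom.germ_stalkMap_apply f U y hx b] at h0
    obtain ⟨⟨c, hc⟩, hcb⟩ := (IsLocalization.map_eq_zero_iff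
      (hW.primeIdealOf ⟨y, hy'⟩).asIdeal.primeCompl (Y.presheaf.stalk y) _).mp h0
    obtain ⟨c', hc'⟩ := f.app_surjective U hU c
    have hu : IsUnit (X.presheaf.germ U (f y) hx c') := by
      refine (isUnit_map_iff (f.stalkMap y).hom _).mp ?_
      rw [show (f.stalkMap y).hom (X.presheaf.germ U (f y) hx c') = Y.presheaf.germ (f ⁻¹ᵁ U) y hx c by
          rw [← hc']; exact Scheme.Hom.germ_stalkMap_apply f U y hx c']
      exact IsLocalization.map_units (Y.presheaf.stalk y)
        (⟨c, hc⟩ : (hW.primeIdealOf ⟨y, hy'⟩).asIdeal.primeCompl)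
    have hmem : c' * b ∈ RingHom.ker (f.app U).hom := by
      rw [RingHom.mem_ker, map_mul]
      exact (congrArg (· * f.app U b) hc').trans hcb
    rw [show (X.presheaf.germ U (f y) hx).hom = algebraMap Γ(X, U) (X.presheaf.stalk (f y)) from rfl,
      IsLocalization.mk'_mem_iff]
    refine (Ideal.unit_mul_mem_iff_mem _ hu).mp ?_
    have := Ideal.mem_map_of_mem (algebraMap Γ(X, U) (X.presheaf.stalk (f y))) hmem
    rwa [map_mul] at this
  · rw [Ideal.map_le_iff_le_comap]
    intro b hb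
    rw [Ideal.mem_comap, RingHom.mem_ker]
    refine (Scheme.Hom.germ_stalkMap_apply f U y hx b).trans ?_
    rw [show f.app U b = 0 from hb, map_zero]

/-- Data of a regular closed immersion at a point, on the ambient scheme. -/
theorem exists_regular_chart (f : Y ⟶ X) (y : Y) (V₀ : X.Opens) (hy : f y ∈ V₀)
    (h : Mor2.IsRegularClosedImmersion (f ∣_ V₀)) :
    ∃ (U : X.Opens) (_ : IsAffineOpen U), f y ∈ U ∧ ∃ rs : List Γ(X, U),
      IsRegular Γ(X, U) rs ∧ RingHom.ker (f.app U).hom = Ideal.ofList rs := by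
  obtain ⟨U₀, hU₀, hz, rs, hrs, hker⟩ := h.2 ⟨y, hy⟩
  refine ⟨V₀.ι ''ᵁ U₀, hU₀.image_of_isOpenImmersion V₀.ι, ⟨_, hz, ?_⟩, rs, hrs, ?_⟩
  · exact congrArg (fun φ : (f ⁻¹ᵁ V₀).toScheme ⟶ X => φ ⟨y, hy⟩) (morphismRestrict_ι f V₀)
  · have := h.1
    refine Eq.trans ?_ hker
    rw [Scheme.Hom.ker_apply, morphismRestrict_app]
    exact (RingHom.ker_comp_of_injective _ (ConcreteCategory.bijective_of_isIso _).1).symm

theorem ker_transport (f : Y ⟶ X) (D : X.Opens) (U₀ : D.toScheme.Opens) :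
    ∀ {W : X.Opens}, D.ι ''ᵁ U₀ = W → ∀ ss : List Γ(X, W), IsRegular Γ(X, W) ss →
      RingHom.ker (f.app W).hom = Ideal.ofList ss →
      ∃ ts : List Γ(D.toScheme, U₀), IsRegular Γ(D.toScheme, U₀) ts ∧
        RingHom.ker ((f ∣_ D).app U₀).hom = Ideal.ofList ts := by
  rintro W rfl ss hss hker
  refine ⟨ss, hss, ?_⟩
  rw [morphismRestrict_app]
  exact (RingHom.ker_comp_of_injective _ (ConcreteCategory.bijective_of_isIso _).1).trans hker

theorem isRegularClosedImmersion_restrict (f : Y ⟶ X) [IsClosedImmersion f] {D : X.Opens}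
    (hD : IsAffineOpen D) (ss : List Γ(X, D)) (hss : IsRegular Γ(X, D) ss)
    (hker : RingHom.ker (f.app D).hom = Ideal.ofList ss) :
    Mor2.IsRegularClosedImmersion (f ∣_ D) := by
  have hi : IsClosedImmersion (f ∣_ D) := inferInstance
  refine ⟨hi, fun z => ⟨⊤, ?_, trivial, ?_⟩⟩
  · have : IsAffine D.toScheme := hD
    exact isAffineOpen_top _
  · obtain ⟨ts, hts, htk⟩ := ker_transport f D ⊤ (Scheme.Opens.ι_image_top D) ss hss hker
    exact ⟨ts, hts, by rw [Scheme.Hom.ker_apply]; exact htk⟩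

variable (g : X ⟶ S) (f : Y ⟶ X) [IsClosedImmersion f]

theorem ci_of_isRegularClosedImmersion [Flat (f ≫ g)] [LocallyOfFiniteType g] (y : Y)
    [IsRegularLocalRing (CInt.fiberStalk g (f y))] (V₀ : X.Opens) (hy : f y ∈ V₀)
    (h : Mor2.IsRegularClosedImmersion (f ∣_ V₀)) :
    Pi1.IsCompleteIntersection (CInt.fiberStalk (f ≫ g) y) := by
  obtain ⟨U, hU, hyU, rs, hrs, hker⟩ := exists_regular_chart f y V₀ hy h
  let L := X.presheaf.stalk (f y)
  let M := Y.presheaf.stalk y
  let R := S.presheaf.stalk (g (f y))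
  letI : Algebra R L := (g.stalkMap (f y)).hom.toAlgebra
  letI : Algebra R M := ((f ≫ g).stalkMap y).hom.toAlgebra
  let gr := (X.presheaf.germ U (f y) hyU).hom
  let ls := rs.map gr
  have hreg : IsWeaklyRegular L ls := by
    let := X.presheaf.algebra_section_stalk ⟨f y, hyU⟩
    have := hU.isLocalization_stalk ⟨f y, hyU⟩
    have : Module.Flat Γ(X, U) L := IsLocalization.flat L (hU.primeIdealOf ⟨f y, hyU⟩).asIdeal.primeCompl
    exact hrs.toIsWeaklyRegular.of_flat
  let φ := (f.stalkMap y).hom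
  have hφ : Function.Surjective φ := f.stalkMap_surjective y
  have hφk : RingHom.ker φ = Ideal.ofList ls := by
    show RingHom.ker (f.stalkMap y).hom = _
    rw [ker_stalkMap_eq f y hU hyU, hker, Ideal.map_ofList]
  let r : Fin ls.length → L := ls.get
  have hrange : Ideal.span (Set.range r) = RingHom.ker φ := by
    rw [hφk, Set.range_list_get]
  have hcomp : φ.comp (algebraMap R L) = algebraMap R M :=
    (congrArg CommRingCat.Hom.hom (Scheme.Hom.stalkMap_comp f g y)).symm
  let φa : L →ₐ[R] M := ⟨φ, fun c => RingHom.congr_fun hcomp c⟩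
  have : Module.Flat R M := Flat.stalkMap (f ≫ g) y
  have : Module.Flat R (L ⧸ Ideal.span (Set.range r)) :=
    Module.Flat.of_linearEquiv ((Ideal.quotientEquivAlgOfEq R (show _ = RingHom.ker φa.toRingHom from hrange)).trans
      (Ideal.quotientKerAlgEquivOfSurjective (f := φa) hφ)).toLinearEquiv
  obtain ⟨eT⟩ := CIScheme.fiberStalk_equiv g (f y)
  obtain ⟨eF⟩ := CIScheme.fiberStalk_equiv (f ≫ g) y
  let mR := maximalIdeal R
  have : IsRegularLocalRing (L ⧸ mR.map (algebraMap R L)) := IsRegularLocalRing.of_ringEquiv (R := CInt.fiberStalk g (f y)) eT.symm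
  have hmp : (mR.map (algebraMap R L)).map φ = mR.map (algebraMap R M) := by rw [Ideal.map_map, hcomp]
  let ψ : L ⧸ mR.map (algebraMap R L) →+* M ⧸ mR.map (algebraMap R M) :=
    Ideal.quotientMap _ φ (Ideal.map_le_iff_le_comap.1 hmp.le)
  have hψ : Function.Surjective ψ := Ideal.quotientMap_surjective hφ
  have hψk : RingHom.ker ψ = (RingHom.ker φ).map (Ideal.Quotient.mk _) := by
    show RingHom.ker (Ideal.Quotient.lift _ _ _) = _
    rw [Ideal.ker_quotient_lift, ← RingHom.comap_ker, Ideal.mk_ker, ← hmp,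
      Ideal.comap_map_of_surjective _ hφ, ← RingHom.ker_eq_comap_bot, Ideal.map_sup, Ideal.map_quotient_self,
      bot_sup_eq]
  have : Nontrivial (M ⧸ mR.map (algebraMap R M)) := eF.toEquiv.nontrivial
  let F := (eF.toRingHom).comp ψ
  have hF : Function.Surjective F := eF.surjective.comp hψ
  have hFk : RingHom.ker F = RingHom.ker ψ := RingHom.ker_comp_of_injective _ eF.injective
  have : IsNoetherianRing (CInt.fiberStalk (f ≫ g) y) := isNoetherianRing_of_surjective _ _ F hF
  rw [CIPresentation.isCompleteIntersection_iff F hF, hFk, hψk]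
  have hmem : ∀ i, Ideal.Quotient.mk (mR.map (algebraMap R L)) (r i) ∈ maximalIdeal (L ⧸ mR.map (algebraMap R L)) :=
    fun i => by
      refine IsLocalRing.le_maximalIdeal (RingHom.ker_ne_top F) ?_
      rw [hFk, hψk]
      exact Ideal.mem_map_of_mem _ (hrange.le (Ideal.subset_span ⟨i, rfl⟩))
  have hw := isWeaklyRegular_fibre_of_flat_quotient mR r (by rwa [List.ofFn_get]) hmem
  refine ⟨_, RegularIdealLocal.isRegular_of_mem hw fun x hx => ?_, ?_⟩
  · obtain ⟨i, rfl⟩ := List.mem_ofFn.1 hx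
    exact hmem i
  · rw [← hrange, RegularIdealLocal.ofList_ofFn, Ideal.map_span]
    exact congrArg _ (Set.range_comp _ r)

theorem exists_isRegularClosedImmersion_of_ci [Flat g] [LocallyOfFinitePresentation g] [Flat (f ≫ g)]
    [LocallyOfFinitePresentation (f ≫ g)] (y : Y) [IsRegularLocalRing (CInt.fiberStalk g (f y))]
    (h : Pi1.IsCompleteIntersection (CInt.fiberStalk (f ≫ g) y)) :
    ∃ V : X.Opens, f y ∈ V ∧ Mor2.IsRegularClosedImmersion (f ∣_ V) := by
  obtain ⟨_, ⟨V, hV, rfl⟩, hxV, -⟩ :=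
    S.isBasis_affineOpens.exists_subset_of_mem_open (Set.mem_univ (g (f y))) isOpen_univ
  obtain ⟨_, ⟨U, hU, rfl⟩, hyU, hle⟩ :=
    X.isBasis_affineOpens.exists_subset_of_mem_open hxV (g ⁻¹ᵁ V).2
  have e : U ≤ g ⁻¹ᵁ V := hle
  let W := f ⁻¹ᵁ U
  have hW : IsAffineOpen W := hU.preimage f
  have e' : W ≤ (f ≫ g) ⁻¹ᵁ V := fun z hz => e hz
  let P := Γ(X, U)
  let B := Γ(Y, W)
  letI : Algebra Γ(S, V) P := (g.appLE V U e).hom.toAlgebra
  letI : Algebra Γ(S, V) B := ((f ≫ g).appLE V W e').hom.toAlgebra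
  have : Algebra.FinitePresentation Γ(S, V) P :=
    HasRingHomProperty.appLE @LocallyOfFinitePresentation g ‹_› ⟨V, hV⟩ ⟨U, hU⟩ e
  have : Module.Flat Γ(S, V) P := HasRingHomProperty.appLE @Flat g ‹_› ⟨V, hV⟩ ⟨U, hU⟩ e
  have : Algebra.FinitePresentation Γ(S, V) B :=
    HasRingHomProperty.appLE @LocallyOfFinitePresentation (f ≫ g) ‹_› ⟨V, hV⟩ ⟨W, hW⟩ e'
  have : Module.Flat Γ(S, V) B := HasRingHomProperty.appLE @Flat (f ≫ g) ‹_› ⟨V, hV⟩ ⟨W, hW⟩ e'
  have hcomm : (f ≫ g).appLE V W e' = g.appLE V U e ≫ f.app U := by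
    rw [Scheme.Hom.app_eq_appLE, Scheme.Hom.appLE_comp_appLE]
  let π : P →ₐ[Γ(S, V)] B := ⟨(f.app U).hom, fun c => (ConcreteCategory.congr_hom hcomm c).symm⟩
  have hπ : Function.Surjective π := f.app_surjective U hU
  have hq : (hW.primeIdealOf ⟨y, hyU⟩).asIdeal.comap π.toRingHom = (hU.primeIdealOf ⟨f y, hyU⟩).asIdeal := by
    have := IsAffineOpen.comap_primeIdealOf_appLE (f := f) U hU W hW le_rfl (x := y) hyU
    rw [← Scheme.Hom.app_eq_appLE] at this
    exact congrArg PrimeSpectrum.asIdeal this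
  obtain ⟨φ, hφ, hφk⟩ := CIOpen.exists_fib_surjection π hπ (hW.primeIdealOf ⟨y, hyU⟩).asIdeal
  have : IsRegularLocalRing
      (EGA4.FibLocRing Γ(S, V) P ((hW.primeIdealOf ⟨y, hyU⟩).asIdeal.comap π.toRingHom)) := by
    obtain ⟨ε⟩ := CIOpenScheme.fiberStalk_equiv_fibLocRing g hV hU e hyU
    obtain ⟨ε'⟩ := CommAlg6.fibLocRing_congr (A := Γ(S, V)) _ _ hq.symm
    exact IsRegularLocalRing.of_ringEquiv (R := CInt.fiberStalk g (f y)) (ε.trans ε')
  have : IsNoetherianRing (EGA4.FibLocRing Γ(S, V) B (hW.primeIdealOf ⟨y, hyU⟩).asIdeal) :=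
    isNoetherianRing_of_surjective _ _ φ hφ
  have : Module.Flat Γ(S, V) (P ⧸ RingHom.ker π.toRingHom) :=
    Module.Flat.of_linearEquiv (Ideal.quotientKerAlgEquivOfSurjective hπ).toLinearEquiv
  obtain ⟨rs, G, hG, hrsI, hgen, hcolon, -⟩ := CIOpen.exists_regular_generators (RingHom.ker π.toRingHom)
    (Algebra.FinitePresentation.ker_fG_of_surjective π hπ) _
    (hφk ▸ (CIPresentation.isCompleteIntersection_iff φ hφ).1
      ((CIOpenScheme.ci_fiberStalk_iff (f ≫ g) hV hW e' (x := y) hyU).1 h))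
  have hD : IsAffineOpen (X.basicOpen G) := hU.basicOpen G
  have hyD : f y ∈ X.basicOpen G := by
    rw [hq] at hG
    refine (X.mem_basicOpen G (f y) hyU).2 ?_
    let := X.presheaf.algebra_section_stalk ⟨f y, hyU⟩
    have := hU.isLocalization_stalk ⟨f y, hyU⟩
    exact IsLocalization.map_units (X.presheaf.stalk (f y)) (⟨G, hG⟩ : (hU.primeIdealOf ⟨f y, hyU⟩).asIdeal.primeCompl)
  have := hU.isLocalization_basicOpen G
  let ρ := algebraMap P Γ(X, X.basicOpen G)
  have hkerD : RingHom.ker (f.app (X.basicOpen G)).hom = Ideal.ofList (rs.map ρ) := by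
    rw [← Scheme.Hom.ker_apply f ⟨_, hD⟩, ← Ideal.map_ofList,
      ← CIOpen.map_eq_of_mul_mem (L := Γ(X, X.basicOpen G)) (Submonoid.powers G) (Submonoid.mem_powers G) hrsI hgen]
    refine ((f.ker.map_ideal_basicOpen ⟨U, hU⟩ G).symm.trans ?_)
    rw [Scheme.Hom.ker_apply]
    rfl
  refine ⟨X.basicOpen G, hyD, isRegularClosedImmersion_restrict f hD _ ⟨?_, ?_⟩ hkerD⟩
  · exact CIOpen.isWeaklyRegular_localization (Submonoid.powers G) (Submonoid.mem_powers G) hcolon
  · rw [smul_eq_mul, Ideal.mul_top, ne_comm, ← hkerD]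
    have : Nonempty (f ⁻¹ᵁ X.basicOpen G : Y.Opens) := ⟨⟨y, hyD⟩⟩
    exact RingHom.ker_ne_top _

end Groth.Agent.CAlgH.CIImmersion
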