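import Groth.Agent.CAlgH.RegularIdealLocal
import Groth.Agent.EGA41Lib.CMParameters
import Groth.Agent.CAlgH3.RegularCore
import Mathlib.RingTheory.Ideal.Cotangent

/-!
# Regular ideals in regular local rings and the number of conormal generators
-/

universe u

set_option autoImplicit false

open IsLocalRing RingTheory.Sequence

namespace Groth.Agent.CAlgH.RegularIdealLocal

variable {A : Type u} [CommRing A] [IsLocalRing A] [IsNoetherianRing A]

/-- Generators of `I/I²` lift to generators of `I`. -/
theorem exists_generators_cotangent (I : Ideal A) (hI : I ≠ ⊤) :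
    ∃ r : ℕ, r ≤ (⊤ : Submodule (A ⧸ I) I.Cotangent).spanFinrank ∧
      ∃ g : Fin r → A, Ideal.span (Set.range g) = I := by
  classical
  have : Module.Finite A I.Cotangent := Module.Finite.of_surjective _ I.toCotangent_surjective
  have hfin : Module.Finite (A ⧸ I) I.Cotangent := Module.Finite.of_restrictScalars_finite A (A ⧸ I) _
  obtain ⟨s, hcard, hs⟩ := hfin.fg_top.exists_span_finset_card_eq_spanFinrank
  refine ⟨s.card, hcard.le, ?_⟩
  have hlift : ∀ i : Fin s.card, ∃ y : I, I.toCotangent y = (s.equivFin.symm i : I.Cotangent) :=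
    fun i => I.toCotangent_surjective _
  choose y hy using hlift
  refine ⟨fun i => (y i : A), le_antisymm (Ideal.span_le.2 (Set.range_subset_iff.2 fun i => (y i).2)) ?_⟩
  refine Submodule.le_of_le_smul_of_le_jacobson_bot (IsNoetherian.noetherian I)
    ((le_maximalIdeal hI).trans (maximalIdeal_le_jacobson _)) fun x hx => ?_
  have hmem : I.toCotangent ⟨x, hx⟩ ∈ Submodule.span A (Set.range fun i => I.toCotangent (y i)) := by
    have h1 : I.toCotangent ⟨x, hx⟩ ∈ Submodule.span (A ⧸ I) (s : Set I.Cotangent) := by rw [hs]; trivial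
    have hset : (s : Set I.Cotangent) = Set.range fun i => I.toCotangent (y i) := by
      ext z
      constructor
      · intro hz
        exact ⟨s.equivFin ⟨z, hz⟩, by simp [hy]⟩
      · rintro ⟨i, rfl⟩
        simp only [hy]
        exact (s.equivFin.symm i).2
    rw [hset, ← Submodule.restrictScalars_mem A, Submodule.restrictScalars_span A (A ⧸ I)
      Ideal.Quotient.mk_surjective] at h1
    exact h1
  rw [Set.range_comp' I.toCotangent y, ← Submodule.map_span, Submodule.mem_map] at hmem
  obtain ⟨z, hz, hzx⟩ := hmem
  rw [Ideal.toCotangent_eq, pow_two] at hzx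
  have hz' : (z : A) ∈ Ideal.span (Set.range fun i => (y i : A)) := by
    have := Submodule.mem_map_of_mem (f := (I : Submodule A A).subtype) hz
    rwa [Submodule.map_span, ← Set.range_comp] at this
  have hx' : x = (z : A) - ((z : A) - x) := by ring
  rw [hx']
  exact sub_mem (Submodule.mem_sup_left hz') (Submodule.mem_sup_right (by simpa using hzx))

theorem isRegularIdeal_iff_spanFinrank [IsRegularLocalRing A] (I : Ideal A) (hI : I ≠ ⊤) :
    (∃ rs : List A, Ideal.ofList rs = I ∧ IsRegular A rs) ↔
      (((⊤ : Submodule (A ⧸ I) I.Cotangent).spanFinrank : WithBot ℕ∞) + ringKrullDim (A ⧸ I)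
        ≤ ringKrullDim A) := by
  have hCM : LocCoh.IsCohenMacaulayModule A A := by
    show Module.supportDim A A = _
    rw [Module.supportDim_self_eq_ringKrullDim]
    exact (CAlgH3.depth_eq_ringKrullDim (R := A)).symm
  have hdim : ∀ J : Ideal A, Module.supportDim A (A ⧸ (J • (⊤ : Submodule A A))) = ringKrullDim (A ⧸ J) :=
    fun J => by
      rw [show (J • (⊤ : Submodule A A)) = J by rw [smul_eq_mul, Ideal.mul_top],
        Module.supportDim_quotient_eq_ringKrullDim]
  constructor
  · rintro ⟨rs, rfl, hrs⟩
    classical
    have h := ((EGA41Lib.cm_regular_sequence rs A hCM (fun r hr => le_maximalIdeal hI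
      (Ideal.subset_span hr))).1 hrs.toIsWeaklyRegular).1
    rw [hdim, Module.supportDim_self_eq_ringKrullDim] at h
    rw [← h, add_comm]
    refine add_le_add le_rfl ?_
    have hle : (⊤ : Submodule (A ⧸ Ideal.ofList rs) (Ideal.ofList rs).Cotangent).spanFinrank ≤ rs.length := by
      let J := Ideal.ofList rs
      let v : Fin rs.length → J.Cotangent := fun i => J.toCotangent ⟨rs.get i, Ideal.subset_span (List.get_mem _ _)⟩
      have hv : Submodule.span (A ⧸ J) (Set.range v) = ⊤ := by
        apply Submodule.restrictScalars_injective A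
        rw [Submodule.restrictScalars_span A (A ⧸ J) Ideal.Quotient.mk_surjective,
          Submodule.restrictScalars_top, show v = J.toCotangent ∘ _ from rfl, Set.range_comp,
          ← Submodule.map_span, eq_top_iff, ← J.toCotangent_range, ← Submodule.map_top]
        refine Submodule.map_mono fun x _ => ?_
        apply (Submodule.map_injective_of_injective (f := (J : Submodule A A).subtype)
          Subtype.val_injective |> fun h => ?_)
        obtain ⟨c, hc⟩ := Ideal.mem_span_range_iff_exists_fun.1 (show (x : A) ∈ Ideal.span (Set.range rs.get) by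
          rw [← ofList_ofFn, List.ofFn_get]; exact x.2)
        refine (Submodule.mem_span_range_iff_exists_fun A).2 ⟨c, Subtype.ext ?_⟩
        simpa [J] using hc
      calc _ = (Submodule.span (A ⧸ J) (Set.range v)).spanFinrank := by rw [hv]
        _ ≤ (Set.range v).ncard := Submodule.spanFinrank_span_le_ncard_of_finite (Set.finite_range v)
        _ ≤ (Set.univ : Set (Fin rs.length)).ncard := by rw [← Set.image_univ]; exact Set.ncard_image_le
        _ = rs.length := by simp
    exact_mod_cast hle
  · intro h
    obtain ⟨r, hr, g, hg⟩ := exists_generators_cotangent I hI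
    have hmem : ∀ x ∈ List.ofFn g, x ∈ maximalIdeal A := by
      intro x hx
      obtain ⟨i, rfl⟩ := List.mem_ofFn.1 hx
      exact le_maximalIdeal hI (hg ▸ Ideal.subset_span ⟨i, rfl⟩)
    refine ⟨List.ofFn g, by rw [ofList_ofFn, hg], isRegular_of_mem
      ((EGA41Lib.cm_regular_sequence _ A hCM hmem).2 ?_) hmem⟩
    rw [hdim, Module.supportDim_self_eq_ringKrullDim, ofList_ofFn, hg, List.length_ofFn]
    refine le_trans ?_ h
    rw [add_comm]
    exact add_le_add (by exact_mod_cast hr) le_rfl

end Groth.Agent.CAlgH.RegularIdealLocal
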