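import Groth.Agent.CAlgH.RegularIdealLocal
import Groth.Agent.CAlgH3.RegularCore
import Groth.Prelude.Def_CInt
import Mathlib.RingTheory.KrullDimension.Regular

/-!
# Regular ideals and quotients
-/

universe u

set_option autoImplicit false

open IsLocalRing RingTheory.Sequence

namespace Groth.Agent.CAlgH.RegularIdealLocal

variable {A : Type u} [CommRing A] [IsLocalRing A] [IsNoetherianRing A]

omit [IsNoetherianRing A] in
theorem mem_of_isRegular {rs : List A} (h : IsRegular A rs) : ∀ r ∈ rs, r ∈ maximalIdeal A := by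
  intro r hr
  have htop : Ideal.ofList rs ≠ ⊤ := fun e => h.top_ne_smul (by rw [e, smul_eq_mul, Ideal.mul_top])
  exact le_maximalIdeal htop (Ideal.subset_span hr)

/-- `J ⊆ K` with `J` and `K/J` generated by regular sequences: so is `K`. -/
theorem isRegularIdeal_of_quotient (J K : Ideal A) (hJK : J ≤ K) (hK : K ≤ maximalIdeal A)
    (hJ : CInt.IsRegularIdeal J) (hKJ : CInt.IsRegularIdeal (K.map (Ideal.Quotient.mk J))) :
    CInt.IsRegularIdeal K := by
  obtain ⟨rs, hrs, rfl⟩ := hJ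
  obtain ⟨rs', hrs', hrsK⟩ := hKJ
  have hlift : ∀ y : A ⧸ Ideal.ofList rs, ∃ z : A, Ideal.Quotient.mk _ z = y := Ideal.Quotient.mk_surjective
  choose s hs using hlift
  have hmap : (rs'.map s).map (Ideal.Quotient.mk (Ideal.ofList rs)) = rs' := by
    simp [Function.comp_def, hs]
  have hKeq : Ideal.ofList (rs ++ rs'.map s) = K := by
    have h2 : K.map (Ideal.Quotient.mk (Ideal.ofList rs)) =
        (Ideal.ofList (rs'.map s)).map (Ideal.Quotient.mk (Ideal.ofList rs)) := by
      rw [Ideal.map_ofList, hmap, hrsK]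
    have := congrArg (Ideal.comap (Ideal.Quotient.mk (Ideal.ofList rs))) h2
    rw [Ideal.comap_map_of_surjective' _ Ideal.Quotient.mk_surjective,
      Ideal.comap_map_of_surjective' _ Ideal.Quotient.mk_surjective, Ideal.mk_ker,
      sup_eq_left.2 hJK, sup_comm] at this
    rw [Ideal.ofList_append, ← this]
  refine ⟨rs ++ rs'.map s, isRegular_of_mem ?_ fun r hr => hK (hKeq ▸ Ideal.subset_span hr), hKeq⟩
  rw [isWeaklyRegular_append_iff]
  refine ⟨hrs.toIsWeaklyRegular, ((Submodule.quotEquivOfEq _ _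
    (by rw [smul_eq_mul, Ideal.mul_top])).isWeaklyRegular_congr _).2 ?_⟩
  rw [← isWeaklyRegular_map_algebraMap_iff (A ⧸ Ideal.ofList rs)]
  exact hmap.symm ▸ hrs'.toIsWeaklyRegular

/-- `K` and `K/J` generated by regular sequences: so is `J`. -/
theorem isRegularIdeal_of_regular_and_quotient (J K : Ideal A) (hJK : J ≤ K) (hK : K ≤ maximalIdeal A)
    (hKreg : CInt.IsRegularIdeal K) (hKJ : CInt.IsRegularIdeal (K.map (Ideal.Quotient.mk J))) :
    CInt.IsRegularIdeal J := by
  obtain ⟨rs, hrs, hrsK⟩ := hKreg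
  obtain ⟨rs', hrs', hrs'K⟩ := hKJ
  obtain ⟨⟨ts, hts, htsreg⟩, -⟩ := regular_sub_and_quotient J K hJK
    (ne_top_of_le_ne_top (maximalIdeal.isMaximal A).ne_top hK) ⟨rs, hrsK, hrs⟩
    (mem_maximalIdeal_mul_of_regular_quotient hJK hK ⟨rs', hrs'K, hrs'.toIsWeaklyRegular⟩)
  exact ⟨ts, htsreg, hts⟩

omit [IsNoetherianRing A] in
theorem map_maximalIdeal_quotient (J : Ideal A) [Nontrivial (A ⧸ J)] [IsLocalRing (A ⧸ J)] :
    (maximalIdeal A).map (Ideal.Quotient.mk J) = maximalIdeal (A ⧸ J) :=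
  IsLocalRing.map_maximalIdeal_of_surjective _ Ideal.Quotient.mk_surjective

/-- A regular quotient of a regular local ring has `J ∩ m² = mJ`. -/
theorem mem_maximalIdeal_mul_of_regular (J : Ideal A) [IsRegularLocalRing (A ⧸ J)] :
    ∀ x ∈ J, x ∈ maximalIdeal A * maximalIdeal A → x ∈ maximalIdeal A * J := by
  have hJ : J ≤ maximalIdeal A := le_maximalIdeal (Ideal.Quotient.nontrivial_iff.1 inferInstance)
  obtain ⟨rs', -, hrs', hreg⟩ :=
    CAlgH3.exists_isRegular_ofList_eq_maximalIdeal (R := A ⧸ J)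
  exact mem_maximalIdeal_mul_of_regular_quotient hJ le_rfl
    ⟨rs', by rw [hrs', map_maximalIdeal_quotient], hreg.toIsWeaklyRegular⟩

/-- For `A/J` regular: `A` is regular iff `J` is generated by a regular sequence. -/
theorem isRegularLocalRing_iff_isRegularIdeal (J : Ideal A) [IsRegularLocalRing (A ⧸ J)] :
    IsRegularLocalRing A ↔ CInt.IsRegularIdeal J := by
  have hJ : J ≤ maximalIdeal A := le_maximalIdeal (Ideal.Quotient.nontrivial_iff.1 inferInstance)
  refine ⟨fun _ => ?_, fun h => ?_⟩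
  · obtain ⟨rs, -, hrs, hreg⟩ := CAlgH3.exists_isRegular_ofList_eq_maximalIdeal (R := A)
    obtain ⟨⟨ts, hts, htsreg⟩, -⟩ := regular_sub_and_quotient J (maximalIdeal A) hJ
      (maximalIdeal.isMaximal A).ne_top ⟨rs, hrs, hreg⟩ (mem_maximalIdeal_mul_of_regular J)
    exact ⟨ts, htsreg, hts⟩
  · obtain ⟨rs', -, hrs', hreg'⟩ := CAlgH3.exists_isRegular_ofList_eq_maximalIdeal (R := A ⧸ J)
    obtain ⟨rs, hrs, hrsm⟩ := isRegularIdeal_of_quotient J (maximalIdeal A) hJ le_rfl h
      ⟨rs', hreg', by rw [hrs', map_maximalIdeal_quotient]⟩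
    refine IsRegularLocalRing.of_spanFinrank_maximalIdeal_le (R := A) ?_
    have h1 := ringKrullDim_add_length_eq_ringKrullDim_of_isRegular rs hrs
    have h2 : ((maximalIdeal A).spanFinrank : WithBot ℕ∞) ≤ rs.length := by
      exact_mod_cast CAlgH3.spanFinrank_le_length rs hrsm
    have : Nontrivial (A ⧸ Ideal.ofList rs) :=
      Ideal.Quotient.nontrivial_iff.2 (hrsm ▸ (maximalIdeal.isMaximal A).ne_top)
    refine h2.trans (h1 ▸ ?_)
    exact le_add_of_nonneg_left ringKrullDim_nonneg_of_nontrivial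

/-- In a regular local ring with `A/J` regular: `K` is regular iff `K/J` is. -/
theorem isRegularIdeal_iff_quotient [IsRegularLocalRing A] (J K : Ideal A) (hJK : J ≤ K)
    (hK : K ≤ maximalIdeal A) [IsRegularLocalRing (A ⧸ J)] :
    CInt.IsRegularIdeal K ↔ CInt.IsRegularIdeal (K.map (Ideal.Quotient.mk J)) := by
  refine ⟨fun ⟨rs, hrs, hrsK⟩ => ?_, fun h => isRegularIdeal_of_quotient J K hJK hK
    ((isRegularLocalRing_iff_isRegularIdeal J).1 inferInstance) h⟩
  obtain ⟨-, ts, hts, htsreg⟩ := regular_sub_and_quotient J K hJK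
    (ne_top_of_le_ne_top (maximalIdeal.isMaximal A).ne_top hK) ⟨rs, hrsK, hrs⟩
    fun x hx hxm => mem_maximalIdeal_mul_of_regular J x hx (Ideal.mul_mono_right hK hxm)
  exact ⟨ts, htsreg, hts⟩

end Groth.Agent.CAlgH.RegularIdealLocal
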