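import Groth.Agent.S6532

/-!
# Finite Tor dimension of `A/J` over `A/I` forces `I/mI → J/mJ` injective
-/

universe u

set_option autoImplicit false

open CategoryTheory IsLocalRing

namespace Groth.Agent.CAlgH.TorDimInjective

theorem hasFiniteTorDim_of_equiv {A M M' : Type u} [CommRing A] [AddCommGroup M] [Module A M]
    [AddCommGroup M'] [Module A M'] (e : M ≃ₗ[A] M') (h : DRing.HasFiniteTorDim A M) :
    DRing.HasFiniteTorDim A M' := by
  obtain ⟨n, hn⟩ := h
  refine ⟨n, fun N _ _ p hp => ?_⟩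
  have := hn N p hp
  exact (((((Tor (ModuleCat.{u} A) p).mapIso e.toModuleIso).app (ModuleCat.of A N)).toLinearEquiv).symm
    ).toEquiv.subsingleton

variable {A : Type u} [CommRing A] [IsNoetherianRing A] [IsLocalRing A]

theorem exists_sum_of_mem_mul {I J : Ideal A} {x : A} (hx : x ∈ I * J) :
    ∃ (n : ℕ) (a b : Fin n → A), (∀ i, a i ∈ I) ∧ (∀ i, b i ∈ J) ∧ ∑ i, a i * b i = x := by
  induction hx using Submodule.mul_induction_on' with
  | mem_mul_mem a ha b hb => exact ⟨1, fun _ => a, fun _ => b, fun _ => ha, fun _ => hb, by simp⟩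
  | add x _ y _ hx hy =>
    obtain ⟨n, a, b, ha, hb, rfl⟩ := hx
    obtain ⟨m, a', b', ha', hb', rfl⟩ := hy
    exact ⟨n + m, Fin.append a a', Fin.append b b', Fin.addCases (by simpa using ha) (by simpa using ha'),
      Fin.addCases (by simpa using hb) (by simpa using hb'), by simp [Fin.sum_univ_add]⟩

/-- A maximal submodule avoiding a given element modulo `mI`. -/
theorem exists_hyperplane (I : Ideal A) {x : A} (hx : x ∈ I) (hxI : x ∉ maximalIdeal A * I) :
    ∃ I' : Ideal A, maximalIdeal A * I ≤ I' ∧ I' ≤ I ∧ x ∉ I' ∧ I' ⊔ Ideal.span {x} = I := by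
  obtain ⟨I', ⟨h₁, h₂, h₃⟩, hmax⟩ := set_has_maximal_iff_noetherian.2 (inferInstance : IsNoetherian A A)
    {I' : Ideal A | maximalIdeal A * I ≤ I' ∧ I' ≤ I ∧ x ∉ I'} ⟨_, le_rfl, Ideal.mul_le_right, hxI⟩
  refine ⟨I', h₁, h₂, h₃, le_antisymm (sup_le h₂ (by simpa using hx)) fun y hy => ?_⟩
  by_contra hcon
  have hlt : I' < I' ⊔ Ideal.span {y} := lt_of_le_of_ne le_sup_left fun e => hcon
    (Ideal.mem_sup_left (e ▸ Ideal.mem_sup_right (Ideal.mem_span_singleton_self y)))
  have hmem : x ∈ I' ⊔ Ideal.span {y} := by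
    by_contra h
    exact hmax _ ⟨h₁.trans le_sup_left, sup_le h₂ (by simpa using hy), h⟩ hlt
  obtain ⟨a, ha, b, hb, hab⟩ := Submodule.mem_sup.1 hmem
  obtain ⟨c, rfl⟩ := Ideal.mem_span_singleton'.1 hb
  by_cases hc : IsUnit c
  · refine hcon ?_
    obtain ⟨c, rfl⟩ := hc
    rw [show y = (↑c⁻¹ : A) * x - (↑c⁻¹ : A) * a by rw [← hab]; ring_nf; simp [mul_assoc]]
    exact sub_mem (Ideal.mem_sup_right (Ideal.mul_mem_left _ _ (Ideal.mem_span_singleton_self x)))
      (Ideal.mem_sup_left (Ideal.mul_mem_left I' _ ha))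
  · exact h₃ (hab ▸ I'.add_mem ha (h₁ (Ideal.mul_mem_mul ((mem_maximalIdeal c).2 hc) hy)))

theorem mem_maximalIdeal_mul (I J : Ideal A) (hIJ : I ≤ J) (hJ : J ≠ ⊤) [Algebra (A ⧸ I) (A ⧸ J)]
    [IsScalarTower A (A ⧸ I) (A ⧸ J)] (hfd : DRing.HasFiniteTorDim (A ⧸ I) (A ⧸ J)) {x : A}
    (hx : x ∈ I) (hxm : x ∈ maximalIdeal A * J) : x ∈ maximalIdeal A * I := by
  classical
  by_contra hxI
  obtain ⟨I', h₁, h₂, h₃, h₄⟩ := exists_hyperplane I hx hxI
  obtain ⟨r, a, b, ha, hb, hab⟩ := exists_sum_of_mem_mul hxm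
  obtain ⟨t, ht⟩ := IsNoetherian.noetherian J
  let b' : Fin (r + t.card) → A := Fin.append b fun i => (t.equivFin.symm i).1
  let a' : Fin (r + t.card) → A := Fin.append a fun _ => 0
  have hb'mem : ∀ j, b' j ∈ J := Fin.addCases (by simpa [b'] using hb) fun i => by
    simp only [b', Fin.append_right, ← ht]
    exact Submodule.subset_span (t.equivFin.symm i).2
  have hb' : Ideal.span (Set.range b') = J := by
    refine le_antisymm (Ideal.span_le.2 (Set.range_subset_iff.2 hb'mem)) ?_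
    rw [← ht]
    exact Ideal.span_mono fun y hy => ⟨Fin.natAdd r (t.equivFin ⟨y, hy⟩), by simp [b']⟩
  have hsum : ∑ j, a' j * b' j = x := by simp [a', b', Fin.sum_univ_add, hab]
  have ha' : ∀ j, a' j ∈ maximalIdeal A := Fin.addCases (by simpa [a'] using ha) (by simp [a'])
  let π : A ⧸ I' →+* A ⧸ I := Ideal.Quotient.factor h₂
  have hker : RingHom.ker π = Ideal.span {Ideal.Quotient.mk I' x} := by
    rw [Ideal.Quotient.factor_ker h₂, ← h₄, Ideal.map_sup, Ideal.map_quotient_self, bot_sup_eq,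
      Ideal.map_span, Set.image_singleton]
  have hxJ : x ∈ maximalIdeal A := le_maximalIdeal hJ (hIJ hx)
  have hmul : ∀ c ∈ maximalIdeal A, Ideal.Quotient.mk I' c * Ideal.Quotient.mk I' x = 0 := fun c hc => by
    rw [← map_mul, Ideal.Quotient.eq_zero_iff_mem]
    exact h₁ (Ideal.mul_mem_mul hc hx)
  let C₀ := fun (R : Type u) [CommRing R] => (MvPolynomial.C : R →+* MvPolynomial (Fin 0) R)
  refine S6532.result π (Ideal.Quotient.factor_surjective h₂) (Ideal.Quotient.mk I' x) hker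
    (hmul x hxJ) (n := 0) (fun j => C₀ _ (Ideal.Quotient.mk I (b' j)))
    (fun j => C₀ _ (Ideal.Quotient.mk I (a' j))) ?_ (fun j d => ?_)
    (fun j => C₀ _ (Ideal.Quotient.mk I' (a' j))) (fun j => C₀ _ (Ideal.Quotient.mk I' (b' j))) 1
    (fun j => by simp [C₀, π]) (fun j => by simp [C₀, π]) ?_ ?_ ?_
  · simp only [C₀, ← map_mul, ← map_sum, hsum, (Ideal.Quotient.eq_zero_iff_mem).2 hx, map_zero]
  · rw [MvPolynomial.coeff_C]
    split_ifs
    · exact Ideal.mem_map_of_mem π (x := Ideal.Quotient.mk I' (a' j))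
        (Submodule.mem_annihilator_span_singleton _ _ |>.2 (hmul _ (ha' j)))
    · exact zero_mem _
  · simp only [C₀, ← map_mul, ← map_sum, hsum, mul_one]
  · rw [map_one, map_one]
    have : Nontrivial (MvPolynomial (Fin 0) (A ⧸ I) ⧸ (Ideal.span (Set.range fun j =>
        C₀ _ (Ideal.Quotient.mk I (b' j))) ⊔ (((Ideal.span {Ideal.Quotient.mk I' x}).annihilator).map
        π).map MvPolynomial.C)) := by
      rw [Ideal.Quotient.nontrivial_iff]
      intro htop
      let φ : MvPolynomial (Fin 0) (A ⧸ I) →+* ResidueField A :=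
        MvPolynomial.eval₂Hom (Ideal.Quotient.lift I (residue A) fun c hc =>
          (residue_eq_zero_iff c).2 (le_maximalIdeal hJ (hIJ hc))) Fin.elim0
      have hφ : ∀ c, φ (C₀ _ (Ideal.Quotient.mk I c)) = residue A c := fun c => by
        simp [φ, C₀]
      have hle : (⊤ : Ideal (MvPolynomial (Fin 0) (A ⧸ I))) ≤ RingHom.ker φ := by
        rw [← htop, sup_le_iff, Ideal.span_le, Set.range_subset_iff, Ideal.map_le_iff_le_comap,
          Ideal.map_le_iff_le_comap]
        refine ⟨fun j => ?_, fun z hz => ?_⟩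
        · show φ _ = 0
          rw [hφ, residue_eq_zero_iff]
          exact le_maximalIdeal hJ (hb'mem j)
        · obtain ⟨z, rfl⟩ := Ideal.Quotient.mk_surjective z
          show φ (C₀ _ (π (Ideal.Quotient.mk I' z))) = 0
          rw [show π (Ideal.Quotient.mk I' z) = Ideal.Quotient.mk I z from rfl, hφ, residue_eq_zero_iff]
          rw [Submodule.mem_annihilator_span_singleton, smul_eq_mul, ← map_mul,
            Ideal.Quotient.eq_zero_iff_mem] at hz
          by_contra hu
          rw [mem_maximalIdeal, mem_nonunits_iff, not_not] at hu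
          exact h₃ ((Ideal.unit_mul_mem_iff_mem I' hu).1 hz)
      exact one_ne_zero ((φ.map_one).symm.trans (hle (x := 1) trivial))
    exact not_isNilpotent_one
  · let ψ : MvPolynomial (Fin 0) (A ⧸ I) →ₐ[A ⧸ I] A ⧸ J :=
      MvPolynomial.aeval fun i => i.elim0
    have hmk : ∀ c : A, ψ (C₀ _ (Ideal.Quotient.mk I c)) = Ideal.Quotient.mk J c := fun c => by
      simp only [C₀, ψ, MvPolynomial.aeval_C]
      exact (IsScalarTower.algebraMap_apply A (A ⧸ I) (A ⧸ J) c).symm
    have hψ : Function.Surjective ψ := fun z => by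
      obtain ⟨c, rfl⟩ := Ideal.Quotient.mk_surjective z
      exact ⟨_, hmk c⟩
    have hkψ : RingHom.ker ψ = Ideal.span (Set.range fun j => C₀ _ (Ideal.Quotient.mk I (b' j))) := by
      refine le_antisymm (fun z hz => ?_) (Ideal.span_le.2 (Set.range_subset_iff.2 fun j => ?_))
      · obtain ⟨z, rfl⟩ := MvPolynomial.C_surjective (Fin 0) z
        obtain ⟨c, rfl⟩ := Ideal.Quotient.mk_surjective z
        have hcJ : c ∈ J := Ideal.Quotient.eq_zero_iff_mem.1 ((hmk c).symm.trans hz)
        rw [← hb'] at hcJ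
        have := Ideal.mem_map_of_mem ((C₀ (A ⧸ I)).comp (Ideal.Quotient.mk I)) hcJ
        rwa [Ideal.map_span, ← Set.range_comp] at this
      · exact (hmk _).trans (Ideal.Quotient.eq_zero_iff_mem.2 (hb'mem j))
    exact hasFiniteTorDim_of_equiv
      (((Ideal.quotientKerAlgEquivOfSurjective hψ).symm.trans
        (Ideal.quotientEquivAlgOfEq _ hkψ)).toLinearEquiv) hfd

end Groth.Agent.CAlgH.TorDimInjective
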