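import Groth.Agent.CAlgH.FibrePd
import Groth.Agent.CAlgH.RegularIdealQuotient
import Groth.Agent.CAlgH.TorDimInjective
import Groth.Agent.CAlgH.ConormalRegular
import Groth.Agent.CommAlg6.FibreLocal
import Groth.Agent.CAlgH3.ProjDim
import Groth.Agent.InvLib.InvariantsCM

/-!
# Regular ideals along a flat presentation (Avramov)
-/

universe u

set_option autoImplicit false

open IsLocalRing RingTheory.Sequence TensorProduct

namespace Groth.Agent.CAlgH.Avramov

open RegularIdealLocal

/-! ### Projective dimension over a flat algebra with regular fibre -/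

attribute [local instance] Algebra.TensorProduct.rightAlgebra in
theorem hasFiniteTorDim_of_regular_fibre {A T : Type u} [CommRing A] [IsLocalRing A] [CommRing T]
    [IsLocalRing T] [IsNoetherianRing T] [Algebra A T] [Module.Flat A T]
    [IsRegularLocalRing (T ⧸ (maximalIdeal A).map (algebraMap A T))]
    (M : Type u) [AddCommGroup M] [Module T M] [Module A M] [IsScalarTower A T M] [Module.Finite T M]
    [Module.Flat A M] : DRing.HasFiniteTorDim T M := by
  let k := A ⧸ maximalIdeal A
  let D := T ⊗[A] k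
  let e : (T ⧸ (maximalIdeal A).map (algebraMap A T)) ≃ₐ[T] D :=
    Algebra.TensorProduct.quotIdealMapEquivTensorQuot T (maximalIdeal A)
  have hD : IsRegularLocalRing D := IsRegularLocalRing.of_ringEquiv e.toRingEquiv
  have hTD : Function.Surjective (algebraMap T D) := fun x => by
    obtain ⟨y, rfl⟩ := e.surjective x
    obtain ⟨t, rfl⟩ := Ideal.Quotient.mk_surjective y
    exact ⟨t, (e.commutes t).symm⟩
  have : Algebra.IsPushout A k T D := Algebra.IsPushout.symm inferInstance
  exact FibrePd.hasFiniteTorDim_of_pd (FibrePd.pd_of_fibre (A := A) (k := k) hTD _ M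
    (CAlgH3.pd_all (R := D) (D ⊗[T] M)))

/-! ### Two consequences of flatness -/

/-- If `S/J` is flat over `R/I`, then `J ∩ m_R S ⊆ IS + m_R J`. -/
theorem mem_sup_of_flat {R S A B : Type u} [CommRing R] [CommRing S] [CommRing A] [CommRing B]
    [IsLocalRing R] [Algebra R S] [Algebra R A] [Algebra S B] [Algebra A B] [Algebra R B]
    [IsScalarTower R A B] [IsScalarTower R S B] [Module.Flat A B]
    (hA : Function.Surjective (algebraMap R A)) (hB : Function.Surjective (algebraMap S B)) {x : S}
    (hx : x ∈ RingHom.ker (algebraMap S B)) (hxm : x ∈ (maximalIdeal R).map (algebraMap R S)) :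
    x ∈ (RingHom.ker (algebraMap R A)).map (algebraMap R S) ⊔
      (maximalIdeal R).map (algebraMap R S) * RingHom.ker (algebraMap S B) := by
  obtain ⟨n, r, hrspan⟩ : ∃ (n : ℕ) (r : Fin n → R), (∀ i, r i ∈ maximalIdeal R) ∧
      ∃ s : Fin n → S, ∑ i, algebraMap R S (r i) * s i = x := by
    refine Submodule.span_induction (p := fun x _ => ∃ (n : ℕ) (r : Fin n → R),
      (∀ i, r i ∈ maximalIdeal R) ∧ ∃ s : Fin n → S, ∑ i, algebraMap R S (r i) * s i = x)
      ?_ ?_ ?_ ?_ hxm
    · rintro _ ⟨m, hm, rfl⟩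
      exact ⟨1, fun _ => m, fun _ => hm, fun _ => 1, by simp⟩
    · exact ⟨0, Fin.elim0, fun i => i.elim0, Fin.elim0, by simp⟩
    · rintro y z - - ⟨a, ra, hra, sa, rfl⟩ ⟨b, rb, hrb, sb, rfl⟩
      exact ⟨a + b, Fin.append ra rb, Fin.addCases (by simpa using hra) (by simpa using hrb),
        Fin.append sa sb, by simp [Fin.sum_univ_add]⟩
    · rintro c y - ⟨a, ra, hra, sa, rfl⟩
      exact ⟨a, ra, hra, fun i => c * sa i, by simp [Finset.mul_sum, mul_left_comm]⟩
  obtain ⟨hr, s, rfl⟩ := hrspan
  have hrel : ∑ i, algebraMap R A (r i) • algebraMap S B (s i) = 0 := by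
    rw [← show algebraMap S B (∑ i, algebraMap R S (r i) * s i) = 0 from hx, map_sum]
    refine Finset.sum_congr rfl fun i _ => ?_
    rw [Algebra.smul_def, ← IsScalarTower.algebraMap_apply R A B, map_mul,
      ← IsScalarTower.algebraMap_apply R S B]
  obtain ⟨k, a, y, hy, ha⟩ := Module.Flat.isTrivialRelation_of_sum_smul_eq_zero (R := A) (M := B) hrel
  simp only at hy ha
  choose α hα using fun i j => hA (a i j)
  choose t ht using fun j => hB (y j)
  have he : ∀ i, s i - ∑ j, algebraMap R S (α i j) * t j ∈ RingHom.ker (algebraMap S B) := fun i => by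
    rw [RingHom.mem_ker, map_sub, sub_eq_zero, hy i, map_sum]
    refine Finset.sum_congr rfl fun j _ => ?_
    rw [Algebra.smul_def, ← hα, ← IsScalarTower.algebraMap_apply R A B, map_mul,
      ← IsScalarTower.algebraMap_apply R S B, ht]
  have hsplit : ∑ i, algebraMap R S (r i) * s i =
      ∑ j, algebraMap R S (∑ i, r i * α i j) * t j +
        ∑ i, algebraMap R S (r i) * (s i - ∑ j, algebraMap R S (α i j) * t j) := by
    simp only [mul_sub, Finset.sum_sub_distrib, map_sum, map_mul, Finset.sum_mul, Finset.mul_sum,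
      mul_assoc]
    rw [Finset.sum_comm]
    ring
  rw [hsplit]
  refine add_mem (Submodule.mem_sup_left (sum_mem fun j _ => Ideal.mul_mem_right _ _
    (Ideal.mem_map_of_mem _ ?_))) (Submodule.mem_sup_right (sum_mem fun i _ =>
      Ideal.mul_mem_mul (Ideal.mem_map_of_mem _ (hr i)) (he i)))
  rw [RingHom.mem_ker, map_sum, ← ha j]
  simp [hα]

/-- Minimal generators stay minimal under flat local base change. -/
theorem indepMod_map {R S : Type u} [CommRing R] [CommRing S] [IsLocalRing R] [IsLocalRing S]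
    [Algebra R S] [IsLocalHom (algebraMap R S)] [Module.Flat R S] {I : Ideal R} {c : ℕ} {x : Fin c → R}
    (hxI : Ideal.span (Set.range x) = I) (hx : IndepMod I x) :
    IndepMod (I.map (algebraMap R S)) (algebraMap R S ∘ x) := by
  intro a ha
  rw [← hxI, Ideal.map_span, ← Set.range_comp] at ha
  obtain ⟨e, he, hesum⟩ := exists_sum_of_mem_mul_span ha
  have hrel : ∑ i, x i • (a i - e i) = 0 := by
    simp only [Algebra.smul_def, mul_sub, Finset.sum_sub_distrib]
    rw [sub_eq_zero]
    simp only [mul_comm (algebraMap R S (x _))]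
    exact hesum.symm
  obtain ⟨k, α, y, hy, hα⟩ := Module.Flat.isTrivialRelation_of_sum_smul_eq_zero (R := R) (M := S) hrel
  simp only at hy
  intro i
  have hmem : a i - e i ∈ maximalIdeal S := by
    rw [hy i]
    refine sum_mem fun j _ => ?_
    rw [Algebra.smul_def]
    refine Ideal.mul_mem_right _ _ (map_nonunit _ _ (hx (fun i => α i j) ?_ i))
    simp only [mul_comm (α _ j), hα j]
    exact zero_mem _
  simpa using add_mem hmem (he i)

/-- Descent of regular sequences along faithfully flat maps. -/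
theorem isWeaklyRegular_of_faithfullyFlat {R S : Type u} [CommRing R] [CommRing S] [Algebra R S]
    [Module.FaithfullyFlat R S] {rs : List R}
    (h : IsWeaklyRegular S (rs.map (algebraMap R S))) : IsWeaklyRegular R rs := by
  refine ⟨fun i hi => ?_⟩
  rw [isSMulRegular_quotient_iff_mem_of_smul_mem]
  intro x hx
  simp only [smul_eq_mul, Ideal.mul_top] at hx ⊢
  have h2 := h.regular_mod_prev i (by simpa using hi)
  rw [isSMulRegular_quotient_iff_mem_of_smul_mem] at h2
  have h3 := h2 (algebraMap R _ x) (by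
    simp only [List.getElem_map, ← List.map_take, ← Ideal.map_ofList, smul_eq_mul, Ideal.mul_top,
      ← map_mul]
    exact Ideal.mem_map_of_mem _ hx)
  simp only [← List.map_take, ← Ideal.map_ofList, smul_eq_mul, Ideal.mul_top] at h3
  rwa [← Ideal.mem_comap, Ideal.comap_map_eq_self_of_faithfullyFlat] at h3

/-- A family of the expected length generating an ideal of a regular local ring is regular. -/
theorem isRegular_of_dim {S : Type u} [CommRing S] [IsRegularLocalRing S] {xs : List S}
    (hm : ∀ x ∈ xs, x ∈ maximalIdeal S)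
    (h : ringKrullDim (S ⧸ Ideal.ofList xs) + (xs.length : WithBot ℕ∞) ≤ ringKrullDim S) :
    IsRegular S xs := by
  have hCM : LocCoh.IsCohenMacaulayModule S S := by
    show Module.supportDim S S = _
    rw [Module.supportDim_self_eq_ringKrullDim]
    exact (CAlgH3.depth_eq_ringKrullDim (R := S)).symm
  refine isRegular_of_mem ((EGA41Lib.cm_regular_sequence xs S hCM hm).2 ?_) hm
  rwa [show (Ideal.ofList xs • (⊤ : Submodule S S)) = Ideal.ofList xs by rw [smul_eq_mul, Ideal.mul_top],
    Module.supportDim_quotient_eq_ringKrullDim, Module.supportDim_self_eq_ringKrullDim]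

/-! ### The core -/

section Core

variable {R S A B : Type u} [CommRing R] [CommRing S] [CommRing A] [CommRing B]
  [IsRegularLocalRing R] [IsRegularLocalRing S] [IsLocalRing A] [IsLocalRing B]
  [Algebra R S] [IsLocalHom (algebraMap R S)] [Module.Flat R S]
  [Algebra R A] [Algebra S B] [Algebra A B] [IsLocalHom (algebraMap A B)] [Module.Flat A B]
  [Algebra R B] [IsScalarTower R A B] [IsScalarTower R S B]
  [IsRegularLocalRing (S ⧸ (maximalIdeal R).map (algebraMap R S))]

theorem ker_map_le : (RingHom.ker (algebraMap R A)).map (algebraMap R S) ≤ RingHom.ker (algebraMap S B) := by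
  rw [Ideal.map_le_iff_le_comap]
  intro x hx
  rw [Ideal.mem_comap, RingHom.mem_ker, ← IsScalarTower.algebraMap_apply R S B,
    IsScalarTower.algebraMap_apply R A B, show algebraMap R A x = 0 from hx, map_zero]

theorem hasFiniteTorDim_quotient (hA : Function.Surjective (algebraMap R A))
    (hB : Function.Surjective (algebraMap S B)) {I : Ideal R} (hIA : RingHom.ker (algebraMap R A) = I)
    [Algebra (S ⧸ I.map (algebraMap R S)) B] [IsScalarTower S (S ⧸ I.map (algebraMap R S)) B] :
    DRing.HasFiniteTorDim (S ⧸ I.map (algebraMap R S)) B := by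
  have hne : I ≠ ⊤ := hIA ▸ RingHom.ker_ne_top _
  have hI : I ≤ maximalIdeal R := le_maximalIdeal hne
  have hIS : I.map (algebraMap R S) ≤ maximalIdeal S :=
    (Ideal.map_mono hI).trans (((local_hom_TFAE (algebraMap R S)).out 0 2).1 ‹_›)
  have : Nontrivial (R ⧸ I) := Ideal.Quotient.nontrivial_iff.2 hne
  have : IsLocalRing (R ⧸ I) := .of_surjective' _ Ideal.Quotient.mk_surjective
  have : Nontrivial (S ⧸ I.map (algebraMap R S)) := Ideal.Quotient.nontrivial_iff.2
    (ne_top_of_le_ne_top (maximalIdeal.isMaximal S).ne_top hIS)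
  have : IsLocalRing (S ⧸ I.map (algebraMap R S)) := .of_surjective' _ Ideal.Quotient.mk_surjective
  have : Module.Flat (R ⧸ I) (S ⧸ I.map (algebraMap R S)) :=
    Module.Flat.of_linearEquiv (Algebra.TensorProduct.quotIdealMapEquivQuotTensor S I).toLinearEquiv
  let eA : (R ⧸ I) ≃+* A := (Ideal.quotEquivOfEq hIA.symm).trans (RingHom.quotientKerEquivOfSurjective hA)
  letI : Algebra (R ⧸ I) B := ((algebraMap A B).comp eA.toRingHom).toAlgebra
  have : IsScalarTower (R ⧸ I) (S ⧸ I.map (algebraMap R S)) B := .of_algebraMap_eq' <| by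
    refine Ideal.Quotient.ringHom_ext (RingHom.ext fun x => ?_)
    show algebraMap A B (algebraMap R A x) = algebraMap (S ⧸ I.map (algebraMap R S)) B
      (algebraMap S (S ⧸ I.map (algebraMap R S)) (algebraMap R S x))
    rw [← IsScalarTower.algebraMap_apply R A B, ← IsScalarTower.algebraMap_apply S _ B,
      ← IsScalarTower.algebraMap_apply R S B]
  have : Module.Flat (R ⧸ I) B :=
    RingHom.Flat.comp (f := eA.toRingHom) (g := algebraMap A B) (.of_bijective eA.bijective) (RingHom.flat_algebraMap_iff.2 inferInstance)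
  have : Module.Finite (S ⧸ I.map (algebraMap R S)) B := by
    refine Module.Finite.of_surjective (Algebra.linearMap (S ⧸ I.map (algebraMap R S)) B) fun b => ?_
    obtain ⟨s, rfl⟩ := hB b
    exact ⟨algebraMap S _ s, (IsScalarTower.algebraMap_apply S _ B s).symm⟩
  have hm : maximalIdeal (R ⧸ I) = (maximalIdeal R).map (Ideal.Quotient.mk I) :=
    (IsLocalRing.map_maximalIdeal_of_surjective _ Ideal.Quotient.mk_surjective).symm
  have hmap : (maximalIdeal (R ⧸ I)).map (algebraMap (R ⧸ I) (S ⧸ I.map (algebraMap R S))) =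
      ((maximalIdeal R).map (algebraMap R S)).map (Ideal.Quotient.mk _) := by
    rw [hm, Ideal.map_map, Ideal.map_map]
    rfl
  let e : (S ⧸ (maximalIdeal R).map (algebraMap R S)) ≃+*
      ((S ⧸ I.map (algebraMap R S)) ⧸
        (maximalIdeal (R ⧸ I)).map (algebraMap (R ⧸ I) (S ⧸ I.map (algebraMap R S)))) :=
    (((Ideal.quotEquivOfEq hmap).trans ((DoubleQuot.quotQuotEquivQuotSup _ _).trans
      (Ideal.quotEquivOfEq (sup_eq_right.2 (Ideal.map_mono hI)))))).symm
  have := IsRegularLocalRing.of_ringEquiv e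
  exact hasFiniteTorDim_of_regular_fibre (A := R ⧸ I) B

variable (S) in
theorem fibre_equiv (hB : Function.Surjective (algebraMap S B)) (hA : Function.Surjective (algebraMap R A)) :
    Nonempty (((S ⧸ (maximalIdeal R).map (algebraMap R S)) ⧸
      (RingHom.ker (algebraMap S B)).map (Ideal.Quotient.mk ((maximalIdeal R).map (algebraMap R S)))) ≃+*
        (B ⧸ (maximalIdeal A).map (algebraMap A B))) := by
  let p : S →+* B ⧸ (maximalIdeal A).map (algebraMap A B) := (Ideal.Quotient.mk _).comp (algebraMap S B)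
  have hp : Function.Surjective p := Ideal.Quotient.mk_surjective.comp hB
  have hk : RingHom.ker p = (maximalIdeal R).map (algebraMap R S) ⊔ RingHom.ker (algebraMap S B) := by
    have : (maximalIdeal A).map (algebraMap A B) =
        ((maximalIdeal R).map (algebraMap R S)).map (algebraMap S B) := by
      rw [← IsLocalRing.map_maximalIdeal_of_surjective _ hA, Ideal.map_map, Ideal.map_map,
        ← IsScalarTower.algebraMap_eq, ← IsScalarTower.algebraMap_eq]
    rw [show RingHom.ker p = ((maximalIdeal A).map (algebraMap A B)).comap (algebraMap S B) by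
      rw [← RingHom.comap_ker, Ideal.mk_ker], this, Ideal.comap_map_of_surjective' _ hB]
  exact ⟨(DoubleQuot.quotQuotEquivQuotSup _ _).trans
    ((Ideal.quotEquivOfEq hk.symm).trans (RingHom.quotientKerEquivOfSurjective hp))⟩

/-- Avramov's theorem at the level of regular presentations. -/
theorem isRegularIdeal_ker_iff [IsNoetherianRing A] [IsNoetherianRing B]
    (hA : Function.Surjective (algebraMap R A)) (hB : Function.Surjective (algebraMap S B)) :
    CInt.IsRegularIdeal (RingHom.ker (algebraMap S B)) ↔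
      CInt.IsRegularIdeal (RingHom.ker (algebraMap R A)) ∧
        CInt.IsRegularIdeal ((RingHom.ker (algebraMap S B)).map
          (Ideal.Quotient.mk ((maximalIdeal R).map (algebraMap R S)))) := by
  set I := RingHom.ker (algebraMap R A) with hIdef
  set J := RingHom.ker (algebraMap S B) with hJdef
  set mS := (maximalIdeal R).map (algebraMap R S)
  have hI : I ≤ maximalIdeal R := le_maximalIdeal (RingHom.ker_ne_top _)
  have hJ : J ≤ maximalIdeal S := le_maximalIdeal (RingHom.ker_ne_top _)
  have hmS : mS ≤ maximalIdeal S := ((local_hom_TFAE (algebraMap R S)).out 0 2).1 ‹_›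
  have hIJ : I.map (algebraMap R S) ≤ J := ker_map_le
  have : IsLocalHom (Ideal.Quotient.mk mS) := .of_surjective _ Ideal.Quotient.mk_surjective
  have : IsLocalHom (algebraMap S B) := .of_surjective _ hB
  obtain ⟨eF⟩ := fibre_equiv (R := R) (A := A) (B := B) S hB hA
  let eA : (R ⧸ I) ≃+* A := RingHom.quotientKerEquivOfSurjective hA
  let eB : (S ⧸ J) ≃+* B := RingHom.quotientKerEquivOfSurjective hB
  have hdS := CommAlg6.ringKrullDim_eq_add_fibre (A := R) (B := S)
  have hdB := CommAlg6.ringKrullDim_eq_add_fibre (A := A) (B := B)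
  have : Nontrivial (B ⧸ (maximalIdeal A).map (algebraMap A B)) := Ideal.Quotient.nontrivial_iff.2
    (ne_top_of_le_ne_top (maximalIdeal.isMaximal B).ne_top
      (((local_hom_TFAE (algebraMap A B)).out 0 2).1 ‹_›))
  have : IsLocalRing (B ⧸ (maximalIdeal A).map (algebraMap A B)) :=
    .of_surjective' _ Ideal.Quotient.mk_surjective
  obtain ⟨nR, hnR⟩ := InvLib.exists_natCast_ringKrullDim (S := R)
  obtain ⟨nS, hnS⟩ := InvLib.exists_natCast_ringKrullDim (S := S)
  obtain ⟨nD, hnD⟩ := InvLib.exists_natCast_ringKrullDim (S := S ⧸ mS)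
  obtain ⟨nA, hnA⟩ := InvLib.exists_natCast_ringKrullDim (S := A)
  obtain ⟨nB, hnB⟩ := InvLib.exists_natCast_ringKrullDim (S := B)
  obtain ⟨nF, hnF⟩ := InvLib.exists_natCast_ringKrullDim (S := B ⧸ (maximalIdeal A).map (algebraMap A B))
  rw [hnR, hnS, hnD] at hdS
  rw [hnA, hnB, hnF] at hdB
  norm_cast at hdS hdB
  constructor
  · intro hJreg
    letI algT : Algebra (S ⧸ I.map (algebraMap R S)) (S ⧸ J) := (Ideal.Quotient.factor hIJ).toAlgebra
    have : IsScalarTower S (S ⧸ I.map (algebraMap R S)) (S ⧸ J) := .of_algebraMap_eq fun _ => rfl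
    letI : Algebra (S ⧸ I.map (algebraMap R S)) B :=
      (eB.toRingHom.comp (Ideal.Quotient.factor hIJ)).toAlgebra
    have : IsScalarTower S (S ⧸ I.map (algebraMap R S)) B := .of_algebraMap_eq fun _ => rfl
    let eL : B ≃ₗ[S ⧸ I.map (algebraMap R S)] (S ⧸ J) :=
      { eB.symm.toAddEquiv with
        map_smul' := fun c b => by
          show eB.symm (eB (Ideal.Quotient.factor hIJ c) * b) = Ideal.Quotient.factor hIJ c * eB.symm b
          rw [map_mul, RingEquiv.symm_apply_apply] }
    have hfd := TorDimInjective.hasFiniteTorDim_of_equiv eL (hasFiniteTorDim_quotient (A := A) hA hB hIdef.symm)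
    have hJne : J ≠ ⊤ := RingHom.ker_ne_top _
    have hinj : ∀ x ∈ I.map (algebraMap R S), x ∈ maximalIdeal S * J →
        x ∈ maximalIdeal S * I.map (algebraMap R S) := fun x hx hxm =>
      TorDimInjective.mem_maximalIdeal_mul _ J hIJ hJne hfd hx hxm
    obtain ⟨js, hjs, hjsJ⟩ := hJreg
    obtain ⟨⟨is, hisI, his⟩, -⟩ := regular_sub_and_quotient _ J hIJ hJne ⟨js, hjsJ, hjs⟩ hinj
    obtain ⟨a, x, hxI, hx⟩ := exists_minimal I
    have hxm : ∀ i, x i ∈ maximalIdeal R := fun i => hI (hxI ▸ Ideal.subset_span ⟨i, rfl⟩)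
    have hxS : Ideal.span (Set.range (algebraMap R S ∘ x)) = I.map (algebraMap R S) := by
      rw [← hxI, Ideal.map_span, Set.range_comp]
    have hxind := indepMod_map (S := S) hxI hx
    have hxwr := isWeaklyRegular_of_indepMod (hIJ.trans hJ) his.toIsWeaklyRegular hisI hxS hxind
    have : Module.FaithfullyFlat R S := Module.FaithfullyFlat.of_flat_of_isLocalHom
    have hxreg : IsRegular R (List.ofFn x) := isRegular_of_mem
      (isWeaklyRegular_of_faithfullyFlat (S := S) (by rwa [List.map_ofFn]))
      (by simpa [List.mem_ofFn] using hxm)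
    refine ⟨⟨_, hxreg, by rw [ofList_ofFn, hxI]⟩, ?_⟩
    have hxJ : IndepMod J (algebraMap R S ∘ x) := fun c hc => hxind c
      (hinj _ (sum_mem fun i _ => Ideal.mul_mem_left _ _ (hxS ▸ Ideal.subset_span ⟨i, rfl⟩)) hc)
    obtain ⟨b, z, hzJ, hz⟩ := exists_extension (fun i => hIJ (hxS ▸ Ideal.subset_span ⟨i, rfl⟩)) hxJ
    have hJwr := isWeaklyRegular_of_indepMod hJ hjs.toIsWeaklyRegular hjsJ hzJ hz
    have hJl : Ideal.ofList (List.ofFn (Fin.append (algebraMap R S ∘ x) z)) = J := by
      rw [ofList_ofFn, hzJ]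
    have hzm : ∀ j, z j ∈ J := fun j => hzJ ▸ Ideal.subset_span ⟨Fin.natAdd a j, by simp⟩
    have hall : ∀ y ∈ List.ofFn (Fin.append (algebraMap R S ∘ x) z), y ∈ maximalIdeal S :=
      fun y hy => hJ (hJl ▸ Ideal.subset_span hy)
    have e1 := ringKrullDim_add_length_eq_ringKrullDim_of_isRegular _ (isRegular_of_mem hJwr hall)
    have e2 := ringKrullDim_add_length_eq_ringKrullDim_of_isRegular _ hxreg
    rw [ringKrullDim_eq_of_ringEquiv ((Ideal.quotEquivOfEq hJl).trans eB), List.length_ofFn, hnB, hnS] at e1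
    rw [ringKrullDim_eq_of_ringEquiv ((Ideal.quotEquivOfEq ((ofList_ofFn x).trans hxI)).trans eA),
      List.length_ofFn, hnA, hnR] at e2
    norm_cast at e1 e2
    have hJD : J.map (Ideal.Quotient.mk mS) = Ideal.ofList ((List.ofFn z).map (Ideal.Quotient.mk mS)) := by
      rw [← hJl, List.ofFn_fin_append, Ideal.ofList_append, Ideal.map_sup, ← Ideal.map_ofList,
        sup_eq_right]
      rw [ofList_ofFn, hxS]
      refine le_trans (le_of_eq ?_) bot_le
      rw [Ideal.map_eq_bot_iff_le_ker, Ideal.mk_ker]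
      exact Ideal.map_mono hI
    refine ⟨_, isRegular_of_dim (S := S ⧸ mS) ?_ ?_, hJD.symm⟩
    · intro y hy
      simp only [List.mem_map, List.mem_ofFn] at hy
      obtain ⟨_, ⟨j, rfl⟩, rfl⟩ := hy
      exact map_nonunit _ _ (hJ (hzm j))
    · rw [ringKrullDim_eq_of_ringEquiv ((Ideal.quotEquivOfEq hJD.symm).trans eF), List.length_map,
        List.length_ofFn, hnF, hnD]
      norm_cast
      omega
  · rintro ⟨⟨is, his, hisI⟩, bs, hbs, hbsJ⟩
    have hlift : ∀ y ∈ bs, ∃ z ∈ J, Ideal.Quotient.mk mS z = y := fun y hy =>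
      (Ideal.mem_map_iff_of_surjective _ Ideal.Quotient.mk_surjective).1 (hbsJ ▸ Ideal.subset_span hy)
    choose g hgJ hg using hlift
    let zs : List S := bs.pmap g fun _ h => h
    have hzs : zs.map (Ideal.Quotient.mk mS) = bs := by
      simp [zs, List.map_pmap, hg]
    have hzsJ : Ideal.ofList zs ≤ J := Ideal.span_le.2 fun y hy => by
      obtain ⟨w, hw, rfl⟩ := List.mem_pmap.1 hy
      exact hgJ _ _
    have hgen : J ≤ Ideal.ofList (is.map (algebraMap R S) ++ zs) := by
      refine Submodule.le_of_le_smul_of_le_jacobson_bot (IsNoetherian.noetherian J)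
        (hmS.trans (maximalIdeal_le_jacobson _)) fun y hy => ?_
      have hy' : Ideal.Quotient.mk mS y ∈ (Ideal.ofList zs).map (Ideal.Quotient.mk mS) := by
        rw [Ideal.map_ofList, hzs, hbsJ]; exact Ideal.mem_map_of_mem _ hy
      obtain ⟨w, hw, hwy⟩ := (Ideal.mem_map_iff_of_surjective _ Ideal.Quotient.mk_surjective).1 hy'
      have hd := mem_sup_of_flat hA hB (sub_mem hy (hzsJ hw)) (Ideal.Quotient.eq.1 hwy.symm)
      rw [Ideal.ofList_append, ← Ideal.map_ofList, hisI]
      obtain ⟨u, hu, v, hv, huv⟩ := Submodule.mem_sup.1 hd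
      rw [show y = (u + w) + v by rw [add_right_comm, huv, sub_add_cancel]]
      refine add_mem (Submodule.mem_sup_left (add_mem (Submodule.mem_sup_left hu)
        (Submodule.mem_sup_right hw))) (Submodule.mem_sup_right hv)
    have hJl : Ideal.ofList (is.map (algebraMap R S) ++ zs) = J := by
      refine le_antisymm ?_ hgen
      rw [Ideal.ofList_append, ← Ideal.map_ofList, hisI]
      exact sup_le hIJ hzsJ
    refine ⟨_, isRegular_of_dim (fun y hy => hJ (hJl ▸ Ideal.subset_span hy)) ?_, hJl⟩
    have e2 := ringKrullDim_add_length_eq_ringKrullDim_of_isRegular _ his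
    have e3 := ringKrullDim_add_length_eq_ringKrullDim_of_isRegular _ hbs
    rw [ringKrullDim_eq_of_ringEquiv ((Ideal.quotEquivOfEq hisI).trans eA), hnA, hnR] at e2
    rw [ringKrullDim_eq_of_ringEquiv ((Ideal.quotEquivOfEq hbsJ).trans eF), hnF, hnD] at e3
    rw [ringKrullDim_eq_of_ringEquiv ((Ideal.quotEquivOfEq hJl).trans eB), hnB, hnS, List.length_append,
      List.length_map, List.length_pmap]
    norm_cast at e2 e3 ⊢
    omega

end Core

end Groth.Agent.CAlgH.Avramov
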