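import Mathlib.RingTheory.LocalRing.Pullback
import Mathlib.RingTheory.AdicCompletion.Basic
import Mathlib.RingTheory.Filtration
import Mathlib.RingTheory.Noetherian.Basic
import Mathlib.RingTheory.LocalRing.RingHom.Basic
import Mathlib.Algebra.Ring.Subring.Basic
import Mathlib.RingTheory.Finiteness.Prod

/-!
# Fibre products of Noetherian (complete) local rings
-/

universe u

set_option autoImplicit false

open IsLocalRing

namespace Groth.Agent.CAlgH.FibreProduct

variable {A E F : Type u} [CommRing A] [CommRing E] [CommRing F] (f : E →+* A) (g : F →+* A)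

/-- The first projection. -/
def fst : ↥(f.pullback g) →+* E := (RingHom.fst E F).comp (f.pullback g).subtype

/-- The second projection. -/
def snd : ↥(f.pullback g) →+* F := (RingHom.snd E F).comp (f.pullback g).subtype

theorem condition (x : ↥(f.pullback g)) : f (fst f g x) = g (snd f g x) := x.2

theorem fst_surjective (hg : Function.Surjective g) : Function.Surjective (fst f g) := fun e => by
  obtain ⟨y, hy⟩ := hg (f e)
  exact ⟨⟨(e, y), hy.symm⟩, rfl⟩

theorem snd_surjective (hf : Function.Surjective f) : Function.Surjective (snd f g) := fun y => by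
  obtain ⟨e, he⟩ := hf (g y)
  exact ⟨⟨(e, y), he⟩, rfl⟩

theorem isNoetherian_of_surjective_algebraMap {T E : Type u} [CommRing T] [CommRing E] [Algebra T E]
    [IsNoetherianRing E] (h : Function.Surjective (algebraMap T E)) : IsNoetherian T E := by
  refine ⟨fun s => ?_⟩
  let s' : Ideal E :=
    { carrier := s
      add_mem' := s.add_mem
      zero_mem' := s.zero_mem
      smul_mem' := fun c x hx => by
        obtain ⟨c, rfl⟩ := h c
        rw [smul_eq_mul, ← Algebra.smul_def]
        exact s.smul_mem c hx }
  exact (Submodule.FG.restrictScalars_of_surjective (IsNoetherian.noetherian s') h : (s'.restrictScalars T).FG)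

theorem finite_prod (hf : Function.Surjective f) (hg : Function.Surjective g) :
    letI := (fst f g).toAlgebra; letI := (snd f g).toAlgebra
    Module.Finite ↥(f.pullback g) (E × F) := by
  let _ := (fst f g).toAlgebra
  let _ := (snd f g).toAlgebra
  have : Module.Finite ↥(f.pullback g) E := Module.Finite.of_surjective
    (Algebra.linearMap ↥(f.pullback g) E) (fst_surjective f g hg)
  have : Module.Finite ↥(f.pullback g) F := Module.Finite.of_surjective
    (Algebra.linearMap ↥(f.pullback g) F) (snd_surjective f g hf)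
  infer_instance

theorem isNoetherianRing [IsNoetherianRing E] [IsNoetherianRing F] (hf : Function.Surjective f)
    (hg : Function.Surjective g) : IsNoetherianRing ↥(f.pullback g) := by
  let _ := (fst f g).toAlgebra
  let _ := (snd f g).toAlgebra
  have : IsNoetherian ↥(f.pullback g) E :=
    isNoetherian_of_surjective_algebraMap (fst_surjective f g hg)
  have : IsNoetherian ↥(f.pullback g) F :=
    isNoetherian_of_surjective_algebraMap (snd_surjective f g hf)
  let j : ↥(f.pullback g) →ₗ[↥(f.pullback g)] E × F :=
    (Algebra.linearMap _ E).prod (Algebra.linearMap _ F)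
  exact isNoetherianRing_iff.2 (isNoetherian_of_injective j fun x y h => Subtype.ext h)

theorem isHausdorff_of_local (R : Type u) [CommRing R] [IsLocalRing R] [IsNoetherianRing R] :
    IsHausdorff (maximalIdeal R) R := ⟨fun x hx => by
  rw [← Ideal.mem_bot, ← Ideal.iInf_pow_eq_bot_of_isLocalRing (maximalIdeal R)
    (maximalIdeal.isMaximal R).ne_top, Submodule.mem_iInf]
  intro n
  have := hx n
  rwa [SModEq.zero, smul_eq_mul, Ideal.mul_top] at this⟩

variable [IsLocalRing E] [IsLocalRing F] [IsLocalRing A] [IsLocalHom f] [IsLocalHom g]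

theorem isAdicComplete [IsNoetherianRing E] [IsNoetherianRing F]
    [IsAdicComplete (maximalIdeal E) E] [IsAdicComplete (maximalIdeal F) F]
    (hf : Function.Surjective f) (hg : Function.Surjective g) [IsLocalRing ↥(f.pullback g)] :
    IsAdicComplete (maximalIdeal ↥(f.pullback g)) ↥(f.pullback g) := by
  have := isNoetherianRing f g hf hg
  have : IsNoetherianRing A := isNoetherianRing_of_surjective E A f hf
  let _ := (fst f g).toAlgebra
  let _ := (snd f g).toAlgebra
  have := finite_prod f g hf hg
  set T := ↥(f.pullback g)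
  let m := maximalIdeal T
  let j : T →ₗ[T] E × F := (Algebra.linearMap T E).prod (Algebra.linearMap T F)
  have hj : Function.Injective j := fun x y h => Subtype.ext h
  have : IsLocalHom (fst f g) := .of_surjective _ (fst_surjective f g hg)
  have : IsLocalHom (snd f g) := .of_surjective _ (snd_surjective f g hf)
  have hmE : m.map (fst f g) = maximalIdeal E :=
    map_maximalIdeal_of_surjective _ (fst_surjective f g hg)
  have hmF : m.map (snd f g) = maximalIdeal F :=
    map_maximalIdeal_of_surjective _ (snd_surjective f g hf)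
  obtain ⟨k, hk⟩ := Ideal.exists_pow_inf_eq_pow_smul m (LinearMap.range j)
  have key : ∀ (n : ℕ) (t : T), fst f g t ∈ maximalIdeal E ^ (n + k) →
      snd f g t ∈ maximalIdeal F ^ (n + k) → t ∈ m ^ n := fun n t h1 h2 => by
    have h3 : j t ∈ (m ^ (n + k) • ⊤ ⊓ LinearMap.range j : Submodule T (E × F)) := by
      refine ⟨?_, LinearMap.mem_range_self j t⟩
      rw [← hmE, ← Ideal.map_pow] at h1
      rw [← hmF, ← Ideal.map_pow] at h2
      have e1 : (m ^ (n + k) • ⊤ : Submodule T E) = ((m ^ (n + k)).map (algebraMap T E)).restrictScalars T :=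
        Ideal.smul_top_eq_map _
      have e2 : (m ^ (n + k) • ⊤ : Submodule T F) = ((m ^ (n + k)).map (algebraMap T F)).restrictScalars T :=
        Ideal.smul_top_eq_map _
      have a1 : fst f g t ∈ (m ^ (n + k) • ⊤ : Submodule T E) := by rw [e1]; exact h1
      have a2 : snd f g t ∈ (m ^ (n + k) • ⊤ : Submodule T F) := by rw [e2]; exact h2
      have b1 := Submodule.smul_top_le_comap_smul_top (m ^ (n + k)) (LinearMap.inl T E F) a1
      have b2 := Submodule.smul_top_le_comap_smul_top (m ^ (n + k)) (LinearMap.inr T E F) a2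
      rw [show j t = LinearMap.inl T E F (fst f g t) + LinearMap.inr T E F (snd f g t) from
        Prod.ext (add_zero _).symm (zero_add _).symm]
      exact add_mem b1 b2
    rw [hk _ (Nat.le_add_left k n), Nat.add_sub_cancel] at h3
    have h4 : j t ∈ (m ^ n • LinearMap.range j : Submodule T (E × F)) :=
      (smul_mono_right (m ^ n) (inf_le_right : _ ≤ LinearMap.range j)) h3
    rw [← Submodule.map_top, ← Submodule.map_smul'', Submodule.mem_map] at h4
    obtain ⟨s, hs, hst⟩ := h4
    rw [smul_eq_mul, Ideal.mul_top] at hs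
    exact hj hst ▸ hs
  have hHaus : IsHausdorff m T := isHausdorff_of_local T
  refine { toIsHausdorff := hHaus, toIsPrecomplete := ⟨fun t ht => ?_⟩ }
  have hsub : ∀ {a b : ℕ}, a ≤ b → t a - t b ∈ m ^ a := fun {a b} hab => by
    have := ht hab
    rwa [SModEq.sub_mem, smul_eq_mul, Ideal.mul_top] at this
  have hE : ∀ {a b : ℕ}, a ≤ b → fst f g (t a) ≡ fst f g (t b) [SMOD maximalIdeal E ^ a • (⊤ : Submodule E E)] :=
    fun hab => by
      rw [SModEq.sub_mem, smul_eq_mul, Ideal.mul_top, ← map_sub, ← hmE, ← Ideal.map_pow]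
      exact Ideal.mem_map_of_mem _ (hsub hab)
  have hF : ∀ {a b : ℕ}, a ≤ b → snd f g (t a) ≡ snd f g (t b) [SMOD maximalIdeal F ^ a • (⊤ : Submodule F F)] :=
    fun hab => by
      rw [SModEq.sub_mem, smul_eq_mul, Ideal.mul_top, ← map_sub, ← hmF, ← Ideal.map_pow]
      exact Ideal.mem_map_of_mem _ (hsub hab)
  obtain ⟨x, hx⟩ := IsPrecomplete.prec (inferInstance : IsPrecomplete (maximalIdeal E) E) hE
  obtain ⟨y, hy⟩ := IsPrecomplete.prec (inferInstance : IsPrecomplete (maximalIdeal F) F) hF
  simp only [SModEq.sub_mem, smul_eq_mul, Ideal.mul_top] at hx hy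
  have hxy : f x = g y := by
    rw [← sub_eq_zero]
    refine (isHausdorff_of_local A).haus _ fun n => ?_
    rw [SModEq.zero, smul_eq_mul, Ideal.mul_top,
      show f x - g y = g (snd f g (t n) - y) - f (fst f g (t n) - x) by
        rw [map_sub, map_sub, condition]; ring]
    have hgm : (maximalIdeal F ^ n).map g ≤ maximalIdeal A ^ n := by
      rw [Ideal.map_pow]; exact Ideal.pow_right_mono (((local_hom_TFAE g).out 0 2).1 ‹_›) n
    have hfm : (maximalIdeal E ^ n).map f ≤ maximalIdeal A ^ n := by
      rw [Ideal.map_pow]; exact Ideal.pow_right_mono (((local_hom_TFAE f).out 0 2).1 ‹_›) n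
    exact sub_mem (hgm (Ideal.mem_map_of_mem g (hy n))) (hfm (Ideal.mem_map_of_mem f (hx n)))
  refine ⟨⟨(x, y), hxy⟩, fun n => ?_⟩
  rw [SModEq.sub_mem, smul_eq_mul, Ideal.mul_top,
    show t n - (⟨(x, y), hxy⟩ : T) = (t n - t (n + k)) + (t (n + k) - ⟨(x, y), hxy⟩) by ring]
  exact add_mem (hsub (Nat.le_add_right n k)) (key n _ (by rw [map_sub]; exact hx _) (by rw [map_sub]; exact hy _))

end Groth.Agent.CAlgH.FibreProduct
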