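import Groth.Agent.CAlgH.RegularIdealQuotient
import Groth.Agent.CAlgH.FibreProduct
import Groth.Agent.CAlgH.CompleteLocal
import Groth.Agent.CAlgH.AnalyticallyUnramified
import Groth.Agent.CAlgH.NagataComplete
import Groth.Agent.CAlgH.GRingRegular
import Groth.Prelude.Def_Pi1
import Mathlib.RingTheory.Regular.Flat

/-!
# Complete intersection rings and their presentations
-/

universe u

set_option autoImplicit false

open IsLocalRing RingTheory.Sequence

namespace Groth.Agent.CAlgH.CIPresentation

open RegularIdealLocal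

theorem isRegularIdeal_map_of_flat {R S : Type u} [CommRing R] [CommRing S] [IsLocalRing R]
    [IsLocalRing S] [IsNoetherianRing S] [Algebra R S] [Module.Flat R S] [IsLocalHom (algebraMap R S)] {I : Ideal R}
    (h : CInt.IsRegularIdeal I) : CInt.IsRegularIdeal (I.map (algebraMap R S)) := by
  obtain ⟨rs, hrs, rfl⟩ := h
  refine ⟨rs.map (algebraMap R S), isRegular_of_mem (IsWeaklyRegular.of_flat hrs.toIsWeaklyRegular) ?_,
    (Ideal.map_ofList _ _).symm⟩
  intro r hr
  obtain ⟨x, hx, rfl⟩ := List.mem_map.1 hr
  exact map_nonunit _ _ (mem_of_isRegular hrs x hx)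

theorem isRegularIdeal_map_equiv {R S : Type u} [CommRing R] [CommRing S] [IsLocalRing R] [IsNoetherianRing R]
    [IsLocalRing S] (e : R ≃+* S) {I : Ideal R} (h : CInt.IsRegularIdeal I) :
    CInt.IsRegularIdeal (I.map e.toRingHom) := by
  have := isNoetherianRing_of_ringEquiv R e
  let _ : Algebra R S := e.toRingHom.toAlgebra
  have : Module.Flat R S := RingHom.Flat.of_bijective (f := e.toRingHom) e.bijective
  have : IsLocalHom (algebraMap R S) := .of_surjective _ e.surjective
  exact isRegularIdeal_map_of_flat h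

theorem map_quotient_of_surjective {P B : Type u} [CommRing P] [CommRing B] (p : P →+* B)
    (hp : Function.Surjective p) (K : Ideal P) :
    (K.map p).map ((RingHom.quotientKerEquivOfSurjective hp).symm.toRingHom) =
      K.map (Ideal.Quotient.mk (RingHom.ker p)) := by
  rw [Ideal.map_map]
  congr 1
  refine RingHom.ext fun x => ?_
  apply (RingHom.quotientKerEquivOfSurjective hp).injective
  simp

/-- The kernel of a surjection from a complete regular local ring is regular as soon as this holds
for one presentation. -/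
theorem isRegularIdeal_ker_of_complete {R B C : Type u} [CommRing R] [CommRing B] [CommRing C]
    [IsRegularLocalRing R] [IsRegularLocalRing B] [IsLocalRing C]
    [IsAdicComplete (maximalIdeal R) R] [IsAdicComplete (maximalIdeal B) B]
    (f : R →+* C) (hf : Function.Surjective f) (g : B →+* C) (hg : Function.Surjective g)
    (h : CInt.IsRegularIdeal (RingHom.ker g)) : CInt.IsRegularIdeal (RingHom.ker f) := by
  have : IsLocalHom f := .of_surjective _ hf
  have : IsLocalHom g := .of_surjective _ hg
  have : IsLocalRing ↥(f.pullback g) := RingHom.isLocalRing_pullback f g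
  have := FibreProduct.isNoetherianRing f g hf hg
  have := FibreProduct.isAdicComplete f g hf hg
  obtain ⟨Λ, _, φ, hΛ, hres, -⟩ := exists_coefficient_ring ↥(f.pullback g)
  obtain ⟨n, a, ha⟩ := Submodule.fg_iff_exists_fin_generating_family.mp
    (IsNoetherian.noetherian (maximalIdeal ↥(f.pullback g)))
  have hI : ∀ i, a i ∈ maximalIdeal ↥(f.pullback g) := fun i => ha ▸ Submodule.subset_span ⟨i, rfl⟩
  obtain ⟨q, hqC, hqX⟩ := exists_mvPowerSeries_eval φ (maximalIdeal ↥(f.pullback g)) a hI
  have hq : Function.Surjective q := by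
    refine surjective_mvPowerSeries_hom q (maximalIdeal _) (fun i => (hqX i).symm ▸ hI i) ?_
    rw [show (fun i => q (MvPowerSeries.X i)) = a from funext hqX, hqC,
      show Ideal.span (Set.range a) = maximalIdeal ↥(f.pullback g) from ha]
    exact hres
  have hP : IsRegularLocalRing (MvPowerSeries (Fin n) Λ) := (isRegularLocalRing_mvPowerSeries Λ n).1
  let pR : MvPowerSeries (Fin n) Λ →+* R := (FibreProduct.fst f g).comp q
  let pB : MvPowerSeries (Fin n) Λ →+* B := (FibreProduct.snd f g).comp q
  have hpR : Function.Surjective pR := (FibreProduct.fst_surjective f g hg).comp hq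
  have hpB : Function.Surjective pB := (FibreProduct.snd_surjective f g hf).comp hq
  have hcomm : ∀ x, f (pR x) = g (pB x) := fun x => FibreProduct.condition f g (q x)
  let K : Ideal (MvPowerSeries (Fin n) Λ) := RingHom.ker (g.comp pB)
  have hK : K ≤ maximalIdeal _ := le_maximalIdeal (RingHom.ker_ne_top _)
  have hKB : K.map pB = RingHom.ker g := by
    rw [show K = (RingHom.ker g).comap pB from rfl, Ideal.map_comap_of_surjective _ hpB]
  have hKR : K.map pR = RingHom.ker f := by
    have hK' : K = (RingHom.ker f).comap pR := by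
      ext x
      show g (pB x) = 0 ↔ f (pR x) = 0
      rw [hcomm]
    rw [hK', Ideal.map_comap_of_surjective _ hpR]
  have hleB : RingHom.ker pB ≤ K := fun x hx => by
    show g (pB x) = 0
    rw [show pB x = 0 from hx, map_zero]
  have hleR : RingHom.ker pR ≤ K := fun x hx => by
    show g (pB x) = 0
    rw [← hcomm, show pR x = 0 from hx, map_zero]
  let eB := (RingHom.quotientKerEquivOfSurjective hpB).symm
  let eR := (RingHom.quotientKerEquivOfSurjective hpR).symm
  have : IsRegularLocalRing (MvPowerSeries (Fin n) Λ ⧸ RingHom.ker pB) := IsRegularLocalRing.of_ringEquiv eB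
  have : IsRegularLocalRing (MvPowerSeries (Fin n) Λ ⧸ RingHom.ker pR) := IsRegularLocalRing.of_ringEquiv eR
  have h1 : CInt.IsRegularIdeal (K.map (Ideal.Quotient.mk (RingHom.ker pB))) := by
    have := isRegularIdeal_map_equiv eB h
    rwa [← hKB, map_quotient_of_surjective] at this
  have h2 : CInt.IsRegularIdeal K := (isRegularIdeal_iff_quotient _ K hleB hK).2 h1
  have h3 := isRegularIdeal_map_equiv (RingHom.quotientKerEquivOfSurjective hpR)
    ((isRegularIdeal_iff_quotient _ K hleR hK).1 h2)
  rwa [← hKR, show K.map pR = (K.map (Ideal.Quotient.mk (RingHom.ker pR))).map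
    (RingHom.quotientKerEquivOfSurjective hpR).toRingHom by
      rw [Ideal.map_map]; congr 1]

section Completion

variable {R : Type u} [CommRing R] [IsLocalRing R] [IsNoetherianRing R]

/-- An ideal is regular iff its extension to the completion is. -/
theorem isRegularIdeal_completion_iff {I : Ideal R} (hI : I ≤ maximalIdeal R) :
    CInt.IsRegularIdeal (I.map (algebraMap R (EGA4.Cpl R))) ↔ CInt.IsRegularIdeal I := by
  have : IsNoetherianRing (EGA4.Cpl R) := Matlis6.isNoetherianRing_adicCompletion (maximalIdeal R)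
  have : Module.FaithfullyFlat R (EGA4.Cpl R) := Module.FaithfullyFlat.of_flat_of_isLocalHom
  refine ⟨fun ⟨rs, hrs, hrsI⟩ => ?_, fun h => isRegularIdeal_map_of_flat h⟩
  obtain ⟨c, g, hgI, hg⟩ := exists_minimal I
  have hmax : maximalIdeal (EGA4.Cpl R) = (maximalIdeal R).map (algebraMap R (EGA4.Cpl R)) :=
    AdicCompletion.maximalIdeal_eq_map
  have hgI' : Ideal.span (Set.range (algebraMap R (EGA4.Cpl R) ∘ g)) = I.map (algebraMap R (EGA4.Cpl R)) := by
    rw [Set.range_comp, ← Ideal.map_span, hgI]
  have hi : IndepMod (I.map (algebraMap R (EGA4.Cpl R))) (algebraMap R (EGA4.Cpl R) ∘ g) := by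
    intro a ha
    have happ : ∀ y : EGA4.Cpl R, ∃ r : R, y - algebraMap R _ r ∈ maximalIdeal (EGA4.Cpl R) := fun y => by
      obtain ⟨r, hr⟩ := Ideal.Quotient.mk_surjective (AdicCompletion.evalOneₐ (maximalIdeal R) y)
      refine ⟨r, ?_⟩
      rw [hmax, ← AdicCompletion.ker_evalOneₐ_eq_map _ (IsNoetherian.noetherian _), RingHom.mem_ker,
        map_sub, sub_eq_zero]
      exact hr.symm.trans (AlgHom.commutes _ _).symm
    choose r hr using fun i => happ (a i)
    have hmem : algebraMap R (EGA4.Cpl R) (∑ i, r i * g i) ∈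
        (maximalIdeal R * I).map (algebraMap R (EGA4.Cpl R)) := by
      rw [Ideal.map_mul, ← hmax]
      have : algebraMap R (EGA4.Cpl R) (∑ i, r i * g i) =
          (∑ i, a i * (algebraMap R (EGA4.Cpl R) ∘ g) i) -
            ∑ i, (a i - algebraMap R _ (r i)) * algebraMap R (EGA4.Cpl R) (g i) := by
        simp [sub_mul, Finset.sum_sub_distrib, map_sum]
      rw [this]
      exact sub_mem ha (sum_mem fun i _ => Ideal.mul_mem_mul (hr i)
        (Ideal.mem_map_of_mem _ (hgI ▸ Ideal.subset_span ⟨i, rfl⟩)))
    rw [← Ideal.mem_comap, Ideal.comap_map_eq_self_of_faithfullyFlat] at hmem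
    intro i
    have hri : algebraMap R (EGA4.Cpl R) (r i) ∈ maximalIdeal (EGA4.Cpl R) :=
      map_nonunit _ _ (hg r hmem i)
    simpa using add_mem (hr i) hri
  have hle : I.map (algebraMap R (EGA4.Cpl R)) ≤ maximalIdeal _ := by
    rw [hmax]; exact Ideal.map_mono hI
  have hreg := isWeaklyRegular_of_indepMod hle hrs.toIsWeaklyRegular hrsI hgI' hi
  rw [← List.map_ofFn] at hreg
  refine ⟨List.ofFn g, isRegular_of_mem ?_ ?_, by rw [ofList_ofFn, hgI]⟩
  · exact isWeaklyRegular_of_faithfullyFlat hreg
  · simpa [List.mem_ofFn] using fun i => hI (hgI ▸ Ideal.subset_span ⟨i, rfl⟩)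
where
  isWeaklyRegular_of_faithfullyFlat {rs : List R} [Module.FaithfullyFlat R (EGA4.Cpl R)]
      (h : IsWeaklyRegular (EGA4.Cpl R) (rs.map (algebraMap R (EGA4.Cpl R)))) :
      IsWeaklyRegular R rs := by
    refine ⟨fun i hi => ?_⟩
    rw [isSMulRegular_quotient_iff_mem_of_smul_mem]
    intro x hx
    simp only [smul_eq_mul, Ideal.mul_top] at hx ⊢
    have h2 := h.regular_mod_prev i (by simpa using hi)
    rw [isSMulRegular_quotient_iff_mem_of_smul_mem] at h2
    have h3 := h2 (algebraMap R _ x) (by
      simp only [List.getElem_map, ← List.map_take, ← Ideal.map_ofList, smul_eq_mul, Ideal.mul_top,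
        ← map_mul]
      exact Ideal.mem_map_of_mem _ hx)
    simp only [← List.map_take, ← Ideal.map_ofList, smul_eq_mul, Ideal.mul_top] at h3
    rwa [← Ideal.mem_comap, Ideal.comap_map_eq_self_of_faithfullyFlat] at h3

end Completion

/-- A quotient of a regular local ring is a complete intersection iff the kernel is regular. -/
theorem isCompleteIntersection_iff {R A : Type u} [CommRing R] [IsRegularLocalRing R] [CommRing A]
    [IsLocalRing A] [IsNoetherianRing A] (f : R →+* A) (hf : Function.Surjective f) :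
    Pi1.IsCompleteIntersection A ↔ CInt.IsRegularIdeal (RingHom.ker f) := by
  have hI : RingHom.ker f ≤ maximalIdeal R := le_maximalIdeal (RingHom.ker_ne_top f)
  have : IsRegularLocalRing (EGA4.Cpl R) := isRegularLocalRing_cpl R
  obtain ⟨e⟩ := completion_quotient_equiv f hf
  let φ : EGA4.Cpl R →+* EGA4.Cpl A :=
    e.toRingHom.comp (Ideal.Quotient.mk _)
  have hφ : Function.Surjective φ := e.surjective.comp Ideal.Quotient.mk_surjective
  have hker : RingHom.ker φ = (RingHom.ker f).map (algebraMap R (EGA4.Cpl R)) := by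
    ext x
    show e (Ideal.Quotient.mk _ x) = 0 ↔ _
    rw [map_eq_zero_iff e e.injective, Ideal.Quotient.eq_zero_iff_mem]
  constructor
  · rintro ⟨B, _, _, rs, hmem, hrs, ⟨eB⟩⟩
    let π : B →+* EGA4.Cpl A := eB.symm.toRingHom.comp (Ideal.Quotient.mk _)
    have hπ : Function.Surjective π := eB.symm.surjective.comp Ideal.Quotient.mk_surjective
    have hπk : RingHom.ker π = Ideal.ofList rs := by
      ext x
      show eB.symm (Ideal.Quotient.mk _ x) = 0 ↔ _
      rw [map_eq_zero_iff _ eB.symm.injective, Ideal.Quotient.eq_zero_iff_mem]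
    have : IsRegularLocalRing (EGA4.Cpl B) := isRegularLocalRing_cpl B
    have : IsNoetherianRing (EGA4.Cpl A) := Matlis6.isNoetherianRing_adicCompletion (maximalIdeal A)
    obtain ⟨e'⟩ := completion_quotient_equiv π hπ
    let eC : EGA4.Cpl (EGA4.Cpl A) ≃+* EGA4.Cpl A :=
      (AdicCompletion.ofAlgEquiv (maximalIdeal (EGA4.Cpl A))).symm.toRingEquiv
    let g : EGA4.Cpl B →+* EGA4.Cpl A := (eC.toRingHom.comp e'.toRingHom).comp (Ideal.Quotient.mk _)
    have hg : Function.Surjective g :=
      (eC.surjective.comp e'.surjective).comp Ideal.Quotient.mk_surjective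
    have hgk : RingHom.ker g = (RingHom.ker π).map (algebraMap B (EGA4.Cpl B)) := by
      ext x
      show eC (e' (Ideal.Quotient.mk _ x)) = 0 ↔ _
      rw [map_eq_zero_iff _ eC.injective, map_eq_zero_iff _ e'.injective, Ideal.Quotient.eq_zero_iff_mem]
    have hreg : CInt.IsRegularIdeal (RingHom.ker g) := by
      rw [hgk, isRegularIdeal_completion_iff (le_maximalIdeal (RingHom.ker_ne_top π)), hπk]
      exact ⟨rs, hrs, rfl⟩
    have := isRegularIdeal_ker_of_complete φ hφ g hg hreg
    rwa [hker, isRegularIdeal_completion_iff hI] at this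
  · intro h
    rw [← isRegularIdeal_completion_iff hI, ← hker] at h
    obtain ⟨rs, hrs, hrsI⟩ := h
    exact ⟨EGA4.Cpl R, inferInstance, inferInstance, rs, mem_of_isRegular hrs, hrs,
      ⟨((RingHom.quotientKerEquivOfSurjective hφ).symm.trans (Ideal.quotEquivOfEq hrsI.symm))⟩⟩

end Groth.Agent.CAlgH.CIPresentation
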