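import Groth.Agent.CAlgH.RelativeTorDim
import Groth.Agent.CAlgH.Avramov
import Groth.Agent.CAlgH.CIPresentation

/-!
# Regular ideals along flat maps with regular fibres
-/

universe u

set_option autoImplicit false

open TensorProduct IsLocalRing RingTheory.Sequence

namespace Groth.Agent.CAlgH.RelativeCI

open RegularIdealLocal

variable {R S : Type u} [CommRing R] [CommRing S] [IsNoetherianRing R]
  [IsNoetherianRing S] [IsLocalRing R] [IsLocalRing S] [Algebra R S] [IsLocalHom (algebraMap R S)]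
  [Module.Flat R S] [IsRegularLocalRing (S ⧸ Ideal.map (algebraMap R S) (maximalIdeal R))]
  {I : Ideal R} {J : Ideal S} [Algebra (R ⧸ I) (S ⧸ J)] [IsScalarTower R (R ⧸ I) (S ⧸ J)]

omit [IsNoetherianRing R] [IsNoetherianRing S] [IsLocalHom (algebraMap R S)] [IsLocalRing S]
  [IsRegularLocalRing (S ⧸ Ideal.map (algebraMap R S) (maximalIdeal R))] [IsLocalRing R] in
theorem flat_quotient : Module.Flat (R ⧸ I) (S ⧸ I.map (algebraMap R S)) :=
  Module.Flat.of_linearEquiv (Algebra.TensorProduct.quotIdealMapEquivQuotTensor S I).toLinearEquiv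

omit [IsNoetherianRing R] [IsNoetherianRing S] [IsLocalHom (algebraMap R S)] [IsLocalRing S]
  [IsRegularLocalRing (S ⧸ Ideal.map (algebraMap R S) (maximalIdeal R))] [IsLocalRing R] [Module.Flat R S] in
theorem isScalarTower_quotient [Algebra (S ⧸ I.map (algebraMap R S)) (S ⧸ J)]
    [IsScalarTower S (S ⧸ I.map (algebraMap R S)) (S ⧸ J)] :
    IsScalarTower (R ⧸ I) (S ⧸ I.map (algebraMap R S)) (S ⧸ J) :=
  .of_algebraMap_eq' <| Ideal.Quotient.ringHom_ext <| RingHom.ext fun x => by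
    show algebraMap (R ⧸ I) (S ⧸ J) (algebraMap R (R ⧸ I) x) = algebraMap (S ⧸ I.map (algebraMap R S)) (S ⧸ J)
      (algebraMap S (S ⧸ I.map (algebraMap R S)) (algebraMap R S x))
    rw [← IsScalarTower.algebraMap_apply R (R ⧸ I) (S ⧸ J), ← IsScalarTower.algebraMap_apply S _ (S ⧸ J),
      ← IsScalarTower.algebraMap_apply R S (S ⧸ J)]

omit [Algebra (R ⧸ I) (S ⧸ J)] [IsScalarTower R (R ⧸ I) (S ⧸ J)] in
theorem regular_of_dim_of_surjective {A B : Type u} [CommRing A] [IsLocalRing A] [CommRing B]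
    [Algebra R A] [Algebra S B] [Algebra A B] [Algebra R B] [IsScalarTower R A B] [IsScalarTower R S B]
    (hA : Function.Surjective (algebraMap R A)) (hB : Function.Surjective (algebraMap S B))
    (hIA : RingHom.ker (algebraMap R A) = I) (hJB : RingHom.ker (algebraMap S B) = J)
    (hI : I ≠ ⊤) (hJ : J ≠ ⊤) (hIJ : I.map (algebraMap R S) ≤ J)
    (hreg : ∃ rs : List S, Ideal.ofList rs = J ∧ IsRegular S rs) (j : ℕ)
    (hd : Tor15.Dim (R := A) j B (A ⧸ maximalIdeal A)) :
    (∃ rs : List R, Ideal.ofList rs = I ∧ IsRegular R rs) ∧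
      ∃ rs' : List (S ⧸ I.map (algebraMap R S)),
        Ideal.ofList rs' = J.map (Ideal.Quotient.mk (I.map (algebraMap R S))) ∧
          IsRegular (S ⧸ I.map (algebraMap R S)) rs' := by
  have hJm := le_maximalIdeal hJ
  have hIm := le_maximalIdeal hI
  have hIS : I.map (algebraMap R S) ≤ maximalIdeal S := hIJ.trans hJm
  have : IsNoetherianRing A := isNoetherianRing_of_surjective R A _ hA
  have : Nontrivial (S ⧸ I.map (algebraMap R S)) := Ideal.Quotient.nontrivial_iff.2
    (ne_top_of_le_ne_top (maximalIdeal.isMaximal S).ne_top hIS)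
  have : IsLocalRing (S ⧸ I.map (algebraMap R S)) := .of_surjective' _ Ideal.Quotient.mk_surjective
  let eA : A ≃+* R ⧸ I :=
    (RingHom.quotientKerEquivOfSurjective hA).symm.trans (Ideal.quotEquivOfEq hIA)
  have heA : ∀ x, eA (algebraMap R A x) = Ideal.Quotient.mk I x := fun x => by
    have : (RingHom.quotientKerEquivOfSurjective hA).symm (algebraMap R A x) = Ideal.Quotient.mk _ x := by
      rw [RingEquiv.symm_apply_eq]; rfl
    simp only [eA, RingEquiv.trans_apply]
    rw [this, Ideal.quotEquivOfEq_mk]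
  letI : Algebra A (S ⧸ I.map (algebraMap R S)) :=
    ((algebraMap (R ⧸ I) (S ⧸ I.map (algebraMap R S))).comp eA.toRingHom).toAlgebra
  have hAT : ∀ x, algebraMap A (S ⧸ I.map (algebraMap R S)) (algebraMap R A x) =
      Ideal.Quotient.mk _ (algebraMap R S x) := fun x => by
    show algebraMap (R ⧸ I) _ (eA _) = _
    rw [heA]
    rfl
  have : Module.Flat A (S ⧸ I.map (algebraMap R S)) :=
    haveI := flat_quotient (R := R) (S := S) (I := I)
    RingHom.Flat.comp (f := eA.toRingHom) (g := algebraMap (R ⧸ I) (S ⧸ I.map (algebraMap R S)))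
      (.of_bijective eA.bijective) (RingHom.flat_algebraMap_iff.2 inferInstance)
  letI : Algebra (S ⧸ I.map (algebraMap R S)) B :=
    (Ideal.Quotient.lift _ (algebraMap S B) fun x hx => hJB.ge (hIJ hx)).toAlgebra
  have : IsScalarTower S (S ⧸ I.map (algebraMap R S)) B := .of_algebraMap_eq fun _ => rfl
  have : IsScalarTower A (S ⧸ I.map (algebraMap R S)) B := .of_algebraMap_eq' <| RingHom.ext fun a => by
    obtain ⟨x, rfl⟩ := hA a
    rw [RingHom.comp_apply, hAT, ← IsScalarTower.algebraMap_apply R A B, IsScalarTower.algebraMap_apply R S B]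
    rfl
  have : Module.Finite (S ⧸ I.map (algebraMap R S)) B := by
    refine Module.Finite.of_surjective (Algebra.linearMap (S ⧸ I.map (algebraMap R S)) B) fun b => ?_
    obtain ⟨s, rfl⟩ := hB b
    exact ⟨Ideal.Quotient.mk _ s, rfl⟩
  have hmap : (maximalIdeal A).map (algebraMap A (S ⧸ I.map (algebraMap R S))) =
      ((maximalIdeal R).map (algebraMap R S)).map (Ideal.Quotient.mk _) := by
    rw [← IsLocalRing.map_maximalIdeal_of_surjective _ hA, Ideal.map_map, Ideal.map_map,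
      show (algebraMap A (S ⧸ I.map (algebraMap R S))).comp (algebraMap R A) =
        (Ideal.Quotient.mk _).comp (algebraMap R S) from RingHom.ext hAT]
  let e : (S ⧸ (maximalIdeal R).map (algebraMap R S)) ≃+*
      ((S ⧸ I.map (algebraMap R S)) ⧸
        (maximalIdeal A).map (algebraMap A (S ⧸ I.map (algebraMap R S)))) :=
    (((Ideal.quotEquivOfEq hmap).trans ((DoubleQuot.quotQuotEquivQuotSup _ _).trans
      (Ideal.quotEquivOfEq (sup_eq_right.2 (Ideal.map_mono hIm)))))).symm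
  have := IsRegularLocalRing.of_ringEquiv e
  have : IsLocalHom (algebraMap A (S ⧸ I.map (algebraMap R S))) :=
    ((local_hom_TFAE _).out 0 2 rfl rfl).2 (by
      rw [hmap, ← IsLocalRing.map_maximalIdeal_of_surjective (Ideal.Quotient.mk (I.map (algebraMap R S)))
        Ideal.Quotient.mk_surjective]
      exact Ideal.map_mono (IsLocalRing.map_maximalIdeal_le _))
  obtain ⟨n, hn⟩ := RelativeTorDim.exists_pd_of_dim (T := S ⧸ I.map (algebraMap R S)) j B hd
  letI : Algebra (S ⧸ I.map (algebraMap R S)) (S ⧸ J) := (Ideal.Quotient.factor hIJ).toAlgebra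
  have : IsScalarTower S (S ⧸ I.map (algebraMap R S)) (S ⧸ J) := .of_algebraMap_eq fun _ => rfl
  let eB : (S ⧸ J) →+* B := Ideal.Quotient.lift J (algebraMap S B) fun x hx => hJB.ge hx
  have heB : Function.Bijective eB :=
    ⟨RingHom.lift_injective_of_ker_le_ideal _ _ hJB.le, Ideal.Quotient.lift_surjective_of_surjective _ _ hB⟩
  let eL : (S ⧸ J) ≃ₗ[S ⧸ I.map (algebraMap R S)] B := LinearEquiv.ofBijective
    ({ eB.toAddMonoidHom with
        map_smul' := fun c x => by
          obtain ⟨c, rfl⟩ := Ideal.Quotient.mk_surjective c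
          show eB (Ideal.Quotient.mk J c * x) = algebraMap S B c * eB x
          rw [map_mul]
          rfl } : (S ⧸ J) →ₗ[S ⧸ I.map (algebraMap R S)] B) heB
  have hfd := TorDimInjective.hasFiniteTorDim_of_equiv eL.symm (FibrePd.hasFiniteTorDim_of_pd hn)
  have hinj : ∀ x ∈ I.map (algebraMap R S), x ∈ maximalIdeal S * J →
      x ∈ maximalIdeal S * I.map (algebraMap R S) := fun x hx hxm =>
    TorDimInjective.mem_maximalIdeal_mul _ J hIJ hJ hfd hx hxm
  obtain ⟨⟨is, hisI, his⟩, hquot⟩ := regular_sub_and_quotient _ J hIJ hJ hreg hinj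
  refine ⟨?_, hquot⟩
  obtain ⟨a, x, hxI, hx⟩ := exists_minimal I
  have hxm : ∀ i, x i ∈ maximalIdeal R := fun i => hIm (hxI ▸ Ideal.subset_span ⟨i, rfl⟩)
  have hxS : Ideal.span (Set.range (algebraMap R S ∘ x)) = I.map (algebraMap R S) := by
    rw [← hxI, Ideal.map_span, Set.range_comp]
  have hxwr := isWeaklyRegular_of_indepMod hIS his.toIsWeaklyRegular hisI hxS
    (Avramov.indepMod_map (S := S) hxI hx)
  have : Module.FaithfullyFlat R S := Module.FaithfullyFlat.of_flat_of_isLocalHom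
  exact ⟨List.ofFn x, by rw [ofList_ofFn, hxI], isRegular_of_mem
    (Avramov.isWeaklyRegular_of_faithfullyFlat (S := S) (by rwa [List.map_ofFn]))
    (by simpa [List.mem_ofFn] using hxm)⟩

theorem regular_of_dim (hI : I ≠ ⊤) (hJ : J ≠ ⊤) (hIJ : I.map (algebraMap R S) ≤ J)
    (hreg : ∃ rs : List S, Ideal.ofList rs = J ∧ IsRegular S rs) (j : ℕ)
    (hd : Tor15.Dim (R := R ⧸ I) j (S ⧸ J) ((R ⧸ I) ⧸ (maximalIdeal R).map (Ideal.Quotient.mk I))) :
    (∃ rs : List R, Ideal.ofList rs = I ∧ IsRegular R rs) ∧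
      ∃ rs' : List (S ⧸ I.map (algebraMap R S)),
        Ideal.ofList rs' = J.map (Ideal.Quotient.mk (I.map (algebraMap R S))) ∧
          IsRegular (S ⧸ I.map (algebraMap R S)) rs' := by
  have : Nontrivial (R ⧸ I) := Ideal.Quotient.nontrivial_iff.2 hI
  have : IsLocalRing (R ⧸ I) := .of_surjective' _ Ideal.Quotient.mk_surjective
  rw [IsLocalRing.map_maximalIdeal_of_surjective _ Ideal.Quotient.mk_surjective] at hd
  exact regular_of_dim_of_surjective (A := R ⧸ I) (B := S ⧸ J) Ideal.Quotient.mk_surjective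
    Ideal.Quotient.mk_surjective Ideal.mk_ker Ideal.mk_ker hI hJ hIJ hreg j hd

omit [IsRegularLocalRing (S ⧸ Ideal.map (algebraMap R S) (maximalIdeal R))] [IsNoetherianRing R] in
theorem dim_of_regular (hJ : J ≠ ⊤) (hIJ : I.map (algebraMap R S) ≤ J)
    (h : (∃ rs : List R, Ideal.ofList rs = I ∧ IsRegular R rs) ∧
      ∃ rs' : List (S ⧸ I.map (algebraMap R S)),
        Ideal.ofList rs' = J.map (Ideal.Quotient.mk (I.map (algebraMap R S))) ∧
          IsRegular (S ⧸ I.map (algebraMap R S)) rs') :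
    (∃ rs : List S, Ideal.ofList rs = J ∧ IsRegular S rs) ∧
      ∃ n : ℕ, DRing.HasTorDimLE (R ⧸ I) n (S ⧸ J) := by
  obtain ⟨⟨rs, hrsI, hrs⟩, rs', hrs'J, hrs'⟩ := h
  have hJm := le_maximalIdeal hJ
  constructor
  · have hISreg : CInt.IsRegularIdeal (I.map (algebraMap R S)) :=
      CIPresentation.isRegularIdeal_map_of_flat ⟨rs, hrs, hrsI⟩
    obtain ⟨ts, hts, htsJ⟩ := isRegularIdeal_of_quotient _ J hIJ hJm hISreg ⟨rs', hrs', hrs'J⟩
    exact ⟨ts, htsJ, hts⟩
  · have : Module.Flat (R ⧸ I) (S ⧸ I.map (algebraMap R S)) := flat_quotient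
    letI : Algebra (S ⧸ I.map (algebraMap R S)) (S ⧸ J) := (Ideal.Quotient.factor hIJ).toAlgebra
    have : IsScalarTower S (S ⧸ I.map (algebraMap R S)) (S ⧸ J) := .of_algebraMap_eq fun _ => rfl
    have := isScalarTower_quotient (R := R) (I := I) (J := J)
    have hT := CAlgH3.pd_one_iff.2
      (inferInstance : Module.Projective (S ⧸ I.map (algebraMap R S)) (S ⧸ I.map (algebraMap R S)))
    have hpd := RelativeTorDim.pd_quotient rs' _ hrs'.toIsWeaklyRegular hT
    let π : (S ⧸ I.map (algebraMap R S)) →ₐ[S ⧸ I.map (algebraMap R S)] S ⧸ J := Algebra.ofId _ _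
    have hπ : Function.Surjective π := Ideal.Quotient.factor_surjective hIJ
    have hk : Ideal.ofList rs' • (⊤ : Submodule (S ⧸ I.map (algebraMap R S)) (S ⧸ I.map (algebraMap R S))) =
        LinearMap.ker π.toLinearMap := by
      rw [smul_eq_mul, Ideal.mul_top, hrs'J, ← Ideal.Quotient.factor_ker hIJ]
      rfl
    have hpdB := (CAlgH3.pd_congr ((Submodule.quotEquivOfEq _ _ hk).trans
      (π.toLinearMap.quotKerEquivOfSurjective hπ))).1 hpd
    rw [Nat.add_comm] at hpdB
    exact ⟨_, RelativeTorDim.hasTorDimLE_of_flatDimLE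
      (RelativeTorDim.flatDimLE_of_pd _ hpdB).restrictScalars⟩

theorem tfae (hI : I ≠ ⊤) (hJ : J ≠ ⊤) (hIJ : I.map (algebraMap R S) ≤ J) :
    let P3 := (∃ rs : List R, Ideal.ofList rs = I ∧ RingTheory.Sequence.IsRegular R rs) ∧
      ∃ rs' : List (S ⧸ I.map (algebraMap R S)),
        Ideal.ofList rs' = J.map (Ideal.Quotient.mk (I.map (algebraMap R S))) ∧
          RingTheory.Sequence.IsRegular (S ⧸ I.map (algebraMap R S)) rs'
    let Jreg := ∃ rs : List S, Ideal.ofList rs = J ∧ RingTheory.Sequence.IsRegular S rs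
    ((Jreg ∧ DRing.HasFiniteTorDim (R ⧸ I) (S ⧸ J)) ↔ P3) ∧
      ((Jreg ∧ Set.Finite {p : ℕ | ¬Subsingleton (DRing.Tor (R ⧸ I) p (S ⧸ J)
        ((R ⧸ I) ⧸ (IsLocalRing.maximalIdeal R).map (Ideal.Quotient.mk I)))}) ↔ P3) := by
  intro P3 Jreg
  have h31 : P3 → Jreg ∧ DRing.HasFiniteTorDim (R ⧸ I) (S ⧸ J) := fun h => dim_of_regular hJ hIJ h
  refine ⟨⟨fun ⟨hj, n, hn⟩ => regular_of_dim hI hJ hIJ hj _ (Tor15.dim_of_hasTorDimLE hn _), h31⟩,
    ⟨fun ⟨hj, hfin⟩ => ?_, fun h => ?_⟩⟩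
  · obtain ⟨b, hb⟩ := hfin.bddAbove
    have hsub : Subsingleton (DRing.Tor (R ⧸ I) (b + 1) (S ⧸ J)
        ((R ⧸ I) ⧸ (maximalIdeal R).map (Ideal.Quotient.mk I))) := by
      by_contra hc
      have := hb hc
      omega
    exact regular_of_dim hI hJ hIJ hj b
      (EGA43.PdFlat.dim_of_isZero_tor _ (@ModuleCat.isZero_of_subsingleton _ _ _ hsub))
  · obtain ⟨hj, n, hn⟩ := h31 h
    refine ⟨hj, (Set.finite_Iic n).subset fun p hp => ?_⟩
    by_contra hc
    exact hp (hn _ p (by simpa using hc))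

end Groth.Agent.CAlgH.RelativeCI
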