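import Groth.Agent.CAlgH.AvramovCI
import Groth.Agent.CAlgH.RelativeCI

/-!
# Complete intersection homomorphisms
-/

universe u

set_option autoImplicit false

open IsLocalRing RingTheory.Sequence

namespace Groth.Agent.CAlgH.CIHom

open RegularIdealLocal

theorem isCompleteIntersection_of_regularLocal {R : Type u} [CommRing R] [IsRegularLocalRing R] :
    Pi1.IsCompleteIntersection R := by
  rw [CIPresentation.isCompleteIntersection_iff (RingHom.id R) Function.surjective_id]
  refine ⟨[], IsRegular.nil R R, ?_⟩
  rw [Ideal.ofList_nil, eq_comm, ← RingHom.injective_iff_ker_eq_bot]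
  exact Function.injective_id

theorem map_ringEquiv_eq {X Y : Type u} [CommRing X] [CommRing Y] (π : X →+* Y) (hπ : Function.Surjective π)
    (K : Ideal Y) :
    K.map (RingHom.quotientKerEquivOfSurjective hπ).symm.toRingHom =
      (K.comap π).map (Ideal.Quotient.mk (RingHom.ker π)) := by
  rw [← CIPresentation.map_quotient_of_surjective π hπ, Ideal.map_comap_of_surjective _ hπ]

/-- Quotients of complete intersections by regular ideals are complete intersections. -/
theorem isCompleteIntersection_of_quotient {S B : Type u} [CommRing S] [IsLocalRing S] [IsNoetherianRing S]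
    [CommRing B] [IsLocalRing B] [IsNoetherianRing B] (g : S →+* B) (hg : Function.Surjective g)
    (hS : Pi1.IsCompleteIntersection S) (hreg : CInt.IsRegularIdeal (RingHom.ker g)) :
    Pi1.IsCompleteIntersection B := by
  obtain ⟨P, _, _, rs, hm, hrs, ⟨e⟩⟩ := hS
  have : IsNoetherianRing (EGA4.Cpl S) := Matlis6.isNoetherianRing_adicCompletion (maximalIdeal S)
  have : IsNoetherianRing (EGA4.Cpl B) := Matlis6.isNoetherianRing_adicCompletion (maximalIdeal B)
  let π : P →+* EGA4.Cpl S := e.symm.toRingHom.comp (Ideal.Quotient.mk _)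
  have hπ : Function.Surjective π := e.symm.surjective.comp Ideal.Quotient.mk_surjective
  have hk : RingHom.ker π = Ideal.ofList rs := by
    ext x
    show e.symm (Ideal.Quotient.mk _ x) = 0 ↔ _
    rw [map_eq_zero_iff _ e.symm.injective, Ideal.Quotient.eq_zero_iff_mem]
  obtain ⟨eC⟩ := completion_quotient_equiv g hg
  let ψ : EGA4.Cpl S →+* EGA4.Cpl B := eC.toRingHom.comp (Ideal.Quotient.mk _)
  have hψ : Function.Surjective ψ := eC.surjective.comp Ideal.Quotient.mk_surjective
  have hψk : RingHom.ker ψ = (RingHom.ker g).map (algebraMap S (EGA4.Cpl S)) := by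
    ext x
    show eC (Ideal.Quotient.mk _ x) = 0 ↔ _
    rw [map_eq_zero_iff _ eC.injective, Ideal.Quotient.eq_zero_iff_mem]
  rw [← AvramovCI.isCompleteIntersection_cpl_iff,
    CIPresentation.isCompleteIntersection_iff (ψ.comp π) (hψ.comp hπ)]
  have hle : RingHom.ker π ≤ RingHom.ker (ψ.comp π) := fun x hx => by
    rw [RingHom.mem_ker, RingHom.comp_apply, show π x = 0 from hx, map_zero]
  refine isRegularIdeal_of_quotient _ _ hle (le_maximalIdeal (RingHom.ker_ne_top _)) ?_ ?_
  · exact hk ▸ ⟨rs, hrs, rfl⟩
  · have h1 : CInt.IsRegularIdeal (RingHom.ker ψ) := by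
      rw [hψk]
      exact CIPresentation.isRegularIdeal_map_of_flat hreg
    have : Nontrivial (P ⧸ RingHom.ker π) := Ideal.Quotient.nontrivial_iff.2 (RingHom.ker_ne_top π)
    have : IsLocalRing (P ⧸ RingHom.ker π) := .of_surjective' _ Ideal.Quotient.mk_surjective
    have h2 := CIPresentation.isRegularIdeal_map_equiv (RingHom.quotientKerEquivOfSurjective hπ).symm h1
    rwa [map_ringEquiv_eq, show (RingHom.ker ψ).comap π = RingHom.ker (ψ.comp π) from rfl] at h2

/-- A complete intersection ring with finite tor dimension over a complete base is a complete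
intersection homomorphism. -/
theorem avramov_map_complete {A B : Type u} [CommRing A] [CommRing B] [IsNoetherianRing A]
    [IsNoetherianRing B] [IsLocalRing A] [IsLocalRing B]
    [IsAdicComplete (maximalIdeal A) A] [IsAdicComplete (maximalIdeal B) B]
    [Algebra A B] [IsLocalHom (algebraMap A B)] :
    (Pi1.IsCompleteIntersection B ∧
        Set.Finite {p : ℕ | ¬Subsingleton (DRing.Tor A p B (ResidueField A))}) ↔
      (Pi1.IsCompleteIntersection A ∧
        ∃ (S : Type u) (_ : CommRing S) (_ : IsNoetherianRing S) (_ : IsLocalRing S) (_ : Algebra A S)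
          (_ : Module.Flat A S)
          (_ : IsRegularLocalRing (S ⧸ Ideal.map (algebraMap A S) (maximalIdeal A)))
          (g : S →ₐ[A] B), Function.Surjective g ∧
            ∃ rs : List S, Ideal.ofList rs = RingHom.ker g ∧ IsRegular S rs) := by
  constructor
  · rintro ⟨hB, hfin⟩
    obtain ⟨R, S, _, _, ρ, σ, τ, hR, hS, hflat, hloc, ⟨_, hfib⟩, hσ, hτ, hcomm⟩ :=
      CohenFactor.exists_factor (algebraMap A B)
    letI : Algebra R S := ρ.toAlgebra
    letI : Algebra R A := σ.toAlgebra
    letI : Algebra S B := τ.toAlgebra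
    letI : Algebra R B := ((algebraMap A B).comp σ).toAlgebra
    have : IsScalarTower R A B := .of_algebraMap_eq' rfl
    have : IsScalarTower R S B := .of_algebraMap_eq' hcomm.symm
    have : IsLocalHom (algebraMap R S) := hloc
    have : Module.Flat R S := hflat
    have : IsRegularLocalRing (S ⧸ (maximalIdeal R).map (algebraMap R S)) := hfib
    have hI : RingHom.ker (algebraMap R A) ≠ ⊤ := RingHom.ker_ne_top _
    have hJ : RingHom.ker (algebraMap S B) ≠ ⊤ := RingHom.ker_ne_top _
    have hIJ : (RingHom.ker (algebraMap R A)).map (algebraMap R S) ≤ RingHom.ker (algebraMap S B) :=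
      Ideal.map_le_iff_le_comap.2 fun x hx => by
        rw [Ideal.mem_comap, RingHom.mem_ker, ← IsScalarTower.algebraMap_apply R S B,
          IsScalarTower.algebraMap_apply R A B, show algebraMap R A x = 0 from hx, map_zero]
    obtain ⟨b, hb⟩ := hfin.bddAbove
    have hsub : Subsingleton (DRing.Tor A (b + 1) B (ResidueField A)) := by
      by_contra hc
      have := hb hc
      omega
    have hJreg : CInt.IsRegularIdeal (RingHom.ker (algebraMap S B)) :=
      (CIPresentation.isCompleteIntersection_iff (algebraMap S B) hτ).1 hB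
    obtain ⟨js, hjs, hjsJ⟩ := hJreg
    obtain ⟨⟨is, hisI, his⟩, ts, htsJ, hts⟩ := RelativeCI.regular_of_dim_of_surjective (A := A) (B := B)
      hσ hτ rfl rfl hI hJ hIJ ⟨js, hjsJ, hjs⟩ b
      (EGA43.PdFlat.dim_of_isZero_tor _ (@ModuleCat.isZero_of_subsingleton _ _ _ hsub))
    refine ⟨(CIPresentation.isCompleteIntersection_iff (algebraMap R A) hσ).2 ⟨is, his, hisI⟩, ?_⟩
    let IS := (RingHom.ker (algebraMap R A)).map (algebraMap R S)
    have : Nontrivial (S ⧸ IS) := Ideal.Quotient.nontrivial_iff.2 (ne_top_of_le_ne_top hJ hIJ)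
    have : IsLocalRing (S ⧸ IS) := .of_surjective' _ Ideal.Quotient.mk_surjective
    let eA : A ≃+* R ⧸ RingHom.ker (algebraMap R A) := (RingHom.quotientKerEquivOfSurjective hσ).symm
    letI : Algebra A (S ⧸ IS) := ((algebraMap (R ⧸ RingHom.ker (algebraMap R A)) (S ⧸ IS)).comp
      eA.toRingHom).toAlgebra
    have hAT : ∀ x, algebraMap A (S ⧸ IS) (algebraMap R A x) = Ideal.Quotient.mk _ (algebraMap R S x) := fun x => by
      have : eA (algebraMap R A x) = Ideal.Quotient.mk _ x := by
        rw [RingEquiv.symm_apply_eq]; rfl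
      show algebraMap (R ⧸ RingHom.ker (algebraMap R A)) (S ⧸ IS) (eA (algebraMap R A x)) = _
      rw [this]
      rfl
    have hflat' : Module.Flat A (S ⧸ IS) :=
      haveI : Module.Flat (R ⧸ RingHom.ker (algebraMap R A)) (S ⧸ IS) := RelativeCI.flat_quotient
      RingHom.Flat.comp (f := eA.toRingHom) (g := algebraMap (R ⧸ RingHom.ker (algebraMap R A)) (S ⧸ IS))
        (.of_bijective eA.bijective) (RingHom.flat_algebraMap_iff.2 inferInstance)
    have hmap : (maximalIdeal A).map (algebraMap A (S ⧸ IS)) =
        ((maximalIdeal R).map (algebraMap R S)).map (Ideal.Quotient.mk _) := by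
      rw [← IsLocalRing.map_maximalIdeal_of_surjective (algebraMap R A) hσ, Ideal.map_map, Ideal.map_map,
        show (algebraMap A (S ⧸ IS)).comp (algebraMap R A) =
          (Ideal.Quotient.mk _).comp (algebraMap R S) from RingHom.ext hAT]
    let e : (S ⧸ (maximalIdeal R).map (algebraMap R S)) ≃+*
        ((S ⧸ IS) ⧸ (maximalIdeal A).map (algebraMap A (S ⧸ IS))) :=
      (((Ideal.quotEquivOfEq hmap).trans ((DoubleQuot.quotQuotEquivQuotSup _ _).trans
        (Ideal.quotEquivOfEq (sup_eq_right.2 (Ideal.map_mono (le_maximalIdeal hI))))))).symm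
    let g : S ⧸ IS →ₐ[A] B :=
      { Ideal.Quotient.lift IS (algebraMap S B) fun x hx => hIJ hx with
        commutes' := fun a => by
          obtain ⟨x, rfl⟩ := hσ a
          show Ideal.Quotient.lift IS (algebraMap S B) _
            (algebraMap A (S ⧸ IS) (algebraMap R A x)) = algebraMap A B (algebraMap R A x)
          rw [hAT, ← IsScalarTower.algebraMap_apply R A B]
          show algebraMap S B (algebraMap R S x) = _
          rw [← IsScalarTower.algebraMap_apply R S B] }
    refine ⟨S ⧸ IS, inferInstance, inferInstance, inferInstance, inferInstance, hflat',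
      IsRegularLocalRing.of_ringEquiv e, g,
      Ideal.Quotient.lift_surjective_of_surjective _ _ hτ, ts, ?_, hts⟩
    rw [htsJ, ← Ideal.ker_quotient_lift _ fun x hx => hIJ hx]
    rfl
  · rintro ⟨hA, S, _, _, _, _, _, hfib, g, hg, rs, hrsJ, hrs⟩
    letI : Algebra S B := g.toRingHom.toAlgebra
    have : IsScalarTower A S B := .of_algebraMap_eq fun a => (g.commutes a).symm
    have : IsLocalHom (algebraMap A S) := ⟨fun a ha => IsUnit.of_map (algebraMap A B) a <| by
      rw [IsScalarTower.algebraMap_apply A S B]; exact ha.map _⟩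
    refine ⟨isCompleteIntersection_of_quotient g.toRingHom hg
      (AvramovCI.avramov.2 ⟨hA, isCompleteIntersection_of_regularLocal⟩) ⟨rs, hrs, hrsJ⟩, ?_⟩
    have hT := CAlgH3.pd_one_iff.2 (inferInstance : Module.Projective S S)
    have hpd := RelativeTorDim.pd_quotient rs _ hrs.toIsWeaklyRegular hT
    let π : S →ₐ[S] B := Algebra.ofId _ _
    have hπ : Function.Surjective π := hg
    have hk : Ideal.ofList rs • (⊤ : Submodule S S) = LinearMap.ker π.toLinearMap := by
      rw [smul_eq_mul, Ideal.mul_top, hrsJ]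
      rfl
    have hpdB := (CAlgH3.pd_congr ((Submodule.quotEquivOfEq _ _ hk).trans
      (π.toLinearMap.quotKerEquivOfSurjective hπ))).1 hpd
    rw [Nat.add_comm] at hpdB
    refine (Set.finite_Iic rs.length).subset fun p hp => ?_
    by_contra hc
    exact hp (RelativeTorDim.hasTorDimLE_of_flatDimLE
      (RelativeTorDim.flatDimLE_of_pd _ hpdB).restrictScalars _ p (by simpa using hc))

end Groth.Agent.CAlgH.CIHom
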