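import Mathlib

/-! The conormal map at a residue field. -/
universe u
open KaehlerDifferential TensorProduct

namespace Groth.Agent.CAlgH

theorem kerCotangentToTensor_injective_of_formallySmooth (k R K : Type u) [CommRing k] [CommRing R] [CommRing K]
    [Algebra k R] [Algebra k K] [Algebra R K] [IsScalarTower k R K] (hs : Function.Surjective (algebraMap R K))
    [Algebra.FormallySmooth k K] : Function.Injective (kerCotangentToTensor k R K) := by
  let f := (IsScalarTower.toAlgHom k R K).kerSquareLift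
  have hf : Function.Surjective f := fun y => by
    obtain ⟨x, rfl⟩ := hs y
    exact ⟨Ideal.Quotient.mk _ x, rfl⟩
  have hnil : IsNilpotent (RingHom.ker (f : (R ⧸ RingHom.ker (IsScalarTower.toAlgHom k R K).toRingHom ^ 2) →+* K)) :=
    ⟨2, by
      change RingHom.ker (IsScalarTower.toAlgHom k R K).kerSquareLift.toRingHom ^ 2 = 0
      rw [AlgHom.ker_kerSquareLift]; exact Ideal.cotangentIdeal_square _⟩
  obtain ⟨l, hl⟩ := (retractionKerCotangentToTensorEquivSection (R := k) hs).symm
    ⟨Algebra.FormallySmooth.liftOfSurjective (AlgHom.id k K) f hf hnil,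
      Algebra.FormallySmooth.comp_liftOfSurjective _ _ _ _⟩
  exact Function.LeftInverse.injective (LinearMap.congr_fun hl)

theorem finrank_tensor_kaehler_eq_finrank_cotangent (k S : Type u) [Field k] [CommRing S] [Algebra k S]
    (m : Ideal S) [m.IsMaximal] (hk : Function.Bijective (algebraMap k (S ⧸ m))) :
    Module.finrank (S ⧸ m) ((S ⧸ m) ⊗[S] Ω[S⁄k]) = Module.finrank (S ⧸ m) m.Cotangent := by
  let e : k ≃ₐ[k] S ⧸ m := AlgEquiv.ofBijective (Algebra.ofId k (S ⧸ m)) hk
  haveI : Algebra.FormallySmooth k (S ⧸ m) := Algebra.FormallySmooth.of_equiv e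
  haveI : Subsingleton Ω[(S ⧸ m)⁄k] := KaehlerDifferential.subsingleton_of_surjective _ _ hk.2
  have hinj := kerCotangentToTensor_injective_of_formallySmooth k S (S ⧸ m) Ideal.Quotient.mk_surjective
  have hsurj : Function.Surjective (kerCotangentToTensor k S (S ⧸ m)) := fun z =>
    (exact_kerCotangentToTensor_mapBaseChange k S (S ⧸ m) Ideal.Quotient.mk_surjective z).mp (Subsingleton.elim _ _)
  have key : ∀ (I : Ideal S) (_ : I = m) (φ : I.Cotangent →ₗ[S] (S ⧸ m) ⊗[S] Ω[S⁄k]), Function.Bijective φ →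
      ∃ ψ : m.Cotangent →ₗ[S] (S ⧸ m) ⊗[S] Ω[S⁄k], Function.Bijective ψ := fun I hI φ hφ => by subst hI; exact ⟨φ, hφ⟩
  obtain ⟨ψ, hψ⟩ := key _ Ideal.mk_ker _ ⟨hinj, hsurj⟩
  exact (LinearEquiv.ofBijective (LinearMap.extendScalarsOfSurjective (Ideal.Quotient.mk_surjective (I := m)) ψ) hψ).finrank_eq.symm

end Groth.Agent.CAlgH
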