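import Mathlib
import Groth.Prelude.Def_Found
import Groth.Agent.CAlgH.Nagata
import Groth.Agent.CAlgH.NagataBase

/-! `R` N-1 (N-2) implies `R[X]` N-1 (N-2). -/
universe u
open CAlg Polynomial

namespace Groth.Agent.CAlgH

/-- A finite normal algebra bounds the integral closure. -/
theorem fin_ic_of_normal {A B F : Type u} [CommRing A] [IsNoetherianRing A] [CommRing B] [IsDomain B] [Field F]
    [Algebra A B] [Algebra B F] [Algebra A F] [IsScalarTower A B F] [Module.Finite A B] [IsFractionRing B F]
    [IsIntegrallyClosed B] : Module.Finite A (integralClosure A F) := by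
  have h1 : Module.Finite A (Submodule.map (IsScalarTower.toAlgHom A B F).toLinearMap ⊤) := inferInstance
  have hle : Subalgebra.toSubmodule (integralClosure A F) ≤ Submodule.map (IsScalarTower.toAlgHom A B F).toLinearMap ⊤ := by
    intro z hz
    obtain ⟨b, hb⟩ := IsIntegrallyClosed.isIntegral_iff.mp (IsIntegral.tower_top (A := B) (hz : IsIntegral A z))
    exact ⟨b, trivial, hb⟩
  exact Module.Finite.of_injective (Submodule.inclusion hle) (Submodule.inclusion_injective hle)

theorem isFractionRing_polynomial (C L : Type u) [CommRing C] [IsDomain C] [Field L] [Algebra C L] [IsFractionRing C L]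
    (M : Type u) [Field M] [Algebra L[X] M] [IsFractionRing L[X] M] [Algebra C[X] M]
    (h : ∀ p : C[X], algebraMap C[X] M p = algebraMap L[X] M (p.map (algebraMap C L))) :
    IsFractionRing C[X] M := by
  letI : Algebra C[X] L[X] := (Polynomial.mapRingHom (algebraMap C L)).toAlgebra
  haveI : IsLocalization ((nonZeroDivisors C).map (Polynomial.C : C →+* C[X])) L[X] :=
    Polynomial.isLocalization (nonZeroDivisors C) L
  haveI : IsScalarTower C[X] L[X] M := IsScalarTower.of_algebraMap_eq fun p => h p
  haveI : FaithfulSMul C[X] M := (faithfulSMul_iff_algebraMap_injective _ _).mpr fun a b hab =>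
    Polynomial.map_injective (algebraMap C L) (IsFractionRing.injective C L)
      (IsFractionRing.injective L[X] M (by rw [← h a, ← h b, hab]))
  refine IsFractionRing.of_field C[X] M fun z => ?_
  obtain ⟨x, y, hy, rfl⟩ := IsFractionRing.div_surjective L[X] z
  let S := (nonZeroDivisors C).map (Polynomial.C : C →+* C[X])
  obtain ⟨⟨a, s⟩, ha⟩ := IsLocalization.surj S x
  obtain ⟨⟨b, t⟩, hb⟩ := IsLocalization.surj S y
  have hne : ∀ u : S, algebraMap L[X] M (algebraMap C[X] L[X] u) ≠ 0 := fun u =>
    (map_ne_zero_iff _ (IsFractionRing.injective L[X] M)).mpr (IsLocalization.map_units L[X] u).ne_zero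
  refine ⟨a * t, b * s, ?_⟩
  rw [IsScalarTower.algebraMap_apply C[X] L[X] M, IsScalarTower.algebraMap_apply C[X] L[X] M, map_mul, map_mul,
    map_mul, map_mul, ← ha, ← hb, map_mul, map_mul]
  have := hne s; have := hne t
  have : algebraMap L[X] M y ≠ 0 := (map_ne_zero_iff _ (IsFractionRing.injective L[X] M)).mpr (nonZeroDivisors.ne_zero hy)
  field_simp

/-- `R[X]` has finite integral closure in `L(Y)`, `Y ^ Q = X`, if `R` has finite integral closure in `L`. -/
theorem fin_ic_polynomial {R K L : Type u} [CommRing R] [IsDomain R] [IsNoetherianRing R] [Field K] [Algebra R K]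
    [IsFractionRing R K] [Field L] [Algebra R L] [Algebra K L] [IsScalarTower R K L] [FiniteDimensional K L]
    (hfin : Module.Finite R (integralClosure R L)) {Q : ℕ} (hQ : 0 < Q) {M : Type u} [Field M]
    [Algebra L[X] M] [IsFractionRing L[X] M] [Algebra R[X] M]
    (h : ∀ p : R[X], algebraMap R[X] M p =
      algebraMap L[X] M (Polynomial.expand L Q (p.map (algebraMap R L)))) :
    Module.Finite R[X] (integralClosure R[X] M) := by
  let C := integralClosure R L
  haveI : IsFractionRing C L := IsIntegralClosure.isFractionRing_of_finite_extension R K L C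
  haveI : IsIntegrallyClosed C := integralClosure.isIntegrallyClosedOfFiniteExtension K
  haveI : Module.Finite R C := hfin
  let η : R[X] →+* C[X] := ((Polynomial.expand C Q).toRingHom).comp (Polynomial.mapRingHom (algebraMap R C))
  letI aRC : Algebra R[X] C[X] := η.toAlgebra
  letI aCM : Algebra C[X] M :=
    ((algebraMap L[X] M).comp (Polynomial.mapRingHom (algebraMap C L))).toAlgebra
  haveI : IsScalarTower R[X] C[X] M := IsScalarTower.of_algebraMap_eq fun p => by
    rw [h p]
    show _ = algebraMap L[X] M ((Polynomial.expand C Q (p.map (algebraMap R C))).map (algebraMap C L))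
    rw [Polynomial.map_expand, Polynomial.map_map, ← IsScalarTower.algebraMap_eq]
  haveI : IsFractionRing C[X] M := isFractionRing_polynomial C L M fun _ => rfl
  haveI : IsScalarTower R R[X] C[X] := IsScalarTower.of_algebraMap_eq fun r => by
    show algebraMap R C[X] r = η (Polynomial.C r)
    simp [η, Polynomial.algebraMap_eq, IsScalarTower.algebraMap_apply R C C[X]]
  haveI : Algebra.FiniteType R C[X] := Algebra.FiniteType.trans (S := C) inferInstance inferInstance
  haveI : Algebra.FiniteType R[X] C[X] := Algebra.FiniteType.of_restrictScalars_finiteType R R[X] C[X]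
  have hX : IsIntegral R[X] (Polynomial.X : C[X]) := IsIntegral.of_pow hQ (by
    have : algebraMap R[X] C[X] Polynomial.X = Polynomial.X ^ Q := by
      show η Polynomial.X = _
      simp [η]
    exact this ▸ isIntegral_algebraMap)
  haveI : Algebra.IsIntegral R[X] C[X] := ⟨fun f => by
    induction f using Polynomial.induction_on' with
    | add a b ha hb => exact ha.add hb
    | monomial n c =>
      rw [← Polynomial.C_mul_X_pow_eq_monomial]
      refine IsIntegral.mul (IsIntegral.tower_top (R := R) ?_) (hX.pow n)
      exact IsIntegral.map (IsScalarTower.toAlgHom R C C[X]) (Algebra.IsIntegral.isIntegral (R := R) c)⟩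
  haveI : Module.Finite R[X] C[X] := Algebra.IsIntegral.finite
  exact fin_ic_of_normal (B := C[X])

theorem isN1_polynomial {R : Type u} [CommRing R] [IsDomain R] [IsNoetherianRing R] (hR : IsN1 R) :
    IsN1 R[X] := by
  let K := FractionRing R
  letI : Algebra R[X] (FractionRing K[X]) :=
    ((algebraMap K[X] (FractionRing K[X])).comp (Polynomial.mapRingHom (algebraMap R K))).toAlgebra
  haveI : IsFractionRing R[X] (FractionRing K[X]) := isFractionRing_polynomial R K (FractionRing K[X]) fun _ => rfl
  refine (isN1_iff_finite (FractionRing K[X])).mpr ?_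
  exact fin_ic_polynomial (K := K) (L := K) ((isN1_iff_finite K).mp hR) one_pos fun p => by
    rw [Polynomial.expand_one]; rfl

theorem nonempty_algHom_of_roots {F L M : Type u} [Field F] [Field L] [Field M] [Algebra F L] [Algebra F M]
    [FiniteDimensional F L] {q N : ℕ} [ExpChar M q] (hL : ∀ a : L, a ^ q ^ N ∈ (algebraMap F L).range)
    (hM : ∀ i, ∃ β : M, ∀ f : F, algebraMap F L f = Module.finBasis F L i ^ q ^ N → β ^ q ^ N = algebraMap F M f) :
    Nonempty (L →ₐ[F] M) := by
  refine IntermediateField.nonempty_algHom_of_adjoin_splits (S := Set.range (Module.finBasis F L)) (fun s hs => ?_) ?_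
  · refine ⟨Algebra.IsIntegral.isIntegral s, ?_⟩
    obtain ⟨i, rfl⟩ := hs
    obtain ⟨f, hf⟩ := hL (Module.finBasis F L i)
    obtain ⟨β, hβ⟩ := hM i
    have h1 : minpoly F (Module.finBasis F L i) ∣ Polynomial.X ^ q ^ N - Polynomial.C f :=
      minpoly.dvd F _ (by simp [hf])
    have h2 : (Polynomial.X ^ q ^ N - Polynomial.C f).map (algebraMap F M) = (Polynomial.X - Polynomial.C β) ^ q ^ N := by
      rw [Polynomial.map_sub, Polynomial.map_pow, Polynomial.map_X, Polynomial.map_C, sub_pow_expChar_pow,
        ← map_pow, hβ f hf]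
    refine Polynomial.Splits.of_dvd ?_ (Polynomial.map_ne_zero
      (Polynomial.X_pow_sub_C_ne_zero (pow_pos (expChar_pos M q) N) f)) (Polynomial.map_dvd (algebraMap F M) h1)
    rw [h2]
    exact (Polynomial.Splits.X_sub_C β).pow _
  · rw [eq_top_iff]
    intro x _
    rw [← (Module.finBasis F L).sum_repr x]
    refine sum_mem fun i _ => ?_
    exact IntermediateField.smul_mem _ (IntermediateField.subset_adjoin F _ (Set.mem_range_self i))

theorem expand_eq_pow {K : Type u} [Field K] (L : Type u) [Field L] [Algebra K L] {q : ℕ} [ExpChar L q] (N : ℕ)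
    (root : K → L) (p : K[X]) (h : ∀ j, root (p.coeff j) ^ q ^ N = algebraMap K L (p.coeff j)) :
    ∃ g : L[X], g ^ q ^ N = Polynomial.expand L (q ^ N) (p.map (algebraMap K L)) := by
  haveI : ExpChar L[X] q := expChar_of_injective_ringHom Polynomial.C_injective q
  refine ⟨∑ j ∈ Finset.range (p.natDegree + 1), Polynomial.C (root (p.coeff j)) * Polynomial.X ^ j, ?_⟩
  rw [sum_pow_char_pow]
  conv_rhs => rw [Polynomial.as_sum_range_C_mul_X_pow p, Polynomial.map_sum, map_sum]
  refine Finset.sum_congr rfl fun j _ => ?_
  simp only [mul_pow, ← map_pow, h j, Polynomial.map_mul, Polynomial.map_C, Polynomial.map_pow, Polynomial.map_X,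
    map_mul, Polynomial.expand_C, Polynomial.expand_X]
  simp only [map_pow, Polynomial.expand_X, ← pow_mul, mul_comm j]

theorem isN2_polynomial {R : Type u} [CommRing R] [IsDomain R] [IsNoetherianRing R] (hR : IsN2 R) :
    IsN2 R[X] := by
  classical
  let K := FractionRing R
  letI aF : Algebra R[X] (FractionRing K[X]) :=
    ((algebraMap K[X] (FractionRing K[X])).comp (Polynomial.mapRingHom (algebraMap R K))).toAlgebra
  haveI : IsFractionRing R[X] (FractionRing K[X]) := isFractionRing_polynomial R K (FractionRing K[X]) fun _ => rfl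
  let F := FractionRing K[X]
  refine isN2_of_purelyInseparable F fun L _ _ _ _ _ _ => ?_
  obtain ⟨q, _⟩ := ExpChar.exists K
  haveI : ExpChar F q := expChar_of_injective_ringHom (f := (algebraMap K[X] F).comp (Polynomial.C : K →+* K[X]))
    ((IsFractionRing.injective K[X] F).comp Polynomial.C_injective) q
  let b := Module.finBasis F L
  choose e he using fun i => IsPurelyInseparable.pow_mem F q (b i)
  let N := Finset.univ.sup e
  haveI : ExpChar L q := expChar_of_injective_ringHom (algebraMap F L).injective q
  have hN : ∀ a : L, a ^ q ^ N ∈ (algebraMap F L).range := by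
    intro a
    rw [← b.sum_repr a, sum_pow_char_pow]
    refine Subring.sum_mem _ fun i _ => ?_
    obtain ⟨c, hc⟩ := he i
    refine ⟨b.repr a i ^ q ^ N * c ^ q ^ (N - e i), ?_⟩
    rw [map_mul, map_pow, map_pow, hc, ← pow_mul, ← pow_add, Nat.add_sub_cancel' (Finset.le_sup (Finset.mem_univ i)),
      Algebra.smul_def, mul_pow]
  choose f hf using fun i => hN (b i)
  choose g d hd hgd using fun i => IsFractionRing.div_surjective K[X] (f i)
  let Ω := AlgebraicClosure K
  have hroot : ∀ c : K, ∃ z : Ω, z ^ q ^ N = algebraMap K Ω c := fun c =>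
    IsAlgClosed.exists_pow_nat_eq _ (pow_pos (expChar_pos K q) N)
  choose root hroot using hroot
  let coeffs : Set K := ⋃ i, (↑(g i).coeffs ∪ ↑(d i).coeffs ∪ {0})
  have hfinS : (root '' coeffs).Finite := (Set.finite_iUnion fun i => ((Finset.finite_toSet _).union (Finset.finite_toSet _)).union (Set.finite_singleton 0)).image _
  let L' := IntermediateField.adjoin K (root '' coeffs)
  haveI : Finite (root '' coeffs) := hfinS.to_subtype
  haveI : FiniteDimensional K L' := IntermediateField.finiteDimensional_adjoin fun x _ => Algebra.IsIntegral.isIntegral x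
  haveI : ExpChar L' q := expChar_of_injective_ringHom (algebraMap K L').injective q
  have hC : Module.Finite R (integralClosure R L') := isN2_apply hR K L'
  let M := FractionRing L'[X]
  let ψ : R[X] →+* M := ((algebraMap L'[X] M).comp
    ((Polynomial.expand L' (q ^ N)).toRingHom)).comp (Polynomial.mapRingHom (algebraMap R L'))
  have hψ : Function.Injective ψ := ((IsFractionRing.injective L'[X] M).comp
    (Polynomial.expand_injective (pow_pos (expChar_pos K q) N))).comp
    (Polynomial.map_injective _ (by rw [IsScalarTower.algebraMap_eq R K L']; exact (algebraMap K L').injective.comp (IsFractionRing.injective R K)))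
  letI aRM : Algebra R[X] M := ψ.toAlgebra
  letI aFM : Algebra F M := (IsFractionRing.lift (g := ψ) hψ).toAlgebra
  haveI : IsScalarTower R[X] F M := IsScalarTower.of_algebraMap_eq fun p => (IsFractionRing.lift_algebraMap hψ p).symm
  have hKX : (algebraMap F M).comp (algebraMap K[X] F) = ((algebraMap L'[X] M).comp
      (Polynomial.expand L' (q ^ N)).toRingHom).comp (Polynomial.mapRingHom (algebraMap K L')) := by
    letI : Algebra R[X] K[X] := (Polynomial.mapRingHom (algebraMap R K)).toAlgebra
    haveI : IsLocalization ((nonZeroDivisors R).map (Polynomial.C : R →+* R[X])) K[X] :=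
      Polynomial.isLocalization (nonZeroDivisors R) K
    refine IsLocalization.ringHom_ext ((nonZeroDivisors R).map (Polynomial.C : R →+* R[X])) ?_
    refine RingHom.ext fun p => ?_
    show algebraMap F M (algebraMap R[X] F p) = algebraMap L'[X] M (Polynomial.expand L' (q ^ N) ((p.map (algebraMap R K)).map (algebraMap K L')))
    rw [← IsScalarTower.algebraMap_apply, Polynomial.map_map, ← IsScalarTower.algebraMap_eq]
    rfl
  haveI : ExpChar M q := expChar_of_injective_ringHom (algebraMap F M).injective q
  have hcoef : ∀ i j, root ((g i).coeff j) ∈ L' ∧ root ((d i).coeff j) ∈ L' := fun i j => by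
    have key : ∀ p : K[X], (∀ c ∈ p.coeffs, c ∈ coeffs) → root (p.coeff j) ∈ L' := fun p hp => by
      refine IntermediateField.subset_adjoin K _ ⟨_, ?_, rfl⟩
      by_cases h0 : p.coeff j = 0
      · exact Set.mem_iUnion.mpr ⟨i, Or.inr h0⟩
      · exact hp _ (Polynomial.coeff_mem_coeffs h0)
    exact ⟨key _ fun c hc => Set.mem_iUnion.mpr ⟨i, Or.inl (Or.inl hc)⟩,
      key _ fun c hc => Set.mem_iUnion.mpr ⟨i, Or.inl (Or.inr hc)⟩⟩
  let root' : K → L' := fun c => if hc : root c ∈ L' then ⟨root c, hc⟩ else 0
  have hroot' : ∀ c, root c ∈ L' → root' c ^ q ^ N = algebraMap K L' c := fun c hc => by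
    refine Subtype.ext ?_
    simp only [root', dif_pos hc, SubmonoidClass.coe_pow]
    exact hroot c
  obtain ⟨ι⟩ := nonempty_algHom_of_roots (F := F) (L := L) (M := M) hN fun i => by
    obtain ⟨g', hg'⟩ := expand_eq_pow L' N root' (g i) fun j => hroot' _ (hcoef i j).1
    obtain ⟨d', hd'⟩ := expand_eq_pow L' N root' (d i) fun j => hroot' _ (hcoef i j).2
    refine ⟨algebraMap L'[X] M g' / algebraMap L'[X] M d', fun f' hf' => ?_⟩
    have : f' = f i := (algebraMap F L).injective (hf'.trans (hf i).symm)
    rw [this, ← hgd i, map_div₀, div_pow, ← map_pow, ← map_pow, hg', hd']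
    exact congrArg₂ (· / ·) (DFunLike.congr_fun hKX (g i)).symm (DFunLike.congr_fun hKX (d i)).symm
  have h3 : Module.Finite R[X] (integralClosure R[X] M) :=
    fin_ic_polynomial (K := K) (L := L') hC (pow_pos (expChar_pos K q) N) fun p => rfl
  exact fin_ic_of_tower (ι.restrictScalars R[X]) ι.injective h3

end Groth.Agent.CAlgH
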