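import Mathlib
import Groth.Prelude.Def_Found
import Groth.Agent.CAlgH.Nagata

/-! Normal locus and N-1 via the Grauert-Remmert criterion. -/
universe u
open CAlg

namespace Groth.Agent.CAlgH

variable {R K : Type u} [CommRing R] [IsDomain R] [IsNoetherianRing R] [Field K] [Algebra R K] [IsFractionRing R K]

/-- `A` contains the integral closure of `R` locally at `p`. -/
def ClosedAt (A : Subalgebra R K) (p : Ideal R) : Prop :=
  ∀ c : K, IsIntegral R c → ∃ s : R, s ∉ p ∧ s • c ∈ A

theorem closedAt_mono {A B : Subalgebra R K} (h : A ≤ B) {p : Ideal R} (hA : ClosedAt A p) : ClosedAt B p :=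
  fun c hc => let ⟨s, hs, hsc⟩ := hA c hc; ⟨s, hs, h hsc⟩

theorem isOpen_closedAt (A : Subalgebra R K) (hA : Module.Finite R A) {f : R} (hf : f ≠ 0)
    (hfA : ∀ c : K, IsIntegral R c → ∃ n : ℕ, f ^ n • c ∈ A) :
    IsOpen {p : PrimeSpectrum R | ClosedAt A p.asIdeal} := by
  classical
  haveI := hA
  have : IsNoetherianRing A := IsNoetherianRing.of_finite R A
  have hint : ∀ a ∈ A, IsIntegral R a := fun a ha =>
    (IsIntegral.of_finite R (⟨a, ha⟩ : A)).map A.val
  have hAfg : (Subalgebra.toSubmodule A).FG := Module.Finite.iff_fg.mp hA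
  let fA : A := algebraMap R A f
  let J : Ideal A := (Ideal.span {fA}).radical
  let Jm : Submodule R K := (J.restrictScalars R).map A.val.toLinearMap
  have hJle : Jm ≤ Subalgebra.toSubmodule A := by rintro _ ⟨a, -, rfl⟩; exact a.2
  have hfJm : algebraMap R K f ∈ Jm := ⟨fA, Ideal.le_radical (Ideal.mem_span_singleton_self _), rfl⟩
  have hf0 : algebraMap R K f ≠ 0 := (map_ne_zero_iff _ (IsFractionRing.injective R K)).mpr hf
  have hJfg : Jm.FG := by
    have := isNoetherian_of_fg_of_noetherian _ hAfg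
    exact Submodule.FG.of_le hAfg hJle
  let E : Submodule R K :=
    { carrier := {y | ∀ j ∈ Jm, y * j ∈ Jm}
      add_mem' := fun {a b} ha hb j hj => by rw [add_mul]; exact Jm.add_mem (ha j hj) (hb j hj)
      zero_mem' := fun j _ => by rw [zero_mul]; exact Jm.zero_mem
      smul_mem' := fun r a ha j hj => by rw [smul_mul_assoc]; exact Jm.smul_mem r (ha j hj) }
  have hEint : ∀ y ∈ E, IsIntegral R y := fun y hy =>
    isIntegral_of_smul_mem_submodule (M := K) Jm
      (fun h => hf0 (by simpa [h] using hfJm)) hJfg y (fun j hj => hy j hj)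
  have hEfg : E.FG := by
    apply Submodule.fg_of_fg_map_injective (LinearMap.mulRight R (algebraMap R K f)) (mul_left_injective₀ hf0)
    have := isNoetherian_of_fg_of_noetherian _ hJfg
    exact Submodule.FG.of_le hJfg (by rintro _ ⟨y, hy, rfl⟩; exact hy _ hfJm)
  obtain ⟨g, hg⟩ := hEfg
  have key : {p : PrimeSpectrum R | ClosedAt A p.asIdeal} =
      ⋂ y ∈ g, {p : PrimeSpectrum R | ∃ s : R, s ∉ p.asIdeal ∧ s • y ∈ A} := by
    ext p
    simp only [Set.mem_iInter, Set.mem_setOf_eq]
    refine ⟨fun h y hy => h y (hEint y (hg.le (Submodule.subset_span hy))), fun h c hc => ?_⟩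
    have hE : ∀ y ∈ E, ∃ s : R, s ∉ p.asIdeal ∧ s • y ∈ A := by
      intro y hy
      rw [← hg] at hy
      induction hy using Submodule.span_induction with
      | mem y hy => exact h y hy
      | zero => exact ⟨1, p.2.one_notMem, by simp⟩
      | add a b _ _ ha hb =>
        obtain ⟨s, hs, hsa⟩ := ha; obtain ⟨t, ht, htb⟩ := hb
        refine ⟨s * t, fun h => (p.2.mem_or_mem h).elim hs ht, ?_⟩
        rw [smul_add]
        refine A.add_mem ?_ ?_
        · rw [mul_comm, mul_smul]; exact A.smul_mem hsa t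
        · rw [mul_smul]; exact A.smul_mem htb s
      | smul r a _ ha =>
        obtain ⟨s, hs, hsa⟩ := ha
        exact ⟨s, hs, by rw [smul_comm]; exact A.smul_mem hsa r⟩
    obtain ⟨N, hN⟩ := Ideal.exists_radical_pow_le_of_fg (Ideal.span {fA}) (IsNoetherian.noetherian _)
    obtain ⟨n, hn⟩ := hfA c hc
    have hbase : ∀ u ∈ J ^ (N * n), c * (u : K) ∈ A := by
      intro u hu
      have hu' : u ∈ Ideal.span {fA} ^ n := by
        rw [pow_mul] at hu; exact Ideal.pow_right_mono hN n hu
      rw [Ideal.span_singleton_pow, Ideal.mem_span_singleton'] at hu'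
      obtain ⟨v, rfl⟩ := hu'
      have : c * ((v * fA ^ n : A) : K) = (f ^ n • c) * (v : K) := by
        rw [Algebra.smul_def, map_pow, MulMemClass.coe_mul, SubmonoidClass.coe_pow]
        show c * ((v : K) * algebraMap R K f ^ n) = _
        ring
      rw [this]; exact A.mul_mem hn v.2
    suffices ∀ k, k ≤ N * n → ∃ s : R, s ∉ p.asIdeal ∧ ∀ u ∈ J ^ (N * n - k), (s • c) * (u : K) ∈ A by
      obtain ⟨s, hs, h1⟩ := this (N * n) le_rfl
      exact ⟨s, hs, by simpa using h1 1 (by rw [Nat.sub_self, pow_zero, Ideal.one_eq_top]; trivial)⟩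
    intro k
    induction k with
    | zero => exact fun _ => ⟨1, p.2.one_notMem, fun u hu => by simpa using hbase u hu⟩
    | succ k ih =>
      intro hk
      obtain ⟨s, hs, hsu⟩ := ih (by omega)
      obtain ⟨i, hi⟩ : ∃ i, i = N * n - (k + 1) := ⟨_, rfl⟩
      rw [show N * n - k = i + 1 by omega] at hsu
      rw [← hi]
      obtain ⟨gk, hgk⟩ := IsNoetherian.noetherian (J ^ i : Ideal A)
      have hy : ∀ u ∈ J ^ i, ∃ t : R, t ∉ p.asIdeal ∧ t • ((s • c) * (u : K)) ∈ A := by
        intro u hu
        refine hE _ ?_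
        rintro _ ⟨j, hj, rfl⟩
        have hmemA : (s • c) * (u : K) * (j : K) ∈ A := by
          rw [mul_assoc]; exact hsu (u * j) (by rw [pow_succ]; exact Ideal.mul_mem_mul hu hj)
        refine ⟨⟨_, hmemA⟩, ?_, rfl⟩
        obtain ⟨P, hPm, hP0⟩ : IsIntegral R ((s • c) * (u : K)) := (hc.smul s).mul (hint _ u.2)
        show (⟨_, hmemA⟩ : A) ∈ J
        set y := (s • c) * (u : K)
        obtain ⟨d, hd⟩ : ∃ d, P.natDegree = d := ⟨_, rfl⟩
        have h1 : (⟨_, hmemA⟩ : A) ^ d = - ∑ m ∈ Finset.range d, (P.coeff m) • ((⟨_, hmemA⟩ : A) ^ m * j ^ (d - m)) := by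
          apply Subtype.ext
          simp only [SubmonoidClass.coe_pow, NegMemClass.coe_neg, AddSubmonoidClass.coe_finsetSum, SetLike.val_smul,
            MulMemClass.coe_mul]
          rw [eq_neg_iff_add_eq_zero]
          have h2 : P.eval₂ (algebraMap R K) y * (j : K) ^ d = 0 := by rw [hP0, zero_mul]
          rw [Polynomial.eval₂_eq_sum_range, hd, Finset.sum_range_succ, ← hd, hPm.coeff_natDegree, map_one, one_mul, hd,
            add_mul, Finset.sum_mul, add_comm] at h2
          rw [← h2, mul_pow]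
          congr 1
          refine Finset.sum_congr rfl fun m hm => ?_
          rw [Finset.mem_range] at hm
          show P.coeff m • ((y * (j : K)) ^ m * (j : K) ^ (d - m)) = algebraMap R K (P.coeff m) * y ^ m * (j : K) ^ d
          have hjd : (j : K) ^ d = (j : K) ^ m * (j : K) ^ (d - m) := by rw [← pow_add]; congr 1; omega
          rw [Algebra.smul_def, mul_pow, hjd]
          ring
        have h3 : (⟨_, hmemA⟩ : A) ^ d ∈ J := by
          rw [h1]
          refine J.neg_mem (Ideal.sum_mem _ fun m hm => ?_)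
          rw [Algebra.smul_def]
          refine J.mul_mem_left _ (J.mul_mem_left _ (Ideal.pow_mem_of_mem _ hj _ ?_))
          rw [Finset.mem_range] at hm; omega
        exact (Ideal.radical_isRadical (Ideal.span {fA})) ⟨d, h3⟩
      choose! t ht htu using hy
      have hgmem : ∀ u ∈ gk, u ∈ J ^ i := fun u hu => hgk.le (Submodule.subset_span hu)
      refine ⟨(∏ u ∈ gk, t u) * s, fun h => (p.2.mem_or_mem h).elim (fun h => ?_) hs, fun u hu => ?_⟩
      · obtain ⟨w, hw, hwp⟩ := (p.2.prod_mem_iff (s := gk) (p := p.asIdeal) (x := t)).mp h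
        exact ht w (hgmem w hw) hwp
      · rw [← hgk] at hu
        induction hu using Submodule.span_induction with
        | mem w hw =>
          rw [← Finset.prod_erase_mul gk t hw, mul_smul, mul_smul, smul_mul_assoc, smul_mul_assoc]
          exact A.smul_mem (htu w (hgmem w hw)) _
        | zero => simp
        | add a b _ _ ha hb => rw [AddMemClass.coe_add, mul_add]; exact A.add_mem ha hb
        | smul r a _ ha =>
          rw [smul_eq_mul, MulMemClass.coe_mul, mul_left_comm]
          exact A.mul_mem r.2 ha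
  rw [key]
  refine isOpen_biInter_finset fun y _ => ?_
  have : {p : PrimeSpectrum R | ∃ s : R, s ∉ p.asIdeal ∧ s • y ∈ A} =
      (PrimeSpectrum.zeroLocus (((Subalgebra.toSubmodule A).comap (LinearMap.toSpanSingleton R K y) : Ideal R) : Set R))ᶜ := by
    ext p
    simp only [Set.mem_setOf_eq, Set.mem_compl_iff, PrimeSpectrum.mem_zeroLocus, Set.not_subset]
    exact ⟨fun ⟨s, hs, h⟩ => ⟨s, h, hs⟩, fun ⟨s, h, hs⟩ => ⟨s, hs, h⟩⟩
  rw [this]
  exact (PrimeSpectrum.isClosed_zeroLocus _).isOpen_compl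

theorem isIntegrallyClosed_localization_iff (M : Submonoid R) (S : Type u) [CommRing S] [IsDomain S] [Algebra R S]
    [IsLocalization M S] :
    IsIntegrallyClosed S ↔ ∀ c : K, IsIntegral R c → ∃ s ∈ M, s • c ∈ (⊥ : Subalgebra R K) := by
  obtain ⟨_, _, _⟩ := exists_alg_localization M S K
  rw [isIntegrallyClosed_iff K]
  refine ⟨fun h c hc => ?_, fun h {z} hz => ?_⟩
  · obtain ⟨y, hy⟩ := h (hc.tower_top : IsIntegral S c)
    obtain ⟨⟨r, s⟩, hrs⟩ := IsLocalization.surj M y
    refine ⟨s, s.2, Algebra.mem_bot.mpr ⟨r, ?_⟩⟩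
    have := congrArg (algebraMap S K) hrs
    rw [map_mul, hy, ← IsScalarTower.algebraMap_apply, ← IsScalarTower.algebraMap_apply] at this
    rw [Algebra.smul_def, ← this, mul_comm]
  · obtain ⟨m, hm⟩ := IsIntegral.exists_multiple_integral_of_isLocalization M z hz
    obtain ⟨s, hs, hsz⟩ := h _ hm
    obtain ⟨r, hr⟩ := Algebra.mem_bot.mp hsz
    refine ⟨IsLocalization.mk' S r (⟨s, hs⟩ * m), ?_⟩
    have hne : algebraMap R K (s * m) ≠ 0 := by
      rw [IsScalarTower.algebraMap_apply R S K]
      exact ((IsLocalization.map_units S (⟨s, hs⟩ * m)).map (algebraMap S K)).ne_zero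
    apply mul_left_cancel₀ hne
    have h1 := congrArg (algebraMap S K) (IsLocalization.mk'_spec' S r (⟨s, hs⟩ * m))
    rw [map_mul, ← IsScalarTower.algebraMap_apply, ← IsScalarTower.algebraMap_apply, Submonoid.coe_mul] at h1
    rw [h1, hr]
    show (s : R) • ((m : R) • z) = _
    rw [smul_smul, Algebra.smul_def]

theorem closedAt_bot_iff (p : Ideal R) [p.IsPrime] :
    ClosedAt (⊥ : Subalgebra R K) p ↔ IsIntegrallyClosed (Localization.AtPrime p) :=
  (isIntegrallyClosed_localization_iff p.primeCompl (Localization.AtPrime p)).symm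

theorem exists_pow_smul_mem_bot {f : R} (hf : f ≠ 0) (hn : IsIntegrallyClosed (Localization.Away f)) (c : K)
    (hc : IsIntegral R c) : ∃ n : ℕ, f ^ n • c ∈ (⊥ : Subalgebra R K) := by
  have : IsDomain (Localization.Away f) := IsLocalization.isDomain_localization (powers_le_nonZeroDivisors_of_noZeroDivisors hf)
  obtain ⟨_, ⟨n, rfl⟩, h⟩ := (isIntegrallyClosed_localization_iff (Submonoid.powers f) (Localization.Away f)).mp hn c hc
  exact ⟨n, h⟩

theorem isOpen_normalLocus {f : R} (hf : f ≠ 0) (hn : IsIntegrallyClosed (Localization.Away f)) :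
    IsOpen {p : PrimeSpectrum R | IsIntegrallyClosed (Localization.AtPrime p.asIdeal)} := by
  have : Module.Finite R (⊥ : Subalgebra R (FractionRing R)) :=
    Module.Finite.iff_fg.mpr (Subalgebra.fg_bot_toSubmodule (R := R) (A := FractionRing R))
  have h := isOpen_closedAt (⊥ : Subalgebra R (FractionRing R)) this hf (exists_pow_smul_mem_bot hf hn)
  convert h using 3 with p
  exact (closedAt_bot_iff p.asIdeal).symm

theorem isN1_of_exists_normal_localization {f : R} (hf : f ≠ 0) (hn : IsIntegrallyClosed (Localization.Away f))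
    (hloc : ∀ (m : Ideal R) [m.IsMaximal], IsN1 (Localization.AtPrime m)) : IsN1 R := by
  classical
  let K := FractionRing R
  have hm : ∀ m : MaximalSpectrum R, ∃ g : Finset K, (∀ z ∈ g, IsIntegral R z) ∧
      ClosedAt (Algebra.adjoin R (g : Set K)) m.asIdeal := by
    intro m
    have := m.isMaximal
    obtain ⟨_, _, _⟩ := exists_alg_localization m.asIdeal.primeCompl (Localization.AtPrime m.asIdeal) K
    have h1 := (isN1_iff_finite K).mp (hloc m.asIdeal)
    obtain ⟨g, hg⟩ := (Submodule.fg_top (Subalgebra.toSubmodule (integralClosure (Localization.AtPrime m.asIdeal) K))).mp h1.fg_top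
    have hz : ∀ z ∈ g, ∃ s : m.asIdeal.primeCompl, IsIntegral R ((s : R) • z) := fun z hz =>
      IsIntegral.exists_multiple_integral_of_isLocalization m.asIdeal.primeCompl z
        (hg.le (Submodule.subset_span hz) : z ∈ integralClosure (Localization.AtPrime m.asIdeal) K)
    choose! sz hsz using hz
    refine ⟨g.image (fun z => (sz z : R) • z), fun w hw => ?_, fun c hc => ?_⟩
    · obtain ⟨z, hz, rfl⟩ := Finset.mem_image.mp hw; exact hsz z hz
    have hc1 : c ∈ Submodule.span (Localization.AtPrime m.asIdeal) (g : Set K) := hg.ge (IsIntegral.tower_top hc)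
    clear hc
    induction hc1 using Submodule.span_induction with
    | mem z hz =>
      exact ⟨sz z, (sz z).2, Algebra.subset_adjoin (Finset.mem_coe.mpr (Finset.mem_image_of_mem _ hz))⟩
    | zero => exact ⟨1, m.isMaximal.isPrime.one_notMem, by simp⟩
    | add a b _ _ ha hb =>
      obtain ⟨s, hs, hsa⟩ := ha; obtain ⟨t, ht, htb⟩ := hb
      refine ⟨s * t, fun h => (m.isMaximal.isPrime.mem_or_mem h).elim hs ht, ?_⟩
      rw [smul_add]
      refine Subalgebra.add_mem _ ?_ ?_
      · rw [mul_comm, mul_smul]; exact Subalgebra.smul_mem _ hsa t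
      · rw [mul_smul]; exact Subalgebra.smul_mem _ htb s
    | smul r a _ ha =>
      obtain ⟨s, hs, hsa⟩ := ha
      obtain ⟨⟨r0, t⟩, hrt⟩ := IsLocalization.surj m.asIdeal.primeCompl r
      refine ⟨t * s, fun h => (m.isMaximal.isPrime.mem_or_mem h).elim t.2 hs, ?_⟩
      have : ((t : R) * s) • r • a = r0 • s • a := by
        rw [← algebraMap_smul (Localization.AtPrime m.asIdeal) ((t : R) * s), smul_smul, map_mul, mul_right_comm,
          mul_comm (algebraMap R (Localization.AtPrime m.asIdeal) t) r, hrt, ← map_mul, algebraMap_smul, mul_smul]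
      rw [this]; exact Subalgebra.smul_mem _ hsa r0
  choose g hgint hgc using hm
  let A : MaximalSpectrum R → Subalgebra R K := fun m => Algebra.adjoin R (g m : Set K)
  have hAfin : ∀ m, Module.Finite R (A m) := fun m =>
    Module.Finite.iff_fg.mpr (fg_adjoin_of_finite (g m).finite_toSet (hgint m))
  have hfA : ∀ m, ∀ c : K, IsIntegral R c → ∃ n : ℕ, f ^ n • c ∈ A m := fun m c hc =>
    let ⟨n, hn⟩ := exists_pow_smul_mem_bot hf hn c hc; ⟨n, (bot_le : (⊥ : Subalgebra R K) ≤ A m) hn⟩
  let U : MaximalSpectrum R → Set (PrimeSpectrum R) := fun m => {p | ClosedAt (A m) p.asIdeal}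
  have hcov : (Set.univ : Set (PrimeSpectrum R)) ⊆ ⋃ m, U m := by
    intro p _
    obtain ⟨m, hm, hpm⟩ := Ideal.exists_le_maximal p.asIdeal p.2.ne_top
    exact Set.mem_iUnion.mpr ⟨⟨m, hm⟩, fun c hc => let ⟨s, hs, h⟩ := hgc ⟨m, hm⟩ c hc; ⟨s, fun h' => hs (hpm h'), h⟩⟩
  obtain ⟨t, ht⟩ := isCompact_univ.elim_finite_subcover U (fun m => isOpen_closedAt (A m) (hAfin m) hf (hfA m)) hcov
  let B : Subalgebra R K := Algebra.adjoin R ((t.biUnion g : Finset K) : Set K)
  have hBint : ∀ z ∈ ((t.biUnion g : Finset K) : Set K), IsIntegral R z := fun z hz => by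
    obtain ⟨m, _, hz⟩ := Finset.mem_biUnion.mp (Finset.mem_coe.mp hz); exact hgint m z hz
  have hBfg : (Subalgebra.toSubmodule B).FG := fg_adjoin_of_finite (t.biUnion g).finite_toSet hBint
  have : integralClosure R K = B := by
    refine le_antisymm (fun c hc => ?_) (Algebra.adjoin_le hBint)
    let I : Ideal R := (Subalgebra.toSubmodule B).comap (LinearMap.toSpanSingleton R K c)
    have hI : I = ⊤ := by
      by_contra hne
      obtain ⟨q, hq, hIq⟩ := Ideal.exists_le_maximal I hne
      obtain ⟨m, hm', hqm⟩ := Set.mem_iUnion₂.mp (ht (Set.mem_univ ⟨q, hq.isPrime⟩))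
      obtain ⟨s, hs, hsc⟩ := hqm c hc
      exact hs (hIq (show s • c ∈ B from Algebra.adjoin_mono (Finset.coe_subset.mpr (Finset.subset_biUnion_of_mem g hm')) hsc))
    have : (1 : R) ∈ I := hI ▸ Submodule.mem_top
    simpa [I] using this
  rw [isN1_iff_finite K, this]
  exact Module.Finite.iff_fg.mpr hBfg

theorem exists_normal_localization_of_isN1 (h : IsN1 R) :
    ∃ f : R, f ≠ 0 ∧ IsIntegrallyClosed (Localization.Away f) := by
  classical
  let K := FractionRing R
  obtain ⟨g, hg⟩ := (Submodule.fg_top (Subalgebra.toSubmodule (integralClosure R K))).mp ((isN1_iff_finite K).mp h).fg_top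
  obtain ⟨⟨d, hd⟩, hd'⟩ := IsLocalization.exist_integer_multiples_of_finset (nonZeroDivisors R) g
  have hd0 : d ≠ 0 := nonZeroDivisors.ne_zero hd
  have : IsDomain (Localization.Away d) := IsLocalization.isDomain_localization (powers_le_nonZeroDivisors_of_noZeroDivisors hd0)
  refine ⟨d, hd0, (isIntegrallyClosed_localization_iff (K := K) (Submonoid.powers d) (Localization.Away d)).mpr fun c hc => ⟨d, Submonoid.mem_powers d, ?_⟩⟩
  have hc1 : c ∈ Submodule.span R (g : Set K) := hg.ge hc
  have : (Submodule.span R (g : Set K)).map (d • LinearMap.id) ≤ Subalgebra.toSubmodule (⊥ : Subalgebra R K) := by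
    rw [Submodule.map_span, Submodule.span_le]
    rintro _ ⟨z, hz, rfl⟩
    obtain ⟨a, ha⟩ := hd' z hz
    exact Algebra.mem_bot.mpr ⟨a, ha⟩
  exact this ⟨c, hc1, rfl⟩

end Groth.Agent.CAlgH
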