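import Mathlib
import Groth.Prelude.Def_Found
import Groth.Agent.CAlgH.NormalLocus
import Groth.Agent.CAlgH.AnalyticallyUnramified
import Groth.Agent.CAlgH.NagataPoly
import Groth.Agent.S4710

/-! Finite type algebras over Nagata rings are Nagata. -/
universe u
open CAlg IsLocalRing

namespace Groth.Agent.CAlgH

/-- The integral closure is locally at `q` generated by finitely many elements. -/
def LocallyClosed' (A L : Type u) [CommRing A] [Field L] [Algebra A L] (q : Ideal A) : Prop :=
  ∃ g : Finset L, (∀ z ∈ g, IsIntegral A z) ∧ ClosedAt (Algebra.adjoin A (g : Set L)) q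

theorem smul_adjoin_comb {A L : Type u} [CommRing A] [Field L] [Algebra A L] {S : Subalgebra A L} {q : Ideal A} [q.IsPrime]
    {a b : L} (ha : ∃ s : A, s ∉ q ∧ s • a ∈ S) (hb : ∃ s : A, s ∉ q ∧ s • b ∈ S) :
    ∃ s : A, s ∉ q ∧ s • (a + b) ∈ S := by
  obtain ⟨s, hs, hsa⟩ := ha; obtain ⟨t, ht, htb⟩ := hb
  refine ⟨s * t, fun h => (Ideal.IsPrime.mem_or_mem inferInstance h).elim hs ht, ?_⟩
  rw [smul_add]
  refine S.add_mem ?_ ?_
  · rw [mul_comm, mul_smul]; exact S.smul_mem hsa t
  · rw [mul_smul]; exact S.smul_mem htb s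

theorem locallyClosed_of_isN1_atPrime {A L : Type u} [CommRing A] [IsDomain A] [IsNoetherianRing A] [Field L]
    [Algebra A L] [IsFractionRing A L] (q : Ideal A) [q.IsPrime] (h : IsN1 (Localization.AtPrime q)) :
    LocallyClosed' A L q := by
  classical
  let Aq := Localization.AtPrime q
  obtain ⟨_, _, _⟩ := exists_alg_localization q.primeCompl Aq L
  have h1 := (isN1_iff_finite L).mp h
  obtain ⟨g, hg⟩ := (Submodule.fg_top (Subalgebra.toSubmodule (integralClosure Aq L))).mp h1.fg_top
  have hz : ∀ z ∈ g, ∃ s : q.primeCompl, IsIntegral A ((s : A) • z) := fun z hz =>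
    IsIntegral.exists_multiple_integral_of_isLocalization q.primeCompl z
      (hg.le (Submodule.subset_span hz) : z ∈ integralClosure Aq L)
  choose! sz hsz using hz
  refine ⟨g.image (fun z => (sz z : A) • z), fun w hw => ?_, fun c hc => ?_⟩
  · obtain ⟨z, hz, rfl⟩ := Finset.mem_image.mp hw; exact hsz z hz
  have hc1 : c ∈ Submodule.span Aq (g : Set L) := hg.ge (IsIntegral.tower_top hc)
  clear hc
  induction hc1 using Submodule.span_induction with
  | mem z hz => exact ⟨sz z, (sz z).2, Algebra.subset_adjoin (Finset.mem_coe.mpr (Finset.mem_image_of_mem _ hz))⟩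
  | zero => exact ⟨1, Ideal.IsPrime.one_notMem inferInstance, by simp⟩
  | add a b _ _ ha hb => exact smul_adjoin_comb ha hb
  | smul r a _ ha =>
    obtain ⟨s, hs, hsa⟩ := ha
    obtain ⟨⟨r0, t⟩, hrt⟩ := IsLocalization.surj q.primeCompl r
    refine ⟨t * s, fun h => (Ideal.IsPrime.mem_or_mem inferInstance h).elim t.2 hs, ?_⟩
    have : ((t : A) * s) • r • a = r0 • s • a := by
      rw [← algebraMap_smul Aq ((t : A) * s), smul_smul, map_mul, mul_right_comm,
        mul_comm (algebraMap A Aq t) r, hrt, ← map_mul, algebraMap_smul, mul_smul]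
    rw [this]; exact Subalgebra.smul_mem _ hsa r0

/-- Descent of local N-1 along a finite extension. -/
theorem isN1_atPrime_of_locallyClosed_over {A B L : Type u} [CommRing A] [IsDomain A] [IsNoetherianRing A]
    [CommRing B] [Algebra A B] [Module.Finite A B] [Field L] [Algebra A L] [Algebra B L] [IsScalarTower A B L]
    (hinj : Function.Injective (algebraMap A L)) (m : Ideal A) [m.IsPrime]
    (h : ∀ q : Ideal B, q.IsPrime → q.comap (algebraMap A B) = m → LocallyClosed' B L q) :
    IsN1 (Localization.AtPrime m) := by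
  classical
  choose! g hgint hgc using h
  have hf : (Ideal.primesOver m B).Finite := Algebra.QuasiFinite.finite_primesOver m
  let G : Finset L := hf.toFinset.biUnion g
  have hmem : ∀ q, q ∈ hf.toFinset ↔ (q.IsPrime ∧ q.comap (algebraMap A B) = m) := fun q => by
    rw [Set.Finite.mem_toFinset]
    exact ⟨fun h => ⟨h.1, h.2.over.symm⟩, fun h => ⟨h.1, ⟨h.2.symm⟩⟩⟩
  have hGint : ∀ z ∈ (G : Set L), IsIntegral B z := fun z hz => by
    obtain ⟨q, hq, hz⟩ := Finset.mem_biUnion.mp (Finset.mem_coe.mp hz)
    exact hgint q ((hmem q).mp hq).1 ((hmem q).mp hq).2 z hz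
  let W := Algebra.adjoin B (G : Set L)
  haveI : Module.Finite B W := Module.Finite.iff_fg.mpr (fg_adjoin_of_finite G.finite_toSet hGint)
  haveI : Module.Finite A W := Module.Finite.trans B W
  have hWfg : ((Subalgebra.toSubmodule W).restrictScalars A).FG := Module.Finite.iff_fg.mp ‹Module.Finite A W›
  obtain ⟨S, hS⟩ := hWfg
  let Am := Localization.AtPrime m
  let K := FractionRing A
  obtain ⟨_, _, _⟩ := exists_alg_localization m.primeCompl Am K
  let φ : K →+* L := IsFractionRing.lift hinj
  letI : Algebra Am L := (φ.comp (algebraMap Am K)).toAlgebra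
  haveI : IsScalarTower A Am L := IsScalarTower.of_algebraMap_eq fun a => by
    show _ = φ (algebraMap Am K (algebraMap A Am a))
    rw [← IsScalarTower.algebraMap_apply]
    exact (IsFractionRing.lift_algebraMap hinj a).symm
  let φl : K →ₗ[Am] L :=
    { toFun := φ
      map_add' := map_add φ
      map_smul' := fun r z => by
        rw [Algebra.smul_def, map_mul, RingHom.id_apply, Algebra.smul_def]; rfl }
  have hle : (Subalgebra.toSubmodule (integralClosure Am K)).map φl ≤ Submodule.span Am (S : Set L) := by
    rintro _ ⟨z, hz, rfl⟩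
    obtain ⟨s', hs'⟩ := IsIntegral.exists_multiple_integral_of_isLocalization m.primeCompl z (hz : IsIntegral Am z)
    let w : L := φ ((s' : A) • z)
    let φA : K →ₐ[A] L := { φ with commutes' := fun a => IsFractionRing.lift_algebraMap hinj a }
    have hw : IsIntegral B w := IsIntegral.tower_top (hs'.map φA)
    let I : Ideal B := (Subalgebra.toSubmodule W).comap (LinearMap.toSpanSingleton B L w)
    have hI : ¬ I.comap (algebraMap A B) ≤ m := by
      intro hle
      haveI : Algebra.IsIntegral A B := Algebra.IsIntegral.of_finite A B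
      obtain ⟨q, hIq, hq, hqm⟩ := Ideal.exists_ideal_over_prime_of_isIntegral m I hle
      obtain ⟨s, hs, hsw⟩ := hgc q hq hqm w hw
      exact hs (hIq (show s • w ∈ W from
        Algebra.adjoin_mono (Finset.coe_subset.mpr (Finset.subset_biUnion_of_mem g ((hmem q).mpr ⟨hq, hqm⟩))) hsw))
    obtain ⟨s, hsI, hs⟩ := SetLike.not_le_iff_exists.mp hI
    have h1 : algebraMap A B s • w ∈ W := hsI
    rw [algebraMap_smul] at h1
    have h2 : s • w ∈ Submodule.span A (S : Set L) := by rw [hS]; exact h1
    have h3 : s • w ∈ Submodule.span Am (S : Set L) := Submodule.span_le_restrictScalars A Am _ h2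
    have h4 : algebraMap A Am (s * s') • φl z ∈ Submodule.span Am (S : Set L) := by
      convert h3 using 1
      rw [← map_smul, algebraMap_smul, mul_smul]
      show φA (s • ((s' : A) • z)) = _
      rw [map_smul]; rfl
    obtain ⟨v, hv⟩ := IsLocalization.map_units Am (⟨s * s', m.primeCompl.mul_mem hs s'.2⟩ : m.primeCompl)
    rw [← hv] at h4
    simpa using Submodule.smul_mem _ (↑v⁻¹ : Am) h4
  haveI : IsNoetherianRing Am := IsLocalization.isNoetherianRing m.primeCompl Am inferInstance
  rw [isN1_iff_finite K]
  refine Module.Finite.iff_fg.mpr (?_ : (Subalgebra.toSubmodule (integralClosure Am K)).FG)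
  refine Submodule.fg_of_fg_map_injective φl φ.injective ?_
  have := isNoetherian_of_fg_of_noetherian _ ⟨S, (rfl : Submodule.span Am (S : Set L) = _)⟩
  exact Submodule.FG.of_le ⟨S, rfl⟩ hle

/-- If `B` lies in `A[1/s]`, integral elements over `B` become integral over `A` after multiplying by a power of `s`. -/
theorem exists_pow_mul_integral {A B L : Type u} [CommRing A] [CommRing B] [CommRing L] [Algebra A B] [Algebra A L]
    [Algebra B L] [IsScalarTower A B L] [Nontrivial B] (s : A)
    (hs : ∀ b : B, ∃ n : ℕ, ∃ a : A, algebraMap A B a = algebraMap A B s ^ n * b) (c : L) (hc : IsIntegral B c) :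
    ∃ n : ℕ, IsIntegral A (s ^ n • c) := by
  obtain ⟨P, hP, hP0⟩ := hc
  choose n a ha using hs
  let N := Finset.sup (Finset.range (P.natDegree + 1)) fun i => n (P.coeff i)
  let σ : B := algebraMap A B s ^ N
  let Q := P.scaleRoots σ
  have hQ : Q.Monic := (Polynomial.monic_scaleRoots_iff σ).mpr hP
  have hlift : Q ∈ Polynomial.lifts (algebraMap A B) := by
    rw [Polynomial.lifts_iff_coeff_lifts]
    intro i
    rcases lt_or_ge i P.natDegree with hi | hi
    · have hni : n (P.coeff i) ≤ N := Finset.le_sup (f := fun i => n (P.coeff i)) (Finset.mem_range.mpr (by omega))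
      refine ⟨s ^ (N * (P.natDegree - i) - n (P.coeff i)) * a (P.coeff i), ?_⟩
      rw [Polynomial.coeff_scaleRoots, map_mul, ha, ← mul_assoc, map_pow, ← pow_add, Nat.sub_add_cancel
        (le_trans hni (Nat.le_mul_of_pos_right N (by omega))), pow_mul, mul_comm]
    · rw [Polynomial.coeff_scaleRoots, Nat.sub_eq_zero_of_le hi, pow_zero, mul_one]
      rcases eq_or_lt_of_le hi with rfl | hi
      · exact ⟨1, by rw [map_one, hP.coeff_natDegree]⟩
      · exact ⟨0, by rw [map_zero, Polynomial.coeff_eq_zero_of_natDegree_lt hi]⟩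
  obtain ⟨Q', hQ', -, hQm⟩ := Polynomial.lifts_and_degree_eq_and_monic hlift hQ
  refine ⟨N, Q', hQm, ?_⟩
  have h1 := Polynomial.scaleRoots_eval₂_eq_zero (algebraMap B L) (s := σ) hP0
  rw [Algebra.smul_def, map_pow, IsScalarTower.algebraMap_apply A B L, ← map_pow]
  rw [show P.scaleRoots σ = Q'.map (algebraMap A B) from hQ'.symm, Polynomial.eval₂_map, ← IsScalarTower.algebraMap_eq] at h1
  exact h1

/-- Transfer of `LocallyClosed'` to a ring between `A` and `A[1/s]`. -/
theorem LocallyClosed'.transfer {A B L : Type u} [CommRing A] [CommRing B] [Field L] [Algebra A B] [Algebra A L]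
    [Algebra B L] [IsScalarTower A B L] [Nontrivial B] (s : A) (q : Ideal B) [q.IsPrime] (hsq : algebraMap A B s ∉ q)
    (hs : ∀ b : B, ∃ n : ℕ, ∃ a : A, algebraMap A B a = algebraMap A B s ^ n * b)
    (h : LocallyClosed' A L (q.comap (algebraMap A B))) : LocallyClosed' B L q := by
  obtain ⟨g, hg, hc⟩ := h
  refine ⟨g, fun z hz => (hg z hz).tower_top, fun c hci => ?_⟩
  obtain ⟨n, hn⟩ := exists_pow_mul_integral s hs c hci
  obtain ⟨t, ht, htc⟩ := hc _ hn
  refine ⟨algebraMap A B (t * s ^ n), ?_, ?_⟩
  · rw [map_mul, map_pow]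
    exact fun h => (Ideal.IsPrime.mem_or_mem inferInstance h).elim ht fun h => hsq (Ideal.IsPrime.mem_of_pow_mem inferInstance n h)
  · rw [algebraMap_smul, mul_smul]
    have hle : Algebra.adjoin A (g : Set L) ≤ (Algebra.adjoin B (g : Set L)).restrictScalars A :=
      Algebra.adjoin_le Algebra.subset_adjoin
    exact hle htc

theorem isN1_of_isIntegrallyClosed {T : Type u} [CommRing T] [IsDomain T] [IsNoetherianRing T] [IsIntegrallyClosed T] :
    IsN1 T :=
  (isN1_iff_finite (FractionRing T)).mpr (fin_ic_of_normal (B := T))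

theorem exists_eq_algebraMap_add_mul {R T : Type u} [CommRing R] [CommRing T] [Algebra R T] (x : T)
    (hgen : Algebra.adjoin R ({x} : Set T) = ⊤) (t : T) : ∃ (r : R) (t' : T), t = algebraMap R T r + x * t' := by
  have : t ∈ Algebra.adjoin R ({x} : Set T) := hgen ▸ Algebra.mem_top
  rw [Algebra.adjoin_singleton_eq_range_aeval] at this
  obtain ⟨P, rfl⟩ := this
  refine ⟨P.coeff 0, Polynomial.aeval x P.divX, ?_⟩
  show Polynomial.aeval x P = _
  conv_lhs => rw [← Polynomial.X_mul_divX_add P]
  rw [map_add, map_mul, Polynomial.aeval_X, Polynomial.aeval_C, add_comm]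

/-- `R ∩ x R[x] = R ∩ x R` for normal `R`. -/
theorem exists_mul_eq_of_aeval {R K : Type u} [CommRing R] [IsDomain R] [IsIntegrallyClosed R] [Field K]
    [Algebra R K] [IsFractionRing R K] (x : K) (n : ℕ) : ∀ (P : Polynomial R), P.natDegree ≤ n → ∀ (r : R),
    algebraMap R K r = x * Polynomial.aeval x P → ∃ a : R, algebraMap R K r = x * algebraMap R K a := by
  induction n with
  | zero =>
    intro P hP r hr
    rw [Polynomial.eq_C_of_natDegree_le_zero hP, Polynomial.aeval_C] at hr
    exact ⟨_, hr⟩
  | succ n ih =>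
    intro P hP r hr
    rcases Nat.lt_or_eq_of_le hP with hlt | heq
    · exact ih P (by omega) r hr
    let Q := Polynomial.X * P - Polynomial.C r
    have hP0 : P ≠ 0 := by rintro rfl; simp at heq
    have hdeg : (Polynomial.X * P).natDegree = n + 2 := by
      rw [Polynomial.natDegree_X_mul hP0, heq]
    have hQd : Q.natDegree = n + 2 := by rw [Polynomial.natDegree_sub_C, hdeg]
    have hQlead : Q.leadingCoeff = P.leadingCoeff := by
      rw [Polynomial.leadingCoeff, hQd, Polynomial.coeff_sub, Polynomial.coeff_C_ne_zero (by omega), sub_zero,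
        show n + 2 = (n + 1) + 1 by rfl, Polynomial.coeff_X_mul, Polynomial.leadingCoeff, heq]
    have hQ0 : Polynomial.aeval x Q = 0 := by
      simp [Q, hr]
    have he : IsIntegral R (Q.leadingCoeff • x) := isIntegral_leadingCoeff_smul Q x hQ0
    obtain ⟨e, he⟩ := IsIntegrallyClosed.isIntegral_iff.mp he
    rw [hQlead, Algebra.smul_def] at he
    refine ih (P.eraseLead + Polynomial.monomial n e) ?_ r ?_
    · refine le_trans (Polynomial.natDegree_add_le _ _) (max_le ?_ (Polynomial.natDegree_monomial_le _))
      exact le_trans P.eraseLead_natDegree_le (by omega)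
    · rw [hr]
      conv_lhs => rw [← P.eraseLead_add_C_mul_X_pow]
      rw [map_add, map_add, heq, map_mul, Polynomial.aeval_C, map_pow, Polynomial.aeval_X, Polynomial.aeval_monomial,
        he, pow_succ']
      ring

set_option maxHeartbeats 800000 in
/-- The case where `x` lies in the prime. -/
theorem isN1_atPrime_of_mem {R T K : Type u} [CommRing R] [IsDomain R] [IsIntegrallyClosed R] (hR : IsNagata R)
    [CommRing T] [IsDomain T] [Field K] [Algebra R T] [Algebra R K] [Algebra T K] [IsScalarTower R T K]
    [IsFractionRing R K] [IsFractionRing T K] (x : T) (hgen : Algebra.adjoin R ({x} : Set T) = ⊤)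
    (m : Ideal T) [m.IsPrime] (hxm : x ∈ m) : IsN1 (Localization.AtPrime m) := by
  classical
  haveI := hR.1
  haveI : Algebra.FiniteType R T := ⟨⟨{x}, by simpa using hgen⟩⟩
  haveI : IsNoetherianRing T := Algebra.FiniteType.isNoetherianRing R T
  have hTK := IsFractionRing.injective T K
  have hRK := IsFractionRing.injective R K
  by_cases hx0 : x = 0
  · have hb : Function.Bijective (algebraMap R T) := by
      refine ⟨fun a b h => hRK (by rw [IsScalarTower.algebraMap_apply R T K, h, ← IsScalarTower.algebraMap_apply]),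
        fun t => ?_⟩
      obtain ⟨r, t', rfl⟩ := exists_eq_algebraMap_add_mul x hgen t
      exact ⟨r, by rw [hx0, zero_mul, add_zero]⟩
    haveI : IsIntegrallyClosed T := IsIntegrallyClosed.of_equiv (RingEquiv.ofBijective (algebraMap R T) hb)
    exact isN1_localization m.primeCompl isN1_of_isIntegrallyClosed
  let S := Localization.AtPrime m
  haveI : IsNoetherianRing S := IsLocalization.isNoetherianRing m.primeCompl S inferInstance
  refine isN1_of_isReduced_completion ?_
  let Ah := AdicCompletion (maximalIdeal S) S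
  haveI : IsNoetherianRing Ah := Groth.Agent.Matlis6.isNoetherianRing_adicCompletion (maximalIdeal S)
  haveI : Module.Flat T S := IsLocalization.flat S m.primeCompl
  haveI : Module.Flat T Ah := Module.Flat.trans T S Ah
  haveI : IsLocalRing Ah := inferInstance
  refine isReduced_of_goodPrimes (A := T) (Ah := Ah) x hx0 ?_ fun q' hq' => ?_
  · rw [IsLocalRing.jacobson_eq_maximalIdeal ⊥ bot_ne_top, IsScalarTower.algebraMap_apply T S Ah,
      AdicCompletion.maximalIdeal_eq_map]
    exact Ideal.mem_map_of_mem _ ((IsLocalization.AtPrime.to_map_mem_maximal_iff S m x).mpr hxm)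
  haveI hq'p : q'.IsPrime := hq'.isPrime
  obtain ⟨-, w, hw⟩ := isAssociatedPrime_iff.mp hq'
  obtain ⟨w, rfl⟩ := Ideal.Quotient.mk_surjective w
  have hmem : ∀ t, t ∈ q' ↔ ∃ t', t * w = x * t' := fun t => by
    rw [hw, Submodule.mem_colon_singleton, Submodule.mem_bot, Algebra.smul_def, Ideal.Quotient.algebraMap_eq, ← map_mul,
      Ideal.Quotient.eq_zero_iff_mem, Ideal.mem_span_singleton]
    rfl
  have hxq : x ∈ q' := (hmem x).mpr ⟨w, rfl⟩
  refine ⟨?_, ?_⟩
  · obtain ⟨c, w', hcw⟩ := exists_eq_algebraMap_add_mul x hgen w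
    have hxK : algebraMap T K x ≠ 0 := (map_ne_zero_iff _ hTK).mpr hx0
    let q := q'.comap (algebraMap R T)
    have hy : ∀ b : R, b ∈ q ↔ ∃ r : R, algebraMap R K r = algebraMap R K b * (algebraMap R K c / algebraMap T K x) := by
      intro b
      rw [Ideal.mem_comap, hmem]
      constructor
      · rintro ⟨t', ht'⟩
        obtain ⟨P, hP⟩ : ∃ P : Polynomial R, Polynomial.aeval x P = t' - algebraMap R T b * w' := by
          have : t' - algebraMap R T b * w' ∈ Algebra.adjoin R ({x} : Set T) := hgen ▸ Algebra.mem_top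
          rw [Algebra.adjoin_singleton_eq_range_aeval] at this
          exact this
        have h1 : algebraMap R T (b * c) = x * Polynomial.aeval x P := by
          rw [hP, map_mul]; linear_combination ht' - algebraMap R T b * hcw
        obtain ⟨a, ha⟩ := exists_mul_eq_of_aeval (K := K) (algebraMap T K x) P.natDegree P le_rfl (b * c)
          (by rw [IsScalarTower.algebraMap_apply R T K, h1, map_mul, Polynomial.aeval_algebraMap_apply])
        exact ⟨a, by rw [mul_div_assoc', eq_div_iff hxK, ← map_mul, ha, mul_comm]⟩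
      · rintro ⟨r, hr⟩
        refine ⟨algebraMap R T r + algebraMap R T b * w', hTK ?_⟩
        rw [mul_div_assoc', eq_div_iff hxK] at hr
        rw [hcw]
        simp only [map_mul, map_add, ← IsScalarTower.algebraMap_apply R T K]
        linear_combination -hr
    obtain ⟨a, ha, s, hs, hsa⟩ := exists_frac_unit (algebraMap R K c / algebraMap T K x) hy
    refine ⟨algebraMap R T a, ha, algebraMap R T s, hs, fun t ht => ?_⟩
    obtain ⟨b, t', rfl⟩ := exists_eq_algebraMap_add_mul x hgen t
    have hb : b ∈ q := (Submodule.add_mem_iff_left q' (q'.mul_mem_right t' hxq)).mp ht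
    obtain ⟨r, hr⟩ := (hy b).mp hb
    refine ⟨algebraMap R T r + algebraMap R T c * t', hTK ?_⟩
    simp only [map_mul, map_add, ← IsScalarTower.algebraMap_apply R T K, hr, hsa]
    field_simp
  by_cases hle : q' ≤ m
  swap
  · obtain ⟨t, ht, htm⟩ := SetLike.not_le_iff_exists.mp hle
    have : q'.map (algebraMap T Ah) = ⊤ := by
      refine Ideal.eq_top_of_isUnit_mem _ (Ideal.mem_map_of_mem _ ht) ?_
      rw [IsScalarTower.algebraMap_apply T S Ah]
      exact (IsLocalization.map_units S (⟨t, htm⟩ : m.primeCompl)).map _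
    haveI : Subsingleton (Ah ⧸ q'.map (algebraMap T Ah)) := Ideal.Quotient.subsingleton_iff.mpr this
    exact ⟨fun z _ => Subsingleton.elim _ _⟩
  let Q : Ideal S := q'.map (algebraMap T S)
  haveI : Q.IsPrime := IsLocalization.isPrime_of_isPrime_disjoint m.primeCompl S q' hq'p
    (Set.disjoint_left.mpr fun t ht htq => ht (hle htq))
  haveI : IsLocalRing (S ⧸ Q) := IsLocalRing.of_surjective' (Ideal.Quotient.mk Q) Ideal.Quotient.mk_surjective
  obtain ⟨e⟩ := completion_quotient_equiv (Ideal.Quotient.mk Q) Ideal.Quotient.mk_surjective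
  let p := m.comap (algebraMap R T)
  let θ : R →+* S ⧸ Q := (Ideal.Quotient.mk Q).comp ((algebraMap T S).comp (algebraMap R T))
  have hu : ∀ r : p.primeCompl, IsUnit (θ r) := fun r =>
    (IsLocalization.map_units S (⟨algebraMap R T r, r.2⟩ : m.primeCompl)).map (Ideal.Quotient.mk Q)
  let ρ : Localization.AtPrime p →+* S ⧸ Q := IsLocalization.lift hu
  have hρ : Function.Surjective ρ := by
    intro z
    obtain ⟨z, rfl⟩ := Ideal.Quotient.mk_surjective z
    obtain ⟨⟨t, u⟩, htu⟩ := IsLocalization.surj m.primeCompl z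
    obtain ⟨r, t', rfl⟩ := exists_eq_algebraMap_add_mul x hgen t
    obtain ⟨r', u', hu'⟩ := exists_eq_algebraMap_add_mul x hgen (u : T)
    have hx' : Ideal.Quotient.mk Q (algebraMap T S x) = 0 := Ideal.Quotient.eq_zero_iff_mem.mpr (Ideal.mem_map_of_mem _ hxq)
    have hr' : r' ∈ p.primeCompl := fun h => u.2 (by rw [hu']; exact m.add_mem h (m.mul_mem_right _ hxm))
    refine ⟨IsLocalization.mk' _ r ⟨r', hr'⟩, ?_⟩
    rw [IsLocalization.lift_mk'_spec]
    have h1 := congrArg (Ideal.Quotient.mk Q) htu
    simp only [map_mul, map_add, hu', hx', zero_mul, add_zero] at h1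
    show θ r = θ r' * Ideal.Quotient.mk Q z
    rw [mul_comm]; exact h1.symm
  have hB := isReduced_completion_of_surjective (Groth.Agent.S4710.result R hR p.primeCompl) ρ hρ
  haveI h2 : IsReduced (Ah ⧸ (RingHom.ker (Ideal.Quotient.mk Q)).map (algebraMap S Ah)) :=
    isReduced_of_injective e.toRingHom e.injective
  rw [Ideal.mk_ker, show Q.map (algebraMap S Ah) = q'.map (algebraMap T Ah) by
    rw [Ideal.map_map, ← IsScalarTower.algebraMap_eq]] at h2
  exact h2

theorem isNagata_of_finite {R R' : Type u} [CommRing R] [CommRing R'] [Algebra R R'] [Module.Finite R R']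
    (hR : IsNagata R) : IsNagata R' := by
  haveI := hR.1
  refine ⟨IsNoetherianRing.of_finite R R', fun q hq => ?_⟩
  let p := q.comap (algebraMap R R')
  refine isN2_of_finite_injective (Ideal.quotientMap q (algebraMap R R') le_rfl) Ideal.quotientMap_injective ?_ (hR.2 p)
  refine RingHom.Finite.of_comp_finite (f := Ideal.Quotient.mk p) ?_
  rw [Ideal.quotientMap_comp_mk]
  exact (RingHom.Finite.of_surjective _ Ideal.Quotient.mk_surjective).comp (RingHom.finite_algebraMap.mpr inferInstance)

theorem exists_mem_of_multiset_prod_mem {A : Type u} [CommRing A] {q : Ideal A} [hq : q.IsPrime] (s : Multiset A)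
    (h : s.prod ∈ q) : ∃ a ∈ s, a ∈ q := by
  induction s using Multiset.induction with
  | empty => exact absurd (by simpa using h) hq.one_notMem
  | cons a s ih =>
    rw [Multiset.prod_cons] at h
    rcases hq.mem_or_mem h with h | h
    · exact ⟨a, Multiset.mem_cons_self a s, h⟩
    · obtain ⟨b, hb, hbq⟩ := ih h; exact ⟨b, Multiset.mem_cons_of_mem hb, hbq⟩

theorem mem_adjoin_of_gen {R R' T L : Type u} [CommRing R] [CommRing R'] [CommRing T] [CommRing L] [Algebra R R']
    [Algebra R T] [Algebra R' L] [Algebra T L] [Algebra R L] [IsScalarTower R T L] [IsScalarTower R R' L] (x : T)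
    (hgen : Algebra.adjoin R ({x} : Set T) = ⊤) (t : T) :
    algebraMap T L t ∈ Algebra.adjoin R' ({algebraMap T L x} : Set L) := by
  have h1 : t ∈ Algebra.adjoin R ({x} : Set T) := hgen ▸ Algebra.mem_top
  induction h1 using Algebra.adjoin_induction with
  | mem z hz => rw [Set.mem_singleton_iff.mp hz]; exact Algebra.subset_adjoin rfl
  | algebraMap r =>
    rw [← IsScalarTower.algebraMap_apply, IsScalarTower.algebraMap_apply R R' L]; exact Subalgebra.algebraMap_mem _ _
  | add a b _ _ ha hb => rw [map_add]; exact Subalgebra.add_mem _ ha hb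
  | mul a b _ _ ha hb => rw [map_mul]; exact Subalgebra.mul_mem _ ha hb

/-- `T[R']` is finite over `T`. -/
theorem finite_adjoin_integral {R R' T L : Type u} [CommRing R] [CommRing R'] [CommRing T] [CommRing L] [Algebra R R']
    [Algebra R T] [Algebra R' L] [Algebra T L] [Algebra R L] [IsScalarTower R T L] [IsScalarTower R R' L]
    [Module.Finite R R'] (x : T) [Algebra T (Algebra.adjoin R' ({algebraMap T L x} : Set L))]
    [IsScalarTower T (Algebra.adjoin R' ({algebraMap T L x} : Set L)) L] :
    Module.Finite T (Algebra.adjoin R' ({algebraMap T L x} : Set L)) := by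
  let T' := Algebra.adjoin R' ({algebraMap T L x} : Set L)
  haveI : IsScalarTower R T T' := IsScalarTower.of_algebraMap_eq fun r => Subtype.ext (by
    show algebraMap T' L (algebraMap R T' r) = algebraMap T' L (algebraMap T T' (algebraMap R T r))
    rw [← IsScalarTower.algebraMap_apply T T' L, ← IsScalarTower.algebraMap_apply R T L, ← IsScalarTower.algebraMap_apply R T' L])
  haveI : Algebra.FiniteType R' T' := Subalgebra.fg_iff_finiteType _ |>.mp (Subalgebra.fg_adjoin_finset {algebraMap T L x} |> (by simpa using ·))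
  haveI : Algebra.FiniteType R T' := Algebra.FiniteType.trans (S := R') inferInstance inferInstance
  haveI : Algebra.FiniteType T T' := Algebra.FiniteType.of_restrictScalars_finiteType R T T'
  haveI : Algebra.IsIntegral T T' := ⟨fun ⟨z, hz⟩ => by
    refine (isIntegral_algHom_iff (IsScalarTower.toAlgHom T T' L) Subtype.val_injective).mp ?_
    show IsIntegral T z
    induction hz using Algebra.adjoin_induction with
    | mem z hz => rw [Set.mem_singleton_iff.mp hz]; exact isIntegral_algebraMap
    | algebraMap c => exact IsIntegral.tower_top (R := R) ((Algebra.IsIntegral.isIntegral c).map (IsScalarTower.toAlgHom R R' L))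
    | add a b _ _ ha hb => exact ha.add hb
    | mul a b _ _ ha hb => exact ha.mul hb⟩
  exact Algebra.IsIntegral.finite

theorem fin_ic_of_finite_base {A B L : Type u} [CommRing A] [IsNoetherianRing A] [CommRing B] [CommRing L]
    [Algebra A B] [Algebra A L] [Algebra B L] [IsScalarTower A B L] [Module.Finite A B]
    (h : Module.Finite B (integralClosure B L)) : Module.Finite A (integralClosure A L) := by
  haveI := h
  haveI : Module.Finite A (integralClosure B L) := Module.Finite.trans B _
  let ι : integralClosure A L →ₗ[A] integralClosure B L :=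
    { toFun := fun a => ⟨a.1, IsIntegral.tower_top (a.2 : IsIntegral A a.1)⟩
      map_add' := fun a b => rfl
      map_smul' := fun r a => Subtype.ext (by simp) }
  exact Module.Finite.of_injective ι fun a b hab =>
    Subtype.ext (congrArg (fun z : integralClosure B L => (z : L)) hab)

theorem isFractionRing_adjoin {R' L : Type u} [CommRing R'] [IsDomain R'] [Field L] [Algebra R' L] [IsFractionRing R' L]
    (S : Subalgebra R' L) : IsFractionRing S L := by
  haveI : FaithfulSMul S L := (faithfulSMul_iff_algebraMap_injective _ _).mpr Subtype.val_injective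
  refine IsFractionRing.of_field S L fun z => ?_
  obtain ⟨a, b, _, rfl⟩ := IsFractionRing.div_surjective R' z
  exact ⟨algebraMap R' S a, algebraMap R' S b, rfl⟩

set_option maxHeartbeats 800000 in
theorem isN1_of_monogenic {R T K : Type u} [CommRing R] [IsDomain R] [IsIntegrallyClosed R] (hR : IsNagata R)
    [CommRing T] [IsDomain T] [Field K] [Algebra R T] [Algebra R K] [Algebra T K] [IsScalarTower R T K]
    [IsFractionRing R K] [IsFractionRing T K] (x : T) (hgen : Algebra.adjoin R ({x} : Set T) = ⊤) : IsN1 T := by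
  classical
  haveI := hR.1
  haveI : Algebra.FiniteType R T := ⟨⟨{x}, by simpa using hgen⟩⟩
  haveI : IsNoetherianRing T := Algebra.FiniteType.isNoetherianRing R T
  have hTK := IsFractionRing.injective T K
  have hRK := IsFractionRing.injective R K
  obtain ⟨a, b, hb, hab⟩ := IsFractionRing.div_surjective R (algebraMap T K x)
  have hb0 : b ≠ 0 := nonZeroDivisors.ne_zero hb
  have hbK : algebraMap R K b ≠ 0 := (map_ne_zero_iff _ hRK).mpr hb0
  have hpow : ∀ t : T, ∃ n : ℕ, ∃ a : R, algebraMap R T a = algebraMap R T b ^ n * t := by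
    intro t
    have h1 : t ∈ Algebra.adjoin R ({x} : Set T) := hgen ▸ Algebra.mem_top
    induction h1 using Algebra.adjoin_induction with
    | mem z hz =>
      refine ⟨1, a, hTK ?_⟩
      rw [Set.mem_singleton_iff.mp hz, pow_one, map_mul, ← IsScalarTower.algebraMap_apply, ← IsScalarTower.algebraMap_apply,
        ← hab, mul_div_cancel₀ _ hbK]
    | algebraMap r => exact ⟨0, r, by simp⟩
    | add u v _ _ hu hv =>
      obtain ⟨n, c, hc⟩ := hu; obtain ⟨k, d, hd⟩ := hv
      exact ⟨n + k, c * b ^ k + d * b ^ n, by simp only [map_add, map_mul, map_pow, hc, hd, pow_add]; ring⟩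
    | mul u v _ _ hu hv =>
      obtain ⟨n, c, hc⟩ := hu; obtain ⟨k, d, hd⟩ := hv
      exact ⟨n + k, c * d, by simp only [map_mul, hc, hd, pow_add]; ring⟩
  have hbT : algebraMap R T b ≠ 0 := fun h => hbK (by rw [IsScalarTower.algebraMap_apply R T K, h, map_zero])
  haveI : IsDomain (Localization.Away (algebraMap R T b)) :=
    IsLocalization.isDomain_localization (powers_le_nonZeroDivisors_of_noZeroDivisors hbT)
  refine isN1_of_exists_normal_localization hbT
    ((isIntegrallyClosed_localization_iff (K := K) (Submonoid.powers (algebraMap R T b)) _).mpr fun c hc => ?_) fun m _ => ?_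
  · obtain ⟨n, hn⟩ := exists_pow_mul_integral b hpow c hc
    obtain ⟨r, hr⟩ := IsIntegrallyClosed.isIntegral_iff.mp hn
    refine ⟨algebraMap R T b ^ n, ⟨n, rfl⟩, Algebra.mem_bot.mpr ⟨algebraMap R T r, ?_⟩⟩
    rw [← IsScalarTower.algebraMap_apply, hr, ← map_pow, algebraMap_smul]
  -- descend from a splitting field
  let p := m.comap (algebraMap R T)
  obtain ⟨s, hsp, g, hg, hgs⟩ : ∃ s : R, s ∉ p ∧ ∃ g : Polynomial R, g.Monic ∧
      Polynomial.aeval (algebraMap R T s * x) g ∈ m := by
    by_cases hx : x ∈ m
    · exact ⟨1, Ideal.IsPrime.one_notMem inferInstance, Polynomial.X, Polynomial.monic_X, by simpa using hx⟩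
    obtain ⟨y, i, hi, hyi⟩ := ‹m.IsMaximal›.exists_inv hx
    obtain ⟨P, hP⟩ : ∃ P : Polynomial R, Polynomial.aeval x P = y := by
      have : y ∈ Algebra.adjoin R ({x} : Set T) := hgen ▸ Algebra.mem_top
      rw [Algebra.adjoin_singleton_eq_range_aeval] at this
      exact this
    let Q := Polynomial.X * P - 1
    have hQ : Polynomial.aeval (Ideal.Quotient.mk m x) (Q.map (Ideal.Quotient.mk p)) = 0 := by
      have h0 : Ideal.Quotient.mk m (Polynomial.aeval x Q) = 0 := by
        rw [Ideal.Quotient.eq_zero_iff_mem]
        have : Polynomial.aeval x Q = -i := by simp [Q, hP]; linear_combination hyi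
        rw [this]; exact m.neg_mem hi
      rw [← h0, Polynomial.aeval_def, Polynomial.eval₂_map, Polynomial.aeval_def, Polynomial.hom_eval₂]
      rfl
    have hQ0 : Q.map (Ideal.Quotient.mk p) ≠ 0 := fun h => by
      have := congrArg (fun P => Polynomial.coeff P 0) h
      simp [Q, Polynomial.coeff_one] at this
    have h1 := isIntegral_leadingCoeff_smul _ _ hQ
    obtain ⟨s, hs⟩ := Ideal.Quotient.mk_surjective (Q.map (Ideal.Quotient.mk p)).leadingCoeff
    rw [← hs] at h1
    have h2 : IsIntegral R (Ideal.Quotient.mk m (algebraMap R T s * x)) := by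
      rw [map_mul]
      haveI : Algebra.IsIntegral R (R ⧸ p) := inferInstance
      refine isIntegral_trans (A := R ⧸ p) _ ?_
      convert h1 using 1 <;> first | rfl | (rw [Algebra.smul_def]; rfl)
    obtain ⟨g, hg, hg0⟩ := h2
    refine ⟨s, fun h => hQ0 (Polynomial.leadingCoeff_eq_zero.mp (by rw [← hs]; exact Ideal.Quotient.eq_zero_iff_mem.mpr h)), g, hg, ?_⟩
    rw [← Ideal.Quotient.eq_zero_iff_mem, ← hg0, Polynomial.aeval_def, Polynomial.hom_eval₂]
    rfl
  obtain ⟨L, _, _, hsplit⟩ : ∃ (L : Type u) (_ : Field L) (_ : Algebra K L),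
      Polynomial.IsSplittingField K L (g.map (algebraMap R K)) :=
    ⟨(g.map (algebraMap R K)).SplittingField, inferInstance, inferInstance, inferInstance⟩
  haveI : FiniteDimensional K L := Polynomial.IsSplittingField.finiteDimensional L (g.map (algebraMap R K))
  letI : Algebra R L := ((algebraMap K L).comp (algebraMap R K)).toAlgebra
  haveI : IsScalarTower R K L := IsScalarTower.of_algebraMap_eq fun _ => rfl
  let R' := integralClosure R L
  haveI : Module.Finite R R' := isN2_apply (isN2_of_ringEquiv (RingEquiv.quotientBot R) (hR.2 ⊥)) K L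
  have hR' : IsNagata R' := isNagata_of_finite hR
  haveI : IsIntegrallyClosed R' := integralClosure.isIntegrallyClosedOfFiniteExtension K
  haveI : IsFractionRing R' L := IsIntegralClosure.isFractionRing_of_finite_extension R K L R'
  letI aTL : Algebra T L := ((algebraMap K L).comp (algebraMap T K)).toAlgebra
  haveI : IsScalarTower R T L := IsScalarTower.of_algebraMap_eq fun r => by
    show _ = algebraMap K L (algebraMap T K (algebraMap R T r))
    rw [← IsScalarTower.algebraMap_apply R T K, ← IsScalarTower.algebraMap_apply R K L]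
  let xL := algebraMap T L x
  let T' := Algebra.adjoin R' ({xL} : Set L)
  letI aTT : Algebra T T' := ((algebraMap T L).codRestrict T' (mem_adjoin_of_gen x hgen)).toAlgebra
  haveI : IsScalarTower T T' L := IsScalarTower.of_algebraMap_eq fun _ => rfl
  haveI : Module.Finite T T' := finite_adjoin_integral (R := R) x
  haveI : Algebra.FiniteType R' T' := Subalgebra.fg_iff_finiteType _ |>.mp ⟨{xL}, by simp [T']⟩
  haveI := hR'.1
  haveI : IsNoetherianRing T' := Algebra.FiniteType.isNoetherianRing R' T'
  refine isN1_atPrime_of_locallyClosed_over (A := T) (B := T') (L := L)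
    (show Function.Injective (algebraMap T L) from (RingHom.injective (algebraMap K L)).comp hTK) m fun q hq hqm => ?_
  haveI := hq
  have hgL : (g.map (algebraMap R L)).Splits := by
    have := hsplit.splits'
    rwa [Polynomial.map_map, ← IsScalarTower.algebraMap_eq] at this
  have hroots : ∀ c ∈ (g.map (algebraMap R L)).roots, c ∈ R' := fun c hc => by
    refine ⟨g, hg, ?_⟩
    rw [Polynomial.mem_roots (hg.map _).ne_zero, Polynomial.IsRoot, Polynomial.eval_map] at hc
    exact hc
  let f : {c // c ∈ (g.map (algebraMap R L)).roots} → T' := fun c =>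
    algebraMap T T' (algebraMap R T s * x) - algebraMap R' T' ⟨c.1, hroots c.1 c.2⟩
  have hprod : ((g.map (algebraMap R L)).roots.attach.map f).prod = algebraMap T T' (Polynomial.aeval (algebraMap R T s * x) g) := by
    apply Subtype.ext
    show T'.val _ = algebraMap T L _
    rw [map_multiset_prod, Multiset.map_map, ← Polynomial.aeval_algebraMap_apply, Polynomial.aeval_def,
      ← Polynomial.eval_map, hgL.eval_eq_prod_roots, (hg.map (algebraMap R L)).leadingCoeff, one_mul]
    conv_rhs => rw [← Multiset.attach_map_val (g.map (algebraMap R L)).roots, Multiset.map_map]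
    rfl
  obtain ⟨x', hx', hx'q⟩ := exists_mem_of_multiset_prod_mem _ (q := q) (by
    rw [hprod]; exact (hqm.ge hgs : _ ∈ q.comap (algebraMap T T')))
  obtain ⟨⟨c, hc⟩, -, rfl⟩ := Multiset.mem_map.mp hx'
  let y : L := (f ⟨c, hc⟩ : T')
  let T'' := Algebra.adjoin R' ({y} : Set L)
  have hle : T'' ≤ T' := Algebra.adjoin_le (Set.singleton_subset_iff.mpr (f ⟨c, hc⟩).2)
  letI : Algebra T'' T' := (Subalgebra.inclusion hle).toRingHom.toAlgebra
  haveI : IsScalarTower T'' T' L := IsScalarTower.of_algebraMap_eq fun _ => rfl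
  haveI : Algebra.FiniteType R' T'' := Subalgebra.fg_iff_finiteType _ |>.mp ⟨{y}, by simp [T'']⟩
  haveI : IsNoetherianRing T'' := Algebra.FiniteType.isNoetherianRing R' T''
  haveI := isFractionRing_adjoin T''
  let s' : T'' := algebraMap R' T'' (algebraMap R R' s)
  refine LocallyClosed'.transfer (A := T'') s' q ?_ ?_ (locallyClosed_of_isN1_atPrime _ ?_)
  · intro h
    apply hsp
    show algebraMap R T s ∈ m
    rw [← hqm, Ideal.mem_comap]
    convert h using 1
    apply Subtype.ext
    show algebraMap T L (algebraMap R T s) = algebraMap R' L (algebraMap R R' s)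
    rw [← IsScalarTower.algebraMap_apply, ← IsScalarTower.algebraMap_apply]
  · rintro ⟨z, hz⟩
    suffices ∃ n : ℕ, algebraMap R L s ^ n * z ∈ T'' by
      obtain ⟨n, hn⟩ := this
      exact ⟨n, ⟨_, hn⟩, Subtype.ext rfl⟩
    induction hz using Algebra.adjoin_induction with
    | mem z hz =>
      refine ⟨1, ?_⟩
      rw [Set.mem_singleton_iff.mp hz, pow_one]
      have : algebraMap R L s * xL = y + algebraMap R' L ⟨c, hroots c hc⟩ := by
        show _ = algebraMap T L (algebraMap R T s * x) - algebraMap R' L _ + _
        rw [sub_add_cancel, map_mul, ← IsScalarTower.algebraMap_apply]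
      rw [this]
      exact T''.add_mem (Algebra.subset_adjoin rfl) (T''.algebraMap_mem _)
    | algebraMap r => exact ⟨0, by simpa using T''.algebraMap_mem r⟩
    | add u v _ _ hu hv =>
      obtain ⟨n, hn⟩ := hu; obtain ⟨k, hk⟩ := hv
      refine ⟨n + k, ?_⟩
      have : algebraMap R L s ^ (n + k) * (u + v) = algebraMap R L s ^ k * (algebraMap R L s ^ n * u) +
          algebraMap R L s ^ n * (algebraMap R L s ^ k * v) := by rw [pow_add]; ring
      have hsm : algebraMap R L s ∈ T'' := by rw [IsScalarTower.algebraMap_apply R R' L]; exact T''.algebraMap_mem _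
      rw [this]
      exact T''.add_mem (T''.mul_mem (T''.pow_mem hsm k) hn) (T''.mul_mem (T''.pow_mem hsm n) hk)
    | mul u v _ _ hu hv =>
      obtain ⟨n, hn⟩ := hu; obtain ⟨k, hk⟩ := hv
      refine ⟨n + k, ?_⟩
      have : algebraMap R L s ^ (n + k) * (u * v) = (algebraMap R L s ^ n * u) * (algebraMap R L s ^ k * v) := by
        rw [pow_add]; ring
      rw [this]
      exact T''.mul_mem hn hk
  · refine isN1_atPrime_of_mem (R := R') (K := L) hR' (⟨y, Algebra.subset_adjoin rfl⟩ : T'') ?_ _ ?_
    · have := Algebra.adjoin_adjoin_coe_preimage (R := R') (s := ({y} : Set L))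
      have e : ({⟨y, Algebra.subset_adjoin rfl⟩} : Set T'') = Subtype.val ⁻¹' {y} :=
        Set.ext fun z => ⟨fun h => congrArg Subtype.val (Set.mem_singleton_iff.mp h),
          fun h => Set.mem_singleton_iff.mpr (Subtype.ext h)⟩
      exact e ▸ this
    · exact hx'q

set_option maxHeartbeats 800000 in
theorem isN2_of_monogenic {R T : Type u} [CommRing R] [IsDomain R] (hR : IsNagata R) [CommRing T] [IsDomain T]
    [Algebra R T] (hinj : Function.Injective (algebraMap R T)) (x : T) (hgen : Algebra.adjoin R ({x} : Set T) = ⊤) :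
    IsN2 T := by
  classical
  haveI := hR.1
  have hN2 : IsN2 R := isN2_of_ringEquiv (RingEquiv.quotientBot R) (hR.2 ⊥)
  have hsurj : Function.Surjective (Polynomial.aeval (R := R) x) := fun t => by
    have : t ∈ Algebra.adjoin R ({x} : Set T) := hgen ▸ Algebra.mem_top
    rwa [Algebra.adjoin_singleton_eq_range_aeval] at this
  by_cases halg : ¬ IsAlgebraic R x
  · exact isN2_of_ringEquiv (RingEquiv.ofBijective (Polynomial.aeval (R := R) x).toRingHom
      ⟨transcendental_iff_injective.mp halg, hsurj⟩) (isN2_polynomial hN2)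
  rw [not_not] at halg
  haveI : Algebra.FiniteType R T := ⟨⟨{x}, by simpa using hgen⟩⟩
  haveI : IsNoetherianRing T := Algebra.FiniteType.isNoetherianRing R T
  let K := FractionRing R
  let FT := FractionRing T
  have hRF : Function.Injective (algebraMap R FT) := by
    rw [IsScalarTower.algebraMap_eq R T FT]; exact (IsFractionRing.injective T FT).comp hinj
  refine isN2_of FT fun L _ _ _ _ _ => ?_
  letI aKF : Algebra K FT := (IsFractionRing.lift hRF).toAlgebra
  haveI : IsScalarTower R K FT := IsScalarTower.of_algebraMap_eq fun r => (IsFractionRing.lift_algebraMap hRF r).symm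
  have hxK : IsIntegral K (algebraMap T FT x) :=
    ((halg.algebraMap (A := FT)).extendScalars (IsFractionRing.injective R K)).isIntegral
  have htop : IntermediateField.adjoin K ({algebraMap T FT x} : Set FT) = ⊤ := by
    rw [eq_top_iff]
    intro z _
    have hT : ∀ t : T, algebraMap T FT t ∈ IntermediateField.adjoin K ({algebraMap T FT x} : Set FT) := by
      intro t
      obtain ⟨P, rfl⟩ := hsurj t
      rw [← Polynomial.aeval_algebraMap_apply, ← Polynomial.aeval_map_algebraMap K]
      exact IntermediateField.algebra_adjoin_le_adjoin K _ (Polynomial.aeval_mem_adjoin_singleton K _)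
    obtain ⟨u, v, _, rfl⟩ := IsFractionRing.div_surjective T z
    exact IntermediateField.div_mem _ (hT u) (hT v)
  haveI : FiniteDimensional K FT := by
    haveI := IntermediateField.adjoin.finiteDimensional hxK
    rw [htop] at this
    exact Module.Finite.equiv IntermediateField.topEquiv.toLinearEquiv
  letI aKL : Algebra K L := ((algebraMap FT L).comp (algebraMap K FT)).toAlgebra
  haveI : IsScalarTower K FT L := IsScalarTower.of_algebraMap_eq fun _ => rfl
  haveI : FiniteDimensional K L := FiniteDimensional.trans K FT L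
  letI aRL : Algebra R L := ((algebraMap T L).comp (algebraMap R T)).toAlgebra
  haveI : IsScalarTower R T L := IsScalarTower.of_algebraMap_eq fun _ => rfl
  haveI : IsScalarTower R K L := IsScalarTower.of_algebraMap_eq fun r => by
    show algebraMap T L (algebraMap R T r) = algebraMap FT L (algebraMap K FT (algebraMap R K r))
    rw [← IsScalarTower.algebraMap_apply R K FT, IsScalarTower.algebraMap_apply R T FT, ← IsScalarTower.algebraMap_apply T FT L]
  let R' := integralClosure R L
  haveI : Module.Finite R R' := isN2_apply hN2 K L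
  have hR' : IsNagata R' := isNagata_of_finite hR
  haveI : IsIntegrallyClosed R' := integralClosure.isIntegrallyClosedOfFiniteExtension K
  haveI : IsFractionRing R' L := IsIntegralClosure.isFractionRing_of_finite_extension R K L R'
  let T' := Algebra.adjoin R' ({algebraMap T L x} : Set L)
  letI aTT : Algebra T T' := ((algebraMap T L).codRestrict T' (mem_adjoin_of_gen x hgen)).toAlgebra
  haveI : IsScalarTower T T' L := IsScalarTower.of_algebraMap_eq fun _ => rfl
  haveI : Module.Finite T T' := finite_adjoin_integral (R := R) x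
  haveI := isFractionRing_adjoin T'
  have hgen' : Algebra.adjoin R' ({⟨algebraMap T L x, Algebra.subset_adjoin rfl⟩} : Set T') = ⊤ := by
    have := Algebra.adjoin_adjoin_coe_preimage (R := R') (s := ({algebraMap T L x} : Set L))
    convert this using 2
    ext z
    exact ⟨fun h => by rw [Set.mem_singleton_iff.mp h]; rfl, fun h => Subtype.ext h⟩
  have hN1 : IsN1 T' := isN1_of_monogenic (K := L) hR' _ hgen'
  exact fin_ic_of_finite_base (B := T') ((isN1_iff_finite L).mp hN1)

theorem isNagata_polynomial {R : Type u} [CommRing R] (hR : IsNagata R) : IsNagata (Polynomial R) := by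
  haveI := hR.1
  refine ⟨inferInstance, fun P hP => ?_⟩
  let p := P.comap (Polynomial.C : R →+* Polynomial R)
  letI : Algebra (R ⧸ p) (Polynomial R ⧸ P) := (Ideal.quotientMap P Polynomial.C le_rfl).toAlgebra
  haveI : IsScalarTower R (R ⧸ p) (Polynomial R ⧸ P) := IsScalarTower.of_algebraMap_eq fun _ => rfl
  refine isN2_of_monogenic (isNagata_of_finite (R' := R ⧸ p) hR) Ideal.quotientMap_injective
    (Ideal.Quotient.mk P Polynomial.X) ?_
  rw [eq_top_iff]
  rintro z -
  obtain ⟨f, rfl⟩ := Ideal.Quotient.mk_surjective z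
  induction f using Polynomial.induction_on' with
  | add a b ha hb => rw [map_add]; exact Subalgebra.add_mem _ ha hb
  | monomial n c =>
    rw [← Polynomial.C_mul_X_pow_eq_monomial, map_mul, map_pow]
    refine Subalgebra.mul_mem _ ?_ (Subalgebra.pow_mem _ (Algebra.subset_adjoin (Set.mem_singleton _)) n)
    have h1 : algebraMap (R ⧸ p) (Polynomial R ⧸ P) (Ideal.Quotient.mk p c) = Ideal.Quotient.mk P (Polynomial.C c) :=
      Ideal.quotientMap_mk
    rw [← h1]
    exact Subalgebra.algebraMap_mem _ _

theorem isNagata_of_ringEquiv {A B : Type u} [CommRing A] [CommRing B] (e : A ≃+* B) (h : IsNagata A) : IsNagata B :=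
  letI := e.toRingHom.toAlgebra
  haveI : Module.Finite A B := Module.Finite.of_surjective (Algebra.linearMap A B) e.surjective
  isNagata_of_finite h

theorem isNagata_mvPolynomial {R : Type u} [CommRing R] (hR : IsNagata R) (n : ℕ) : IsNagata (MvPolynomial (Fin n) R) := by
  induction n with
  | zero => exact isNagata_of_ringEquiv (MvPolynomial.isEmptyRingEquiv R (Fin 0)).symm hR
  | succ n ih =>
    have e : Polynomial (MvPolynomial (Fin n) R) ≃+* MvPolynomial (Fin (n + 1)) R :=
      (MvPolynomial.finSuccEquiv R n).symm.toRingEquiv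
    exact isNagata_of_ringEquiv e (isNagata_polynomial ih)

theorem isNagata_of_finiteType {R : Type u} [CommRing R] (hR : IsNagata R) (S : Type u) [CommRing S] [Algebra R S]
    [Algebra.FiniteType R S] : IsNagata S := by
  obtain ⟨n, f, hf⟩ := Algebra.FiniteType.iff_quotient_mvPolynomial''.mp (inferInstance : Algebra.FiniteType R S)
  letI := f.toRingHom.toAlgebra
  haveI : Module.Finite (MvPolynomial (Fin n) R) S :=
    Module.Finite.of_surjective (Algebra.linearMap (MvPolynomial (Fin n) R) S) hf
  exact isNagata_of_finite (isNagata_mvPolynomial hR n)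

end Groth.Agent.CAlgH
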