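import Mathlib
import Groth.Prelude.Def_Found
import Groth.Agent.CAlgH.NagataFiniteType

/-! Integral closure of a Nagata ring in a reduced algebra of finite type. -/
universe u
open CAlg

namespace Groth.Agent.CAlgH

theorem finite_ic_domain {R D : Type u} [CommRing R] [IsDomain R] [IsNoetherianRing R] (hR : IsN2 R) [CommRing D]
    [IsDomain D] [Algebra R D] [Algebra.FiniteType R D] (hinj : Function.Injective (algebraMap R D)) :
    Module.Finite R (integralClosure R D) := by
  classical
  let M := Algebra.algebraMapSubmonoid D (nonZeroDivisors R)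
  let D' := Localization M
  let K := FractionRing R
  letI : Algebra K D' := (IsLocalization.lift (M := nonZeroDivisors R) (S := K) (g := (algebraMap D D').comp (algebraMap R D))
    fun r => IsLocalization.map_units D' (⟨algebraMap R D r, r, r.2, rfl⟩ : M)).toAlgebra
  haveI : IsScalarTower R K D' := IsScalarTower.of_algebraMap_eq fun r => by
    rw [RingHom.algebraMap_toAlgebra, IsLocalization.lift_eq, RingHom.comp_apply, ← IsScalarTower.algebraMap_apply]
  have hM : M ≤ nonZeroDivisors D := by
    rintro _ ⟨r, hr, rfl⟩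
    exact mem_nonZeroDivisors_of_ne_zero ((map_ne_zero_iff _ hinj).mpr (nonZeroDivisors.ne_zero hr))
  haveI : IsDomain D' := IsLocalization.isDomain_localization hM
  haveI : Algebra.FiniteType K D' := by
    obtain ⟨s, hs⟩ := ‹Algebra.FiniteType R D›.out
    refine ⟨⟨s.image (algebraMap D D'), eq_top_iff.mpr fun z _ => ?_⟩⟩
    obtain ⟨d, ⟨_, r, hr, rfl⟩, rfl⟩ := IsLocalization.exists_mk'_eq M z
    have h1 : ∀ d : D, algebraMap D D' d ∈ Algebra.adjoin K ((s.image (algebraMap D D') : Finset D') : Set D') := by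
      intro d
      have : d ∈ Algebra.adjoin R (s : Set D) := hs ▸ Algebra.mem_top
      induction this using Algebra.adjoin_induction with
      | mem d hd => exact Algebra.subset_adjoin (Finset.mem_image_of_mem _ hd)
      | algebraMap r =>
        rw [← IsScalarTower.algebraMap_apply, IsScalarTower.algebraMap_apply R K D']
        exact Subalgebra.algebraMap_mem _ _
      | add a b _ _ ha hb => rw [map_add]; exact Subalgebra.add_mem _ ha hb
      | mul a b _ _ ha hb => rw [map_mul]; exact Subalgebra.mul_mem _ ha hb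
    have h2 : IsLocalization.mk' D' d (⟨algebraMap R D r, r, hr, rfl⟩ : M) = algebraMap K D' ((algebraMap R K r)⁻¹) * algebraMap D D' d := by
      rw [IsLocalization.mk'_eq_iff_eq_mul]
      show algebraMap D D' d = algebraMap K D' (algebraMap R K r)⁻¹ * algebraMap D D' d * algebraMap D D' (algebraMap R D r)
      rw [← IsScalarTower.algebraMap_apply R D D', IsScalarTower.algebraMap_apply R K D', mul_right_comm, ← map_mul,
        inv_mul_cancel₀ ((map_ne_zero_iff _ (IsFractionRing.injective R K)).mpr (nonZeroDivisors.ne_zero hr)), map_one, one_mul]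
    rw [h2]
    exact Subalgebra.mul_mem _ (Subalgebra.algebraMap_mem _ _) (h1 d)
  obtain ⟨Q, hQ⟩ := Ideal.exists_maximal D'
  letI : Field (D' ⧸ Q) := Ideal.Quotient.field Q
  haveI : Algebra.FiniteType K (D' ⧸ Q) :=
    Algebra.FiniteType.of_surjective (Ideal.Quotient.mkₐ K Q) Ideal.Quotient.mk_surjective
  haveI : FiniteDimensional K (D' ⧸ Q) := finite_of_finite_type_of_isJacobsonRing K (D' ⧸ Q)
  have hfin : Module.Finite R (integralClosure R (D' ⧸ Q)) := isN2_apply hR K (D' ⧸ Q)
  let φ : D →ₐ[R] D' ⧸ Q := (Ideal.Quotient.mkₐ R Q).comp (IsScalarTower.toAlgHom R D D')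
  let ι : integralClosure R D →ₗ[R] integralClosure R (D' ⧸ Q) :=
    { toFun := fun a => ⟨φ a.1, (a.2 : IsIntegral R a.1).map φ⟩
      map_add' := fun a b => Subtype.ext (map_add φ a.1 b.1)
      map_smul' := fun r a => Subtype.ext (map_smul φ r a.1) }
  refine Module.Finite.of_injective ι fun a b hab => ?_
  by_contra hne
  have hd : (a.1 - b.1) ≠ 0 := sub_ne_zero.mpr fun h => hne (Subtype.ext h)
  have hdi : IsIntegral R (a.1 - b.1) := (a.2 : IsIntegral R a.1).sub b.2
  obtain ⟨r, hr, hdvd⟩ := hdi.isAlgebraic.exists_nonzero_dvd (mem_nonZeroDivisors_of_ne_zero hd)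
  have hu : IsUnit (algebraMap D D' (algebraMap R D r)) :=
    IsLocalization.map_units D' (⟨algebraMap R D r, r, mem_nonZeroDivisors_of_ne_zero hr, rfl⟩ : M)
  have h0 : φ (a.1 - b.1) = 0 := by rw [map_sub, sub_eq_zero]; exact congrArg Subtype.val hab
  exact hQ.ne_top (Ideal.eq_top_of_isUnit_mem _ (Ideal.Quotient.eq_zero_iff_mem.mp h0)
    (isUnit_of_dvd_unit (map_dvd _ hdvd) hu))

theorem finite_ic_of_isNagata {R : Type u} [CommRing R] (hR : IsNagata R) (S : Type u) [CommRing S] [IsReduced S]
    [Algebra R S] [Algebra.FiniteType R S] : Module.Finite R (integralClosure R S) := by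
  classical
  haveI := hR.1
  haveI : IsNoetherianRing S := Algebra.FiniteType.isNoetherianRing R S
  let ι := {q : Ideal S // q ∈ minimalPrimes S}
  haveI : Finite ι := (minimalPrimes.finite_of_isNoetherianRing S).to_subtype
  cases nonempty_fintype ι
  have hq : ∀ q : ι, Module.Finite R (integralClosure R (S ⧸ q.1)) := by
    intro q
    haveI : Ideal.IsPrime q.1 := q.2.1.1
    haveI : Algebra.FiniteType R (S ⧸ q.1) :=
      Algebra.FiniteType.of_surjective (Ideal.Quotient.mkₐ R q.1) Ideal.Quotient.mk_surjective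
    let p := RingHom.ker (algebraMap R (S ⧸ q.1))
    haveI : p.IsPrime := RingHom.ker_isPrime _
    letI : Algebra (R ⧸ p) (S ⧸ q.1) := (RingHom.kerLift (algebraMap R (S ⧸ q.1))).toAlgebra
    haveI : IsScalarTower R (R ⧸ p) (S ⧸ q.1) := IsScalarTower.of_algebraMap_eq fun _ => rfl
    haveI : Algebra.FiniteType (R ⧸ p) (S ⧸ q.1) := Algebra.FiniteType.of_restrictScalars_finiteType R _ _
    have h1 := finite_ic_domain (hR.2 p) (RingHom.kerLift_injective (algebraMap R (S ⧸ q.1)))
    exact fin_ic_of_finite_base (B := R ⧸ p) h1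
  let π : integralClosure R S →ₗ[R] ((q : ι) → integralClosure R (S ⧸ q.1)) :=
    LinearMap.pi fun q =>
      { toFun := fun a => ⟨Ideal.Quotient.mk q.1 a.1, (a.2 : IsIntegral R a.1).map (Ideal.Quotient.mkₐ R q.1)⟩
        map_add' := fun a b => Subtype.ext (map_add _ a.1 b.1)
        map_smul' := fun r a => Subtype.ext (map_smul (Ideal.Quotient.mkₐ R q.1) r a.1) }
  haveI : ∀ q : ι, Module.Finite R (integralClosure R (S ⧸ q.1)) := hq
  refine Module.Finite.of_injective π fun a b hab => Subtype.ext ?_
  rw [← sub_eq_zero]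
  have hmem : a.1 - b.1 ∈ nilradical S := by
    rw [nilradical, ← Ideal.sInf_minimalPrimes, Submodule.mem_sInf]
    intro q hq
    rw [← Ideal.Quotient.eq_zero_iff_mem, map_sub, sub_eq_zero]
    exact congrArg Subtype.val (congrFun hab ⟨q, hq⟩)
  exact (mem_nilradical.mp hmem).eq_zero

end Groth.Agent.CAlgH
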