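import Groth.Agent.Tor15.TorDim
import Groth.Agent.EGA41Lib.TorPd
import Groth.Agent.EGA43.PdFlat.Basic
import Groth.Agent.CAlgH3.RegularHom
import Mathlib.RingTheory.IsTensorProduct

/-!
# Modules with finite flat resolutions
-/

universe u

set_option autoImplicit false

open TensorProduct Function

namespace Groth.Agent.CAlgH.FlatDimension

/-- `M` has a flat resolution of length `≤ n`. -/
def FlatDimLE (R : Type u) [CommRing R] : ℕ → ∀ (M : Type u) [AddCommGroup M] [Module R M], Prop
  | 0, M, _, _ => Module.Flat R M
  | n + 1, M, _, _ => ∃ (L P : Type u) (_ : AddCommGroup L) (_ : Module R L) (_ : AddCommGroup P)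
      (_ : Module R P) (_ : Module.Flat R P) (i : L →ₗ[R] P) (p : P →ₗ[R] M),
      Exact i p ∧ Surjective p ∧ Injective i ∧ FlatDimLE R n L

variable {R : Type u} [CommRing R]

theorem FlatDimLE.congr {n : ℕ} {M N : Type u} [AddCommGroup M] [Module R M] [AddCommGroup N]
    [Module R N] (e : M ≃ₗ[R] N) (h : FlatDimLE R n M) : FlatDimLE R n N := by
  cases n with
  | zero => exact haveI : Module.Flat R M := h; Module.Flat.of_linearEquiv e.symm
  | succ n =>
    obtain ⟨L, P, _, _, _, _, _, i, p, hip, hp, hi, hL⟩ := h
    exact ⟨L, P, inferInstance, inferInstance, inferInstance, inferInstance, inferInstance, i,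
      e.toLinearMap ∘ₗ p, (e.injective.comp_exact_iff_exact (f := i) (g := p)).2 hip,
      e.surjective.comp hp, hi, hL⟩

theorem flatDimLE_of_forall_dim : ∀ (n : ℕ) (M : Type u) [AddCommGroup M] [Module R M],
    (∀ (N : Type u) [AddCommGroup N] [Module R N], Tor15.Dim (R := R) n M N) → FlatDimLE R n M
  | 0, _, _, _, h => Tor15.flat_of_dim_zero h
  | n + 1, M, _, _, h => by
    let g : (M →₀ R) →ₗ[R] M := Finsupp.linearCombination R id
    have hg : Surjective g := fun m => ⟨Finsupp.single m 1, by simp [g]⟩
    exact ⟨_, _, inferInstance, inferInstance, inferInstance, inferInstance, inferInstance,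
      (LinearMap.ker g).subtype, g, LinearMap.exact_subtype_ker_map g, hg, Submodule.injective_subtype _,
      flatDimLE_of_forall_dim n _ fun N _ _ => Tor15.dim_shift (R := R) (K := LinearMap.ker g) (F := M →₀ R) n (LinearMap.ker g).subtype g
        (LinearMap.exact_subtype_ker_map g) hg (Submodule.injective_subtype _) (h N)⟩

theorem flatDimLE_of_hasTorDimLE {n : ℕ} {M : Type u} [AddCommGroup M] [Module R M]
    (h : DRing.HasTorDimLE R n M) : FlatDimLE R (n + 1) M :=
  flatDimLE_of_forall_dim _ M fun N _ _ => Tor15.dim_of_hasTorDimLE h N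

theorem FlatDimLE.dim : ∀ {n : ℕ} {M : Type u} [AddCommGroup M] [Module R M],
    FlatDimLE R n M → ∀ (X : Type u) [AddCommGroup X] [Module R X], Tor15.Dim (R := R) n X M
  | 0, _, _, _, h, _, _, _ =>
    haveI : Module.Flat R _ := h
    Tor15.torVanish_symm Tor15.torVanish_of_flat
  | n + 1, _, _, _, h, X, _, _ => by
    obtain ⟨L, P, _, _, _, _, _, i, p, hip, hp, hi, hL⟩ := h
    exact ⟨L, P, inferInstance, inferInstance, inferInstance, inferInstance, inferInstance, i, p,
      hip, hp, hi, hL.dim X⟩

/-- A Noetherian local ring whose residue field has finite flat dimension is regular. -/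
theorem isRegularLocalRing_of_flatDimLE [IsLocalRing R] [IsNoetherianRing R] {n : ℕ}
    (h : FlatDimLE R n (R ⧸ IsLocalRing.maximalIdeal R)) : IsRegularLocalRing R :=
  CAlgH3.isRegularLocalRing_of_pd (EGA41Lib.pd_of_dim_residue n _ (h.dim _))

/-- Restriction along a flat ring map. -/
theorem FlatDimLE.restrictScalars {S : Type u} [CommRing S] [Algebra R S] [Module.Flat R S] :
    ∀ {n : ℕ} {M : Type u} [AddCommGroup M] [Module S M] [Module R M] [IsScalarTower R S M],
    FlatDimLE S n M → FlatDimLE R n M
  | 0, M, _, _, _, _, h =>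
    haveI : Module.Flat S M := h
    Module.Flat.trans R S M
  | n + 1, M, _, _, _, _, h => by
    obtain ⟨L, P, _, _, _, _, _, i, p, hip, hp, hi, hL⟩ := h
    let _ : Module R L := Module.compHom L (algebraMap R S)
    let _ : Module R P := Module.compHom P (algebraMap R S)
    have : IsScalarTower R S L := .of_algebraMap_smul fun _ _ => rfl
    have : IsScalarTower R S P := .of_algebraMap_smul fun _ _ => rfl
    exact ⟨L, P, inferInstance, inferInstance, inferInstance, inferInstance,
      Module.Flat.trans R S P, i.restrictScalars R, p.restrictScalars R, hip, hp, hi,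
      hL.restrictScalars⟩

/-- Flat base change. -/
theorem FlatDimLE.baseChange {S : Type u} [CommRing S] [Algebra R S] [Module.Flat R S] :
    ∀ {n : ℕ} {M : Type u} [AddCommGroup M] [Module R M],
    FlatDimLE R n M → FlatDimLE S n (S ⊗[R] M)
  | 0, M, _, _, h =>
    haveI : Module.Flat R M := h
    Module.Flat.baseChange R S M
  | n + 1, M, _, _, h => by
    obtain ⟨L, P, _, _, _, _, _, i, p, hip, hp, hi, hL⟩ := h
    exact ⟨S ⊗[R] L, S ⊗[R] P, inferInstance, inferInstance, inferInstance, inferInstance,
      Module.Flat.baseChange R S P, i.baseChange S, p.baseChange S, lTensor_exact S hip hp,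
      LinearMap.lTensor_surjective S hp, Module.Flat.lTensor_preserves_injective_linearMap i hi,
      hL.baseChange⟩

/-- Base change along `D → k ⊗ D` of resolutions of modules which are flat over `B`, when `D` is
flat over `B`. -/
theorem FlatDimLE.baseChange_pushout {B k D D' : Type u} [CommRing B] [CommRing k] [CommRing D]
    [CommRing D'] [Algebra B D] [Algebra B k] [Algebra B D'] [Algebra D D'] [Algebra k D']
    [IsScalarTower B D D'] [IsScalarTower B k D'] [Algebra.IsPushout B k D D'] [Module.Flat B D] :
    ∀ {n : ℕ} {X : Type u} [AddCommGroup X] [Module D X] [Module B X] [IsScalarTower B D X]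
      [Module.Flat B X], FlatDimLE D n X → FlatDimLE D' n (D' ⊗[D] X)
  | 0, X, _, _, _, _, _, h =>
    haveI : Module.Flat D X := h
    Module.Flat.baseChange D D' X
  | n + 1, X, _, _, _, _, _, h => by
    obtain ⟨L, P, _, _, _, _, _, i, p, hip, hp, hi, hL⟩ := h
    let _ : Module B L := Module.compHom L (algebraMap B D)
    let _ : Module B P := Module.compHom P (algebraMap B D)
    have : IsScalarTower B D L := .of_algebraMap_smul fun _ _ => rfl
    have : IsScalarTower B D P := .of_algebraMap_smul fun _ _ => rfl
    have : Module.Flat B P := Module.Flat.trans B D P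
    have : Module.Flat B L := by
      have hk := EGA43.PdFlat.flat_of_submodule_of_flat_quotient (A := B) p hp
      let e : L ≃ₗ[B] LinearMap.ker p :=
        ((LinearEquiv.ofInjective i hi).trans
          (LinearEquiv.ofEq _ _ hip.linearMap_ker_eq.symm)).restrictScalars B
      exact haveI := hk; Module.Flat.of_linearEquiv e
    refine ⟨D' ⊗[D] L, D' ⊗[D] P, inferInstance, inferInstance, inferInstance, inferInstance,
      Module.Flat.baseChange D D' P, i.baseChange D', p.baseChange D', lTensor_exact D' hip hp,
      LinearMap.lTensor_surjective D' hp, ?_, hL.baseChange_pushout (B := B) (k := k)⟩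
    have hinj : Injective ((i.restrictScalars B).lTensor k) :=
      LinearMap.lTensor_injective_of_exact_of_flat (p.restrictScalars B) hp (i.restrictScalars B) hi hip k
    let eL := Algebra.IsPushout.cancelBaseChange B k D D' L
    let eP := Algebra.IsPushout.cancelBaseChange B k D D' P
    have hcomm : ∀ z, i.baseChange D' (eL.symm z) = eP.symm ((i.restrictScalars B).lTensor k z) :=
      fun z => by
        induction z using TensorProduct.induction_on with
        | zero => simp
        | add u v hu hv => simp only [map_add, hu, hv]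
        | tmul c l => simp [eL, eP]
    intro x y hxy
    obtain ⟨x, rfl⟩ := eL.symm.surjective x
    obtain ⟨y, rfl⟩ := eL.symm.surjective y
    rw [hcomm, hcomm] at hxy
    rw [hinj (eP.symm.injective hxy)]

end Groth.Agent.CAlgH.FlatDimension
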