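import Mathlib
import Groth.Agent.CAlgH.AdicSmooth

/-! Adic formal smoothness and the naive cotangent complex. -/
universe u
open IsLocalRing TensorProduct KaehlerDifferential

namespace Groth.Agent.CAlgH.AdicSmooth

theorem mem_sq_of_map_mem_sq {A B K : Type u} [CommRing A] [CommRing B] [Field K] [Algebra A B] [Algebra A K]
    [Algebra B K] [IsScalarTower A B K] (𝔫 : Ideal B) (h𝔫 : 𝔫 ≤ RingHom.ker (algebraMap B K))
    (h : CAlgX.IsAdicFormallySmooth A B 𝔫) (f : MvPolynomial K A)
    (hf : MvPolynomial.map (algebraMap A B) f ∈ RingHom.ker (MvPolynomial.aeval (R := B) (id : K → K)).toRingHom ^ 2) :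
    f ∈ RingHom.ker (MvPolynomial.aeval (R := A) (id : K → K)).toRingHom ^ 2 := by
  let π := (MvPolynomial.aeval (R := A) (id : K → K)).toRingHom
  let πB := (MvPolynomial.aeval (R := B) (id : K → K)).toRingHom
  let N := RingHom.ker π
  have hπ : Function.Surjective π := fun a => ⟨MvPolynomial.X a, MvPolynomial.aeval_X _ a⟩
  let q := Ideal.Quotient.mk (N ^ 2)
  let V := N.map q
  have hV : V ^ 2 = ⊥ := by
    show (N.map q) ^ 2 = ⊥
    rw [← Ideal.map_pow]
    exact Ideal.map_quotient_self _
  let qq := (Ideal.Quotient.mk V).comp q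
  have hker : RingHom.ker π ≤ RingHom.ker qq := fun x hx =>
    Ideal.Quotient.eq_zero_iff_mem.mpr (Ideal.mem_map_of_mem q hx)
  let e : K →+* _ ⧸ V := RingHom.liftOfSurjective π hπ ⟨qq, hker⟩
  have he : ∀ x, e (π x) = qq x := fun x => RingHom.liftOfRightInverse_comp_apply _ _ _ ⟨qq, hker⟩ x
  obtain ⟨χ, hχ1, hχ2⟩ := exists_lift_ringHom h (q.comp MvPolynomial.C) V hV (e.comp (algebraMap B K))
    (RingHom.ext fun a => by
      show e (algebraMap B K (algebraMap A B a)) = Ideal.Quotient.mk V (q (MvPolynomial.C a))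
      rw [← IsScalarTower.algebraMap_apply A B K]
      exact (congrArg e (MvPolynomial.aeval_C (id : K → K) a).symm).trans (he _))
    ⟨1, fun x hx => by
      rw [pow_one] at hx
      show e (algebraMap B K x) = 0
      rw [RingHom.mem_ker.mp (h𝔫 hx), map_zero]⟩
  let G : MvPolynomial K B →+* _ := MvPolynomial.eval₂Hom χ (fun a => q (MvPolynomial.X a))
  have hG1 : G.comp (MvPolynomial.map (algebraMap A B)) = q := MvPolynomial.ringHom_ext
    (fun a => by
      show G (MvPolynomial.map (algebraMap A B) (MvPolynomial.C a)) = _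
      rw [MvPolynomial.map_C, MvPolynomial.eval₂Hom_C]
      exact RingHom.congr_fun hχ1 a)
    (fun a => by
      show G (MvPolynomial.map (algebraMap A B) (MvPolynomial.X a)) = _
      rw [MvPolynomial.map_X, MvPolynomial.eval₂Hom_X'])
  have hG2 : (Ideal.Quotient.mk V).comp G = e.comp πB := MvPolynomial.ringHom_ext
    (fun b => by
      show Ideal.Quotient.mk V (G (MvPolynomial.C b)) = e (πB (MvPolynomial.C b))
      rw [MvPolynomial.eval₂Hom_C]
      refine (RingHom.congr_fun hχ2 b).trans ?_
      exact congrArg e (MvPolynomial.aeval_C (id : K → K) b).symm)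
    (fun a => by
      show Ideal.Quotient.mk V (G (MvPolynomial.X a)) = e (πB (MvPolynomial.X a))
      rw [MvPolynomial.eval₂Hom_X']
      refine ((he (MvPolynomial.X a)).symm).trans (congrArg e ?_)
      exact (MvPolynomial.aeval_X (id : K → K) a).trans (MvPolynomial.aeval_X (R := B) (id : K → K) a).symm)
  have h1 : (RingHom.ker πB).map G ≤ V := Ideal.map_le_iff_le_comap.mpr fun x hx => by
    refine (Ideal.Quotient.eq_zero_iff_mem (I := V) (a := G x)).mp ?_
    show Ideal.Quotient.mk V (G x) = 0
    exact (RingHom.congr_fun hG2 x).trans (by rw [RingHom.comp_apply, RingHom.mem_ker.mp hx, map_zero])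
  have h2 := Ideal.pow_right_mono h1 2 (by rw [← Ideal.map_pow]; exact Ideal.mem_map_of_mem G hf)
  rw [hV, Ideal.mem_bot, ← RingHom.comp_apply, hG1] at h2
  exact Ideal.Quotient.eq_zero_iff_mem.mp h2

/-- An essentially finitely presented local algebra which is adically formally smooth is formally smooth. -/
theorem formallySmooth_of_presentation {R S P : Type u} [CommRing R] [CommRing S] [IsLocalRing S] [Algebra R S]
    [CommRing P] [IsLocalRing P] [IsNoetherianRing P] [Algebra R P] [Algebra P S] [IsScalarTower R P S]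
    [Algebra.FormallySmooth R P] [Module.Free P Ω[P⁄R]] [Module.Finite P Ω[P⁄R]]
    (h₁ : Function.Surjective (algebraMap P S))
    (h : CAlgX.IsAdicFormallySmooth R S (maximalIdeal S)) : Algebra.FormallySmooth R S := by
  rw [Algebra.FormallySmooth.iff_injective_cotangentComplexBaseChange_residueField P h₁ (IsNoetherian.noetherian _)]
  let I := RingHom.ker (algebraMap P S)
  let m := maximalIdeal P
  have hm : m.map (algebraMap P S) = maximalIdeal S := IsLocalRing.map_maximalIdeal_of_surjective _ h₁
  have hkk : ∀ x ∈ m, algebraMap P (ResidueField S) x = 0 := fun x hx => by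
    rw [IsScalarTower.algebraMap_apply P S (ResidueField S), ResidueField.algebraMap_eq, residue_eq_zero_iff, ← hm]
    exact Ideal.mem_map_of_mem _ hx
  have hks : Function.Surjective (algebraMap P (ResidueField S)) := by
    rw [IsScalarTower.algebraMap_eq P S (ResidueField S)]
    exact residue_surjective.comp h₁
  rw [injective_iff_map_eq_zero]
  intro z hz
  obtain ⟨i, rfl⟩ := TensorProduct.mk_surjective P I (ResidueField S) hks z
  rw [TensorProduct.mk_apply] at hz ⊢
  rw [KaehlerDifferential.cotangentComplexBaseChange_tmul, kerToTensor_apply] at hz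
  have hd : D R P (i : P) ∈ (m • ⊤ : Submodule P Ω[P⁄R]) := by
    have hk : RingHom.ker (algebraMap P (ResidueField S)) = m := le_antisymm
      (le_maximalIdeal (RingHom.ker_ne_top _)) hkk
    let e := LinearEquiv.ofBijective ((Submodule.liftQ (RingHom.ker (algebraMap P (ResidueField S)))
      (Algebra.linearMap P (ResidueField S)) le_rfl))
      ⟨LinearMap.ker_eq_bot.mp (Submodule.ker_liftQ_eq_bot _ _ _ le_rfl), fun y => by
        obtain ⟨x, rfl⟩ := hks y
        exact ⟨Submodule.Quotient.mk x, rfl⟩⟩
    have h0 : (TensorProduct.quotTensorEquivQuotSMul Ω[P⁄R] (RingHom.ker (algebraMap P (ResidueField S))))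
        ((LinearEquiv.rTensor Ω[P⁄R] e.symm) ((1 : ResidueField S) ⊗ₜ[P] D R P (i : P))) = 0 := by
      have : (1 : ResidueField S) ⊗ₜ[P] D R P (i : P) = 0 := by simpa using hz
      rw [this, map_zero, map_zero]
    rw [LinearEquiv.rTensor_tmul, show e.symm (1 : ResidueField S) = Ideal.Quotient.mk _ 1 from
      e.symm_apply_eq.mpr (map_one (algebraMap P (ResidueField S))).symm, TensorProduct.quotTensorEquivQuotSMul_mk_tmul,
      one_smul, Submodule.Quotient.mk_eq_zero, hk] at h0
    exact h0
  have hiW : ∀ N : ℕ, (i : P) ∈ m * I ⊔ m ^ N := fun N => by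
    let W := m * I ⊔ m ^ N
    let q := Ideal.Quotient.mkₐ R W
    let J := I.map q
    have hq : ∀ x ∈ W, q x = 0 := fun x hx => Ideal.Quotient.eq_zero_iff_mem.mpr hx
    have hJm : ∀ x ∈ m, ∀ j ∈ J, q x * j = 0 := fun x hx j hj => by
      obtain ⟨y, hy, rfl⟩ := (Ideal.mem_map_iff_of_surjective _ Ideal.Quotient.mk_surjective).mp hj
      show q x * q y = 0
      rw [← map_mul]
      exact hq _ (Ideal.mem_sup_left (Ideal.mul_mem_mul hx hy))
    have hIm : I ≤ m := le_maximalIdeal (RingHom.ker_ne_top _)
    have hJ : J ^ 2 = ⊥ := by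
      show (I.map q) ^ 2 = ⊥
      rw [← Ideal.map_pow, eq_bot_iff, Ideal.map_le_iff_le_comap]
      exact fun x hx => Ideal.mem_bot.mpr (hq x (Ideal.mem_sup_left
        ((pow_two I).le.trans (Ideal.mul_mono_left hIm) hx)))
    let qq : P →+* (P ⧸ W) ⧸ J := (Ideal.Quotient.mk J).comp q.toRingHom
    have hker : RingHom.ker (algebraMap P S) ≤ RingHom.ker qq := fun x hx =>
      Ideal.Quotient.eq_zero_iff_mem.mpr (Ideal.mem_map_of_mem q hx)
    let ψ : S →+* (P ⧸ W) ⧸ J := RingHom.liftOfSurjective (algebraMap P S) h₁ ⟨qq, hker⟩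
    have hψ : ∀ x, ψ (algebraMap P S x) = qq x := fun x => RingHom.liftOfRightInverse_comp_apply _ _ _ ⟨qq, hker⟩ x
    obtain ⟨χ, hχ1, hχ2⟩ := exists_lift_ringHom h (algebraMap R (P ⧸ W)) J hJ ψ
      (RingHom.ext fun r => by
        show ψ (algebraMap R S r) = _
        rw [IsScalarTower.algebraMap_apply R P S, hψ]
        rfl)
      ⟨N, fun x hx => by
        rw [← hm, ← Ideal.map_pow] at hx
        obtain ⟨y, hy, rfl⟩ := (Ideal.mem_map_iff_of_surjective _ h₁).mp hx
        rw [hψ]
        show Ideal.Quotient.mk J (q y) = 0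
        rw [hq y (Ideal.mem_sup_right hy), map_zero]⟩
    have hdiff : ∀ x, χ (algebraMap P S x) - q x ∈ J := fun x => by
      rw [← Ideal.Quotient.eq_zero_iff_mem, map_sub, sub_eq_zero]
      exact (RingHom.congr_fun hχ2 _).trans (hψ x)
    let δ : P →ₗ[R] J :=
      { toFun := fun x => ⟨χ (algebraMap P S x) - q x, hdiff x⟩
        map_add' := fun x y => Subtype.ext (by
          show χ (algebraMap P S (x + y)) - q (x + y) = (χ (algebraMap P S x) - q x) + (χ (algebraMap P S y) - q y)
          rw [map_add, map_add, map_add]; ring)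
        map_smul' := fun r x => Subtype.ext (by
          show χ (algebraMap P S (r • x)) - q (r • x) = r • (χ (algebraMap P S x) - q x)
          rw [Algebra.smul_def, map_mul, ← IsScalarTower.algebraMap_apply R P S, map_mul, map_mul,
            show χ (algebraMap R S r) = algebraMap R (P ⧸ W) r from RingHom.congr_fun hχ1 r, q.commutes, Algebra.smul_def]
          ring) }
    let Dv : Derivation R P J := Derivation.mk' δ fun x y => Subtype.ext (by
      show χ (algebraMap P S (x * y)) - q (x * y)
        = q x * (χ (algebraMap P S y) - q y) + q y * (χ (algebraMap P S x) - q x)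
      have h0 : (χ (algebraMap P S x) - q x) * (χ (algebraMap P S y) - q y) = 0 := by
        rw [← Ideal.mem_bot, ← hJ, pow_two]
        exact Ideal.mul_mem_mul (hdiff x) (hdiff y)
      rw [map_mul, map_mul, map_mul]
      linear_combination h0)
    have h0 : Dv.liftKaehlerDifferential (D R P (i : P)) = 0 := by
      refine Submodule.smul_induction_on hd (fun x hx ω _ => ?_) (fun a b ha hb => by rw [map_add, ha, hb, add_zero])
      rw [map_smul]
      exact Subtype.ext (hJm x hx _ (Dv.liftKaehlerDifferential ω).2)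
    rw [Derivation.liftKaehlerDifferential_comp_D] at h0
    have h1 : χ (algebraMap P S i) - q i = 0 := congrArg Subtype.val h0
    rw [RingHom.mem_ker.mp i.2, map_zero, zero_sub, neg_eq_zero] at h1
    exact Ideal.Quotient.eq_zero_iff_mem.mp h1
  have himI : (i : P) ∈ m * I := by
    rw [← Ideal.Quotient.eq_zero_iff_mem, ← Ideal.mem_bot]
    by_cases htop : m * I = ⊤
    · haveI : Subsingleton (P ⧸ (m * I)) := Ideal.Quotient.subsingleton_iff.mpr htop
      exact Subsingleton.elim _ _
    haveI : Nontrivial (P ⧸ (m * I)) := Ideal.Quotient.nontrivial_iff.mpr htop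
    haveI : IsLocalRing (P ⧸ (m * I)) := IsLocalRing.of_surjective' _ Ideal.Quotient.mk_surjective
    rw [← Ideal.iInf_pow_eq_bot_of_isLocalRing (I := m.map (Ideal.Quotient.mk (m * I))) (by
      rw [IsLocalRing.map_maximalIdeal_of_surjective _ Ideal.Quotient.mk_surjective]
      exact (maximalIdeal.isMaximal _).ne_top)]
    refine Submodule.mem_iInf _ |>.mpr fun N => ?_
    have := Ideal.mem_map_of_mem (Ideal.Quotient.mk (m * I)) (hiW N)
    rwa [Ideal.map_sup, Ideal.map_quotient_self, bot_sup_eq, Ideal.map_pow] at this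
  have : i ∈ (m • ⊤ : Submodule P I) := by
    rw [Submodule.mem_smul_top_iff]
    exact himI
  refine Submodule.smul_induction_on this (fun x hx j _ => ?_) (fun a b ha hb => by rw [TensorProduct.tmul_add, ha, hb, add_zero])
  rw [← TensorProduct.smul_tmul, Algebra.smul_def, hkk x hx, zero_mul, TensorProduct.zero_tmul]

theorem formallySmooth_localization {A B : Type u} [CommRing A] [IsNoetherianRing A] [CommRing B] [Algebra A B]
    [Algebra.FiniteType A B] (q : Ideal B) [q.IsPrime]
    (h : CAlgX.IsAdicFormallySmooth A (Localization.AtPrime q) (maximalIdeal (Localization.AtPrime q))) :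
    Algebra.FormallySmooth A (Localization.AtPrime q) := by
  obtain ⟨n, f₀, hf₀⟩ := Algebra.FiniteType.iff_quotient_mvPolynomial''.mp
    (inferInstance : Algebra.FiniteType A B)
  let Q := q.comap f₀
  let fP : Localization.AtPrime Q →ₐ[A] Localization.AtPrime q := IsLocalization.liftAlgHom (M := Q.primeCompl)
    (f := (IsScalarTower.toAlgHom A B (Localization.AtPrime q)).comp f₀)
    (fun x => IsLocalization.map_units (M := q.primeCompl) _ ⟨f₀ x.1, x.2⟩)
  have hf₁ : Function.Surjective fP := by
    intro x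
    obtain ⟨x, ⟨s, hs⟩, rfl⟩ := IsLocalization.exists_mk'_eq q.primeCompl x
    obtain ⟨x, rfl⟩ := hf₀ x
    obtain ⟨s, rfl⟩ := hf₀ s
    refine ⟨IsLocalization.mk' (M := Q.primeCompl) _ x ⟨s, hs⟩, ?_⟩
    show IsLocalization.lift _ (IsLocalization.mk' (M := Q.primeCompl) _ x ⟨s, hs⟩) = _
    refine (IsLocalization.lift_mk'_spec _ _ _ _).mpr ?_
    exact (IsLocalization.mk'_spec' _ (f₀ x) (⟨f₀ s, hs⟩ : q.primeCompl)).symm
  algebraize [fP.toRingHom]
  haveI : Algebra.FormallyEtale (MvPolynomial (Fin n) A) (Localization.AtPrime Q) := .of_isLocalization Q.primeCompl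
  haveI : Algebra.FormallySmooth A (Localization.AtPrime Q) := .comp _ (MvPolynomial (Fin n) A) _
  haveI : IsNoetherianRing (Localization.AtPrime Q) := IsLocalization.isNoetherianRing Q.primeCompl _ inferInstance
  haveI : Module.Free (Localization.AtPrime Q) Ω[(Localization.AtPrime Q)⁄A] :=
    .of_equiv (KaehlerDifferential.tensorKaehlerEquivOfFormallyEtale A (MvPolynomial (Fin n) A) (Localization.AtPrime Q))
  haveI : Module.Finite (Localization.AtPrime Q) Ω[(Localization.AtPrime Q)⁄A] :=
    .equiv (KaehlerDifferential.tensorKaehlerEquivOfFormallyEtale A (MvPolynomial (Fin n) A) (Localization.AtPrime Q))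
  exact formallySmooth_of_presentation (P := Localization.AtPrime Q) hf₁ h

end Groth.Agent.CAlgH.AdicSmooth
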