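import Mathlib
import Groth.Prelude.Def_BlowUp2
import Groth.Prelude.Def_CAlgX

/-! The exceptional fibre of a chart of the blow-up of a quasi-regular ideal is an affine space. -/

set_option autoImplicit false
set_option backward.isDefEq.respectTransparency.types false
universe u

open MvPolynomial

namespace Groth.Agent.CAlgH.QRBlowupChart

variable {A : Type u} [CommRing A] {c : ℕ} (f : Fin c → A) (i0 : Fin c)

/-- The fractions `f j / f i0`, `j ≠ i0`, as a map from the polynomial ring. -/
noncomputable def evalFrac : MvPolynomial {j // j ≠ i0} A →ₐ[A] Localization.Away (f i0) :=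
  aeval fun j => IsLocalization.mk' (Localization.Away (f i0)) (f j)
    (⟨f i0, Submonoid.mem_powers _⟩ : Submonoid.powers (f i0))

theorem evalFrac_X_mul (j : {j // j ≠ i0}) :
    evalFrac f i0 (X j) * algebraMap A _ (f i0) = algebraMap A _ (f j) := by
  rw [evalFrac, aeval_X]
  exact IsLocalization.mk'_spec _ _ _

theorem range_evalFrac :
    (evalFrac f i0).range = BlowUp.affineAlgebra A (Ideal.span (Set.range f)) (f i0) := by
  let L := Localization.Away (f i0)
  refine le_antisymm ?_ (Algebra.adjoin_le ?_)
  · rintro _ ⟨P, rfl⟩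
    induction P using MvPolynomial.induction_on with
    | C r => rw [← MvPolynomial.algebraMap_eq]; simp
    | add p q hp hq => simpa using add_mem hp hq
    | mul_X p j hp =>
      refine (map_mul (evalFrac f i0) p (X j)).symm ▸ mul_mem hp (Algebra.subset_adjoin ?_)
      exact ⟨f j, Ideal.subset_span ⟨j, rfl⟩, by rw [evalFrac, aeval_X]⟩
  · rintro _ ⟨x, hx, rfl⟩
    have key : ∀ x ∈ Ideal.span (Set.range f), ∃ P, evalFrac f i0 P * algebraMap A L (f i0) = algebraMap A L x := by
      intro x hx
      induction hx using Submodule.span_induction with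
      | mem y hy =>
        obtain ⟨j, rfl⟩ := hy
        by_cases h : j = i0
        · subst h; exact ⟨1, by rw [map_one, one_mul]⟩
        · exact ⟨X ⟨j, h⟩, evalFrac_X_mul f i0 ⟨j, h⟩⟩
      | zero => exact ⟨0, by simp⟩
      | add y z _ _ hy hz =>
        obtain ⟨P, hP⟩ := hy; obtain ⟨Q, hQ⟩ := hz
        exact ⟨P + Q, by rw [map_add, add_mul, hP, hQ, map_add]⟩
      | smul r y _ hy =>
        obtain ⟨P, hP⟩ := hy
        exact ⟨C r * P, by rw [map_mul, mul_assoc, hP, smul_eq_mul, map_mul, ← MvPolynomial.algebraMap_eq, AlgHom.commutes]⟩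
    obtain ⟨P, hP⟩ := key x hx
    exact ⟨P, (IsLocalization.eq_mk'_iff_mul_eq.mpr hP)⟩

/-- A polynomial vanishing at the fractions has all coefficients in the ideal. -/
theorem coeff_mem_of_evalFrac_eq_zero (hq : CAlgX.IsQuasiRegular f)
    {P : MvPolynomial {j // j ≠ i0} A} (hP : evalFrac f i0 P = 0) (m : {j // j ≠ i0} →₀ ℕ) :
    P.coeff m ∈ Ideal.span (Set.range f) := by
  classical
  let L := Localization.Away (f i0)
  let a := f i0
  let d := P.support.sup fun m => m.degree
  let key : ({j // j ≠ i0} →₀ ℕ) → (Fin c →₀ ℕ) := fun m =>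
    m.mapDomain (Subtype.val) + Finsupp.single i0 (d - m.degree)
  have hkey_val : ∀ m (j : {j // j ≠ i0}), key m j.1 = m j := fun m j => by
    simp only [key, Finsupp.add_apply, Finsupp.mapDomain_apply Subtype.val_injective,
      Finsupp.single_eq_of_ne j.2, add_zero]
  have hkey : Function.Injective key := fun m m' h => Finsupp.ext fun j => by
    rw [← hkey_val m j, ← hkey_val m' j, h]
  let H : MvPolynomial (Fin c) A := ∑ m ∈ P.support, monomial (key m) (P.coeff m)
  have hH : H.IsHomogeneous d := IsHomogeneous.sum _ _ _ fun m hm => isHomogeneous_monomial _ (by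
    have h1 : m.degree ≤ d := Finset.le_sup (f := fun m => m.degree) hm
    simp only [key, map_add, Finsupp.degree_mapDomain, Finsupp.degree_single]
    omega)
  have hev : algebraMap A L (eval f H) = algebraMap A L a ^ d * evalFrac f i0 P := by
    conv_rhs => rw [P.as_sum, map_sum, Finset.mul_sum]
    simp only [H, map_sum]
    refine Finset.sum_congr rfl fun m hm => ?_
    have h1 : m.degree ≤ d := Finset.le_sup (f := fun m => m.degree) hm
    rw [eval_monomial, evalFrac, aeval_monomial, map_mul, map_finsuppProd]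
    simp only [map_pow, key]
    rw [Finsupp.prod_add_index' (by simp) (fun _ _ _ => pow_add _ _ _),
      Finsupp.prod_single_index (h := fun i k => algebraMap A L (f i) ^ k) (pow_zero _),
      Finsupp.prod_mapDomain_index (by simp) (fun _ _ _ => pow_add _ _ _)]
    have h2 : (m.prod fun j k => algebraMap A L (f j.1) ^ k) =
        algebraMap A L a ^ m.degree *
          m.prod fun j k => (IsLocalization.mk' L (f j.1) (⟨a, Submonoid.mem_powers _⟩ : Submonoid.powers a)) ^ k := by
      simp only [Finsupp.prod, Finsupp.degree_apply, ← Finset.prod_pow_eq_pow_sum, ← Finset.prod_mul_distrib,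
        ← mul_pow]
      refine Finset.prod_congr rfl fun j _ => ?_
      exact congrArg (· ^ _) (IsLocalization.mk'_spec' L (f j.1) (⟨a, Submonoid.mem_powers _⟩ : Submonoid.powers a)).symm
    rw [h2]
    conv_rhs => rw [show d = m.degree + (d - m.degree) by omega, pow_add]
    simp only [a]
    ring
  rw [hP, mul_zero] at hev
  obtain ⟨⟨-, N, rfl⟩, hN⟩ := (IsLocalization.map_eq_zero_iff (Submonoid.powers a) L _).mp hev
  have h0 : eval f (monomial (Finsupp.single i0 N) 1 * H) ∈ Ideal.span (Set.range f) ^ (N + d + 1) := by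
    have : eval f (monomial (Finsupp.single i0 N) 1 * H) = 0 := by
      rw [map_mul, eval_monomial, Finsupp.prod_single_index (h := fun i k => f i ^ k) (pow_zero _), one_mul]
      exact hN
    rw [this]; exact Ideal.zero_mem _
  have h1 := hq (N + d) _ ((isHomogeneous_monomial _ (Finsupp.degree_single _ _)).mul hH) h0
    (Finsupp.single i0 N + key m)
  rw [coeff_monomial_mul, one_mul] at h1
  by_cases hm : m ∈ P.support
  · have : H.coeff (key m) = P.coeff m := by
      simp only [H, coeff_sum, coeff_monomial]
      rw [Finset.sum_eq_single m]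
      · simp
      · intro m' _ hne
        rw [if_neg fun h => hne (hkey h)]
      · exact fun h => absurd hm h
    rwa [this] at h1
  · rw [notMem_support_iff.mp hm]; exact Ideal.zero_mem _

/-- The exceptional fibre of a chart of the blow-up of a quasi-regular ideal is smooth over the centre. -/
theorem smooth_quotientMap (hq : CAlgX.IsQuasiRegular f) {I : Ideal A} (hI : I = Ideal.span (Set.range f))
    (h : I ≤ (Ideal.span {algebraMap A (BlowUp.affineAlgebra A I (f i0)) (f i0)}).comap
      (algebraMap A (BlowUp.affineAlgebra A I (f i0)))) :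
    @RingHom.Smooth (A ⧸ I) (_ ⧸ Ideal.span {algebraMap A (BlowUp.affineAlgebra A I (f i0)) (f i0)}) _ _
      (Ideal.quotientMap _ (algebraMap A (BlowUp.affineAlgebra A I (f i0))) h) := by
  subst hI
  set I := Ideal.span (Set.range f)
  set B := BlowUp.affineAlgebra A I (f i0)
  set a' := algebraMap A B (f i0)
  let ψ : MvPolynomial {j // j ≠ i0} A →ₐ[A] B :=
    (evalFrac f i0).codRestrict B fun P => (range_evalFrac f i0).le ⟨P, rfl⟩
  have hψ : Function.Surjective ψ := fun ⟨z, hz⟩ => by
    obtain ⟨P, hP⟩ := (range_evalFrac f i0).ge hz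
    exact ⟨P, Subtype.ext hP⟩
  let χ : MvPolynomial {j // j ≠ i0} A →+* B ⧸ Ideal.span {a'} := (Ideal.Quotient.mk _).comp ψ.toRingHom
  have hker : RingHom.ker χ = I.map (C : A →+* MvPolynomial {j // j ≠ i0} A) := by
    refine le_antisymm (fun P hP => mem_map_C_iff.mpr fun m => ?_) (Ideal.map_le_iff_le_comap.mpr fun x hx => ?_)
    · obtain ⟨y, hy⟩ := Ideal.mem_span_singleton'.mp (Ideal.Quotient.eq_zero_iff_mem.mp (RingHom.mem_ker.mp hP))
      obtain ⟨Q, rfl⟩ := hψ y
      have h0 : evalFrac f i0 (P - Q * C (f i0)) = 0 := by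
        have := congrArg Subtype.val hy
        rw [map_sub, map_mul, ← MvPolynomial.algebraMap_eq, AlgHom.commutes, sub_eq_zero]
        exact this.symm
      have h1 := coeff_mem_of_evalFrac_eq_zero f i0 hq h0 m
      rw [coeff_sub, mul_comm, coeff_C_mul] at h1
      simpa using add_mem h1 (Ideal.mul_mem_right (Q.coeff m) I (Ideal.subset_span ⟨i0, rfl⟩))
    · refine Ideal.mem_comap.mpr (RingHom.mem_ker.mpr (Ideal.Quotient.eq_zero_iff_mem.mpr ?_))
      show ψ (C x) ∈ _
      rw [← MvPolynomial.algebraMap_eq, AlgHom.commutes]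
      exact h hx
  have hχ : Function.Surjective χ := Ideal.Quotient.mk_surjective.comp hψ
  let e : MvPolynomial {j // j ≠ i0} (A ⧸ I) ≃+* B ⧸ Ideal.span {a'} :=
    (MvPolynomial.quotientEquivQuotientMvPolynomial I).toRingEquiv.trans
      ((Ideal.quotEquivOfEq hker.symm).trans (RingHom.quotientKerEquivOfSurjective hχ))
  have heq : Ideal.quotientMap _ (algebraMap A B) h = e.toRingHom.comp (C : A ⧸ I →+* _) := by
    refine Ideal.Quotient.ringHom_ext (RingHom.ext fun r => ?_)
    have hq' : (MvPolynomial.quotientEquivQuotientMvPolynomial (σ := {j // j ≠ i0}) I)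
        (C (Ideal.Quotient.mk I r)) = Ideal.Quotient.mk _ (C r) := by
      simp [MvPolynomial.quotientEquivQuotientMvPolynomial]
    simp only [RingHom.comp_apply, Ideal.quotientMap_mk, e, RingEquiv.toRingHom_eq_coe, RingHom.coe_coe,
      RingEquiv.trans_apply, AlgEquiv.toRingEquiv_eq_coe, AlgEquiv.coe_ringEquiv, hq', Ideal.quotEquivOfEq_mk]
    refine Eq.trans ?_ (RingHom.kerLift_mk χ (C r)).symm
    show Ideal.Quotient.mk _ (algebraMap A B r) = Ideal.Quotient.mk _ (ψ (C r))
    rw [← MvPolynomial.algebraMap_eq, AlgHom.commutes]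
  rw [heq]
  refine RingHom.Smooth.stableUnderComposition _ _ ?_ (RingHom.Smooth.of_bijective e.bijective)
  show RingHom.Smooth _
  rw [← MvPolynomial.algebraMap_eq, RingHom.smooth_algebraMap]
  exact { formallySmooth := inferInstance, finitePresentation := inferInstance }

end Groth.Agent.CAlgH.QRBlowupChart
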