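import Mathlib
import Groth.Prelude.Def_BlowUp2
import Groth.Agent.BlowUpLib.Proper
import Groth.Agent.CAlgH.QRBlowupChart

/-! Morphisms of closed subschemes given by smooth maps of quotient rings on affine charts,
and charts of an arbitrary blow-up. -/

set_option autoImplicit false
set_option backward.isDefEq.respectTransparency.types false
universe u

open CategoryTheory AlgebraicGeometry

namespace Groth.Agent.CAlgH.ExceptionalChart

theorem glueDataObjι_fromSpec {X : Scheme.{u}} (I : X.IdealSheafData) (U : X.affineOpens) :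
    I.subschemeCover.f U ≫ I.subschemeι =
      Spec.map (CommRingCat.ofHom (Ideal.Quotient.mk (I.ideal U))) ≫ U.2.fromSpec := by
  rw [Scheme.IdealSheafData.subschemeCover_map_subschemeι, Scheme.IdealSheafData.glueDataObjι, Category.assoc,
    IsAffineOpen.isoSpec_inv_ι]
  rfl

/-- A morphism between closed subschemes is smooth if it is so on affine charts of the ambient schemes. -/
theorem smooth_of_quotientMap {X X' Y : Scheme.{u}} (i : Y ⟶ X) [IsClosedImmersion i] (b : X' ⟶ X)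
    (E : X'.IdealSheafData) (g : E.subscheme ⟶ Y) (hg : g ≫ i = E.subschemeι ≫ b)
    (h : ∀ x : E.subscheme, ∃ (U : X.affineOpens) (V : X'.affineOpens) (_ : E.subschemeι x ∈ V.1)
      (e : V.1 ≤ b ⁻¹ᵁ U.1) (hle : i.ker.ideal U ≤ (E.ideal V).comap (b.appLE U.1 V.1 e).hom),
      (Ideal.quotientMap (E.ideal V) (b.appLE U.1 V.1 e).hom hle).Smooth) :
    Smooth g := by
  choose U V hV e hle hsm using h
  let 𝒰 : E.subscheme.OpenCover :=
    { I₀ := E.subscheme
      X := fun x => Spec (.of (Γ(X', (V x).1) ⧸ E.ideal (V x)))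
      f := fun x => E.subschemeCover.f (V x)
      mem₀ := by
        rw [Scheme.presieve₀_mem_precoverage_iff]
        refine ⟨fun x => ⟨x, ?_⟩, fun x => inferInstanceAs (IsOpenImmersion (E.subschemeCover.f (V x)))⟩
        have := E.opensRange_subschemeCover_map (V x)
        exact this.ge (show x ∈ E.subschemeι ⁻¹ᵁ (V x).1 from hV x) }
  rw [IsZariskiLocalAtSource.iff_of_openCover (P := @Smooth) 𝒰]
  intro x
  let q := Ideal.quotientMap (E.ideal (V x)) (b.appLE (U x).1 (V x).1 (e x)).hom (hle x)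
  let m : Spec (.of (Γ(X, (U x).1) ⧸ i.ker.ideal (U x))) ⟶ Y :=
    i.ker.subschemeCover.f (U x) ≫ inv i.toImage
  have hm : m ≫ i = Spec.map (CommRingCat.ofHom (Ideal.Quotient.mk (i.ker.ideal (U x)))) ≫ (U x).2.fromSpec := by
    have h1 : inv i.toImage ≫ i = i.imageι := by
      rw [IsIso.inv_comp_eq, Scheme.Hom.toImage_imageι]
    rw [Category.assoc, h1, ← glueDataObjι_fromSpec]
    rfl
  have heq : 𝒰.f x ≫ g = Spec.map (CommRingCat.ofHom q) ≫ m := by
    rw [← cancel_mono i, Category.assoc, Category.assoc, hg, hm, ← Category.assoc, ← Category.assoc]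
    show (E.subschemeCover.f (V x) ≫ E.subschemeι) ≫ b = _
    rw [glueDataObjι_fromSpec]
    erw [Category.assoc, ← IsAffineOpen.SpecMap_appLE_fromSpec b (U x).2 (V x).2 (e x),
      ← Category.assoc, ← Spec.map_comp, ← Spec.map_comp]
    congr 2
  rw [heq]
  haveI : IsOpenImmersion m := by
    haveI := i.ker.subschemeCover.map_prop (U x)
    show IsOpenImmersion (_ ≫ _)
    exact MorphismProperty.comp_mem @IsOpenImmersion _ _ this inferInstance
  have : Smooth (Spec.map (CommRingCat.ofHom q)) :=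
    (HasRingHomProperty.Spec_iff (P := @Smooth)).mpr (hsm x)
  exact MorphismProperty.comp_mem @Smooth _ _ ‹Smooth (Spec.map (CommRingCat.ofHom q))› inferInstance

open BlowUpLib in
/-- Charts of an arbitrary blow-up around a point, for given generators of the ideal. -/
theorem exists_chart {X X' : Scheme.{u}} {I : X.IdealSheafData} (b : X' ⟶ X) (hb : BlowUp.IsBlowUp b I)
    (x' : X') (U : X.affineOpens) (hx : b x' ∈ U.1) (s : Set Γ(X, U.1)) (hs : Ideal.span s = I.ideal U) :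
    ∃ a ∈ s, ∃ j : chart I U a ⟶ X', IsOpenImmersion j ∧ j ≫ b = chartMap I U a ∧ x' ∈ Set.range j := by
  obtain ⟨e, he⟩ := exists_iso_of_isBlowUp (isBlowUp_blowUpMap (I := I)) hb
  let y := e.inv x'
  have hy : blowUpMap I y ∈ U.1 := by
    rw [← he, ← Scheme.Hom.comp_apply]
    simpa [y, ← Scheme.Hom.comp_apply] using hx
  obtain ⟨a, ha, hya⟩ := exists_mem_locus (blowUpMap I) good_blowUpMap U hy s hs
  refine ⟨a, ha, chartι (I := I) ⟨U, a, hs ▸ Ideal.subset_span ha⟩ ≫ e.hom, inferInstance, ?_, ?_⟩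
  · rw [Category.assoc, he, chartι_cm]
  · have := preimage_opensRange_ι (𝟙 (B I)) ⟨U, a, hs ▸ Ideal.subset_span ha⟩
      (by rw [Category.id_comp]; exact good_blowUpMap)
    rw [Category.id_comp] at this
    obtain ⟨z, hz⟩ := this hya
    refine ⟨z, ?_⟩
    rw [Scheme.Hom.comp_apply, hz]
    simp [y, ← Scheme.Hom.comp_apply]

open BlowUpLib in
/-- The exceptional divisor of the blow-up of a locally quasi-regular ideal is smooth over the centre. -/
theorem smooth_exceptional {X X' Y : Scheme.{u}} (i : Y ⟶ X) [IsClosedImmersion i]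
    (hi : ∀ z : Y, ∃ (U : X.Opens) (hU : IsAffineOpen U), i z ∈ U ∧
      ∃ (c : ℕ) (f : Fin c → Γ(X, U)), CAlgX.IsQuasiRegular f ∧ i.ker.ideal ⟨U, hU⟩ = Ideal.span (Set.range f))
    (b : X' ⟶ X) (hb : BlowUp.IsBlowUp b i.ker) (g : (BlowUp.exceptional b i.ker).subscheme ⟶ Y)
    (hg : g ≫ i = (BlowUp.exceptional b i.ker).subschemeι ≫ b) : Smooth g := by
  refine smooth_of_quotientMap i b _ g hg fun x => ?_
  set x' := (BlowUp.exceptional b i.ker).subschemeι x
  obtain ⟨U, hU, hzU, c, f, hq, hI⟩ := hi (g x)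
  have hx : b x' ∈ U := by
    have : i (g x) = b x' := by
      rw [← Scheme.Hom.comp_apply, hg, Scheme.Hom.comp_apply]
    exact this ▸ hzU
  obtain ⟨a, ⟨i0, rfl⟩, j, hj, hjb, hxj⟩ := exists_chart b hb x' ⟨U, hU⟩ hx (Set.range f) hI.symm
  have ha : f i0 ∈ i.ker.ideal ⟨U, hU⟩ := hI ▸ Ideal.subset_span ⟨i0, rfl⟩
  let V : X'.affineOpens := ⟨j.opensRange, isAffineOpen_opensRange j⟩
  have e : V.1 ≤ b ⁻¹ᵁ U := by
    rintro _ ⟨z, rfl⟩
    show b (j z) ∈ U
    rw [← Scheme.Hom.comp_apply, hjb]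
    show hU.fromSpec _ ∈ U
    rw [← SetLike.mem_coe, ← hU.range_fromSpec]
    exact ⟨_, rfl⟩
  have e₀ : (⊤ : (chart i.ker ⟨U, hU⟩ (f i0)).Opens) ≤ j ⁻¹ᵁ V.1 := fun z _ => ⟨z, rfl⟩
  let R := ChartRing i.ker ⟨U, hU⟩ (f i0)
  let θ : Γ(X', V.1) ≅ CommRingCat.of R :=
    X'.presheaf.mapIso (eqToIso (j.image_top_eq_opensRange)).op ≪≫ j.appIso ⊤ ≪≫
      Scheme.ΓSpecIso (CommRingCat.of R)
  have hθ : (b.appLE U V.1 e) ≫ θ.hom = CommRingCat.ofHom (algebraMap Γ(X, U) R) := by
    have h1 : θ.hom = j.appLE V.1 ⊤ e₀ ≫ (Scheme.ΓSpecIso (CommRingCat.of R)).hom := by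
      simp only [θ, Iso.trans_hom, Functor.mapIso_hom, Scheme.Hom.appIso_hom', Scheme.Hom.map_appLE_assoc]
    rw [h1, ← Category.assoc, Scheme.Hom.appLE_comp_appLE]
    have h2 : ∀ (k : chart i.ker ⟨U, hU⟩ (f i0) ⟶ X) (_ : k = chartMap i.ker ⟨U, hU⟩ (f i0)) (e'),
        k.appLE U ⊤ e' ≫ (Scheme.ΓSpecIso (CommRingCat.of R)).hom =
          CommRingCat.ofHom (algebraMap Γ(X, U) R) := by
      rintro k rfl e'
      rw [chartMap_appLE (U := ⟨U, hU⟩) e', Category.assoc, Iso.inv_hom_id, Category.comp_id]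
    exact h2 _ hjb _
  have hle : i.ker.ideal ⟨U, hU⟩ ≤ (Ideal.span {algebraMap Γ(X, U) R (f i0)}).comap (algebraMap Γ(X, U) R) :=
    Ideal.map_le_iff_le_comap.mp (map_ideal_eq_span ha).le
  have hsm := QRBlowupChart.smooth_quotientMap f i0 hq hI hle
  have hE : (BlowUp.exceptional b i.ker).ideal V = (Ideal.span {algebraMap Γ(X, U) R (f i0)}).comap θ.hom.hom := by
    rw [ProjLib.comap_ideal_eq i.ker b ⟨U, hU⟩ V e, ← map_ideal_eq_span ha, ← CommRingCat.hom_ofHom
      (algebraMap Γ(X, U) R), ← hθ, CommRingCat.hom_comp, ← Ideal.map_map]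
    exact (Ideal.comap_map_of_bijective _ (ConcreteCategory.bijective_of_isIso θ.hom)).symm
  have hleV : i.ker.ideal ⟨U, hU⟩ ≤ ((BlowUp.exceptional b i.ker).ideal V).comap (b.appLE U V.1 e).hom :=
    Ideal.map_le_iff_le_comap.mp (ProjLib.comap_ideal_eq i.ker b ⟨U, hU⟩ V e).ge
  refine ⟨⟨U, hU⟩, V, hxj, e, hleV, ?_⟩
  let ε := Ideal.quotientEquiv ((BlowUp.exceptional b i.ker).ideal V) (Ideal.span {algebraMap Γ(X, U) R (f i0)})
    θ.commRingCatIsoToRingEquiv (by
      rw [hE]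
      exact (Ideal.map_comap_of_surjective _ (ConcreteCategory.bijective_of_isIso θ.hom).2 _).symm)
  have : Ideal.quotientMap ((BlowUp.exceptional b i.ker).ideal V) (b.appLE U V.1 e).hom hleV =
      ε.symm.toRingHom.comp (Ideal.quotientMap _ (algebraMap Γ(X, U) R) hle) := by
    refine Ideal.Quotient.ringHom_ext (RingHom.ext fun r => ε.injective ?_)
    simp only [RingHom.comp_apply, Ideal.quotientMap_mk, RingEquiv.toRingHom_eq_coe, RingHom.coe_coe,
      RingEquiv.apply_symm_apply]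
    exact congrArg (Ideal.Quotient.mk _) (ConcreteCategory.congr_hom hθ r)
  rw [this]
  exact RingHom.Smooth.stableUnderComposition _ _ hsm (RingHom.Smooth.of_bijective ε.symm.bijective)

end Groth.Agent.CAlgH.ExceptionalChart
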