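import Groth.Agent.CAlgH.AvramovCI
import Groth.Agent.CAlgH3.RegularHom
import Mathlib.RingTheory.RingHom.Surjective

/-!
# Complete intersections are stable under localization
-/

universe u

set_option autoImplicit false

open IsLocalRing RingTheory.Sequence

namespace Groth.Agent.CAlgH.CILocalization

/-- Localizations of regular presentations. -/
theorem isCompleteIntersection_localization_quotient {R C : Type u} [CommRing R] [IsRegularLocalRing R]
    [CommRing C] (π : R →+* C) (hπ : Function.Surjective π)
    (hreg : CInt.IsRegularIdeal (RingHom.ker π)) (P : Ideal C) [P.IsPrime] :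
    Pi1.IsCompleteIntersection (Localization.AtPrime P) := by
  let Q : Ideal R := P.comap π
  have : IsNoetherianRing C := isNoetherianRing_of_surjective _ _ π hπ
  have : IsNoetherianRing (Localization.AtPrime P) := IsLocalization.isNoetherianRing P.primeCompl _ inferInstance
  have : IsRegularLocalRing (Localization.AtPrime Q) := CAlgH3.isRegularLocalRing_localization Q
  let f := Localization.localRingHom Q P π rfl
  have hf : Function.Surjective f := RingHom.surjective_localRingHom_of_surjective π hπ P
  have hT : Submonoid.map π Q.primeCompl = P.primeCompl := by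
    ext y
    refine ⟨fun ⟨x, hx, hxy⟩ => hxy ▸ hx, fun hy => ?_⟩
    obtain ⟨x, rfl⟩ := hπ y
    exact ⟨x, hy, rfl⟩
  have hker : RingHom.ker f = (RingHom.ker π).map (algebraMap R (Localization.AtPrime Q)) :=
    IsLocalization.ker_map (S := Localization.AtPrime Q) (Localization.AtPrime P) π hT
  rw [CIPresentation.isCompleteIntersection_iff f hf, hker]
  obtain ⟨rs, hrs, hker'⟩ := hreg
  have hmem : ∀ r ∈ rs, r ∈ Q := fun r hr => by
    show π r ∈ P
    rw [show π r = 0 from hker'.le (Ideal.subset_span hr)]
    exact P.zero_mem
  exact ⟨rs.map (algebraMap R (Localization.AtPrime Q)),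
    IsWeaklyRegular.isRegular_of_isLocalization_of_mem (Localization.AtPrime Q) Q hrs.toIsWeaklyRegular hmem,
    by rw [← Ideal.map_ofList, hker']⟩

theorem isCompleteIntersection_localization {A : Type u} [CommRing A] [IsNoetherianRing A]
    [IsLocalRing A] (hA : Pi1.IsCompleteIntersection A) (p : Ideal A) [p.IsPrime] :
    Pi1.IsCompleteIntersection (Localization.AtPrime p) := by
  obtain ⟨R, _, _, rs, hm, hrs, ⟨e⟩⟩ := hA
  have : IsNoetherianRing (EGA4.Cpl A) := Matlis6.isNoetherianRing_adicCompletion (maximalIdeal A)
  have : Module.FaithfullyFlat A (EGA4.Cpl A) := Module.FaithfullyFlat.of_flat_of_isLocalHom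
  obtain ⟨⟨P, hP⟩, hPp⟩ := PrimeSpectrum.comap_surjective_of_faithfullyFlat (B := EGA4.Cpl A) ⟨p, inferInstance⟩
  let π : R →+* EGA4.Cpl A := e.symm.toRingHom.comp (Ideal.Quotient.mk _)
  have hπ : Function.Surjective π := e.symm.surjective.comp Ideal.Quotient.mk_surjective
  have hk : RingHom.ker π = Ideal.ofList rs := by
    ext x
    show e.symm (Ideal.Quotient.mk _ x) = 0 ↔ _
    rw [map_eq_zero_iff _ e.symm.injective, Ideal.Quotient.eq_zero_iff_mem]
  have hCI := isCompleteIntersection_localization_quotient π hπ ⟨rs, hrs, hk.symm⟩ P
  have hover : P.LiesOver p := ⟨(congrArg PrimeSpectrum.asIdeal hPp).symm⟩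
  letI := Localization.AtPrime.algebraOfLiesOver p P
  have : IsNoetherianRing (Localization.AtPrime p) := IsLocalization.isNoetherianRing p.primeCompl _ inferInstance
  have : IsNoetherianRing (Localization.AtPrime P) := IsLocalization.isNoetherianRing P.primeCompl _ inferInstance
  have : IsLocalHom (algebraMap (Localization.AtPrime p) (Localization.AtPrime P)) :=
    Localization.isLocalHom_localRingHom _ _ _ _
  have : Nontrivial (Localization.AtPrime P ⧸ (maximalIdeal (Localization.AtPrime p)).map
      (algebraMap (Localization.AtPrime p) (Localization.AtPrime P))) := Ideal.Quotient.nontrivial_iff.2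
    (ne_top_of_le_ne_top (maximalIdeal.isMaximal _).ne_top (IsLocalRing.map_maximalIdeal_le _))
  have : IsLocalRing (Localization.AtPrime P ⧸ (maximalIdeal (Localization.AtPrime p)).map
      (algebraMap (Localization.AtPrime p) (Localization.AtPrime P))) :=
    .of_surjective' _ Ideal.Quotient.mk_surjective
  exact (AvramovCI.avramov.1 hCI).1

theorem isCompleteIntersection_of_forall_maximal {A : Type u} [CommRing A] [IsNoetherianRing A]
    (h : ∀ (m : Ideal A) [m.IsMaximal], Pi1.IsCompleteIntersection (Localization.AtPrime m))
    (p : Ideal A) [p.IsPrime] : Pi1.IsCompleteIntersection (Localization.AtPrime p) := by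
  obtain ⟨m, hm, hpm⟩ := Ideal.exists_le_maximal p (Ideal.IsPrime.ne_top ‹_›)
  have : IsNoetherianRing (Localization.AtPrime m) := IsLocalization.isNoetherianRing m.primeCompl _ inferInstance
  have : IsNoetherianRing (Localization.AtPrime p) := IsLocalization.isNoetherianRing p.primeCompl _ inferInstance
  have hdisj : Disjoint (m.primeCompl : Set A) (p : Set A) :=
    Set.disjoint_left.2 fun x hx hxp => hx (hpm hxp)
  let q := p.map (algebraMap A (Localization.AtPrime m))
  have : q.IsPrime := IsLocalization.isPrime_of_isPrime_disjoint m.primeCompl _ p inferInstance hdisj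
  have hcomap : q.comap (algebraMap A (Localization.AtPrime m)) = p :=
    IsLocalization.comap_map_of_isPrime_disjoint m.primeCompl _ inferInstance hdisj
  have hCI := isCompleteIntersection_localization (h m) q
  have : IsNoetherianRing (Localization.AtPrime q) := IsLocalization.isNoetherianRing q.primeCompl _ inferInstance
  have : IsLocalization.AtPrime (Localization.AtPrime q) p := by
    have h2 := IsLocalization.isLocalization_isLocalization_atPrime_isLocalization m.primeCompl
      (Localization.AtPrime q) q
    convert h2 using 2
    exact hcomap.symm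
  let e : Localization.AtPrime q ≃ₐ[A] Localization.AtPrime p :=
    IsLocalization.algEquiv p.primeCompl _ _
  exact (AvramovCI.isCompleteIntersection_iff_of_equiv e.toRingEquiv).1 hCI

end Groth.Agent.CAlgH.CILocalization
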