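import Groth.Agent.CAlgH.CIHom
import Groth.Agent.CAlgH.CILocalization
import Groth.Agent.LCI15.Conormal

/-!
# Openness of the locus where an ideal is regular
-/

universe u

set_option autoImplicit false

open IsLocalRing RingTheory.Sequence

namespace Groth.Agent.CAlgH.CILocus

variable {B : Type u} [CommRing B] [IsNoetherianRing B]

/-- If `I` is regular at `Q`, then it is regular at all nearby primes containing it. -/
theorem exists_isRegularIdeal (I Q : Ideal B) [Q.IsPrime] (hIQ : I ≤ Q)
    (h : CInt.IsRegularIdeal (I.map (algebraMap B (Localization.AtPrime Q)))) :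
    ∃ g : B, g ∉ Q ∧ ∀ (Q' : Ideal B) [Q'.IsPrime], I ≤ Q' → g ∉ Q' →
      CInt.IsRegularIdeal (I.map (algebraMap B (Localization.AtPrime Q'))) := by
  classical
  obtain ⟨rs, hrs, hrsI⟩ := h
  obtain ⟨⟨c, hc⟩, hcr⟩ := IsLocalization.exist_integer_multiples_of_finset Q.primeCompl rs.toFinset
  have key : ∀ r ∈ rs, ∃ t : B, t ∉ Q ∧ ∃ a : B, algebraMap B (Localization.AtPrime Q) a = c • r ∧ t * a ∈ I := by
    intro r hr
    obtain ⟨a, ha⟩ := hcr r (List.mem_toFinset.2 hr)
    have hmem : algebraMap B (Localization.AtPrime Q) a ∈ I.map (algebraMap B (Localization.AtPrime Q)) := by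
      rw [ha, ← hrsI]
      exact Submodule.smul_of_tower_mem _ _ (Ideal.subset_span hr)
    obtain ⟨t, ht, hta⟩ := (IsLocalization.algebraMap_mem_map_algebraMap_iff Q.primeCompl _ _ _).mp hmem
    exact ⟨t, ht, a, ha, hta⟩
  choose! t ht a ha hta using key
  let T : B := ∏ r ∈ rs.toFinset, t r
  have hT : T ∉ Q := fun h => by
    obtain ⟨r, hr, h⟩ := Ideal.IsPrime.prod_mem_iff.mp h
    exact ht r (List.mem_toFinset.1 hr) h
  let L : List B := rs.map fun r => T * a r
  have hLI : Ideal.ofList L ≤ I := Ideal.span_le.2 fun x hx => by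
    obtain ⟨r, hr, rfl⟩ := List.mem_map.1 hx
    show T * a r ∈ I
    show (∏ r ∈ rs.toFinset, t r) * a r ∈ I
    rw [← Finset.prod_erase_mul _ t (List.mem_toFinset.2 hr), mul_assoc]
    exact I.mul_mem_left _ (hta r hr)
  have hunit : IsUnit (algebraMap B (Localization.AtPrime Q) (T * c)) :=
    IsLocalization.map_units _ (⟨T * c, Q.primeCompl.mul_mem hT hc⟩ : Q.primeCompl)
  have hmapL : L.map (algebraMap B (Localization.AtPrime Q)) =
      rs.map (algebraMap B (Localization.AtPrime Q) (T * c) * ·) := by
    show (rs.map fun r => T * a r).map _ = _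
    rw [List.map_map]
    refine List.map_congr_left fun r hr => ?_
    show algebraMap B _ (T * a r) = algebraMap B _ (T * c) * r
    rw [map_mul, map_mul, ha r hr, Algebra.smul_def, mul_assoc]
  obtain ⟨g, hg, ss, hss, hssI⟩ := LCI15.exists_spread_out I Q hIQ L hLI
    (by rw [hmapL]; exact LCI15.isWeaklyRegular_map_unit hunit hrs.toIsWeaklyRegular)
    (by rw [Ideal.map_ofList, hmapL, LCI15.ofList_map_unit hunit, hrsI])
  refine ⟨g, hg, fun Q' _ hIQ' hgQ' => ?_⟩
  have hu : IsUnit (algebraMap B (Localization.AtPrime Q') g) :=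
    IsLocalization.map_units _ (⟨g, hgQ'⟩ : Q'.primeCompl)
  letI : Algebra (Localization.Away g) (Localization.AtPrime Q') := (IsLocalization.Away.lift g hu).toAlgebra
  haveI : IsScalarTower B (Localization.Away g) (Localization.AtPrime Q') :=
    IsScalarTower.of_algebraMap_eq fun x => (IsLocalization.Away.lift_eq g hu x).symm
  haveI : Module.Flat (Localization.Away g) (Localization.AtPrime Q') := by
    have hle : Submonoid.powers g ≤ Q'.primeCompl := (Submonoid.powers_le).2 hgQ'
    haveI := IsLocalization.isLocalization_of_submonoid_le (Localization.Away g) (Localization.AtPrime Q')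
      (Submonoid.powers g) Q'.primeCompl hle
    exact IsLocalization.flat (Localization.AtPrime Q') (Q'.primeCompl.map (algebraMap B (Localization.Away g)))
  have heq : Ideal.ofList (ss.map (algebraMap (Localization.Away g) (Localization.AtPrime Q'))) =
      I.map (algebraMap B (Localization.AtPrime Q')) := by
    rw [← Ideal.map_ofList, hssI, Ideal.map_map, ← IsScalarTower.algebraMap_eq]
  refine ⟨_, RegularIdealLocal.isRegular_of_mem hss.toIsWeaklyRegular.of_flat (fun r hr => ?_), heq⟩
  have hr' : r ∈ I.map (algebraMap B (Localization.AtPrime Q')) := heq ▸ Ideal.subset_span hr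
  refine Ideal.map_le_iff_le_comap.2 (fun x hx => ?_) hr'
  exact (IsLocalization.AtPrime.to_map_mem_maximal_iff (Localization.AtPrime Q') Q' x).2 (hIQ' hx)

/-- Complete intersection localizations of a quotient of a regular ring. -/
theorem isCompleteIntersection_quotient_iff {A : Type u} [CommRing A] [IsRegularRing B] (π : B →+* A)
    (hπ : Function.Surjective π) (q : Ideal A) [q.IsPrime] :
    Pi1.IsCompleteIntersection (Localization.AtPrime q) ↔
      CInt.IsRegularIdeal ((RingHom.ker π).map (algebraMap B (Localization.AtPrime (q.comap π)))) := by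
  have : IsNoetherianRing A := isNoetherianRing_of_surjective _ _ π hπ
  have : IsNoetherianRing (Localization.AtPrime q) := IsLocalization.isNoetherianRing q.primeCompl _ inferInstance
  let f := Localization.localRingHom (q.comap π) q π rfl
  have hT : Submonoid.map π (q.comap π).primeCompl = q.primeCompl := by
    ext y
    refine ⟨fun ⟨x, hx, hxy⟩ => hxy ▸ hx, fun hy => ?_⟩
    obtain ⟨x, rfl⟩ := hπ y
    exact ⟨x, hy, rfl⟩
  have hker : RingHom.ker f = (RingHom.ker π).map (algebraMap B (Localization.AtPrime (q.comap π))) :=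
    IsLocalization.ker_map (S := Localization.AtPrime (q.comap π)) (Localization.AtPrime q) π hT
  rw [CIPresentation.isCompleteIntersection_iff f (RingHom.surjective_localRingHom_of_surjective π hπ q), hker]

/-- The complete intersection locus of a quotient of a regular ring is open. -/
theorem isOpen_ciLocus {A : Type u} [CommRing A] [IsRegularRing B] (π : B →+* A)
    (hπ : Function.Surjective π) :
    IsOpen {x : PrimeSpectrum A | Pi1.IsCompleteIntersection (Localization.AtPrime x.asIdeal)} := by
  rw [isOpen_iff_forall_mem_open]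
  intro x hx
  have hk : ∀ y : PrimeSpectrum A, RingHom.ker π ≤ y.asIdeal.comap π := fun y b hb => by
    show π b ∈ y.asIdeal
    rw [show π b = 0 from hb]
    exact y.asIdeal.zero_mem
  obtain ⟨g, hg, h⟩ := exists_isRegularIdeal (RingHom.ker π) (x.asIdeal.comap π) (hk x)
    ((isCompleteIntersection_quotient_iff π hπ x.asIdeal).1 hx)
  refine ⟨PrimeSpectrum.basicOpen (π g), fun y hy => ?_, PrimeSpectrum.isOpen_basicOpen, hg⟩
  exact (isCompleteIntersection_quotient_iff π hπ y.asIdeal).2 (h (y.asIdeal.comap π) (hk y) hy)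

end Groth.Agent.CAlgH.CILocus
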