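import Groth.Agent.CAlgH.CIMorphism
import Groth.Agent.CAlgH.CILocus
import Groth.Agent.FlatMorSlice.Regular
import Groth.Agent.CommAlg6.FibreLocal
import Groth.Agent.VarietyLib.SmoothStalk

/-!
# Openness of the relative complete intersection locus, affine case
-/

universe u

set_option autoImplicit false
set_option backward.isDefEq.respectTransparency false

open IsLocalRing RingTheory.Sequence TensorProduct

namespace Groth.Agent.CAlgH.CIOpen

attribute [local instance] CommAlg6.isLocalRing_fibLocRing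

/-- `aT ∩ K = aK` when `T ⧸ K` is flat. -/
theorem mem_map_mul_of_flat_quotient {R T : Type u} [CommRing R] [CommRing T] [Algebra R T] (a : Ideal R)
    (K : Ideal T) [Module.Flat R (T ⧸ K)] {x : T} (hx : x ∈ K) (hxa : x ∈ a.map (algebraMap R T)) :
    x ∈ a.map (algebraMap R T) * K := by
  classical
  obtain ⟨n, r, hr, s, hs⟩ : ∃ (n : ℕ) (r : Fin n → R), (∀ i, r i ∈ a) ∧
      ∃ s : Fin n → T, ∑ i, algebraMap R T (r i) * s i = x := by
    refine Submodule.span_induction (p := fun x _ => ∃ (n : ℕ) (r : Fin n → R),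
      (∀ i, r i ∈ a) ∧ ∃ s : Fin n → T, ∑ i, algebraMap R T (r i) * s i = x) ?_ ?_ ?_ ?_ hxa
    · rintro _ ⟨m, hm, rfl⟩
      exact ⟨1, fun _ => m, fun _ => hm, fun _ => 1, by simp⟩
    · exact ⟨0, Fin.elim0, fun i => i.elim0, Fin.elim0, by simp⟩
    · rintro y z - - ⟨p, rp, hrp, sp, rfl⟩ ⟨q, rq, hrq, sq, rfl⟩
      exact ⟨p + q, Fin.append rp rq, Fin.addCases (by simpa using hrp) (by simpa using hrq),
        Fin.append sp sq, by simp [Fin.sum_univ_add]⟩
    · rintro c y - ⟨p, rp, hrp, sp, rfl⟩
      exact ⟨p, rp, hrp, fun i => c * sp i, by simp [Finset.mul_sum, mul_left_comm]⟩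
  have hrel : ∑ i, r i • Ideal.Quotient.mk K (s i) = 0 := by
    rw [← Ideal.Quotient.eq_zero_iff_mem.2 hx, ← hs, map_sum]
    refine Finset.sum_congr rfl fun i _ => ?_
    rw [map_mul, Algebra.smul_def]
    rfl
  obtain ⟨k, c, y, hy, hc⟩ := Module.Flat.isTrivialRelation_of_sum_smul_eq_zero (R := R) (M := T ⧸ K) hrel
  simp only at hy hc
  choose t ht using fun j => Ideal.Quotient.mk_surjective (I := K) (y j)
  have hk : ∀ i, s i - ∑ j, algebraMap R T (c i j) * t j ∈ K := fun i => by
    rw [← Ideal.Quotient.eq_zero_iff_mem, map_sub, hy i, map_sum, sub_eq_zero]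
    refine Finset.sum_congr rfl fun j _ => ?_
    rw [map_mul, ht, Algebra.smul_def]
    rfl
  have hx' : x = ∑ i, algebraMap R T (r i) * (s i - ∑ j, algebraMap R T (c i j) * t j) := by
    rw [← hs]
    simp only [mul_sub, Finset.mul_sum, Finset.sum_sub_distrib]
    rw [Finset.sum_comm, eq_comm, sub_eq_self]
    refine Finset.sum_eq_zero fun j _ => ?_
    simp only [← mul_assoc, ← map_mul, ← Finset.sum_mul, ← map_sum]
    rw [hc j, map_zero, zero_mul]
  rw [hx']
  exact Ideal.sum_mem _ fun i _ => Ideal.mul_mem_mul (Ideal.mem_map_of_mem _ (hr i)) (hk i)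

/-- A regular sequence with flat intermediate quotients is regular on every fibre. -/
theorem isWeaklyRegular_fibre {R L : Type u} [CommRing R] [CommRing L] [Algebra R L] (a : Ideal R)
    {rs : List L} (hreg : IsWeaklyRegular L rs)
    (hflat : ∀ i ≤ rs.length, Module.Flat R (L ⧸ Ideal.ofList (rs.take i))) :
    IsWeaklyRegular (L ⧸ a.map (algebraMap R L)) (rs.map (Ideal.Quotient.mk (a.map (algebraMap R L)))) := by
  rw [LCI15.isWeaklyRegular_iff_colon] at hreg ⊢
  intro i hi z hz
  rw [List.length_map] at hi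
  simp only [List.getElem_map, ← List.map_take, ← Ideal.map_ofList] at hz ⊢
  obtain ⟨z, rfl⟩ := Ideal.Quotient.mk_surjective z
  let J := Ideal.ofList (rs.take i)
  have hJ' : Ideal.ofList (rs.take (i + 1)) = J ⊔ Ideal.span {rs[i]} := by
    rw [List.take_succ_eq_append_getElem hi, Ideal.ofList_append, Ideal.ofList_singleton]
  rw [← map_mul] at hz
  rw [← Ideal.mem_comap, Ideal.comap_map_of_surjective _ Ideal.Quotient.mk_surjective,
    ← RingHom.ker_eq_comap_bot, Ideal.mk_ker] at hz ⊢
  let K : Ideal (L ⧸ J) := (Ideal.span {rs[i]}).map (Ideal.Quotient.mk J)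
  have : Module.Flat R (L ⧸ (J ⊔ Ideal.span {rs[i]})) := hJ' ▸ hflat (i + 1) hi
  have : Module.Flat R ((L ⧸ J) ⧸ K) :=
    Module.Flat.of_linearEquiv (DoubleQuot.quotQuotEquivQuotSupₐ R J (Ideal.span {rs[i]})).toLinearEquiv
  have ha : a.map (algebraMap R (L ⧸ J)) = (a.map (algebraMap R L)).map (Ideal.Quotient.mk J) := by
    rw [Ideal.map_map]; rfl
  obtain ⟨b, hb, c, hc, hbc⟩ := Submodule.mem_sup.1 hz
  have h1 : Ideal.Quotient.mk J (rs[i] * z) ∈ K := by
    rw [map_mul]
    exact K.mul_mem_right _ (Ideal.mem_map_of_mem _ (Ideal.mem_span_singleton_self _))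
  have h2 : Ideal.Quotient.mk J (rs[i] * z) ∈ a.map (algebraMap R (L ⧸ J)) := by
    rw [ha, ← hbc, map_add, Ideal.Quotient.eq_zero_iff_mem.2 hb, zero_add]
    exact Ideal.mem_map_of_mem _ hc
  have h3 := mem_map_mul_of_flat_quotient a K h1 h2
  rw [ha, ← Ideal.map_mul, mul_comm, Ideal.mem_map_iff_of_surjective _ Ideal.Quotient.mk_surjective] at h3
  obtain ⟨w, hw, hwz⟩ := h3
  obtain ⟨u, hu, rfl⟩ := Ideal.mem_span_singleton_mul.1 hw
  rw [Ideal.Quotient.eq, ← mul_sub] at hwz
  have := hreg i hi _ hwz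
  rw [show z = -(u - z) + u by ring]
  exact Ideal.add_mem _ (Ideal.mem_sup_left (J.neg_mem this)) (Ideal.mem_sup_right hu)

/-- Flatness of a localized quotient. -/
theorem flat_quotient_localization {R B : Type u} [CommRing R] [CommRing B] [Algebra R B] (Q : Ideal B)
    [Q.IsPrime] (J : Ideal B) (h : Module.Flat R (LocalizedModule Q.primeCompl (B ⧸ J))) :
    Module.Flat R (Localization.AtPrime Q ⧸ J.map (algebraMap B (Localization.AtPrime Q))) :=
  let e := ((Algebra.TensorProduct.quotIdealMapEquivTensorQuot (Localization.AtPrime Q) J).toLinearEquiv.restrictScalars B).trans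
      ((LocalizedModule.equivTensorProduct Q.primeCompl (B ⧸ J)).symm.restrictScalars B)
  Module.Flat.of_linearEquiv (e.restrictScalars R)

theorem isRegularLocalRing_fib_mvPolynomial {R : Type u} [CommRing R] (n : ℕ)
    (Q : Ideal (MvPolynomial (Fin n) R)) [Q.IsPrime] :
    IsRegularLocalRing (EGA4.FibLocRing R (MvPolynomial (Fin n) R) Q) := by
  obtain ⟨Q', hQ', ⟨e⟩⟩ := CommAlg6.exists_fiber_prime (A := R) Q
  have : Algebra.Smooth R (MvPolynomial (Fin n) R) := ⟨inferInstance, inferInstance⟩
  have : IsRegularLocalRing (Localization.AtPrime Q') := VarietyLib.isRegularLocalRing_of_smooth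
    (Q.comap (algebraMap R (MvPolynomial (Fin n) R))).ResidueField
    ((Q.comap (algebraMap R (MvPolynomial (Fin n) R))).Fiber (MvPolynomial (Fin n) R)) Q'
  exact IsRegularLocalRing.of_ringEquiv (R := Localization.AtPrime Q') e

variable {R P A : Type u} [CommRing R] [CommRing P] [CommRing A] [Algebra R P] [Algebra R A]

/-- The map of fibre local rings induced by a surjection. -/
theorem exists_fib_surjection (π : P →ₐ[R] A) (hπ : Function.Surjective π) (q : Ideal A) [q.IsPrime] :
    ∃ f : EGA4.FibLocRing R P (q.comap π.toRingHom) →+* EGA4.FibLocRing R A q,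
      Function.Surjective f ∧ RingHom.ker f =
        ((RingHom.ker π.toRingHom).map (algebraMap P (Localization.AtPrime (q.comap π.toRingHom)))).map
          (Ideal.Quotient.mk _) := by
  let l := Localization.localRingHom (q.comap π.toRingHom) q π.toRingHom rfl
  have hT : Submonoid.map π.toRingHom (q.comap π.toRingHom).primeCompl = q.primeCompl := by
    ext y
    refine ⟨fun ⟨x, hx, hxy⟩ => hxy ▸ hx, fun hy => ?_⟩
    obtain ⟨x, rfl⟩ := hπ y
    exact ⟨x, hy, rfl⟩
  have hl : Function.Surjective l := RingHom.surjective_localRingHom_of_surjective π.toRingHom hπ q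
  have hlk : RingHom.ker l =
      (RingHom.ker π.toRingHom).map (algebraMap P (Localization.AtPrime (q.comap π.toRingHom))) :=
    IsLocalization.ker_map (S := Localization.AtPrime (q.comap π.toRingHom)) (Localization.AtPrime q)
      π.toRingHom hT
  have hcomp : l.comp (algebraMap R (Localization.AtPrime (q.comap π.toRingHom))) =
      algebraMap R (Localization.AtPrime q) := by
    ext r
    rw [RingHom.comp_apply, IsScalarTower.algebraMap_apply R P (Localization.AtPrime (q.comap π.toRingHom)),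
      IsScalarTower.algebraMap_apply R A (Localization.AtPrime q)]
    exact (Localization.localRingHom_to_map _ _ _ _ _).trans (congrArg _ (π.commutes r))
  let p₁ : Ideal (Localization.AtPrime (q.comap π.toRingHom)) :=
    ((q.comap π.toRingHom).comap (algebraMap R P)).map (algebraMap R _)
  let p₂ : Ideal (Localization.AtPrime q) := (q.comap (algebraMap R A)).map (algebraMap R _)
  have hp : p₁.map l = p₂ := by
    show Ideal.map l (Ideal.map _ _) = _
    rw [Ideal.map_map, hcomp, Ideal.comap_comap]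
    exact congrArg (fun φ : R →+* A => (q.comap φ).map (algebraMap R (Localization.AtPrime q))) π.comp_algebraMap
  let m : Localization.AtPrime (q.comap π.toRingHom) →+* EGA4.FibLocRing R A q :=
    (Ideal.Quotient.mk p₂).comp l
  have hmk : RingHom.ker m = RingHom.ker l ⊔ p₁ := by
    show RingHom.ker ((Ideal.Quotient.mk p₂).comp l) = _
    rw [← RingHom.comap_ker, Ideal.mk_ker, ← hp, Ideal.comap_map_of_surjective _ hl, sup_comm]
    rfl
  refine ⟨Ideal.Quotient.lift p₁ m fun x hx => hmk.ge (Ideal.mem_sup_right hx),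
    Ideal.Quotient.lift_surjective_of_surjective _ _ (Ideal.Quotient.mk_surjective.comp hl), ?_⟩
  rw [Ideal.ker_quotient_lift, hmk, Ideal.map_sup, Ideal.map_quotient_self, sup_bot_eq, hlk]

/-- Generators of an ideal with flat quotient which are regular on the fibre: they generate the ideal and
form a regular sequence with flat quotients near the point. -/
theorem exists_regular_generators [Algebra.FinitePresentation R P] [Module.Flat R P] (I : Ideal P)
    (hI : I.FG) [Module.Flat R (P ⧸ I)] (Q : Ideal P) [Q.IsPrime]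
    (hreg : CInt.IsRegularIdeal ((I.map (algebraMap P (Localization.AtPrime Q))).map
      (Ideal.Quotient.mk ((Q.comap (algebraMap R P)).map (algebraMap R (Localization.AtPrime Q)))))) :
    ∃ (rs : List P) (G : P), G ∉ Q ∧ Ideal.ofList rs ≤ I ∧ (∀ x ∈ I, G * x ∈ Ideal.ofList rs) ∧
      (∀ (i : ℕ) (hi : i < rs.length) (x : P), rs[i] * x ∈ Ideal.ofList (rs.take i) →
        ∃ k : ℕ, G ^ k * x ∈ Ideal.ofList (rs.take i)) ∧
      ∀ i ≤ rs.length, ∀ (Q' : Ideal P) [Q'.IsPrime], G ∉ Q' →
        Module.Flat R (LocalizedModule Q'.primeCompl (P ⧸ Ideal.ofList (rs.take i))) := by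
  classical
  let pQ : Ideal (Localization.AtPrime Q) :=
    (Q.comap (algebraMap R P)).map (algebraMap R _)
  obtain ⟨ts, hts, htsI⟩ := hreg
  have key : ∀ t ∈ ts, ∃ a ∈ I, ∃ u : EGA4.FibLocRing R (P) Q, IsUnit u ∧
      Ideal.Quotient.mk pQ (algebraMap _ (Localization.AtPrime Q) a) = u * t := by
    intro t ht
    obtain ⟨y, hy, rfl⟩ := (Ideal.mem_map_iff_of_surjective _ Ideal.Quotient.mk_surjective).1
      (htsI.le (Ideal.subset_span ht))
    obtain ⟨⟨⟨a, ha⟩, s⟩, has⟩ := (IsLocalization.mem_map_algebraMap_iff Q.primeCompl _).1 hy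
    refine ⟨a, ha, Ideal.Quotient.mk pQ (algebraMap _ _ s.1),
      (IsLocalization.map_units (Localization.AtPrime Q) s).map _, ?_⟩
    rw [← map_mul]
    exact congrArg _ (by rw [← has]; ring)
  choose! a ha u hu hau using key
  let rs := ts.map a
  have hrsI : Ideal.ofList rs ≤ I := Ideal.span_le.2 fun x hx => by
    obtain ⟨t, ht, rfl⟩ := List.mem_map.1 hx
    exact ha t ht
  let ρ : P →+* EGA4.FibLocRing R (P) Q :=
    (Ideal.Quotient.mk pQ).comp (algebraMap _ (Localization.AtPrime Q))
  have htake : ∀ i, (Ideal.ofList (rs.take i)).map ρ = Ideal.ofList (ts.take i) := by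
    intro i
    rw [Ideal.map_ofList]
    apply le_antisymm
    · refine Ideal.span_le.2 fun x hx => ?_
      simp only [rs, ← List.map_take, List.map_map, List.mem_map, Set.mem_setOf_eq] at hx
      obtain ⟨t, ht, rfl⟩ := hx
      show Ideal.Quotient.mk pQ (algebraMap _ _ (a t)) ∈ _
      rw [hau t (List.mem_of_mem_take ht)]
      exact Ideal.mul_mem_left _ _ (Ideal.subset_span ht)
    · refine Ideal.span_le.2 fun t ht => ?_
      rw [SetLike.mem_coe, ← Ideal.unit_mul_mem_iff_mem _ (hu t (List.mem_of_mem_take ht)),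
        ← hau t (List.mem_of_mem_take ht)]
      exact Ideal.subset_span (List.mem_map.2 ⟨a t, by rw [← List.map_take]; exact List.mem_map.2 ⟨t, ht, rfl⟩, rfl⟩)
  have hback : ∀ (J : Ideal (P)) (x : P), ρ x ∈ J.map ρ →
      ∃ c ∉ Q, c * x ∈ (Q.comap (algebraMap R (P))).map (algebraMap R _) ⊔ J := by
    intro J x hx
    have : algebraMap _ (Localization.AtPrime Q) x ∈
        ((Q.comap (algebraMap R (P))).map (algebraMap R _) ⊔ J).map
          (algebraMap _ (Localization.AtPrime Q)) := by
      change Ideal.Quotient.mk pQ (algebraMap _ _ x) ∈ _ at hx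
      rw [← Ideal.map_map, ← Ideal.mem_comap, Ideal.comap_map_of_surjective _ Ideal.Quotient.mk_surjective,
        ← RingHom.ker_eq_comap_bot, Ideal.mk_ker] at hx
      rw [Ideal.map_sup, Ideal.map_map, ← IsScalarTower.algebraMap_eq, sup_comm]
      exact hx
    exact (IsLocalization.algebraMap_mem_map_algebraMap_iff Q.primeCompl _ _ _).1 this
  have hfib : FlatMorSlice.FibReg R Q rs := by
    intro i hi x ⟨c, hc, hcx⟩
    have hi' : i < ts.length := by simpa [rs] using hi
    apply hback
    rw [htake]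
    have h1 : ρ (c * (rs[i] * x)) ∈ Ideal.ofList (ts.take i) := by
      have := Ideal.mem_map_of_mem ρ hcx
      rw [Ideal.map_sup, htake] at this
      refine (sup_le ?_ le_rfl : _ ≤ Ideal.ofList (ts.take i)) this
      rw [Ideal.map_le_iff_le_comap, Ideal.map_le_iff_le_comap]
      intro r hr
      rw [Ideal.mem_comap, Ideal.mem_comap]
      show Ideal.Quotient.mk pQ
        (algebraMap (P) (Localization.AtPrime Q) (algebraMap R (P) r)) ∈ _
      rw [← IsScalarTower.algebraMap_apply, Ideal.Quotient.eq_zero_iff_mem.2 (Ideal.mem_map_of_mem _ hr)]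
      exact zero_mem _
    have hcu : IsUnit (ρ c) :=
      (IsLocalization.map_units (Localization.AtPrime Q) (⟨c, hc⟩ : Q.primeCompl)).map (Ideal.Quotient.mk pQ)
    rw [map_mul, map_mul, Ideal.unit_mul_mem_iff_mem _ hcu,
      show ρ rs[i] = u ts[i] * ts[i] by simp only [rs, List.getElem_map]; exact hau _ (List.getElem_mem _),
      mul_assoc, Ideal.unit_mul_mem_iff_mem _ (hu _ (List.getElem_mem _))] at h1
    exact (LCI15.isWeaklyRegular_iff_colon ts).1 hts.toIsWeaklyRegular i hi' _ h1
  have hflatP : Module.Flat R (LocalizedModule Q.primeCompl (P)) := inferInstance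
  -- regularity and flatness of all initial quotients near `Q`
  have key₂ : ∀ i : Fin (rs.length + 1), ∃ c ∉ Q,
      (∀ (j : ℕ) (hj : j < (rs.take i).length) (x : P),
        (rs.take i)[j] * x ∈ Ideal.ofList ((rs.take i).take j) →
          ∃ k : ℕ, c ^ k * x ∈ Ideal.ofList ((rs.take i).take j)) ∧
      ∀ (r : Ideal (P)) [r.IsPrime], c ∉ r →
        Module.Flat R (LocalizedModule r.primeCompl (P ⧸ Ideal.ofList (rs.take i))) := by
    intro i
    refine FlatMorSlice.exists_regular_sequence ⟨Q, inferInstance⟩ hflatP (rs.take i) fun j hj x hx => ?_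
    have hj' : j < rs.length ∧ j < i.1 := by simpa [List.length_take, and_comm] using hj
    have he : (rs.take i).take j = rs.take j := by rw [List.take_take, min_eq_left hj'.2.le]
    simp only [he, List.getElem_take] at hx ⊢
    exact hfib j hj'.1 x hx
  choose cs hcs hcolon hflat using key₂
  obtain ⟨s, hs⟩ := hI
  let J := Ideal.ofList rs
  have hgen : I.map (algebraMap _ (Localization.AtPrime Q)) ≤ J.map (algebraMap _ (Localization.AtPrime Q)) := by
    refine Submodule.le_of_le_smul_of_le_jacobson_bot (Ideal.FG.map ⟨s, hs⟩ _)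
      (IsLocalRing.maximalIdeal_le_jacobson _) ?_
    refine Ideal.map_le_iff_le_comap.2 fun x hx => ?_
    have h1 : ρ x ∈ J.map ρ := by
      rw [show J = Ideal.ofList (rs.take rs.length) by rw [List.take_length], htake,
        List.take_of_length_le (by simp [rs]), htsI]
      exact Ideal.mem_map_of_mem _ (Ideal.mem_map_of_mem _ hx)
    obtain ⟨c, hc, hcx⟩ := hback J x h1
    obtain ⟨b, hb, j, hj, hbj⟩ := Submodule.mem_sup.1 hcx
    have hbI : b ∈ I := by
      rw [eq_sub_of_add_eq hbj]
      exact I.sub_mem (I.mul_mem_left c hx) (hrsI hj)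
    have hbm := mem_map_mul_of_flat_quotient _ I hbI hb
    rw [Ideal.mem_comap]
    have hcu : IsUnit (algebraMap (P) (Localization.AtPrime Q) c) :=
      IsLocalization.map_units (Localization.AtPrime Q) (⟨c, hc⟩ : Q.primeCompl)
    refine (Ideal.unit_mul_mem_iff_mem _ hcu).1 ?_
    rw [← map_mul, ← hbj, map_add, add_comm]
    refine Submodule.add_mem_sup (Ideal.mem_map_of_mem _ hj) ?_
    rw [smul_eq_mul]
    have := Ideal.mem_map_of_mem (algebraMap _ (Localization.AtPrime Q)) hbm
    rw [Ideal.map_mul, Ideal.map_map, ← IsScalarTower.algebraMap_eq] at this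
    refine Ideal.mul_mono_left (Ideal.map_le_iff_le_comap.2 fun r hr => ?_) this
    rw [Ideal.mem_comap, IsScalarTower.algebraMap_apply R (P) (Localization.AtPrime Q),
      IsLocalization.AtPrime.to_map_mem_maximal_iff (Localization.AtPrime Q) Q]
    exact hr
  have key₃ : ∀ x ∈ s, ∃ t ∉ Q, t * x ∈ J := fun x hx => by
    obtain ⟨t, ht, htx⟩ := (IsLocalization.algebraMap_mem_map_algebraMap_iff Q.primeCompl _ _ _).1
      (hgen (Ideal.mem_map_of_mem _ (hs.le (Ideal.subset_span hx) : x ∈ I)))
    exact ⟨t, ht, htx⟩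
  choose! t ht htx using key₃
  let G := (∏ i, cs i) * ∏ x ∈ s, t x
  have hG : G ∈ Q.primeCompl :=
    Q.primeCompl.mul_mem (Q.primeCompl.prod_mem fun i _ => hcs i) (Q.primeCompl.prod_mem fun x hx => ht x hx)
  refine ⟨rs, G, hG, hrsI, fun x hx => ?_, fun i hi x hx => ?_, fun i hi Q' _ hG' => ?_⟩
  · refine (hs.ge.trans (Ideal.span_le.2 fun y hy => ?_) :
      I ≤ Submodule.comap (LinearMap.mulLeft P G) J) hx
    show G * y ∈ J
    obtain ⟨d, hd⟩ : t y ∣ G := Dvd.dvd.mul_left (Finset.dvd_prod_of_mem _ hy) _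
    rw [hd, mul_right_comm]
    exact J.mul_mem_right _ (htx y hy)
  · have hc' := hcolon (Fin.last rs.length) i (by simpa using hi) x
    simp only [Fin.val_last, List.take_length] at hc'
    obtain ⟨k, hk⟩ := hc' hx
    obtain ⟨d, hd⟩ : cs (Fin.last rs.length) ∣ G :=
      Dvd.dvd.mul_right (Finset.dvd_prod_of_mem _ (Finset.mem_univ _)) _
    refine ⟨k, ?_⟩
    rw [hd, mul_pow, mul_right_comm]
    exact Ideal.mul_mem_right _ _ hk
  · exact hflat ⟨i, Nat.lt_succ_of_le hi⟩ Q' fun h => hG' (Q'.mem_of_dvd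
      (Dvd.dvd.mul_right (Finset.dvd_prod_of_mem _ (Finset.mem_univ (⟨i, Nat.lt_succ_of_le hi⟩ : Fin (rs.length + 1)))) _) h)

/-- Near the point, the generators form a regular sequence. -/
theorem isWeaklyRegular_localization {L : Type u} [CommRing L] [Algebra P L] (M : Submonoid P)
    [IsLocalization M L] {G : P} (hG : G ∈ M) {rs : List P}
    (h : ∀ (i : ℕ) (hi : i < rs.length) (x : P), rs[i] * x ∈ Ideal.ofList (rs.take i) →
      ∃ k : ℕ, G ^ k * x ∈ Ideal.ofList (rs.take i)) :
    IsWeaklyRegular L (rs.map (algebraMap P L)) := by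
  rw [LCI15.isWeaklyRegular_iff_colon]
  intro i hi z hz
  rw [List.length_map] at hi
  simp only [List.getElem_map, ← List.map_take, ← Ideal.map_ofList] at hz ⊢
  obtain ⟨x, d, rfl⟩ := IsLocalization.exists_mk'_eq M z
  rw [IsLocalization.mul_mk'_eq_mk'_of_mul, IsLocalization.mk'_mem_map_algebraMap_iff M] at hz
  rw [IsLocalization.mk'_mem_map_algebraMap_iff M]
  obtain ⟨e, he, hex⟩ := hz
  obtain ⟨k, hk⟩ := h i hi (e * x) (by rw [mul_left_comm]; exact hex)
  exact ⟨G ^ k * e, M.mul_mem (Submonoid.pow_mem _ hG k) he, by rw [mul_assoc]; exact hk⟩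

theorem map_eq_of_mul_mem {L : Type u} [CommRing L] [Algebra P L] (M : Submonoid P) [IsLocalization M L]
    {G : P} (hG : G ∈ M) {I J : Ideal P} (hle : J ≤ I) (h : ∀ x ∈ I, G * x ∈ J) :
    I.map (algebraMap P L) = J.map (algebraMap P L) :=
  le_antisymm (Ideal.map_le_iff_le_comap.2 fun x hx =>
    (IsLocalization.algebraMap_mem_map_algebraMap_iff M L _ _).2 ⟨G, hG, h x hx⟩) (Ideal.map_mono hle)

/-- The affine openness statement. -/
theorem exists_notMem_forall_ci [Algebra.FinitePresentation R A] [Module.Flat R A] (q : Ideal A)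
    [q.IsPrime] (h : Pi1.IsCompleteIntersection (EGA4.FibLocRing R A q)) :
    ∃ g : A, g ∉ q ∧ ∀ (q' : Ideal A) [q'.IsPrime], g ∉ q' →
      Pi1.IsCompleteIntersection (EGA4.FibLocRing R A q') := by
  classical
  obtain ⟨n, π, hπ, hker⟩ := Algebra.FinitePresentation.out (R := R) (A := A)
  obtain ⟨f, hf, hfk⟩ := exists_fib_surjection π hπ q
  have := isRegularLocalRing_fib_mvPolynomial n (q.comap π.toRingHom)
  have : IsNoetherianRing (EGA4.FibLocRing R A q) := isNoetherianRing_of_surjective _ _ f hf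
  have : Module.Flat R (MvPolynomial (Fin n) R ⧸ RingHom.ker π.toRingHom) :=
    Module.Flat.of_linearEquiv (Ideal.quotientKerAlgEquivOfSurjective hπ).toLinearEquiv
  obtain ⟨rs, G, hG, hrsI, hgen, hcolon, hflat⟩ := exists_regular_generators (RingHom.ker π.toRingHom) hker
    (q.comap π.toRingHom) (hfk ▸ (CIPresentation.isCompleteIntersection_iff f hf).1 h)
  refine ⟨π G, hG, fun q' _ hq' => ?_⟩
  let Q' := q'.comap π.toRingHom
  let L := Localization.AtPrime Q'
  have hG' : G ∉ Q' := hq'
  have hwr : IsWeaklyRegular L (rs.map (algebraMap _ L)) := isWeaklyRegular_localization Q'.primeCompl hG' hcolon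
  have hmapI := map_eq_of_mul_mem (L := L) Q'.primeCompl hG' hrsI hgen
  have hfl : ∀ i ≤ (rs.map (algebraMap _ L)).length,
      Module.Flat R (L ⧸ Ideal.ofList ((rs.map (algebraMap _ L)).take i)) := by
    intro i hi
    rw [List.length_map] at hi
    rw [← List.map_take, ← Ideal.map_ofList]
    exact flat_quotient_localization Q' _ (hflat i hi Q' hG')
  have hfibreg := isWeaklyRegular_fibre (Q'.comap (algebraMap R (MvPolynomial (Fin n) R))) hwr hfl
  obtain ⟨f', hf', hfk'⟩ := exists_fib_surjection π hπ q'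
  have := isRegularLocalRing_fib_mvPolynomial n Q'
  have : IsNoetherianRing (EGA4.FibLocRing R A q') := isNoetherianRing_of_surjective _ _ f' hf'
  rw [CIPresentation.isCompleteIntersection_iff f' hf']
  have heq : Ideal.ofList ((rs.map (algebraMap _ L)).map (Ideal.Quotient.mk
      ((Q'.comap (algebraMap R (MvPolynomial (Fin n) R))).map (algebraMap R L)))) = RingHom.ker f' := by
    rw [hfk', ← Ideal.map_ofList, ← Ideal.map_ofList]
    exact congrArg _ hmapI.symm
  refine ⟨_, RegularIdealLocal.isRegular_of_mem hfibreg fun r hr => ?_, heq⟩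
  exact IsLocalRing.le_maximalIdeal (RingHom.ker_ne_top f') (heq ▸ Ideal.subset_span hr)

end Groth.Agent.CAlgH.CIOpen
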