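import Groth.Agent.CAlgH.KoszulRegular
import Groth.Agent.CAlgH.CIOpen
import Mathlib.RingTheory.Localization.Finiteness
import Mathlib.RingTheory.Localization.LocalizationLocalization
import Mathlib.RingTheory.RingHom.Flat
import Mathlib.RingTheory.Spectrum.Prime.Topology

/-!
# Koszul regular ideals descend along faithfully flat ring maps
-/

universe u

set_option autoImplicit false
set_option backward.isDefEq.respectTransparency false

open Groth.Agent.Disc12.Koszul

namespace Groth.Agent.CAlgH.KoszulDescent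

open KoszulRegular

variable {A B : Type u} [CommRing A] [CommRing B]

theorem kreg_map {φ : A →+* B} (hφ : φ.Flat) {n : ℕ} {f : Fin n → A} (h : KReg f) : KReg fun i => φ (f i) :=
  letI := φ.toAlgebra
  haveI : Module.Flat A B := hφ
  h.map

/-- A list is a family. -/
theorem kreg_get {l : List A} (h : LCI.IsKoszulRegularSeq A l) : KReg l.get :=
  (isKoszulRegularSeq_iff _).1 (by rwa [List.ofFn_get])

section Local

variable {r s : ℕ}

/-- No member is in the ideal of the others. -/
def Irred (f : Fin r → A) : Prop := ∀ j, f j ∉ Ideal.span (f '' {j}ᶜ)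

theorem Irred.le [IsLocalRing A] {f : Fin r → A} (hf : Irred f) (g : Fin s → A)
    (hfg : Ideal.span (Set.range f) = Ideal.span (Set.range g)) : r ≤ s := by
  classical
  choose d hd using fun j => Ideal.mem_span_range_iff_exists_fun.1 (hfg ▸ Ideal.subset_span ⟨j, rfl⟩ :
    f j ∈ Ideal.span (Set.range g))
  choose c hc using fun j => Ideal.mem_span_range_iff_exists_fun.1 (hfg.symm ▸ Ideal.subset_span ⟨j, rfl⟩ :
    g j ∈ Ideal.span (Set.range f))
  let π := IsLocalRing.residue A
  have hDC : (Matrix.of d).map π * (Matrix.of c).map π = 1 := by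
    rw [← Matrix.map_mul]
    ext j k
    let e : Fin r → A := fun k => (∑ i, d j i * c i k) - if j = k then 1 else 0
    have h0 : ∑ k, e k * f k = 0 := by
      simp only [e, sub_mul, Finset.sum_sub_distrib, Finset.sum_mul, mul_assoc]
      rw [Finset.sum_comm]
      simp [← Finset.mul_sum, hc, hd]
    have h1 : e k ∈ IsLocalRing.maximalIdeal A := by
      intro hu
      refine hf k ((Ideal.unit_mul_mem_iff_mem _ hu).1 ?_)
      rw [← Finset.add_sum_erase _ _ (Finset.mem_univ k), add_eq_zero_iff_eq_neg] at h0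
      rw [h0]
      exact neg_mem (Ideal.sum_mem _ fun i hi => Ideal.mul_mem_left _ _
        (Ideal.subset_span ⟨i, Finset.ne_of_mem_erase hi, rfl⟩))
    rw [← IsLocalRing.residue_eq_zero_iff] at h1
    simp only [e, map_sub, sub_eq_zero] at h1
    simpa [Matrix.mul_apply, Matrix.one_apply, apply_ite π, π] using h1
  refine le_of_fin_surjective (IsLocalRing.ResidueField A) ((Matrix.of c).map π).vecMulLinear fun w =>
    ⟨Matrix.vecMul w ((Matrix.of d).map π), ?_⟩
  rw [Matrix.vecMulLinear_apply, Matrix.vecMul_vecMul, hDC, Matrix.vecMul_one]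

variable [Algebra A B]

theorem Irred.map [Module.FaithfullyFlat A B] {f : Fin r → A} (hf : Irred f) :
    Irred fun i => algebraMap A B (f i) := fun j hj => hf j (by
  rw [← Ideal.comap_map_eq_self_of_faithfullyFlat (B := B) (Ideal.span (f '' {j}ᶜ)), Ideal.mem_comap, Ideal.map_span,
    Set.image_image]
  exact hj)

theorem kreg_of_irred [IsLocalRing B] [Module.FaithfullyFlat A B] {f : Fin r → A} (hf : Irred f) {g : Fin s → B}
    (hg : KReg g) (hspan : (Ideal.span (Set.range f)).map (algebraMap A B) = Ideal.span (Set.range g))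
    (hne : Ideal.span (Set.range g) ≠ ⊤) : r = s ∧ KReg f := by
  have heq : Ideal.span (Set.range fun i => algebraMap A B (f i)) = Ideal.span (Set.range g) := by
    rw [← hspan, Ideal.map_span, ← Set.range_comp]
    rfl
  obtain rfl : r = s := le_antisymm ((hf.map (B := B)).le g heq) (le_of_generators hne hg rfl _ heq)
  exact ⟨rfl, kreg_of_faithfullyFlat (S := B) (kreg_of_span_eq hg heq)⟩

end Local

variable [Algebra A B]

theorem exists_nhd_generators {I : Ideal B} (hI : LCI.IsKoszulRegularIdeal I) (q : PrimeSpectrum B) :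
    ∃ h : B, h ∉ q.asIdeal ∧ (I.map (algebraMap B (Localization.Away h))).FG := by
  by_cases hq : I ≤ q.asIdeal
  · obtain ⟨h, hh, l, -, hle⟩ := hI q hq
    exact ⟨h, hh, hle ▸ Submodule.fg_span (List.finite_toSet l)⟩
  · obtain ⟨h, hh, hhq⟩ := SetLike.not_le_iff_exists.1 hq
    refine ⟨h, hhq, ?_⟩
    rw [Ideal.eq_top_of_isUnit_mem _ (Ideal.mem_map_of_mem _ hh) (IsLocalization.Away.algebraMap_isUnit h)]
    exact Module.Finite.fg_top

theorem fg_of_isKoszulRegularIdeal {I : Ideal B} (hI : LCI.IsKoszulRegularIdeal I) : I.FG := by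
  choose h hh hfg using exists_nhd_generators hI
  refine Ideal.fg_of_localizationSpan (Set.range h) ?_ ?_
  · by_contra hne
    obtain ⟨m, hm, hle⟩ := Ideal.exists_le_maximal _ hne
    exact hh ⟨m, hm.isPrime⟩ (hle (Ideal.subset_span ⟨_, rfl⟩))
  · rintro ⟨_, q, rfl⟩
    exact hfg q

theorem fg_of_faithfullyFlat [Module.FaithfullyFlat A B] (I : Ideal A) (h : (I.map (algebraMap A B)).FG) : I.FG := by
  classical
  obtain ⟨T, hT⟩ := h
  have hmem : ∀ t ∈ T, ∃ J : Ideal A, J.FG ∧ J ≤ I ∧ t ∈ J.map (algebraMap A B) := by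
    intro t ht
    have : t ∈ I.map (algebraMap A B) := hT ▸ Submodule.subset_span ht
    obtain ⟨F, hF, htF⟩ := Submodule.mem_span_finite_of_mem_span this
    choose g hg using fun x : F => hF x.2
    refine ⟨Ideal.span (Set.range g), Submodule.fg_span (Set.finite_range g), Ideal.span_le.2 ?_, ?_⟩
    · rintro _ ⟨x, rfl⟩
      exact (hg x).1
    · refine (Ideal.span_le.2 (fun x hx => ?_) : Ideal.span (F : Set B) ≤ _) htF
      have h3 : algebraMap A B (g ⟨x, hx⟩) ∈ (Ideal.span (Set.range g)).map (algebraMap A B) :=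
        Ideal.mem_map_of_mem _ (Ideal.subset_span ⟨⟨x, hx⟩, rfl⟩)
      rwa [(hg ⟨x, hx⟩).2] at h3
  choose J hJfg hJle hJt using hmem
  let J' : Ideal A := ⨆ t : T, J t.1 t.2
  have hle : J' ≤ I := iSup_le fun t => hJle _ _
  have heq : J'.map (algebraMap A B) = I.map (algebraMap A B) := by
    refine le_antisymm (Ideal.map_mono hle) ?_
    rw [← hT, Ideal.span_le]
    exact fun t ht => Ideal.map_mono (le_iSup (fun t : T => J t.1 t.2) ⟨t, ht⟩) (hJt t ht)
  rw [← Ideal.comap_map_eq_self_of_faithfullyFlat (B := B) I, ← heq, Ideal.comap_map_eq_self_of_faithfullyFlat]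
  exact Submodule.fg_iSup _ fun t => hJfg _ _

theorem exists_irred_generators (I : Ideal A) (hI : I.FG) (p : Ideal A) [p.IsPrime] :
    ∃ (r : ℕ) (f : Fin r → A) (s : A), s ∉ p ∧ (∀ i, f i ∈ I) ∧ (∀ a ∈ I, s * a ∈ Ideal.span (Set.range f)) ∧
      Irred fun i => algebraMap A (Localization.AtPrime p) (f i) := by
  classical
  obtain ⟨T, hT⟩ := hI
  let L := Localization.AtPrime p
  let P : ℕ → Prop := fun r => ∃ f : Fin r → A, (∀ i, f i ∈ I) ∧
    I.map (algebraMap A L) = Ideal.span (Set.range fun i => algebraMap A L (f i))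
  have hex : ∃ r, P r := ⟨T.card, fun i => (T.equivFin.symm i).1,
    fun i => hT.le (Submodule.subset_span (T.equivFin.symm i).2), by
      rw [← hT, Ideal.map_span]
      refine congrArg Ideal.span (Set.ext fun x => ?_)
      simp only [Set.mem_image, Finset.mem_coe, Set.mem_range]
      exact ⟨fun ⟨t, ht, hx⟩ => ⟨T.equivFin ⟨t, ht⟩, by simpa using hx⟩, fun ⟨i, hx⟩ => ⟨_, (T.equivFin.symm i).2, hx⟩⟩⟩
  obtain ⟨f, hfI, hspan⟩ := Nat.find_spec hex
  have hirr : Irred fun i => algebraMap A L (f i) := by
    generalize hr : Nat.find hex = r at f hfI hspan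
    intro j hj
    cases r with
    | zero => exact j.elim0
    | succ r =>
      refine Nat.find_min hex (show r < Nat.find hex by omega) ⟨f ∘ j.succAbove, fun i => hfI _, le_antisymm ?_ ?_⟩
      · rw [hspan, Ideal.span_le]
        rintro _ ⟨i, rfl⟩
        have hsub : (fun i => algebraMap A L (f i)) '' {j}ᶜ ⊆ Set.range fun k => algebraMap A L ((f ∘ j.succAbove) k) := by
          rintro _ ⟨i, hi, rfl⟩
          obtain ⟨k, rfl⟩ := Fin.exists_succAbove_eq hi
          exact ⟨k, rfl⟩
        by_cases hi : i = j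
        · subst hi
          exact Ideal.span_mono hsub hj
        · exact Ideal.subset_span (hsub ⟨i, hi, rfl⟩)
      · rw [Ideal.span_le]
        rintro _ ⟨i, rfl⟩
        exact Ideal.mem_map_of_mem _ (hfI _)
  have hs : ∀ t : T, ∃ s : A, s ∉ p ∧ s * t.1 ∈ Ideal.span (Set.range f) := fun t => by
    have : algebraMap A L t.1 ∈ (Ideal.span (Set.range f)).map (algebraMap A L) := by
      rw [Ideal.map_span, ← Set.range_comp]
      exact hspan.le (Ideal.mem_map_of_mem _ (hT.le (Submodule.subset_span t.2)))
    obtain ⟨s, hs, hst⟩ := (IsLocalization.algebraMap_mem_map_algebraMap_iff p.primeCompl L _ _).1 this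
    exact ⟨s, hs, hst⟩
  choose s hsp hst using hs
  refine ⟨_, f, ∏ t, s t, fun h => ?_, hfI, fun a ha => ?_, hirr⟩
  · obtain ⟨t, -, ht⟩ := Ideal.IsPrime.prod_mem_iff.1 h
    exact hsp t ht
  · have : I ≤ Submodule.comap (LinearMap.mulLeft A (∏ t, s t)) (Ideal.span (Set.range f)) := by
      rw [← hT, Ideal.span_le]
      intro t ht
      show (∏ t, s t) * t ∈ Ideal.span (Set.range f)
      obtain ⟨c, hc⟩ := Finset.dvd_prod_of_mem s (Finset.mem_univ ⟨t, ht⟩)
      rw [hc, mul_comm (s _) c, mul_assoc]
      exact Ideal.mul_mem_left _ _ (hst ⟨t, ht⟩)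
    exact this ha

/-- Koszul regularity of an ideal descends along faithfully flat maps. -/
theorem isKoszulRegularIdeal_of_faithfullyFlat [Module.FaithfullyFlat A B] (I : Ideal A)
    (hI : LCI.IsKoszulRegularIdeal (I.map (algebraMap A B))) : LCI.IsKoszulRegularIdeal I := by
  classical
  intro 𝔭 hp
  obtain ⟨r, f, s, hsp, hfI, hsf, hirr⟩ :=
    exists_irred_generators I (fg_of_faithfullyFlat (B := B) I (fg_of_isKoszulRegularIdeal hI)) 𝔭.asIdeal
  have hloc : ∀ (L : Type u) [CommRing L] [Algebra A L], IsUnit (algebraMap A L s) →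
      I.map (algebraMap A L) = Ideal.span (Set.range fun i => algebraMap A L (f i)) := by
    intro L _ _ hu
    refine le_antisymm (Ideal.map_le_iff_le_comap.2 fun a ha => ?_) (Ideal.span_le.2 ?_)
    · rw [Ideal.mem_comap]
      have h1 := Ideal.mem_map_of_mem (algebraMap A L) (hsf a ha)
      rw [map_mul, Ideal.map_span, ← Set.range_comp] at h1
      exact (Ideal.unit_mul_mem_iff_mem _ hu).1 h1
    · rintro _ ⟨i, rfl⟩
      exact Ideal.mem_map_of_mem _ (hfI i)
  -- a Koszul regular model over a prime of the zero locus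
  have hmodel : ∀ q : PrimeSpectrum B, I ≤ (PrimeSpectrum.comap (algebraMap A B) q).asIdeal →
      s ∉ (PrimeSpectrum.comap (algebraMap A B) q).asIdeal →
      ∃ h : B, h ∉ q.asIdeal ∧ ∃ m : ℕ, ∀ q' : PrimeSpectrum B, h ∉ q'.asIdeal →
        I ≤ (PrimeSpectrum.comap (algebraMap A B) q').asIdeal →
        s ∉ (PrimeSpectrum.comap (algebraMap A B) q').asIdeal →
        (Irred (fun i => algebraMap A (Localization.AtPrime (q'.asIdeal.comap (algebraMap A B))) (f i)) →
          r = m ∧ KReg fun i => algebraMap A (Localization.AtPrime (q'.asIdeal.comap (algebraMap A B))) (f i)) ∧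
        m ≤ r ∧ (¬ Irred (fun i => algebraMap A (Localization.AtPrime (q'.asIdeal.comap (algebraMap A B))) (f i)) →
          m < r) := by
    intro q hq hsq
    obtain ⟨h, hh, l, hl, hle⟩ := hI q (Ideal.map_le_iff_le_comap.2 hq)
    refine ⟨h, hh, l.length, fun q' hh' hq' hsq' => ?_⟩
    let p' := q'.asIdeal.comap (algebraMap A B)
    let L := Localization.AtPrime p'
    let L' := Localization.AtPrime q'.asIdeal
    let φ : L →+* L' := Localization.localRingHom p' q'.asIdeal (algebraMap A B) rfl
    letI : Algebra L L' := φ.toAlgebra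
    have hflat : (algebraMap A B).Flat := RingHom.flat_algebraMap_iff.2 inferInstance
    have : Module.Flat L L' := hflat.localRingHom q'.asIdeal p' rfl
    have : IsLocalHom (algebraMap L L') := Localization.isLocalHom_localRingHom _ _ _ rfl
    have hff : Module.FaithfullyFlat L L' := Module.FaithfullyFlat.of_flat_of_isLocalHom
    have hu : IsUnit (algebraMap A L s) := IsLocalization.map_units L (⟨s, hsq'⟩ : p'.primeCompl)
    let ψ : Localization.Away h →+* L' := IsLocalization.Away.lift h
      (g := algebraMap B L') (IsLocalization.map_units L' (⟨h, hh'⟩ : q'.asIdeal.primeCompl))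
    have hψflat : ψ.Flat := by
      let : Algebra (Localization.Away h) L' := ψ.toAlgebra
      have : IsScalarTower B (Localization.Away h) L' :=
        .of_algebraMap_eq fun b => (IsLocalization.Away.lift_eq h _ b).symm
      have := IsLocalization.isLocalization_of_submonoid_le (Localization.Away h) L' (Submonoid.powers h)
        q'.asIdeal.primeCompl (Submonoid.powers_le.2 hh')
      exact IsLocalization.flat L' ((Submonoid.map (algebraMap B (Localization.Away h)) q'.asIdeal.primeCompl))
    have hJ : (Ideal.span (Set.range fun i => algebraMap A L (f i))).map φ =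
        Ideal.span (Set.range fun i => ψ (l.get i)) := by
      rw [← hloc L hu, Ideal.map_map, show φ.comp (algebraMap A L) =
        (ψ.comp (algebraMap B (Localization.Away h))).comp (algebraMap A B) from RingHom.ext fun a => by
          simp only [RingHom.comp_apply, φ, ψ, IsLocalization.Away.lift_eq]
          exact Localization.localRingHom_to_map _ _ _ rfl a,
        ← Ideal.map_map, ← Ideal.map_map, hle, Ideal.map_span]
      refine congrArg Ideal.span ?_
      rw [show {x | x ∈ l} = Set.range l.get from (Set.range_list_get l).symm, ← Set.range_comp]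
      rfl
    have hne : Ideal.span (Set.range fun i => ψ (l.get i)) ≠ ⊤ := by
      rw [← hJ]
      refine ne_top_of_le_ne_top (IsLocalRing.maximalIdeal.isMaximal L').ne_top ?_
      refine le_trans (Ideal.map_mono (J := IsLocalRing.maximalIdeal L) ?_) (Ideal.map_le_iff_le_comap.2
        fun x hx => map_nonunit (algebraMap L L') x hx)
      rw [← hloc L hu, Ideal.map_le_iff_le_comap]; exact le_trans hq' (le_of_eq (IsLocalization.AtPrime.comap_maximalIdeal L p').symm)
    have hKl : KReg fun i => ψ (l.get i) := kreg_map hψflat (kreg_get hl)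
    refine ⟨fun hi => kreg_of_irred (B := L') hi hKl hJ hne, ?_, fun hi => ?_⟩
    · exact le_of_generators hne hKl rfl (fun i => φ (algebraMap A L (f i)))
        (by rw [← hJ, Ideal.map_span, ← Set.range_comp]; rfl)
    · simp only [Irred, not_forall, not_not] at hi
      obtain ⟨j, hj⟩ := hi
      cases r with
      | zero => exact j.elim0
      | succ r =>
        refine Nat.lt_succ_of_le (le_of_generators hne hKl rfl (fun i => φ (algebraMap A L (f (j.succAbove i)))) ?_)
        rw [← hJ, Ideal.map_span, ← Set.range_comp]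
        refine le_antisymm (Ideal.span_mono ?_) (Ideal.span_le.2 ?_)
        · rintro _ ⟨i, rfl⟩
          exact ⟨_, rfl⟩
        · rintro _ ⟨i, rfl⟩
          have hsub : (fun i => φ (algebraMap A L (f i))) '' {j}ᶜ ⊆
              Set.range fun k => φ (algebraMap A L (f (j.succAbove k))) := by
            rintro _ ⟨i, hi, rfl⟩
            obtain ⟨k, rfl⟩ := Fin.exists_succAbove_eq hi
            exact ⟨k, rfl⟩
          by_cases hi : i = j
          · subst hi
            have := Ideal.mem_map_of_mem φ hj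
            rw [Ideal.map_span, Set.image_image] at this
            exact Ideal.span_mono hsub this
          · exact Ideal.subset_span (hsub ⟨i, hi, rfl⟩)
  -- the open set
  let U : Set (PrimeSpectrum A) := {p' | s ∉ p'.asIdeal ∧
    (I ≤ p'.asIdeal → Irred fun i => algebraMap A (Localization.AtPrime p'.asIdeal) (f i))}
  have hUopen : IsOpen (PrimeSpectrum.comap (algebraMap A B) ⁻¹' U) := by
    rw [isOpen_iff_forall_mem_open]
    rintro q ⟨hsq, hq⟩
    by_cases hIq : I ≤ (PrimeSpectrum.comap (algebraMap A B) q).asIdeal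
    · obtain ⟨h, hh, m, hm⟩ := hmodel q hIq hsq
      refine ⟨((PrimeSpectrum.basicOpen h ⊓ PrimeSpectrum.basicOpen (algebraMap A B s) : TopologicalSpace.Opens (PrimeSpectrum B)) : Set (PrimeSpectrum B)), fun q' hq' => ?_,
        (TopologicalSpace.Opens.isOpen _), ⟨hh, hsq⟩⟩
      refine ⟨hq'.2, fun hI' => ?_⟩
      by_contra hirr'
      have h1 := ((hm q hh hIq hsq).1 (hq hIq)).1
      have h2 := (hm q' hq'.1 hI' hq'.2).2.2 hirr'
      omega
    · obtain ⟨a, haI, haq⟩ := SetLike.not_le_iff_exists.1 hIq
      exact ⟨((PrimeSpectrum.basicOpen (algebraMap A B a) ⊓ PrimeSpectrum.basicOpen (algebraMap A B s) : TopologicalSpace.Opens (PrimeSpectrum B)) : Set (PrimeSpectrum B)),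
        fun q' hq' => ⟨hq'.2, fun hI' => absurd (hI' haI) hq'.1⟩, TopologicalSpace.Opens.isOpen _, ⟨haq, hsq⟩⟩
  have hU : IsOpen U := (PrimeSpectrum.isQuotientMap_of_generalizingMap
    PrimeSpectrum.comap_surjective_of_faithfullyFlat
    (RingHom.Flat.generalizingMap_comap (RingHom.flat_algebraMap_iff.2 inferInstance))).isOpen_preimage.1 hUopen
  obtain ⟨_, ⟨g₀, rfl⟩, hg₀p, hg₀U⟩ :=
    (PrimeSpectrum.isTopologicalBasis_basic_opens).exists_subset_of_mem_open (show 𝔭 ∈ U from ⟨hsp, fun _ => hirr⟩) hU
  have hsp' : g₀ * s ∉ 𝔭.asIdeal := fun h => (𝔭.2.mem_or_mem h).elim hg₀p hsp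
  refine ⟨g₀ * s, hsp', List.ofFn fun i => algebraMap A (Localization.Away (g₀ * s)) (f i), ?_, ?_⟩
  · rw [isKoszulRegularSeq_iff]
    refine kreg_of_local _ fun m hm hle => ?_
    let p' : PrimeSpectrum A := ⟨m.comap (algebraMap A (Localization.Away (g₀ * s))), inferInstance⟩
    have hgs : g₀ * s ∉ p'.asIdeal := fun h =>
      hm.ne_top (Ideal.eq_top_of_isUnit_mem _ h (IsLocalization.Away.algebraMap_isUnit (g₀ * s)))
    have hs' : s ∉ p'.asIdeal := fun h => hgs (Ideal.mul_mem_left _ _ h)
    have hg' : g₀ ∉ p'.asIdeal := fun h => hgs (Ideal.mul_mem_right _ _ h)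
    have hIp : I ≤ p'.asIdeal := by
      refine Ideal.map_le_iff_le_comap.1 ?_
      rw [hloc _ (isUnit_of_dvd_unit (map_dvd _ (dvd_mul_left s g₀)) (IsLocalization.Away.algebraMap_isUnit (g₀ * s)))]
      exact hle
    have key : ∀ p'' : PrimeSpectrum A, I ≤ p''.asIdeal → s ∉ p''.asIdeal →
        Irred (fun i => algebraMap A (Localization.AtPrime p''.asIdeal) (f i)) →
        KReg fun i => algebraMap A (Localization.AtPrime p''.asIdeal) (f i) := by
      intro p'' h1 h2 hi
      obtain ⟨q', rfl⟩ := PrimeSpectrum.comap_surjective_of_faithfullyFlat (B := B) p''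
      obtain ⟨h, hh, m', hm'⟩ := hmodel q' h1 h2
      exact ((hm' q' hh h1 h2).1 hi).2
    have hK := key p' hIp hs' ((hg₀U (show p' ∈ PrimeSpectrum.basicOpen g₀ from hg')).2 hIp)
    let e := IsLocalization.localizationLocalizationAtPrimeIsoLocalization (Submonoid.powers (g₀ * s)) m
    have := kreg_map (RingHom.Flat.of_bijective (f := (e : Localization.AtPrime p'.asIdeal ≃ₐ[A] _).toAlgHom.toRingHom)
      e.bijective) hK
    convert this using 2 with i
    exact ((IsScalarTower.algebraMap_apply A (Localization.Away (g₀ * s)) (Localization.AtPrime m) (f i)).symm.trans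
      (e.commutes (f i)).symm)
  · rw [hloc _ (isUnit_of_dvd_unit (map_dvd _ (dvd_mul_left s g₀)) (IsLocalization.Away.algebraMap_isUnit (g₀ * s)))]
    exact congrArg Ideal.span (Set.ext fun x => by simp)

end Groth.Agent.CAlgH.KoszulDescent
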