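import Groth.Prelude.Def_CInt
import Groth.Agent.CotTLib.Regular
import Mathlib.RingTheory.Regular.RegularSequence
import Mathlib.RingTheory.Nakayama

/-!
# Weakly regular sequences: Koszul `H₁`, extensions
-/

universe u v

set_option autoImplicit false

open RingTheory.Sequence

namespace Groth.Agent.CAlgH.KoszulSeq

variable {A : Type u} [CommRing A]

/-- The trivial relations among `f` with values in `M`. -/
def altRel {n : ℕ} (f : Fin n → A) (M : Type v) [AddCommGroup M] [Module A M] :
    Submodule A (Fin n → M) where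
  carrier := {m | ∃ d : Fin n → Fin n → M, ∀ i, m i = ∑ j, f j • (d i j - d j i)}
  zero_mem' := ⟨0, fun i => by simp⟩
  add_mem' := by
    rintro a b ⟨d, hd⟩ ⟨e, he⟩
    refine ⟨d + e, fun i => ?_⟩
    simp only [Pi.add_apply, hd, he, ← Finset.sum_add_distrib, ← smul_add]
    exact Finset.sum_congr rfl fun j _ => by congr 1; abel
  smul_mem' := by
    rintro c a ⟨d, hd⟩
    refine ⟨c • d, fun i => ?_⟩
    simp only [Pi.smul_apply, hd, Finset.smul_sum]
    exact Finset.sum_congr rfl fun j _ => by rw [← smul_sub, smul_comm]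

theorem koszulH1Zero_le {n : ℕ} {f : Fin n → A} {M : Type v} [AddCommGroup M] [Module A M]
    (h : CInt.KoszulH1Zero f M) (m : Fin n → M) (hm : ∑ i, f i • m i = 0) : m ∈ altRel f M := by
  classical
  refine Submodule.span_le.2 ?_ (h m hm)
  rintro _ ⟨i, j, x, rfl⟩
  refine ⟨fun a b => if a = i ∧ b = j then x else 0, fun k => ?_⟩
  simp only [Pi.sub_apply, Pi.smul_apply, smul_sub, Finset.sum_sub_distrib, ite_and, smul_ite, smul_zero,
    Pi.single_apply]
  simp [Finset.sum_ite_irrel, eq_comm]

theorem mem_ofList_smul_top {n : ℕ} (f : Fin n → A) {M : Type v} [AddCommGroup M] [Module A M] {x : M} :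
    x ∈ Ideal.ofList (List.ofFn f) • (⊤ : Submodule A M) ↔ ∃ m : Fin n → M, ∑ i, f i • m i = x := by
  have hspan : Ideal.ofList (List.ofFn f) = Ideal.span (Set.range f) := by
    refine congrArg Ideal.span ?_
    ext y
    exact List.mem_ofFn
  rw [hspan]
  constructor
  · intro hx
    refine Submodule.smul_induction_on hx (fun r hr y _ => ?_) (fun a b ⟨ma, ha⟩ ⟨mb, hb⟩ => ⟨ma + mb, by
      simp [smul_add, Finset.sum_add_distrib, ha, hb]⟩)
    obtain ⟨c, rfl⟩ := Ideal.mem_span_range_iff_exists_fun.1 hr
    exact ⟨fun i => c i • y, by simp [Finset.sum_smul, smul_smul, mul_comm]⟩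
  · rintro ⟨m, rfl⟩
    exact Submodule.sum_mem _ fun i _ => Submodule.smul_mem_smul (Ideal.subset_span ⟨i, rfl⟩) trivial

/-- Sequences all whose relations are trivial are weakly regular. -/
theorem isWeaklyRegular_of_relations [IsNoetherianRing A] {M : Type v} [AddCommGroup M] [Module A M]
    [Module.Finite A M] : ∀ {n : ℕ} (f : Fin n → A), (∀ i, f i ∈ (⊥ : Ideal A).jacobson) →
      (∀ m : Fin n → M, ∑ i, f i • m i = 0 → m ∈ altRel f M) → IsWeaklyRegular M (List.ofFn f)
  | 0, f, _, _ => by rw [List.ofFn_zero]; exact IsWeaklyRegular.nil A M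
  | n + 1, f, hrad, H => by
    let f' := f ∘ Fin.castSucc
    let g := f (Fin.last n)
    let Z : Submodule A (Fin n → M) :=
      { carrier := {m | ∑ i, f' i • m i = 0}
        zero_mem' := by simp
        add_mem' := fun {a b} ha hb => by
          simp only [Set.mem_setOf_eq, Pi.add_apply, smul_add, Finset.sum_add_distrib] at *
          rw [ha, hb, add_zero]
        smul_mem' := fun c a ha => by
          simp only [Set.mem_setOf_eq, Pi.smul_apply] at *
          simp only [smul_comm _ c, ← Finset.smul_sum, ha, smul_zero] }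
    have hle : Z ≤ altRel f' M ⊔ Ideal.span {g} • Z := by
      intro m (hm : ∑ i, f' i • m i = 0)
      obtain ⟨d, hd⟩ := H (Fin.snoc m 0) (by
        rw [Fin.sum_univ_castSucc, Fin.snoc_last, smul_zero, add_zero]
        simp only [Fin.snoc_castSucc]; exact hm)
      let c : Fin n → M := fun i => d i.castSucc (Fin.last n) - d (Fin.last n) i.castSucc
      have hc : c ∈ Z := by
        show ∑ i, f' i • c i = 0
        have h0 := hd (Fin.last n)
        rw [Fin.snoc_last, Fin.sum_univ_castSucc, sub_self, smul_zero, add_zero] at h0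
        rw [← neg_eq_zero, ← Finset.sum_neg_distrib]
        exact h0.symm ▸ Finset.sum_congr rfl fun i _ => by simp [f', c, smul_sub]
      have : m = (fun i => ∑ j, f' j • (d i.castSucc j.castSucc - d j.castSucc i.castSucc)) + g • c := by
        funext i
        have := hd i.castSucc
        rw [Fin.snoc_castSucc, Fin.sum_univ_castSucc] at this
        exact this
      rw [this]
      exact Submodule.add_mem_sup ⟨fun i j => d i.castSucc j.castSucc, fun i => rfl⟩
        (Submodule.smul_mem_smul (Ideal.mem_span_singleton_self g) hc)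
    have hZ : Z ≤ altRel f' M := Submodule.le_of_le_smul_of_le_jacobson_bot (IsNoetherian.noetherian Z)
      (Ideal.span_le.2 (Set.singleton_subset_iff.2 (hrad _))) hle
    have ih := isWeaklyRegular_of_relations f' (fun i => hrad _) fun m hm => hZ hm
    rw [List.ofFn_succ', List.concat_eq_append, isWeaklyRegular_append_iff, isWeaklyRegular_singleton_iff,
      isSMulRegular_quotient_iff_mem_of_smul_mem]
    refine ⟨ih, fun y hy => ?_⟩
    obtain ⟨m, hm⟩ := (mem_ofList_smul_top f').1 hy
    obtain ⟨d, hd⟩ := H (Fin.snoc (-m) y) (by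
      rw [Fin.sum_univ_castSucc, Fin.snoc_last]
      simp only [Fin.snoc_castSucc, Pi.neg_apply, smul_neg, Finset.sum_neg_distrib]
      exact neg_add_eq_zero.2 hm)
    refine (mem_ofList_smul_top f').2 ⟨fun i => d (Fin.last n) i.castSucc - d i.castSucc (Fin.last n), ?_⟩
    have h0 := hd (Fin.last n)
    rw [Fin.snoc_last, Fin.sum_univ_castSucc, sub_self, smul_zero, add_zero] at h0
    exact h0.symm

theorem isWeaklyRegular_of_koszulH1Zero [IsNoetherianRing A] {n : ℕ} (f : Fin n → A)
    (hrad : ∀ i, f i ∈ (⊥ : Ideal A).jacobson) (M : Type v) [AddCommGroup M] [Module A M] [Module.Finite A M]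
    (h : CInt.KoszulH1Zero f M) : IsWeaklyRegular M (List.ofFn f) :=
  isWeaklyRegular_of_relations f hrad (koszulH1Zero_le h)

section Exact

variable {M' M M'' : Type v} [AddCommGroup M'] [Module A M'] [AddCommGroup M] [Module A M]
    [AddCommGroup M''] [Module A M'']

/-- If a sequence is regular on `M` and stays injective on the submodule, it is regular on the quotient. -/
theorem isWeaklyRegular_quotient [IsNoetherianRing A] [Module.Finite A M''] (i : M' →ₗ[A] M) (p : M →ₗ[A] M'')
    (hp : Function.Surjective p) (hex : Function.Exact i p) {n : ℕ} (f : Fin n → A)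
    (hrad : ∀ g ∈ List.ofFn f, g ∈ (⊥ : Ideal A).jacobson) (hM : IsWeaklyRegular M (List.ofFn f))
    (hinj : ∀ x : M', i x ∈ Ideal.ofList (List.ofFn f) • (⊤ : Submodule A M) →
      x ∈ Ideal.ofList (List.ofFn f) • (⊤ : Submodule A M')) :
    IsWeaklyRegular M'' (List.ofFn f) := by
  refine isWeaklyRegular_of_relations f (fun i => hrad _ (List.mem_ofFn.2 ⟨i, rfl⟩)) fun m'' hm'' => ?_
  choose m hm using fun k => hp (m'' k)
  obtain ⟨x, hx⟩ := (hex (∑ k, f k • m k)).1 (by simp [map_sum, hm, hm''])
  obtain ⟨x', hx'⟩ := (mem_ofList_smul_top f).1 (hinj x (hx ▸ (mem_ofList_smul_top f).2 ⟨m, rfl⟩))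
  obtain ⟨d, hd⟩ := CotTLib.exists_alternating f M hM (fun k => m k - i (x' k)) (by
    simp only [smul_sub, Finset.sum_sub_distrib, ← hx, ← hx', map_sum, map_smul, sub_self])
  refine ⟨fun a b => p (d a b), fun k => ?_⟩
  rw [← hm k, ← sub_zero (p (m k)), ← hex.apply_apply_eq_zero (x' k), ← map_sub, hd k]
  simp [map_sum]

end Exact

/-- Sequences regular on both ends of a short exact sequence are regular in the middle. -/
theorem isWeaklyRegular_extension (fs : List A) :
    ∀ {M' M M'' : Type v} [AddCommGroup M'] [Module A M'] [AddCommGroup M] [Module A M]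
      [AddCommGroup M''] [Module A M''] (i : M' →ₗ[A] M) (p : M →ₗ[A] M''), Function.Injective i →
      Function.Surjective p → Function.Exact i p →
      IsWeaklyRegular M' fs → IsWeaklyRegular M'' fs → IsWeaklyRegular M fs := by
  induction fs with
  | nil => intros; exact IsWeaklyRegular.nil A _
  | cons r rs ih =>
    intro M' M M'' _ _ _ _ _ _ i p hi hp hex h' h''
    rw [isWeaklyRegular_cons_iff] at h' h'' ⊢
    refine ⟨isSMulRegular_of_range_eq_ker hi (LinearMap.exact_iff.1 hex).symm h'.1 h''.1,
      ih (QuotSMulTop.map r i) (QuotSMulTop.map r p) ?_ (QuotSMulTop.map_surjective r hp)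
        (QuotSMulTop.map_exact r hex hp) h'.2 h''.2⟩
    have h0 : Function.Exact (0 : M' →ₗ[A] M') i := by
      rw [LinearMap.exact_zero_iff_injective]; exact hi
    have := QuotSMulTop.map_first_exact_on_four_term_exact_of_isSMulRegular_last h0 hex h''.1
    rwa [map_zero, LinearMap.exact_zero_iff_injective] at this

end Groth.Agent.CAlgH.KoszulSeq
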