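import Groth.Agent.CAlgH.NagataComplete
import Groth.Agent.CAlgH.NagataBase
import Mathlib

/-!
# The Nagata property descends along separable extensions of discrete valuation rings
-/

set_option autoImplicit false

universe u

open TensorProduct CAlg

namespace Groth.Agent.CAlgH.NagataSeparable

theorem isGeometricallyReduced_of_isSeparable (K L : Type u) [Field K] [Field L] [Algebra K L]
    [Algebra.IsSeparable K L] : Algebra.IsGeometricallyReduced K L := by
  refine Algebra.IsGeometricallyReduced.of_forall_fg fun B hB => ?_
  haveI : Algebra.FiniteType K B := ⟨(Subalgebra.fg_top B).2 hB⟩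
  haveI : Algebra.IsIntegral K B := Algebra.IsIntegral.of_injective B.val Subtype.val_injective
  haveI : Module.Finite K B := Algebra.IsIntegral.finite
  letI := (isField_of_isIntegral_of_isField' (R := K) (S := B) (Field.toIsField K)).toField
  haveI : Algebra.IsSeparable K B := Algebra.IsSeparable.of_algHom K L B.val
  haveI : Algebra.FormallyUnramified K B := Algebra.FormallyUnramified.of_isSeparable K B
  rw [Algebra.isGeometricallyReduced_field_iff]
  exact Algebra.FormallyUnramified.isReduced_of_field (AlgebraicClosure K) (AlgebraicClosure K ⊗[K] B)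

theorem finite_integralClosure_tensor {A B K L : Type u} [CommRing A] [IsDomain A] [IsDedekindDomain A]
    [CommRing B] [IsDomain B] [IsNoetherianRing B] [Algebra A B] [Module.FaithfullyFlat A B]
    [Field K] [Field L] [Algebra A K] [IsFractionRing A K] [Algebra B L] [IsFractionRing B L]
    [Algebra K L] [Algebra A L] [IsScalarTower A K L] [IsScalarTower A B L]
    [Algebra.IsAlgebraic K L] [Algebra.IsGeometricallyReduced K L]
    (hB : IsN2 B) (L' : Type u) [Field L'] [Algebra A L'] [Algebra K L'] [IsScalarTower A K L']
    [FiniteDimensional K L'] : Module.Finite A (integralClosure A L') := by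
  classical
  let A' := integralClosure A L'
  let T := L ⊗[K] L'
  haveI hred : IsReduced T :=
    isReduced_of_injective (Algebra.TensorProduct.comm K L L').toRingEquiv.toRingHom
      (Algebra.TensorProduct.comm K L L').injective
  haveI : IsArtinianRing T := IsArtinianRing.of_finite L T
  haveI : IsScalarTower B L T := inferInstance
  -- the integral closure of `B` in `T` is finite
  have hfin : (Subalgebra.toSubmodule (integralClosure B T)).FG := by
    let π : T →ₐ[B] (m : MaximalSpectrum T) → T ⧸ m.asIdeal :=
      Pi.algHom B _ fun m => Ideal.Quotient.mkₐ B m.asIdeal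
    have hπ : Function.Injective π := by
      rw [injective_iff_map_eq_zero]
      intro x hx
      have : x ∈ (⊥ : Ideal T).jacobson := by
        rw [Ideal.jacobson, Submodule.mem_sInf]
        rintro m ⟨-, hm⟩
        exact Ideal.Quotient.eq_zero_iff_mem.1 (congrFun hx ⟨m, hm⟩)
      rw [IsArtinianRing.jacobson_eq_radical, show (⊥ : Ideal T).radical = nilradical T from rfl, nilradical_eq_zero] at this
      simpa using this
    have hm : ∀ m : MaximalSpectrum T, Module.Finite B (integralClosure B (T ⧸ m.asIdeal)) := by
      intro m
      letI := Ideal.Quotient.field m.asIdeal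
      exact isN2_apply hB L (T ⧸ m.asIdeal)
    let Φ : integralClosure B T →ₗ[B] (m : MaximalSpectrum T) → integralClosure B (T ⧸ m.asIdeal) :=
      LinearMap.pi fun m =>
        (((Ideal.Quotient.mkₐ B m.asIdeal).comp (integralClosure B T).val).codRestrict _
          fun x => (x.2 : IsIntegral B (x : T)).map (Ideal.Quotient.mkₐ B m.asIdeal)).toLinearMap
    have hΦ : Function.Injective Φ := fun x y h => Subtype.ext (hπ (funext fun m =>
      congrArg Subtype.val (congrFun h m)))
    exact Module.Finite.iff_fg.1 (Module.Finite.of_injective Φ hΦ)
  haveI : Module.Finite B (integralClosure B T) := Module.Finite.iff_fg.2 hfin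
  -- `B ⊗ A'` embeds into it
  haveI : IsScalarTower A B T := IsScalarTower.of_algebraMap_eq fun a => by
    show algebraMap A L a ⊗ₜ[K] (1 : L') = algebraMap B L (algebraMap A B a) ⊗ₜ[K] 1
    rw [← IsScalarTower.algebraMap_apply A B L]
  have hA' : ∀ a : A, algebraMap A T a = (1 : L) ⊗ₜ[K] algebraMap A L' a := by
    intro a
    show algebraMap A L a ⊗ₜ[K] (1 : L') = _
    rw [IsScalarTower.algebraMap_apply A K L, IsScalarTower.algebraMap_apply A K L',
      Algebra.algebraMap_eq_smul_one, TensorProduct.smul_tmul, ← Algebra.algebraMap_eq_smul_one]
  let g : A' →ₐ[A] T :=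
    { ((Algebra.TensorProduct.includeRight : L' →ₐ[K] T).toRingHom.comp A'.val.toRingHom) with
      commutes' := fun a => (hA' a).symm }
  let ψ : B ⊗[A] A' →ₐ[B] T := Algebra.TensorProduct.lift (Algebra.ofId B T) g (fun _ _ => Commute.all _ _)
  have hψmem : ∀ z, ψ z ∈ integralClosure B T := by
    intro z
    induction z using TensorProduct.induction_on with
    | zero => rw [map_zero]; exact zero_mem _
    | add x y hx hy => rw [map_add]; exact add_mem hx hy
    | tmul b x =>
      simp only [ψ, Algebra.TensorProduct.lift_tmul]
      refine mul_mem (Subalgebra.algebraMap_mem _ b) ?_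
      exact IsIntegral.tower_top (((Algebra.IsIntegral.isIntegral (R := A) (x : A')).map g))
  have hψinj : Function.Injective ψ := by
    haveI := IsLocalization.tensorProduct_compatibleSMul (nonZeroDivisors A) K L L'
    haveI : Module.IsTorsionFree A L' := by
      rw [Module.isTorsionFree_iff_algebraMap_injective, IsScalarTower.algebraMap_eq A K L', RingHom.coe_comp]
      exact (algebraMap K L').injective.comp (IsFractionRing.injective A K)
    haveI : Module.Flat A L' := inferInstance
    let e := TensorProduct.equivOfCompatibleSMul (R := A) (A := K) (S := A) (M := L) (N := L')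
    have h1 : Function.Injective (A'.val.toLinearMap.lTensor B) :=
      Module.Flat.lTensor_preserves_injective_linearMap _ Subtype.val_injective
    have h2 : Function.Injective ((IsScalarTower.toAlgHom A B L).toLinearMap.rTensor L') :=
      Module.Flat.rTensor_preserves_injective_linearMap _ (IsFractionRing.injective B L)
    have hc : ∀ z, e (ψ z) = (IsScalarTower.toAlgHom A B L).toLinearMap.rTensor L' (A'.val.toLinearMap.lTensor B z) := by
      intro z
      induction z using TensorProduct.induction_on with
      | zero => simp
      | add x y hx hy => simp only [map_add, hx, hy]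
      | tmul b x =>
        have : ψ (b ⊗ₜ[A] x) = algebraMap B L b ⊗ₜ[K] (x : L') := by
          simp only [ψ, Algebra.TensorProduct.lift_tmul]
          show (algebraMap B L b ⊗ₜ[K] (1 : L')) * ((1 : L) ⊗ₜ[K] (x : L')) = _
          rw [Algebra.TensorProduct.tmul_mul_tmul, mul_one, one_mul]
        rw [this]
        rfl
    intro x y h
    exact h1 (h2 (by rw [← hc, ← hc, h]))
  haveI : Module.Finite B (B ⊗[A] A') :=
    Module.Finite.of_injective (ψ.toLinearMap.codRestrict (Subalgebra.toSubmodule (integralClosure B T)) hψmem)
      (fun x y h => hψinj (congrArg Subtype.val h))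
  exact Module.Finite.of_finite_tensorProduct_of_faithfullyFlat B

end Groth.Agent.CAlgH.NagataSeparable
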