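import Groth.Agent.CAlgH.CIFieldTensor
import Groth.Agent.CAlgH.RegularBase
import Groth.Agent.CommAlg6.FibreLocal

/-!
# Complete intersection fibres
-/

universe u

set_option autoImplicit false

open IsLocalRing TensorProduct

namespace Groth.Agent.CAlgH.CIFibre

attribute [local instance] CommAlg6.isLocalRing_fibLocRing

/-- Avramov's theorem with an auxiliary local ring for the fibre. -/
theorem avramov_of_equiv {A B F : Type u} [CommRing A] [CommRing B] [CommRing F] [IsNoetherianRing A]
    [IsNoetherianRing B] [IsLocalRing A] [IsLocalRing B] [IsLocalRing F] [Algebra A B]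
    [IsLocalHom (algebraMap A B)] [Module.Flat A B] [IsNoetherianRing F]
    (e : (B ⧸ (maximalIdeal A).map (algebraMap A B)) ≃+* F) :
    Pi1.IsCompleteIntersection B ↔ Pi1.IsCompleteIntersection A ∧ Pi1.IsCompleteIntersection F := by
  have : IsLocalRing (B ⧸ (maximalIdeal A).map (algebraMap A B)) := e.symm.isLocalRing
  rw [AvramovCI.avramov (A := A) (B := B), AvramovCI.isCompleteIntersection_iff_of_equiv e]

section Affine

variable {A B : Type u} [CommRing A] [CommRing B] [Algebra A B] [IsNoetherianRing A] [IsNoetherianRing B]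

/-- The local rings of a flat algebra in terms of base and fibre. -/
theorem isCompleteIntersection_localization_iff [Module.Flat A B] (q : Ideal B) [q.IsPrime] :
    Pi1.IsCompleteIntersection (Localization.AtPrime q) ↔
      Pi1.IsCompleteIntersection (Localization.AtPrime (q.comap (algebraMap A B))) ∧
        Pi1.IsCompleteIntersection (EGA4.FibLocRing A B q) := by
  let p := q.comap (algebraMap A B)
  have : q.LiesOver p := ⟨rfl⟩
  letI := Localization.AtPrime.algebraOfLiesOver p q
  have : IsNoetherianRing (Localization.AtPrime p) :=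
    IsLocalization.isNoetherianRing p.primeCompl _ inferInstance
  have : IsNoetherianRing (Localization.AtPrime q) :=
    IsLocalization.isNoetherianRing q.primeCompl _ inferInstance
  have : IsLocalHom (algebraMap (Localization.AtPrime p) (Localization.AtPrime q)) :=
    Localization.isLocalHom_localRingHom p q (algebraMap A B) Ideal.LiesOver.over
  refine avramov_of_equiv (Ideal.quotEquivOfEq ?_)
  rw [← Localization.AtPrime.map_eq_maximalIdeal, Ideal.map_map, ← IsScalarTower.algebraMap_eq]

omit [IsNoetherianRing A] in
/-- Fibres with complete intersection local rings. -/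
theorem forall_fiber_iff :
    (∀ (p : Ideal A) [p.IsPrime] (Q : Ideal (p.Fiber B)) [Q.IsPrime],
        Pi1.IsCompleteIntersection (Localization.AtPrime Q)) ↔
      ∀ (q : Ideal B) [q.IsPrime], Pi1.IsCompleteIntersection (EGA4.FibLocRing A B q) := by
  constructor
  · intro h q _
    obtain ⟨Q, _, ⟨e⟩⟩ := CommAlg6.exists_fiber_prime (A := A) q
    have : IsNoetherianRing (Localization.AtPrime Q) := isNoetherianRing_of_ringEquiv _ e.symm
    exact (AvramovCI.isCompleteIntersection_iff_of_equiv e).1 (h _ Q)
  · intro h p _ Q _
    obtain ⟨-, ⟨e⟩⟩ := CommAlg6.fiber_localization_equiv (A := A) p Q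
    have : IsNoetherianRing (Localization.AtPrime Q) := isNoetherianRing_of_ringEquiv _ e.symm
    exact (AvramovCI.isCompleteIntersection_iff_of_equiv e).2 (h _)

end Affine

/-- Complete intersection transfers along flat maps between quotients of the base. -/
theorem avramov_quotient {A B : Type u} [CommRing A] [CommRing B] [IsNoetherianRing A]
    [IsNoetherianRing B] [IsLocalRing A] [IsLocalRing B] [Algebra A B] [IsLocalHom (algebraMap A B)]
    [Module.Flat A B] (I : Ideal A) (hI : I ≠ ⊤)
    [IsLocalRing (B ⧸ (maximalIdeal A).map (algebraMap A B))]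
    [IsLocalRing (A ⧸ I)] [IsLocalRing (B ⧸ I.map (algebraMap A B))] :
    Pi1.IsCompleteIntersection (B ⧸ I.map (algebraMap A B)) ↔
      Pi1.IsCompleteIntersection (A ⧸ I) ∧
        Pi1.IsCompleteIntersection (B ⧸ (maximalIdeal A).map (algebraMap A B)) := by
  have : Module.Flat (A ⧸ I) (B ⧸ I.map (algebraMap A B)) :=
    Module.Flat.of_linearEquiv (Algebra.TensorProduct.quotIdealMapEquivQuotTensor B I).toLinearEquiv
  have hm : maximalIdeal (A ⧸ I) = (maximalIdeal A).map (Ideal.Quotient.mk I) :=
    (IsLocalRing.map_maximalIdeal_of_surjective _ Ideal.Quotient.mk_surjective).symm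
  have hmap : (maximalIdeal (A ⧸ I)).map (algebraMap (A ⧸ I) (B ⧸ I.map (algebraMap A B))) =
      ((maximalIdeal A).map (algebraMap A B)).map (Ideal.Quotient.mk _) := by
    rw [hm, Ideal.map_map, Ideal.map_map]
    rfl
  have : IsLocalHom (algebraMap (A ⧸ I) (B ⧸ I.map (algebraMap A B))) :=
    ((local_hom_TFAE _).out 0 2 rfl rfl).2 (by
      rw [hmap, ← IsLocalRing.map_maximalIdeal_of_surjective (Ideal.Quotient.mk (I.map (algebraMap A B)))
        Ideal.Quotient.mk_surjective]
      exact Ideal.map_mono (IsLocalRing.map_maximalIdeal_le _))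
  exact avramov_of_equiv ((Ideal.quotEquivOfEq hmap).trans ((DoubleQuot.quotQuotEquivQuotSup _ _).trans
    (Ideal.quotEquivOfEq (sup_eq_right.2 (Ideal.map_mono (le_maximalIdeal hI))))))

/-- Complete intersection fibres compose with regular maps. -/
theorem completeIntersection_fibres_comp (A B C : Type u) [CommRing A] [CommRing B] [CommRing C]
    [IsNoetherianRing B] [IsNoetherianRing C] [Algebra A B] [Algebra B C] [Algebra A C] [IsScalarTower A B C]
    [Module.Flat B C]
    (hAB : ∀ (q : Ideal A) [q.IsPrime] (P : Ideal (q.Fiber B)) [P.IsPrime],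
      Pi1.IsCompleteIntersection (Localization.AtPrime P))
    (hBC : CAlg.IsRegularHom B C) (q : Ideal A) [q.IsPrime] (P : Ideal (q.Fiber C)) [P.IsPrime] :
    Pi1.IsCompleteIntersection (Localization.AtPrime P) := by
  revert q P
  rw [forall_fiber_iff]
  intro Q _
  let q' := Q.comap (algebraMap B C)
  have : Q.LiesOver q' := ⟨rfl⟩
  have hq : q'.comap (algebraMap A B) = Q.comap (algebraMap A C) := by
    rw [Ideal.comap_comap, ← IsScalarTower.algebraMap_eq]
  letI := Localization.AtPrime.algebraOfLiesOver q' Q
  let B' := Localization.AtPrime q'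
  let C' := Localization.AtPrime Q
  have : IsNoetherianRing B' := IsLocalization.isNoetherianRing q'.primeCompl _ inferInstance
  have : IsNoetherianRing C' := IsLocalization.isNoetherianRing Q.primeCompl _ inferInstance
  have : IsLocalHom (algebraMap B' C') :=
    Localization.isLocalHom_localRingHom q' Q (algebraMap B C) Ideal.LiesOver.over
  have hmB : (maximalIdeal B').map (algebraMap B' C') = q'.map (algebraMap B C') := by
    rw [← Localization.AtPrime.map_eq_maximalIdeal, Ideal.map_map, ← IsScalarTower.algebraMap_eq]
  let e₁ : (C' ⧸ (maximalIdeal B').map (algebraMap B' C')) ≃+* EGA4.FibLocRing B C Q :=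
    Ideal.quotEquivOfEq hmB
  have : IsLocalRing (C' ⧸ (maximalIdeal B').map (algebraMap B' C')) := e₁.symm.isLocalRing
  obtain ⟨P', _, ⟨e₂⟩⟩ := CommAlg6.exists_fiber_prime (A := B) Q
  have : IsRegularRing ((Q.comap (algebraMap B C)).Fiber C) :=
    isRegularRing_field_tensor hBC (Q.comap (algebraMap B C)).ResidueField
  have : IsRegularLocalRing (C' ⧸ (maximalIdeal B').map (algebraMap B' C')) :=
    haveI : IsRegularLocalRing (Localization.AtPrime P') := IsRegularRing.isRegularLocalRing_localization P'
    IsRegularLocalRing.of_ringEquiv (R := Localization.AtPrime P') (e₂.trans e₁.symm)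
  let I : Ideal B' := (q'.comap (algebraMap A B)).map (algebraMap A B')
  have hI : I ≠ ⊤ := Ideal.Quotient.nontrivial_iff.1 (inferInstance : Nontrivial (EGA4.FibLocRing A B q'))
  have hIC : I.map (algebraMap B' C') = (Q.comap (algebraMap A C)).map (algebraMap A C') := by
    rw [Ideal.map_map, hq]
    congr 1
    rw [IsScalarTower.algebraMap_eq A B B', ← RingHom.comp_assoc, ← IsScalarTower.algebraMap_eq,
      IsScalarTower.algebraMap_eq A C C', IsScalarTower.algebraMap_eq A B C, ← RingHom.comp_assoc,
      ← IsScalarTower.algebraMap_eq B C C']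
  let e₃ : (C' ⧸ I.map (algebraMap B' C')) ≃+* EGA4.FibLocRing A C Q := Ideal.quotEquivOfEq hIC
  have : IsLocalRing (C' ⧸ I.map (algebraMap B' C')) := e₃.symm.isLocalRing
  have : IsLocalRing (B' ⧸ I) := CommAlg6.isLocalRing_fibLocRing q'
  rw [← AvramovCI.isCompleteIntersection_iff_of_equiv e₃, avramov_quotient I hI]
  exact ⟨forall_fiber_iff.1 hAB q', CIHom.isCompleteIntersection_of_regularLocal⟩

theorem forall_localization_of_equiv {X Y : Type u} [CommRing X] [CommRing Y] (e : X ≃+* Y)
    [IsNoetherianRing X]
    (h : ∀ (q : Ideal X) [q.IsPrime], Pi1.IsCompleteIntersection (Localization.AtPrime q))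
    (q : Ideal Y) [q.IsPrime] : Pi1.IsCompleteIntersection (Localization.AtPrime q) := by
  have : IsNoetherianRing Y := isNoetherianRing_of_ringEquiv X e
  have : IsNoetherianRing (Localization.AtPrime q) :=
    IsLocalization.isNoetherianRing q.primeCompl _ inferInstance
  have : IsNoetherianRing (Localization.AtPrime (q.comap e)) :=
    IsLocalization.isNoetherianRing (q.comap e).primeCompl _ inferInstance
  let f := IsLocalization.ringEquivOfRingEquiv (Localization.AtPrime (q.comap e)) (Localization.AtPrime q) e
    (e.map_primeCompl_comap_eq q)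
  exact (AvramovCI.isCompleteIntersection_iff_of_equiv f).1 (h _)

/-- Tensor products with finitely generated fields preserve complete intersections. -/
theorem baseChange_fgField (k K R : Type u) [Field k] [Field K] [Algebra k K] [Algebra.EssFiniteType k K]
    [CommRing R] [Algebra k R] [IsNoetherianRing R]
    (hR : ∀ (p : Ideal R) [p.IsPrime], Pi1.IsCompleteIntersection (Localization.AtPrime p)) :
    IsNoetherianRing (K ⊗[k] R) ∧
      ∀ (P : Ideal (K ⊗[k] R)) [P.IsPrime], Pi1.IsCompleteIntersection (Localization.AtPrime P) := by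
  have : IsNoetherianRing (R ⊗[k] K) := Algebra.EssFiniteType.isNoetherianRing R (R ⊗[k] K)
  let ec := (Algebra.TensorProduct.comm k R K).toRingEquiv
  refine ⟨isNoetherianRing_of_ringEquiv _ ec, fun P _ => forall_localization_of_equiv ec (fun q _ => ?_) P⟩
  rw [isCompleteIntersection_localization_iff (A := R) q]
  refine ⟨hR _, ?_⟩
  refine forall_fiber_iff.1 (fun p _ Q _ => ?_) q
  have : IsNoetherianRing (K ⊗[k] p.ResidueField) := by
    have : IsNoetherianRing (p.ResidueField ⊗[k] K) :=
      Algebra.EssFiniteType.isNoetherianRing p.ResidueField (p.ResidueField ⊗[k] K)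
    exact isNoetherianRing_of_ringEquiv _ (Algebra.TensorProduct.comm k p.ResidueField K).toRingEquiv
  exact forall_localization_of_equiv
    ((Algebra.TensorProduct.comm k K p.ResidueField).toRingEquiv.trans
      (Algebra.TensorProduct.cancelBaseChange k R p.ResidueField p.ResidueField K).symm.toRingEquiv)
    (fun q' _ => (CIFieldTensor.isCompleteIntersection_localization_field_tensor k K p.ResidueField q').2) Q

end Groth.Agent.CAlgH.CIFibre
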