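import Groth.Prelude.Def_CInt
import Groth.Agent.CAlgH.CIFibre
import Groth.Agent.Props12.Stalks
import Mathlib.AlgebraicGeometry.Morphisms.FiniteType
import Mathlib.RingTheory.EssentialFiniteness

/-!
# Complete intersection morphisms: stalk-level criteria
-/

universe u

set_option autoImplicit false
set_option backward.isDefEq.respectTransparency false

open CategoryTheory CategoryTheory.Limits AlgebraicGeometry IsLocalRing

namespace Groth.Agent.CAlgH.CIScheme

variable {X S : Scheme.{u}}

theorem fiberι_stalk_equiv (f : X ⟶ S) (s : S) (w : ↥(f.fiber s)) :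
    Nonempty ((↥(X.presheaf.stalk (f.fiberι s w)) ⧸
      (maximalIdeal (S.presheaf.stalk (f (f.fiberι s w)))).map (f.stalkMap (f.fiberι s w)).hom) ≃+*
        (f.fiber s).presheaf.stalk w) := by
  obtain ⟨hs, hker⟩ := Props12.stalkMap_fiberι f s w
  exact ⟨(Ideal.quotEquivOfEq hker.symm).trans (RingHom.quotientKerEquivOfSurjective hs)⟩

/-- The local ring of the fibre through `x`. -/
theorem fiberStalk_equiv (f : X ⟶ S) (x : X) :
    Nonempty ((↥(X.presheaf.stalk x) ⧸ (maximalIdeal (S.presheaf.stalk (f x))).map (f.stalkMap x).hom) ≃+*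
      CInt.fiberStalk f x) := by
  have h := fiberι_stalk_equiv f (f x) (f.asFiber x)
  have : ∀ a : X, a = x → Nonempty
      ((↥(X.presheaf.stalk a) ⧸ (maximalIdeal (S.presheaf.stalk (f a))).map (f.stalkMap a).hom) ≃+*
        CInt.fiberStalk f x) → Nonempty
      ((↥(X.presheaf.stalk x) ⧸ (maximalIdeal (S.presheaf.stalk (f x))).map (f.stalkMap x).hom) ≃+*
        CInt.fiberStalk f x) := by rintro a rfl h; exact h
  exact this _ (f.fiberι_asFiber x) h

theorem isNoetherianRing_stalk (f : X ⟶ S) [LocallyOfFiniteType f] (x : X)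
    [IsNoetherianRing (S.presheaf.stalk (f x))] : IsNoetherianRing (X.presheaf.stalk x) := by
  letI := (f.stalkMap x).hom.toAlgebra
  have : Algebra.EssFiniteType (S.presheaf.stalk (f x)) (X.presheaf.stalk x) :=
    LocallyOfFiniteType.stalkMap f x
  exact Algebra.EssFiniteType.isNoetherianRing (S.presheaf.stalk (f x)) _

theorem isNoetherianRing_fiberStalk (f : X ⟶ S) [LocallyOfFiniteType f] (x : X) :
    IsNoetherianRing (CInt.fiberStalk f x) := by
  have : LocallyOfFiniteType (f.fiberToSpecResidueField (f.base x)) :=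
    MorphismProperty.pullback_snd _ _ ‹_›
  exact isNoetherianRing_stalk (f.fiberToSpecResidueField (f.base x)) (f.asFiber x)

/-- Avramov's theorem for flat morphisms of schemes. -/
theorem isCompleteIntersection_stalk_iff (f : X ⟶ S) [Flat f] [LocallyOfFiniteType f] (x : X)
    [IsNoetherianRing (S.presheaf.stalk (f x))] :
    Pi1.IsCompleteIntersection (X.presheaf.stalk x) ↔
      Pi1.IsCompleteIntersection (S.presheaf.stalk (f x)) ∧
        Pi1.IsCompleteIntersection (CInt.fiberStalk f x) := by
  letI := (f.stalkMap x).hom.toAlgebra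
  have : Module.Flat (S.presheaf.stalk (f x)) (X.presheaf.stalk x) := Flat.stalkMap f x
  have : IsLocalHom (algebraMap (S.presheaf.stalk (f x)) (X.presheaf.stalk x)) :=
    inferInstanceAs (IsLocalHom (f.stalkMap x).hom)
  have := isNoetherianRing_stalk f x
  have := isNoetherianRing_fiberStalk f x
  obtain ⟨e⟩ := fiberStalk_equiv f x
  exact CIFibre.avramov_of_equiv e

end Groth.Agent.CAlgH.CIScheme
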