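import Groth.Agent.CAlgH.CIHom
import Groth.Agent.CAlgH.CILocalization
import Mathlib.RingTheory.RegularLocalRing.Polynomial
import Mathlib.RingTheory.EssentialFiniteness
import Mathlib.RingTheory.Localization.BaseChange

/-!
# Tensor products of fields are complete intersections
-/

universe u

set_option autoImplicit false

open IsLocalRing TensorProduct

namespace Groth.Agent.CAlgH.CIFieldTensor

theorem exists_field_presentation (k K : Type u) [Field k] [Field K] [Algebra k K] [Algebra.EssFiniteType k K] :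
    ∃ (n : ℕ) (h : MvPolynomial (Fin n) k →ₐ[k] K),
      ∀ x : K, ∃ a b, h b ≠ 0 ∧ x * h b = h a := by
  let S := Algebra.EssFiniteType.subalgebra k K
  obtain ⟨n, π, hπ⟩ := Algebra.FiniteType.iff_quotient_mvPolynomial''.1
    (inferInstance : Algebra.FiniteType k S)
  refine ⟨n, (IsScalarTower.toAlgHom k S K).comp π, fun x => ?_⟩
  obtain ⟨⟨s, t⟩, hst⟩ := IsLocalization.surj (Algebra.EssFiniteType.submonoid k K) x
  obtain ⟨a, ha⟩ := hπ s
  obtain ⟨b, hb⟩ := hπ t
  refine ⟨a, b, ?_, ?_⟩
  · show algebraMap S K (π b) ≠ 0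
    rw [hb]
    exact (IsLocalization.map_units K t).ne_zero
  · show x * algebraMap S K (π b) = algebraMap S K (π a)
    rw [ha, hb]
    exact hst

/-- Maps extend to a field of fractions. -/
theorem exists_fieldHom {k K E P : Type u} [CommRing k] [Field K] [CommRing E] [CommRing P] [Algebra k K]
    [Algebra k E] [Algebra k P] (h : P →ₐ[k] K) (hh : ∀ x : K, ∃ a b, h b ≠ 0 ∧ x * h b = h a)
    (g : P →ₐ[k] E) (h0 : ∀ f, h f = 0 → g f = 0) (hu : ∀ f, h f ≠ 0 → IsUnit (g f)) :
    ∃ s : K →ₐ[k] E, ∀ f, s (h f) = g f := by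
  choose num den hden hfr using hh
  let u : K → E := fun x => g (num x) * ↑(hu _ (hden x)).unit⁻¹
  have hspec : ∀ (x : K) (a b : P), h b ≠ 0 → x * h b = h a → u x * g b = g a := by
    intro x a b hb hab
    have h1 := h0 (num x * b - a * den x) (by rw [map_sub, map_mul, map_mul, ← hfr, ← hab]; ring)
    simp only [map_sub, map_mul, sub_eq_zero] at h1
    refine (hu _ (hden x)).mul_left_inj.1 ?_
    rw [← h1]
    simp only [u]
    rw [mul_right_comm, mul_assoc (g (num x)), IsUnit.val_inv_mul, mul_one]
  have huniq : ∀ (x : K) (a b : P) (w : E), h b ≠ 0 → x * h b = h a → w * g b = g a → u x = w :=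
    fun x a b w hb hab hw => (hu b hb).mul_left_inj.1 ((hspec x a b hb hab).trans hw.symm)
  refine ⟨{ toFun := u
            map_one' := huniq 1 1 1 1 (by simp) (by simp) (by simp)
            map_zero' := huniq 0 0 1 0 (by simp) (by simp) (by simp)
            map_mul' := fun x y => huniq (x * y) (num x * num y) (den x * den y) (u x * u y)
              (by rw [map_mul]; exact mul_ne_zero (hden x) (hden y))
              (by rw [map_mul, map_mul, ← hfr, ← hfr]; ring)
              (by simp only [map_mul, ← hspec x _ _ (hden x) (hfr x), ← hspec y _ _ (hden y) (hfr y)]; ring)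
            map_add' := fun x y => huniq (x + y) (num x * den y + num y * den x) (den x * den y) (u x + u y)
              (by rw [map_mul]; exact mul_ne_zero (hden x) (hden y))
              (by rw [map_add, map_mul, map_mul, map_mul, ← hfr, ← hfr]; ring)
              (by simp only [map_mul, map_add, ← hspec x _ _ (hden x) (hfr x), ← hspec y _ _ (hden y) (hfr y)]; ring)
            commutes' := fun c => huniq _ (algebraMap k P c) 1 _ (by simp) (by simp) (by simp) },
    fun f => huniq (h f) f 1 (g f) (by simp) (by simp) (by simp)⟩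

section Fractions

variable {P T : Type u} [CommRing P] [CommRing T] (θ : P →+* T) (q : Ideal T) [q.IsPrime]

/-- If `T` consists of fractions of `θ`, the local map is surjective. -/
theorem surjective_localRingHom (hgen : ∀ y : T, ∃ a b, θ b ∉ q ∧ y * θ b = θ a) :
    Function.Surjective (Localization.localRingHom (q.comap θ) q θ rfl) := by
  intro c
  obtain ⟨y, t, rfl⟩ := IsLocalization.exists_mk'_eq q.primeCompl c
  obtain ⟨a, b, hb, hab⟩ := hgen y
  obtain ⟨a', b', hb', hab'⟩ := hgen t
  have ha' : θ a' ∉ q := fun h => ((inferInstance : q.IsPrime).mem_or_mem (hab' ▸ h)).elim t.2 hb'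
  refine ⟨IsLocalization.mk' _ (a * b') (⟨b * a', fun h =>
    ((inferInstance : q.IsPrime).mem_or_mem (show θ b * θ a' ∈ q from map_mul θ b a' ▸ h)).elim hb ha'⟩ :
      (q.comap θ).primeCompl), ?_⟩
  rw [Localization.localRingHom_mk', IsLocalization.mk'_eq_iff_eq]
  congr 1
  simp only [map_mul, ← hab, ← hab']
  ring

/-- The kernel of the local map comes from the kernel of `θ`. -/
theorem ker_localRingHom_le (hgen : ∀ y : T, ∃ a b, θ b ∉ q ∧ y * θ b = θ a) :
    RingHom.ker (Localization.localRingHom (q.comap θ) q θ rfl) ≤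
      (RingHom.ker θ).map (algebraMap P (Localization.AtPrime (q.comap θ))) := by
  intro z hz
  obtain ⟨a, b, rfl⟩ := IsLocalization.exists_mk'_eq (q.comap θ).primeCompl z
  rw [RingHom.mem_ker, Localization.localRingHom_mk', IsLocalization.mk'_eq_zero_iff] at hz
  obtain ⟨c, hc⟩ := hz
  obtain ⟨a', b', hb', hab'⟩ := hgen c
  have ha' : θ a' ∉ q := fun h => ((inferInstance : q.IsPrime).mem_or_mem (hab' ▸ h)).elim c.2 hb'
  rw [IsLocalization.mk'_mem_map_algebraMap_iff (q.comap θ).primeCompl]
  exact ⟨a', ha', by rw [RingHom.mem_ker, map_mul, ← hab', mul_right_comm, hc, zero_mul]⟩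

end Fractions

/-- Local rings of `K ⊗ L` are complete intersections for `K` finitely generated. -/
theorem isCompleteIntersection_localization_field_tensor (k K L : Type u) [Field k] [Field K] [Field L]
    [Algebra k K] [Algebra k L] [Algebra.EssFiniteType k K] (q : Ideal (K ⊗[k] L)) [q.IsPrime] :
    IsNoetherianRing (Localization.AtPrime q) ∧ Pi1.IsCompleteIntersection (Localization.AtPrime q) := by
  obtain ⟨n, h, hh⟩ := exists_field_presentation k K
  let P := MvPolynomial (Fin n) k
  let P' := MvPolynomial (Fin n) L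
  letI : Algebra P P' := MvPolynomial.algebraMvPolynomial
  let θ : P' →+* K ⊗[k] L := MvPolynomial.eval₂Hom
    (Algebra.TensorProduct.includeRight : L →ₐ[k] K ⊗[k] L).toRingHom fun i => h (MvPolynomial.X i) ⊗ₜ 1
  have hθι : ∀ f : P, θ (algebraMap P P' f) = h f ⊗ₜ 1 := by
    intro f
    refine DFunLike.congr_fun (MvPolynomial.ringHom_ext (f := θ.comp (algebraMap P P'))
      (g := (Algebra.TensorProduct.includeLeftRingHom : K →+* K ⊗[k] L).comp h.toRingHom) (fun c => ?_) (fun i => ?_)) f
    · show θ (MvPolynomial.map _ (MvPolynomial.C c)) = h (MvPolynomial.C c) ⊗ₜ 1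
      rw [MvPolynomial.map_C, MvPolynomial.eval₂Hom_C, ← MvPolynomial.algebraMap_eq, h.commutes]
      show (1 : K) ⊗ₜ[k] algebraMap k L c = _
      rw [Algebra.algebraMap_eq_smul_one, ← smul_tmul, ← Algebra.algebraMap_eq_smul_one]
    · show θ (MvPolynomial.map _ (MvPolynomial.X i)) = _
      rw [MvPolynomial.map_X, MvPolynomial.eval₂Hom_X']
      rfl
  have hθC : ∀ l : L, θ (MvPolynomial.C l) = (1 : K) ⊗ₜ[k] l := fun l => MvPolynomial.eval₂Hom_C _ _ _
  have hnq : ∀ b : P, h b ≠ 0 → θ (algebraMap P P' b) ∉ q := fun b hb hmem => by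
    rw [hθι] at hmem
    exact (inferInstance : q.IsPrime).ne_top (Ideal.eq_top_of_isUnit_mem _ hmem
      ((isUnit_iff_ne_zero.2 hb).map (Algebra.TensorProduct.includeLeftRingHom : K →+* K ⊗[k] L)))
  have hgen : ∀ y : K ⊗[k] L, ∃ a b, θ b ∉ q ∧ y * θ b = θ a := fun y => by
    induction y using TensorProduct.induction_on with
    | zero => exact ⟨0, 1, by rw [map_one]; exact (inferInstance : q.IsPrime).one_notMem, by simp⟩
    | add u v hu hv =>
      obtain ⟨a, b, hb, hab⟩ := hu
      obtain ⟨a', b', hb', hab'⟩ := hv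
      exact ⟨a * b' + a' * b, b * b', by rw [map_mul]; exact (inferInstance : q.IsPrime).mul_notMem hb hb',
        by simp only [map_add, map_mul, ← hab, ← hab']; ring⟩
    | tmul x l =>
      obtain ⟨a, b, hb, hab⟩ := hh x
      refine ⟨algebraMap P P' a * MvPolynomial.C l, algebraMap P P' b, hnq b hb, ?_⟩
      rw [map_mul, hθι, hθι, hθC, Algebra.TensorProduct.tmul_mul_tmul, Algebra.TensorProduct.tmul_mul_tmul,
        mul_one, mul_one, one_mul, hab]
  let Q₀ : Ideal P := RingHom.ker h
  have : Q₀.IsPrime := RingHom.ker_isPrime _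
  let Q : Ideal P' := q.comap θ
  have hQ : Q.comap (algebraMap P P') = Q₀ := by
    ext f
    refine ⟨fun hf => by_contra fun hne => hnq f hne hf, fun hf => ?_⟩
    show θ (algebraMap P P' f) ∈ q
    rw [hθι, show h f = 0 from hf, zero_tmul]
    exact q.zero_mem
  have : Q.LiesOver Q₀ := ⟨hQ.symm⟩
  letI := Localization.AtPrime.algebraOfLiesOver Q₀ Q
  have hflat : Module.Flat P P' :=
    Module.Flat.of_linearEquiv (Algebra.IsPushout.equiv k P L P').toLinearEquiv.symm
  let R₀ := Localization.AtPrime Q₀
  let R' := Localization.AtPrime Q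
  have : IsRegularRing P := inferInstance
  have : IsRegularRing P' := inferInstance
  have : IsRegularLocalRing R₀ := IsRegularRing.isRegularLocalRing_localization Q₀
  have : IsRegularLocalRing R' := IsRegularRing.isRegularLocalRing_localization Q
  have : IsLocalHom (algebraMap R₀ R') :=
    Localization.isLocalHom_localRingHom Q₀ Q (algebraMap P P') Ideal.LiesOver.over
  let φ : R' →+* Localization.AtPrime q := Localization.localRingHom Q q θ rfl
  have hφs : Function.Surjective φ := surjective_localRingHom θ q hgen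
  have : IsNoetherianRing (Localization.AtPrime q) := isNoetherianRing_of_surjective R' _ φ hφs
  refine ⟨inferInstance, ?_⟩
  let J : Ideal R' := (maximalIdeal R₀).map (algebraMap R₀ R')
  have hJ : J = Q₀.map (algebraMap P R') := by
    show Ideal.map _ _ = _
    rw [← Localization.AtPrime.map_eq_maximalIdeal, Ideal.map_map, ← IsScalarTower.algebraMap_eq]
  have : IsScalarTower k P R' := inferInstance
  let g : P →ₐ[k] R' ⧸ J :=
    (Ideal.Quotient.mkₐ k J).comp (IsScalarTower.toAlgHom k P R')
  have hg0 : ∀ f : P, h f = 0 → g f = 0 := fun f hf => by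
    show Ideal.Quotient.mk J (algebraMap P R' f) = 0
    rw [Ideal.Quotient.eq_zero_iff_mem, hJ]
    exact Ideal.mem_map_of_mem _ hf
  obtain ⟨sK, hsK⟩ := exists_fieldHom (P := MvPolynomial (Fin n) k) (E := R' ⧸ J) h hh (g : MvPolynomial (Fin n) k →ₐ[k] R' ⧸ J) hg0 (fun f hf => by
      show IsUnit (Ideal.Quotient.mk J (algebraMap P R' f))
      refine IsUnit.map (Ideal.Quotient.mk J) (?_ : IsUnit (algebraMap P R' f))
      rw [IsScalarTower.algebraMap_apply P P' R']
      exact IsLocalization.map_units R' (⟨_, fun hmem => hnq f hf hmem⟩ : Q.primeCompl))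
  let sL : L →ₐ[k] R' ⧸ J :=
    (Ideal.Quotient.mkₐ k J).comp
      ((IsScalarTower.toAlgHom k P' R').comp ((IsScalarTower.toAlgHom k L P')))
  let τ₀ : K ⊗[k] L →+* R' ⧸ J := (Algebra.TensorProduct.lift sK sL fun x y => mul_comm (sK x) (sL y)).toRingHom
  have hτθ : τ₀.comp θ = (Ideal.Quotient.mk J).comp (algebraMap P' R') := by
    refine MvPolynomial.ringHom_ext (fun l => ?_) fun i => ?_
    · show τ₀ (θ (MvPolynomial.C l)) = _
      rw [hθC]
      show sK 1 * sL l = _
      rw [map_one, one_mul]
      rfl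
    · show τ₀ (θ (MvPolynomial.X i)) = _
      rw [MvPolynomial.eval₂Hom_X']
      show sK (h (MvPolynomial.X i)) * sL 1 = _
      rw [map_one, mul_one, hsK]
      show Ideal.Quotient.mk J (algebraMap P R' (MvPolynomial.X i)) = _
      rw [IsScalarTower.algebraMap_apply P P' R']
      exact congrArg (fun x => Ideal.Quotient.mk J (algebraMap P' R' x)) (MvPolynomial.map_X _ _)
  have hker : RingHom.ker φ = J := by
    refine le_antisymm ((ker_localRingHom_le θ q hgen).trans (Ideal.map_le_iff_le_comap.2 fun x hx => ?_)) ?_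
    · rw [Ideal.mem_comap, ← Ideal.Quotient.eq_zero_iff_mem]
      show ((Ideal.Quotient.mk J).comp (algebraMap P' R')) x = 0
      rw [← hτθ, RingHom.comp_apply, show θ x = 0 from hx, map_zero]
    · rw [hJ, Ideal.map_le_iff_le_comap]
      intro f hf
      show φ (algebraMap P R' f) = 0
      rw [IsScalarTower.algebraMap_apply P P' R', Localization.localRingHom_to_map, hθι,
        show h f = 0 from hf, zero_tmul, map_zero]
  rw [CIPresentation.isCompleteIntersection_iff φ hφs, hker]
  obtain ⟨rs, -, hrs, hreg⟩ := CAlgH3.exists_isRegular_ofList_eq_maximalIdeal (R := R₀)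
  exact CIPresentation.isRegularIdeal_map_of_flat ⟨rs, hreg, hrs⟩

end Groth.Agent.CAlgH.CIFieldTensor
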