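import Groth.Agent.CAlgH.CIScheme
import Groth.Agent.CAlgH.CIFieldTensor
import Mathlib.AlgebraicGeometry.Pullbacks
import Mathlib.AlgebraicGeometry.PullbackCarrier

/-!
# Complete intersection fibres and field extensions
-/

universe u

set_option autoImplicit false
set_option backward.isDefEq.respectTransparency false

open CategoryTheory CategoryTheory.Limits AlgebraicGeometry IsLocalRing TensorProduct

namespace Groth.Agent.CAlgH.CIBaseChange

theorem ci_stalk_of_iso {Z W : Scheme.{u}} (e : Z ≅ W) (z : Z)
    [IsNoetherianRing (W.presheaf.stalk (e.hom z))]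
    (h : Pi1.IsCompleteIntersection (W.presheaf.stalk (e.hom z))) :
    IsNoetherianRing (Z.presheaf.stalk z) ∧ Pi1.IsCompleteIntersection (Z.presheaf.stalk z) := by
  have hn := isNoetherianRing_of_ringEquiv _ (asIso (e.hom.stalkMap z)).commRingCatIsoToRingEquiv
  exact ⟨hn, (AvramovCI.isCompleteIntersection_iff_of_equiv
    (asIso (e.hom.stalkMap z)).commRingCatIsoToRingEquiv).1 h⟩

theorem ci_stalk_Spec {R : Type u} [CommRing R]
    (h : ∀ (q : Ideal R) [q.IsPrime], IsNoetherianRing (Localization.AtPrime q) ∧
      Pi1.IsCompleteIntersection (Localization.AtPrime q))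
    (z : ↥(Spec (CommRingCat.of R))) :
    IsNoetherianRing ((Spec (CommRingCat.of R)).presheaf.stalk z) ∧
      Pi1.IsCompleteIntersection ((Spec (CommRingCat.of R)).presheaf.stalk z) := by
  let e : ((Spec (CommRingCat.of R)).presheaf.stalk z) ≃+*
      Localization.AtPrime (PrimeSpectrum.asIdeal (R := R) z) :=
    (IsLocalization.algEquiv (PrimeSpectrum.asIdeal (R := R) z).primeCompl
      ((Spec.structureSheaf R).presheaf.stalk z) _).toRingEquiv
  have := (h (PrimeSpectrum.asIdeal (R := R) z)).1
  have := isNoetherianRing_of_ringEquiv _ e.symm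
  exact ⟨this, (AvramovCI.isCompleteIntersection_iff_of_equiv e).2 (h _).2⟩

theorem preimage_fromSpecStalk_essFiniteType (A : CommRingCat.{u}) (y : ↥(Spec A)) :
    (Spec.preimage ((Spec A).fromSpecStalk y)).hom.EssFiniteType := by
  rw [show Spec.preimage ((Spec A).fromSpecStalk y) = StructureSheaf.toStalk A y from
    Spec.map_injective ((Spec.map_preimage _).trans (Spec.fromSpecStalk_eq' A y))]
  exact Algebra.EssFiniteType.of_isLocalization (R := A)
    ((Spec.structureSheaf A).presheaf.stalk y) (PrimeSpectrum.asIdeal (R := A) y).primeCompl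

theorem residueField_essFiniteType {A : CommRingCat.{u}} {X : Scheme.{u}} (f : X ⟶ Spec A)
    [LocallyOfFiniteType f] (x : X) :
    (Spec.preimage (X.fromSpecResidueField x ≫ f)).hom.EssFiniteType := by
  have hψ : Spec.map ((Spec.preimage ((Spec A).fromSpecStalk (f x)) ≫ f.stalkMap x) ≫ X.residue x) =
      X.fromSpecResidueField x ≫ f := by
    rw [Spec.map_comp, Spec.map_comp, Spec.map_preimage, Scheme.SpecMap_stalkMap_fromSpecStalk,
      Scheme.fromSpecResidueField, Category.assoc]
  rw [show Spec.preimage (X.fromSpecResidueField x ≫ f) =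
    (Spec.preimage ((Spec A).fromSpecStalk (f x)) ≫ f.stalkMap x) ≫ X.residue x from
    Spec.map_injective ((Spec.map_preimage _).trans hψ.symm), CommRingCat.hom_comp, CommRingCat.hom_comp]
  exact RingHom.EssFiniteType.stableUnderComposition _ _
    (RingHom.EssFiniteType.stableUnderComposition _ _ (preimage_fromSpecStalk_essFiniteType A (f x))
      (LocallyOfFiniteType.stalkMap f x))
    (RingHom.FiniteType.of_surjective _ (Scheme.residue_surjective X x)).essFiniteType

/-- The fibres of the projection from a field extension are complete intersections. -/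
theorem isCompleteIntersection_fiberStalk_fst {k k' : Type u} [Field k] [Field k'] [Algebra k k']
    {X : Scheme.{u}} (f : X ⟶ Spec (CommRingCat.of k)) [LocallyOfFiniteType f]
    (x' : ↥(pullback f (Spec.map (CommRingCat.ofHom (algebraMap k k'))))) :
    Pi1.IsCompleteIntersection
      (CInt.fiberStalk (pullback.fst f (Spec.map (CommRingCat.ofHom (algebraMap k k')))) x') := by
  let p := pullback.fst f (Spec.map (CommRingCat.ofHom (algebraMap k k')))
  let x : X := p x'
  let φ : CommRingCat.of k ⟶ X.residueField x := Spec.preimage (X.fromSpecResidueField x ≫ f)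
  letI : Algebra k (X.residueField x) := φ.hom.toAlgebra
  have : Algebra.EssFiniteType k (X.residueField x) := residueField_essFiniteType f x
  have hφ : Spec.map (CommRingCat.ofHom (algebraMap k (X.residueField x))) = X.fromSpecResidueField x ≫ f :=
    Spec.map_preimage _
  let e : p.fiber x ≅ Spec (CommRingCat.of ((X.residueField x) ⊗[k] k')) :=
    pullbackSymmetry _ _ ≪≫ pullbackRightPullbackFstIso f _ (X.fromSpecResidueField x) ≪≫
      pullback.congrHom hφ.symm rfl ≪≫ pullbackSpecIso k (X.residueField x) k'
  obtain ⟨hn, hci⟩ := ci_stalk_Spec (fun q _ =>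
    CIFieldTensor.isCompleteIntersection_localization_field_tensor k (X.residueField x) k' q)
      (e.hom (p.asFiber x'))
  exact (ci_stalk_of_iso e (p.asFiber x') hci).2

/-- Complete intersection local rings and field extensions. -/
theorem isCompleteIntersection_iff {k k' : Type u} [Field k] [Field k'] [Algebra k k']
    {X : Scheme.{u}} (f : X ⟶ Spec (CommRingCat.of k)) [LocallyOfFiniteType f]
    (x' : ↥(pullback f (Spec.map (CommRingCat.ofHom (algebraMap k k'))))) :
    Pi1.IsCompleteIntersection (X.presheaf.stalk
        ((pullback.fst f (Spec.map (CommRingCat.ofHom (algebraMap k k')))).base x')) ↔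
      Pi1.IsCompleteIntersection
        ((pullback f (Spec.map (CommRingCat.ofHom (algebraMap k k')))).presheaf.stalk x') := by
  let p := pullback.fst f (Spec.map (CommRingCat.ofHom (algebraMap k k')))
  have := CIScheme.isNoetherianRing_stalk f (p x')
  have : Flat (Spec.map (CommRingCat.ofHom (algebraMap k k'))) := by
    rw [Flat.SpecMap_iff]
    exact (RingHom.flat_algebraMap_iff).2 inferInstance
  have : Flat p := MorphismProperty.pullback_fst _ _ this
  have : LocallyOfFiniteType (pullback.snd f (Spec.map (CommRingCat.ofHom (algebraMap k k')))) :=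
    MorphismProperty.pullback_snd _ _ ‹_›
  have := CIScheme.isNoetherianRing_stalk (pullback.snd f (Spec.map (CommRingCat.ofHom (algebraMap k k')))) x'
  letI := (p.stalkMap x').hom.toAlgebra
  have : Module.Flat (X.presheaf.stalk (p x'))
      ((pullback f (Spec.map (CommRingCat.ofHom (algebraMap k k')))).presheaf.stalk x') := Flat.stalkMap p x'
  have : IsLocalHom (algebraMap (X.presheaf.stalk (p x'))
      ((pullback f (Spec.map (CommRingCat.ofHom (algebraMap k k')))).presheaf.stalk x')) :=
    inferInstanceAs (IsLocalHom (p.stalkMap x').hom)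
  obtain ⟨e⟩ := CIScheme.fiberStalk_equiv p x'
  have : IsNoetherianRing (CInt.fiberStalk p x') := isNoetherianRing_of_ringEquiv _ e
  rw [CIFibre.avramov_of_equiv e]
  exact ⟨fun h => ⟨h, isCompleteIntersection_fiberStalk_fst f x'⟩, fun h => h.1⟩

end Groth.Agent.CAlgH.CIBaseChange
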