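import Groth.Agent.CAlgH.KindBasic
import Groth.Agent.CAlgH.KoszulSeq
import Groth.Agent.Disc12.Koszul.Regular
import Mathlib.RingTheory.LocalRing.MaximalIdeal.Basic

/-!
# Koszul regular sequences are `H_1` regular; comparison with weakly regular sequences
-/

universe u

set_option autoImplicit false
set_option backward.isDefEq.respectTransparency false

open Groth.Agent.Disc12.Koszul RingTheory.Sequence

namespace Groth.Agent.CAlgH.KoszulH1

open KoszulRegular KindBasic

variable {R : Type u} [CommRing R] {n : ℕ}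

theorem oneEquiv_d (f : Fin n → R) (v : Fin 2 → Fin n → R) :
    (exteriorPower.oneEquiv R (Fin n → R)) (d f 1 (exteriorPower.ιMulti R 2 v)) =
      functional f (v 0) • v 1 - functional f (v 1) • v 0 := by
  rw [← LinearEquiv.eq_symm_apply]
  refine Subtype.ext ?_
  rw [map_sub, map_smul, map_smul]
  have h1 : ∀ w, (((exteriorPower.oneEquiv R (Fin n → R)).symm w : K R n 1) : ExteriorAlgebra R (Fin n → R)) =
      ExteriorAlgebra.ι R w := fun w => by
    rw [show (exteriorPower.oneEquiv R (Fin n → R)).symm w = exteriorPower.ιMulti R 1 (fun _ => w) by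
      rw [LinearEquiv.symm_apply_eq, exteriorPower.oneEquiv_ιMulti],
      exteriorPower.ιMulti_apply_coe, ExteriorAlgebra.ιMulti_apply, List.ofFn_succ, List.ofFn_zero,
      List.prod_cons, List.prod_nil, mul_one]
  rw [coe_d, exteriorPower.ιMulti_apply_coe, ExteriorAlgebra.ιMulti_apply, List.ofFn_succ, List.ofFn_succ,
    List.ofFn_zero, List.prod_cons, List.prod_cons, List.prod_nil, mul_one, D_ι_mul, D_ι, ← Algebra.commutes,
    ← Algebra.smul_def, Submodule.coe_sub, Submodule.coe_smul, Submodule.coe_smul, h1, h1]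
  rfl

theorem h1_of_kreg {f : Fin n → R} (h : KReg f) : CAlgX.IsH1Regular f := by
  classical
  intro a ha
  let E : K R n 1 ≃ₗ[R] (Fin n → R) := exteriorPower.oneEquiv R (Fin n → R)
  obtain ⟨y, hy⟩ := (h 0 (E.symm a)).1 (by rw [d_one_oneEquiv_symm, functional_apply, ha, map_zero])
  have hle : (⊤ : Submodule R (K R n 2)) ≤ (Submodule.span R (triv f)).comap (E.toLinearMap ∘ₗ d f 1) := by
    rw [← exteriorPower.ιMulti_span, Submodule.span_le]
    rintro _ ⟨v, rfl⟩
    show E (d f 1 (exteriorPower.ιMulti R 2 v)) ∈ Submodule.span R (triv f)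
    rw [oneEquiv_d, show functional f (v 0) • v 1 - functional f (v 1) • v 0 =
      ∑ i, ∑ j, (v 0 j * v 1 i) • ((Pi.single i (f j) : Fin n → R) - Pi.single j (f i)) by
        ext m
        simp only [functional_apply, Pi.sub_apply, Pi.smul_apply, smul_eq_mul, Finset.sum_apply, Pi.single_apply,
          mul_sub, mul_ite, mul_zero, Finset.sum_sub_distrib]
        rw [Finset.sum_comm (γ := Fin n) (α := Fin n) (f := fun i j => if m = i then v 0 j * v 1 i * f j else 0)]
        simp only [Finset.sum_ite_eq, Finset.mem_univ, if_true, Finset.sum_mul]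
        congr 1 <;> exact Finset.sum_congr rfl fun l _ => by ring]
    exact Submodule.sum_mem _ fun i _ => Submodule.sum_mem _ fun j _ =>
      Submodule.smul_mem _ _ (Submodule.subset_span ⟨i, j, rfl⟩)
  have := hle (Submodule.mem_top (x := y))
  rw [Submodule.mem_comap, LinearMap.comp_apply, show d f 1 y = E.symm a from hy, LinearEquiv.coe_coe,
    LinearEquiv.apply_symm_apply] at this
  exact this

theorem koszulH1Zero_of_h1 {f : Fin n → R} (h : CAlgX.IsH1Regular f) : CInt.KoszulH1Zero f R := by
  intro m hm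
  refine Submodule.span_mono ?_ (h m ?_)
  · rintro _ ⟨i, j, rfl⟩
    exact ⟨i, j, 1, by ext k; simp [Pi.single_apply]⟩
  · rw [← hm]
    exact Finset.sum_congr rfl fun i _ => mul_comm _ _

theorem isWeaklyRegular_of_kreg [IsNoetherianRing R] {f : Fin n → R} (hrad : ∀ i, f i ∈ (⊥ : Ideal R).jacobson)
    (h : KReg f) : IsWeaklyRegular R (List.ofFn f) :=
  KoszulSeq.isWeaklyRegular_of_koszulH1Zero f hrad R (koszulH1Zero_of_h1 (h1_of_kreg h))

theorem kreg_of_isWeaklyRegular {f : Fin n → R} (h : IsWeaklyRegular R (List.ofFn f)) : KReg f := by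
  rw [isWeaklyRegular_iff_Fin] at h
  have hreg : ExactUpTo 1 f := by
    refine exactUpTo_of_regular 1 f fun i r hr => ⟨0, ?_⟩
    have hi := h ⟨i, by simp⟩
    have hlist : Ideal.ofList ((List.ofFn f).take i) = Ideal.span (f '' Set.Iio i) := by
      refine congrArg Ideal.span (Set.ext fun x => ?_)
      simp only [Set.mem_setOf_eq, List.mem_take_iff_getElem, List.length_ofFn, List.getElem_ofFn, Set.mem_image,
        Set.mem_Iio]
      constructor
      · rintro ⟨j, hj, rfl⟩
        exact ⟨⟨j, by omega⟩, Fin.lt_def.2 (show j < i.1 by omega), rfl⟩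
      · rintro ⟨j, hj, rfl⟩
        exact ⟨j, by have := Fin.lt_def.1 hj; omega, rfl⟩
    rw [isSMulRegular_quotient_iff_mem_of_smul_mem] at hi
    have h2 : r ∈ Ideal.ofList ((List.ofFn f).take i) • (⊤ : Submodule R R) := by
      refine hi r ?_
      rw [smul_eq_mul, Ideal.mul_top, hlist]
      simpa using hr
    rw [smul_eq_mul, Ideal.mul_top, hlist] at h2
    rw [pow_zero, one_mul]
    exact h2
  intro p
  exact exact_of_local f (fun m hm _ => ⟨1, hm.isPrime.one_notMem, hreg⟩) p

end Groth.Agent.CAlgH.KoszulH1
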