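import Groth.Agent.Disc12.Koszul.Bridge
import Groth.Agent.Disc12.Koszul.Regular
import Mathlib.RingTheory.Flat.FaithfullyFlat.Algebra
import Mathlib.RingTheory.Localization.BaseChange

/-!
# Koszul regular sequences: exactness criterion, base change, descent, locality, generators
-/

universe u

set_option autoImplicit false
set_option backward.isDefEq.respectTransparency false

open CategoryTheory CategoryTheory.Limits TensorProduct
open Groth.Agent.Disc12.Koszul

namespace Groth.Agent.CAlgH.KoszulRegular

variable {R : Type u} [CommRing R] {n : ℕ}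

/-- The exterior algebra Koszul complex is exact in positive degrees. -/
def KReg (f : Fin n → R) : Prop := ∀ p, Function.Exact (d f (p + 1)) (d f p)

theorem isKoszulRegularSeq_iff (f : Fin n → R) : LCI.IsKoszulRegularSeq R (List.ofFn f) ↔ KReg f := by
  refine ⟨fun hf p => exact_of_isKoszulRegularSeq hf p, fun hf i hi => ?_⟩
  obtain ⟨e⟩ := nonempty_emb f
  rw [← HomologicalComplex.exactAt_iff_isZero_homology,
    HomologicalComplex.exactAt_iff' _ (i - 1) i (i + 1) (by simp) (by simp), ShortComplex.moduleCat_exact_iff]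
  intro z hz
  rcases lt_or_gt_of_ne hi with h | h
  · obtain ⟨p, rfl⟩ : ∃ p : ℕ, i = -((p + 1 : ℕ) : ℤ) := ⟨(-i).toNat - 1, by omega⟩
    have hmem : e.ψ _ z ∈ G R n (-((p + 1 : ℕ) : ℤ)) := (e.range _).le ⟨z, rfl⟩
    simp only [G, if_pos (show -((p + 1 : ℕ) : ℤ) ≤ 0 by omega)] at hmem
    rw [show (-(-((p + 1 : ℕ) : ℤ))).toNat = p + 1 by omega] at hmem
    have hz' : D (functional f) (e.ψ _ z) = 0 := by
      rw [← e.comm]
      exact (congrArg _ hz).trans (map_zero _)
    obtain ⟨y, hy⟩ := (hf p ⟨_, hmem⟩).1 (Subtype.ext hz')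
    have hymem : y.1 ∈ G R n (-((p + 1 : ℕ) : ℤ) - 1) := by
      simp only [G, if_pos (show -((p + 1 : ℕ) : ℤ) - 1 ≤ 0 by omega)]
      rw [show (-(-((p + 1 : ℕ) : ℤ) - 1)).toNat = p + 1 + 1 by omega]
      exact y.2
    rw [← e.range] at hymem
    obtain ⟨w, hw⟩ := hymem
    refine ⟨w, e.inj _ ?_⟩
    have key : ∀ a b : ℤ, a + 1 = b → ∀ v, e.ψ b ((_root_.Koszul.koszul R (List.ofFn f)).d a b v) =
        D (functional f) (e.ψ a v) := fun a b h v => by
      subst h
      exact e.comm a v
    refine (key _ _ (by omega) w).trans ?_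
    rw [hw]
    exact congrArg Subtype.val hy
  · refine ⟨0, ?_⟩
    have hmem : e.ψ i z ∈ G R n i := (e.range _).le ⟨z, rfl⟩
    simp only [G, if_neg (not_le.2 h), Submodule.mem_bot] at hmem
    rw [map_zero]
    exact (e.inj i (hmem.trans (map_zero _).symm)).symm

section BaseChange

variable {P S : Type u} [CommRing P] [CommRing S] [Algebra P S]

theorem baseChange_comm (f : Fin n → P) (q : ℕ) :
    d (fun i => algebraMap P S (f i)) q ∘ₗ (baseChangeEquiv (q + 1)).toLinearMap =
      (baseChangeEquiv q).toLinearMap ∘ₗ (d f q).baseChange S := by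
  refine AlgebraTensorModule.curry_injective (LinearMap.ext fun r => LinearMap.ext fun x => ?_)
  show d _ q (baseChangeEquiv (q + 1) (r ⊗ₜ x)) = baseChangeEquiv q (r ⊗ₜ d f q x)
  rw [baseChangeEquiv_tmul, baseChangeEquiv_tmul, map_smul]
  exact congrArg (r • ·) (Subtype.ext (σ_D f x.1))

theorem KReg.map [Module.Flat P S] {f : Fin n → P} (h : KReg f) : KReg fun i => algebraMap P S (f i) :=
  fun p => exact_baseChange p (h p)

theorem kreg_of_faithfullyFlat [Module.FaithfullyFlat P S] {f : Fin n → P}
    (h : KReg fun i => algebraMap P S (f i)) : KReg f := fun p => by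
  refine Module.FaithfullyFlat.lTensor_reflects_exact P S _ _ ?_
  exact (Function.Exact.iff_of_ladder_linearEquiv (baseChange_comm (S := S) f (p + 1))
    (baseChange_comm (S := S) f p)).1 (h p)

theorem σp_d (f : Fin n → P) (p : ℕ) (x : K P n (p + 1)) :
    σp (R := S) p (d f p x) = d (fun i => algebraMap P S (f i)) p (σp (p + 1) x) :=
  Subtype.ext (σ_D f x.1).symm

theorem isBaseChange_σp (p : ℕ) : IsBaseChange S (σp (R := S) (n := n) (P := P) p) :=
  IsBaseChange.of_equiv (baseChangeEquiv p) fun x => by rw [baseChangeEquiv_tmul, one_smul]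

end BaseChange

theorem span_range_get (l : List R) : Ideal.span (Set.range l.get) = Ideal.ofList l := by
  rw [Set.range_list_get]

/-- A cycle is killed by the ideal of the sequence modulo boundaries, so exactness only matters at the
primes containing the sequence. -/
theorem kreg_of_local (f : Fin n → R)
    (h : ∀ (q : Ideal R) [q.IsMaximal], Ideal.span (Set.range f) ≤ q →
      KReg fun i => algebraMap R (Localization.AtPrime q) (f i)) : KReg f := fun p => by
  refine LinearMap.exact_iff.2 (le_antisymm (fun x hx => ?_) ?_)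
  swap
  · rintro _ ⟨y, rfl⟩
    exact LinearMap.congr_fun (d_d f p) y
  let J : Ideal R := (LinearMap.range (d f (p + 1))).comap (LinearMap.toSpanSingleton R _ x)
  suffices hJ : J = ⊤ by
    have h1 : (1 : R) ∈ J := hJ ▸ Submodule.mem_top
    have h2 : (1 : R) • x ∈ LinearMap.range (d f (p + 1)) := h1
    rwa [one_smul] at h2
  by_contra hne
  obtain ⟨m, hm, hJm⟩ := Ideal.exists_le_maximal J hne
  have hle : Ideal.span (Set.range f) ≤ m := Ideal.span_le.2 fun y hy => by
    obtain ⟨i, rfl⟩ := hy
    exact hJm (smul_mem_range f i p x hx)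
  have hloc : ∀ q, IsLocalizedModule m.primeCompl (σp (R := Localization.AtPrime m) (n := n) (P := R) q) := fun q =>
    (isLocalizedModule_iff_isBaseChange m.primeCompl (Localization.AtPrime m) _).2 (isBaseChange_σp q)
  obtain ⟨w, hw⟩ := (h m hle p (σp (p + 1) x)).1 (by rw [← σp_d, show d f p x = 0 from hx, map_zero])
  obtain ⟨⟨y, s⟩, hys⟩ := IsLocalizedModule.surj m.primeCompl (σp (R := Localization.AtPrime m) (p + 1 + 1)) w
  have hys' : (s : R) • w = σp (R := Localization.AtPrime m) (p + 1 + 1) y := hys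
  have heq : σp (R := Localization.AtPrime m) (p + 1) (d f (p + 1) y) =
      σp (p + 1) ((s : R) • x) := by
    rw [σp_d, ← hys', LinearMap.map_smul_of_tower, hw, map_smul]
  obtain ⟨t, ht⟩ := IsLocalizedModule.exists_of_eq (S := m.primeCompl) heq
  have : (t : R) * s ∈ J := by
    show ((t : R) * s) • x ∈ LinearMap.range (d f (p + 1))
    refine ⟨(t : R) • y, ?_⟩
    rw [map_smul, mul_smul]
    exact ht
  exact (hm.isPrime.mem_or_mem (hJm this)).elim t.2 s.2

theorem kreg_congr_equiv {f g : Fin n → R} (c c' : (Fin n → R) →ₗ[R] (Fin n → R))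
    (hcc : c ∘ₗ c' = LinearMap.id) (hc : functional g ∘ₗ c = functional f)
    (hc' : functional f ∘ₗ c' = functional g) (h : KReg f) : KReg g := fun p => by
  refine LinearMap.exact_iff.2 (le_antisymm (fun x hx => ?_) ?_)
  swap
  · rintro _ ⟨y, rfl⟩
    exact LinearMap.congr_fun (d_d g p) y
  obtain ⟨y, hy⟩ := (h p (kmap c' (p + 1) x)).1 (by
    rw [← LinearMap.comp_apply, d_kmap _ _ _ hc', LinearMap.comp_apply, show d g p x = 0 from hx, map_zero])
  refine ⟨kmap c (p + 1 + 1) y, ?_⟩
  rw [← LinearMap.comp_apply, d_kmap _ _ _ hc, LinearMap.comp_apply, hy]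
  refine Subtype.ext ?_
  show ExteriorAlgebra.map c (ExteriorAlgebra.map c' x.1) = x.1
  rw [← AlgHom.comp_apply, ExteriorAlgebra.map_comp_map, hcc, ExteriorAlgebra.map_id]
  rfl

theorem d_one_oneEquiv_symm (f : Fin n → R) (v : Fin n → R) :
    d f 0 ((exteriorPower.oneEquiv R (Fin n → R)).symm v) = e0 (functional f v) := by
  refine Subtype.ext ?_
  show D (functional f) ((exteriorPower.oneEquiv R (Fin n → R)).symm v).1 = algebraMap R _ (functional f v)
  rw [show (exteriorPower.oneEquiv R (Fin n → R)).symm v = exteriorPower.ιMulti R 1 (fun _ => v) by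
    rw [LinearEquiv.symm_apply_eq, exteriorPower.oneEquiv_ιMulti],
    exteriorPower.ιMulti_apply_coe, ExteriorAlgebra.ιMulti_apply, List.ofFn_succ, List.ofFn_zero,
    List.prod_cons, List.prod_nil, mul_one]
  exact D_ι _ v

/-- Relations of a Koszul regular sequence have coefficients in the ideal. -/
theorem coeff_mem_of_relation {f : Fin n → R} (h : KReg f) {a : Fin n → R} (ha : ∑ i, a i * f i = 0) (i : Fin n) :
    a i ∈ Ideal.span (Set.range f) := by
  let E : K R n 1 ≃ₗ[R] (Fin n → R) := exteriorPower.oneEquiv R (Fin n → R)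
  have hx : d f 0 (E.symm a) = 0 := by
    rw [d_one_oneEquiv_symm, functional_apply, ha, map_zero]
  obtain ⟨y, hy⟩ := (h 0 _).1 hx
  have := hy ▸ d_mem_smul f (0 + 1) y
  have h2 : a ∈ Ideal.span (Set.range f) • (⊤ : Submodule R (Fin n → R)) := by
    have h3 := Submodule.mem_map_of_mem (f := E.toLinearMap) this
    rw [Submodule.map_smul'', Submodule.map_top, LinearEquiv.range] at h3
    simpa using h3
  exact (Submodule.smul_le (P := Submodule.comap (LinearMap.proj i) (Ideal.span (Set.range f))).2
    fun r hr v _ => Ideal.mul_mem_right _ _ hr) h2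

theorem coeff_mem_of_mem_sq {f : Fin n → R} (h : KReg f) {a : Fin n → R}
    (ha : ∑ i, a i * f i ∈ Ideal.span (Set.range f) ^ 2) (i : Fin n) : a i ∈ Ideal.span (Set.range f) := by
  rw [pow_two, ← smul_eq_mul] at ha
  obtain ⟨b, hb, hbe⟩ := (Submodule.mem_ideal_smul_span_iff_exists_sum _ f _).1 ha
  rw [Finsupp.sum_fintype _ _ (by simp)] at hbe
  simp only [smul_eq_mul] at hbe
  have := coeff_mem_of_relation h (a := fun j => a j - b j) (by
    simp only [sub_mul, Finset.sum_sub_distrib, hbe, sub_self]) i
  simpa using add_mem this (hb i)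

/-- The conormal module of a Koszul regular sequence is free on the sequence. -/
theorem exists_basis_cotangent {I : Ideal R} (f : Fin n → I) (h : KReg fun i => (f i : R))
    (hfI : Ideal.span (Set.range fun i => (f i : R)) = I) :
    ∃ b : Module.Basis (Fin n) (R ⧸ I) I.Cotangent, ∀ i, b i = I.toCotangent (f i) := by
  have hli : LinearIndependent (R ⧸ I) fun i => I.toCotangent (f i) := by
    rw [Fintype.linearIndependent_iff]
    intro c hc
    choose a ha using fun i => Ideal.Quotient.mk_surjective (I := I) (c i)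
    have h0 : I.toCotangent (∑ i, a i • f i) = 0 := by
      rw [← hc, map_sum]
      refine Finset.sum_congr rfl fun i _ => ?_
      rw [map_smul, ← ha i]
      rfl
    rw [Ideal.toCotangent_eq_zero] at h0
    intro i
    rw [← ha i, Ideal.Quotient.eq_zero_iff_mem, ← hfI]
    refine coeff_mem_of_mem_sq h ?_ i
    rw [hfI]
    simpa using h0
  have hsp : ⊤ ≤ Submodule.span (R ⧸ I) (Set.range fun i => I.toCotangent (f i)) := by
    intro z _
    obtain ⟨x, rfl⟩ := I.toCotangent_surjective z
    obtain ⟨a, ha⟩ := Ideal.mem_span_range_iff_exists_fun.1 (hfI.ge x.2)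
    rw [show x = ∑ i, a i • f i from Subtype.ext (by simpa using ha.symm), map_sum]
    refine Submodule.sum_mem _ fun i _ => ?_
    rw [map_smul]
    refine Submodule.smul_of_tower_mem _ (a i) (Submodule.subset_span ?_)
    exact ⟨i, rfl⟩
  exact ⟨Module.Basis.mk hli hsp, fun i => Module.Basis.mk_apply hli hsp i⟩

theorem le_of_generators {I : Ideal R} (hI : I ≠ ⊤) {f : Fin n → R} (h : KReg f)
    (hfI : Ideal.span (Set.range f) = I) {m : ℕ} (g : Fin m → R) (hgI : Ideal.span (Set.range g) = I) : n ≤ m := by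
  have : Nontrivial (R ⧸ I) := Ideal.Quotient.nontrivial_iff.2 hI
  obtain ⟨b, -⟩ := exists_basis_cotangent (fun i => (⟨f i, hfI.le (Ideal.subset_span ⟨i, rfl⟩)⟩ : I)) h hfI
  let g' : Fin m → I.Cotangent := fun j => I.toCotangent (⟨g j, hgI.le (Ideal.subset_span ⟨j, rfl⟩)⟩ : I)
  have hsp : Function.Surjective (Fintype.linearCombination (R ⧸ I) g') := fun z => by
    obtain ⟨x, rfl⟩ := I.toCotangent_surjective z
    obtain ⟨a, ha⟩ := Ideal.mem_span_range_iff_exists_fun.1 (hgI.ge x.2)
    refine ⟨fun j => Ideal.Quotient.mk I (a j), ?_⟩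
    rw [show x = ∑ j, a j • (⟨g j, hgI.le (Ideal.subset_span ⟨j, rfl⟩)⟩ : I) from Subtype.ext (by simpa using ha.symm),
      map_sum, Fintype.linearCombination_apply]
    exact Finset.sum_congr rfl fun j _ => by rw [map_smul]; rfl
  exact le_of_fin_surjective (R ⧸ I) (b.equivFun.toLinearMap ∘ₗ Fintype.linearCombination (R ⧸ I) g')
    (b.equivFun.surjective.comp hsp)

/-- Generating sequences of the same length as a Koszul regular one are Koszul regular. -/
theorem kreg_of_span_eq {f g : Fin n → R} (h : KReg g) (hfg : Ideal.span (Set.range f) = Ideal.span (Set.range g)) :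
    KReg f := by
  classical
  refine kreg_of_local f fun q hq hle => ?_
  choose c hc using fun i => Ideal.mem_span_range_iff_exists_fun.1 (hfg ▸ Ideal.subset_span ⟨i, rfl⟩ :
    f i ∈ Ideal.span (Set.range g))
  choose c' hc' using fun j => Ideal.mem_span_range_iff_exists_fun.1 (hfg.symm ▸ Ideal.subset_span ⟨j, rfl⟩ :
    g j ∈ Ideal.span (Set.range f))
  have hgq : Ideal.span (Set.range g) ≤ q := hfg ▸ hle
  let π := Ideal.Quotient.mk q
  have hinv : ((Matrix.of c').map π) * ((Matrix.of c).map π) = 1 := by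
    rw [← Matrix.map_mul]
    ext j k
    have h0 : ∑ k, ((∑ i, c' j i * c i k) - if j = k then 1 else 0) * g k = 0 := by
      simp only [sub_mul, Finset.sum_sub_distrib, Finset.sum_mul, mul_assoc]
      rw [Finset.sum_comm]
      simp [← Finset.mul_sum, hc, hc']
    have h1 := hgq (coeff_mem_of_relation h h0 k)
    rw [← Ideal.Quotient.eq_zero_iff_mem, map_sub, sub_eq_zero] at h1
    simpa [Matrix.mul_apply, Matrix.one_apply, apply_ite π, π] using h1
  have hdet : (Matrix.of c).det ∉ q := fun hq' => by
    have := congrArg Matrix.det hinv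
    rw [Matrix.det_mul, ← RingHom.mapMatrix_apply, ← RingHom.map_det, ← RingHom.mapMatrix_apply, ← RingHom.map_det,
      show π (Matrix.of c).det = 0 from Ideal.Quotient.eq_zero_iff_mem.2 hq', mul_zero, Matrix.det_one] at this
    exact zero_ne_one this
  let L := Localization.AtPrime q
  let C : Matrix (Fin n) (Fin n) L := (Matrix.of c).map (algebraMap R L)
  have hCdet : IsUnit C.det := by
    rw [show C.det = algebraMap R L (Matrix.of c).det from (RingHom.map_det _ _).symm]
    exact IsLocalization.map_units L (⟨_, hdet⟩ : q.primeCompl)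
  have hfun : functional (fun i => algebraMap R L (g i)) ∘ₗ C.vecMulLinear =
      functional fun i => algebraMap R L (f i) := by
    refine LinearMap.ext fun v => ?_
    simp only [LinearMap.comp_apply, functional_apply, Matrix.vecMulLinear_apply, Matrix.vecMul, dotProduct, C,
      Matrix.map_apply, Matrix.of_apply, Finset.sum_mul]
    rw [Finset.sum_comm]
    refine Finset.sum_congr rfl fun i _ => ?_
    simp only [mul_assoc, ← map_mul, ← Finset.mul_sum, ← map_sum, hc]
  refine kreg_congr_equiv (f := fun i => algebraMap R L (g i)) (C⁻¹).vecMulLinear C.vecMulLinear ?_ ?_ hfun h.map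
  · refine LinearMap.ext fun v => ?_
    simp [Matrix.vecMul_vecMul, Matrix.mul_nonsing_inv _ hCdet]
  · rw [← hfun, LinearMap.comp_assoc]
    refine (congrArg _ (?_ : C.vecMulLinear ∘ₗ (C⁻¹).vecMulLinear = LinearMap.id)).trans (LinearMap.comp_id _)
    refine LinearMap.ext fun v => ?_
    show Matrix.vecMul (Matrix.vecMul v C⁻¹) C = v
    rw [Matrix.vecMul_vecMul, Matrix.nonsing_inv_mul _ hCdet, Matrix.vecMul_one]

theorem isKoszulRegularSeq_iff_length_le {I : Ideal R} (hI : I ≠ ⊤) (g : List R)
    (hg : LCI.IsKoszulRegularSeq R g) (hgI : Ideal.ofList g = I) (f : List R) (hfI : Ideal.ofList f = I) :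
    LCI.IsKoszulRegularSeq R f ↔ ∀ h : List R, Ideal.ofList h = I → f.length ≤ h.length := by
  rw [← List.ofFn_get g, isKoszulRegularSeq_iff] at hg
  constructor
  · intro hf h hhI
    rw [← List.ofFn_get f, isKoszulRegularSeq_iff] at hf
    exact le_of_generators hI hf ((span_range_get f).trans hfI) h.get ((span_range_get h).trans hhI)
  · intro hmin
    have heq : f.length = g.length := le_antisymm (hmin g hgI)
      (le_of_generators hI hg ((span_range_get g).trans hgI) f.get ((span_range_get f).trans hfI))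
    rw [← List.ofFn_get f, List.ofFn_congr heq, isKoszulRegularSeq_iff]
    refine kreg_of_span_eq hg ?_
    rw [span_range_get g, hgI, ← hfI, ← span_range_get f]
    exact congrArg Ideal.span ((finCongr heq).symm.surjective.range_comp f.get)

end Groth.Agent.CAlgH.KoszulRegular
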