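import Groth.Agent.FlatMor12.NLBaseChange.Derived
import Groth.Agent.FlatMorKoszul.Presentation
import Groth.Agent.Synt15.Conormal
import Mathlib

/-! The naive cotangent complex of a local complete intersection algebra. -/

set_option autoImplicit false
set_option linter.style.haveILetI false
set_option backward.isDefEq.respectTransparency false
universe u

open CategoryTheory CategoryTheory.Limits
attribute [local instance] HasDerivedCategory.standard

namespace Groth.Agent.CAlgH.NLPerfect

open Groth.Agent.FlatMor12.NLBaseChange (e₁ e₀ cx_isZero homotopyEquiv)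

variable {A B : Type u} [CommRing A] [CommRing B] [Algebra A B]

/-- A Koszul regular ideal is finitely generated. -/
theorem fg_of_isKoszulRegularIdeal {I : Ideal A} (h : LCI.IsKoszulRegularIdeal I) : I.FG := by
  let t : Set A := {g | (I.map (algebraMap A (Localization.Away g))).FG}
  refine Ideal.fg_of_localizationSpan t ?_ fun g => g.2
  by_contra hne
  obtain ⟨M, hM, hle⟩ := Ideal.exists_le_maximal _ hne
  by_cases hIM : I ≤ M
  · obtain ⟨g, hg, l, -, hspan⟩ := h ⟨M, hM.isPrime⟩ hIM
    refine hg (hle (Ideal.subset_span ?_))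
    show (I.map (algebraMap A (Localization.Away g))).FG
    rw [hspan]
    exact Submodule.fg_span (List.finite_toSet l)
  · obtain ⟨g, hgI, hgM⟩ := SetLike.not_le_iff_exists.1 hIM
    refine hgM (hle (Ideal.subset_span ?_))
    show (I.map (algebraMap A (Localization.Away g))).FG
    rw [Ideal.eq_top_of_isUnit_mem _ (Ideal.mem_map_of_mem _ hgI) (IsLocalization.Away.algebraMap_isUnit g)]
    exact ⟨{1}, by simp⟩

open Groth.Agent.Synt15 (locCot isLocalizedModule_locCot isLocalization_quotient_map
  isLocalizedModule_of_surjective) in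
/-- The conormal module of a Koszul regular ideal is finite projective. -/
theorem projective_cotangent {P : Type u} [CommRing P] (I : Ideal P) (h : LCI.IsKoszulRegularIdeal I) :
    Module.Finite (P ⧸ I) I.Cotangent ∧ Module.Projective (P ⧸ I) I.Cotangent := by
  have hI := fg_of_isKoszulRegularIdeal h
  haveI : Module.Finite P I := Module.Finite.iff_fg.2 hI
  haveI : Module.Finite P I.Cotangent := Module.Finite.of_surjective _ I.toCotangent_surjective
  haveI hfin : Module.Finite (P ⧸ I) I.Cotangent := Module.Finite.of_restrictScalars_finite P (P ⧸ I) I.Cotangent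
  refine ⟨hfin, ?_⟩
  let s : Set (P ⧸ I) := {g | ∃ d : P, Ideal.Quotient.mk I d = g ∧
    Module.Free (Localization.Away d ⧸ I.map (algebraMap P (Localization.Away d)))
      (I.map (algebraMap P (Localization.Away d))).Cotangent}
  have hs : Ideal.span s = ⊤ := by
    by_contra hne
    obtain ⟨M, hM, hle⟩ := Ideal.exists_le_maximal _ hne
    haveI := hM.isPrime
    obtain ⟨d, hd, n, f, hfI, hf, hspan⟩ := (FlatMorKoszul.isKoszulRegularIdeal_iff I).1 h
      ⟨M.comap (Ideal.Quotient.mk I), inferInstance⟩ (fun x hx => by
        show Ideal.Quotient.mk I x ∈ M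
        rw [Ideal.Quotient.eq_zero_iff_mem.2 hx]
        exact zero_mem _)
    let f' : Fin n → I.map (algebraMap P (Localization.Away d)) :=
      fun i => ⟨algebraMap P _ (f i), Ideal.mem_map_of_mem _ (hfI i)⟩
    obtain ⟨b, -⟩ := CAlgH.KoszulRegular.exists_basis_cotangent f' hf hspan.symm
    exact hd (hle (Ideal.subset_span ⟨d, rfl, Module.Free.of_basis b⟩))
  have key : ∀ g : s, ∃ (A : Type u) (_ : CommRing A) (_ : Algebra (P ⧸ I) A) (N : Type u) (_ : AddCommGroup N)
      (_ : Module (P ⧸ I) N) (_ : Module A N) (_ : IsScalarTower (P ⧸ I) A N) (φ : I.Cotangent →ₗ[P ⧸ I] N),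
      IsLocalization.Away g.1 A ∧ IsLocalizedModule (.powers g.1) φ ∧ Module.Free A N ∧ Module.Finite A N := by
    rintro ⟨g, d, rfl, hfree⟩
    let A := Localization.Away d
    let J := I.map (algebraMap P A)
    let θ := Ideal.quotientMap J (algebraMap P A) (Ideal.le_comap_map (I := I))
    letI alg : Algebra (P ⧸ I) (A ⧸ J) := θ.toAlgebra
    letI : Module (P ⧸ I) J.Cotangent := Module.compHom _ θ
    haveI : IsScalarTower (P ⧸ I) (A ⧸ J) J.Cotangent := .of_algebraMap_smul fun _ _ => rfl
    haveI : IsScalarTower P (P ⧸ I) J.Cotangent := .of_algebraMap_smul fun r x => by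
      show θ (Ideal.Quotient.mk I r) • x = r • x
      rw [← algebraMap_smul A r x, ← algebraMap_smul (A ⧸ J) (algebraMap P A r) x]
      rfl
    haveI hfinA : Module.Finite (A ⧸ J) J.Cotangent := by
      haveI : Module.Finite A J := Module.Finite.iff_fg.2 (hI.map _)
      haveI : Module.Finite A J.Cotangent := Module.Finite.of_surjective _ J.toCotangent_surjective
      exact Module.Finite.of_restrictScalars_finite A (A ⧸ J) J.Cotangent
    let φ : I.Cotangent →ₗ[P ⧸ I] J.Cotangent :=
      (locCot (A := A) I).extendScalarsOfSurjective Ideal.Quotient.mk_surjective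
    have hpow : (Submonoid.powers d).map (Ideal.Quotient.mk I) = Submonoid.powers (Ideal.Quotient.mk I d) :=
      Submonoid.map_powers _ _
    refine ⟨A ⧸ J, inferInstance, alg, J.Cotangent, inferInstance, inferInstance, inferInstance, inferInstance, φ,
      ?_, ?_, hfree, hfinA⟩
    · show IsLocalization (Submonoid.powers _) (A ⧸ J)
      rw [← hpow]
      exact isLocalization_quotient_map (A := A) (Submonoid.powers d) I
    · rw [← hpow]
      exact isLocalizedModule_of_surjective (S := P ⧸ I) (Submonoid.powers d) φ (by
        have : φ.restrictScalars P = locCot (A := A) I := LinearMap.ext fun _ => rfl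
        rw [this]
        exact isLocalizedModule_locCot (Submonoid.powers d) I)
  choose A cA aA N cN mN mAN tN φ hA hN hfree hfinA using key
  letI := cA; letI := aA; letI := cN; letI := mN; letI := mAN
  haveI := tN; haveI := hA; haveI := hN; haveI := hfree; haveI := hfinA
  haveI : Module.FinitePresentation (P ⧸ I) I.Cotangent :=
    Module.FinitePresentation.of_localizationSpan' (Rₚ := A) s hs φ fun h => Module.finitePresentation_of_projective (A h) (N h)
  haveI : Module.Flat (P ⧸ I) I.Cotangent :=
    Module.flat_of_isLocalized_span (P ⧸ I) I.Cotangent s hs N φ fun h => by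
      haveI : Module.Flat (P ⧸ I) (A h) := IsLocalization.flat _ (Submonoid.powers h.1)
      exact Module.Flat.trans (P ⧸ I) (A h) (N h)
  exact Module.Flat.projective_of_finitePresentation

/-- `NL` is computed by any presentation. -/
theorem nonempty_NL_iso {n : ℕ} (P : Algebra.Generators A B (Fin n)) :
    Nonempty (DRing.toD (NLCx.cx P.toExtension) ≅ LCI.NL A B) := by
  let e := homotopyEquiv (P.defaultHom (Algebra.Generators.self A B)).toExtensionHom
    ((Algebra.Generators.self A B).defaultHom P).toExtensionHom
  haveI : QuasiIso e.hom := inferInstance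
  haveI : IsIso (DerivedCategory.Q.map e.hom) :=
    (DerivedCategory.isIso_Q_map_iff_quasiIso (φ := e.hom)).2 inferInstance
  exact ⟨asIso (DerivedCategory.Q.map e.hom)⟩

/-- The quotient of a presentation. -/
noncomputable def quotEquiv (E : Algebra.Extension.{u} A B) : E.Ring ⧸ E.ker ≃+* B :=
  RingHom.quotientKerEquivOfSurjective E.algebraMap_surjective

/-- Conormal modules of presentations: change of base along `P/I ≅ B`. -/
theorem cotangent_finite_projective (E : Algebra.Extension.{u} A B)
    (h : Module.Finite (E.Ring ⧸ E.ker) E.ker.Cotangent ∧ Module.Projective (E.Ring ⧸ E.ker) E.ker.Cotangent) :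
    Module.Finite B E.Cotangent ∧ Module.Projective B E.Cotangent := by
  obtain ⟨h1, h2⟩ := h
  let e := quotEquiv E
  haveI := RingHomInvPair.of_ringEquiv e
  haveI := RingHomInvPair.of_ringEquiv_symm e
  let l : E.ker.Cotangent ≃ₛₗ[(e : E.Ring ⧸ E.ker →+* B)] E.Cotangent :=
    { toFun := Algebra.Extension.Cotangent.of
      invFun := Algebra.Extension.Cotangent.val
      left_inv := fun _ => rfl
      right_inv := fun _ => rfl
      map_add' := fun _ _ => rfl
      map_smul' := fun r x => by
        obtain ⟨r, rfl⟩ := Ideal.Quotient.mk_surjective r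
        refine Algebra.Extension.Cotangent.ext ?_
        show Ideal.Quotient.mk E.ker r • x = (algebraMap E.Ring B r • Algebra.Extension.Cotangent.of x).val
        rw [algebraMap_smul, Algebra.Extension.Cotangent.val_smul']
        exact algebraMap_smul (E.Ring ⧸ E.ker) r x }
  exact ⟨Module.Finite.of_surjective l.toLinearMap l.surjective, Module.Projective.of_equiv l⟩

/-- The presentation complex of a Koszul regular presentation is a two term complex of finite
projectives. -/
theorem perfect_cx {n : ℕ} (P : Algebra.Generators A B (Fin n))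
    (h : LCI.IsKoszulRegularIdeal P.toExtension.ker) :
    DRing.VanishesOutside (NLCx.cx P.toExtension) (-1) 0 ∧
      DRing.TermwiseFiniteProjective (NLCx.cx P.toExtension) := by
  have hv : DRing.VanishesOutside (NLCx.cx P.toExtension) (-1) 0 := fun i hi =>
    cx_isZero P.toExtension i (by omega) (by omega)
  refine ⟨hv, fun i => ?_⟩
  rcases eq_or_ne i (-1) with rfl | h1
  · obtain ⟨ha, hb⟩ := cotangent_finite_projective P.toExtension (projective_cotangent _ h)
    let e : P.toExtension.Cotangent ≃ₗ[B] (NLCx.cx P.toExtension).X (-1) :=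
      (e₁ P.toExtension).toLinearEquiv.symm
    exact ⟨Module.Finite.equiv e, Module.Projective.of_equiv e⟩
  rcases eq_or_ne i 0 with rfl | h0
  · let e : P.toExtension.CotangentSpace ≃ₗ[B] (NLCx.cx P.toExtension).X 0 :=
      (e₀ P.toExtension).toLinearEquiv.symm
    haveI : Module.Free B P.toExtension.CotangentSpace := Module.Free.of_basis P.cotangentSpaceBasis
    haveI : Module.Finite B P.toExtension.CotangentSpace := Module.Finite.of_basis P.cotangentSpaceBasis
    exact ⟨Module.Finite.equiv e, Module.Projective.of_equiv e⟩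
  · haveI : Subsingleton ((NLCx.cx P.toExtension).X i) :=
      ModuleCat.subsingleton_of_isZero (cx_isZero P.toExtension i h1 h0)
    exact ⟨inferInstance, inferInstance⟩

/-- The presentation attached to a surjection. -/
theorem exists_generators {n : ℕ} (α : MvPolynomial (Fin n) A →ₐ[A] B) (hα : Function.Surjective α) :
    ∃ P : Algebra.Generators A B (Fin n),
      (LCI.IsKoszulRegularIdeal (RingHom.ker α.toRingHom) → LCI.IsKoszulRegularIdeal P.toExtension.ker) ∧
      (LCI.IsKoszulRegularIdeal P.toExtension.ker → LCI.IsKoszulRegularIdeal (RingHom.ker α.toRingHom)) := by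
  have hval : MvPolynomial.aeval (R := A) (fun i => α (MvPolynomial.X i)) = α :=
    MvPolynomial.algHom_ext fun i => by simp
  refine ⟨Algebra.Generators.ofSurjective (fun i => α (MvPolynomial.X i)) (by rw [hval]; exact hα), ?_⟩
  have hk : (Algebra.Generators.ofSurjective (R := A) (fun i => α (MvPolynomial.X i))
      (by rw [hval]; exact hα)).toExtension.ker = RingHom.ker α.toRingHom := by
    show RingHom.ker (MvPolynomial.aeval (R := A) fun i => α (MvPolynomial.X i)).toRingHom = _
    rw [hval]
  rw [hk]
  exact ⟨id, id⟩

/-- `NL` of a local complete intersection algebra is perfect of tor amplitude `[-1,0]`. -/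
theorem perfect_of_isLCI (h : LCI.IsLCI A B) :
    DRing.IsPerfect B (LCI.NL A B) ∧ DRing.HasTorAmplitudeIn B (-1) 0 (LCI.NL A B) := by
  obtain ⟨-, n, α, hα, hI⟩ := h
  obtain ⟨P, hP, -⟩ := exists_generators α hα
  obtain ⟨hv, hfp⟩ := perfect_cx P (hP hI)
  have he := nonempty_NL_iso P
  refine ⟨⟨_, -1, 0, hv, hfp, he⟩, ⟨_, hv, fun i => ?_, he⟩⟩
  haveI := (hfp i).2
  exact Module.Flat.of_projective

end Groth.Agent.CAlgH.NLPerfect
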