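import Groth.Agent.CAlgH.KoszulRegular
import Groth.Agent.QReg6.Basic
import Groth.Prelude.Def_RegImm
import Mathlib.RingTheory.Flat.EquationalCriterion
import Mathlib.RingTheory.RingHom.Flat

/-!
# Koszul, `H_1` and quasi regular sequences: flat base change, descent, locality, change of generators
-/

universe u

set_option autoImplicit false
set_option backward.isDefEq.respectTransparency false

open Groth.Agent.Disc12.Koszul TensorProduct

namespace Groth.Agent.CAlgH.KindBasic

open KoszulRegular

variable {R S : Type u} [CommRing R] [CommRing S] {n : ℕ}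

theorem mem_of_eq' {x y : R} {I : Ideal R} (e : x = y) (h : y ∈ I) : x ∈ I := e ▸ h

/-- A relation over a flat algebra comes from relations. -/
theorem exists_relations [Algebra R S] [Module.Flat R S] {ι : Type u} [Fintype ι] (r : ι → R) (x : ι → S)
    (h : ∑ i, x i * algebraMap R S (r i) = 0) :
    ∃ (k : ℕ) (a : ι → Fin k → R) (y : Fin k → S), (∀ i, x i = ∑ j, algebraMap R S (a i j) * y j) ∧
      ∀ j, ∑ i, a i j * r i = 0 := by
  obtain ⟨k, a, y, hy, ha⟩ := Module.Flat.isTrivialRelation_of_sum_smul_eq_zero (R := R) (M := S) (f := r) (x := x) (by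
    rw [← h]
    exact Finset.sum_congr rfl fun i _ => by rw [Algebra.smul_def, mul_comm])
  exact ⟨k, a, y, fun i => (hy i).trans (Finset.sum_congr rfl fun j _ => by rw [Algebra.smul_def]),
    fun j => (Finset.sum_congr rfl fun i _ => mul_comm _ _).trans (ha j)⟩

section Coef

variable {ι : Type} [Fintype ι]

/-- A combination of `m` in `J'` has coefficients in `J`. -/
def CoefMem (m : ι → R) (J J' : Ideal R) : Prop := ∀ c : ι → R, ∑ i, c i * m i ∈ J' → ∀ i, c i ∈ J

theorem CoefMem.map [Algebra R S] [Module.Flat R S] {m : ι → R} {J J' : Ideal R} (h : CoefMem m J J') :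
    CoefMem (fun i => algebraMap R S (m i)) (J.map (algebraMap R S)) (J'.map (algebraMap R S)) := by
  intro c hc i
  obtain ⟨l, b, z, hz⟩ := Submodule.mem_span_set'.1 hc
  choose w hwJ hwe using fun j => (z j).2
  obtain ⟨k, a, y, hy, ha⟩ := exists_relations (S := S) (ι := ULift.{u} (ι ⊕ Fin l))
    (fun x => x.down.elim m (fun j => - w j)) (fun x => x.down.elim c b) (by
      rw [← Equiv.ulift.symm.sum_comp, Fintype.sum_sum_type]
      simp only [Equiv.ulift_symm_apply, Sum.elim_inl, Sum.elim_inr, map_neg, mul_neg, Finset.sum_neg_distrib]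
      rw [← sub_eq_add_neg, sub_eq_zero, ← hz]
      exact Finset.sum_congr rfl fun j _ => by rw [smul_eq_mul, hwe])
  rw [show c i = _ from hy ⟨Sum.inl i⟩]
  refine Ideal.sum_mem _ fun j _ => Ideal.mul_mem_right _ _ (Ideal.mem_map_of_mem _ (h (fun i => a ⟨Sum.inl i⟩ j) ?_ i))
  have := ha j
  rw [← Equiv.ulift.symm.sum_comp, Fintype.sum_sum_type] at this
  simp only [Equiv.ulift_symm_apply, Sum.elim_inl, Sum.elim_inr, mul_neg, Finset.sum_neg_distrib] at this
  rw [← sub_eq_add_neg, sub_eq_zero] at this
  rw [this]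
  exact Ideal.sum_mem _ fun q _ => Ideal.mul_mem_left _ _ (hwJ q)

theorem CoefMem.descend [Algebra R S] [Module.FaithfullyFlat R S] {m : ι → R} {J J' : Ideal R}
    (h : CoefMem (fun i => algebraMap R S (m i)) (J.map (algebraMap R S)) (J'.map (algebraMap R S))) :
    CoefMem m J J' := fun c hc i => by
  rw [← Ideal.comap_map_eq_self_of_faithfullyFlat (B := S) J]
  refine h (fun i => algebraMap R S (c i)) ?_ i
  have := Ideal.mem_map_of_mem (algebraMap R S) hc
  simpa using this

theorem CoefMem.of_local {m : ι → R} {J J' : Ideal R}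
    (h : ∀ (q : Ideal R) [q.IsMaximal], J ≤ q → CoefMem (fun i => algebraMap R (Localization.AtPrime q) (m i))
      (J.map (algebraMap R (Localization.AtPrime q))) (J'.map (algebraMap R (Localization.AtPrime q)))) :
    CoefMem m J J' := fun c hc i => by
  by_contra hci
  have hne : Submodule.comap (LinearMap.mulRight R (c i)) J ≠ ⊤ := fun htop => by
    have h1 : (1 : R) ∈ Submodule.comap (LinearMap.mulRight R (c i)) J := htop ▸ Submodule.mem_top
    simp only [Submodule.mem_comap, LinearMap.mulRight_apply, one_mul] at h1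
    exact hci h1
  obtain ⟨q, hq, hle⟩ := Ideal.exists_le_maximal _ hne
  have h2 := h q (fun j hj => hle (show j * c i ∈ J from Ideal.mul_mem_right _ _ hj))
    (fun i => algebraMap R (Localization.AtPrime q) (c i)) (by
      simpa using Ideal.mem_map_of_mem (algebraMap R (Localization.AtPrime q)) hc) i
  obtain ⟨s, hs, hsc⟩ :=
    (IsLocalization.algebraMap_mem_map_algebraMap_iff q.primeCompl (Localization.AtPrime q) _ _).1 h2
  exact hs (hle (show s * c i ∈ J from hsc))

end Coef

/-- The monomials of degree `d`. -/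
abbrev Mon (n d : ℕ) : Type := ↥(Finset.finsuppAntidiag (Finset.univ : Finset (Fin n)) d)

/-- The value of a monomial. -/
def mon (f : Fin n → R) {d : ℕ} (e : Mon n d) : R := ∏ i, f i ^ (e.1 i)

theorem mem_mon {d : ℕ} (e : Fin n →₀ ℕ) :
    e ∈ Finset.finsuppAntidiag (Finset.univ : Finset (Fin n)) d ↔ e.degree = d := by
  rw [Finset.mem_finsuppAntidiag, Finsupp.degree_eq_sum]
  exact and_iff_left (Finset.subset_univ _)

theorem isQuasiRegular_iff_coefMem (f : Fin n → R) :
    CAlgX.IsQuasiRegular f ↔
      ∀ d, CoefMem (mon f (d := d)) (Ideal.span (Set.range f)) (Ideal.span (Set.range f) ^ (d + 1)) := by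
  classical
  constructor
  · intro h d c hc e
    let P : MvPolynomial (Fin n) R := ∑ e : Mon n d, MvPolynomial.monomial e.1 (c e)
    have hP : P.IsHomogeneous d :=
      MvPolynomial.IsHomogeneous.sum _ _ _ fun e _ => MvPolynomial.isHomogeneous_monomial _ ((mem_mon e.1).1 e.2)
    have := h d P hP (by
      rw [map_sum]
      refine mem_of_eq' (Finset.sum_congr rfl fun e _ => ?_) hc
      rw [MvPolynomial.eval_monomial, Finsupp.prod_fintype _ _ (by simp)]
      rfl) e.1
    rwa [MvPolynomial.coeff_sum, Finset.sum_eq_single e (fun b _ hb => by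
      rw [MvPolynomial.coeff_monomial, if_neg fun hbe => hb (Subtype.ext hbe)]) (by simp),
      MvPolynomial.coeff_monomial, if_pos rfl] at this
  · intro h d P hP hmem e
    by_cases he : P.coeff e = 0
    · rw [he]
      exact zero_mem _
    have hdeg : ∀ e, P.coeff e ≠ 0 → e.degree = d := fun e he => by
      rw [Finsupp.degree_eq_weight_one]
      exact hP he
    refine h d (fun e : Mon n d => P.coeff e.1) ?_ ⟨e, (mem_mon e).2 (hdeg e he)⟩
    refine mem_of_eq' (?_ : _ = MvPolynomial.eval f P) hmem
    rw [MvPolynomial.eval_eq']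
    refine (Finset.sum_coe_sort (Finset.finsuppAntidiag (Finset.univ : Finset (Fin n)) d)
      (fun e => P.coeff e * ∏ i, f i ^ e i)).trans (Finset.sum_subset ?_ ?_).symm
    · exact fun e he => (mem_mon e).2 (hdeg e (MvPolynomial.mem_support_iff.1 he))
    · intro e _ he
      rw [MvPolynomial.notMem_support_iff.1 he, zero_mul]

theorem span_range_map [Algebra R S] (f : Fin n → R) :
    Ideal.span (Set.range fun i => algebraMap R S (f i)) = (Ideal.span (Set.range f)).map (algebraMap R S) := by
  rw [Ideal.map_span, ← Set.range_comp]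
  rfl

theorem mon_map [Algebra R S] (f : Fin n → R) {d : ℕ} (e : Mon n d) :
    mon (fun i => algebraMap R S (f i)) e = algebraMap R S (mon f e) := by
  simp [mon]

theorem quasi_map_iff [Algebra R S] (f : Fin n → R) :
    CAlgX.IsQuasiRegular (fun i => algebraMap R S (f i)) ↔
      ∀ d, CoefMem (fun e : Mon n d => algebraMap R S (mon f e)) ((Ideal.span (Set.range f)).map (algebraMap R S))
        ((Ideal.span (Set.range f) ^ (d + 1)).map (algebraMap R S)) := by
  rw [isQuasiRegular_iff_coefMem]
  simp only [span_range_map, Ideal.map_pow, ← mon_map]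

/-- The trivial relations. -/
def triv (f : Fin n → R) : Set (Fin n → R) :=
  {v | ∃ i j : Fin n, v = Pi.single i (f j) - Pi.single j (f i)}

theorem isH1Regular_iff (f : Fin n → R) :
    CAlgX.IsH1Regular f ↔ ∀ a : Fin n → R, ∑ i, a i * f i = 0 → a ∈ Submodule.span R (triv f) := Iff.rfl

theorem comp_mem_span_triv {φ : R →+* S} {f : Fin n → R} {a : Fin n → R} (ha : a ∈ Submodule.span R (triv f)) :
    (fun i => φ (a i)) ∈ Submodule.span S (triv fun i => φ (f i)) := by
  induction ha using Submodule.span_induction with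
  | mem v hv =>
    obtain ⟨i, j, rfl⟩ := hv
    refine Submodule.subset_span ⟨i, j, ?_⟩
    ext k
    simp [Pi.single_apply, apply_ite φ]
  | zero =>
    rw [show (fun i => φ ((0 : Fin n → R) i)) = 0 from funext fun i => map_zero φ]
    exact zero_mem _
  | add x y _ _ hx hy => simpa using! add_mem hx hy
  | smul r x _ hx => simpa using! Submodule.smul_mem _ (φ r) hx

theorem h1_map [Algebra R S] [Module.Flat R S] {f : Fin n → R} (h : CAlgX.IsH1Regular f) :
    CAlgX.IsH1Regular fun i => algebraMap R S (f i) := by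
  intro x hx
  obtain ⟨k, a, y, hy, ha⟩ := exists_relations (S := S) (ι := ULift.{u} (Fin n)) (fun i => f i.down)
    (fun i => x i.down) (by rw [← hx]; exact Equiv.ulift.sum_comp (fun i => x i * algebraMap R S (f i)))
  rw [show x = ∑ j, y j • fun i => algebraMap R S (a ⟨i⟩ j) by
    ext i
    rw [show x i = _ from hy ⟨i⟩, Finset.sum_apply]
    exact Finset.sum_congr rfl fun j _ => mul_comm _ _]
  exact Submodule.sum_mem _ fun j _ => Submodule.smul_mem _ _ (comp_mem_span_triv
    (h (fun i => a ⟨i⟩ j) ((Equiv.ulift.symm.sum_comp fun i => a i j * f i.down).trans (ha j))))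

theorem h1_descend [Algebra R S] [Module.FaithfullyFlat R S] {f : Fin n → R}
    (h : CAlgX.IsH1Regular fun i => algebraMap R S (f i)) : CAlgX.IsH1Regular f := by
  classical
  intro a ha
  have h1 := h (fun i => algebraMap R S (a i)) (by simpa using congrArg (algebraMap R S) ha)
  let N := Submodule.span R (triv f)
  let Φ : (Fin n → S) →ₗ[S] S ⊗[R] ((Fin n → R) ⧸ N) :=
    Fintype.linearCombination S fun i => (1 : S) ⊗ₜ[R] N.mkQ (Pi.single i 1)
  have hΦ : ∀ v : Fin n → R, Φ (fun i => algebraMap R S (v i)) = (1 : S) ⊗ₜ[R] N.mkQ v := fun v => by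
    conv_rhs => rw [← Finset.univ_sum_single v, map_sum, TensorProduct.tmul_sum]
    rw [Fintype.linearCombination_apply]
    refine Finset.sum_congr rfl fun i _ => ?_
    rw [algebraMap_smul, ← TensorProduct.tmul_smul, ← map_smul, ← Pi.single_smul, smul_eq_mul, mul_one]
  have h0 : Submodule.span S (triv fun i => algebraMap R S (f i)) ≤ LinearMap.ker Φ := by
    rw [Submodule.span_le]
    rintro _ ⟨i, j, rfl⟩
    show Φ _ = 0
    rw [show (Pi.single i (algebraMap R S (f j)) - Pi.single j (algebraMap R S (f i)) : Fin n → S) =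
      fun k => algebraMap R S ((Pi.single i (f j) - Pi.single j (f i) : Fin n → R) k) by
        ext k; simp [Pi.single_apply, apply_ite (algebraMap R S)], hΦ,
      show N.mkQ (Pi.single i (f j) - Pi.single j (f i) : Fin n → R) = 0 from
        (Submodule.Quotient.mk_eq_zero N).2 (Submodule.subset_span ⟨i, j, rfl⟩), TensorProduct.tmul_zero]
  have h2 : (1 : S) ⊗ₜ[R] N.mkQ a = 0 := by
    rw [← hΦ]
    exact h0 h1
  exact (Submodule.Quotient.mk_eq_zero N).1 ((Module.FaithfullyFlat.one_tmul_eq_zero_iff R _ (A := S) _).1 h2)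

theorem smul_mem_span_triv {f : Fin n → R} {a : Fin n → R} (ha : ∑ i, a i * f i = 0) (k : Fin n) :
    f k • a ∈ Submodule.span R (triv f) := by
  classical
  rw [show f k • a = ∑ i, a i • ((Pi.single i (f k) : Fin n → R) - Pi.single k (f i)) by
    ext j
    simp only [Pi.smul_apply, smul_eq_mul, Finset.sum_apply, Pi.sub_apply, mul_sub, Finset.sum_sub_distrib,
      Pi.single_apply, mul_ite, mul_zero]
    rw [Finset.sum_ite_eq Finset.univ j, if_pos (Finset.mem_univ _)]
    by_cases h : j = k
    · subst h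
      simp only [if_true]
      rw [ha]
      ring
    · simp [h, mul_comm]]
  exact Submodule.sum_mem _ fun i _ => Submodule.smul_mem _ _ (Submodule.subset_span ⟨i, k, rfl⟩)

theorem h1_of_local {f : Fin n → R} (h : ∀ (q : Ideal R) [q.IsMaximal], Ideal.span (Set.range f) ≤ q →
    CAlgX.IsH1Regular fun i => algebraMap R (Localization.AtPrime q) (f i)) : CAlgX.IsH1Regular f := by
  intro a ha
  by_contra hna
  have hne : Submodule.comap (LinearMap.toSpanSingleton R _ a) (Submodule.span R (triv f)) ≠ ⊤ := fun htop => by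
    have h0 : (1 : R) ∈ Submodule.comap (LinearMap.toSpanSingleton R _ a) (Submodule.span R (triv f)) :=
      htop ▸ Submodule.mem_top
    have h1 : (1 : R) • a ∈ Submodule.span R (triv f) := h0
    rw [one_smul] at h1
    exact hna h1
  obtain ⟨q, hq, hle⟩ := Ideal.exists_le_maximal _ hne
  let L := Localization.AtPrime q
  have h2 := h q (Ideal.span_le.2 (by rintro _ ⟨k, rfl⟩; exact hle (smul_mem_span_triv ha k)))
    (fun i => algebraMap R L (a i)) (by simpa using congrArg (algebraMap R L) ha)
  have key : ∀ x ∈ Submodule.span L (triv fun i => algebraMap R L (f i)), ∃ t : R, t ∉ q ∧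
      ∃ b ∈ Submodule.span R (triv f), algebraMap R L t • x = fun i => algebraMap R L (b i) := by
    intro x hx
    induction hx using Submodule.span_induction with
    | mem v hv =>
      obtain ⟨i, j, rfl⟩ := hv
      refine ⟨1, hq.isPrime.one_notMem, _, Submodule.subset_span ⟨i, j, rfl⟩, ?_⟩
      ext k
      simp [Pi.single_apply, apply_ite (algebraMap R L)]
    | zero => exact ⟨1, hq.isPrime.one_notMem, 0, zero_mem _, by ext; simp⟩
    | add x y _ _ hx hy =>
      obtain ⟨t, ht, b, hb, hbx⟩ := hx
      obtain ⟨t', ht', b', hb', hby⟩ := hy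
      refine ⟨t * t', fun hc => (hq.isPrime.mem_or_mem hc).elim ht ht', t' • b + t • b',
        add_mem (Submodule.smul_mem _ _ hb) (Submodule.smul_mem _ _ hb'), ?_⟩
      ext k
      have e1 := congrFun hbx k
      have e2 := congrFun hby k
      simp only [Pi.smul_apply, smul_eq_mul, Pi.add_apply, map_add, map_mul] at e1 e2 ⊢
      rw [← e1, ← e2]
      ring
    | smul r x _ hx =>
      obtain ⟨t, ht, b, hb, hbx⟩ := hx
      obtain ⟨c, s, rfl⟩ := IsLocalization.exists_mk'_eq q.primeCompl r
      refine ⟨t * s, fun hc => (hq.isPrime.mem_or_mem hc).elim ht s.2, c • b, Submodule.smul_mem _ _ hb, ?_⟩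
      ext k
      have e1 := congrFun hbx k
      simp only [Pi.smul_apply, smul_eq_mul, map_mul] at e1 ⊢
      rw [← e1, ← IsLocalization.mk'_spec L c s]
      ring
  obtain ⟨t, ht, b, hb, hbe⟩ := key _ h2
  have hk : ∀ i, ∃ u : R, u ∉ q ∧ u * (t * a i) = u * b i := fun i => by
    have e1 := congrFun hbe i
    simp only [Pi.smul_apply, smul_eq_mul, ← map_mul] at e1
    obtain ⟨u, hu⟩ := (IsLocalization.eq_iff_exists q.primeCompl L).1 e1
    exact ⟨u, u.2, hu⟩
  choose u hu hue using hk
  refine (fun hc => ?_ : (∏ i, u i) * t ∉ q) (hle (show ((∏ i, u i) * t) • a ∈ Submodule.span R (triv f) from ?_))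
  · rcases hq.isPrime.mem_or_mem hc with hc | hc
    · obtain ⟨i, -, hi⟩ := Ideal.IsPrime.prod_mem_iff.1 hc
      exact hu i hi
    · exact ht hc
  · rw [show ((∏ i, u i) * t) • a = (∏ i, u i) • b by
      ext i
      obtain ⟨v, hv⟩ := Finset.dvd_prod_of_mem u (Finset.mem_univ i)
      simp only [Pi.smul_apply, smul_eq_mul, hv]
      linear_combination v * hue i]
    exact Submodule.smul_mem _ _ hb

theorem h1_coeff_mem {f : Fin n → R} (h : CAlgX.IsH1Regular f) {a : Fin n → R} (ha : ∑ i, a i * f i = 0) (i : Fin n) :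
    a i ∈ Ideal.span (Set.range f) := by
  have hle : Submodule.span R (triv f) ≤ Submodule.comap (LinearMap.proj i) (Ideal.span (Set.range f)) := by
    rw [Submodule.span_le]
    rintro _ ⟨j, k, rfl⟩
    show (Pi.single j (f k) - Pi.single k (f j) : Fin n → R) i ∈ Ideal.span (Set.range f)
    rw [Pi.sub_apply, Pi.single_apply, Pi.single_apply]
    refine sub_mem ?_ ?_ <;> split_ifs <;> first | exact Ideal.subset_span ⟨_, rfl⟩ | exact zero_mem _
  exact hle (h a ha)

theorem coeff_mem_sq_of {f : Fin n → R}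
    (h : ∀ a : Fin n → R, ∑ i, a i * f i = 0 → ∀ i, a i ∈ Ideal.span (Set.range f)) {a : Fin n → R}
    (ha : ∑ i, a i * f i ∈ Ideal.span (Set.range f) ^ 2) (i : Fin n) : a i ∈ Ideal.span (Set.range f) := by
  rw [pow_two, ← smul_eq_mul] at ha
  obtain ⟨b, hb, hbe⟩ := (Submodule.mem_ideal_smul_span_iff_exists_sum _ f _).1 ha
  rw [Finsupp.sum_fintype _ _ (by simp)] at hbe
  simp only [smul_eq_mul] at hbe
  have := h (fun j => a j - b j) (by
    simp only [sub_mul, Finset.sum_sub_distrib, hbe, sub_self]) i
  simpa using add_mem this (hb i)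

/-- Change by an invertible matrix. -/
theorem h1_congr {f g : Fin n → R} (C D : Matrix (Fin n) (Fin n) R) (hCD : C * D = 1)
    (hg : ∀ i, ∑ j, C i j * f j = g i) (hf : ∀ i, ∑ j, D i j * g j = f i) (h : CAlgX.IsH1Regular f) :
    CAlgX.IsH1Regular g := by
  intro a ha
  have h1 : ∑ j, Matrix.vecMul a C j * f j = 0 := by
    simp only [Matrix.vecMul, dotProduct, Finset.sum_mul, mul_assoc]
    rw [Finset.sum_comm]
    simp only [← Finset.mul_sum, hg, ha]
  have hle : Submodule.span R (triv f) ≤ Submodule.comap D.vecMulLinear (Submodule.span R (triv g)) := by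
    rw [Submodule.span_le]
    rintro _ ⟨i, j, rfl⟩
    show Matrix.vecMul _ D ∈ Submodule.span R (triv g)
    rw [show Matrix.vecMul (Pi.single i (f j) - Pi.single j (f i)) D =
      ∑ k, ∑ l, (D j k * D i l) • ((Pi.single l (g k) : Fin n → R) - Pi.single k (g l)) by
        ext m
        simp only [Matrix.sub_vecMul, Pi.sub_apply, Matrix.single_vecMul, Pi.smul_apply, Matrix.row, smul_eq_mul,
          Finset.sum_apply, mul_sub, Finset.sum_sub_distrib, Pi.single_apply, mul_ite, mul_zero]
        rw [Finset.sum_comm (γ := Fin n) (α := Fin n) (f := fun k l => if m = k then D j k * D i l * g l else 0)]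
        simp only [Finset.sum_ite_eq, Finset.mem_univ, if_true, ← hf, Finset.sum_mul]
        congr 1 <;> exact Finset.sum_congr rfl fun l _ => by ring]
    exact Submodule.sum_mem _ fun k _ => Submodule.sum_mem _ fun l _ =>
      Submodule.smul_mem _ _ (Submodule.subset_span ⟨l, k, rfl⟩)
  have := hle (h _ h1)
  rw [Submodule.mem_comap, Matrix.vecMulLinear_apply, Matrix.vecMul_vecMul, hCD, Matrix.vecMul_one] at this
  exact this

theorem h1_of_span_eq {f g : Fin n → R} (h : CAlgX.IsH1Regular g)
    (hfg : Ideal.span (Set.range f) = Ideal.span (Set.range g)) : CAlgX.IsH1Regular f := by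
  classical
  refine h1_of_local fun q hq hle => ?_
  choose c hc using fun i => Ideal.mem_span_range_iff_exists_fun.1 (hfg ▸ Ideal.subset_span ⟨i, rfl⟩ :
    f i ∈ Ideal.span (Set.range g))
  choose c' hc' using fun j => Ideal.mem_span_range_iff_exists_fun.1 (hfg.symm ▸ Ideal.subset_span ⟨j, rfl⟩ :
    g j ∈ Ideal.span (Set.range f))
  have hgq : Ideal.span (Set.range g) ≤ q := hfg ▸ hle
  let π := Ideal.Quotient.mk q
  have hinv : ((Matrix.of c').map π) * ((Matrix.of c).map π) = 1 := by
    rw [← Matrix.map_mul]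
    ext j k
    have h0 : ∑ k, ((∑ i, c' j i * c i k) - if j = k then 1 else 0) * g k = 0 := by
      simp only [sub_mul, Finset.sum_sub_distrib, Finset.sum_mul, mul_assoc]
      rw [Finset.sum_comm]
      simp [← Finset.mul_sum, hc, hc']
    have h1 := hgq (h1_coeff_mem h h0 k)
    rw [← Ideal.Quotient.eq_zero_iff_mem, map_sub, sub_eq_zero] at h1
    simpa [Matrix.mul_apply, Matrix.one_apply, apply_ite π, π] using h1
  have hdet : (Matrix.of c).det ∉ q := fun hq' => by
    have := congrArg Matrix.det hinv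
    rw [Matrix.det_mul, ← RingHom.mapMatrix_apply, ← RingHom.map_det, ← RingHom.mapMatrix_apply, ← RingHom.map_det,
      show π (Matrix.of c).det = 0 from Ideal.Quotient.eq_zero_iff_mem.2 hq', mul_zero, Matrix.det_one] at this
    exact zero_ne_one this
  let L := Localization.AtPrime q
  let C : Matrix (Fin n) (Fin n) L := (Matrix.of c).map (algebraMap R L)
  have hCdet : IsUnit C.det := by
    rw [show C.det = algebraMap R L (Matrix.of c).det from (RingHom.map_det _ _).symm]
    exact IsLocalization.map_units L (⟨_, hdet⟩ : q.primeCompl)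
  have hCg : ∀ i, ∑ j, C i j * algebraMap R L (g j) = algebraMap R L (f i) := fun i => by
    simp only [C, Matrix.map_apply, Matrix.of_apply, ← map_mul, ← map_sum, hc]
  refine h1_congr C C⁻¹ (Matrix.mul_nonsing_inv _ hCdet) hCg ?_ (h1_map h)
  intro i
  have h2 : Matrix.mulVec C⁻¹ (fun i => algebraMap R L (f i)) = fun j => algebraMap R L (g j) := by
    rw [show (fun i => algebraMap R L (f i)) = Matrix.mulVec C (fun j => algebraMap R L (g j)) from
      funext fun i => (hCg i).symm, Matrix.mulVec_mulVec, Matrix.nonsing_inv_mul _ hCdet, Matrix.one_mulVec]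
  exact congrFun h2 i

/-- Sequences of the kinds Koszul, `H_1` and quasi (the plain regular kind is read as Koszul). -/
def SeqF : RegImm.Kind → ∀ {n : ℕ}, (Fin n → R) → Prop
  | .regular, _, f => KReg f
  | .koszul, _, f => KReg f
  | .h1, _, f => CAlgX.IsH1Regular f
  | .quasi, _, f => CAlgX.IsQuasiRegular f

variable {k : RegImm.Kind}

theorem seq_iff (hk : k ≠ .regular) (l : List R) : k.Seq R l ↔ SeqF k l.get := by
  cases k
  · exact absurd rfl hk
  · show LCI.IsKoszulRegularSeq R l ↔ KReg l.get
    rw [← isKoszulRegularSeq_iff, List.ofFn_get]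
  · rfl
  · rfl

theorem seq_ofFn_iff (hk : k ≠ .regular) (f : Fin n → R) : k.Seq R (List.ofFn f) ↔ SeqF k f := by
  rw [seq_iff hk]
  have key : ∀ {m : ℕ} (g : Fin m → R) (e : m = n), g = f ∘ Fin.cast e → (SeqF k g ↔ SeqF k f) := by
    rintro m g rfl rfl
    rfl
  exact key _ List.length_ofFn (funext fun i => by simp [Fin.cast])

theorem SeqF.map {φ : R →+* S} (hφ : φ.Flat) {f : Fin n → R} (h : SeqF k f) : SeqF k fun i => φ (f i) := by
  let := φ.toAlgebra
  have : Module.Flat R S := hφ
  cases k
  · exact KReg.map (S := S) h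
  · exact KReg.map (S := S) h
  · exact h1_map (S := S) h
  · exact (quasi_map_iff (S := S) f).2 fun d => ((isQuasiRegular_iff_coefMem f).1 h d).map

theorem seqF_descend [Algebra R S] [Module.FaithfullyFlat R S] {f : Fin n → R}
    (h : SeqF k fun i => algebraMap R S (f i)) : SeqF k f := by
  cases k
  · exact kreg_of_faithfullyFlat (S := S) h
  · exact kreg_of_faithfullyFlat (S := S) h
  · exact h1_descend (S := S) h
  · exact (isQuasiRegular_iff_coefMem f).2 fun d => ((quasi_map_iff (S := S) f).1 h d).descend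

theorem seqF_of_local {f : Fin n → R} (h : ∀ (q : Ideal R) [q.IsMaximal], Ideal.span (Set.range f) ≤ q →
    SeqF k fun i => algebraMap R (Localization.AtPrime q) (f i)) : SeqF k f := by
  cases k
  · exact kreg_of_local f h
  · exact kreg_of_local f h
  · exact h1_of_local h
  · exact (isQuasiRegular_iff_coefMem f).2 fun d => CoefMem.of_local fun q _ hq => (quasi_map_iff f).1 (h q hq) d

theorem seqF_of_span_eq {f g : Fin n → R} (h : SeqF k g)
    (hfg : Ideal.span (Set.range f) = Ideal.span (Set.range g)) : SeqF k f := by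
  cases k
  · exact kreg_of_span_eq h hfg
  · exact kreg_of_span_eq h hfg
  · exact h1_of_span_eq h hfg
  · exact QReg6.isQuasiRegular_of_span_eq h hfg

theorem SeqF.coeff_mem_of_mem_sq {f : Fin n → R} (h : SeqF k f) {a : Fin n → R}
    (ha : ∑ i, a i * f i ∈ Ideal.span (Set.range f) ^ 2) (i : Fin n) : a i ∈ Ideal.span (Set.range f) := by
  cases k
  · exact KoszulRegular.coeff_mem_of_mem_sq h ha i
  · exact KoszulRegular.coeff_mem_of_mem_sq h ha i
  · exact coeff_mem_sq_of (fun _ hb => h1_coeff_mem h hb) ha i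
  · exact QReg6.mem_of_sum_mem_sq h a ha i

theorem SeqF.le_of_generators {I : Ideal R} (hI : I ≠ ⊤) {f : Fin n → R} (h : SeqF k f)
    (hfI : Ideal.span (Set.range f) = I) {m : ℕ} (g : Fin m → R) (hgI : Ideal.span (Set.range g) = I) : n ≤ m := by
  classical
  have : Nontrivial (R ⧸ I) := Ideal.Quotient.nontrivial_iff.2 hI
  choose d hd using fun j => Ideal.mem_span_range_iff_exists_fun.1 (hgI ▸ hfI.le (Ideal.subset_span ⟨j, rfl⟩) :
    f j ∈ Ideal.span (Set.range g))
  choose c hc using fun j => Ideal.mem_span_range_iff_exists_fun.1 (hfI ▸ hgI.le (Ideal.subset_span ⟨j, rfl⟩) :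
    g j ∈ Ideal.span (Set.range f))
  let π := Ideal.Quotient.mk I
  have hDC : (Matrix.of d).map π * (Matrix.of c).map π = 1 := by
    rw [← Matrix.map_mul]
    ext j k
    have h0 : ∑ k, ((∑ i, d j i * c i k) - if j = k then 1 else 0) * f k = 0 := by
      simp only [sub_mul, Finset.sum_sub_distrib, Finset.sum_mul, mul_assoc]
      rw [Finset.sum_comm]
      simp [← Finset.mul_sum, hc, hd]
    have h1 := h.coeff_mem_of_mem_sq (h0 ▸ zero_mem _) k
    rw [hfI, ← Ideal.Quotient.eq_zero_iff_mem, map_sub, sub_eq_zero] at h1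
    simpa [Matrix.mul_apply, Matrix.one_apply, apply_ite π, π] using h1
  refine le_of_fin_surjective (R ⧸ I) ((Matrix.of c).map π).vecMulLinear fun w =>
    ⟨Matrix.vecMul w ((Matrix.of d).map π), ?_⟩
  rw [Matrix.vecMulLinear_apply, Matrix.vecMul_vecMul, hDC, Matrix.vecMul_one]

end Groth.Agent.CAlgH.KindBasic
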