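import Groth.Agent.Disc12.Koszul.Bridge
import Groth.Agent.Misc15.KoszulCone

/-!
# Concatenation of Koszul regular sequences
-/

universe u

set_option autoImplicit false
set_option backward.isDefEq.respectTransparency false

open CategoryTheory CategoryTheory.Limits CochainComplex
open Groth.Agent.Disc12.Koszul Groth.Agent.Misc15.Koszul

namespace Groth.Agent.CAlgH.KoszulAppend

variable {A B : Type u} [CommRing A] [CommRing B] (φ : A →+* B)

/-- A surjective semilinear map of complexes with acyclic kernel. -/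
structure Res (C : CochainComplex (ModuleCat.{u} A) ℤ) (D : CochainComplex (ModuleCat.{u} B) ℤ) where
  e : ∀ i, C.X i →+ D.X i
  e_smul : ∀ i (a : A) (x : C.X i), e i (a • x) = φ a • e i x
  e_surj : ∀ i, Function.Surjective (e i)
  e_d : ∀ i j, i + 1 = j → ∀ x, e j ((C.d i j).hom x) = (D.d i j).hom (e i x)
  acyclic : ∀ i j k, i + 1 = j → j + 1 = k → ∀ z, e j z = 0 → (C.d j k).hom z = 0 →
    ∃ w, e i w = 0 ∧ (C.d i j).hom w = z

variable {φ}

/-- Exactness at a degree, in elements. -/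
def ExAt {R : Type u} [CommRing R] (C : CochainComplex (ModuleCat.{u} R) ℤ) (i j k : ℤ) : Prop :=
  ∀ z, (C.d j k).hom z = 0 → ∃ w, (C.d i j).hom w = z

theorem exAt_iff {R : Type u} [CommRing R] (C : CochainComplex (ModuleCat.{u} R) ℤ) {i j k : ℤ}
    (hij : i + 1 = j) (hjk : j + 1 = k) : IsZero (C.homology j) ↔ ExAt C i j k := by
  rw [← HomologicalComplex.exactAt_iff_isZero_homology,
    HomologicalComplex.exactAt_iff' _ i j k (CochainComplex.prev ℤ j ▸ by omega) (CochainComplex.next ℤ j ▸ hjk),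
    ShortComplex.moduleCat_exact_iff]
  rfl

theorem Res.exAt {C : CochainComplex (ModuleCat.{u} A) ℤ} {D : CochainComplex (ModuleCat.{u} B) ℤ} (r : Res φ C D)
    {i j k : ℤ} (hij : i + 1 = j) (hjk : j + 1 = k) (h : ExAt D i j k) : ExAt C i j k := by
  intro z hz
  obtain ⟨w', hw'⟩ := h (r.e j z) (by rw [← r.e_d j k hjk, hz, map_zero])
  obtain ⟨w, rfl⟩ := r.e_surj i w'
  rw [← r.e_d i j hij] at hw'
  obtain ⟨v, -, hv⟩ := r.acyclic i j k hij hjk (z - (C.d i j).hom w) (by rw [map_sub, hw', sub_self])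
    (by
      rw [map_sub, hz, zero_sub, neg_eq_zero]
      exact ConcreteCategory.congr_hom (C.d_comp_d i j k) w)
  exact ⟨v + w, by rw [map_add, hv, sub_add_cancel]⟩

/-- The cone step. -/
theorem Res.cone {C : CochainComplex (ModuleCat.{u} A) ℤ} {D : CochainComplex (ModuleCat.{u} B) ℤ} (r : Res φ C D)
    (a : A) : Nonempty (Res φ (mappingCone (a • 𝟙 C)) (mappingCone (φ a • 𝟙 D))) := by
  refine ⟨⟨fun i => AddMonoidHom.mk' (fun x => cmk _ (i + 1) rfl (r.e (i + 1) (cfst _ (i + 1) rfl x)) (r.e i (csnd _ x)))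
    (fun x y => ?_), fun i b x => ?_, fun i y => ?_, fun i j hij x => ?_, fun i j k hij hjk z hz hdz => ?_⟩⟩
  · refine cone_ext _ (i + 1) rfl ?_ ?_
    · rw [cfst_cmk, cfst_add, map_add, cfst_add, cfst_cmk, cfst_cmk]
    · rw [csnd_cmk, csnd_add, map_add, csnd_add, csnd_cmk, csnd_cmk]
  · refine cone_ext _ (i + 1) rfl ?_ ?_
    · simp only [AddMonoidHom.mk'_apply]
      rw [cfst_cmk, cfst_smul, r.e_smul, cfst_smul, cfst_cmk]
    · simp only [AddMonoidHom.mk'_apply]
      rw [csnd_cmk, csnd_smul, r.e_smul, csnd_smul, csnd_cmk]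
  · obtain ⟨p, hp⟩ := r.e_surj (i + 1) (cfst _ (i + 1) rfl y)
    obtain ⟨q, hq⟩ := r.e_surj i (csnd _ y)
    refine ⟨cmk _ (i + 1) rfl p q, cone_ext _ (i + 1) rfl ?_ ?_⟩
    · rw [AddMonoidHom.mk'_apply, cfst_cmk, cfst_cmk, hp]
    · rw [AddMonoidHom.mk'_apply, csnd_cmk, csnd_cmk, hq]
  · subst hij
    simp only [AddMonoidHom.mk'_apply]
    refine cone_ext _ (i + 1 + 1) rfl ?_ ?_
    · rw [cfst_cmk, cfst_d _ (i + 1) (i + 1 + 1) rfl rfl, cfst_d _ (i + 1) (i + 1 + 1) rfl rfl, cfst_cmk, map_neg,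
        r.e_d (i + 1) (i + 1 + 1) rfl]
    · rw [csnd_cmk, csnd_d _ (i + 1) rfl, csnd_d _ (i + 1) rfl, cfst_cmk, csnd_cmk, smul_id_f, smul_id_f, map_add,
        r.e_smul, r.e_d i (i + 1) rfl]
  · subst hij hjk
    simp only [AddMonoidHom.mk'_apply] at hz ⊢
    have hz1 := congrArg (cfst _ (i + 1 + 1) rfl) hz
    have hz2 := congrArg (csnd _) hz
    rw [cfst_cmk, cfst_zero] at hz1
    rw [csnd_cmk, csnd_zero] at hz2
    have hd1 := congrArg (cfst _ (i + 1 + 1 + 1) rfl) hdz
    have hd2 := congrArg (csnd _) hdz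
    rw [cfst_d _ (i + 1 + 1) (i + 1 + 1 + 1) rfl rfl, cfst_zero, neg_eq_zero] at hd1
    rw [csnd_d _ (i + 1 + 1) rfl, smul_id_f, csnd_zero] at hd2
    obtain ⟨u', hu'0, hu'⟩ := r.acyclic (i + 1) (i + 1 + 1) (i + 1 + 1 + 1) rfl rfl _ hz1 hd1
    obtain ⟨v', hv'0, hv'⟩ := r.acyclic i (i + 1) (i + 1 + 1) rfl rfl (csnd _ z + a • u')
      (by rw [map_add, r.e_smul, hz2, hu'0, smul_zero, add_zero])
      (by rw [map_add, map_smul, hu']; exact (add_comm _ _).trans hd2)
    refine ⟨cmk _ (i + 1) rfl (-u') v', ?_, cone_ext _ (i + 1 + 1) rfl ?_ ?_⟩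
    · refine cone_ext _ (i + 1) rfl ?_ ?_
      · rw [cfst_cmk, cfst_cmk, map_neg, hu'0, neg_zero, cfst_zero]
      · rw [csnd_cmk, csnd_cmk, hv'0, csnd_zero]
    · rw [cfst_d _ (i + 1) (i + 1 + 1) rfl rfl, cfst_cmk, map_neg, neg_neg, hu']
    · rw [csnd_d _ (i + 1) rfl, smul_id_f, cfst_cmk, csnd_cmk, hv', smul_neg, neg_add_cancel_comm_assoc]

theorem exists_res (hφ : Function.Surjective φ) {n : ℕ} (f : Fin n → A)
    (hker : RingHom.ker φ = Ideal.span (Set.range f)) (hf : LCI.IsKoszulRegularSeq A (List.ofFn f)) :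
    Nonempty (Res φ (_root_.Koszul.koszul A (List.ofFn f)) (_root_.Koszul.koszul B [])) := by
  classical
  obtain ⟨e⟩ := nonempty_emb f
  let C := _root_.Koszul.koszul A (List.ofFn f)
  let T := _root_.Koszul.koszul B []
  let ε : T.X 0 ≃ₗ[B] B :=
    (HomologicalComplex.singleObjXSelf (ComplexShape.up ℤ) 0 (ModuleCat.of B B)).toLinearEquiv
  have hsub : ∀ i : ℤ, i ≠ 0 → Subsingleton (T.X i) := fun i hi =>
    ModuleCat.subsingleton_of_isZero (HomologicalComplex.isZero_single_obj_X _ _ _ _ hi)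
  let r : C.X 0 →ₗ[A] A := ExteriorAlgebra.algebraMapInv.toLinearMap ∘ₗ e.ψ 0
  have hG0 : G A n 0 = LinearMap.range (Algebra.linearMap A (ExteriorAlgebra A (Fin n → A))) := by
    simp only [G, le_refl, if_true, neg_zero, Int.toNat_zero, ExteriorAlgebra.exteriorPower, pow_zero, Submodule.one_eq_range]
  have hr : ∀ x, algebraMap A _ (r x) = e.ψ 0 x := by
    intro x
    obtain ⟨t, ht⟩ : e.ψ 0 x ∈ LinearMap.range (Algebra.linearMap A (ExteriorAlgebra A (Fin n → A))) :=
      hG0 ▸ (e.range 0).le ⟨x, rfl⟩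
    rw [show r x = ExteriorAlgebra.algebraMapInv (e.ψ 0 x) from rfl, ← ht]
    exact congrArg _ (ExteriorAlgebra.algebraMap_leftInverse _ t)
  have hrinj : Function.Injective r := fun x y h => e.inj 0 (by rw [← hr, ← hr, h])
  have hrsurj : Function.Surjective r := fun t => by
    obtain ⟨x, hx⟩ := (e.range 0).ge (show algebraMap A _ t ∈ G A n 0 from hG0 ▸ ⟨t, rfl⟩)
    exact ⟨x, (congrArg _ hx).trans (ExteriorAlgebra.algebraMap_leftInverse _ t)⟩
  have hrd : ∀ x : C.X (-1), r ((C.d (-1) 0).hom x) ∈ RingHom.ker φ := fun x => by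
    have hc : e.ψ 0 ((C.d (-1) 0).hom x) = D (functional f) (e.ψ (-1) x) := e.comm (-1) x
    have hmem : e.ψ (-1) x ∈ G A n (-1) := (e.range _).le ⟨x, rfl⟩
    simp only [G, show (-1 : ℤ) ≤ 0 by norm_num, if_true, show (- -(1 : ℤ)).toNat = 0 + 1 by norm_num] at hmem
    have : d f 0 ⟨_, hmem⟩ ∈ LinearMap.range (d f 0) := ⟨_, rfl⟩
    rw [range_d_zero] at this
    obtain ⟨t, ht, hte⟩ := this
    rw [hker]
    have hte' : algebraMap A _ t = D (functional f) (e.ψ (-1) x) := congrArg Subtype.val hte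
    rw [← hc, ← hr] at hte'
    rwa [← ExteriorAlgebra.algebraMap_leftInverse _ |>.injective hte']
  let m : ∀ i, C.X i →+ T.X i := fun i =>
    if hi : i = 0 then by subst hi; exact (ε.symm.toLinearMap.toAddMonoidHom.comp φ.toAddMonoidHom).comp r.toAddMonoidHom
    else 0
  have m0 : ∀ x, m 0 x = ε.symm (φ (r x)) := fun x => rfl
  refine ⟨⟨m, fun i a x => ?_, fun i y => ?_, fun i j hij x => ?_, fun i j k hij hjk z hz hdz => ?_⟩⟩
  · by_cases hi : i = 0
    · subst hi
      rw [m0, m0, map_smul, smul_eq_mul, map_mul, ← smul_eq_mul, map_smul]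
    · exact (hsub i hi).elim _ _
  · by_cases hi : i = 0
    · subst hi
      obtain ⟨t, ht⟩ := hφ (ε y)
      obtain ⟨x, hx⟩ := hrsurj t
      exact ⟨x, by rw [m0, hx, ht, LinearEquiv.symm_apply_apply]⟩
    · exact ⟨0, (hsub i hi).elim _ _⟩
  · by_cases hj : j = 0
    · subst hj
      obtain rfl : i = -1 := by omega
      rw [m0, RingHom.mem_ker.1 (hrd x), map_zero, show T.d (-1) 0 = 0 from HomologicalComplex.single_obj_d _ _ _ _ _]
      rfl
    · exact (hsub j hj).elim _ _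
  · by_cases hj : j = 0
    · subst hj
      obtain rfl : i = -1 := by omega
      rw [m0, LinearEquiv.map_eq_zero_iff, ← RingHom.mem_ker, hker] at hz
      have : e0 (r z) ∈ LinearMap.range (d f 0) := by
        rw [range_d_zero]
        exact ⟨_, hz, rfl⟩
      obtain ⟨y, hy⟩ := this
      have hy' : y.1 ∈ G A n (-1) := by
        simp only [G, show (-1 : ℤ) ≤ 0 by norm_num, if_true, show (- -(1 : ℤ)).toNat = 0 + 1 by norm_num]
        exact y.2
      obtain ⟨w, hw⟩ := (e.range (-1)).ge hy'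
      refine ⟨w, rfl, e.inj 0 ?_⟩
      refine (e.comm (-1) w).trans ?_
      rw [hw, ← hr]
      exact congrArg Subtype.val hy
    · obtain ⟨w, hw⟩ := (exAt_iff C hij hjk).1 (hf j hj) z hdz
      by_cases hi : i = 0
      · subst hi
        obtain rfl : j = 1 := by omega
        have : e.ψ 1 z ∈ G A n 1 := (e.range _).le ⟨z, rfl⟩
        simp only [G, show ¬(1 : ℤ) ≤ 0 by norm_num, if_false, Submodule.mem_bot] at this
        refine ⟨0, map_zero _, ?_⟩
        rw [map_zero]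
        exact (e.inj 1 (this.trans (map_zero _).symm)).symm
      · exact ⟨w, (hsub i hi).elim _ _, hw⟩

theorem res_append : ∀ (l : List A) {m : List A},
    Nonempty (Res φ (_root_.Koszul.koszul A m) (_root_.Koszul.koszul B [])) →
    Nonempty (Res φ (_root_.Koszul.koszul A (l ++ m)) (_root_.Koszul.koszul B (l.map φ)))
  | [], _, h => h
  | a :: l, _, h => (res_append l h).elim fun r => r.cone a

/-- Concatenation of a Koszul regular sequence and lifts of one in the quotient. -/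
theorem isKoszulRegularSeq_append (hφ : Function.Surjective φ) {l m : List A}
    (hker : RingHom.ker φ = Ideal.ofList m) (hm : LCI.IsKoszulRegularSeq A m)
    (hl : LCI.IsKoszulRegularSeq B (l.map φ)) : LCI.IsKoszulRegularSeq A (l ++ m) := by
  have h : Nonempty (Res φ (_root_.Koszul.koszul A m) (_root_.Koszul.koszul B [])) := by
    rw [← List.ofFn_get m] at hm ⊢
    exact exists_res hφ _ (hker.trans (by rw [Set.range_list_get])) hm
  obtain ⟨r⟩ := res_append l h
  intro j hj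
  exact (exAt_iff _ (sub_add_cancel j 1) rfl).2
    (r.exAt (sub_add_cancel j 1) rfl ((exAt_iff _ (sub_add_cancel j 1) rfl).1 (hl j hj)))

end Groth.Agent.CAlgH.KoszulAppend
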