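import Groth.Agent.CAlgH.KoszulChart
import Groth.Agent.CAlgH.KoszulAppend

/-!
# Koszul regular immersions: flat base change and composition
-/

universe u

set_option autoImplicit false
set_option backward.isDefEq.respectTransparency false

open CategoryTheory CategoryTheory.Limits AlgebraicGeometry

namespace Groth.Agent.CAlgH.KoszulImmersion

variable {X Y Z X' Y' : Scheme.{u}}

theorem baseChange_flat (i : Y ⟶ X) (g : X' ⟶ X) [Flat g] (i' : Y' ⟶ X') (g' : Y' ⟶ Y)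
    (hsq : IsPullback g' i' i g) (hi : RegImm.IsRegularImmersion .koszul i) :
    RegImm.IsRegularImmersion .koszul i' := by
  refine ⟨MorphismProperty.of_isPullback (P := @IsImmersion) hsq hi.1, fun z => ?_⟩
  obtain ⟨⟨U, hU⟩, hz, hc, rs, hrs, hker⟩ := hi.2 (g' z)
  have hgz : i' z ∈ g ⁻¹ᵁ U := by
    show g (i' z) ∈ U
    rwa [← Scheme.Hom.comp_apply, ← hsq.w, Scheme.Hom.comp_apply]
  obtain ⟨_, ⟨U', hU', rfl⟩, hzU', hle⟩ :=
    X'.isBasis_affineOpens.exists_subset_of_mem_open hgz (g ⁻¹ᵁ U).2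
  obtain ⟨h1, h2⟩ := KoszulChart.baseChange i g i' g' hsq hU hU' hle
  exact ⟨⟨U', hU'⟩, hzU', h1, _,
    KoszulChart.isKoszulRegularSeq_map (HasRingHomProperty.appLE @Flat g ‹_› ⟨U, hU⟩ ⟨U', hU'⟩ hle) hrs,
    by rw [h2, hker, Ideal.map_ofList]⟩

theorem chart_comp (i : Y ⟶ X) (j : Z ⟶ Y) [IsImmersion j] {U : X.Opens} (hU : IsAffineOpen U)
    [IsClosedImmersion (i ∣_ U)] {V : Y.Opens} (hV : IsAffineOpen V) [IsClosedImmersion (j ∣_ V)] (z : Z)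
    (hz : i (j z) ∈ U) (hzV : j z ∈ V) {rs : List Γ(X, U)} (hrs : LCI.IsKoszulRegularSeq Γ(X, U) rs)
    (hker : RingHom.ker (i.app U).hom = Ideal.ofList rs) {ss : List Γ(Y, V)}
    (hss : LCI.IsKoszulRegularSeq Γ(Y, V) ss) (hkerj : RingHom.ker (j.app V).hom = Ideal.ofList ss) :
    ∃ U' : X.affineOpens, i (j z) ∈ U'.1 ∧ IsClosedImmersion ((j ≫ i) ∣_ U'.1) ∧
      ∃ ts : List Γ(X, U'.1), ts.length = ss.length + rs.length ∧ LCI.IsKoszulRegularSeq Γ(X, U'.1) ts ∧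
        RingHom.ker ((j ≫ i).app U'.1).hom = Ideal.ofList ts := by
  obtain ⟨O, hO, hOeq⟩ := (IsClosedImmersion.base_closed (f := i ∣_ U)).toIsEmbedding.toIsInducing.isOpen_iff.1
    (show IsOpen ((i ⁻¹ᵁ U).ι ⁻¹ᵁ V : Set (i ⁻¹ᵁ U).toScheme) from ((i ⁻¹ᵁ U).ι ⁻¹ᵁ V).2)
  let O' : X.Opens := U.ι ''ᵁ ⟨O, hO⟩
  have hmemO : ∀ w : (i ⁻¹ᵁ U).toScheme, i ((i ⁻¹ᵁ U).ι w) ∈ O' ↔ (i ⁻¹ᵁ U).ι w ∈ V := by
    intro w
    have h1 : ((i ∣_ U) w ∈ O) ↔ (i ⁻¹ᵁ U).ι w ∈ V := Set.ext_iff.1 hOeq w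
    rw [← h1, ← Scheme.Hom.comp_apply, ← morphismRestrict_ι, Scheme.Hom.comp_apply]
    exact U.ι.isOpenEmbedding.injective.mem_set_image
  obtain ⟨a, hale, hza⟩ := hU.exists_basicOpen_le (V := O') ⟨i (j z), (hmemO ⟨j z, hz⟩).2 hzV⟩ hz
  have hD := hU.basicOpen a
  have hWV : i ⁻¹ᵁ X.basicOpen a ≤ V := fun y hy => (hmemO ⟨y, X.basicOpen_le a hy⟩).1 (hale hy)
  obtain ⟨hiD, rs', hlr, hrs', hker'⟩ := KoszulChart.koszul_restrict i hU hD (X.basicOpen_le a) hrs hker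
  have hW : IsAffineOpen (i ⁻¹ᵁ X.basicOpen a) := by
    have : IsAffine (X.basicOpen a).toScheme := hD
    exact isAffine_of_isAffineHom (i ∣_ X.basicOpen a)
  obtain ⟨hjW, ss', hls, hss', hkerj'⟩ := KoszulChart.koszul_restrict j hV hW hWV hss hkerj
  refine ⟨⟨_, hD⟩, hza, by rw [morphismRestrict_comp]; infer_instance, ?_⟩
  have hsurj := RegImmStalk.app_surjective_of_restrict i hD
  let ls : List Γ(X, X.basicOpen a) := ss'.map (Function.surjInv hsurj)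
  have hls' : ls.map (i.app (X.basicOpen a)).hom = ss' := by
    rw [List.map_map, show (i.app (X.basicOpen a)).hom ∘ Function.surjInv hsurj = id from
      funext (Function.surjInv_eq hsurj), List.map_id]
  refine ⟨ls ++ rs', by simp [ls, hlr, hls],
    KoszulAppend.isKoszulRegularSeq_append hsurj hker' hrs' (hls' ▸ hss'), ?_⟩
  rw [Scheme.Hom.comp_app, CommRingCat.hom_comp, ← RingHom.comap_ker, hkerj', ← hls', ← Ideal.map_ofList,
    Ideal.comap_map_of_surjective _ hsurj, ← RingHom.ker_eq_comap_bot, hker', Ideal.ofList_append]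

theorem comp (i : Y ⟶ X) (j : Z ⟶ Y) (hi : RegImm.IsRegularImmersion .koszul i)
    (hj : RegImm.IsRegularImmersion .koszul j) : RegImm.IsRegularImmersion .koszul (j ≫ i) := by
  have := hi.1
  have := hj.1
  refine ⟨inferInstance, fun z => ?_⟩
  obtain ⟨⟨U, hU⟩, hz, hc, rs, hrs, hker⟩ := hi.2 (j z)
  obtain ⟨⟨V, hV⟩, hzV, hcV, ss, hss, hkerj⟩ := hj.2 z
  obtain ⟨U', h1, h2, ts, -, h3, h4⟩ := chart_comp i j hU hV z hz hzV hrs hker hss hkerj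
  exact ⟨U', by rw [Scheme.Hom.comp_apply]; exact h1, h2, ts, h3, h4⟩

theorem comp_codim {n m : ℕ} (i : Y ⟶ X) (j : Z ⟶ Y) (hi : RegImm.IsRegularImmersionOfCodim .koszul n i)
    (hj : RegImm.IsRegularImmersionOfCodim .koszul m j) :
    RegImm.IsRegularImmersionOfCodim .koszul (m + n) (j ≫ i) := by
  have := hi.1
  have := hj.1
  refine ⟨inferInstance, fun z => ?_⟩
  obtain ⟨⟨U, hU⟩, hz, hc, rs, hlr, hrs, hker⟩ := hi.2 (j z)
  obtain ⟨⟨V, hV⟩, hzV, hcV, ss, hls, hss, hkerj⟩ := hj.2 z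
  obtain ⟨U', h1, h2, ts, hlt, h3, h4⟩ := chart_comp i j hU hV z hz hzV hrs hker hss hkerj
  exact ⟨U', by rw [Scheme.Hom.comp_apply]; exact h1, h2, ts, by rw [hlt, hls, hlr], h3, h4⟩

end Groth.Agent.CAlgH.KoszulImmersion
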