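import Groth.Agent.CAlgH.RegImmStalk
import Groth.Agent.FSchLib.IdealSheaf
import Groth.Agent.CAlgH.KoszulRegular

/-!
# Charts of immersions: base change and restriction
-/

universe u

set_option autoImplicit false
set_option backward.isDefEq.respectTransparency false

open CategoryTheory CategoryTheory.Limits AlgebraicGeometry

namespace Groth.Agent.CAlgH.KoszulChart

variable {X Y X' Y' : Scheme.{u}}

theorem ker_app_eq_map (i : Y ⟶ X) (g : X' ⟶ X) (i' : Y' ⟶ X') (U : X.Opens) (U' : X'.Opens)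
    (e : U' ≤ g ⁻¹ᵁ U)
    (h : RingHom.ker ((i' ∣_ U').app ⊤).hom =
      (RingHom.ker ((i ∣_ U).app ⊤).hom).map ((g.resLE U U' e).appLE ⊤ ⊤ le_top).hom) :
    RingHom.ker (i'.app U').hom = (RingHom.ker (i.app U).hom).map (g.appLE U U' e).hom := by
  have key : ∀ {V : X.Opens} {V' : X'.Opens}, U.ι ''ᵁ ⊤ = V → U'.ι ''ᵁ ⊤ = V' → ∀ e' : V' ≤ g ⁻¹ᵁ V,
      RingHom.ker (i'.app V').hom = (RingHom.ker (i.app V).hom).map (g.appLE V V' e').hom := by
    rintro V V' rfl rfl e'
    rw [morphismRestrict_app, morphismRestrict_app, Scheme.Hom.resLE_appLE, CommRingCat.hom_comp, CommRingCat.hom_comp,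
      RingHom.ker_comp_of_injective _ (ConcreteCategory.bijective_of_isIso _).1,
      RingHom.ker_comp_of_injective _ (ConcreteCategory.bijective_of_isIso _).1] at h
    exact h
  exact key (Scheme.Opens.ι_image_top U) (Scheme.Opens.ι_image_top U') e

/-- Base change of a chart of an immersion. -/
theorem baseChange (i : Y ⟶ X) (g : X' ⟶ X) (i' : Y' ⟶ X') (g' : Y' ⟶ Y) (hsq : IsPullback g' i' i g)
    {U : X.Opens} (hU : IsAffineOpen U) [IsClosedImmersion (i ∣_ U)] {U' : X'.Opens} (hU' : IsAffineOpen U')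
    (e : U' ≤ g ⁻¹ᵁ U) :
    IsClosedImmersion (i' ∣_ U') ∧
      RingHom.ker (i'.app U').hom = (RingHom.ker (i.app U).hom).map (g.appLE U U' e).hom := by
  let r := g.resLE U U' e
  have hP := isPullback_morphismRestrict i U
  have h0 : IsPullback (i' ∣_ U') ((i' ⁻¹ᵁ U').ι ≫ g') (r ≫ U.ι) i := by
    rw [Scheme.Hom.resLE_comp_ι]
    exact (isPullback_morphismRestrict i' U').paste_vert hsq.flip
  have hQ := IsPullback.of_bot' h0 hP
  have hs : IsClosedImmersion (i' ∣_ U') :=
    MorphismProperty.of_isPullback (P := @IsClosedImmersion) hQ.flip inferInstance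
  refine ⟨hs, ker_app_eq_map i g i' U U' e ?_⟩
  have : IsAffine U.toScheme := hU
  have : IsAffine U'.toScheme := hU'
  have hk : (i' ∣_ U').ker = (i ∣_ U).ker.comap r := by
    rw [← hQ.isoPullback_hom_fst, Scheme.Hom.ker_comp_of_isIso, Scheme.IdealSheafData.ker_fst_of_isClosedImmersion]
  have := congrArg (fun I : U'.toScheme.IdealSheafData => I.ideal ⟨⊤, isAffineOpen_top _⟩) hk
  dsimp only at this
  rw [Scheme.Hom.ker_apply, FSchLib.ideal_comap_eq_map r _ _ ⟨⊤, isAffineOpen_top _⟩ le_top, Scheme.Hom.ker_apply] at this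
  exact this

/-- Restriction of a chart to a smaller affine open. -/
theorem restrict (i : Y ⟶ X) {U : X.Opens} (hU : IsAffineOpen U) [IsClosedImmersion (i ∣_ U)] {U' : X.Opens}
    (hU' : IsAffineOpen U') (e : U' ≤ U) :
    IsClosedImmersion (i ∣_ U') ∧
      RingHom.ker (i.app U').hom = (RingHom.ker (i.app U).hom).map (X.presheaf.map (homOfLE e).op).hom := by
  obtain ⟨h1, h2⟩ := baseChange i (𝟙 X) i (𝟙 Y) IsPullback.of_id_fst hU hU' e
  refine ⟨h1, h2.trans ?_⟩
  rw [Scheme.Hom.appLE, Scheme.Hom.id_app, Category.id_comp]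

theorem flat_restrict {U U' : X.Opens} (hU : IsAffineOpen U) (hU' : IsAffineOpen U') (e : U' ≤ U) :
    (X.presheaf.map (homOfLE e).op).hom.Flat := by
  have := HasRingHomProperty.appLE @Flat (𝟙 X) inferInstance ⟨U, hU⟩ ⟨U', hU'⟩ e
  rwa [Scheme.Hom.appLE, Scheme.Hom.id_app, Category.id_comp] at this

theorem isKoszulRegularSeq_map {A B : Type u} [CommRing A] [CommRing B] {φ : A →+* B} (hφ : φ.Flat)
    {l : List A} (h : LCI.IsKoszulRegularSeq A l) : LCI.IsKoszulRegularSeq B (l.map φ) := by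
  letI := φ.toAlgebra
  have : Module.Flat A B := hφ
  rw [← List.ofFn_get l] at h ⊢
  rw [List.map_ofFn]
  exact (KoszulRegular.isKoszulRegularSeq_iff _).2 ((KoszulRegular.isKoszulRegularSeq_iff _).1 h).map

/-- A Koszul regular chart stays one on a smaller affine open. -/
theorem koszul_restrict (i : Y ⟶ X) {U : X.Opens} (hU : IsAffineOpen U) [IsClosedImmersion (i ∣_ U)] {U' : X.Opens}
    (hU' : IsAffineOpen U') (e : U' ≤ U) {rs : List Γ(X, U)} (hrs : LCI.IsKoszulRegularSeq Γ(X, U) rs)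
    (hker : RingHom.ker (i.app U).hom = Ideal.ofList rs) :
    IsClosedImmersion (i ∣_ U') ∧ ∃ ss : List Γ(X, U'), ss.length = rs.length ∧
      LCI.IsKoszulRegularSeq Γ(X, U') ss ∧ RingHom.ker (i.app U').hom = Ideal.ofList ss := by
  obtain ⟨h1, h2⟩ := restrict i hU hU' e
  exact ⟨h1, _, List.length_map _, isKoszulRegularSeq_map (flat_restrict hU hU' e) hrs,
    by rw [h2, hker, Ideal.map_ofList]⟩

end Groth.Agent.CAlgH.KoszulChart
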