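import Mathlib.Algebra.Category.Ring.Under.Basic
import Mathlib.CategoryTheory.Filtered.Basic
import Mathlib.RingTheory.FinitePresentation
import Mathlib.RingTheory.MvPolynomial.Basic

/-! A directed system of algebras as a filtered colimit in `Under R`. -/
universe u
open CategoryTheory CategoryTheory.Limits

namespace Groth.Agent.CAlgH

theorem under_colimit {R : Type u} [CommRing R] {I : Type u} [Preorder I] [Nonempty I]
    [IsDirected I (· ≤ ·)] (G : I → Type u) [∀ i, CommRing (G i)] [∀ i, Algebra R (G i)]
    (f : ∀ i j, i ≤ j → (G i →ₐ[R] G j))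
    (f_id : ∀ i, f i i le_rfl = AlgHom.id R (G i))
    (f_comp : ∀ i j k (h1 : i ≤ j) (h2 : j ≤ k), (f j k h2).comp (f i j h1) = f i k (h1.trans h2))
    {A : Type u} [CommRing A] [Algebra R A] (g : ∀ i, G i →ₐ[R] A)
    (hg : ∀ i j (h : i ≤ j), (g j).comp (f i j h) = g i)
    (hsurj : ∀ a : A, ∃ i, ∃ x : G i, g i x = a)
    (hker : ∀ i (x : G i), g i x = 0 → ∃ j, ∃ h : i ≤ j, f i j h x = 0) :
    ∃ (D : I ⥤ Under (CommRingCat.of R)) (c : Cocone D) (_ : IsColimit c),
      (∀ i, (D.obj i) = CommRingCat.mkUnder (CommRingCat.of R) (G i)) ∧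
      (∀ i j (φ : i ⟶ j), Function.Surjective (f i j φ.le) → Function.Surjective (D.map φ).right.hom) ∧
      Nonempty (c.pt ≅ Under.mk (CommRingCat.ofHom (algebraMap R A))) := by
  classical
  let D : I ⥤ Under (CommRingCat.of R) :=
    { obj := fun i => CommRingCat.mkUnder (CommRingCat.of R) (G i)
      map := fun {i j} φ => (f i j φ.le).toUnder
      map_id := fun i => by
        apply CommRingCat.mkUnder_ext; intro a
        show f i i _ a = a
        rw [f_id]; rfl
      map_comp := fun {i j k} φ ψ => by
        apply CommRingCat.mkUnder_ext; intro a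
        show f i k _ a = f j k ψ.le (f i j φ.le a)
        rw [← AlgHom.comp_apply, f_comp] }
  let c : Cocone D := Cocone.mk (CommRingCat.mkUnder (CommRingCat.of R) A)
    { app := fun i => (g i).toUnder
      naturality := fun {i j} φ => by
        apply CommRingCat.mkUnder_ext; intro a
        exact AlgHom.congr_fun (hg i j φ.le) a }
  choose idx rep hrep using hsurj
  letI : ∀ s : Cocone D, Algebra R s.pt := fun s => s.pt.hom.hom.toAlgebra
  let ψ : ∀ (s : Cocone D) i, G i →ₐ[R] s.pt := fun s i =>
    { toFun := fun x => (s.ι.app i).right.hom x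
      map_one' := map_one (s.ι.app i).right.hom
      map_mul' := map_mul (s.ι.app i).right.hom
      map_zero' := map_zero (s.ι.app i).right.hom
      map_add' := map_add (s.ι.app i).right.hom
      commutes' := fun r => (congrArg (fun e => e r) (Under.w (s.ι.app i)) :) }
  have compat : ∀ (s : Cocone D) i j (h : i ≤ j) (x : G i), ψ s j (f i j h x) = ψ s i x := by
    intro s i j h x
    exact congrArg (fun e => (CommRingCat.toAlgHom e) x) (s.w (homOfLE h))
  have well : ∀ (s : Cocone D) i j (x : G i) (y : G j), g i x = g j y → ψ s i x = ψ s j y := by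
    intro s i j x y hxy
    obtain ⟨m, h1, h2⟩ := directed_of (· ≤ ·) i j
    obtain ⟨m', hm', hz⟩ := hker m (f i m h1 x - f j m h2 y) (by
      rw [map_sub, ← AlgHom.comp_apply, ← AlgHom.comp_apply, hg, hg, hxy, sub_self])
    have := congrArg (ψ s m') hz
    rw [compat, map_zero, map_sub, compat, compat] at this
    exact sub_eq_zero.mp this
  have hH : ∀ (s : Cocone D) i (x : G i), ψ s (idx (g i x)) (rep (g i x)) = ψ s i x :=
    fun s i x => well s _ _ _ _ (hrep _)
  let desc : ∀ s : Cocone D, A →ₐ[R] s.pt := fun s =>
    { toFun := fun a => ψ s (idx a) (rep a)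
      map_one' := by
        obtain ⟨i⟩ := ‹Nonempty I›
        rw [← map_one (g i), hH]; exact map_one _
      map_mul' := fun a b => by
        obtain ⟨m, h1, h2⟩ := directed_of (· ≤ ·) (idx a) (idx b)
        have e : a * b = g m (f _ m h1 (rep a) * f _ m h2 (rep b)) := by
          rw [map_mul, ← AlgHom.comp_apply, ← AlgHom.comp_apply, hg, hg, hrep, hrep]
        show ψ s (idx (a * b)) (rep (a * b)) = _
        rw [e, hH, map_mul, compat, compat]
      map_zero' := by
        obtain ⟨i⟩ := ‹Nonempty I›
        rw [← map_zero (g i), hH]; exact map_zero _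
      map_add' := fun a b => by
        obtain ⟨m, h1, h2⟩ := directed_of (· ≤ ·) (idx a) (idx b)
        have e : a + b = g m (f _ m h1 (rep a) + f _ m h2 (rep b)) := by
          rw [map_add, ← AlgHom.comp_apply, ← AlgHom.comp_apply, hg, hg, hrep, hrep]
        show ψ s (idx (a + b)) (rep (a + b)) = _
        rw [e, hH, map_add, compat, compat]
      commutes' := fun r => by
        obtain ⟨i⟩ := ‹Nonempty I›
        show ψ s (idx (algebraMap R A r)) (rep (algebraMap R A r)) = _
        rw [← (g i).commutes r, hH]
        exact AlgHom.commutes _ r }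
  have hc : IsColimit c :=
    { desc := fun s => Under.homMk (CommRingCat.ofHom (desc s).toRingHom) (by ext r; exact (desc s).commutes r)
      fac := fun s i => by
        apply CommRingCat.mkUnder_ext; intro a
        exact hH s i a
      uniq := fun s m hm => by
        apply CommRingCat.mkUnder_ext; intro a
        show _ = ψ s (idx a) (rep a)
        show _ = (s.ι.app (idx a)).right.hom (rep a)
        rw [← hm (idx a)]
        show m.right.hom a = m.right.hom (g (idx a) (rep a))
        rw [hrep] }
  exact ⟨D, c, hc, fun i => rfl, fun i j φ h => h, ⟨Iso.refl _⟩⟩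

structure FPIdx (R A : Type u) [CommRing R] [CommRing A] [Algebra R A] : Type u where
  s : Finset A
  J : Ideal (MvPolynomial s R)
  fg : J.FG
  le : J ≤ RingHom.ker (MvPolynomial.aeval (R := R) fun a : s => (a : A)).toRingHom

end Groth.Agent.CAlgH
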