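import Groth.Agent.CAlgH3.WeakAss
import Mathlib

/-!
# Weakly associated primes under finite flat and étale base change
-/

set_option autoImplicit false

universe u

open TensorProduct IsLocalRing

namespace Groth.Agent.CAlgH.WeakAssFlat

open CAlgH3

variable {A : Type u} [CommRing A]

theorem weakAss_congr {M N : Type u} [AddCommGroup M] [Module A M] [AddCommGroup N] [Module A N]
    (e : M ≃ₗ[A] N) : FlatCA.weakAss A M = FlatCA.weakAss A N :=
  (weakAss_subset_of_injective e.toLinearMap e.injective).antisymm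
    (weakAss_subset_of_injective e.symm.toLinearMap e.symm.injective)

/-- An element whose annihilator has radical the closed point gives that point as weakly associated. -/
theorem maximal_minimalPrimes [IsLocalRing A] {J : Ideal A} (hJ : J ≠ ⊤) (h : maximalIdeal A ≤ J.radical) :
    maximalIdeal A ∈ J.minimalPrimes :=
  ⟨⟨inferInstance, le_maximalIdeal hJ⟩, fun _ hq _ => h.trans (hq.1.radical_le_iff.2 hq.2)⟩

/-- Stacks 05E0 at the closed point. -/
theorem maximal_mem_of_finite [IsLocalRing A] {C : Type u} [CommRing C] [Algebra A C] [Module.Finite A C]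
    {N : Type u} [AddCommGroup N] [Module C N] [Module A N] [IsScalarTower A C N] (u : Ideal C) [hu : u.IsPrime]
    (huc : u.comap (algebraMap A C) = maximalIdeal A) (h : u ∈ FlatCA.weakAss C N) :
    maximalIdeal A ∈ FlatCA.weakAss A N := by
  classical
  obtain ⟨x, hx⟩ := mem_weakAss.1 h
  have hmax : ∀ P : Ideal C, P.IsMaximal → P.comap (algebraMap A C) = maximalIdeal A := fun P hP =>
    eq_maximalIdeal (Ideal.isMaximal_comap_of_isIntegral_of_isMaximal P)
  have humax : u.IsMaximal := Ideal.isMaximal_of_isIntegral_of_isMaximal_comap (R := A) u (huc.symm ▸ maximalIdeal.isMaximal A)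
  have hfin : ((maximalIdeal A).primesOver C).Finite := Algebra.QuasiFinite.finite_primesOver _
  have hnot : ¬ (u : Set C) ⊆ ⋃ P ∈ hfin.toFinset.erase u, (P : Set C) := by
    intro hsub
    obtain ⟨P, hP, hle⟩ := (Ideal.subset_union_prime u u (fun P hP _ _ =>
      ((Set.Finite.mem_toFinset _).1 (Finset.mem_of_mem_erase hP)).1)).1 hsub
    exact (Finset.ne_of_mem_erase hP) (humax.eq_of_le
      ((Set.Finite.mem_toFinset _).1 (Finset.mem_of_mem_erase hP)).1.ne_top hle).symm
  obtain ⟨g, hgu, hg⟩ := Set.not_subset.1 hnot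
  have hrad : algebraMap C (Localization.AtPrime u) g ∈
      ((annEl C x).map (algebraMap C (Localization.AtPrime u))).radical := by
    rw [IsLocalization.AtPrime.radical_map_of_mem_minimalPrimes (Localization.AtPrime u) u _ hx]
    exact Ideal.mem_map_of_mem _ hgu
  obtain ⟨k, hk⟩ := hrad
  rw [← map_pow] at hk
  obtain ⟨f, hfu, hf⟩ := (IsLocalization.algebraMap_mem_map_algebraMap_iff u.primeCompl (Localization.AtPrime u) _ _).1 hk
  have hgk : g ^ k ∈ annEl C (f • x) := by
    rw [mem_annEl, smul_smul, mul_comm]; exact mem_annEl.1 hf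
  have hle : annEl C x ≤ annEl C (f • x) := fun r hr => by
    rw [mem_annEl] at hr ⊢; rw [smul_comm, hr, smul_zero]
  have hne : annEl C (f • x) ≠ ⊤ := fun h => hfu (hx.1.2 (mem_annEl.2 (annEl_eq_top.1 h)))
  have honly : ∀ P : Ideal C, P.IsPrime → annEl C (f • x) ≤ P → u ≤ P := by
    intro P hP hPle
    have hgP : g ∈ P := hP.mem_of_pow_mem k (hPle hgk)
    obtain ⟨Q, hQ, hPQ⟩ := Ideal.exists_le_maximal P hP.ne_top
    have hQu : Q = u := by
      by_contra hQu
      exact hg (Set.mem_iUnion₂.2 ⟨Q, Finset.mem_erase.2 ⟨hQu, (Set.Finite.mem_toFinset _).2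
        ⟨hQ.isPrime, ⟨(hmax Q hQ).symm⟩⟩⟩, hPQ hgP⟩)
    exact hx.2 ⟨hP, hle.trans hPle⟩ (hQu ▸ hPQ)
  refine mem_weakAss.2 ⟨f • x, maximal_minimalPrimes ?_ ?_⟩
  · rw [annEl_restrictScalars (A := C)]
    exact fun h => hne ((Ideal.eq_top_iff_one _).2 (by simpa using (Ideal.eq_top_iff_one _).1 h))
  · rw [annEl_restrictScalars (A := C), ← Ideal.comap_radical, ← huc]
    refine Ideal.comap_mono ?_
    rw [Ideal.radical_eq_sInf]
    exact le_sInf fun P hP => honly P hP.2 hP.1

theorem maximal_mem_of_finsupp [IsLocalRing A] {M : Type u} [AddCommGroup M] [Module A M] {ι : Type u}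
    (h : maximalIdeal A ∈ FlatCA.weakAss A (ι →₀ M)) : maximalIdeal A ∈ FlatCA.weakAss A M := by
  obtain ⟨z, hz⟩ := mem_weakAss.1 h
  obtain ⟨i, hi⟩ : ∃ i, z i ≠ 0 := by
    by_contra! hc
    exact hz.1.1.ne_top (top_le_iff.1 ((annEl_eq_top.2 (Finsupp.ext fun i => by simpa using hc i)).ge.trans hz.1.2))
  refine mem_weakAss.2 ⟨z i, maximal_minimalPrimes (fun h => hi (annEl_eq_top.1 h)) ?_⟩
  have hle : annEl A z ≤ annEl A (z i) := fun r hr => by
    rw [mem_annEl] at hr ⊢; rw [← Finsupp.smul_apply, hr]; rfl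
  exact ((radical_eq_maximalIdeal_iff _).2 hz).ge.trans (Ideal.radical_mono hle)

/-- Over a local base, at a prime over the closed point of a finite free algebra. -/
theorem maximal_mem_iff [IsLocalRing A] {C : Type u} [CommRing C] [Algebra A C] [Module.Finite A C]
    [Module.Flat A C] (M : Type u) [AddCommGroup M] [Module A M] (u : Ideal C) [hu : u.IsPrime]
    (huc : u.comap (algebraMap A C) = maximalIdeal A) :
    u ∈ FlatCA.weakAss C (C ⊗[A] M) ↔ maximalIdeal A ∈ FlatCA.weakAss A M := by
  classical
  constructor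
  · intro h
    have : Module.Free A C := Module.free_of_flat_of_isLocalRing
    have h1 := maximal_mem_of_finite u huc h
    let b := Module.Free.chooseBasis A C
    exact maximal_mem_of_finsupp (ι := Module.Free.ChooseBasisIndex A C)
      ((weakAss_congr (TensorProduct.congr b.repr (.refl A M) ≪≫ₗ TensorProduct.finsuppScalarLeft A M (Module.Free.ChooseBasisIndex A C))).le h1)
  · intro h
    obtain ⟨m, hm⟩ := mem_weakAss.1 h
    refine mem_weakAss.2 ⟨1 ⊗ₜ m, ⟨hu, fun c hc => ?_⟩, fun P hP hPu => ?_⟩
    · let q : (A ⧸ annEl A m) →ₗ[A] M := Submodule.liftQ (annEl A m) (LinearMap.toSpanSingleton A M m)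
        (fun r hr => mem_annEl.1 hr)
      have hq : Function.Injective q := by
        rw [← LinearMap.ker_eq_bot]
        refine Submodule.ker_liftQ_eq_bot _ _ _ fun r hr => mem_annEl.2 hr
      have hc' : c • ((1 : C) ⊗ₜ[A] m) = 0 := mem_annEl.1 hc
      have h0 : LinearMap.lTensor C q (c ⊗ₜ[A] Submodule.Quotient.mk 1) = 0 := by
        rw [LinearMap.lTensor_tmul, Submodule.liftQ_apply, LinearMap.toSpanSingleton_apply, one_smul]
        rw [TensorProduct.smul_tmul', smul_eq_mul, mul_one] at hc'
        exact hc'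
      have h1 := (map_eq_zero_iff _ (Module.Flat.lTensor_preserves_injective_linearMap q hq)).1 h0
      have h2 : c ∈ (annEl A m).map (algebraMap A C) := by
        have := congrArg (TensorProduct.tensorQuotEquivQuotSMul C (annEl A m)) h1
        rw [map_zero] at this
        rw [show (Submodule.Quotient.mk (1 : A) : A ⧸ annEl A m) = Ideal.Quotient.mk _ 1 from rfl,
          TensorProduct.tensorQuotEquivQuotSMul_tmul_mk, one_smul, Submodule.Quotient.mk_eq_zero,
          Ideal.smul_top_eq_map] at this
        exact this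
      exact Ideal.map_le_iff_le_comap.2 (huc ▸ hm.1.2) h2
    · have := hP.1
      have hle : annEl A m ≤ P.comap (algebraMap A C) := fun r hr => hP.2 (mem_annEl.2 (by
        rw [algebraMap_smul, TensorProduct.smul_tmul', TensorProduct.smul_tmul, mem_annEl.1 hr,
          TensorProduct.tmul_zero]))
      have h3 : maximalIdeal A ≤ P.comap (algebraMap A C) :=
        hm.2 ⟨inferInstance, hle⟩ (le_maximalIdeal (Ideal.IsPrime.ne_top inferInstance))
      have hPmax : P.IsMaximal := Ideal.isMaximal_of_isIntegral_of_isMaximal_comap (R := A) P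
        (((maximalIdeal.isMaximal A).eq_of_le (Ideal.IsPrime.ne_top inferInstance) h3) ▸ maximalIdeal.isMaximal A)
      exact (hPmax.eq_of_le hu.ne_top hPu).ge

/-- Localising the algebra. -/
theorem tensor_localized_iff {C : Type u} [CommRing C] [Algebra A C] (S : Submonoid C) (C' : Type u) [CommRing C']
    [Algebra C C'] [Algebra A C'] [IsScalarTower A C C'] [IsLocalization S C']
    (M : Type u) [AddCommGroup M] [Module A M] (u : Ideal C) [u.IsPrime] (hd : Disjoint (S : Set C) (u : Set C)) :
    u ∈ FlatCA.weakAss C (C ⊗[A] M) ↔ u.map (algebraMap C C') ∈ FlatCA.weakAss C' (C' ⊗[A] M) :=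
  weakAss_localized_iff S C' (AlgebraTensorModule.rTensor A M (Algebra.linearMap C C')) u inferInstance hd

theorem mem_iff_aux {C : Type u} [CommRing C] [Algebra A C] [Module.Finite A C] [Module.Flat A C]
    (p : Ideal A) [p.IsPrime] (Ap : Type u) [CommRing Ap] [Algebra A Ap] [IsLocalization.AtPrime Ap p]
    (Cp : Type u) [CommRing Cp] [Algebra C Cp] [Algebra A Cp] [Algebra Ap Cp] [IsScalarTower A C Cp]
    [IsScalarTower A Ap Cp] [IsLocalization (Algebra.algebraMapSubmonoid C p.primeCompl) Cp]
    (M : Type u) [AddCommGroup M] [Module A M] (u : Ideal C) [u.IsPrime] [u.LiesOver p] :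
    u ∈ FlatCA.weakAss C (C ⊗[A] M) ↔ p ∈ FlatCA.weakAss A M := by
  haveI : IsLocalRing Ap := IsLocalization.AtPrime.isLocalRing Ap p
  haveI hpo : Algebra.IsPushout A Ap C Cp := (Algebra.isPushout_of_isLocalization p.primeCompl Ap C Cp).symm
  haveI : Module.Finite Ap Cp := Module.Finite.equiv hpo.out.equiv
  haveI : Module.Flat Ap Cp := Module.Flat.isBaseChange A Ap C Cp hpo.out
  have hd : Disjoint (Algebra.algebraMapSubmonoid C p.primeCompl : Set C) (u : Set C) := by
    rw [Set.disjoint_left]
    rintro _ ⟨a, ha, rfl⟩ hau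
    exact ha ((u.over_def p).ge hau)
  have hdp : Disjoint (p.primeCompl : Set A) (p : Set A) := Set.disjoint_left.2 fun _ h => h
  haveI hu' : (u.map (algebraMap C Cp)).IsPrime :=
    IsLocalization.isPrime_of_isPrime_disjoint _ Cp u inferInstance hd
  have hpm : p.map (algebraMap A Ap) = maximalIdeal Ap := IsLocalization.AtPrime.map_eq_maximalIdeal p Ap
  have huc : (u.map (algebraMap C Cp)).comap (algebraMap Ap Cp) = maximalIdeal Ap := by
    refine ((maximalIdeal.isMaximal Ap).eq_of_le (Ideal.IsPrime.ne_top inferInstance) ?_).symm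
    rw [← hpm, Ideal.map_le_iff_le_comap, Ideal.comap_comap, ← IsScalarTower.algebraMap_eq,
      IsScalarTower.algebraMap_eq A C Cp, ← Ideal.comap_comap,
      ← Ideal.under_def C, IsLocalization.comap_map_of_isPrime_disjoint _ Cp inferInstance hd]
    exact (u.over_def p).le
  rw [tensor_localized_iff (Algebra.algebraMapSubmonoid C p.primeCompl) Cp M u hd,
    ← weakAss_congr (AlgebraTensorModule.cancelBaseChange A Ap Cp Cp M), maximal_mem_iff (A := Ap) (Ap ⊗[A] M) _ huc,
    weakAss_localized_iff p.primeCompl Ap (TensorProduct.mk A Ap M 1) p inferInstance hdp, hpm]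

/-- Weakly associated primes and finite flat base change. -/
theorem mem_iff {C : Type u} [CommRing C] [Algebra A C] [Module.Finite A C] [Module.Flat A C]
    (M : Type u) [AddCommGroup M] [Module A M] (p : Ideal A) [p.IsPrime] (u : Ideal C) [u.IsPrime] [u.LiesOver p] :
    u ∈ FlatCA.weakAss C (C ⊗[A] M) ↔ p ∈ FlatCA.weakAss A M := by
  let Cp := Localization (Algebra.algebraMapSubmonoid C p.primeCompl)
  exact mem_iff_aux p (Localization.AtPrime p) Cp M u

/-- The same for étale algebras, locally a localisation of finite free ones. -/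
theorem mem_iff_of_etale {B : Type u} [CommRing B] [Algebra A B] [Algebra.Etale A B]
    (M : Type u) [AddCommGroup M] [Module A M] (p : Ideal A) [p.IsPrime] (u : Ideal B) [u.IsPrime] [u.LiesOver p] :
    u ∈ FlatCA.weakAss B (B ⊗[A] M) ↔ p ∈ FlatCA.weakAss A M := by
  obtain ⟨g, hg, hst⟩ := Algebra.IsEtaleAt.exists_isStandardEtale (R := A) u
  obtain ⟨P⟩ := hst.nonempty_standardEtalePresentation
  let C := AdjoinRoot P.P.f
  let h : C := AdjoinRoot.mk P.P.f P.P.g
  let e : Localization.Away g ≃ₐ[A] Localization.Away h := P.equivRing.trans P.P.equivAwayAdjoinRoot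
  let Bg := Localization.Away g
  have hdg : Disjoint (Submonoid.powers g : Set B) (u : Set B) := by
    rw [Set.disjoint_left]; rintro _ ⟨n, rfl⟩ hn
    exact hg (Ideal.IsPrime.mem_of_pow_mem inferInstance n hn)
  rw [tensor_localized_iff (Submonoid.powers g) Bg M u hdg]
  haveI hu' : (u.map (algebraMap B Bg)).IsPrime :=
    IsLocalization.isPrime_of_isPrime_disjoint (Submonoid.powers g) Bg u inferInstance hdg
  letI : Algebra C Bg := ((e.symm : Localization.Away h →ₐ[A] Bg).comp (IsScalarTower.toAlgHom A C _)).toRingHom.toAlgebra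
  haveI : IsScalarTower A C Bg := IsScalarTower.of_algHom
    ((e.symm : Localization.Away h →ₐ[A] Bg).comp (IsScalarTower.toAlgHom A C _))
  haveI : IsLocalization.Away h Bg :=
    IsLocalization.isLocalization_of_algEquiv (Submonoid.powers h)
      (AlgEquiv.ofRingEquiv (f := e.symm.toRingEquiv) (fun x => rfl))
  haveI : Module.Finite A C := P.P.monic_f.finite_adjoinRoot
  haveI : Module.Free A C := P.P.monic_f.free_adjoinRoot
  let v : Ideal C := (u.map (algebraMap B Bg)).comap (algebraMap C Bg)
  have hdv : Disjoint (Submonoid.powers h : Set C) (v : Set C) :=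
    (IsLocalization.disjoint_under_iff (Submonoid.powers h) (S := Bg) (u.map (algebraMap B Bg))).2 hu'.ne_top
  have hv : v.map (algebraMap C Bg) = u.map (algebraMap B Bg) :=
    IsLocalization.map_comap (Submonoid.powers h) Bg _
  haveI : v.LiesOver p := ⟨by
    rw [Ideal.under_def]
    simp only [v]
    rw [Ideal.comap_comap, ← IsScalarTower.algebraMap_eq, IsScalarTower.algebraMap_eq A B Bg,
      ← Ideal.comap_comap, ← Ideal.under_def B, IsLocalization.comap_map_of_isPrime_disjoint (Submonoid.powers g) Bg inferInstance hdg]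
    exact u.over_def p⟩
  rw [← hv, ← tensor_localized_iff (Submonoid.powers h) Bg M v hdv]
  exact mem_iff M p v

end Groth.Agent.CAlgH.WeakAssFlat
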