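import Groth.Agent.CAlgH.EtaleApprox
import Groth.Agent.CAlgH.GRingCompletion
import Groth.Agent.CAlgH.GRingFiniteType
import Groth.Agent.HenselLib.Lift
import Groth.Agent.HenselLib.Perm
import Groth.Agent.HenselLib.FPColim
import Mathlib

/-! Artin approximation: points in henselian pairs and in étale algebras, also for finitary functors. -/

set_option autoImplicit false
set_option linter.style.haveILetI false
universe u

open IsLocalRing CategoryTheory

namespace Groth.Agent.CAlgH.Approximation

variable {A T : Type u} [CommRing A] [IsNoetherianRing A] [CommRing T] [IsNoetherianRing T] [Algebra A T]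

/-- Formal points are approximated by points when the base is henselian along `I`. -/
theorem exists_point (hreg : CAlg.IsRegularHom A T) (I : Ideal A) [HenselianRing A I] (k : ℕ)
    (π : T →ₐ[A] A ⧸ I ^ (k + 1)) (C : Type u) [CommRing C] [Algebra A C]
    [hfp : Algebra.FinitePresentation A C] (φ : C →ₐ[A] T) :
    ∃ σ : C →ₐ[A] A, (Ideal.Quotient.mkₐ A (I ^ (k + 1))).comp σ = π.comp φ := by
  obtain ⟨B, _, _, hB, g, h, hgh⟩ := Popescu.indSmooth_of_isRegularHom hreg C hfp φ
  haveI := hB
  haveI : HenselianRing A (I ^ (k + 1)) := HenselLib.henselianRing_of_le (Ideal.pow_le_self (Nat.succ_ne_zero k))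
  obtain ⟨τ, hτ⟩ := HenselLib.exists_lift_of_smooth (I ^ (k + 1)) (π.comp h)
  refine ⟨τ.comp g, ?_⟩
  rw [← AlgHom.comp_assoc, hτ, AlgHom.comp_assoc, hgh]

/-- Formal points are approximated by points of étale algebras. -/
theorem exists_etale_factor [IsLocalRing T] [IsAdicComplete (maximalIdeal T) T]
    (hreg : CAlg.IsRegularHom A T) (M : Submonoid A) (hM : ∀ s ∈ M, IsUnit (algebraMap A T s))
    (hdense : ∀ (j : ℕ) (y : T), ∃ r : A, ∃ s ∈ M, algebraMap A T s * y - algebraMap A T r ∈ maximalIdeal T ^ j)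
    (C : Type u) [CommRing C] [Algebra A C] [hfp : Algebra.FinitePresentation A C] (φ : C →ₐ[A] T) (N : ℕ) :
    ∃ (A' : Type u) (_ : CommRing A') (_ : Algebra A A'), Algebra.Etale A A' ∧
      ∃ (ψ : A' →ₐ[A] T) (γ : C →ₐ[A] A'), ∀ y, ψ (γ y) - φ y ∈ maximalIdeal T ^ N := by
  obtain ⟨B, _, _, hB, g, h, hgh⟩ := Popescu.indSmooth_of_isRegularHom hreg C hfp φ
  haveI := hB
  haveI : Algebra.IsSmoothAt A ((maximalIdeal T).comap h.toRingHom) := inferInstance
  obtain ⟨A', _, _, hA', ψ, γ, hψ⟩ := EtaleApprox.exists_etale_point h M hM hdense N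
  refine ⟨A', inferInstance, inferInstance, hA', ψ, γ.comp g, fun y => ?_⟩
  rw [← hgh]
  exact hψ (g y)

/-- A ring map out of a finite type algebra, as a morphism under `A`. -/
abbrev underHom {C D : Type u} [CommRing C] [Algebra A C] [CommRing D] [Algebra A D] (σ : C →ₐ[A] D) :
    Under.mk (CommRingCat.ofHom (algebraMap A C)) ⟶ Under.mk (CommRingCat.ofHom (algebraMap A D)) :=
  Under.homMk (CommRingCat.ofHom σ.toRingHom) (CommRingCat.hom_ext σ.comp_algebraMap)

variable (F : Under (CommRingCat.of A) ⥤ Type u)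
  (hF : ∀ (J : Type u) [SmallCategory J] [IsFiltered J], Limits.PreservesColimitsOfShape J F)

include hF in
/-- Elements of a finitary functor over `T` come from finitely presented algebras. -/
theorem exists_fp_element (ξ : F.obj (Under.mk (CommRingCat.ofHom (algebraMap A T)))) :
    ∃ (C : Type u) (_ : CommRing C) (_ : Algebra A C) (_ : Algebra.FinitePresentation A C)
      (φ : C →ₐ[A] T) (x : F.obj (Under.mk (CommRingCat.ofHom (algebraMap A C)))), F.map (underHom φ) x = ξ := by
  obtain ⟨j, x, hx⟩ := HenselLib.FPColim.exists_descend F hF T ξ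
  exact ⟨j.R, inferInstance, inferInstance, Algebra.FinitePresentation.quotient j.fg, j.ev, x, hx⟩

include hF in
/-- Approximation of elements of finitary functors, henselian case. -/
theorem exists_element (hreg : CAlg.IsRegularHom A T) (I : Ideal A) [HenselianRing A I] (k : ℕ)
    (π : T →ₐ[A] A ⧸ I ^ (k + 1)) (ξ : F.obj (Under.mk (CommRingCat.ofHom (algebraMap A T)))) :
    ∃ η : F.obj (Under.mk (CommRingCat.ofHom (algebraMap A A))),
      F.map (underHom (Ideal.Quotient.mkₐ A (I ^ (k + 1)))) η = F.map (underHom π) ξ := by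
  obtain ⟨C, _, _, _, φ, x, rfl⟩ := exists_fp_element F hF ξ
  obtain ⟨σ, hσ⟩ := exists_point hreg I k π C φ
  have h1 : underHom σ ≫ underHom (Ideal.Quotient.mkₐ A (I ^ (k + 1))) = underHom φ ≫ underHom π :=
    Under.UnderMorphism.ext (CommRingCat.hom_ext (RingHom.ext fun c => congr($hσ c)))
  refine ⟨F.map (underHom σ) x, ?_⟩
  rw [← Functor.map_comp_apply, h1, Functor.map_comp_apply]

include hF in
/-- Approximation of elements of finitary functors by étale algebras. -/
theorem exists_etale_element [IsLocalRing T] [IsAdicComplete (maximalIdeal T) T]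
    (hreg : CAlg.IsRegularHom A T) (M : Submonoid A) (hM : ∀ s ∈ M, IsUnit (algebraMap A T s))
    (hdense : ∀ (j : ℕ) (y : T), ∃ r : A, ∃ s ∈ M, algebraMap A T s * y - algebraMap A T r ∈ maximalIdeal T ^ j)
    {D : Type u} [CommRing D] [Algebra A D] (π : T →ₐ[A] D) (N : ℕ) (hπ : ∀ y ∈ maximalIdeal T ^ N, π y = 0)
    (ξ : F.obj (Under.mk (CommRingCat.ofHom (algebraMap A T)))) :
    ∃ (A' : Type u) (_ : CommRing A') (_ : Algebra A A') (_ : Algebra.Etale A A') (ψ : A' →ₐ[A] D)
      (ξ' : F.obj (Under.mk (CommRingCat.ofHom (algebraMap A A')))),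
      F.map (underHom ψ) ξ' = F.map (underHom π) ξ := by
  obtain ⟨C, _, _, _, φ, x, rfl⟩ := exists_fp_element F hF ξ
  obtain ⟨A', _, _, hA', ψ, γ, hγ⟩ := exists_etale_factor hreg M hM hdense C φ N
  refine ⟨A', inferInstance, inferInstance, hA', π.comp ψ, F.map (underHom γ) x, ?_⟩
  have h1 : underHom γ ≫ underHom (π.comp ψ) = underHom φ ≫ underHom π :=
    Under.UnderMorphism.ext (CommRingCat.hom_ext (RingHom.ext fun c => by
      show π (ψ (γ c)) = π (φ c)
      rw [← sub_eq_zero, ← map_sub]
      exact hπ _ (hγ c)))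
  rw [← Functor.map_comp_apply, h1, Functor.map_comp_apply]

omit [IsNoetherianRing A] in
/-- The kernel of evaluation on the completion. -/
theorem mem_map_pow {I : Ideal A} (hI : I.FG) {N : ℕ} {x : AdicCompletion I A}
    (h : AdicCompletion.evalₐ I N x = 0) : x ∈ (I ^ N).map (algebraMap A (AdicCompletion I A)) := by
  have h1 : x ∈ (I ^ N • ⊤ : Submodule A (AdicCompletion I A)) := by
    rw [AdicCompletion.pow_smul_top_eq_ker_eval hI, LinearMap.mem_ker,
      ← AdicCompletion.factor_evalₐ_eq_eval (I := I) (x := x) (show I ^ N ≤ I ^ N • ⊤ by simp), h, map_zero]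
  rwa [Ideal.smul_top_eq_map] at h1

omit [IsNoetherianRing A] in
/-- Evaluation kills the power of the ideal. -/
theorem evalₐ_eq_zero {I : Ideal A} {N : ℕ} {x : AdicCompletion I A}
    (h : x ∈ (I ^ N).map (algebraMap A (AdicCompletion I A))) : AdicCompletion.evalₐ I N x = 0 := by
  have h1 : (I ^ N).map (algebraMap A (AdicCompletion I A)) ≤ RingHom.ker (AdicCompletion.evalₐ I N) := by
    rw [Ideal.map_le_iff_le_comap]
    intro a ha
    show AdicCompletion.evalₐ I N (algebraMap A _ a) = 0
    rw [AlgHom.commutes]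
    exact Ideal.Quotient.eq_zero_iff_mem.2 ha
  exact h1 h

/-- Solutions of polynomial systems. -/
theorem exists_solution (I : Ideal A) [HenselianRing A I] (hreg : CAlg.IsRegularHom A (AdicCompletion I A))
    {n m : ℕ} (F : Fin m → MvPolynomial (Fin n) A) (a : Fin n → AdicCompletion I A)
    (ha : ∀ j, MvPolynomial.aeval a (F j) = 0) (N : ℕ) :
    ∃ b : Fin n → A, (∀ j, MvPolynomial.eval b (F j) = 0) ∧
      ∀ i, a i - algebraMap A (AdicCompletion I A) (b i) ∈ (I ^ N).map (algebraMap A (AdicCompletion I A)) := by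
  haveI : IsNoetherianRing (AdicCompletion I A) := Matlis6.isNoetherianRing_adicCompletion _
  let J : Ideal (MvPolynomial (Fin n) A) := Ideal.span (Set.range F)
  haveI : Algebra.FinitePresentation A (MvPolynomial (Fin n) A ⧸ J) :=
    Algebra.FinitePresentation.quotient (Submodule.fg_span (Set.finite_range F))
  let φ : (MvPolynomial (Fin n) A ⧸ J) →ₐ[A] AdicCompletion I A :=
    Ideal.Quotient.liftₐ J (MvPolynomial.aeval a) fun x hx => by
      refine (Ideal.span_le (I := RingHom.ker (MvPolynomial.aeval a))).2 ?_ hx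
      rintro _ ⟨j, rfl⟩
      exact ha j
  obtain ⟨σ, hσ⟩ := exists_point hreg I N (AdicCompletion.evalₐ I (N + 1)) _ φ
  let b : Fin n → A := fun i => σ (Ideal.Quotient.mk J (MvPolynomial.X i))
  refine ⟨b, fun j => ?_, fun i => ?_⟩
  · have h1 : σ.comp (Ideal.Quotient.mkₐ A J) = MvPolynomial.aeval b := MvPolynomial.aeval_unique _
    have h2 : MvPolynomial.aeval b (F j) = 0 := by
      rw [← h1]
      show σ (Ideal.Quotient.mk J (F j)) = 0
      rw [Ideal.Quotient.eq_zero_iff_mem.2 (Ideal.subset_span (Set.mem_range_self j)), map_zero]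
    rwa [MvPolynomial.aeval_eq_eval] at h2
  · refine Ideal.map_mono (Ideal.pow_le_pow_right (Nat.le_succ N)) (mem_map_pow I.fg_of_isNoetherianRing ?_)
    rw [map_sub, AlgHom.commutes, sub_eq_zero]
    have h1 : φ (Ideal.Quotient.mk J (MvPolynomial.X i)) = a i := MvPolynomial.aeval_X _ _
    rw [← h1]
    exact (congr($hσ (Ideal.Quotient.mk J (MvPolynomial.X i)))).symm

/-- Density of the base in a completion at a maximal ideal. -/
theorem exists_local_data (m : Ideal A) [m.IsMaximal] :
    ∃ (_ : IsLocalRing (AdicCompletion m A)),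
      IsAdicComplete (maximalIdeal (AdicCompletion m A)) (AdicCompletion m A) ∧
      maximalIdeal (AdicCompletion m A) = m.map (algebraMap A (AdicCompletion m A)) ∧
      ∀ (j : ℕ) (y : AdicCompletion m A), ∃ r : A, ∃ s ∈ IsUnit.submonoid A,
        algebraMap A (AdicCompletion m A) s * y - algebraMap A (AdicCompletion m A) r ∈
          maximalIdeal (AdicCompletion m A) ^ j := by
  have hfg := m.fg_of_isNoetherianRing
  haveI := AdicCompletion.isMaximal_map_of_le m m le_rfl hfg
  haveI := AdicCompletion.isAdicComplete_self m hfg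
  haveI hloc : IsLocalRing (AdicCompletion m A) :=
    isLocalRing_of_isAdicComplete_maximal (m.map (algebraMap A (AdicCompletion m A)))
  have heq : maximalIdeal (AdicCompletion m A) = m.map (algebraMap A (AdicCompletion m A)) :=
    (IsLocalRing.eq_maximalIdeal inferInstance).symm
  refine ⟨hloc, by rw [heq]; infer_instance, heq, fun j y => ?_⟩
  obtain ⟨r, hr⟩ := Ideal.Quotient.mk_surjective (AdicCompletion.evalₐ m j y)
  refine ⟨r, 1, Submonoid.one_mem _, ?_⟩
  rw [map_one, one_mul, heq, ← Ideal.map_pow]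
  refine mem_map_pow hfg ?_
  rw [map_sub, AlgHom.commutes, sub_eq_zero]
  exact hr.symm

omit [IsNoetherianRing A] in
/-- Fields are G-rings. -/
theorem isGRing_field (k : Type u) [Field k] : CAlg.IsGRing k := by
  refine ⟨inferInstance, fun p hp => ?_⟩
  let K := Localization.AtPrime p
  have hK : maximalIdeal K = ⊥ := by
    obtain rfl : p = ⊥ := (Ideal.eq_bot_or_top p).resolve_right hp.ne_top
    rw [← Localization.AtPrime.map_eq_maximalIdeal, Ideal.map_bot]
  have hc : IsAdicComplete (maximalIdeal K) K := by rw [hK]; infer_instance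
  haveI := hc
  refine isRegularHom_of_algEquiv
    ({ AdicCompletion.ofLinearEquiv (maximalIdeal K) K with
      map_mul' := fun x y => map_mul (algebraMap K (AdicCompletion (maximalIdeal K) K)) x y
      commutes' := fun x => rfl } : K ≃ₐ[K] AdicCompletion (maximalIdeal K) K) (isRegularHom_self K)

end Groth.Agent.CAlgH.Approximation
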