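import Groth.Agent.S2705
import Groth.Agent.S2644
import Groth.Agent.S2654
import Groth.Agent.CAlgH.GRingCompletion
import Groth.Agent.CAlgH.GRingFiniteType
import Groth.Agent.CAlgH.AnalyticallyUnramified
import Groth.Agent.CAlgH.FiniteCompletion
import Groth.Agent.CAlgH.GRingMaximal
import Groth.Agent.AdicRing.ComplHom
import Groth.Agent.HenselLib.Olivier
import Groth.Agent.CommAlg6.NormalTensor
import Mathlib

/-!
# Completions of normal G-rings are normal; excellent henselian domains are analytically irreducible
-/

set_option autoImplicit false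
set_option linter.style.haveILetI false
universe u

open IsLocalRing

namespace Groth.Agent.CAlgH.ExcellentNormal

/-- An integrally closed domain is a normal ring. -/
theorem isNormalRing_of_isIntegrallyClosed (A : Type u) [CommRing A] [IsDomain A] [IsIntegrallyClosed A] :
    EGA4.IsNormalRing A := fun p hp =>
  ⟨IsLocalization.isDomain_localization p.primeCompl_le_nonZeroDivisors,
    isIntegrallyClosed_of_isLocalization _ p.primeCompl p.primeCompl_le_nonZeroDivisors⟩

/-- Normality ascends along a normal homomorphism of Noetherian rings. -/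
theorem isNormalRing_of_isNormalHom {A B : Type u} [CommRing A] [CommRing B] [IsNoetherianRing A]
    [IsNoetherianRing B] [Algebra A B] (h : EGA4.IsNormalHom A B) (hA : EGA4.IsNormalRing A) :
    EGA4.IsNormalRing B := by
  haveI := h.1
  have hfib : ∀ (p : Ideal A) [p.IsPrime], LocCoh.HasRk 1 (p.Fiber B) ∧
      LocCoh.HasSk 2 (p.Fiber B) (p.Fiber B) := fun p _ => by
    haveI := Groth.Agent.CommAlg6.isNoetherianRing_fiber (B := B) p
    exact Groth.Agent.CAlgH3.normal_localization_iff.1 (Groth.Agent.CommAlg6.isNormalRing_of_ringEquiv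
      (Algebra.TensorProduct.lid p.ResidueField (p.Fiber B)).toRingEquiv
      (h.2 p p.ResidueField (Module.Finite.self _)))
  obtain ⟨hR, hS⟩ := Groth.Agent.CAlgH3.normal_localization_iff.1 hA
  exact Groth.Agent.CAlgH3.normal_localization_iff.2
    ⟨Groth.Agent.CommAlg6.hasRk_of_base_and_fibres 1 hR
      (Groth.Agent.CommAlg6.fib_regular_of_hasRk_fiber 1 fun p _ => (hfib p).1),
    Groth.Agent.CommAlg6.hasSk_of_base_and_fibres 2 hS
      ((Groth.Agent.CommAlg6.forall_hasSk_fiber_iff 2).1 fun p _ => (hfib p).2)⟩

/-- A G-ring has normal completion maps. -/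
theorem isNormalHom_adicCompletion (A : Type u) [CommRing A] (hA : CAlg.IsGRing A) (I : Ideal A) :
    EGA4.IsNormalHom A (AdicCompletion I A) := by
  haveI := hA.1
  haveI : IsNoetherianRing (AdicCompletion I A) := Groth.Agent.Matlis6.isNoetherianRing_adicCompletion _
  exact Groth.Agent.S2705.isNormalHom_of_isRegularHom
    (Groth.Agent.CAlgH.isRegularHom_adicCompletion_of_isGRing A hA I)

/-- The completion of a normal G-ring at any ideal is normal. -/
theorem isNormalRing_adicCompletion (A : Type u) [CommRing A] (hA : CAlg.IsGRing A)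
    (hn : EGA4.IsNormalRing A) (I : Ideal A) : EGA4.IsNormalRing (AdicCompletion I A) := by
  haveI := hA.1
  haveI : IsNoetherianRing (AdicCompletion I A) := Groth.Agent.Matlis6.isNoetherianRing_adicCompletion _
  exact isNormalRing_of_isNormalHom (isNormalHom_adicCompletion A hA I) hn

/-- A normal local G-ring is analytically normal, in particular analytically irreducible. -/
theorem isDomain_completion (A : Type u) [CommRing A] [IsLocalRing A] [IsDomain A] [IsIntegrallyClosed A]
    (hA : CAlg.IsGRing A) :
    IsDomain (AdicCompletion (maximalIdeal A) A) := by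
  haveI := hA.1
  exact (Groth.Agent.CommAlg6.NormalTensor.isDomain_of_local
    (isNormalRing_adicCompletion A hA (isNormalRing_of_isIntegrallyClosed A) _)).1

open TensorProduct in
/-- The completion of a finite local algebra is computed by a local tensor product. -/
theorem eq_of_isMaximal (A B : Type u) [CommRing A] [IsLocalRing A] [IsNoetherianRing A] [CommRing B]
    [IsLocalRing B] [Algebra A B] [Module.Finite A B]
    (M N : Ideal (AdicCompletion (maximalIdeal A) A ⊗[A] B)) [M.IsMaximal] [N.IsMaximal] : M = N := by
  let Ah := AdicCompletion (maximalIdeal A) A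
  let T := Ah ⊗[A] B
  haveI : Module.Finite Ah T := Module.Finite.base_change A Ah B
  let inr : B →ₐ[A] T := Algebra.TensorProduct.includeRight
  have hsurj := Groth.Agent.AdicRing.surjective_mk_algebraMap_completion (maximalIdeal A)
    (IsNoetherian.noetherian _)
  let mT : Ideal T := ((maximalIdeal A).map (algebraMap A Ah)).map (algebraMap Ah T)
  have hP : ∀ (P : Ideal T) [P.IsMaximal], mT ≤ P ∧ P.comap inr.toRingHom = maximalIdeal B := by
    intro P hP
    haveI : Algebra.IsIntegral Ah T := Algebra.IsIntegral.of_finite _ _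
    have h1 : P.comap (algebraMap Ah T) = maximalIdeal Ah :=
      IsLocalRing.eq_maximalIdeal (Ideal.isMaximal_comap_of_isIntegral_of_isMaximal P)
    have h2 : mT ≤ P := by
      refine Ideal.map_le_iff_le_comap.2 ?_
      rw [h1, AdicCompletion.maximalIdeal_eq_map]
    refine ⟨h2, IsLocalRing.eq_maximalIdeal ?_⟩
    haveI : (P.comap inr.toRingHom).IsPrime := Ideal.IsPrime.comap _
    refine Ideal.isMaximal_of_isIntegral_of_isMaximal_comap (R := A) _ ?_
    have h3 : (P.comap inr.toRingHom).comap (algebraMap A B) = maximalIdeal A := by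
      refine le_antisymm (le_maximalIdeal (Ideal.IsPrime.comap _).ne_top) fun a ha => ?_
      show inr (algebraMap A B a) ∈ P
      rw [AlgHom.commutes, IsScalarTower.algebraMap_apply A Ah T]
      exact h2 (Ideal.mem_map_of_mem _ (Ideal.mem_map_of_mem _ ha))
    rw [h3]
    infer_instance
  have hdec : ∀ x : T, ∃ b : B, x - inr b ∈ mT := by
    intro x
    induction x using TensorProduct.induction_on with
    | zero => exact ⟨0, by simp⟩
    | tmul c y =>
      obtain ⟨a, ha⟩ := hsurj (Ideal.Quotient.mk _ c)
      refine ⟨a • y, ?_⟩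
      have hc : c - algebraMap A Ah a ∈ (maximalIdeal A).map (algebraMap A Ah) :=
        Ideal.Quotient.eq.1 ha.symm
      have e1 : c ⊗ₜ[A] y - inr (a • y) = algebraMap Ah T (c - algebraMap A Ah a) * ((1 : Ah) ⊗ₜ[A] y) := by
        show c ⊗ₜ[A] y - (1 : Ah) ⊗ₜ[A] (a • y) = ((c - algebraMap A Ah a) ⊗ₜ[A] (1 : B)) * ((1 : Ah) ⊗ₜ[A] y)
        rw [Algebra.TensorProduct.tmul_mul_tmul, mul_one, one_mul, TensorProduct.sub_tmul,
          ← TensorProduct.smul_tmul, Algebra.smul_def, mul_one]
      rw [e1]
      exact Ideal.mul_mem_right _ _ (Ideal.mem_map_of_mem _ hc)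
    | add x y hx hy =>
      obtain ⟨b, hb⟩ := hx
      obtain ⟨c, hc⟩ := hy
      exact ⟨b + c, by rw [map_add, add_sub_add_comm]; exact add_mem hb hc⟩
  refine Ideal.IsMaximal.eq_of_le ‹_› (Ideal.IsMaximal.ne_top ‹_›) fun x hx => ?_
  obtain ⟨b, hb⟩ := hdec x
  have hbM : inr b ∈ M := (sub_sub_cancel x (inr b)) ▸ M.sub_mem hx ((hP M).1 hb)
  have hbB : b ∈ maximalIdeal B := (hP M).2 ▸ hbM
  have hbN : inr b ∈ N := ((hP N).2.symm ▸ hbB : b ∈ N.comap inr.toRingHom)
  exact (sub_add_cancel x (inr b)) ▸ N.add_mem ((hP N).1 hb) hbN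

/-- If a local G-ring embeds in a finite local normal domain, its completion is a domain. -/
theorem isDomain_completion_of_finite (A B : Type u) [CommRing A] [IsLocalRing A] [CommRing B] [IsDomain B]
    [IsLocalRing B] [IsIntegrallyClosed B] [Algebra A B] [Module.Finite A B] (hG : CAlg.IsGRing A)
    (hinj : Function.Injective (algebraMap A B)) :
    IsDomain (AdicCompletion (maximalIdeal A) A) := by
  haveI := hG.1
  haveI : IsNoetherianRing B := IsNoetherianRing.of_finite A B
  haveI : Algebra.FiniteType A B := Module.Finite.finiteType _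
  let Ah := AdicCompletion (maximalIdeal A) A
  haveI : IsNoetherianRing Ah := Groth.Agent.Matlis6.isNoetherianRing_adicCompletion _
  haveI : Module.Flat A Ah := AdicCompletion.flat_of_isNoetherian _
  let n := maximalIdeal B
  obtain ⟨N, hN, e, hNn, -⟩ := Groth.Agent.CAlgH.completion_localization_finite A B n
  haveI := hN
  haveI : IsIntegrallyClosed (Localization.AtPrime n) :=
    isIntegrallyClosed_of_isLocalization _ n.primeCompl n.primeCompl_le_nonZeroDivisors
  haveI : IsNoetherianRing (Localization.AtPrime n) := IsLocalization.isNoetherianRing n.primeCompl _ inferInstance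
  haveI : IsDomain (Localization.AtPrime n) :=
    IsLocalization.isDomain_localization n.primeCompl_le_nonZeroDivisors
  haveI : IsDomain (EGA4.Cpl (Localization.AtPrime n)) :=
    isDomain_completion _ (Groth.Agent.CAlgH.isGRing_localization n.primeCompl _
      (Groth.Agent.CAlgH.isGRing_of_finiteType A hG B))
  haveI : IsDomain (Localization.AtPrime N) := e.toMulEquiv.isDomain
  have hu : ∀ M : Ideal (TensorProduct A Ah B), M.IsMaximal → M = N := fun M hM => by
    haveI := hM
    exact eq_of_isMaximal A B M N
  haveI : IsLocalRing (TensorProduct A Ah B) :=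
    IsLocalRing.of_unique_max_ideal ⟨N, hN, hu⟩
  have h1 : Function.Injective (algebraMap (TensorProduct A Ah B) (Localization.AtPrime N)) := by
    refine IsLocalization.injective (Localization.AtPrime N) (M := N.primeCompl) fun x hx => ?_
    exact IsUnit.mem_nonZeroDivisors (not_not.1 fun hx' =>
      hx (IsLocalRing.eq_maximalIdeal hN ▸ (mem_maximalIdeal x).2 hx'))
  exact (h1.comp (Algebra.TensorProduct.includeLeft_injective (S := A) hinj)).isDomain
    ((algebraMap (TensorProduct A Ah B) (Localization.AtPrime N)).comp
      (Algebra.TensorProduct.includeLeft (R := A) (S := A) (A := Ah) (B := B)).toRingHom)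

/-- An excellent henselian local domain is analytically irreducible. -/
theorem isDomain_completion_of_henselian (A : Type u) [CommRing A] [HenselianLocalRing A] [IsDomain A]
    (hA : EGA4.IsExcellent A) :
    IsDomain (AdicCompletion (maximalIdeal A) A) := by
  classical
  obtain ⟨hN, -, hG, hJ⟩ := hA
  haveI := hN
  have hNag : CAlg.IsNagata A := Groth.Agent.S2654.result A ⟨hN, hG, hJ⟩
  let K := FractionRing A
  let B := integralClosure A K
  haveI : Module.Finite A B :=
    Groth.Agent.CAlgH.isN1_of_isReduced_completion
      (Groth.Agent.CAlgH.isReduced_completion_of_isNagata hNag)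
  haveI : IsLocalRing B := Groth.Agent.HenselLib.Olivier.isLocalRing_of_integral_domain (A := A) B
  haveI : IsIntegrallyClosed B := integralClosure.isIntegrallyClosedOfFiniteExtension K
  haveI : IsNoetherianRing B := IsNoetherianRing.of_finite A B
  exact isDomain_completion_of_finite A B hG (fun x y h => IsFractionRing.injective A K (congrArg Subtype.val h))


end Groth.Agent.CAlgH.ExcellentNormal
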