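import Mathlib
import Groth.Agent.CAlgH.GRingFiniteType
import Groth.Agent.CAlgH.WEtRegular
import Groth.Agent.CAlgH.GRingMaximal
import Groth.Agent.CommAlg6.ExcellentBasic
import Groth.Agent.HenselLib.LocalHens

/-! Directed colimits of henselian local rings; `ℤ` is a G-ring. -/
universe u
open IsLocalRing Polynomial

namespace Groth.Agent.CAlgH

theorem isGRing_ulift_int : CAlg.IsGRing (ULift.{u} ℤ) := by
  haveI : IsDomain (ULift.{u} ℤ) := MulEquiv.isDomain ℤ ULift.ringEquiv.toMulEquiv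
  haveI : IsPrincipalIdealRing (ULift.{u} ℤ) :=
    IsPrincipalIdealRing.of_surjective (ULift.ringEquiv.symm : ℤ ≃+* ULift.{u} ℤ).toRingHom
      (ULift.ringEquiv.symm : ℤ ≃+* ULift.{u} ℤ).surjective
  haveI : CharZero (ULift.{u} ℤ) := charZero_of_injective_ringHom
    (f := (ULift.ringEquiv.symm : ℤ ≃+* ULift.{u} ℤ).toRingHom) (ULift.ringEquiv.symm : ℤ ≃+* ULift.{u} ℤ).injective
  exact CommAlg6.isGRing_of_dedekind _

variable {ι : Type u} [Preorder ι] [IsDirectedOrder ι] [Nonempty ι] {G : ι → Type u} [∀ i, CommRing (G i)]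
  {f : ∀ i j : ι, i ≤ j → (G i →+* G j)} [DirectedSystem G (fun i j h => f i j h)]

theorem exists_of_eq (a : DirectLimit G f) : ∃ i, ∃ x : G i, DirectLimit.Ring.of G f i x = a := by
  induction a using DirectLimit.induction with | _ i x => exact ⟨i, x, rfl⟩

theorem isUnit_of_iff [∀ i, IsLocalRing (G i)] (hloc : ∀ i j (h : i ≤ j), IsLocalHom (f i j h)) {i : ι} (x : G i) :
    IsUnit (DirectLimit.Ring.of G f i x) ↔ IsUnit x := by
  refine ⟨fun h => ?_, fun h => h.map _⟩
  obtain ⟨j, y, hy⟩ := exists_of_eq (f := f) (h.unit⁻¹ : (DirectLimit G f)ˣ).1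
  obtain ⟨k, hik, hjk⟩ := exists_ge_ge i j
  have h1 : DirectLimit.Ring.of G f k (f i k hik x * f j k hjk y) = DirectLimit.Ring.of G f k 1 := by
    rw [map_mul, map_one, DirectLimit.Ring.of_f, DirectLimit.Ring.of_f, hy]
    exact h.mul_val_inv
  obtain ⟨l, hkl, hkl', h2⟩ := Quotient.exact h1
  rw [map_mul, map_one] at h2
  haveI := hloc i k hik
  haveI := hloc k l hkl
  exact isUnit_of_map_unit (f i k hik) x (isUnit_of_map_unit (f k l hkl) _ (IsUnit.of_mul_eq_one _ h2))

theorem exists_stage_poly (p : (DirectLimit G f)[X]) (i₀ : ι) :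
    ∃ i, i₀ ≤ i ∧ ∃ q : (G i)[X], q.map (DirectLimit.Ring.of G f i) = p := by
  induction p using Polynomial.induction_on' with
  | add p q hp hq =>
    obtain ⟨i, hi, p', rfl⟩ := hp
    obtain ⟨j, hj, q', rfl⟩ := hq
    obtain ⟨k, hik, hjk⟩ := exists_ge_ge i j
    refine ⟨k, hi.trans hik, p'.map (f i k hik) + q'.map (f j k hjk), ?_⟩
    rw [Polynomial.map_add, Polynomial.map_map, Polynomial.map_map]
    congr 2 <;> exact RingHom.ext fun x => DirectLimit.Ring.of_f _ x
  | monomial n a =>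
    obtain ⟨i, x, rfl⟩ := exists_of_eq (f := f) a
    obtain ⟨k, hk, hik⟩ := exists_ge_ge i₀ i
    exact ⟨k, hk, monomial n (f i k hik x), by rw [map_monomial, DirectLimit.Ring.of_f]⟩

theorem henselianLocalRing_directLimit [∀ i, HenselianLocalRing (G i)] (hloc : ∀ i j (h : i ≤ j), IsLocalHom (f i j h)) :
    HenselianLocalRing (DirectLimit G f) := by
  haveI : IsLocalRing (DirectLimit G f) := IsLocalRing.of_isUnit_or_isUnit_one_sub_self fun a => by
    obtain ⟨i, x, rfl⟩ := exists_of_eq (f := f) a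
    exact (isUnit_or_isUnit_one_sub_self x).imp (fun h => h.map _)
      fun h => by rw [← map_one (DirectLimit.Ring.of G f i), ← map_sub]; exact h.map _
  refine ⟨fun p hp a₀ ha₀ hd => ?_⟩
  obtain ⟨i, x₀, rfl⟩ := exists_of_eq (f := f) a₀
  obtain ⟨k, hik, q, rfl⟩ := exists_stage_poly p i
  obtain ⟨q', hq', -, hq'm⟩ := Polynomial.lifts_and_degree_eq_and_monic (f := DirectLimit.Ring.of G f k)
    (show q.map _ ∈ Polynomial.lifts (DirectLimit.Ring.of G f k) from ⟨q, rfl⟩) hp
  have hx : DirectLimit.Ring.of G f k (f i k hik x₀) = DirectLimit.Ring.of G f i x₀ := DirectLimit.Ring.of_f _ _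
  rw [← hq', ← hx] at ha₀ hd ⊢
  rw [Polynomial.eval_map, Polynomial.eval₂_hom, mem_maximalIdeal, mem_nonunits_iff, isUnit_of_iff hloc] at ha₀
  rw [Polynomial.derivative_map, Polynomial.eval_map, Polynomial.eval₂_hom, isUnit_of_iff hloc] at hd
  obtain ⟨a, ha, ha'⟩ := HenselianLocalRing.is_henselian q' hq'm (f i k hik x₀) ((mem_maximalIdeal _).mpr ha₀) hd
  refine ⟨DirectLimit.Ring.of G f k a, ha.map, ?_⟩
  rw [mem_maximalIdeal, mem_nonunits_iff, ← map_sub, isUnit_of_iff hloc]
  exact ha'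

end Groth.Agent.CAlgH

namespace Groth.Agent.CAlgH.HensModel

variable {Z A : Type u} [CommRing Z] [CommRing A] [Algebra Z A]

/-- The prime of a subalgebra below the maximal ideal. -/
abbrev pr [IsLocalRing A] (B : Subalgebra Z A) : Ideal B := (maximalIdeal A).comap B.val.toRingHom

/-- The local ring of a subalgebra below the maximal ideal. -/
abbrev locB [IsLocalRing A] (B : Subalgebra Z A) : Type u := Localization.AtPrime (pr B)

/-- The henselization of the local ring of a subalgebra. -/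
abbrev HB [IsLocalRing A] (B : Subalgebra Z A) : Type u := HenselLib.LocalH (locB B)

theorem hom_ext [IsLocalRing A] (B : Subalgebra Z A) {T : Type u} [CommRing T] [HenselianLocalRing T] (g g' : HB B →+* T)
    (hl : IsLocalHom (g.comp (algebraMap (locB B) (HB B)))) (h : ∀ b : B, g (algebraMap (locB B) (HB B) (algebraMap B _ b))
      = g' (algebraMap (locB B) (HB B) (algebraMap B _ b))) : g = g' := by
  have h1 : g.comp (algebraMap (locB B) (HB B)) = g'.comp (algebraMap (locB B) (HB B)) :=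
    IsLocalization.ringHom_ext (pr B).primeCompl (RingHom.ext h)
  exact ((HenselLib.isHenselization_localH (R := locB B)).universal T _ hl).unique rfl h1.symm

theorem isLocalHom_of_comp [IsLocalRing A] (B : Subalgebra Z A) {T : Type u} [CommRing T] [IsLocalRing T] (g : HB B →+* T)
    (hl : IsLocalHom (g.comp (algebraMap (locB B) (HB B)))) : IsLocalHom g := by
  refine ⟨fun x hx => by_contra fun hn => (mem_maximalIdeal (g x)).mp ?_ hx⟩
  have h1 : x ∈ (maximalIdeal (locB B)).map (algebraMap (locB B) (HB B)) := by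
    rw [HenselLib.map_maximalIdeal_localH]; exact (mem_maximalIdeal x).mpr hn
  have h2 := Ideal.mem_map_of_mem g h1
  rw [Ideal.map_map] at h2
  exact ((Ideal.map_le_iff_le_comap (f := g.comp (algebraMap (locB B) (HB B))) (K := maximalIdeal T)).mpr
    fun y hy => Ideal.mem_comap.mpr ((mem_maximalIdeal _).mpr fun hu => (mem_maximalIdeal y).mp hy (hl.1 y hu))) h2

theorem exists_toA [HenselianLocalRing A] (B : Subalgebra Z A) :
    ∃ ψ : HB B →+* A, IsLocalHom (ψ.comp (algebraMap (locB B) (HB B))) ∧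
      ∀ b : B, ψ (algebraMap (locB B) (HB B) (algebraMap B _ b)) = b := by
  have hu : ∀ y : (pr B).primeCompl, IsUnit (B.val.toRingHom y) := fun y => IsLocalRing.notMem_maximalIdeal.mp y.2
  let φ : locB B →+* A := IsLocalization.lift hu
  have hφ : IsLocalHom φ := by
    refine ⟨fun z hz => ?_⟩
    obtain ⟨b, s, rfl⟩ := IsLocalization.exists_mk'_eq (pr B).primeCompl z
    have h1 := hz.mul (hu s)
    have h2 : φ (IsLocalization.mk' (locB B) b s) * B.val.toRingHom s = B.val.toRingHom b := by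
      rw [show B.val.toRingHom (s : B) = φ (algebraMap B (locB B) (s : B)) from (IsLocalization.lift_eq hu _).symm, ← map_mul,
        IsLocalization.mk'_spec]
      exact IsLocalization.lift_eq hu b
    rw [h2] at h1
    exact (IsLocalization.AtPrime.isUnit_mk'_iff (locB B) (pr B) b s).mpr fun hb => (mem_maximalIdeal _).mp hb h1
  obtain ⟨ψ, hψ, -⟩ := (HenselLib.isHenselization_localH (R := locB B)).universal A φ hφ
  refine ⟨ψ, by rwa [hψ], fun b => ?_⟩
  rw [← RingHom.comp_apply, hψ]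
  exact IsLocalization.lift_eq hu b

theorem exists_trans [IsLocalRing A] (B B' : Subalgebra Z A) (h : B ≤ B') :
    ∃ t : HB B →+* HB B', IsLocalHom t ∧ IsLocalHom (t.comp (algebraMap (locB B) (HB B))) ∧
      ∀ b : B, t (algebraMap (locB B) (HB B) (algebraMap B _ b))
        = algebraMap (locB B') (HB B') (algebraMap B' _ (Subalgebra.inclusion h b)) := by
  let l : locB B →+* HB B' := (algebraMap (locB B') (HB B')).comp
    (Localization.localRingHom (pr B) (pr B') (Subalgebra.inclusion h).toRingHom rfl)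
  haveI : IsLocalHom (Localization.localRingHom (pr B) (pr B') (Subalgebra.inclusion h).toRingHom rfl) :=
    Localization.isLocalHom_localRingHom _ _ _ rfl
  have hl : IsLocalHom l := RingHom.isLocalHom_comp _ _
  obtain ⟨t, ht, -⟩ := (HenselLib.isHenselization_localH (R := locB B)).universal (HB B') l hl
  refine ⟨t, isLocalHom_of_comp B t (by rwa [ht]), by rwa [ht], fun b => ?_⟩
  rw [← RingHom.comp_apply, ht]
  exact congrArg (algebraMap (locB B') (HB B')) (Localization.localRingHom_to_map (pr B) (pr B') (Subalgebra.inclusion h).toRingHom rfl b)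

theorem isGRing_HB [IsLocalRing A] (hZ : CAlg.IsGRing Z) (B : Subalgebra Z A) (hB : B.FG) : CAlg.IsGRing (HB B) := by
  haveI : Algebra.FiniteType Z B := (Subalgebra.fg_iff_finiteType B).mp hB
  have h1 := isGRing_of_finiteType Z hZ B
  have h2 : CAlg.IsGRing (locB B) := isGRing_localization (pr B).primeCompl _ h1
  exact isGRing_pairHenselization (locB B) h2 (maximalIdeal (locB B)) (HB B) (HenselLib.isPairHull_pairH _ _)

omit [Algebra Z A] in
theorem nonempty_equiv_directLimit [HenselianLocalRing A] {ι : Type u} [Preorder ι] [IsDirectedOrder ι] [Nonempty ι]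
    (G : ι → Type u) [∀ i, CommRing (G i)] [∀ i, HenselianLocalRing (G i)] (f : ∀ i j : ι, i ≤ j → (G i →+* G j))
    [DirectedSystem G (fun i j h => f i j h)] (hloc : ∀ i j (h : i ≤ j), IsLocalHom (f i j h))
    (B : ι → Subring A) (hmono : ∀ i j, i ≤ j → B i ≤ B j) (hcov : ∀ a : A, ∃ i, a ∈ B i) (e : ∀ i, B i →+* G i)
    (he : ∀ i j (h : i ≤ j) (b : B i), f i j h (e i b) = e j (Subring.inclusion (hmono i j h) b))
    (ψ : ∀ i, G i →+* A) (hψf : ∀ i j (h : i ≤ j) x, ψ j (f i j h x) = ψ i x) (hψ : ∀ i (b : B i), ψ i (e i b) = b)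
    (hext : ∀ i (T : Type u) (_ : CommRing T) (_ : HenselianLocalRing T) (g g' : G i →+* T), IsLocalHom g →
      (∀ b, g (e i b) = g' (e i b)) → g = g') :
    Nonempty (A ≃+* DirectLimit G f) := by
  haveI : HenselianLocalRing (DirectLimit G f) := henselianLocalRing_directLimit hloc
  let Φ : DirectLimit G f →+* A := DirectLimit.Ring.lift _ _ _ ψ hψf
  have hΦ : ∀ i x, Φ (DirectLimit.Ring.of _ f i x) = ψ i x := fun i x => rfl
  choose idx hidx using hcov
  let σ : A → DirectLimit G f := fun a => DirectLimit.Ring.of _ f (idx a) (e (idx a) ⟨a, hidx a⟩)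
  have hσ : ∀ i (b : B i), σ b = DirectLimit.Ring.of _ f i (e i b) := fun i b => by
    obtain ⟨k, h1, h2⟩ := exists_ge_ge (idx (b : A)) i
    show DirectLimit.Ring.of _ f (idx (b : A)) (e _ ⟨b, hidx b⟩) = _
    rw [← DirectLimit.Ring.of_f (hij := h1), ← DirectLimit.Ring.of_f (hij := h2) (x := e i b), he, he]
    rfl
  have hop : ∀ a b, σ (a * b) = σ a * σ b ∧ σ (a + b) = σ a + σ b := fun a b => by
    obtain ⟨k, h1, h2⟩ := exists_ge_ge (idx a) (idx b)
    have ha := hmono _ _ h1 (hidx a)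
    have hb := hmono _ _ h2 (hidx b)
    rw [hσ _ ⟨a, ha⟩, hσ _ ⟨b, hb⟩, ← map_mul, ← map_mul, ← map_add, ← map_add]
    exact ⟨hσ k ((⟨a, ha⟩ : B k) * ⟨b, hb⟩), hσ k ((⟨a, ha⟩ : B k) + ⟨b, hb⟩)⟩
  let σh : A →+* DirectLimit G f :=
    { toFun := σ
      map_one' := (hσ (Classical.arbitrary ι) 1).trans (by rw [map_one, map_one])
      map_mul' := fun a b => (hop a b).1
      map_zero' := (hσ (Classical.arbitrary ι) 0).trans (by rw [map_zero, map_zero])
      map_add' := fun a b => (hop a b).2 }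
  have h1 : ∀ a, Φ (σh a) = a := fun a => (hΦ _ _).trans (hψ _ _)
  have h2 : ∀ z, σh (Φ z) = z := by
    intro z
    obtain ⟨i, x, rfl⟩ := exists_of_eq (f := f) z
    rw [hΦ]
    refine (RingHom.congr_fun (hext i _ inferInstance inferInstance (DirectLimit.Ring.of _ f i) (σh.comp (ψ i))
      ⟨fun y hy => (isUnit_of_iff hloc y).mp hy⟩ fun b => ?_) x).symm
    rw [RingHom.comp_apply, hψ]
    exact (hσ i b).symm
  exact ⟨RingEquiv.ofRingHom σh Φ (RingHom.ext h2) (RingHom.ext h1)⟩

theorem exists_system_of (hZ : CAlg.IsGRing Z) [HenselianLocalRing A] :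
    ∃ (ι : Type u) (_ : Preorder ι) (_ : IsDirectedOrder ι) (_ : Nonempty ι) (G : ι → Type u)
      (_ : ∀ i, CommRing (G i)) (f : ∀ i j : ι, i ≤ j → (G i →+* G j))
      (_ : DirectedSystem G (fun i j h => f i j h)),
      (∀ i, HenselianLocalRing (G i) ∧ CAlg.IsGRing (G i)) ∧
      (∀ (i j : ι) (h : i ≤ j), IsLocalHom (f i j h)) ∧
      Nonempty (A ≃+* DirectLimit G f) := by
  classical
  let Bs : Finset A → Subalgebra Z A := fun s => Algebra.adjoin Z (s : Set A)
  have hmono : ∀ (s t : Finset A), s ≤ t → Bs s ≤ Bs t := fun s t h => Algebra.adjoin_mono (Finset.coe_subset.mpr h)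
  choose ψ hψl hψ using fun s => exists_toA (Bs s)
  choose f hfl hfl' hf using fun (s t : Finset A) (h : s ≤ t) => exists_trans (Bs s) (Bs t) (hmono s t h)
  haveI hsys : DirectedSystem (fun s => HB (Bs s)) (fun s t h => f s t h) :=
    ⟨fun s x => RingHom.congr_fun (hom_ext (Bs s) (f s s le_rfl) (RingHom.id _) (hfl' s s le_rfl) fun b => by
        rw [hf]; rfl) x,
     fun {s t v} h₁ h₂ x => RingHom.congr_fun (hom_ext (Bs v) (T := HB (Bs s)) ((f _ _ h₂).comp (f _ _ h₁)) (f _ _ (h₁.trans h₂))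
        (by
          haveI := hfl' _ _ h₁
          haveI := hfl _ _ h₂
          exact RingHom.isLocalHom_comp (f _ _ h₂) ((f _ _ h₁).comp _))
        fun b => by rw [RingHom.comp_apply, hf, hf, hf]; rfl) x⟩
  refine ⟨Finset A, inferInstance, inferInstance, inferInstance, fun s => HB (Bs s), inferInstance, f, hsys,
    fun s => ⟨HenselLib.henselianLocalRing_localH, isGRing_HB hZ (Bs s) ⟨s, rfl⟩⟩, hfl, ?_⟩
  refine nonempty_equiv_directLimit (fun s => HB (Bs s)) f hfl (fun s => (Bs s).toSubring) (fun s t h => hmono s t h)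
    (fun a => ⟨{a}, Algebra.subset_adjoin (by simp)⟩)
    (fun s => (algebraMap (locB (Bs s)) (HB (Bs s))).comp (algebraMap (Bs s) (locB (Bs s)))) (fun s t h b => hf s t h b) ψ
    (fun s t h x => RingHom.congr_fun (hom_ext (Bs s) (ψ s) ((ψ t).comp (f s t h)) (hψl s)
      fun b => by rw [RingHom.comp_apply, hf, hψ, hψ]; rfl).symm x) hψ ?_
  intro s T _ _ g g' hg hgb
  haveI := hg
  exact hom_ext (Bs s) g g' (RingHom.isLocalHom_comp g _) hgb

end Groth.Agent.CAlgH.HensModel
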