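import Groth.Prelude.Def_Smoothing
import Mathlib

/-! Elementary standard elements from presentations with arbitrary index types. -/

universe u

open MvPolynomial

namespace Groth.Agent.CAlgH.MarkedReindex

theorem exists_equiv_extending {V : Type*} [Fintype V] {c : ℕ} (g : Fin c ↪ V) :
    ∃ (hc : c ≤ Fintype.card V) (e : Fin (Fintype.card V) ≃ V), ∀ k, e (Fin.castLE hc k) = g k := by
  classical
  have hc : c ≤ Fintype.card V := by simpa using Fintype.card_le_of_embedding g
  let e₀ := (Fintype.equivFin V).symm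
  let i : {x // x ∈ Set.range (Fin.castLE hc)} ≃ {x // x ∈ Set.range (e₀.symm ∘ g)} :=
    (Equiv.ofInjective _ (Fin.castLE_injective hc)).symm.trans (Equiv.ofInjective _ (e₀.symm.injective.comp g.injective))
  refine ⟨hc, i.extendSubtype.trans e₀, fun k => ?_⟩
  rw [Equiv.trans_apply, Equiv.extendSubtype_apply_of_mem i _ ⟨k, rfl⟩]
  simp [i, Equiv.ofInjective_symm_apply]

variable {R B : Type u} [CommRing R] [CommRing B] [Algebra R B]

theorem isElementaryStandard_of_presentation {V I : Type*} [Fintype V] [Fintype I]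
    (f : I → MvPolynomial V R) (φ : MvPolynomial V R →ₐ[R] B) (hφ : Function.Surjective φ)
    (hker : RingHom.ker φ.toRingHom = Ideal.span (Set.range f)) {c : ℕ} (rows : Fin c ↪ I) (cols : Fin c ↪ V)
    (a a' : B) (ha : a = a' * φ (Matrix.of fun j k => pderiv (cols k) (f (rows j))).det)
    (hkill : ∀ b : MvPolynomial V R, φ b = a → ∀ l, b * f l ∈ Ideal.span (Set.range (f ∘ rows)) ⊔ Ideal.span (Set.range f) ^ 2) :
    Smoothing.IsElementaryStandard R B a := by
  classical
  obtain ⟨hcn, eV, heV⟩ := exists_equiv_extending cols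
  obtain ⟨hcm, eI, heI⟩ := exists_equiv_extending rows
  let τ : MvPolynomial V R →ₐ[R] MvPolynomial (Fin (Fintype.card V)) R := rename eV.symm
  let rel : Fin (Fintype.card I) → MvPolynomial (Fin (Fintype.card V)) R := fun j => τ (f (eI j))
  let hom : MvPolynomial (Fin (Fintype.card V)) R →ₐ[R] B := φ.comp (rename eV)
  have hστ : ∀ x, rename eV (τ x) = x := fun x => by simp [τ, rename_rename, rename_id]
  have hτσ : ∀ x, τ (rename eV x) = x := fun x => by simp [τ, rename_rename, rename_id]
  have hhom : ∀ x, hom (τ x) = φ x := fun x => congrArg φ (hστ x)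
  have hspan : Ideal.span (Set.range rel) = (Ideal.span (Set.range f)).map τ := by
    rw [Ideal.map_span, ← Set.range_comp]
    exact congrArg _ (eI.surjective.range_comp (τ ∘ f))
  have hsurj : Function.Surjective hom := fun y => by
    obtain ⟨x, rfl⟩ := hφ y
    exact ⟨τ x, hhom x⟩
  have hkereq : RingHom.ker hom.toRingHom = Ideal.span (Set.range rel) := by
    rw [hspan]
    refine le_antisymm (fun x hx => ?_) (Ideal.map_le_iff_le_comap.2 fun x hx => ?_)
    · rw [← hτσ x]
      exact Ideal.mem_map_of_mem τ (hker.le (show φ (rename eV x) = 0 from hx))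
    · show hom (τ x) = 0
      rw [hhom]
      exact hker.ge hx
  let P : Smoothing.MarkedPresentation R B := ⟨_, _, c, hcn, hcm, rel, hom, hsurj, hkereq⟩
  refine ⟨P, ⟨a', ?_⟩, ?_⟩
  · rw [ha]
    show a' * _ = a' * hom (Smoothing.jacobianMinor rel (Fin.castLE hcm) (Fin.castLE hcn))
    have e : Smoothing.jacobianMinor rel (Fin.castLE hcm) (Fin.castLE hcn) =
        τ (Matrix.of fun j k => pderiv (cols k) (f (rows j))).det := by
      rw [Smoothing.jacobianMinor, AlgHom.map_det]
      congr 1
      refine Matrix.ext fun j k => ?_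
      show pderiv (Fin.castLE hcn k) (τ (f (eI (Fin.castLE hcm j)))) = τ (pderiv (cols k) (f (rows j)))
      rw [heI, show Fin.castLE hcn k = eV.symm (cols k) from (eV.eq_symm_apply).2 (heV k)]
      exact pderiv_rename eV.symm.injective (cols k) (f (rows j))
    rw [e, hhom]
  · intro b hb j hj
    have h2 := Ideal.mem_map_of_mem τ (hkill (rename eV b) hb (eI j))
    rw [map_mul, hτσ, Ideal.map_sup, Ideal.map_pow, ← hspan] at h2
    refine SetLike.le_def.1 (sup_le_sup_right ?_ _) h2
    rw [Ideal.map_span, ← Set.range_comp]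
    refine Ideal.span_mono ?_
    rintro _ ⟨k, rfl⟩
    refine ⟨Fin.castLE hcm k, k.2, ?_⟩
    show τ (f (eI (Fin.castLE hcm k))) = τ (f (rows k))
    rw [heI]

end Groth.Agent.CAlgH.MarkedReindex
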