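import Mathlib

/-! A smooth algebra is a retract of a standard smooth algebra. -/

universe u

open MvPolynomial KaehlerDifferential

namespace Groth.Agent.CAlgH.SmoothRetract

variable {R A : Type u} [CommRing R] [CommRing A] [Algebra R A] {n : ℕ}

/-- The relations cutting out the symmetric algebra of the image of an idempotent matrix. -/
noncomputable abbrev relIdeal (P : Matrix (Fin n) (Fin n) A) : Ideal (MvPolynomial (Fin n) A) :=
  Ideal.span (Set.range fun i => X i - ∑ j, C (P i j) * X j)

noncomputable abbrev SymAlg (P : Matrix (Fin n) (Fin n) A) : Type u :=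
  MvPolynomial (Fin n) A ⧸ relIdeal P

theorem smooth_symAlg (P : Matrix (Fin n) (Fin n) A) (hP : P * P = P) :
    Algebra.Smooth A (SymAlg P) := by
  let ε : MvPolynomial (Fin n) A →ₐ[A] MvPolynomial (Fin n) A :=
    aeval fun i => ∑ j, C (P i j) * X j
  have hεε : ∀ i, ε (∑ j, C (P i j) * X j) = ∑ j, C (P i j) * X j := by
    intro i
    have h1 : ∀ j, ε (C (P i j) * X j) = ∑ k, C (P i j * P j k) * X k := fun j => by
      show aeval _ (C (P i j) * X j) = _
      rw [map_mul, aeval_C, aeval_X, Finset.mul_sum]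
      exact Finset.sum_congr rfl fun k _ => by rw [← mul_assoc, C_mul]; rfl
    rw [map_sum, Finset.sum_congr rfl fun j _ => h1 j]
    rw [Finset.sum_comm]
    refine Finset.sum_congr rfl fun k _ => ?_
    rw [← Finset.sum_mul, ← map_sum]
    congr 2
    exact congrFun (congrFun hP i) k
  have hker : ∀ x ∈ relIdeal P, ε x = 0 := by
    intro x hx
    refine RingHom.mem_ker.1 ((Ideal.span_le (I := RingHom.ker ε)).2 ?_ hx)
    rintro _ ⟨i, rfl⟩
    rw [SetLike.mem_coe, RingHom.mem_ker, map_sub, hεε]
    simp [ε]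
  let s : SymAlg P →ₐ[A] MvPolynomial (Fin n) A := Ideal.Quotient.liftₐ _ ε hker
  have hs : (Ideal.Quotient.mkₐ A (relIdeal P)).comp s = AlgHom.id A (SymAlg P) := by
    refine Ideal.Quotient.algHom_ext A (MvPolynomial.algHom_ext fun i => ?_)
    change Ideal.Quotient.mk (relIdeal P) (ε (X i)) = Ideal.Quotient.mk (relIdeal P) (X i)
    rw [eq_comm, Ideal.Quotient.mk_eq_mk_iff_sub_mem]
    simp only [ε, aeval_X]
    exact Ideal.subset_span ⟨i, rfl⟩
  have hfs : Algebra.FormallySmooth A (SymAlg P) := by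
    refine Algebra.FormallySmooth.iff_comp_surjective.2 fun B _ _ I hI f => ?_
    obtain ⟨g, hg⟩ := Algebra.FormallySmooth.comp_surjective A (MvPolynomial (Fin n) A) I hI
      (f.comp (Ideal.Quotient.mkₐ A (relIdeal P)))
    refine ⟨g.comp s, ?_⟩
    rw [← AlgHom.comp_assoc, hg, AlgHom.comp_assoc, hs, AlgHom.comp_id]
  have hfp : Algebra.FinitePresentation A (SymAlg P) :=
    Algebra.FinitePresentation.quotient (Submodule.fg_span (Set.finite_range _))
  exact ⟨hfs, hfp⟩

variable {B : Type u} [CommRing B] [Algebra R B] [Algebra A B] [IsScalarTower R A B]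
  {M : Type u} [AddCommGroup M] [Module B M] [Module A M] [Module R M] [IsScalarTower A B M]
  [IsScalarTower R B M]

/-- The linear algebra behind the extension of a derivation to the symmetric algebra. -/
theorem sum_smul_derivation_eq_zero (δ : Derivation R A M) (P : Matrix (Fin n) (Fin n) A)
    (hP : P * P = P) (y : Fin n → B) (hy : ∀ i, y i = ∑ j, algebraMap A B (P i j) * y j)
    (i : Fin n) : ∑ j, P i j • ∑ k, y k • δ (P j k) = 0 := by
  have hP' : ∀ k, ∑ j, P i j * P j k = P i k := fun k => congrFun (congrFun hP i) k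
  have h2 : ∀ k, ∑ j, P i j • δ (P j k) = δ (P i k) - ∑ j, P j k • δ (P i j) := by
    intro k
    rw [eq_sub_iff_add_eq, ← Finset.sum_add_distrib]
    conv_rhs => rw [← hP' k, map_sum]
    exact Finset.sum_congr rfl fun j _ => (δ.leibniz _ _).symm
  calc ∑ j, P i j • ∑ k, y k • δ (P j k)
      = ∑ k, y k • ∑ j, P i j • δ (P j k) := by
        simp only [Finset.smul_sum]
        rw [Finset.sum_comm]
        exact Finset.sum_congr rfl fun k _ => Finset.sum_congr rfl fun j _ => smul_comm _ _ _
    _ = ∑ k, y k • δ (P i k) - ∑ j, (∑ k, algebraMap A B (P j k) * y k) • δ (P i j) := by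
        simp only [h2, smul_sub, Finset.sum_sub_distrib, Finset.smul_sum, Finset.sum_smul]
        congr 1
        rw [Finset.sum_comm]
        refine Finset.sum_congr rfl fun j _ => Finset.sum_congr rfl fun k _ => ?_
        rw [mul_smul, algebraMap_smul, smul_comm]
    _ = 0 := by simp only [← hy, sub_self]

/-- Extension of a derivation of `A` to a quotient of `A[y]`. -/
theorem exists_derivation (P : Matrix (Fin n) (Fin n) A)
    (q : MvPolynomial (Fin n) A →ₐ[A] B) (hq : Function.Surjective q)
    (hker : RingHom.ker q = relIdeal P) (δ : Derivation R A M) (w : Fin n → M)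
    (hw : ∀ i, w i = ∑ j, (P i j • w j + q (X j) • δ (P i j))) :
    ∃ d : Derivation R B M, (∀ a, d (algebraMap A B a) = δ a) ∧ ∀ i, d (q (X i)) = w i := by
  classical
  letI : Module Bᵐᵒᵖ M := Module.compHom M ((RingHom.id B).fromOpposite mul_comm)
  haveI : IsCentralScalar B M := ⟨fun r m => rfl⟩
  haveI : SMulCommClass B Bᵐᵒᵖ M := ⟨fun a b m => smul_comm a b.unop m⟩
  let φ : A →+* TrivSqZeroExt B M :=
    { toFun := fun a => TrivSqZeroExt.inl (algebraMap A B a) + TrivSqZeroExt.inr (δ a)
      map_one' := by refine TrivSqZeroExt.ext ?_ ?_ <;> simp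
      map_zero' := by refine TrivSqZeroExt.ext ?_ ?_ <;> simp
      map_mul' := fun a b => by
        refine TrivSqZeroExt.ext ?_ ?_
        · simp
        · simp [algebraMap_smul]
      map_add' := fun a b => by refine TrivSqZeroExt.ext ?_ ?_ <;> simp }
  let Ψ : MvPolynomial (Fin n) A →+* TrivSqZeroExt B M := eval₂Hom φ fun i =>
    TrivSqZeroExt.inl (q (X i)) + TrivSqZeroExt.inr (w i)
  have hΨC : ∀ a, Ψ (C a) = φ a := fun a => eval₂Hom_C _ _ a
  have hΨX : ∀ i, Ψ (X i) = TrivSqZeroExt.inl (q (X i)) + TrivSqZeroExt.inr (w i) :=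
    fun i => eval₂Hom_X' _ _ i
  have hfst : ∀ p, (Ψ p).fst = q p := by
    intro p
    induction p using MvPolynomial.induction_on with
    | C a => rw [hΨC]; simp [φ, ← MvPolynomial.algebraMap_eq]
    | add p p' hp hp' => simp only [map_add, TrivSqZeroExt.fst_add, hp, hp']
    | mul_X p i hp => simp only [map_mul, TrivSqZeroExt.fst_mul, hp, hΨX]; simp
  have hΨ : ∀ z ∈ RingHom.ker q, Ψ z = 0 := by
    intro z hz
    rw [hker] at hz
    refine RingHom.mem_ker.1 ((Ideal.span_le (I := RingHom.ker Ψ)).2 ?_ hz)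
    rintro _ ⟨i, rfl⟩
    rw [SetLike.mem_coe, RingHom.mem_ker]
    refine TrivSqZeroExt.ext ?_ ?_
    · rw [hfst, TrivSqZeroExt.fst_zero, ← RingHom.mem_ker, hker]
      exact Ideal.subset_span ⟨i, rfl⟩
    · rw [map_sub, map_sum, TrivSqZeroExt.snd_sub, TrivSqZeroExt.snd_sum,
        TrivSqZeroExt.snd_zero, sub_eq_zero]
      simp only [map_mul, hΨX, hΨC, TrivSqZeroExt.snd_mul]
      simpa [φ, algebraMap_smul] using hw i
  let Φ : B →+* TrivSqZeroExt B M := RingHom.liftOfSurjective q.toRingHom hq ⟨Ψ, hΨ⟩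
  have hΦ : ∀ p, Φ (q p) = Ψ p := fun p =>
    RingHom.liftOfRightInverse_comp_apply q.toRingHom _ _ ⟨Ψ, hΨ⟩ p
  have hΦ1 : ∀ b, (Φ b).fst = b := fun b => by
    obtain ⟨p, rfl⟩ := hq b; rw [hΦ, hfst]
  have hΦA : ∀ a, Φ (algebraMap A B a) = φ a := fun a => by
    rw [← q.commutes, hΦ, MvPolynomial.algebraMap_eq, hΨC]
  refine ⟨Derivation.mk'
    { toFun := fun b => (Φ b).snd
      map_add' := fun a b => by simp
      map_smul' := fun r b => by
        have h1 : Φ (algebraMap R B r) = TrivSqZeroExt.inl (algebraMap R B r) := by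
          rw [IsScalarTower.algebraMap_apply R A B, hΦA]
          refine TrivSqZeroExt.ext ?_ ?_ <;> simp [φ]
        rw [Algebra.smul_def, map_mul, h1, TrivSqZeroExt.inl_mul_eq_smul,
          TrivSqZeroExt.snd_smul, algebraMap_smul, RingHom.id_apply] }
    (fun a b => by
      show (Φ (a * b)).snd = a • (Φ b).snd + b • (Φ a).snd
      rw [map_mul, TrivSqZeroExt.snd_mul, hΦ1, hΦ1, op_smul_eq_smul]), fun a => ?_, fun i => ?_⟩
  · show (Φ (algebraMap A B a)).snd = δ a
    rw [hΦA]; simp [φ]
  · show (Φ (q (X i))).snd = w i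
    rw [hΦ, hΨX]; simp

/-- The differentials of the symmetric algebra of the kernel of `Aⁿ → Ω[A⁄R]` are free. -/
theorem exists_kaehler_basis {B : Type u} [CommRing B] [Algebra R B] [Algebra A B] [IsScalarTower R A B]
    (x : Fin n → A) (π : (Fin n → A) →ₗ[A] Ω[A⁄R]) (hπ0 : π = Fintype.linearCombination A fun i => D R A (x i))
    (σ : Ω[A⁄R] →ₗ[A] (Fin n → A)) (hπσ : ∀ w, π (σ w) = w)
    (v : Fin n → Fin n → A) (hvd : ∀ i, v i = Pi.single i 1 - σ (D R A (x i)))
    (P : Matrix (Fin n) (Fin n) A) (hPd : ∀ i k, P i k = v i k) (hPv : ∀ i, ∑ k, P i k • v k = v i)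
    (hP : P * P = P) (q : MvPolynomial (Fin n) A →ₐ[A] B) (hq : Function.Surjective q)
    (hker : RingHom.ker q = relIdeal P) :
    ∃ bas : Module.Basis (Fin n) B Ω[B⁄R], ∀ r : B →ₐ[A] A, (∀ i, r (q (X i)) = 0) →
      (bas.toMatrix fun k => D R B (algebraMap A B (x k) + q (X k))).map r = 1 := by
  classical
  have hπ1 : ∀ i, π (Pi.single i 1) = D R A (x i) := fun i => by
    simp [hπ0, Fintype.linearCombination_apply_single]
  have hv0 : ∀ i, π (v i) = 0 := fun i => by simp only [hvd, map_sub, hπ1, hπσ, sub_self]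
  have hlin : ∀ (M : Type u) [AddCommGroup M] [Module A M] (L : (Fin n → A) →ₗ[A] M)
      (c : Fin n → A), L c = ∑ k, c k • L (Pi.single k 1) := by
    intro M _ _ L c
    conv_lhs => rw [pi_eq_sum_univ' c]
    simp
  let y : Fin n → B := fun i => q (X i)
  have hy : ∀ i, y i = ∑ j, algebraMap A B (P i j) * y j := by
    intro i
    rw [← sub_eq_zero]
    have : q (X i - ∑ j, C (P i j) * X j) = 0 :=
      (RingHom.mem_ker).1 (hker.symm ▸ Ideal.subset_span ⟨i, rfl⟩)
    simpa [y, map_sum, ← MvPolynomial.algebraMap_eq] using this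
  -- base change of vectors
  let ι : (Fin n → A) →ₗ[A] (Fin n → B) := (Algebra.linearMap A B).compLeft (Fin n)
  let δ : Derivation R A (Fin n → B) := (ι ∘ₗ σ).compDer (D R A)
  have hδ : ∀ a, δ a = ι (σ (D R A a)) := fun a => rfl
  let w : Fin n → Fin n → B := fun i => ι (v i) + ∑ j, y j • δ (P i j)
  have hw : ∀ i, w i = ∑ j, (P i j • w j + y j • δ (P i j)) := by
    intro i
    simp only [w, smul_add, Finset.sum_add_distrib, ← map_smul ι, ← map_sum ι, hPv,
      sum_smul_derivation_eq_zero δ P hP y hy i, add_zero]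
  obtain ⟨dB, hdA', hdy'' : ∀ i, dB (y i) = w i⟩ := exists_derivation P q hq hker δ w hw
  have hdy : ∀ i, dB (y i) = w i := hdy''
  let dL := dB.liftKaehlerDifferential
  have hdA : ∀ a, dB (algebraMap A B a) = ι (σ (D R A a)) := hdA'
  let θ : Fin n → Ω[B⁄R] := fun k =>
    D R B (algebraMap A B (x k)) + ∑ j, algebraMap A B (P k j) • D R B (y j)
  let Θ : (Fin n → B) →ₗ[B] Ω[B⁄R] := Fintype.linearCombination B θ
  have hΘι : ∀ c : Fin n → A, Θ (ι c) = KaehlerDifferential.map R R A B (π c) +
      ∑ j, algebraMap A B (∑ k, c k * P k j) • D R B (y j) := by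
    intro c
    have hmap : KaehlerDifferential.map R R A B (π c) =
        ∑ k, algebraMap A B (c k) • D R B (algebraMap A B (x k)) := by
      simp [hπ0, Fintype.linearCombination_apply, map_sum, map_smul]
    rw [hmap]
    simp only [Θ, Fintype.linearCombination_apply, ι, LinearMap.compLeft_apply,
      Function.comp_apply, Algebra.linearMap_apply, θ, smul_add, Finset.sum_add_distrib,
      Finset.smul_sum, map_sum, map_mul, Finset.sum_smul, mul_smul]
    congr 1
    rw [Finset.sum_comm]
  have hdy' : ∀ i, D R B (y i) = ∑ j, algebraMap A B (P i j) • D R B (y j) +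
      ∑ j, y j • D R B (algebraMap A B (P i j)) := by
    intro i
    conv_lhs => rw [hy i]
    simp only [map_sum, Derivation.leibniz, Finset.sum_add_distrib]
  have hσP : ∀ (a : A) (j : Fin n), ∑ k, σ (D R A a) k * P k j = 0 := by
    intro a j
    have h := congrFun (hlin _ (LinearMap.id - σ ∘ₗ π) (σ (D R A a))) j
    simp only [LinearMap.sub_apply, LinearMap.id_apply, LinearMap.comp_apply, hπσ, sub_self,
      Pi.zero_apply, Finset.sum_apply, Pi.smul_apply, hπ1, smul_eq_mul] at h
    simpa only [hPd, hvd] using h.symm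
  have hΘδ : ∀ a, Θ (δ a) = D R B (algebraMap A B a) := fun a => by
    rw [hδ, hΘι, hπσ, KaehlerDifferential.map_D]
    simp only [hσP, map_zero]
    exact add_eq_left.2 (Finset.sum_eq_zero fun j _ => zero_smul B _)
  have hΘd : ∀ b, Θ (dB b) = D R B b := by
    intro b
    obtain ⟨p, rfl⟩ := hq b
    induction p using MvPolynomial.induction_on with
    | C a =>
      rw [← MvPolynomial.algebraMap_eq, q.commutes]
      rw [hdA, ← hδ, hΘδ]
    | add p p' hp hp' => simp only [map_add, hp, hp']
    | mul_X p i hp =>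
      have hyi : Θ (dB (y i)) = D R B (y i) := by
        rw [hdy, map_add, map_sum, hΘι, hv0, map_zero, zero_add]
        simp only [map_smul, hΘδ]
        rw [hdy' i]
        congr 1
        refine Finset.sum_congr rfl fun j _ => ?_
        congr 2
        simpa [Matrix.mul_apply, hPd] using congrFun (congrFun hP i) j
      rw [map_mul]
      show Θ (dB (q p * y i)) = _
      rw [Derivation.leibniz, Derivation.leibniz, map_add, map_smul, map_smul, hp, hyi]
  have hΘdL : Θ ∘ₗ dL = LinearMap.id := by
    refine LinearMap.ext_on (span_range_derivation R B) ?_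
    rintro _ ⟨b, rfl⟩
    simp only [LinearMap.comp_apply, dL, Derivation.liftKaehlerDifferential_comp_D, hΘd,
      LinearMap.id_apply]
  have hdLΘ : dL ∘ₗ Θ = LinearMap.id := by
    refine (Pi.basisFun B (Fin n)).ext fun k => ?_
    simp only [LinearMap.comp_apply, Pi.basisFun_apply, Θ, Fintype.linearCombination_apply_single,
      one_smul, LinearMap.id_apply, θ, map_add, map_sum, map_smul, dL,
      Derivation.liftKaehlerDifferential_comp_D, hdA, hdy]
    have h1 : ∑ j, algebraMap A B (P k j) • w j = ι (v k) := by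
      have h := hdy k
      conv_lhs at h => rw [hy k]
      simp only [map_sum, Derivation.leibniz, hdy, hdA, Finset.sum_add_distrib] at h
      exact add_right_cancel h
    rw [h1, ← map_add]
    simp only [hvd, add_sub_cancel]
    ext l
    simp [ι, Pi.single_apply, apply_ite (algebraMap A B)]
  let bas : Module.Basis (Fin n) B Ω[B⁄R] :=
    (Pi.basisFun B (Fin n)).map (LinearEquiv.ofLinear Θ dL hΘdL hdLΘ)
  refine ⟨bas, fun r hry' => ?_⟩
  have hry : ∀ i, r (y i) = 0 := hry'
  ext l k
  rw [Matrix.map_apply, Module.Basis.toMatrix_apply]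
  show r (dL (D R B (algebraMap A B (x k) + y k)) l) = _
  simp only [dL, Derivation.liftKaehlerDifferential_comp_D, map_add, hdA, hdy, w]
  simp only [Pi.add_apply, Finset.sum_apply, Pi.smul_apply, smul_eq_mul, map_add, map_sum,
    map_mul, hry, zero_mul, Finset.sum_const_zero, add_zero]
  simp [ι, hvd, Matrix.one_apply, Pi.single_apply]

theorem exists_standardSmooth_retract [Algebra.Smooth R A] :
    ∃ (B : Type u) (_ : CommRing B) (_ : Algebra R B) (_ : Algebra A B) (_ : IsScalarTower R A B),
      Algebra.Smooth A B ∧ Nonempty (B →ₐ[A] A) ∧ Algebra.IsStandardSmooth R B := by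
  classical
  obtain ⟨n, f, hf⟩ := Algebra.FiniteType.iff_quotient_mvPolynomial''.1
    (inferInstance : Algebra.FiniteType R A)
  let x : Fin n → A := fun i => f (X i)
  let π : (Fin n → A) →ₗ[A] Ω[A⁄R] := Fintype.linearCombination A fun i => D R A (x i)
  have hπ1 : ∀ i, π (Pi.single i 1) = D R A (x i) := fun i => by
    simp [π, Fintype.linearCombination_apply_single]
  have hπ : Function.Surjective π := by
    rw [← LinearMap.range_eq_top, eq_top_iff, ← span_range_derivation, Submodule.span_le]
    rintro _ ⟨a, rfl⟩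
    obtain ⟨p, rfl⟩ := hf a
    induction p using MvPolynomial.induction_on with
    | C r => rw [show f (C r) = algebraMap R A r from AlgHom.commutes f r,
        Derivation.map_algebraMap]; exact zero_mem _
    | add p q hp hq => rw [map_add, map_add]; exact add_mem hp hq
    | mul_X p i hp =>
      rw [map_mul, Derivation.leibniz]
      exact add_mem (Submodule.smul_mem _ _ ⟨_, hπ1 i⟩) (Submodule.smul_mem _ _ hp)
  obtain ⟨σ, hσ⟩ := Module.projective_lifting_property π LinearMap.id hπ
  have hπσ : ∀ w, π (σ w) = w := fun w => LinearMap.congr_fun hσ w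
  -- `v i` are the columns of the idempotent `1 - σπ`
  let v : Fin n → Fin n → A := fun i => Pi.single i 1 - σ (D R A (x i))
  have hv0 : ∀ i, π (v i) = 0 := fun i => by simp only [v, map_sub, hπ1, hπσ, sub_self]
  let P : Matrix (Fin n) (Fin n) A := Matrix.of fun i k => v i k
  have hlin : ∀ (M : Type u) [AddCommGroup M] [Module A M] (L : (Fin n → A) →ₗ[A] M)
      (c : Fin n → A), L c = ∑ k, c k • L (Pi.single k 1) := by
    intro M _ _ L c
    conv_lhs => rw [pi_eq_sum_univ' c]
    simp
  have hPv : ∀ i, ∑ k, P i k • v k = v i := by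
    intro i
    have h1 : σ (π (v i)) = 0 := by rw [hv0, map_zero]
    have h2 : ∑ k, P i k • (Pi.single k (1 : A) : Fin n → A) = v i := (pi_eq_sum_univ' (v i)).symm
    have h3 : ∑ k, P i k • σ (D R A (x k)) = σ (π (v i)) := by
      rw [hlin _ π (v i), map_sum]
      simp [hπ1, P]
    calc ∑ k, P i k • v k
        = (∑ k, P i k • (Pi.single k (1 : A) : Fin n → A)) - ∑ k, P i k • σ (D R A (x k)) := by
          simp [v, smul_sub, Finset.sum_sub_distrib]
      _ = v i - σ (π (v i)) := by rw [h2, h3]
      _ = v i := by rw [h1, sub_zero]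
  have hP : P * P = P := by
    ext i l
    have := congrFun (hPv i) l
    simpa [Matrix.mul_apply, P, Finset.sum_apply] using this
  haveI := smooth_symAlg P hP
  let B := SymAlg P
  obtain ⟨bas, hbas⟩ := exists_kaehler_basis (B := B) x π rfl σ hπσ v (fun i => rfl) P (fun i k => rfl)
    hPv hP (Ideal.Quotient.mkₐ A (relIdeal P)) Ideal.Quotient.mk_surjective (Ideal.Quotient.mkₐ_ker A _)
  let y : Fin n → B := fun i => Ideal.Quotient.mkₐ A (relIdeal P) (X i)
  -- the exact differentials
  let s : Fin n → B := fun k => algebraMap A B (x k) + y k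
  let g : B := (bas.toMatrix fun k => D R B (s k)).det
  have hret : ∀ i ∈ relIdeal P, (aeval (fun _ : Fin n => (0 : A))) i = 0 := by
    intro z hz
    refine RingHom.mem_ker.1 ((Ideal.span_le (I := RingHom.ker (aeval fun _ : Fin n => (0 : A)))).2 ?_ hz)
    rintro _ ⟨i, rfl⟩
    simp
  let r : B →ₐ[A] A := Ideal.Quotient.liftₐ _ (aeval fun _ => 0) hret
  have hr : r g = 1 := by
    have hry : ∀ i, r (y i) = 0 := fun i => by
      show aeval (fun _ : Fin n => (0 : A)) (X i) = 0
      simp
    have : (bas.toMatrix fun k => D R B (s k)).map r = 1 := hbas r hry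
    show r (Matrix.det _) = 1
    rw [AlgHom.map_det, AlgHom.mapMatrix_apply, this, Matrix.det_one]
  let Bg := Localization.Away g
  let rg : Bg →ₐ[A] A := IsLocalization.liftAlgHom (M := Submonoid.powers g) (f := r) (fun z => by
    obtain ⟨m, hm⟩ := z.2
    rw [← hm, map_pow, hr, one_pow]
    exact isUnit_one)
  haveI : Algebra.Smooth B Bg := inferInstance
  haveI hAB : Algebra.Smooth A Bg := Algebra.Smooth.comp A B Bg
  refine ⟨Bg, inferInstance, inferInstance, inferInstance, inferInstance, hAB, ⟨rg⟩, ?_⟩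
  haveI : Algebra.Smooth R Bg := Algebra.Smooth.comp R A Bg
  haveI : IsLocalizedModule (Submonoid.powers g) (KaehlerDifferential.map R R B Bg) :=
    isLocalizedModule_map R B Bg (Submonoid.powers g)
  let bg : Module.Basis (Fin n) Bg Ω[Bg⁄R] :=
    bas.ofIsLocalizedModule Bg (Submonoid.powers g) (KaehlerDifferential.map R R B Bg)
  have hbg : bg.toMatrix (fun k => D R Bg (algebraMap B Bg (s k))) =
      (bas.toMatrix fun k => D R B (s k)).map (algebraMap B Bg) := by
    ext l k
    rw [Matrix.map_apply, Module.Basis.toMatrix_apply, Module.Basis.toMatrix_apply,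
      ← KaehlerDifferential.map_D R R B Bg]
    exact bas.ofIsLocalizedModule_repr_apply Bg (Submonoid.powers g) _ _ _
  have hu : IsUnit (bg.det fun k => D R Bg (algebraMap B Bg (s k))) := by
    rw [Module.Basis.det_apply, hbg, ← RingHom.mapMatrix_apply, ← RingHom.map_det]
    exact IsLocalization.Away.algebraMap_isUnit g
  obtain ⟨hli, hspan⟩ := (Module.Basis.is_basis_iff_det bg).2 hu
  refine Algebra.IsStandardSmooth.of_basis_kaehlerDifferential (Module.Basis.mk hli hspan.ge) ?_
  rw [Module.Basis.coe_mk]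
  rintro _ ⟨k, rfl⟩
  exact ⟨_, rfl⟩

end Groth.Agent.CAlgH.SmoothRetract
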