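import Mathlib

/-! Standard smooth presentations containing prescribed elements among the distinguished variables. -/

universe u

open MvPolynomial

namespace Groth.Agent.CAlgH.SubmersiveContaining

/-- The presentation of `A` over itself with variables valued at given elements. -/
theorem exists_self_presentation {A : Type u} [CommRing A] {n : ℕ} (v : Fin n → A) :
    ∃ Q : Algebra.SubmersivePresentation A A (Fin n) (Fin n), Q.val = v ∧ Q.map = id := by
  classical
  let G : Algebra.Generators A A (Fin n) :=
    { val := v, σ' := fun a => C a, aeval_val_σ' := fun a => by simp }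
  let rel : Fin n → MvPolynomial (Fin n) A := fun i => X i - C (v i)
  have hmem : ∀ p, p - C (aeval v p) ∈ Ideal.span (Set.range rel) := by
    intro p
    induction p using MvPolynomial.induction_on with
    | C r => simp
    | add p q hp hq => rw [map_add, map_add, add_sub_add_comm]; exact add_mem hp hq
    | mul_X p i hp =>
      rw [map_mul, aeval_X, map_mul,
        show p * X i - C (aeval v p) * C (v i) = (p - C (aeval v p)) * X i + C (aeval v p) * rel i by
          show _ = _ + _ * (X i - C (v i)); ring]
      exact add_mem (Ideal.mul_mem_right _ _ hp) (Ideal.mul_mem_left _ _ (Ideal.subset_span ⟨i, rfl⟩))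
  have hker : Ideal.span (Set.range rel) = G.ker := by
    rw [G.ker_eq_ker_aeval_val]
    refine le_antisymm (Ideal.span_le.2 ?_) fun p hp => ?_
    · rintro _ ⟨i, rfl⟩
      show aeval v (X i - C (v i)) = 0
      simp
    · have := hmem p
      rwa [show aeval v p = 0 from hp, map_zero, sub_zero] at this
  let P : Algebra.PreSubmersivePresentation A A (Fin n) (Fin n) :=
    { toGenerators := G, relation := rel, span_range_relation_eq_ker := hker, map := id,
      map_inj := Function.injective_id }
  refine ⟨{ toPreSubmersivePresentation := P, jacobian_isUnit := ?_ }, rfl, rfl⟩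
  rw [P.jacobian_eq_jacobiMatrix_det]
  have : P.jacobiMatrix = 1 := by
    refine Matrix.ext fun i j => ?_
    rw [P.jacobiMatrix_apply]
    show pderiv i (X j - C (v j)) = _
    rw [map_sub, pderiv_C, sub_zero, Matrix.one_apply, pderiv_X]
    split_ifs with h
    · subst h; simp
    · exact Pi.single_eq_of_ne (Ne.symm h) _
  rw [this, Matrix.det_one, map_one]
  exact isUnit_one

theorem exists_containing {R A : Type u} [CommRing R] [CommRing A] [Algebra R A]
    [Algebra.IsStandardSmooth R A] (E : Finset A) :
    ∃ (ι σ : Type) (_ : Finite ι) (_ : Finite σ) (P : Algebra.SubmersivePresentation R A ι σ),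
      (↑E : Set A) ⊆ Set.range (P.val ∘ P.map) := by
  obtain ⟨ι, σ, hσ, hι, ⟨P⟩⟩ := Algebra.IsStandardSmooth.out (R := R) (S := A)
  obtain ⟨Q, hQv, hQm⟩ := exists_self_presentation (fun i => (E.equivFin.symm i).1)
  refine ⟨Fin E.card ⊕ ι, Fin E.card ⊕ σ, inferInstance, inferInstance, Q.comp P, fun a ha => ?_⟩
  refine ⟨Sum.inl (E.equivFin ⟨a, ha⟩), ?_⟩
  show Q.val (Q.map (E.equivFin ⟨a, ha⟩)) = a
  simp [hQv, hQm]

end Groth.Agent.CAlgH.SubmersiveContaining
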