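import Groth.Prelude.Def_Smoothing
import Groth.Agent.CAlgH.SmoothRetract
import Groth.Agent.CAlgH.SubmersiveContaining
import Groth.Agent.CAlgH.MarkedReindex
import Mathlib

/-! Delocalising the base of a factorisation through a smooth algebra. -/

universe u

open MvPolynomial
open scoped TensorProduct

namespace Groth.Agent.CAlgH.DelocalizeBase

variable {R Rl : Type u} [CommRing R] [CommRing Rl] [Algebra R Rl] (S : Submonoid R) [IsLocalization S Rl] {V : Type}

theorem exists_scaled (p : MvPolynomial V Rl) :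
    ∃ s ∈ S, ∃ q : MvPolynomial V R, MvPolynomial.map (algebraMap R Rl) q = C (algebraMap R Rl s) * p := by
  letI := MvPolynomial.algebraMvPolynomial (σ := V) (R := R) (S := Rl)
  obtain ⟨⟨q, ⟨_, ⟨s, hs, rfl⟩⟩⟩, h⟩ :=
    IsLocalization.surj (S.map (C (σ := V) (R := R))) p
  refine ⟨s, hs, q, ?_⟩
  change p * MvPolynomial.map (algebraMap R Rl) (C s) = MvPolynomial.map (algebraMap R Rl) q at h
  rw [← h, map_C, mul_comm]

theorem exists_C_mul_mem (J : Ideal (MvPolynomial V R)) (q : MvPolynomial V R)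
    (h : MvPolynomial.map (algebraMap R Rl) q ∈ J.map (MvPolynomial.map (algebraMap R Rl))) :
    ∃ s ∈ S, C s * q ∈ J := by
  letI := MvPolynomial.algebraMvPolynomial (σ := V) (R := R) (S := Rl)
  obtain ⟨_, ⟨s, hs, rfl⟩, h'⟩ :=
    (IsLocalization.algebraMap_mem_map_algebraMap_iff (S.map (C (σ := V) (R := R))) (MvPolynomial V Rl) J q).1 h
  exact ⟨s, hs, h'⟩

/-- Rescale the variables by units. -/
theorem exists_rescale (u : V → Rlˣ) :
    ∃ τ τ' : MvPolynomial V Rl →ₐ[Rl] MvPolynomial V Rl, (∀ p, τ (τ' p) = p) ∧ (∀ p, τ' (τ p) = p) ∧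
      (∀ {T : Type u} [CommRing T] [Algebra Rl T] (w : V → T) (p),
        aeval w (τ' p) = aeval (fun v => (u v : Rl) • w v) p) ∧
      ∀ v p, pderiv v (τ p) = C (↑(u v)⁻¹ : Rl) * τ (pderiv v p) := by
  let τ : MvPolynomial V Rl →ₐ[Rl] MvPolynomial V Rl := aeval fun v => C (↑(u v)⁻¹ : Rl) * X v
  let τ' : MvPolynomial V Rl →ₐ[Rl] MvPolynomial V Rl := aeval fun v => C (u v : Rl) * X v
  refine ⟨τ, τ', fun p => ?_, fun p => ?_, fun w p => ?_, fun v p => ?_⟩
  · have : τ.comp τ' = AlgHom.id Rl _ := by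
      refine MvPolynomial.algHom_ext fun v => ?_
      show τ (τ' (X v)) = X v
      simp only [τ', aeval_X, map_mul, τ, aeval_C, algebraMap_eq]
      rw [← mul_assoc, ← map_mul, Units.mul_inv, map_one, one_mul]
    exact DFunLike.congr_fun this p
  · have : τ'.comp τ = AlgHom.id Rl _ := by
      refine MvPolynomial.algHom_ext fun v => ?_
      show τ' (τ (X v)) = X v
      simp only [τ', aeval_X, map_mul, τ, aeval_C, algebraMap_eq]
      rw [← mul_assoc, ← map_mul, Units.inv_mul, map_one, one_mul]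
    exact DFunLike.congr_fun this p
  · have : (aeval w).comp τ' = aeval (fun v => (u v : Rl) • w v) := by
      refine MvPolynomial.algHom_ext fun v => ?_
      show aeval w (τ' (X v)) = _
      simp [τ', Algebra.smul_def]
    exact DFunLike.congr_fun this p
  · induction p using MvPolynomial.induction_on with
    | C r => simp [τ, MvPolynomial.algebraMap_eq]
    | add p q hp hq => simp only [map_add, hp, hq, mul_add]
    | mul_X p i hp =>
      classical
      rw [map_mul, show τ (X i) = C (↑(u i)⁻¹ : Rl) * X i from aeval_X _ _, pderiv_mul, hp, pderiv_mul, pderiv_C,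
        pderiv_mul, map_add, map_mul, map_mul, show τ (X i) = C (↑(u i)⁻¹ : Rl) * X i from aeval_X _ _, pderiv_X]
      by_cases h : i = v
      · subst h; rw [Pi.single_eq_same, map_one]; ring
      · rw [Pi.single_eq_of_ne h, map_zero]; ring

set_option maxHeartbeats 1000000 in
/-- The core: a localised presentation with unit minor descends. -/
theorem exists_descent {A Λ B'' : Type u} [CommRing A] [Algebra R A] [CommRing Λ] [Algebra R Λ]
    [CommRing B''] [Algebra R B''] [Algebra Rl B''] [IsScalarTower R Rl B'']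
    {r : ℕ} {ι σ : Type} [Fintype ι] [Fintype σ]
    (π : MvPolynomial (Fin r) R →ₐ[R] A) (hπ : Function.Surjective π) (hπfg : (RingHom.ker π.toRingHom).FG)
    (φ : A →ₐ[R] Λ) (gA : A →ₐ[R] B'') (hB : B'' →ₐ[Rl] Rl ⊗[R] Λ) (hcomm : ∀ a, hB (gA a) = 1 ⊗ₜ φ a)
    (W : Algebra.SubmersivePresentation Rl B'' (Fin r ⊕ ι) σ) (hW : ∀ k, W.val (Sum.inl k) = gA (π (X k))) :
    ∃ (B : Type u) (_ : CommRing B) (_ : Algebra R B) (α : A →ₐ[R] B) (β : B →ₐ[R] Λ),
      β.comp α = φ ∧ ∃ s ∈ S, Smoothing.IsElementaryStandard R B (algebraMap R B s) := by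
  classical
  let η : R →+* Rl := algebraMap R Rl
  have hL : IsLocalizedModule S (TensorProduct.mk R Rl Λ 1) :=
    (isLocalizedModule_iff_isBaseChange S Rl _).2 (TensorProduct.isBaseChange R Λ Rl)
  -- scalars
  have hlam : ∀ v : Fin r ⊕ ι, ∃ (u : Rlˣ) (lam : Λ), hB ((u : Rl) • W.val v) = 1 ⊗ₜ[R] lam ∧
      ∀ k, v = Sum.inl k → u = 1 ∧ lam = φ (π (X k)) := by
    rintro (k | i)
    · refine ⟨1, φ (π (X k)), ?_, fun k' h => ?_⟩
      · rw [Units.val_one, one_smul, hW, hcomm]
      · cases h; exact ⟨rfl, rfl⟩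
    · obtain ⟨⟨lam, s⟩, h⟩ := IsLocalizedModule.surj S (TensorProduct.mk R Rl Λ 1) (hB (W.val (Sum.inr i)))
      refine ⟨(IsLocalization.map_units Rl s).unit, lam, ?_, fun k' h => nomatch h⟩
      rw [map_smul, IsUnit.unit_spec, algebraMap_smul]
      exact h
  choose u lam hu hinl using hlam
  let w : Fin r ⊕ ι → B'' := fun v => (u v : Rl) • W.val v
  let ψ : MvPolynomial (Fin r ⊕ ι) R →ₐ[R] B'' := aeval w
  have hψ : ∀ q, ψ q = aeval w (MvPolynomial.map η q) := fun q => (aeval_map_algebraMap Rl w q).symm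
  have hcompat : ∀ q, hB (ψ q) = 1 ⊗ₜ[R] aeval lam q := by
    intro q
    have : (hB.restrictScalars R).comp ψ =
        (Algebra.TensorProduct.includeRight : Λ →ₐ[R] Rl ⊗[R] Λ).comp (aeval lam) := by
      refine MvPolynomial.algHom_ext fun v => ?_
      show hB (aeval w (X v)) = (1 : Rl) ⊗ₜ[R] aeval lam (X v)
      rw [aeval_X, aeval_X]
      exact hu v
    exact DFunLike.congr_fun this q
  obtain ⟨τ, τ', hττ, hτ'τ, hev, hpd⟩ := exists_rescale u
  have hwτ : ∀ p, aeval w p = aeval W.val (τ' p) := fun p => (hev W.val p).symm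
  -- clear denominators in the relations
  have hF : ∀ j, ∃ s ∈ S, ∃ F : MvPolynomial (Fin r ⊕ ι) R,
      MvPolynomial.map η F = C (η s) * τ (W.relation j) ∧ aeval lam F = 0 := by
    intro j
    obtain ⟨s, hs, q, hq⟩ := exists_scaled S (τ (W.relation j))
    have h0 : ψ q = 0 := by
      rw [hψ, hq, map_mul, hwτ (τ _)]
      rw [hτ'τ, W.aeval_val_relation, mul_zero]
    have h1 := hcompat q
    rw [h0, map_zero] at h1
    obtain ⟨t, ht⟩ := (IsLocalizedModule.eq_zero_iff S (TensorProduct.mk R Rl Λ 1)).1 h1.symm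
    refine ⟨t * s, mul_mem t.2 hs, C (t : R) * q, ?_, ?_⟩
    · rw [map_mul, map_C, hq, ← mul_assoc, ← map_mul, ← map_mul]
    · rw [map_mul, aeval_C, ← Algebra.smul_def]
      exact ht
  choose s hs F hFmap hFlam using hF
  let J : Ideal (MvPolynomial (Fin r ⊕ ι) R) := Ideal.span (Set.range F)
  have hrelJ : ∀ j, τ (W.relation j) ∈ J.map (MvPolynomial.map η) := by
    intro j
    have hju : IsUnit (C (σ := Fin r ⊕ ι) (η (s j))) := (IsLocalization.map_units Rl ⟨s j, hs j⟩).map C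
    rw [← Ideal.unit_mul_mem_iff_mem _ hju, ← hFmap]
    exact Ideal.mem_map_of_mem _ (Ideal.subset_span ⟨j, rfl⟩)
  have hJ : ∀ q, ψ q = 0 → ∃ t ∈ S, C t * q ∈ J := by
    intro q hq
    refine exists_C_mul_mem (Rl := Rl) S J q ?_
    rw [hψ, hwτ] at hq
    have hk : τ' (MvPolynomial.map η q) ∈ W.ker := by rw [W.ker_eq_ker_aeval_val]; exact hq
    rw [← W.span_range_relation_eq_ker] at hk
    have h2 := Ideal.mem_map_of_mem τ hk
    rw [hττ] at h2
    have hle : (Ideal.span (Set.range W.relation)).map τ ≤ J.map (MvPolynomial.map η) := by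
      rw [Ideal.map_le_iff_le_comap, Ideal.span_le]
      intro p hp
      obtain ⟨j, rfl⟩ := hp
      exact hrelJ j
    exact hle h2
  obtain ⟨l, g, hg⟩ := Submodule.fg_iff_exists_fin_generating_family.1 hπfg
  let ν : MvPolynomial (Fin r) R →ₐ[R] MvPolynomial (Fin r ⊕ ι) R := rename Sum.inl
  let rel : σ ⊕ Fin l → MvPolynomial (Fin r ⊕ ι) R := Sum.elim F fun k => ν (g k)
  let I : Ideal (MvPolynomial (Fin r ⊕ ι) R) := Ideal.span (Set.range rel)
  have hψν : ∀ p, ψ (ν p) = gA (π p) := by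
    intro p
    have : ψ.comp ν = gA.comp π := by
      refine MvPolynomial.algHom_ext fun k => ?_
      show aeval w (rename Sum.inl (X k)) = gA (π (X k))
      rw [rename_X, aeval_X]
      show (u (Sum.inl k) : Rl) • W.val (Sum.inl k) = _
      rw [(hinl _ k rfl).1, Units.val_one, one_smul, hW]
    exact DFunLike.congr_fun this p
  have hlamν : ∀ p, aeval lam (ν p) = φ (π p) := by
    intro p
    have : (aeval lam).comp ν = φ.comp π := by
      refine MvPolynomial.algHom_ext fun k => ?_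
      show aeval lam (rename Sum.inl (X k)) = φ (π (X k))
      rw [rename_X, aeval_X]
      exact (hinl _ k rfl).2
    exact DFunLike.congr_fun this p
  have hgπ : ∀ k, π (g k) = 0 := fun k => hg.le (Ideal.subset_span ⟨k, rfl⟩)
  have hIlam : ∀ x ∈ I, aeval lam x = 0 := by
    intro x hx
    refine (Ideal.span_le (I := RingHom.ker (aeval lam : MvPolynomial (Fin r ⊕ ι) R →ₐ[R] Λ))).2 ?_ hx
    rintro _ ⟨j | k, rfl⟩
    · exact hFlam j
    · show aeval lam (ν (g k)) = 0
      rw [hlamν, hgπ, map_zero]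
  have hπν : ∀ x ∈ RingHom.ker π.toRingHom, Ideal.Quotient.mkₐ R I (ν x) = 0 := by
    intro x hx
    rw [← hg] at hx
    refine Ideal.Quotient.eq_zero_iff_mem.2 (SetLike.le_def.1 ?_ (Ideal.mem_map_of_mem ν hx))
    rw [Ideal.map_span, Ideal.span_le]
    rintro _ ⟨_, ⟨k, rfl⟩, rfl⟩
    exact Ideal.subset_span ⟨Sum.inr k, rfl⟩
  let α : A →ₐ[R] MvPolynomial (Fin r ⊕ ι) R ⧸ I :=
    AlgHom.liftOfSurjective π hπ ((Ideal.Quotient.mkₐ R I).comp ν) hπν
  let β : MvPolynomial (Fin r ⊕ ι) R ⧸ I →ₐ[R] Λ := Ideal.Quotient.liftₐ I (aeval lam) hIlam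
  refine ⟨_, inferInstance, inferInstance, α, β, ?_, ?_⟩
  · refine AlgHom.ext fun a => ?_
    obtain ⟨p, rfl⟩ := hπ a
    exact (congrArg β (AlgHom.liftOfSurjective_apply π hπ ((Ideal.Quotient.mkₐ R I).comp ν) hπν p)).trans (hlamν p)
  -- the standard element
  let e := Fintype.equivFin σ
  let rows : Fin (Fintype.card σ) ↪ σ ⊕ Fin l := ⟨Sum.inl ∘ e.symm, Sum.inl_injective.comp e.symm.injective⟩
  let cols : Fin (Fintype.card σ) ↪ Fin r ⊕ ι := ⟨W.map ∘ e.symm, W.map_inj.comp e.symm.injective⟩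
  let Δ : MvPolynomial (Fin r ⊕ ι) R := (Matrix.of fun j k => pderiv (cols k) (rel (rows j))).det
  have hΔ : IsUnit (ψ Δ) := by
    let M : Matrix σ σ B'' := Matrix.of fun j k => aeval W.val (pderiv (W.map k) (W.relation j))
    have hM : IsUnit M.det := by
      have h := W.jacobian_isUnit
      rw [W.jacobian_eq_jacobiMatrix_det, RingHom.map_det, W.algebraMap_eq] at h
      rw [← Matrix.det_transpose]
      convert h using 2
      refine Matrix.ext fun j k => ?_
      rw [Matrix.transpose_apply, RingHom.mapMatrix_apply, Matrix.map_apply, W.jacobiMatrix_apply]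
      rfl
    let d₁ : σ → B'' := fun j => algebraMap Rl B'' (η (s j))
    let d₂ : σ → B'' := fun k => algebraMap Rl B'' (↑(u (W.map k))⁻¹ : Rl)
    have hN : ψ Δ = (Matrix.diagonal d₁ * M * Matrix.diagonal d₂).det := by
      rw [← Matrix.det_reindex_self e, AlgHom.map_det]
      congr 1
      refine Matrix.ext fun j k => ?_
      rw [AlgHom.mapMatrix_apply, Matrix.map_apply, Matrix.of_apply, Matrix.reindex_apply, Matrix.submatrix_apply,
        Matrix.mul_diagonal, Matrix.diagonal_mul]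
      show ψ (pderiv (W.map (e.symm k)) (F (e.symm j))) = _
      rw [hψ, ← pderiv_map, hFmap, pderiv_C_mul, hpd, map_mul, map_mul,
        aeval_C, aeval_C, hwτ]
      rw [hτ'τ]
      show _ = d₁ _ * aeval W.val _ * d₂ _
      simp only [d₁, d₂]
      ring
    rw [hN, Matrix.det_mul, Matrix.det_mul, Matrix.det_diagonal, Matrix.det_diagonal]
    refine IsUnit.mul (IsUnit.mul ?_ hM) ?_
    · exact IsUnit.prod_univ_iff.2 fun j => (IsLocalization.map_units Rl ⟨s j, hs j⟩).map _
    · exact IsUnit.prod_univ_iff.2 fun k => ((u (W.map k))⁻¹).isUnit.map _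
  obtain ⟨Z, hZ⟩ : ∃ Z : MvPolynomial (Fin r ⊕ ι) Rl, aeval w Z = ↑hΔ.unit⁻¹ := by
    obtain ⟨z, hz⟩ := W.aeval_val_surjective (↑hΔ.unit⁻¹ : B'')
    exact ⟨τ z, by rw [hwτ, hτ'τ]; exact hz⟩
  obtain ⟨s₂, hs₂, q, hq⟩ := exists_scaled S Z
  have h3 : ψ (q * Δ - C s₂) = 0 := by
    rw [map_sub, map_mul, hψ q, hq, map_mul, aeval_C, hZ, aeval_C, mul_assoc, IsUnit.val_inv_mul, mul_one,
      IsScalarTower.algebraMap_apply R Rl B'', sub_self]
  obtain ⟨s₃, hs₃, h3'⟩ := hJ _ h3
  have h4 : ∀ k, ∃ t ∈ S, C t * ν (g k) ∈ J := fun k => hJ _ (by rw [hψν, hgπ, map_zero])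
  choose t ht htJ using h4
  let a : R := (∏ k, t k) * (s₃ * s₂)
  have hJI : J ≤ I := Ideal.span_mono (by rintro _ ⟨j, rfl⟩; exact ⟨Sum.inl j, rfl⟩)
  refine ⟨a, mul_mem (prod_mem fun k _ => ht k) (mul_mem hs₃ hs₂), ?_⟩
  refine MarkedReindex.isElementaryStandard_of_presentation rel (Ideal.Quotient.mkₐ R I)
    (Ideal.Quotient.mkₐ_surjective R I) (Ideal.Quotient.mkₐ_ker R I) rows cols _
    (Ideal.Quotient.mkₐ R I (C (∏ k, t k) * (C s₃ * q))) ?_ ?_
  · rw [← map_mul, ← AlgHom.commutes (Ideal.Quotient.mkₐ R I) a]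
    refine ((Ideal.Quotient.eq).2 ?_).symm
    have := Ideal.mul_mem_left _ (C (∏ k, t k)) (hJI h3')
    convert this using 1
    show _ - algebraMap R _ a = _
    simp only [a, MvPolynomial.algebraMap_eq, map_mul, Δ]
    ring
  · intro b hb x
    have hrows : Ideal.span (Set.range (rel ∘ rows)) = J := by
      congr 1
      show Set.range ((rel ∘ Sum.inl) ∘ e.symm) = _
      rw [e.symm.surjective.range_comp]
      rfl
    rw [hrows]
    have hb' : b - C a ∈ I := by
      rw [← AlgHom.commutes (Ideal.Quotient.mkₐ R I) a] at hb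
      exact Ideal.Quotient.eq.1 hb
    have e1 : b * rel x = (b - C a) * rel x + C a * rel x := by ring
    rw [e1]
    refine add_mem (Ideal.mem_sup_right ?_) (Ideal.mem_sup_left ?_)
    · rw [sq]; exact Ideal.mul_mem_mul hb' (Ideal.subset_span ⟨x, rfl⟩)
    · rcases x with j | k
      · exact Ideal.mul_mem_left _ _ (Ideal.subset_span ⟨j, rfl⟩)
      · show C a * ν (g k) ∈ J
        rw [show C a = (C (∏ i ∈ Finset.univ.erase k, t i) * C (s₃ * s₂)) * C (t k) by
          rw [← map_mul, ← map_mul]; congr 1; simp only [a]; rw [← Finset.mul_prod_erase Finset.univ t (Finset.mem_univ k)]; ring,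
          mul_assoc]
        exact Ideal.mul_mem_left _ _ (htJ k)

theorem exists_elementary {A Λ B' : Type u} [CommRing A] [Algebra R A] [Algebra.FinitePresentation R A]
    [CommRing Λ] [Algebra R Λ] (φ : A →ₐ[R] Λ) [CommRing B'] [Algebra Rl B'] [Algebra.Smooth Rl B']
    (g : Rl ⊗[R] A →ₐ[Rl] B') (h : B' →ₐ[Rl] Rl ⊗[R] Λ)
    (hgh : h.comp g = Algebra.TensorProduct.map (AlgHom.id Rl Rl) φ) :
    ∃ (B : Type u) (_ : CommRing B) (_ : Algebra R B) (α : A →ₐ[R] B) (β : B →ₐ[R] Λ),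
      β.comp α = φ ∧ ∃ s ∈ S, Smoothing.IsElementaryStandard R B (algebraMap R B s) := by
  classical
  obtain ⟨B'', _, _, _, _, -, ⟨ρ⟩, hstd⟩ := SmoothRetract.exists_standardSmooth_retract (R := Rl) (A := B')
  letI : Algebra R B'' := ((algebraMap Rl B'').comp (algebraMap R Rl)).toAlgebra
  haveI : IsScalarTower R Rl B'' := IsScalarTower.of_algebraMap_eq' rfl
  obtain ⟨r, π, hπ, hfg⟩ := ‹Algebra.FinitePresentation R A›.out
  obtain ⟨ι, σ, hσ, hι, ⟨P⟩⟩ := hstd.out
  let gA : A →ₐ[R] B'' := (((IsScalarTower.toAlgHom Rl B' B'').comp g).restrictScalars R).comp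
    Algebra.TensorProduct.includeRight
  obtain ⟨Q, hQv, -⟩ := SubmersiveContaining.exists_self_presentation (fun k => gA (π (X k)))
  haveI := Fintype.ofFinite ι
  haveI := Fintype.ofFinite σ
  refine exists_descent (Rl := Rl) S π hπ hfg φ gA (h.comp (ρ.restrictScalars Rl)) (fun a => ?_) (Q.comp P) (fun k => ?_)
  · show h (ρ (algebraMap B' B'' (g (1 ⊗ₜ a)))) = _
    rw [AlgHom.commutes, Algebra.algebraMap_self, RingHom.id_apply]
    have := DFunLike.congr_fun hgh (1 ⊗ₜ a)
    simpa using this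
  · show Q.val k = _
    rw [hQv]

end Groth.Agent.CAlgH.DelocalizeBase
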