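import Groth.Prelude.Def_Smoothing
import Mathlib

/-! Standard elements at smooth points of a presentation. -/

universe u

open MvPolynomial KaehlerDifferential
open scoped TensorProduct

namespace Groth.Agent.CAlgH.StandardAtSmooth

/-- Maximal independent rows and columns with a nonzero minor. -/
theorem exists_rows_cols {K : Type u} [Field K] {m n : ℕ} (v : Fin m → Fin n → K) :
    ∃ (c : ℕ) (rows : Fin c ↪ Fin m) (cols : Fin c ↪ Fin n),
      (Matrix.of fun j k => v (rows j) (cols k)).det ≠ 0 ∧
      ∀ l, v l ∈ Submodule.span K (Set.range (v ∘ rows)) := by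
  classical
  obtain ⟨κ, a, ha, hspan, hli⟩ := exists_linearIndependent' K v
  haveI : Fintype κ := Fintype.ofInjective a ha
  let c := Fintype.card κ
  let eκ : κ ≃ Fin c := Fintype.equivFin κ
  let rows : Fin c ↪ Fin m := ⟨a ∘ eκ.symm, ha.comp eκ.symm.injective⟩
  have hli' : LinearIndependent K (v ∘ rows) := by
    have := hli.comp eκ.symm eκ.symm.injective
    exact this
  have hspan' : Submodule.span K (Set.range (v ∘ rows)) = Submodule.span K (Set.range v) := by
    rw [← hspan]
    congr 1
    show Set.range ((v ∘ a) ∘ eκ.symm) = _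
    exact eκ.symm.surjective.range_comp _
  let w : Fin n → Fin c → K := fun i j => v (rows j) i
  obtain ⟨κ', b, hb, hspanb, hlib⟩ := exists_linearIndependent' K w
  haveI : Fintype κ' := Fintype.ofInjective b hb
  have htop : Submodule.span K (Set.range w) = ⊤ := by
    by_contra hne
    obtain ⟨x, -, hx⟩ := SetLike.exists_of_lt (lt_top_iff_ne_top.2 hne)
    obtain ⟨f, hfx, hf⟩ := Submodule.exists_dual_map_eq_bot_of_notMem hx inferInstance
    refine hfx ?_
    have hf0 : ∀ i, f (w i) = 0 := fun i => by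
      have : f (w i) ∈ (Submodule.span K (Set.range w)).map f :=
        Submodule.mem_map_of_mem (Submodule.subset_span ⟨i, rfl⟩)
      rwa [hf, Submodule.mem_bot] at this
    have hsum : ∑ j, f (Pi.single j 1) • (v ∘ rows) j = 0 := by
      funext i
      have h := hf0 i
      rw [pi_eq_sum_univ' (w i), map_sum] at h
      simp only [map_smul, smul_eq_mul] at h
      simp only [Finset.sum_apply, Pi.smul_apply, smul_eq_mul, Function.comp_apply, Pi.zero_apply]
      rw [← h]
      exact Finset.sum_congr rfl fun j _ => mul_comm _ _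
    have hz := Fintype.linearIndependent_iff.1 hli' _ hsum
    rw [pi_eq_sum_univ' x, map_sum]
    exact Finset.sum_eq_zero fun j _ => by rw [map_smul, hz j, smul_zero]
  let B : Module.Basis κ' K (Fin c → K) := Module.Basis.mk hlib (by rw [hspanb, htop])
  have hcard : Fintype.card κ' = c := by
    rw [← Module.finrank_eq_card_basis B, Module.finrank_fin_fun]
  let eκ' : κ' ≃ Fin c := Fintype.equivFinOfCardEq hcard
  let cols : Fin c ↪ Fin n := ⟨b ∘ eκ'.symm, hb.comp eκ'.symm.injective⟩
  refine ⟨c, rows, cols, ?_, fun l => hspan'.ge (Submodule.subset_span ⟨l, rfl⟩)⟩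
  intro hdet
  rw [← Matrix.det_transpose] at hdet
  obtain ⟨t, ht, ht0⟩ := Matrix.exists_vecMul_eq_zero_iff.2 hdet
  have hsum : ∑ k, t k • w (cols k) = 0 := by
    funext j
    have := congrFun ht0 j
    simpa [Matrix.vecMul, dotProduct, w, Finset.sum_apply] using this
  exact ht (funext (Fintype.linearIndependent_iff.1 (hlib.comp eκ'.symm eκ'.symm.injective) t hsum))

variable {R A : Type u} [CommRing R] [CommRing A] [Algebra R A] {n m : ℕ}

/-- The differential of a polynomial function. -/
theorem D_algebraMap_mvPolynomial {S : Type u} [CommRing S] [Algebra R S]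
    [Algebra (MvPolynomial (Fin n) R) S] [IsScalarTower R (MvPolynomial (Fin n) R) S]
    (p : MvPolynomial (Fin n) R) :
    D R S (algebraMap (MvPolynomial (Fin n) R) S p) = ∑ i,
      algebraMap (MvPolynomial (Fin n) R) S (pderiv i p) • D R S (algebraMap (MvPolynomial (Fin n) R) S (X i)) := by
  induction p using MvPolynomial.induction_on with
  | C r =>
    rw [← MvPolynomial.algebraMap_eq, ← IsScalarTower.algebraMap_apply, Derivation.map_algebraMap]
    refine (Finset.sum_eq_zero fun i _ => ?_).symm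
    rw [MvPolynomial.algebraMap_eq, pderiv_C, map_zero, zero_smul]
  | add p p' hp hp' =>
    rw [map_add, map_add, hp, hp', ← Finset.sum_add_distrib]
    refine Finset.sum_congr rfl fun i _ => ?_
    rw [map_add, map_add, add_smul]
  | mul_X p i hp =>
    rw [map_mul, Derivation.leibniz, hp, Finset.smul_sum, add_comm]
    have e : ∀ k, algebraMap (MvPolynomial (Fin n) R) S (pderiv k (p * X i)) •
          D R S (algebraMap (MvPolynomial (Fin n) R) S (X k)) =
        algebraMap (MvPolynomial (Fin n) R) S (X i) • algebraMap (MvPolynomial (Fin n) R) S (pderiv k p) •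
            D R S (algebraMap (MvPolynomial (Fin n) R) S (X k)) +
          if k = i then algebraMap (MvPolynomial (Fin n) R) S p • D R S (algebraMap (MvPolynomial (Fin n) R) S (X i)) else 0 := fun k => by
      rw [pderiv_mul, map_add, map_mul, map_mul, add_smul, smul_smul, mul_comm (algebraMap _ S (X i))]
      split_ifs with h
      · subst h; rw [pderiv_X_self, map_one, mul_one]
      · rw [pderiv_X_of_ne (Ne.symm h), map_zero, mul_zero, zero_smul]
    rw [Finset.sum_congr rfl fun k _ => e k, Finset.sum_add_distrib]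
    simp

/-- A left inverse of `kerCotangentToTensor` detects coefficients in an ideal. -/
theorem mem_smul_top_of_kerCotangentToTensor {S B : Type u} [CommRing S] [CommRing B] [Algebra R S] [Algebra S B]
    (l : B ⊗[S] Ω[S⁄R] →ₗ[S] (RingHom.ker (algebraMap S B)).Cotangent)
    (hl : l ∘ₗ kerCotangentToTensor R S B = LinearMap.id) (J : Ideal S) {ι : Type*} [Fintype ι]
    (z : (RingHom.ker (algebraMap S B)).Cotangent) (c : ι → S) (e : ι → B ⊗[S] Ω[S⁄R])
    (hc : ∀ i, c i ∈ J) (hz : kerCotangentToTensor R S B z = ∑ i, c i • e i) :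
    z ∈ J • (⊤ : Submodule S (RingHom.ker (algebraMap S B)).Cotangent) := by
  have : z = l (∑ i, c i • e i) := by rw [← hz]; exact (DFunLike.congr_fun hl z).symm
  rw [this, map_sum]
  exact sum_mem fun i _ => by rw [map_smul]; exact Submodule.smul_mem_smul (hc i) trivial

theorem map_sub_sum_smul {S M M' : Type*} [CommRing S] [AddCommGroup M] [Module S M] [AddCommGroup M'] [Module S M']
    {ι κ : Type*} [Fintype ι] [Fintype κ] (L : M →ₗ[S] M') (x : M) (y : κ → M) (h : κ → S) (e : ι → M')
    (a : ι → S) (b : κ → ι → S) (hx : L x = ∑ i, a i • e i) (hy : ∀ k, L (y k) = ∑ i, b k i • e i) :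
    L (x - ∑ k, h k • y k) = ∑ i, (a i - ∑ k, h k * b k i) • e i := by
  simp only [map_sub, map_sum, map_smul, hx, hy, sub_smul, Finset.sum_sub_distrib, Finset.sum_smul,
    Finset.smul_sum, smul_smul]
  rw [Finset.sum_comm]

theorem exists_standard_element (f : Fin m → MvPolynomial (Fin n) R)
    (φ : MvPolynomial (Fin n) R →ₐ[R] A) (hφ : Function.Surjective φ)
    (hker : RingHom.ker φ.toRingHom = Ideal.span (Set.range f)) (q : Ideal A) [q.IsPrime]
    [Algebra.IsSmoothAt R q] :
    ∃ a : A, a ∉ q ∧ ∃ (c : ℕ) (rows : Fin c ↪ Fin m) (cols : Fin c ↪ Fin n) (a' : A),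
      a = a' * φ (Smoothing.jacobianMinor f rows cols) ∧
      ∀ a₁ : MvPolynomial (Fin n) R, φ a₁ = a → ∀ ℓ : Fin m,
        a₁ * f ℓ ∈ Ideal.span (Set.range (f ∘ rows)) ⊔ Ideal.span (Set.range f) ^ 2 := by
  classical
  let P := MvPolynomial (Fin n) R
  let Q : Ideal P := q.comap φ
  let K := q.ResidueField
  let v : Fin m → Fin n → K := fun j i => algebraMap A K (φ (pderiv i (f j)))
  obtain ⟨c, rows, cols, hdet, hspan⟩ := exists_rows_cols v
  have hminor : φ (Smoothing.jacobianMinor f rows cols) ∉ q := by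
    intro h
    refine hdet ?_
    rw [← Ideal.algebraMap_residueField_eq_zero] at h
    rw [← h, Smoothing.jacobianMinor, AlgHom.map_det, RingHom.map_det]
    rfl
  let Pl := Localization.AtPrime Q
  let Aq := Localization.AtPrime q
  letI : Algebra Pl Aq := (Localization.localRingHom Q q φ.toRingHom rfl).toAlgebra
  letI : Algebra P Aq := ((algebraMap A Aq).comp φ.toRingHom).toAlgebra
  haveI : IsScalarTower P Pl Aq := IsScalarTower.of_algebraMap_eq fun x =>
    (Localization.localRingHom_to_map Q q φ.toRingHom rfl x).symm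
  haveI : IsScalarTower R Pl Aq := IsScalarTower.of_algebraMap_eq fun r => by
    rw [IsScalarTower.algebraMap_apply R P Pl, ← IsScalarTower.algebraMap_apply P Pl Aq,
      IsScalarTower.algebraMap_apply R A Aq]
    exact congrArg (algebraMap A Aq) (φ.commutes r).symm
  haveI : Algebra.FormallyEtale P Pl := Algebra.FormallyEtale.of_isLocalization Q.primeCompl
  haveI : Algebra.FormallySmooth R Pl := Algebra.FormallySmooth.comp R P Pl
  have hsurj : Function.Surjective (algebraMap Pl Aq) := by
    intro z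
    obtain ⟨a, s, rfl⟩ := IsLocalization.exists_mk'_eq q.primeCompl z
    obtain ⟨pa, rfl⟩ := hφ a
    obtain ⟨ps, hps⟩ := hφ s
    have hsQ : ps ∈ Q.primeCompl := fun h => s.2 (hps ▸ h)
    refine ⟨IsLocalization.mk' Pl pa ⟨ps, hsQ⟩, ?_⟩
    refine (Localization.localRingHom_mk' Q q φ.toRingHom rfl pa ⟨ps, hsQ⟩).trans ?_
    congr 1
    exact Subtype.ext hps
  obtain ⟨l, hl⟩ := (Algebra.FormallySmooth.iff_split_injection (R := R) (P := Pl) hsurj).1
    (inferInstanceAs (Algebra.FormallySmooth R (Localization.AtPrime q)))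
  let I' := RingHom.ker (algebraMap Pl Aq)
  have hI' : I' = (Ideal.span (Set.range f)).map (algebraMap P Pl) := by
    refine le_antisymm (fun z hz => ?_) ?_
    · obtain ⟨p, s, rfl⟩ := IsLocalization.exists_mk'_eq Q.primeCompl z
      have h1 : algebraMap A Aq (φ p) = 0 := by
        have h := RingHom.mem_ker.1 hz
        have h2 := congrArg (algebraMap Pl Aq) (IsLocalization.mk'_spec Pl p s)
        rw [map_mul, h, zero_mul] at h2
        rw [h2, ← IsScalarTower.algebraMap_apply P Pl Aq]
        rfl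
      obtain ⟨t, ht⟩ := (IsLocalization.map_eq_zero_iff q.primeCompl Aq _).1 h1
      obtain ⟨pt, hpt⟩ := hφ t
      have hmem : pt * p ∈ Ideal.span (Set.range f) := hker.le (by
        show φ (pt * p) = 0
        rw [map_mul, hpt, ht])
      have h3 := Ideal.mem_map_of_mem (algebraMap P Pl) hmem
      rw [map_mul] at h3
      have hu : IsUnit (algebraMap P Pl pt) :=
        IsLocalization.map_units Pl (⟨pt, fun h => t.2 (hpt ▸ h)⟩ : Q.primeCompl)
      rw [IsLocalization.mk'_eq_mul_mk'_one]
      exact Ideal.mul_mem_right _ _ ((Ideal.unit_mul_mem_iff_mem _ hu).1 h3)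
    · rw [Ideal.map_span, Ideal.span_le]
      rintro _ ⟨_, ⟨j, rfl⟩, rfl⟩
      have hfj : φ (f j) = 0 := RingHom.mem_ker.1 (hker.ge (Ideal.subset_span ⟨j, rfl⟩) : f j ∈ RingHom.ker φ.toRingHom)
      show algebraMap Pl Aq (algebraMap P Pl (f j)) = 0
      rw [← IsScalarTower.algebraMap_apply P Pl Aq]
      show algebraMap A Aq (φ (f j)) = 0
      rw [hfj, map_zero]
  have hfI : ∀ j, algebraMap P Pl (f j) ∈ I' := fun j =>
    hI'.ge (Ideal.mem_map_of_mem _ (Ideal.subset_span ⟨j, rfl⟩))
  let cl : Fin m → I'.Cotangent := fun j => I'.toCotangent ⟨_, hfI j⟩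
  have hgen : Submodule.span Pl (Set.range cl) = ⊤ := by
    rw [eq_top_iff]
    intro z _
    obtain ⟨⟨z, hz⟩, rfl⟩ := Ideal.toCotangent_surjective _ z
    have hz' := hI'.le hz
    rw [Ideal.map_span, ← Set.range_comp] at hz'
    obtain ⟨t, ht⟩ := Ideal.mem_span_range_iff_exists_fun.1 hz'
    refine (Submodule.mem_span_range_iff_exists_fun Pl).2 ⟨t, ?_⟩
    simp only [cl, ← map_smul, ← map_sum]
    congr 1
    ext
    simpa [mul_comm] using ht
  let mQ : Ideal Pl := IsLocalRing.maximalIdeal Pl
  let N : Submodule Pl I'.Cotangent := Submodule.span Pl (Set.range (cl ∘ rows))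
  let ρ : Pl →+* K := (IsLocalRing.residue Aq).comp (algebraMap Pl Aq)
  have hρ : ∀ p, ρ (algebraMap P Pl p) = algebraMap A K (φ p) := by
    intro p
    show IsLocalRing.residue Aq (algebraMap Pl Aq (algebraMap P Pl p)) = algebraMap A (IsLocalRing.ResidueField Aq) (φ p)
    rw [← IsScalarTower.algebraMap_apply P Pl Aq, IsScalarTower.algebraMap_apply A Aq (IsLocalRing.ResidueField Aq)]
    rfl
  have hρm : ∀ x, ρ x = 0 → x ∈ mQ := fun x hx hu => (hu.map ρ).ne_zero hx
  have hstep : ∀ j, cl j ∈ N ⊔ mQ • ⊤ := by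
    intro j
    obtain ⟨t, ht⟩ := (Submodule.mem_span_range_iff_exists_fun K).1 (hspan j)
    have hh : ∀ k, ∃ h : Pl, ρ h = t k := by
      intro k
      obtain ⟨z, hz⟩ := IsLocalRing.residue_surjective (t k)
      obtain ⟨y, hy⟩ := hsurj z
      exact ⟨y, by show IsLocalRing.residue Aq (algebraMap Pl Aq y) = t k; rw [hy, hz]⟩
    choose h hh using hh
    let z : I'.Cotangent := cl j - ∑ k, h k • cl (rows k)
    have hz : z ∈ mQ • (⊤ : Submodule Pl I'.Cotangent) := by
      refine mem_smul_top_of_kerCotangentToTensor l hl mQ z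
        (fun i => algebraMap P Pl (pderiv i (f j)) - ∑ k, h k * algebraMap P Pl (pderiv i (f (rows k))))
        (fun i => (1 : Aq) ⊗ₜ[Pl] D R Pl (algebraMap P Pl (X i))) (fun i => hρm _ ?_) ?_
      · rw [map_sub, map_sum, hρ]
        have h0 := congrFun ht i
        rw [Finset.sum_apply] at h0
        refine sub_eq_zero.2 (h0.symm.trans ?_)
        refine Finset.sum_congr rfl fun k _ => ?_
        rw [map_mul, hh, hρ]
        rfl
      · have hcl : ∀ j', kerCotangentToTensor R Pl Aq (cl j') =
            ∑ i, algebraMap P Pl (pderiv i (f j')) • ((1 : Aq) ⊗ₜ[Pl] D R Pl (algebraMap P Pl (X i))) := by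
          intro j'
          refine (kerCotangentToTensor_toCotangent R Pl Aq _).trans ?_
          rw [show D R Pl (algebraMap P Pl (f j')) = _ from D_algebraMap_mvPolynomial (f j'), TensorProduct.tmul_sum]
          exact Finset.sum_congr rfl fun i _ => ((TensorProduct.mk Pl Aq (Ω[Pl⁄R]) 1).map_smul _ _)
        exact map_sub_sum_smul (kerCotangentToTensor R Pl Aq) (cl j) (fun k => cl (rows k)) h _
          (fun i => algebraMap P Pl (pderiv i (f j))) (fun k i => algebraMap P Pl (pderiv i (f (rows k)))) (hcl j)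
          (fun k => hcl (rows k))
    have : cl j = (∑ k, h k • cl (rows k)) + z := by simp [z]
    rw [this]
    exact Submodule.mem_sup.2 ⟨_, sum_mem fun k _ => Submodule.smul_mem _ _ (Submodule.subset_span ⟨k, rfl⟩), _, hz, rfl⟩
  have hN : N = ⊤ := by
    refine eq_top_iff.2 (Submodule.le_of_le_smul_of_le_jacobson_bot ?_ (IsLocalRing.maximalIdeal_le_jacobson ⊥) ?_)
    · exact ⟨Finset.univ.image cl, by simpa using hgen⟩
    · rw [← hgen, Submodule.span_le]
      rintro _ ⟨j, rfl⟩
      have := hstep j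
      rwa [← hgen] at this
  let I : Ideal P := Ideal.span (Set.range f)
  let J : Ideal P := Ideal.span (Set.range (f ∘ rows))
  have ht : ∀ j, ∃ t : P, t ∉ Q ∧ t * f j ∈ J ⊔ I ^ 2 := by
    intro j
    have hj : cl j ∈ N := hN.ge trivial
    obtain ⟨c', hc'⟩ := (Submodule.mem_span_range_iff_exists_fun Pl).1 hj
    have hmem : algebraMap P Pl (f j) ∈ (J ⊔ I ^ 2).map (algebraMap P Pl) := by
      rw [Ideal.map_sup, Ideal.map_pow, ← hI']
      refine Submodule.mem_sup.2 ⟨∑ k, c' k * algebraMap P Pl (f (rows k)), sum_mem fun k _ =>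
        Ideal.mul_mem_left _ _ (Ideal.mem_map_of_mem _ (Ideal.subset_span ⟨k, rfl⟩)), _, ?_, add_sub_cancel _ _⟩
      have hw : algebraMap P Pl (f j) - ∑ k, c' k * algebraMap P Pl (f (rows k)) ∈ I' :=
        sub_mem (hfI j) (sum_mem fun k _ => Ideal.mul_mem_left _ _ (hfI _))
      refine (Ideal.toCotangent_eq_zero I' ⟨_, hw⟩).1 ?_
      have e : (⟨_, hw⟩ : I') = ⟨_, hfI j⟩ - ∑ k, c' k • (⟨_, hfI (rows k)⟩ : I') := by
        ext; simp
      rw [e, map_sub, map_sum]
      simp only [map_smul]
      exact sub_eq_zero.2 hc'.symm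
    obtain ⟨t, ht, ht'⟩ := (IsLocalization.algebraMap_mem_map_algebraMap_iff Q.primeCompl Pl _ _).1 hmem
    exact ⟨t, ht, ht'⟩
  choose t htQ htmem using ht
  refine ⟨φ (∏ j, t j) * φ (Smoothing.jacobianMinor f rows cols), fun h => ?_, c, rows, cols,
    φ (∏ j, t j), rfl, fun a₁ ha₁ j => ?_⟩
  · rcases (‹q.IsPrime›).mem_or_mem h with h | h
    · obtain ⟨j, -, hj⟩ := (Ideal.IsPrime.prod_mem_iff (p := Q)).1 (h : ∏ j, t j ∈ Q)
      exact htQ j hj
    · exact hminor h
  · have h1 : a₁ - (∏ j, t j) * Smoothing.jacobianMinor f rows cols ∈ I := hker.le (by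
      show φ (_ - _) = 0
      rw [map_sub, map_mul, ha₁, sub_self])
    have h2 := Ideal.mul_mem_mul h1 (Ideal.subset_span (⟨j, rfl⟩ : f j ∈ Set.range f) : f j ∈ I)
    rw [← sq] at h2
    have e : a₁ * f j = (a₁ - (∏ j, t j) * Smoothing.jacobianMinor f rows cols) * f j +
        ((∏ i ∈ Finset.univ.erase j, t i) * Smoothing.jacobianMinor f rows cols) * (t j * f j) := by
      rw [← Finset.mul_prod_erase Finset.univ t (Finset.mem_univ j)]
      ring
    rw [e]
    exact add_mem (Ideal.mem_sup_right h2) (Ideal.mul_mem_left _ _ (htmem j))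

end Groth.Agent.CAlgH.StandardAtSmooth
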