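import Groth.Agent.CAlgH.SmoothRetract
import Mathlib

/-! An algebra with a retraction making the differentials free over the smooth locus. -/

universe u

open MvPolynomial KaehlerDifferential
open scoped TensorProduct

namespace Groth.Agent.CAlgH.RetractFreeKaehler

variable {R A : Type u} [CommRing R] [CommRing A] [Algebra R A] {n m : ℕ}

theorem ker_le_span_rows (φ : MvPolynomial (Fin n) R →ₐ[R] A) (hφ : Function.Surjective φ)
    (f : Fin m → MvPolynomial (Fin n) R) (hker : RingHom.ker φ.toRingHom = Ideal.span (Set.range f))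
    (c : Fin n → A) (hc : ∑ i, c i • D R A (φ (X i)) = 0) :
    c ∈ Submodule.span A (Set.range fun j i => φ (pderiv i (f j))) := by
  classical
  let P := MvPolynomial (Fin n) R
  letI : Algebra P A := φ.toRingHom.toAlgebra
  haveI : IsScalarTower R P A := IsScalarTower.of_algHom φ
  let b := (KaehlerDifferential.mvPolynomialBasis R (Fin n)).baseChange A
  have hb : ∀ i, b i = (1 : A) ⊗ₜ[P] D R P (X i) := fun i => by
    simp [b]; rfl
  have hz : KaehlerDifferential.mapBaseChange R P A (∑ i, c i • b i) = 0 := by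
    rw [map_sum, ← hc]
    refine Finset.sum_congr rfl fun i _ => ?_
    rw [map_smul, hb, mapBaseChange_tmul, one_smul, map_D]
    rfl
  obtain ⟨y, hy⟩ := ((exact_kerCotangentToTensor_mapBaseChange R P A hφ) _).1 hz
  obtain ⟨⟨y, hy'⟩, rfl⟩ := Ideal.toCotangent_surjective _ y
  rw [kerCotangentToTensor_toCotangent] at hy
  have hy'' : y ∈ Ideal.span (Set.range f) := hker.le hy'
  obtain ⟨s, hs⟩ := Ideal.mem_span_range_iff_exists_fun.1 hy''
  have hci : c = ∑ j, φ (s j) • fun i => φ (pderiv i (f j)) := by
    funext i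
    have h1 := congrArg (fun z => b.repr z i) hy
    simp only [b.repr_sum_self] at h1
    have h2 : b.repr ((1 : A) ⊗ₜ[P] D R P y) i = φ (pderiv i y) := by
      rw [Module.Basis.baseChange_repr_tmul, KaehlerDifferential.mvPolynomialBasis_repr_apply,
        Algebra.smul_def, mul_one]
      rfl
    rw [h2] at h1
    rw [← h1, ← hs, map_sum, map_sum, Finset.sum_apply]
    refine Finset.sum_congr rfl fun j _ => ?_
    have hf : φ (f j) = 0 := RingHom.mem_ker.1 (hker.ge (Ideal.subset_span ⟨j, rfl⟩))
    rw [pderiv_mul, map_add, map_mul, map_mul, hf, mul_zero, zero_add]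
    rfl
  rw [hci]
  exact sum_mem fun j _ => Submodule.smul_mem _ _ (Submodule.subset_span ⟨j, rfl⟩)

/-- Linear forms in the variables attached to the linear relations between the rows. -/
noncomputable abbrev linIdeal (dF : Fin m → Fin n → A) : Ideal (MvPolynomial (Fin m) A) :=
  Ideal.span ((fun c => ∑ j, C (c j) * X j) '' {c : Fin m → A | ∑ j, c j • dF j = 0})

noncomputable abbrev LinAlg (dF : Fin m → Fin n → A) : Type u :=
  MvPolynomial (Fin m) A ⧸ linIdeal dF

theorem away_scale {M : Type u} [AddCommGroup M] [Module A M] (a : A) {k : ℕ} (c : Fin k → Localization.Away a) :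
    ∃ (N : ℕ) (c' : Fin k → A), ∀ i, algebraMap A _ (a ^ N) * c i = algebraMap A _ (c' i) := by
  obtain ⟨⟨b, N, rfl⟩, hb⟩ := IsLocalization.exist_integer_multiples_of_finite (Submonoid.powers a) c
  choose c' hc' using hb
  exact ⟨N, c', fun i => ((Algebra.smul_def _ _).symm.trans (hc' i).symm)⟩

theorem span_range_D (φ : MvPolynomial (Fin n) R →ₐ[R] A) (hφ : Function.Surjective φ) :
    Submodule.span A (Set.range fun i => D R A (φ (X i))) = ⊤ := by
  rw [eq_top_iff, ← span_range_derivation, Submodule.span_le]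
  rintro _ ⟨z, rfl⟩
  obtain ⟨p, rfl⟩ := hφ z
  induction p using MvPolynomial.induction_on with
  | C r => rw [show φ (C r) = algebraMap R A r from φ.commutes r, Derivation.map_algebraMap]; exact zero_mem _
  | add p q hp hq => rw [map_add, map_add]; exact add_mem hp hq
  | mul_X p i hp =>
    rw [map_mul, Derivation.leibniz]
    exact add_mem (Submodule.smul_mem _ _ (Submodule.subset_span ⟨i, rfl⟩)) (Submodule.smul_mem _ _ hp)

/-- The presentation of the differentials after localisation. -/
theorem localised_presentation (φ : MvPolynomial (Fin n) R →ₐ[R] A) (hφ : Function.Surjective φ)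
    (f : Fin m → MvPolynomial (Fin n) R) (hker : RingHom.ker φ.toRingHom = Ideal.span (Set.range f))
    (a : A) (π : (Fin n → Localization.Away a) →ₗ[Localization.Away a] Ω[Localization.Away a⁄R])
    (hπd : π = Fintype.linearCombination (Localization.Away a)
      fun i => D R (Localization.Away a) (algebraMap A _ (φ (X i)))) :
    Function.Surjective π ∧
      (∀ w, π w = 0 → w ∈ Submodule.span (Localization.Away a)
        (Set.range fun j i => algebraMap A (Localization.Away a) (φ (pderiv i (f j))))) ∧
      ∀ j, π (fun i => algebraMap A _ (φ (pderiv i (f j)))) = 0 := by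
  classical
  let A' := Localization.Away a
  let ι := algebraMap A A'
  haveI := isLocalizedModule_map (R := R) (S := A) (T := A') (Submonoid.powers a)
  have hπc : ∀ c : Fin n → A, π (fun i => ι (c i)) = map R R A A' (∑ i, c i • D R A (φ (X i))) := by
    intro c
    rw [hπd, map_sum]
    simp only [Fintype.linearCombination_apply, map_smul, map_D]
    exact Finset.sum_congr rfl fun i _ => (algebraMap_smul A' _ _)
  refine ⟨fun w => ?_, fun w hw => ?_, fun j => ?_⟩
  · obtain ⟨⟨v, s⟩, hv⟩ := IsLocalizedModule.surj (Submonoid.powers a) (map R R A A') w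
    obtain ⟨c, hc⟩ := (Submodule.mem_span_range_iff_exists_fun A).1
      ((span_range_D φ hφ).ge (Submodule.mem_top (x := v)))
    have hu : IsUnit (ι s) := IsLocalization.map_units A' s
    refine ⟨(↑hu.unit⁻¹ : A') • fun i => ι (c i), ?_⟩
    have hv' : ι (s : A) • w = map R R A A' v := (algebraMap_smul A' _ _).trans hv
    rw [map_smul, hπc, hc, ← hv', ← mul_smul, IsUnit.val_inv_mul hu, one_smul]
  · obtain ⟨N, c, hc⟩ := away_scale (M := A) a w
    have h1 : map R R A A' (∑ i, c i • D R A (φ (X i))) = 0 := by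
      rw [← hπc, show (fun i => ι (c i)) = ι (a ^ N) • w from funext fun i => (hc i).symm, map_smul,
        hw, smul_zero]
    obtain ⟨⟨_, k, rfl⟩, hk⟩ := (IsLocalizedModule.eq_zero_iff (Submonoid.powers a) (map R R A A')).1 h1
    have hmem := ker_le_span_rows φ hφ f hker (fun i => a ^ k * c i) (by
      simp only [mul_smul, ← Finset.smul_sum]; exact hk)
    obtain ⟨d, hd⟩ := (Submodule.mem_span_range_iff_exists_fun A).1 hmem
    have hu : IsUnit (ι (a ^ k * a ^ N)) := by
      rw [← pow_add, map_pow]; exact (IsLocalization.Away.algebraMap_isUnit a).pow _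
    refine (Submodule.mem_span_range_iff_exists_fun A').2 ⟨fun j => ↑hu.unit⁻¹ * ι (d j), ?_⟩
    funext i
    simp only [Finset.sum_apply, Pi.smul_apply, smul_eq_mul, mul_assoc, ← Finset.mul_sum]
    have h2 : ∑ j, ι (d j) * ι (φ (pderiv i (f j))) = ι (a ^ k * a ^ N) * w i := by
      rw [map_mul, mul_assoc, hc i, ← map_mul, ← congrFun hd i]
      simp [Finset.sum_apply]
    rw [h2, ← mul_assoc, IsUnit.val_inv_mul hu, one_mul]
  · have h : ∀ p, ∑ i, φ (pderiv i p) • D R A (φ (X i)) = D R A (φ p) := by
      intro p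
      induction p using MvPolynomial.induction_on with
      | C r => simp [show φ (C r) = algebraMap R A r from φ.commutes r]
      | add p p' hp hp' => simp only [map_add, add_smul, Finset.sum_add_distrib, hp, hp']
      | mul_X p i hp =>
        have e : ∀ l, φ (pderiv l (p * X i)) = φ (X i) * φ (pderiv l p) + if l = i then φ p else 0 := fun l => by
          rw [pderiv_mul, map_add, map_mul, map_mul]
          split_ifs with h
          · subst h; rw [pderiv_X_self, map_one]; ring
          · rw [pderiv_X_of_ne (Ne.symm h), map_zero]; ring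
        simp only [e, add_smul, Finset.sum_add_distrib, mul_smul, ← Finset.smul_sum, hp, ite_smul,
          zero_smul, Finset.sum_ite_eq', Finset.mem_univ, if_true]
        rw [map_mul, Derivation.leibniz]
        exact add_comm _ _
    have hf : φ (f j) = 0 := RingHom.mem_ker.1 (hker.ge (Ideal.subset_span ⟨j, rfl⟩))
    rw [hπc, h, hf, map_zero, map_zero]

/-- Linear relations vanish after localisation. -/
theorem sum_mul_eq_zero {Ca : Type u} [CommRing Ca] [Algebra A Ca] (a : A)
    (ha : IsUnit (algebraMap A Ca a)) [Algebra (Localization.Away a) Ca]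
    [IsScalarTower A (Localization.Away a) Ca] (dF : Fin m → Fin n → A) (y : Fin m → Ca)
    (hy : ∀ d : Fin m → A, ∑ j, d j • dF j = 0 → ∑ j, algebraMap A Ca (d j) * y j = 0)
    (d : Fin m → Localization.Away a) (hd : ∀ i, ∑ j, d j * algebraMap A _ (dF j i) = 0) :
    ∑ j, algebraMap (Localization.Away a) Ca (d j) * y j = 0 := by
  classical
  obtain ⟨N, d', hd'⟩ := away_scale (M := A) a d
  have h1 : ∀ i, ∃ s : Submonoid.powers a, (s : A) * ∑ j, d' j * dF j i = 0 := by
    intro i
    refine (IsLocalization.map_eq_zero_iff (Submonoid.powers a) (Localization.Away a) _).1 ?_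
    simp only [map_sum, map_mul, ← hd', mul_assoc, ← Finset.mul_sum, hd, mul_zero]
  choose s hs using h1
  let S0 : A := ∏ i, (s i : A)
  obtain ⟨k, hk⟩ : S0 ∈ Submonoid.powers a := Submonoid.prod_mem _ fun i _ => (s i).2
  have h3 := hy (fun j => S0 * d' j) (by
    funext i
    simp only [Finset.sum_apply, Pi.smul_apply, smul_eq_mul, mul_assoc, ← Finset.mul_sum, Pi.zero_apply]
    rw [show S0 = (s i : A) * ∏ l ∈ Finset.univ.erase i, (s l : A) from
      (Finset.mul_prod_erase _ _ (Finset.mem_univ i)).symm, mul_comm (s i : A), mul_assoc, hs i, mul_zero])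
  have h4 : ∀ j, algebraMap A Ca (d' j) = algebraMap A Ca (a ^ N) * algebraMap (Localization.Away a) Ca (d j) := fun j => by
    rw [IsScalarTower.algebraMap_apply A (Localization.Away a) Ca,
      IsScalarTower.algebraMap_apply A (Localization.Away a) Ca (a ^ N), ← map_mul, hd']
  simp only [map_mul, h4, mul_assoc, ← Finset.mul_sum] at h3
  have hu : IsUnit (algebraMap A Ca S0) := by rw [← hk, map_pow]; exact ha.pow _
  have hu' : IsUnit (algebraMap A Ca (a ^ N)) := by rw [map_pow]; exact ha.pow _
  exact hu'.mul_right_eq_zero.1 (hu.mul_right_eq_zero.1 h3)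

/-- Changing coordinates from the rows to the idempotent. -/
theorem exists_coordinates {A' Ca : Type u} [CommRing A'] [CommRing Ca] [Algebra A' Ca]
    (row : Fin m → Fin n → A') (v : Fin n → Fin n → A') (c : Fin n → Fin m → A')
    (hc : ∀ i, ∑ j, c i j • row j = v i) (P : Matrix (Fin n) (Fin n) A') (hPd : ∀ i k, P i k = v i k)
    (hPv : ∀ i, ∑ k, P i k • v k = v i) (hrow : ∀ j, ∑ i, row j i • v i = row j) (y : Fin m → Ca)
    (hrel : ∀ d : Fin m → A', (∀ i, ∑ j, d j * row j i = 0) → ∑ j, algebraMap A' Ca (d j) * y j = 0)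
    (F : Ca →+* SmoothRetract.SymAlg P) (hFA : F.comp (algebraMap A' Ca) = algebraMap A' _)
    (hFy : ∀ j, F (y j) = ∑ i, algebraMap A' _ (row j i) * Ideal.Quotient.mk _ (X i))
    (hgen : ∀ S : Subalgebra A' Ca, (∀ j, y j ∈ S) → S = ⊤) :
    ∃ q : MvPolynomial (Fin n) A' →ₐ[A'] Ca, Function.Surjective q ∧
      RingHom.ker q = SmoothRetract.relIdeal P := by
  classical
  let q : MvPolynomial (Fin n) A' →ₐ[A'] Ca := aeval fun i => ∑ j, algebraMap A' Ca (c i j) * y j
  let B := SmoothRetract.SymAlg P
  let z : Fin n → B := fun i => Ideal.Quotient.mk _ (X i)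
  have hz : ∀ i, z i = ∑ k, algebraMap A' B (P i k) * z k := by
    intro i
    have hmem : (X i - ∑ k, C (P i k) * X k : MvPolynomial (Fin n) A') ∈ SmoothRetract.relIdeal P :=
      Ideal.subset_span ⟨i, rfl⟩
    have h := Ideal.Quotient.eq_zero_iff_mem.2 hmem
    rw [map_sub, map_sum, sub_eq_zero] at h
    exact h
  have e1 : ∀ i k, ∑ j, c i j * row j k = v i k := fun i k => by
    have := congrFun (hc i) k
    simpa [Finset.sum_apply] using this
  have hFq : ∀ p, F (q p) = Ideal.Quotient.mk _ p := by
    intro p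
    induction p using MvPolynomial.induction_on with
    | C w => rw [show q (C w) = algebraMap A' Ca w from q.commutes w, ← RingHom.comp_apply, hFA]; rfl
    | add p p' hp hp' => simp only [map_add, hp, hp']
    | mul_X p i hp =>
      simp only [map_mul, hp]
      congr 1
      show F (q (X i)) = z i
      simp only [q, aeval_X, map_sum, map_mul, hFy, Finset.mul_sum]
      rw [Finset.sum_comm, hz i]
      refine Finset.sum_congr rfl fun k _ => ?_
      simp only [← RingHom.comp_apply F, hFA, ← mul_assoc, ← map_mul, ← Finset.sum_mul, ← map_sum,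
        e1, hPd]
      rfl
  have hqrel : ∀ p ∈ SmoothRetract.relIdeal P, q p = 0 := by
    intro p hp
    refine RingHom.mem_ker.1 ((Ideal.span_le (I := RingHom.ker q)).2 ?_ hp)
    rintro _ ⟨i, rfl⟩
    refine RingHom.mem_ker.2 ?_
    have h := hrel (fun j => c i j - ∑ k, P i k * c k j) fun l => by
      have e2 := congrFun (hPv i) l
      simp only [Finset.sum_apply, Pi.smul_apply, smul_eq_mul] at e2
      simp only [sub_mul, Finset.sum_sub_distrib, Finset.sum_mul, e1]
      rw [Finset.sum_comm]
      simp only [mul_assoc, ← Finset.mul_sum, e1, e2, sub_self]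
    simp only [map_sub, map_sum, map_mul, sub_mul, Finset.sum_sub_distrib, Finset.sum_mul] at h
    refine Eq.trans ?_ h
    simp only [q, map_sub, map_sum, map_mul, aeval_C, aeval_X, Finset.mul_sum, ← mul_assoc]
    congr 1
    exact Finset.sum_comm
  have hy : ∀ j, y j ∈ q.range := by
    intro j
    refine ⟨∑ i, C (row j i) * X i, ?_⟩
    have h := hrel (fun l => ∑ i, row j i * c i l - if l = j then 1 else 0) fun k => by
      have e2 := congrFun (hrow j) k
      simp only [Finset.sum_apply, Pi.smul_apply, smul_eq_mul] at e2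
      simp only [sub_mul, Finset.sum_sub_distrib, Finset.sum_mul, ite_mul, one_mul, zero_mul,
        Finset.sum_ite_eq', Finset.mem_univ, if_true]
      rw [Finset.sum_comm]
      simp only [mul_assoc, ← Finset.mul_sum, e1, e2, sub_self]
    simp only [map_sub, map_sum, map_mul, sub_mul, Finset.sum_sub_distrib, apply_ite (algebraMap A' Ca),
      map_one, map_zero, ite_mul, one_mul, zero_mul, Finset.sum_ite_eq', Finset.mem_univ, if_true] at h
    rw [sub_eq_zero] at h
    refine Eq.trans ?_ h
    show q (∑ i, C (row j i) * X i) = _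
    simp only [q, map_sum, map_mul, aeval_C, aeval_X, Finset.mul_sum, Finset.sum_mul, mul_assoc]
    exact Finset.sum_comm
  refine ⟨q, fun w => ?_, le_antisymm (fun p hp => ?_) fun p hp => RingHom.mem_ker.2 (hqrel p hp)⟩
  · exact (hgen q.range hy).ge Algebra.mem_top
  · rw [← Ideal.Quotient.eq_zero_iff_mem, ← hFq, RingHom.mem_ker.1 hp, map_zero]

/-- Universal property of the linear algebra. -/
theorem exists_map_symAlg {A' : Type u} [CommRing A'] [Algebra A A'] {B : Type u} [CommRing B] [Algebra A B]
    (dF : Fin m → Fin n → A) (z : Fin n → B) :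
    ∃ F₀ : LinAlg dF →ₐ[A] B, ∀ j, F₀ (Ideal.Quotient.mk _ (X j)) = ∑ i, algebraMap A B (dF j i) * z i := by
  let F₁ : MvPolynomial (Fin m) A →ₐ[A] B := aeval fun j => ∑ i, algebraMap A B (dF j i) * z i
  refine ⟨Ideal.Quotient.liftₐ _ F₁ fun p hp => ?_, fun j => aeval_X _ _⟩
  refine RingHom.mem_ker.1 ((Ideal.span_le (I := RingHom.ker F₁)).2 ?_ hp)
  rintro _ ⟨d, hd, rfl⟩
  refine RingHom.mem_ker.2 ?_
  simp only [F₁, map_sum, map_mul, aeval_C, aeval_X, Finset.mul_sum]
  rw [Finset.sum_comm]
  refine Finset.sum_eq_zero fun i _ => ?_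
  simp only [← mul_assoc, ← Finset.sum_mul, ← map_mul, ← map_sum]
  have := congrFun hd i
  simp only [Finset.sum_apply, Pi.smul_apply, smul_eq_mul, Pi.zero_apply] at this
  rw [this, map_zero, zero_mul]

theorem smooth_free_away (φ : MvPolynomial (Fin n) R →ₐ[R] A) (hφ : Function.Surjective φ)
    (f : Fin m → MvPolynomial (Fin n) R) (hker : RingHom.ker φ.toRingHom = Ideal.span (Set.range f))
    (a : A) [Algebra.Smooth R (Localization.Away a)] :
    Algebra.Smooth R (Localization.Away (algebraMap A (LinAlg fun j i => φ (pderiv i (f j))) a)) ∧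
    Module.Free (Localization.Away (algebraMap A (LinAlg fun j i => φ (pderiv i (f j))) a))
      Ω[Localization.Away (algebraMap A (LinAlg fun j i => φ (pderiv i (f j))) a)⁄R] := by
  classical
  let dF : Fin m → Fin n → A := fun j i => φ (pderiv i (f j))
  let A' := Localization.Away a
  let C₀ := LinAlg dF
  let Ca := Localization.Away (algebraMap A C₀ a)
  have hau : IsUnit (algebraMap A Ca a) := by
    rw [IsScalarTower.algebraMap_apply A C₀ Ca]; exact IsLocalization.Away.algebraMap_isUnit _
  letI : Algebra A' Ca := (IsLocalization.Away.lift a (g := algebraMap A Ca) hau).toAlgebra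
  haveI : IsScalarTower A A' Ca := IsScalarTower.of_algebraMap_eq fun x =>
    (IsLocalization.Away.lift_eq a _ x).symm
  haveI : IsScalarTower R A' Ca := IsScalarTower.of_algebraMap_eq fun r => by
    rw [IsScalarTower.algebraMap_apply R A A', ← IsScalarTower.algebraMap_apply A A' Ca,
      IsScalarTower.algebraMap_apply R A Ca]
  let x : Fin n → A' := fun i => algebraMap A A' (φ (X i))
  let π : (Fin n → A') →ₗ[A'] Ω[A'⁄R] := Fintype.linearCombination A' fun i => D R A' (x i)
  obtain ⟨hπ, hspan, hπrow⟩ := localised_presentation φ hφ f hker a π rfl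
  obtain ⟨σ, hσ⟩ := Module.projective_lifting_property π LinearMap.id hπ
  have hπσ : ∀ w, π (σ w) = w := fun w => LinearMap.congr_fun hσ w
  let v : Fin n → Fin n → A' := fun i => Pi.single i 1 - σ (D R A' (x i))
  have hπ1 : ∀ i, π (Pi.single i 1) = D R A' (x i) := fun i => by
    simp [π, Fintype.linearCombination_apply_single]
  have hv0 : ∀ i, π (v i) = 0 := fun i => by simp only [v, map_sub, hπ1, hπσ, sub_self]
  have hwv : ∀ w : Fin n → A', π w = 0 → ∑ i, w i • v i = w := by
    intro w hw
    have h1 : ∑ i, w i • (Pi.single i (1 : A') : Fin n → A') = w := (pi_eq_sum_univ' w).symm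
    have h2 : ∑ i, w i • σ (D R A' (x i)) = σ (π w) := by
      simp [π, Fintype.linearCombination_apply, map_sum]
    simp only [v, smul_sub, Finset.sum_sub_distrib, h1, h2, hw, map_zero, sub_zero]
  let P : Matrix (Fin n) (Fin n) A' := Matrix.of fun i k => v i k
  have hPv : ∀ i, ∑ k, P i k • v k = v i := fun i => hwv _ (hv0 i)
  have hP : P * P = P := by
    ext i l
    have := congrFun (hPv i) l
    simpa [Matrix.mul_apply, P, Finset.sum_apply] using this
  choose c hc using fun i => (Submodule.mem_span_range_iff_exists_fun A').1 (hspan _ (hv0 i))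
  let y : Fin m → Ca := fun j => algebraMap C₀ Ca (Ideal.Quotient.mk _ (X j))
  have hyA : ∀ d : Fin m → A, ∑ j, d j • dF j = 0 → ∑ j, algebraMap A Ca (d j) * y j = 0 := by
    intro d hd
    have hmem : (∑ j, C (d j) * X j : MvPolynomial (Fin m) A) ∈ linIdeal dF :=
      Ideal.subset_span ⟨d, hd, rfl⟩
    have h := congrArg (algebraMap C₀ Ca) (Ideal.Quotient.eq_zero_iff_mem.2 hmem)
    rw [map_sum, map_sum, map_zero] at h
    refine Eq.trans (Finset.sum_congr rfl fun j _ => ?_) h
    rw [map_mul, map_mul, IsScalarTower.algebraMap_apply A C₀ Ca]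
    rfl
  obtain ⟨F₀, hF₀⟩ := exists_map_symAlg (A' := A') (B := SmoothRetract.SymAlg P) dF
    (fun i => Ideal.Quotient.mk _ (X i))
  let F : Ca →+* SmoothRetract.SymAlg P :=
    IsLocalization.Away.lift (algebraMap A C₀ a) (g := F₀.toRingHom) (by
      show IsUnit (F₀ (algebraMap A C₀ a))
      rw [F₀.commutes, IsScalarTower.algebraMap_apply A A' (SmoothRetract.SymAlg P)]
      exact (IsLocalization.Away.algebraMap_isUnit a).map _)
  have hFC : ∀ w, F (algebraMap C₀ Ca w) = F₀ w := fun w => IsLocalization.Away.lift_eq _ _ w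
  have hFA : F.comp (algebraMap A' Ca) = algebraMap A' _ := by
    refine IsLocalization.ringHom_ext (Submonoid.powers a) (RingHom.ext fun w => ?_)
    simp only [RingHom.comp_apply]
    rw [← IsScalarTower.algebraMap_apply A A' Ca, IsScalarTower.algebraMap_apply A C₀ Ca, hFC,
      F₀.commutes, IsScalarTower.algebraMap_apply A A' (SmoothRetract.SymAlg P)]
  have hgen : ∀ S : Subalgebra A' Ca, (∀ j, y j ∈ S) → S = ⊤ := by
    intro S hS
    rw [eq_top_iff]
    intro w _
    have hC : ∀ u : C₀, algebraMap C₀ Ca u ∈ S := by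
      intro u
      obtain ⟨u, rfl⟩ := Ideal.Quotient.mk_surjective u
      induction u using MvPolynomial.induction_on with
      | C t =>
        have h := S.algebraMap_mem (algebraMap A A' t)
        rwa [← IsScalarTower.algebraMap_apply A A' Ca, IsScalarTower.algebraMap_apply A C₀ Ca] at h
      | add p p' hp hp' => rw [map_add, map_add]; exact add_mem hp hp'
      | mul_X p j hp => rw [map_mul, map_mul]; exact mul_mem hp (hS j)
    obtain ⟨⟨u, ⟨_, k, rfl⟩⟩, hu⟩ := IsLocalization.surj (Submonoid.powers (algebraMap A C₀ a)) w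
    have h2 : algebraMap A' Ca ((IsLocalization.Away.invSelf (S := A') a) ^ k) *
        algebraMap C₀ Ca (algebraMap A C₀ a ^ k) = 1 := by
      rw [← map_pow, ← IsScalarTower.algebraMap_apply A C₀ Ca, IsScalarTower.algebraMap_apply A A' Ca,
        ← map_mul, map_pow, ← mul_pow, mul_comm, IsLocalization.Away.mul_invSelf, one_pow, map_one]
    have h3 : w = algebraMap A' Ca ((IsLocalization.Away.invSelf (S := A') a) ^ k) * algebraMap C₀ Ca u := by
      rw [← hu, mul_left_comm, h2, mul_one]
    rw [h3]
    exact mul_mem (S.algebraMap_mem _) (hC u)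
  obtain ⟨q, hqs, hqk⟩ := exists_coordinates (Ca := Ca) (fun j i => algebraMap A A' (dF j i)) v c hc P
    (fun i k => rfl) hPv (fun j => hwv _ (hπrow j)) y
    (fun d hd => sum_mul_eq_zero a hau dF y hyA d hd) F hFA (fun j => by
      rw [show F (y j) = F₀ _ from hFC _, hF₀]
      exact Finset.sum_congr rfl fun i _ => by rw [← IsScalarTower.algebraMap_apply]) hgen
  obtain ⟨bas, -⟩ := SmoothRetract.exists_kaehler_basis (B := Ca) x π rfl σ hπσ v (fun i => rfl) P
    (fun i k => rfl) hPv hP q hqs hqk
  haveI := SmoothRetract.smooth_symAlg P hP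
  haveI : Algebra.Smooth A' Ca := Algebra.Smooth.of_equiv
    (((Ideal.quotientEquivAlgOfEq A' hqk.symm)).trans (Ideal.quotientKerAlgEquivOfSurjective hqs))
  exact ⟨Algebra.Smooth.comp R A' Ca, Module.Free.of_basis bas⟩

theorem exists_retract_smooth_free [Algebra.FinitePresentation R A] :
    ∃ (C : Type u) (_ : CommRing C) (_ : Algebra A C) (_ : Algebra R C) (_ : IsScalarTower R A C),
      Algebra.FiniteType A C ∧ Nonempty (C →ₐ[A] A) ∧
      ∀ a : A, Algebra.Smooth R (Localization.Away a) →
        Algebra.Smooth R (Localization.Away (algebraMap A C a)) ∧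
        Module.Free (Localization.Away (algebraMap A C a)) Ω[Localization.Away (algebraMap A C a)⁄R] := by
  obtain ⟨n, φ, hφ, hfg⟩ := Algebra.FinitePresentation.out (R := R) (A := A)
  obtain ⟨s, hs⟩ := hfg
  let f : Fin s.card → MvPolynomial (Fin n) R := fun j => (s.equivFin.symm j).1
  have hker : RingHom.ker φ.toRingHom = Ideal.span (Set.range f) := by
    rw [← hs]
    congr 1
    ext p
    exact ⟨fun hp => ⟨s.equivFin ⟨p, hp⟩, by simp [f]⟩, by rintro ⟨j, rfl⟩; exact (s.equivFin.symm j).2⟩
  let dF : Fin s.card → Fin n → A := fun j i => φ (pderiv i (f j))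
  have hret : ∀ p ∈ linIdeal dF, aeval (fun _ : Fin s.card => (0 : A)) p = 0 := by
    intro p hp
    refine RingHom.mem_ker.1 ((Ideal.span_le (I := RingHom.ker (aeval fun _ => (0 : A)))).2 ?_ hp)
    rintro _ ⟨d, -, rfl⟩
    simp
  refine ⟨LinAlg dF, inferInstance, inferInstance, inferInstance, inferInstance,
    Algebra.FiniteType.of_surjective (Ideal.Quotient.mkₐ A _) (Ideal.Quotient.mkₐ_surjective A _),
    ⟨Ideal.Quotient.liftₐ _ (aeval fun _ => 0) hret⟩, fun a ha => ?_⟩
  exact smooth_free_away φ hφ f hker a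

theorem exists_retract_free_kaehler [Algebra.FinitePresentation R A] :
    ∃ (C : Type u) (_ : CommRing C) (_ : Algebra A C) (_ : Algebra R C) (_ : IsScalarTower R A C),
      Algebra.FiniteType A C ∧ Nonempty (C →ₐ[A] A) ∧
      ∀ a : A, Algebra.Smooth R (Localization.Away a) →
        Module.Free (Localization.Away (algebraMap A C a)) Ω[Localization.Away (algebraMap A C a)⁄R] := by
  obtain ⟨C, i1, i2, i3, i4, h1, h2, h3⟩ := exists_retract_smooth_free (R := R) (A := A)
  exact ⟨C, i1, i2, i3, i4, h1, h2, fun a ha => (h3 a ha).2⟩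

theorem free_kaehler_away (φ : MvPolynomial (Fin n) R →ₐ[R] A) (hφ : Function.Surjective φ)
    (f : Fin m → MvPolynomial (Fin n) R) (hker : RingHom.ker φ.toRingHom = Ideal.span (Set.range f))
    (a : A) [Algebra.Smooth R (Localization.Away a)] :
    Module.Free (Localization.Away (algebraMap A (LinAlg fun j i => φ (pderiv i (f j))) a))
      Ω[Localization.Away (algebraMap A (LinAlg fun j i => φ (pderiv i (f j))) a)⁄R] :=
  (smooth_free_away φ hφ f hker a).2

end Groth.Agent.CAlgH.RetractFreeKaehler
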