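import Mathlib

/-! A splitting criterion for smoothness of quotients. -/

universe u

open scoped TensorProduct
open KaehlerDifferential

namespace Groth.Agent.CAlgH.SmoothQuotient

theorem exists_liftBaseChange {B : Type u} [CommRing B] (K : Ideal B) {T : Type u} [CommRing T]
    [Algebra B T] (e : (B ⧸ K) ≃ₗ[B] T) (he : e 1 = 1) {M N : Type u} [AddCommGroup M] [Module B M]
    [AddCommGroup N] [Module B N] (L : M →ₗ[B] N) (hN : ∀ k ∈ K, ∀ x : N, k • x = 0) :
    ∃ L' : T ⊗[B] M →ₗ[B] N, ∀ x, L' (1 ⊗ₜ x) = L x := by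
  have hK : K ≤ LinearMap.ker (LinearMap.lsmul B N) := fun k hk => LinearMap.ext fun x => hN k hk x
  let a : T →ₗ[B] N →ₗ[B] N := (Submodule.liftQ K (LinearMap.lsmul B N) hK) ∘ₗ e.symm.toLinearMap
  refine ⟨TensorProduct.lift (a.compl₂ L), fun x => ?_⟩
  have h1 : e.symm 1 = 1 := by rw [← he, e.symm_apply_apply]
  simp only [TensorProduct.lift.tmul, LinearMap.compl₂_apply, a, LinearMap.comp_apply,
    LinearEquiv.coe_coe, h1]
  exact one_smul B _

/-- If `K = (g_1, …, g_m)` and some `L : Ω[B⁄R] → Bᵐ` sends `d g_j` to coefficients writing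
`g_j` modulo `K ^ 2`, then `B ⧸ K` is formally smooth. -/
theorem formallySmooth_quotient {R B : Type u} [CommRing R] [CommRing B] [Algebra R B]
    [Algebra.FormallySmooth R B] {m : ℕ} (g : Fin m → B)
    (L : Ω[B⁄R] →ₗ[B] (Fin m → B))
    (hL : ∀ j, ∑ k, L (D R B (g j)) k * g k - g j ∈ Ideal.span (Set.range g) ^ 2) :
    Algebra.FormallySmooth R (B ⧸ Ideal.span (Set.range g)) := by
  let K := Ideal.span (Set.range g)
  let T := B ⧸ K
  have hs : Function.Surjective (algebraMap B T) := Ideal.Quotient.mk_surjective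
  let K' := RingHom.ker (algebraMap B T)
  have hK' : K' = K := Ideal.mk_ker
  rw [Algebra.FormallySmooth.iff_split_injection (P := B) hs]
  have hgK' : ∀ j, g j ∈ K' := fun j => hK'.ge (Ideal.subset_span ⟨j, rfl⟩)
  let c : Fin m → K'.Cotangent := fun j => K'.toCotangent ⟨g j, hgK' j⟩
  let L0 : Ω[B⁄R] →ₗ[B] K'.Cotangent := Fintype.linearCombination B c ∘ₗ L
  have hkill : ∀ k ∈ K, ∀ x : K'.Cotangent, k • x = 0 := by
    intro k hk x
    obtain ⟨⟨x, hx⟩, rfl⟩ := K'.toCotangent_surjective x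
    rw [← map_smul, Ideal.toCotangent_eq_zero, pow_two]
    exact Ideal.mul_mem_mul (hK'.ge hk) hx
  obtain ⟨L', hL'⟩ := exists_liftBaseChange (T := T) K (LinearEquiv.refl B T) rfl L0 hkill
  refine ⟨L', LinearMap.ext fun x => ?_⟩
  obtain ⟨⟨x, hx⟩, rfl⟩ := K'.toCotangent_surjective x
  rw [LinearMap.comp_apply, LinearMap.id_apply]
  have h0 : ∀ (y : B) (hy : y ∈ K'), L' (kerCotangentToTensor R B T (K'.toCotangent ⟨y, hy⟩)) =
      L0 (D R B y) := fun y hy => by
    rw [kerCotangentToTensor_toCotangent]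
    exact hL' _
  rw [h0]
  obtain ⟨a, rfl⟩ := Ideal.mem_span_range_iff_exists_fun.1 (hK'.le hx)
  have hD : ∀ j, L0 (D R B (g j)) = c j := by
    intro j
    have hmem : ∑ k, L (D R B (g j)) k * g k ∈ K' :=
      sum_mem fun k _ => Ideal.mul_mem_left _ _ (hgK' k)
    have h1 : L0 (D R B (g j)) = K'.toCotangent ⟨_, hmem⟩ := by
      simp only [L0, LinearMap.comp_apply, Fintype.linearCombination_apply, c, ← map_smul, ← map_sum]
      congr 1
      ext
      simp
    rw [h1, Ideal.toCotangent_eq]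
    exact Ideal.pow_right_mono hK'.ge 2 (hL j)
  have hlin : L0 (D R B (∑ j, a j * g j)) = ∑ j, a j • c j := by
    simp only [map_sum, Derivation.leibniz, map_add, map_smul, hD]
    refine Finset.sum_congr rfl fun j _ => ?_
    rw [hkill (g j) (Ideal.subset_span ⟨j, rfl⟩), add_zero]
  rw [hlin]
  simp only [c, ← map_smul, ← map_sum]
  congr 1
  ext
  simp

end Groth.Agent.CAlgH.SmoothQuotient
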