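import Groth.Prelude.Def_Smoothing
import Groth.Agent.Smoothing15.Standard
import Groth.Agent.CAlgH.SmoothQuotient
import Groth.Agent.CAlgH.RetractFreeKaehler
import Mathlib

/-! Strictly standard elements give smooth localisations with stably free differentials. -/

universe u

open MvPolynomial KaehlerDifferential

namespace Groth.Agent.CAlgH.StrictlyStandardSmooth

variable {R : Type u} [CommRing R]

/-- A matrix whose maximal minors generate the unit ideal has a right inverse. -/
theorem exists_right_inverse {S : Type u} [CommRing S] {c n : ℕ} (J : Fin c → Fin n → S)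
    (h : (1 : S) ∈ Ideal.span (Set.range fun cols : Fin c → Fin n =>
      (Matrix.of fun j k => J j (cols k)).det)) :
    ∃ W : Matrix (Fin n) (Fin c) S, (Matrix.of J) * W = 1 := by
  classical
  obtain ⟨t, ht⟩ := Ideal.mem_span_range_iff_exists_fun.1 h
  let E : (Fin c → Fin n) → Matrix (Fin n) (Fin c) S := fun cols =>
    Matrix.of fun i k => if cols k = i then 1 else 0
  have hE : ∀ cols, Matrix.of J * E cols = Matrix.of fun j k => J j (cols k) := by
    intro cols
    ext j k
    simp [Matrix.mul_apply, E]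
  refine ⟨∑ cols, t cols • (E cols * (Matrix.of fun j k => J j (cols k)).adjugate), ?_⟩
  simp only [Matrix.mul_sum, Matrix.mul_smul, ← Matrix.mul_assoc, hE, Matrix.mul_adjugate, smul_smul,
    ← Finset.sum_smul, ht, one_smul]

/-- Formal smoothness of a quotient of a localised polynomial ring with a split Jacobian. -/
theorem formallySmooth_polynomial_quotient {n c : ℕ} {B : Type u} [CommRing B] [Algebra R B]
    [Algebra (MvPolynomial (Fin n) R) B] [IsScalarTower R (MvPolynomial (Fin n) R) B]
    [Algebra.FormallyEtale (MvPolynomial (Fin n) R) B] [Algebra.FormallySmooth R B]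
    (g : Fin c → MvPolynomial (Fin n) R) (W : Matrix (Fin n) (Fin c) B)
    (hW : ∀ j k, ∑ i, algebraMap (MvPolynomial (Fin n) R) B (pderiv i (g j)) * W i k - (if j = k then 1 else 0) ∈
      Ideal.span (Set.range fun j => algebraMap (MvPolynomial (Fin n) R) B (g j))) :
    Algebra.FormallySmooth R (B ⧸ Ideal.span (Set.range fun j => algebraMap (MvPolynomial (Fin n) R) B (g j))) := by
  classical
  let P := MvPolynomial (Fin n) R
  let lam : Ω[P⁄R] →ₗ[P] (Fin c → B) :=
    (KaehlerDifferential.mvPolynomialBasis R (Fin n)).constr P fun i => W i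
  let L := (KaehlerDifferential.isBaseChange_of_formallyEtale R P B).lift lam
  have hL : ∀ p k, L (D R B (algebraMap P B p)) k = ∑ i, algebraMap P B (pderiv i p) * W i k := by
    intro p k
    rw [← KaehlerDifferential.map_D R R P B]
    rw [(KaehlerDifferential.isBaseChange_of_formallyEtale R P B).lift_eq lam]
    rw [Module.Basis.constr_apply_fintype]
    simp [Algebra.smul_def]
    refine Finset.sum_congr rfl fun i _ => ?_
    rw [KaehlerDifferential.mvPolynomialBasis_repr_apply]
  refine SmoothQuotient.formallySmooth_quotient _ L fun j => ?_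
  let gB : Fin c → B := fun j => algebraMap P B (g j)
  have h : ∑ k, L (D R B (gB j)) k * gB k - gB j =
      ∑ k, (∑ i, algebraMap P B (pderiv i (g j)) * W i k - (if j = k then 1 else 0)) * gB k := by
    simp [gB, hL, sub_mul, Finset.sum_sub_distrib]
  show ∑ k, L (D R B (gB j)) k * gB k - gB j ∈ _
  rw [h, pow_two]
  exact sum_mem fun k _ => Ideal.mul_mem_mul (hW j k) (Ideal.subset_span ⟨k, rfl⟩)

theorem smooth_and_stablyFree {A : Type u} [CommRing A] [Algebra R A] (a : A)
    (ha : Smoothing.IsStrictlyStandard R A a) :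
    Algebra.Smooth R (Localization.Away a) ∧
      ∃ p q : ℕ, Nonempty ((Ω[Localization.Away a⁄R] × (Fin p → Localization.Away a)) ≃ₗ[Localization.Away a]
        (Fin q → Localization.Away a)) := by
  classical
  obtain ⟨P, hmin, hkill⟩ := ha
  let S := Localization.Away a
  haveI hAfp : Algebra.FinitePresentation R A :=
    Algebra.FinitePresentation.of_surjective P.surj
      (by rw [P.ker_eq]; exact Submodule.fg_span (Set.finite_range _))
  haveI : Algebra.FinitePresentation R S := Algebra.FinitePresentation.trans R A S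
  let f' : Fin P.c → MvPolynomial (Fin P.n) R := fun i => P.rel (Fin.castLE P.hcm i)
  obtain ⟨a', ha'⟩ := P.surj a
  have hrel0 : ∀ i, P.hom (P.rel i) = 0 := fun i =>
    RingHom.mem_ker.1 (P.ker_eq.ge (Ideal.subset_span ⟨i, rfl⟩) : P.rel i ∈ RingHom.ker P.hom.toRingHom)
  have himg : Ideal.span (P.rel '' {j' : Fin P.m | (j' : ℕ) < P.c}) = Ideal.span (Set.range f') := by
    congr 1
    ext x
    exact ⟨by rintro ⟨j, hj, rfl⟩; exact ⟨⟨j, hj⟩, rfl⟩, by rintro ⟨i, rfl⟩; exact ⟨_, i.2, rfl⟩⟩
  obtain ⟨G, hG, hGF⟩ := Smoothing15.exists_mul_mem_of_mul_mem_sup_sq P.hom.toRingHom P.rel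
    (Ideal.span (Set.range f')) a' hrel0 (fun j => by
      rcases lt_or_ge (j : ℕ) P.c with hj | hj
      · exact Ideal.mem_sup_left (Ideal.mul_mem_left _ _ (Ideal.subset_span ⟨⟨j, hj⟩, rfl⟩))
      · rw [← himg]; exact hkill a' ha' j hj)
  have hG' : P.hom G = a ^ P.m := by
    rw [← ha']; exact hG
  let J : Fin P.c → Fin P.n → S := fun j i => algebraMap A S (P.hom (pderiv i (f' j)))
  have hone : (1 : S) ∈ Ideal.span (Set.range fun cols : Fin P.c → Fin P.n =>
      (Matrix.of fun j k => J j (cols k)).det) := by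
    have h1 := Ideal.mem_map_of_mem (algebraMap A S) hmin
    rw [Ideal.map_span, ← Set.range_comp] at h1
    have heq : ∀ cols : Fin P.c → Fin P.n,
        algebraMap A S (P.hom (Smoothing.jacobianMinor P.rel (Fin.castLE P.hcm) cols)) =
          (Matrix.of fun j k => J j (cols k)).det := by
      intro cols
      rw [Smoothing.jacobianMinor, AlgHom.map_det, RingHom.map_det]
      rfl
    have h2 := Ideal.eq_top_of_isUnit_mem _ h1 (IsLocalization.Away.algebraMap_isUnit a)
    have h3 : (fun cols : Fin P.c → Fin P.n => (Matrix.of fun j k => J j (cols k)).det) =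
        (algebraMap A S) ∘ fun cols => P.hom (Smoothing.jacobianMinor P.rel (Fin.castLE P.hcm) cols) :=
      funext fun cols => (heq cols).symm
    rw [h3, h2]; exact Submodule.mem_top
  obtain ⟨W, hW⟩ := exists_right_inverse J hone
  constructor
  · -- smoothness
    let s := a' * G
    let B := Localization.Away s
    haveI : Algebra.FormallyEtale (MvPolynomial (Fin P.n) R) B :=
      Algebra.FormallyEtale.of_isLocalization (Submonoid.powers s)
    haveI : Algebra.FormallySmooth R B := Algebra.FormallySmooth.comp R (MvPolynomial (Fin P.n) R) B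
    let ι := algebraMap (MvPolynomial (Fin P.n) R) B
    let K := Ideal.span (Set.range fun j => ι (f' j))
    let Φ₀ : B →ₐ[R] S := IsLocalization.liftAlgHom (M := Submonoid.powers s)
      (f := (IsScalarTower.toAlgHom R A S).comp P.hom) (fun z => by
        obtain ⟨k, hk⟩ := z.2
        rw [← hk]
        show IsUnit (algebraMap A S (P.hom (s ^ k)))
        rw [map_pow, map_mul, ha', hG', ← pow_succ', ← pow_mul, map_pow]
        exact (IsLocalization.Away.algebraMap_isUnit a).pow _)
    have hΦ₀ : ∀ x, Φ₀ (ι x) = algebraMap A S (P.hom x) := fun x => by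
      simp [Φ₀, ι, IsLocalization.liftAlgHom]
    have hΦK : ∀ x ∈ K, Φ₀ x = 0 := by
      intro x hx
      refine RingHom.mem_ker.1 ((Ideal.span_le (I := RingHom.ker Φ₀)).2 ?_ hx)
      rintro _ ⟨j, rfl⟩
      exact RingHom.mem_ker.2 (by rw [hΦ₀, hrel0, map_zero])
    let Φ : (B ⧸ K) →ₐ[R] S := Ideal.Quotient.liftₐ K Φ₀ hΦK
    let q : MvPolynomial (Fin P.n) R →ₐ[R] B ⧸ K :=
      (Ideal.Quotient.mkₐ R K).comp (IsScalarTower.toAlgHom R _ B)
    have hsu : IsUnit (q s) := (IsLocalization.Away.algebraMap_isUnit s).map (Ideal.Quotient.mk K)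
    have hGu : IsUnit (q G) := isUnit_of_mul_isUnit_right (by rw [← map_mul]; exact hsu)
    have hau : IsUnit (q a') := isUnit_of_mul_isUnit_left (by rw [← map_mul]; exact hsu)
    have hqrel : RingHom.ker P.hom.toRingHom ≤ RingHom.ker q := by
      rw [P.ker_eq, Ideal.span_le]
      rintro _ ⟨j, rfl⟩
      refine RingHom.mem_ker.2 (hGu.mul_right_eq_zero.1 ?_)
      rw [← map_mul]
      show Ideal.Quotient.mk K (ι (G * P.rel j)) = 0
      rw [Ideal.Quotient.eq_zero_iff_mem]
      have := Ideal.mem_map_of_mem ι (hGF j)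
      rwa [Ideal.map_span, ← Set.range_comp] at this
    let Ψ₁ : A →ₐ[R] B ⧸ K := AlgHom.liftOfSurjective P.hom P.surj q hqrel
    have hΨ₁ : ∀ x, Ψ₁ (P.hom x) = q x := fun x => AlgHom.liftOfSurjective_apply _ _ _ _ _
    let Ψ : S →ₐ[R] B ⧸ K := IsLocalization.liftAlgHom (M := Submonoid.powers a) (f := Ψ₁) (fun z => by
      obtain ⟨k, hk⟩ := z.2
      rw [← hk, map_pow, ← ha', hΨ₁]
      exact hau.pow k)
    have hΨ : ∀ x, Ψ (algebraMap A S x) = Ψ₁ x := fun x => by simp [Ψ, IsLocalization.liftAlgHom]
    have h12 : Ψ.comp Φ = AlgHom.id R (B ⧸ K) := by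
      refine Ideal.Quotient.algHom_ext R (IsLocalization.algHom_ext (Submonoid.powers s)
        (AlgHom.ext fun x => ?_))
      show Ψ (Φ₀ (ι x)) = Ideal.Quotient.mk K (ι x)
      rw [hΦ₀, hΨ, hΨ₁]
      rfl
    have h21 : Φ.comp Ψ = AlgHom.id R S := by
      refine IsLocalization.algHom_ext (Submonoid.powers a) (AlgHom.ext fun x => ?_)
      obtain ⟨x, rfl⟩ := P.surj x
      show Φ (Ψ (algebraMap A S (P.hom x))) = algebraMap A S (P.hom x)
      rw [hΨ, hΨ₁]
      exact hΦ₀ x
    -- lift the right inverse
    have hWl : ∀ i k, ∃ w : B, Φ₀ w = W i k := by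
      intro i k
      have hs : Function.Surjective Φ₀ := by
        intro z
        obtain ⟨y, hy⟩ := Ideal.Quotient.mk_surjective (Ψ z)
        exact ⟨y, (congrArg Φ hy).trans (AlgHom.congr_fun h21 z)⟩
      exact hs _
    choose Wl hWl using hWl
    have hinj : ∀ x : B, Φ₀ x = 0 → x ∈ K := by
      intro x hx
      rw [← Ideal.Quotient.eq_zero_iff_mem,
        show Ideal.Quotient.mk K x = Ψ (Φ (Ideal.Quotient.mk K x)) from (AlgHom.congr_fun h12 _).symm]
      show Ψ (Φ₀ x) = 0
      rw [hx, map_zero]
    haveI : Algebra.FormallySmooth R (B ⧸ K) :=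
      formallySmooth_polynomial_quotient f' (Matrix.of fun i k => Wl i k) fun j k => by
        refine hinj _ ?_
        simp only [map_sub, map_sum, map_mul, hΦ₀, Matrix.of_apply, hWl, apply_ite Φ₀, map_one, map_zero]
        rw [sub_eq_zero]
        have h := congrFun (congrFun hW j) k
        simp only [Matrix.mul_apply, Matrix.of_apply, Matrix.one_apply] at h
        refine Eq.trans (Finset.sum_congr rfl fun x _ => ?_) h
        exact congrArg (· * W x k) (hΦ₀ _)
    exact ⟨Algebra.FormallySmooth.of_equiv (AlgEquiv.ofAlgHom Φ Ψ h21 h12), inferInstance⟩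
  · -- the differentials
    let x : Fin P.n → S := fun i => algebraMap A S (P.hom (X i))
    let π : (Fin P.n → S) →ₗ[S] Ω[S⁄R] := Fintype.linearCombination S fun i => D R S (x i)
    obtain ⟨hπ, hspan, hπrow⟩ :=
      RetractFreeKaehler.localised_presentation P.hom P.surj P.rel P.ker_eq a π rfl
    let row : Fin P.m → Fin P.n → S := fun j i => algebraMap A S (P.hom (pderiv i (P.rel j)))
    have hrows : ∀ j, row j ∈ Submodule.span S (Set.range J) := by
      intro j
      obtain ⟨t, ht⟩ := Ideal.mem_span_range_iff_exists_fun.1 (hGF j)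
      have hu : IsUnit (algebraMap A S (a ^ P.m)) := by
        rw [map_pow]; exact (IsLocalization.Away.algebraMap_isUnit a).pow _
      refine (Submodule.mem_span_range_iff_exists_fun S).2 ⟨fun k => ↑hu.unit⁻¹ * algebraMap A S (P.hom (t k)), ?_⟩
      funext i
      have h := congrArg (fun z => algebraMap A S (P.hom (pderiv i z))) ht
      simp only [map_sum, pderiv_mul, map_add, map_mul, f', hrel0, hG', map_zero, mul_zero, zero_add] at h
      simp only [Finset.sum_apply, Pi.smul_apply, smul_eq_mul, mul_assoc, ← Finset.mul_sum]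
      rw [h, ← mul_assoc, IsUnit.val_inv_mul hu, one_mul]
    let F : (Fin P.n → S) →ₗ[S] Ω[S⁄R] × (Fin P.c → S) := π.prod (Matrix.vecMulLinear W)
    have hJW : ∀ t : Fin P.c → S, Matrix.vecMul (∑ k, t k • J k) W = t := by
      intro t
      have h : (∑ k, t k • J k) = Matrix.vecMul t (Matrix.of J) := by
        funext i; simp [Matrix.vecMul, dotProduct, Finset.sum_apply]
      rw [h, Matrix.vecMul_vecMul, hW, Matrix.vecMul_one]
    have hπJ : ∀ t : Fin P.c → S, π (∑ k, t k • J k) = 0 := fun t => by
      rw [map_sum]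
      exact Finset.sum_eq_zero fun k _ => by rw [map_smul, hπrow (Fin.castLE P.hcm k), smul_zero]
    have hF : Function.Bijective F := by
      constructor
      · rw [← LinearMap.ker_eq_bot, eq_bot_iff]
        intro w hw
        rw [LinearMap.mem_ker] at hw
        obtain ⟨h1, h2⟩ : π w = 0 ∧ Matrix.vecMul w W = 0 := Prod.mk.inj hw
        have hmem : w ∈ Submodule.span S (Set.range J) :=
          Submodule.span_le.2 (Set.range_subset_iff.2 hrows) (hspan w h1)
        obtain ⟨t, ht⟩ := (Submodule.mem_span_range_iff_exists_fun S).1 hmem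
        rw [Submodule.mem_bot, ← ht]
        rw [← ht, hJW] at h2
        simp [h2]
      · rintro ⟨ω, t⟩
        obtain ⟨w, hw⟩ := hπ ω
        refine ⟨w + ∑ k, (t - Matrix.vecMul w W) k • J k, Prod.ext ?_ ?_⟩
        · show π (w + _) = ω
          rw [map_add, hπJ, add_zero, hw]
        · show Matrix.vecMul (w + _) W = t
          rw [Matrix.add_vecMul, hJW, add_sub_cancel]
    exact ⟨P.c, P.n, ⟨(LinearEquiv.ofBijective F hF).symm⟩⟩

end Groth.Agent.CAlgH.StrictlyStandardSmooth
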