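import Groth.Prelude.Def_Smoothing
import Groth.Agent.CAlgH.StandardAtSmooth
import Groth.Agent.CAlgH.StrictlyStandardSmooth
import Mathlib

/-! The singular ideal via standard elements. -/

universe u

open MvPolynomial

namespace Groth.Agent.CAlgH.SingularIdeal

theorem exists_perm_extending {c n : ℕ} (hcn : c ≤ n) (g : Fin c ↪ Fin n) :
    ∃ σ : Equiv.Perm (Fin n), ∀ k, σ (Fin.castLE hcn k) = g k := by
  classical
  let e : {x // x ∈ Set.range (Fin.castLE hcn)} ≃ {x // x ∈ Set.range g} :=
    (Equiv.ofInjective _ (Fin.castLE_injective hcn)).symm.trans (Equiv.ofInjective _ g.injective)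
  refine ⟨e.extendSubtype, fun k => ?_⟩
  rw [Equiv.extendSubtype_apply_of_mem e _ ⟨k, rfl⟩]
  simp [e, Equiv.ofInjective_symm_apply]

variable {R A : Type u} [CommRing R] [CommRing A] [Algebra R A]

theorem isStrictlyStandard_of_isElementaryStandard {a : A} (h : Smoothing.IsElementaryStandard R A a) :
    Smoothing.IsStrictlyStandard R A a := by
  obtain ⟨P, ⟨a', ha'⟩, hk⟩ := h
  refine ⟨P, ?_, hk⟩
  rw [ha']
  exact Ideal.mul_mem_left _ _ (Ideal.subset_span ⟨_, rfl⟩)

theorem exists_isElementaryStandard [Algebra.FinitePresentation R A] (q : Ideal A) [q.IsPrime]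
    [Algebra.IsSmoothAt R q] : ∃ a : A, a ∉ q ∧ Smoothing.IsElementaryStandard R A a := by
  classical
  obtain ⟨n, φ, hφ, hfg⟩ := ‹Algebra.FinitePresentation R A›.out
  obtain ⟨m, f, hf⟩ := Submodule.fg_iff_exists_fin_generating_family.1 hfg
  obtain ⟨a, haq, c, rows, cols, a', ha, hkill⟩ :=
    StandardAtSmooth.exists_standard_element f φ hφ hf.symm q
  have hcn : c ≤ n := by simpa using Fintype.card_le_of_embedding cols
  have hcm : c ≤ m := by simpa using Fintype.card_le_of_embedding rows
  obtain ⟨σn, hσn⟩ := exists_perm_extending hcn cols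
  obtain ⟨σm, hσm⟩ := exists_perm_extending hcm rows
  let τ : MvPolynomial (Fin n) R →ₐ[R] MvPolynomial (Fin n) R := rename σn.symm
  let rel : Fin m → MvPolynomial (Fin n) R := fun j => τ (f (σm j))
  let hom : MvPolynomial (Fin n) R →ₐ[R] A := φ.comp (rename σn)
  have hστ : ∀ x, rename σn (τ x) = x := fun x => by simp [τ, rename_rename, rename_id]
  have hτσ : ∀ x, τ (rename σn x) = x := fun x => by simp [τ, rename_rename, rename_id]
  have hhom : ∀ x, hom (τ x) = φ x := fun x => congrArg φ (hστ x)
  have hspan : Ideal.span (Set.range rel) = (Ideal.span (Set.range f)).map τ := by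
    rw [Ideal.map_span, ← Set.range_comp]
    exact congrArg _ (σm.surjective.range_comp (τ ∘ f))
  have hsurj : Function.Surjective hom := fun y => by
    obtain ⟨x, rfl⟩ := hφ y
    exact ⟨τ x, hhom x⟩
  have hkereq : RingHom.ker hom.toRingHom = Ideal.span (Set.range rel) := by
    rw [hspan]
    refine le_antisymm (fun x hx => ?_) (Ideal.map_le_iff_le_comap.2 fun x hx => ?_)
    · rw [← hτσ x]
      exact Ideal.mem_map_of_mem τ (hf.ge (show φ (rename σn x) = 0 from hx))
    · show hom (τ x) = 0
      rw [hhom]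
      exact hf.le hx
  let P : Smoothing.MarkedPresentation R A := ⟨n, m, c, hcn, hcm, rel, hom, hsurj, hkereq⟩
  refine ⟨a, haq, P, ⟨a', ?_⟩, ?_⟩
  · rw [ha]
    show a' * _ = a' * hom (Smoothing.jacobianMinor rel (Fin.castLE hcm) (Fin.castLE hcn))
    have e : Smoothing.jacobianMinor rel (Fin.castLE hcm) (Fin.castLE hcn) =
        τ (Smoothing.jacobianMinor f rows cols) := by
      rw [Smoothing.jacobianMinor, Smoothing.jacobianMinor, AlgHom.map_det]
      congr 1
      refine Matrix.ext fun j k => ?_
      show pderiv (Fin.castLE hcn k) (τ (f (σm (Fin.castLE hcm j)))) = τ (pderiv (cols k) (f (rows j)))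
      rw [hσm, show Fin.castLE hcn k = σn.symm (cols k) from (σn.eq_symm_apply).2 (hσn k)]
      exact pderiv_rename σn.symm.injective (cols k) (f (rows j))
    rw [e, hhom]
  · intro b hb j hj
    have h := hkill (rename σn b) hb (σm j)
    have h2 := Ideal.mem_map_of_mem τ h
    rw [map_mul, hτσ, Ideal.map_sup, Ideal.map_pow, ← hspan] at h2
    refine SetLike.le_def.1 (sup_le_sup_right ?_ _) h2
    rw [Ideal.map_span, ← Set.range_comp]
    refine Ideal.span_mono ?_
    rintro _ ⟨k, rfl⟩
    refine ⟨Fin.castLE hcm k, k.2, ?_⟩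
    show τ (f (σm (Fin.castLE hcm k))) = τ (f (rows k))
    rw [hσm]

theorem singularIdeal_eq [Algebra.FinitePresentation R A] :
    Smoothing.singularIdeal R A = (Ideal.span {a : A | Smoothing.IsStrictlyStandard R A a}).radical ∧
      Smoothing.singularIdeal R A = (Ideal.span {a : A | Smoothing.IsElementaryStandard R A a}).radical := by
  have h1 : Smoothing.singularIdeal R A ≤
      (Ideal.span {a : A | Smoothing.IsElementaryStandard R A a}).radical := by
    intro x hx
    rw [Ideal.radical_eq_sInf, Submodule.mem_sInf]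
    rintro p ⟨hp, hpp⟩
    by_contra hxp
    haveI := hpp
    haveI : Algebra.IsSmoothAt R p := by
      by_contra hns
      exact hxp ((PrimeSpectrum.mem_vanishingIdeal _ _).1 hx ⟨p, hpp⟩ (fun h => hns h))
    obtain ⟨a, ha, hae⟩ := exists_isElementaryStandard (R := R) p
    exact ha (hp (Ideal.subset_span hae))
  have h2 : (Ideal.span {a : A | Smoothing.IsElementaryStandard R A a}).radical ≤
      (Ideal.span {a : A | Smoothing.IsStrictlyStandard R A a}).radical :=
    Ideal.radical_mono (Ideal.span_mono fun a => isStrictlyStandard_of_isElementaryStandard)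
  have h3 : (Ideal.span {a : A | Smoothing.IsStrictlyStandard R A a}).radical ≤
      Smoothing.singularIdeal R A := by
    intro x hx
    refine (PrimeSpectrum.mem_vanishingIdeal _ _).2 fun p hp => ?_
    haveI := p.2
    refine (Ideal.radical_le_radical_iff.2 ?_ |>.trans_eq (Ideal.IsPrime.radical inferInstance)) hx
    refine le_trans ?_ Ideal.le_radical
    rw [Ideal.span_le]
    intro a ha
    by_contra hap
    refine hp ?_
    haveI := (StrictlyStandardSmooth.smooth_and_stablyFree a ha).1
    exact (Algebra.basicOpen_subset_smoothLocus_iff_smooth.2 inferInstance) hap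
  exact ⟨le_antisymm (h1.trans h2) h3, le_antisymm h1 (h2.trans h3)⟩

end Groth.Agent.CAlgH.SingularIdeal
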