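import Groth.Agent.CAlgH.DesingularizeOver
import Groth.Agent.CAlgH.DelocalizeBase
import Groth.Agent.CAlgH.SingularIdeal
import Mathlib

/-! Delocalising a resolution at a prime. -/

universe u

open MvPolynomial
open scoped TensorProduct

namespace Groth.Agent.CAlgH.DelocalizeWeak

/-- Clearing denominators in a substitution `x ↦ x'/T`. -/
theorem exists_homogenize {R : Type u} [CommRing R] {r n : ℕ} (q : MvPolynomial (Fin r ⊕ Fin n) R) :
    ∃ (N : ℕ) (e : MvPolynomial ((Fin r ⊕ Fin n) ⊕ Bool) R), ∀ (Z : Type u) [CommRing Z] [Algebra R Z]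
      (w : (Fin r ⊕ Fin n) ⊕ Bool → Z) (v : Fin r ⊕ Fin n → Z),
      (∀ k, w (Sum.inl (Sum.inl k)) = v (Sum.inl k)) →
      (∀ i, w (Sum.inl (Sum.inr i)) = w (Sum.inr false) * v (Sum.inr i)) →
      aeval w e = w (Sum.inr false) ^ N * aeval v q := by
  induction q using MvPolynomial.induction_on with
  | C c => exact ⟨0, C c, fun Z _ _ w v _ _ => by simp⟩
  | add p q hp hq =>
    obtain ⟨N, e, he⟩ := hp
    obtain ⟨M, f, hf⟩ := hq
    refine ⟨N + M, X (Sum.inr false) ^ M * e + X (Sum.inr false) ^ N * f, fun Z _ _ w v h1 h2 => ?_⟩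
    simp only [map_add, map_mul, map_pow, aeval_X, he Z w v h1 h2, hf Z w v h1 h2]
    ring
  | mul_X p i hp =>
    obtain ⟨N, e, he⟩ := hp
    rcases i with k | i
    · refine ⟨N, e * X (Sum.inl (Sum.inl k)), fun Z _ _ w v h1 h2 => ?_⟩
      simp only [map_mul, aeval_X, he Z w v h1 h2, h1]
      ring
    · refine ⟨N + 1, e * X (Sum.inl (Sum.inr i)), fun Z _ _ w v h1 h2 => ?_⟩
      simp only [map_mul, aeval_X, he Z w v h1 h2, h2]
      ring

/-- A finitely many denominators can be made common. -/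
theorem exists_common {Λ Λq : Type u} [CommRing Λ] [CommRing Λq] [Algebra Λ Λq] (𝔮 : Ideal Λ) [𝔮.IsPrime]
    [IsLocalization.AtPrime Λq 𝔮] {n : ℕ} (b : Fin n → Λq) :
    ∃ (t : Λ) (lam : Fin n → Λ), t ∉ 𝔮 ∧ ∀ i, algebraMap Λ Λq (lam i) = algebraMap Λ Λq t * b i := by
  obtain ⟨⟨t, ht⟩, hi⟩ := IsLocalization.exist_integer_multiples_of_finite 𝔮.primeCompl b
  choose lam hlam using hi
  exact ⟨t, lam, ht, fun i => (hlam i).trans (Algebra.smul_def t (b i))⟩

theorem exists_kill {R Λ Λq : Type u} [CommRing R] [CommRing Λ] [Algebra R Λ] [CommRing Λq] [Algebra Λ Λq]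
    (𝔮 : Ideal Λ) [𝔮.IsPrime] [IsLocalization.AtPrime Λq 𝔮] {V : Type} {ι : Type} [Fintype ι] (w : V → Λ)
    (e : ι → MvPolynomial V R) (h : ∀ i, algebraMap Λ Λq (aeval w (e i)) = 0) :
    ∃ τ : Λ, τ ∉ 𝔮 ∧ ∀ i, τ * aeval w (e i) = 0 := by
  classical
  choose m hm using fun i => (IsLocalization.map_eq_zero_iff 𝔮.primeCompl Λq _).1 (h i)
  refine ⟨∏ i, (m i : Λ), fun hmem => ?_, fun i => ?_⟩
  · obtain ⟨i, -, hi⟩ := (Ideal.IsPrime.prod_mem_iff (p := 𝔮)).1 hmem
    exact (m i).2 hi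
  · rw [← Finset.mul_prod_erase _ _ (Finset.mem_univ i), mul_right_comm, hm, zero_mul]

/-- The local ring of the delocalised algebra is a retract of a smooth one. -/
theorem isSmoothAt_retract {R C Z : Type u} [CommRing R] [CommRing C] [Algebra R C] [CommRing Z] [Algebra R Z]
    (P : Ideal C) [P.IsPrime] (PZ : Ideal Z) [PZ.IsPrime] [Algebra.IsSmoothAt R PZ]
    (χ : C →ₐ[R] Z) (hχ : ∀ c ∉ P, χ c ∉ PZ)
    (e : Z →ₐ[R] Localization.AtPrime P) (he : ∀ c, e (χ c) = algebraMap C (Localization.AtPrime P) c)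
    (hunit : ∀ z ∉ PZ, IsUnit (e z)) : Algebra.IsSmoothAt R P := by
  let Zl := Localization.AtPrime PZ
  haveI : Algebra.FormallySmooth R Zl := ‹Algebra.IsSmoothAt R PZ›
  let e' : Zl →ₐ[R] Localization.AtPrime P :=
    IsLocalization.liftAlgHom (M := PZ.primeCompl) (f := e) (fun z => hunit z z.2)
  refine Desingularize.formallySmooth_of_retract (C := Zl) P.primeCompl ((IsScalarTower.toAlgHom R Z Zl).comp χ)
    (fun c => IsLocalization.map_units Zl (⟨χ c, hχ c c.2⟩ : PZ.primeCompl)) e' (fun c => ?_)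
  exact (IsLocalization.lift_eq _ _).trans (he c)

theorem isSmoothAt_polynomial {R Rp B : Type u} [CommRing R] [CommRing Rp] [Algebra R Rp] [CommRing B] [Algebra R B]
    [Algebra Rp B] [IsScalarTower R Rp B] (M : Submonoid R) [IsLocalization M Rp] {V : Type} [Finite V]
    (P : Ideal (MvPolynomial V B)) [P.IsPrime] [Algebra.IsSmoothAt Rp (P.comap (algebraMap B (MvPolynomial V B)))] :
    Algebra.IsSmoothAt R P := by
  haveI : Algebra.IsSmoothAt R (P.comap (algebraMap B (MvPolynomial V B))) := by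
    haveI : Algebra.FormallyEtale R Rp := Algebra.FormallyEtale.of_isLocalization M
    haveI : Algebra.FormallySmooth Rp (Localization.AtPrime (P.comap (algebraMap B (MvPolynomial V B)))) :=
      ‹Algebra.IsSmoothAt Rp _›
    exact Algebra.FormallySmooth.comp R Rp (Localization.AtPrime (P.comap (algebraMap B (MvPolynomial V B))))
  haveI : Algebra.IsSmoothAt B P := by
    haveI : Algebra.FormallyEtale (MvPolynomial V B) (Localization.AtPrime P) :=
      Algebra.FormallyEtale.of_isLocalization P.primeCompl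
    exact Algebra.FormallySmooth.comp B (MvPolynomial V B) (Localization.AtPrime P)
  exact DesingularizeOver.isSmoothAt_comp (D := B) P

/-- The basic compatibility of the two evaluations. -/
theorem eval_compat {R Λ Λq B : Type u} [CommRing R] [CommRing Λ] [Algebra R Λ] [CommRing Λq] [Algebra Λ Λq]
    [Algebra R Λq] [IsScalarTower R Λ Λq] [CommRing B] [Algebra R B] {V : Type} (h : B →ₐ[R] Λq)
    (wZ : V → MvPolynomial Bool B) (u : Bool → Λq) (w : V → Λ)
    (hw : ∀ i, algebraMap Λ Λq (w i) = eval₂Hom h.toRingHom u (wZ i)) (p : MvPolynomial V R) :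
    algebraMap Λ Λq (aeval w p) = eval₂Hom h.toRingHom u (aeval wZ p) := by
  induction p using MvPolynomial.induction_on with
  | C c =>
    rw [aeval_C, aeval_C, ← IsScalarTower.algebraMap_apply,
      show algebraMap R (MvPolynomial Bool B) c = C (algebraMap R B c) from rfl, eval₂Hom_C]
    exact (h.commutes c).symm
  | add p q hp hq => simp only [map_add, hp, hq]
  | mul_X p i hp => rw [map_mul, map_mul, map_mul, map_mul, hp, aeval_X, aeval_X, hw]

/-- The map from the finitely presented algebra into the local ring. -/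
theorem exists_to_local {R Rp B X' : Type u} [CommRing R] [CommRing Rp] [Algebra R Rp] (M : Submonoid R)
    [IsLocalization M Rp] [CommRing B] [Algebra R B] [Algebra Rp B] [IsScalarTower R Rp B]
    [CommRing X'] [Algebra R X'] (hM : ∀ s ∈ M, IsUnit (algebraMap R X' s))
    {r n : ℕ} (θ : MvPolynomial (Fin n) Rp →ₐ[Rp] B) (hθ : Function.Surjective θ) (y : Fin r → B)
    (yX : Fin r → X') (xX : Fin n → X')
    (hkill : ∀ q : MvPolynomial (Fin r ⊕ Fin n) R,
      aeval (Sum.elim y fun i => θ (X i)) q = 0 → aeval (Sum.elim yX xX) q = 0) :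
    ∃ eB : B →ₐ[R] X', (∀ i, eB (θ (X i)) = xX i) ∧ ∀ k, eB (y k) = yX k := by
  let ι : Rp →+* X' := IsLocalization.lift (M := M) (g := algebraMap R X') fun z => hM z z.2
  letI : Algebra Rp X' := ι.toAlgebra
  haveI : IsScalarTower R Rp X' := IsScalarTower.of_algebraMap_eq fun c => (IsLocalization.lift_eq _ c).symm
  let ψ : MvPolynomial (Fin n) Rp →ₐ[Rp] X' := aeval xX
  have hθq : ∀ q : MvPolynomial (Fin n) R, θ (MvPolynomial.map (algebraMap R Rp) q) =
      aeval (Sum.elim y fun i => θ (X i)) (rename Sum.inr q) := fun q => by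
    rw [aeval_rename, show θ = aeval (fun i => θ (X i)) from aeval_unique θ, aeval_map_algebraMap]
    simp
  have hψq : ∀ q : MvPolynomial (Fin n) R, ψ (MvPolynomial.map (algebraMap R Rp) q) =
      aeval (Sum.elim yX xX) (rename Sum.inr q) := fun q => by
    rw [aeval_rename, aeval_map_algebraMap]
    simp
  have hsu : ∀ s ∈ M, IsUnit (algebraMap Rp X' (algebraMap R Rp s)) := fun s hs => by
    rw [← IsScalarTower.algebraMap_apply]; exact hM s hs
  have hker : RingHom.ker θ.toRingHom ≤ RingHom.ker ψ.toRingHom := by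
    intro p hp
    obtain ⟨s, hs, q, hq⟩ := DelocalizeBase.exists_scaled M p
    have h0 := hkill (rename Sum.inr q) (by rw [← hθq, hq, map_mul, show θ p = 0 from hp, mul_zero])
    rw [← hψq, hq, map_mul, show ψ (C (algebraMap R Rp s)) = algebraMap Rp X' (algebraMap R Rp s) from aeval_C _ _] at h0
    exact (hsu s hs).mul_right_eq_zero.1 h0
  let eB := AlgHom.liftOfSurjective θ hθ ψ hker
  have heB : ∀ p, eB (θ p) = ψ p := fun p => AlgHom.liftOfSurjective_apply θ hθ ψ hker p
  refine ⟨eB.restrictScalars R, fun i => (heB (X i)).trans (aeval_X _ _), fun k => ?_⟩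
  show eB (y k) = yX k
  obtain ⟨p, hp⟩ := hθ (y k)
  obtain ⟨s, hs, q, hq⟩ := DelocalizeBase.exists_scaled M p
  have h0 := hkill (rename Sum.inr q - C s * X (Sum.inl k)) (by
    rw [map_sub, ← hθq, hq, map_mul, map_mul, aeval_C, aeval_X, hp,
      show θ (C (algebraMap R Rp s)) = algebraMap Rp B (algebraMap R Rp s) from θ.commutes _,
      ← IsScalarTower.algebraMap_apply]
    exact sub_self _)
  rw [map_sub, ← hψq, hq, map_mul, map_mul, aeval_C, aeval_C, aeval_X, Sum.elim_inl,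
    ← IsScalarTower.algebraMap_apply, ← mul_sub] at h0
  rw [← hp, heB]
  exact sub_eq_zero.1 ((hM s hs).mul_right_eq_zero.1 h0)

set_option maxHeartbeats 1000000 in
theorem exists_delocalization_aux {R A Λ Rp Λq B : Type u} [CommRing R] [IsNoetherianRing R] [CommRing A]
    [Algebra R A] [CommRing Λ] [Algebra R Λ] (φ : A →ₐ[R] Λ) (𝔮 : Ideal Λ) [𝔮.IsPrime]
    [CommRing Rp] [Algebra R Rp] (M : Submonoid R) [IsLocalization M Rp] (hM : ∀ s ∈ M, algebraMap R Λ s ∉ 𝔮)
    [CommRing Λq] [Algebra Λ Λq] [IsLocalization.AtPrime Λq 𝔮] [Algebra R Λq] [IsScalarTower R Λ Λq]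
    [Algebra Rp Λq] [IsScalarTower R Rp Λq] [IsLocalRing Λq]
    [CommRing B] [Algebra R B] [Algebra Rp B] [IsScalarTower R Rp B] [Algebra.FinitePresentation Rp B]
    (gA : A →ₐ[R] B) (h : B →ₐ[Rp] Λq) (hcomm : ∀ a, h (gA a) = algebraMap Λ Λq (φ a))
    [((IsLocalRing.maximalIdeal Λq).comap h.toRingHom).IsPrime]
    [Algebra.IsSmoothAt Rp ((IsLocalRing.maximalIdeal Λq).comap h.toRingHom)]
    {r : ℕ} (π : MvPolynomial (Fin r) R →ₐ[R] A) (hπ : Function.Surjective π) :
    ∃ (C : Type u) (_ : CommRing C) (_ : Algebra R C), Algebra.FinitePresentation R C ∧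
      ∃ (g : A →ₐ[R] C) (hC : C →ₐ[R] Λ), hC.comp g = φ ∧
        Algebra.IsSmoothAt R (𝔮.comap hC.toRingHom) := by
  classical
  obtain ⟨n, θ, hθ, -⟩ := ‹Algebra.FinitePresentation Rp B›.out
  let b : Fin n → B := fun i => θ (X i)
  let hR : B →ₐ[R] Λq := h.restrictScalars R
  obtain ⟨t, lam, ht, hlam⟩ := exists_common 𝔮 (fun i => h (b i))
  let y : Fin r → B := fun k => gA (π (X k))
  let wZ : (Fin r ⊕ Fin n) ⊕ Bool → MvPolynomial Bool B :=
    Sum.elim (Sum.elim (fun k => C (y k)) (fun i => X false * C (b i))) (fun s => X s)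
  let wZ1 : (Fin r ⊕ Fin n) ⊕ Bool → MvPolynomial Bool B :=
    Sum.elim (Sum.elim (fun k => C (y k)) (fun i => X false * C (b i))) (fun s => cond s 1 (X false))
  let w : Λ → (Fin r ⊕ Fin n) ⊕ Bool → Λ := fun τ =>
    Sum.elim (Sum.elim (fun k => φ (π (X k))) lam) (fun s => cond s τ t)
  let σ : MvPolynomial ((Fin r ⊕ Fin n) ⊕ Bool) R →ₐ[R] MvPolynomial ((Fin r ⊕ Fin n) ⊕ Bool) R :=
    aeval (Sum.elim (fun i => X (Sum.inl i)) (fun s => cond s 1 (X (Sum.inr false))))
  let I₁ : Ideal (MvPolynomial ((Fin r ⊕ Fin n) ⊕ Bool) R) :=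
    RingHom.ker (aeval wZ1 : MvPolynomial ((Fin r ⊕ Fin n) ⊕ Bool) R →ₐ[R] MvPolynomial Bool B).toRingHom
  obtain ⟨l, e, he⟩ := Submodule.fg_iff_exists_fin_generating_family.1 (IsNoetherian.noetherian I₁)
  let u₁ : Bool → Λq := fun s => cond s 1 (algebraMap Λ Λq t)
  have h1 : ∀ p : MvPolynomial ((Fin r ⊕ Fin n) ⊕ Bool) R,
      algebraMap Λ Λq (aeval (w 1) p) = eval₂Hom hR.toRingHom u₁ (aeval wZ1 p) := by
    refine eval_compat hR wZ1 u₁ (w 1) fun i => ?_
    rcases i with (k | i) | s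
    · simp [w, wZ1, y, hR, hcomm]
    · simp [w, wZ1, u₁, hR, hlam, b]
    · cases s <;> simp [w, wZ1, u₁]
  obtain ⟨τ, hτ, hτe⟩ := exists_kill (R := R) (Λq := Λq) 𝔮 (w 1) (fun i => e i) (fun i => by
    rw [h1, show (aeval wZ1 : MvPolynomial ((Fin r ⊕ Fin n) ⊕ Bool) R →ₐ[R] MvPolynomial Bool B) (e i) = 0 from he.le (Ideal.subset_span ⟨i, rfl⟩), map_zero])
  have hτI : ∀ p ∈ I₁, τ * aeval (w 1) p = 0 := by
    intro p hp
    rw [← he] at hp
    refine Submodule.span_induction (p := fun p _ => τ * aeval (w 1) p = 0) (fun z hz => ?_) (by simp)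
      (fun y z _ _ hy hz => by rw [map_add, mul_add, hy, hz, add_zero])
      (fun a y _ hy => by rw [smul_eq_mul, map_mul, mul_left_comm, hy, mul_zero]) hp
    obtain ⟨i, rfl⟩ := hz
    exact hτe i
  let ν : MvPolynomial (Fin r) R →ₐ[R] MvPolynomial ((Fin r ⊕ Fin n) ⊕ Bool) R := rename (Sum.inl ∘ Sum.inl)
  let I : Ideal (MvPolynomial ((Fin r ⊕ Fin n) ⊕ Bool) R) :=
    (RingHom.ker π.toRingHom).map ν ⊔ Ideal.span {X (Sum.inr true)} * I₁.map σ
  haveI hfp : Algebra.FinitePresentation R (MvPolynomial ((Fin r ⊕ Fin n) ⊕ Bool) R ⧸ I) :=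
    Algebra.FinitePresentation.of_surjective (f := Ideal.Quotient.mkₐ R I) Ideal.Quotient.mk_surjective (by
      rw [show RingHom.ker (Ideal.Quotient.mkₐ R I).toRingHom = I from Ideal.mk_ker]
      exact IsNoetherian.noetherian I)
  have hI : ∀ {T : Type u} [CommRing T] [Algebra R T] (w' : (Fin r ⊕ Fin n) ⊕ Bool → T),
      (∀ p, π p = 0 → aeval w' (ν p) = 0) → (∀ p ∈ I₁, w' (Sum.inr true) * aeval w' (σ p) = 0) →
      ∀ x ∈ I, aeval w' x = 0 := by
    intro T _ _ w' ha hb x hx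
    refine (sup_le (Ideal.map_le_iff_le_comap.2 fun p hp => ha p hp) (Ideal.mul_le.2 fun z hz q hq => ?_) :
      I ≤ RingHom.ker (aeval w' : MvPolynomial ((Fin r ⊕ Fin n) ⊕ Bool) R →ₐ[R] T).toRingHom) hx
    obtain ⟨z, rfl⟩ := Ideal.mem_span_singleton'.1 hz
    rw [mul_assoc]
    refine Ideal.mul_mem_left _ z ?_
    have hle : I₁.map σ ≤ Submodule.colon (RingHom.ker (aeval w' : MvPolynomial ((Fin r ⊕ Fin n) ⊕ Bool) R →ₐ[R] T).toRingHom)
        (Set.singleton (X (Sum.inr true))) := by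
      refine Ideal.map_le_iff_le_comap.2 fun p hp => Submodule.mem_colon_singleton.2 ?_
      show aeval w' (σ p * X (Sum.inr true)) = 0
      rw [map_mul, aeval_X, mul_comm]
      exact hb p hp
    rw [mul_comm]
    exact Submodule.mem_colon_singleton.1 (hle hq)
  have hσ : ∀ {T : Type u} [CommRing T] [Algebra R T] (w' : (Fin r ⊕ Fin n) ⊕ Bool → T) p,
      aeval w' (σ p) = aeval (Sum.elim (fun i => w' (Sum.inl i)) (fun s => cond s 1 (w' (Sum.inr false)))) p := by
    intro T _ _ w' p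
    have : (aeval w' : MvPolynomial ((Fin r ⊕ Fin n) ⊕ Bool) R →ₐ[R] T).comp σ =
        aeval (Sum.elim (fun i => w' (Sum.inl i)) (fun s => cond s 1 (w' (Sum.inr false)))) := by
      refine MvPolynomial.algHom_ext fun i => ?_
      rcases i with i | s
      · simp [σ]
      · cases s <;> simp [σ]
    exact DFunLike.congr_fun this p
  have hwν : ∀ τ' p, aeval (w τ') (ν p) = φ (π p) := fun τ' p => by
    rw [aeval_rename]
    exact (DFunLike.congr_fun (MvPolynomial.algHom_ext (fun k => by simp [w]) :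
      (aeval (w τ' ∘ Sum.inl ∘ Sum.inl) : MvPolynomial (Fin r) R →ₐ[R] Λ) = φ.comp π) p)
  let hC : (MvPolynomial ((Fin r ⊕ Fin n) ⊕ Bool) R ⧸ I) →ₐ[R] Λ :=
    Ideal.Quotient.liftₐ I (aeval (w τ)) (hI (w τ) (fun p hp => by rw [hwν, hp, map_zero]) (fun p hp => by
      rw [hσ, show Sum.elim (fun i => w τ (Sum.inl i)) (fun s => cond s 1 (w τ (Sum.inr false))) = w 1 from
        funext fun i => by rcases i with (k | i) | s <;> [rfl; rfl; (cases s <;> rfl)]]
      exact hτI p hp))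
  let gC : A →ₐ[R] MvPolynomial ((Fin r ⊕ Fin n) ⊕ Bool) R ⧸ I :=
    AlgHom.liftOfSurjective π hπ ((Ideal.Quotient.mkₐ R I).comp ν) fun p hp =>
      Ideal.Quotient.eq_zero_iff_mem.2 (Ideal.mem_sup_left (Ideal.mem_map_of_mem ν hp))
  refine ⟨_, inferInstance, inferInstance, hfp, gC, hC, ?_, ?_⟩
  · refine AlgHom.ext fun a => ?_
    obtain ⟨p, rfl⟩ := hπ a
    show hC (gC (π p)) = φ (π p)
    rw [show gC (π p) = (Ideal.Quotient.mkₐ R I).comp ν p from AlgHom.liftOfSurjective_apply _ _ _ _ p]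
    exact hwν τ p
  -- smoothness at the point
  let P : Ideal (MvPolynomial ((Fin r ⊕ Fin n) ⊕ Bool) R ⧸ I) := 𝔮.comap hC.toRingHom
  show Algebra.IsSmoothAt R P
  let u : Bool → Λq := fun s => cond s (algebraMap Λ Λq τ) (algebraMap Λ Λq t)
  let hZ : MvPolynomial Bool B →+* Λq := eval₂Hom hR.toRingHom u
  let PZ : Ideal (MvPolynomial Bool B) := (IsLocalRing.maximalIdeal Λq).comap hZ
  have hPC : PZ.comap (algebraMap B (MvPolynomial Bool B)) = (IsLocalRing.maximalIdeal Λq).comap h.toRingHom := by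
    ext z
    show hZ (C z) ∈ IsLocalRing.maximalIdeal Λq ↔ h z ∈ IsLocalRing.maximalIdeal Λq
    rw [eval₂Hom_C]
    rfl
  haveI : PZ.IsPrime := Ideal.IsPrime.comap hZ
  haveI : Algebra.IsSmoothAt Rp (PZ.comap (algebraMap B (MvPolynomial Bool B))) := by
    simpa only [hPC] using ‹Algebra.IsSmoothAt Rp ((IsLocalRing.maximalIdeal Λq).comap h.toRingHom)›
  haveI : Algebra.IsSmoothAt R PZ := isSmoothAt_polynomial (Rp := Rp) M PZ
  have hI1Z : ∀ p ∈ I₁, aeval wZ (σ p) = 0 := fun p hp => by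
    rw [hσ, show Sum.elim (fun i => wZ (Sum.inl i)) (fun s => cond s 1 (wZ (Sum.inr false))) = wZ1 from
      funext fun i => by rcases i with (k | i) | s <;> [rfl; rfl; (cases s <;> rfl)]]
    exact hp
  let χ : (MvPolynomial ((Fin r ⊕ Fin n) ⊕ Bool) R ⧸ I) →ₐ[R] MvPolynomial Bool B :=
    Ideal.Quotient.liftₐ I (aeval wZ) (hI wZ (fun p hp => by
      rw [aeval_rename, show (aeval (wZ ∘ Sum.inl ∘ Sum.inl) : MvPolynomial (Fin r) R →ₐ[R] MvPolynomial Bool B) =
        ((IsScalarTower.toAlgHom R B (MvPolynomial Bool B)).comp gA).comp π from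
          MvPolynomial.algHom_ext fun k => by simp [wZ, y, MvPolynomial.algebraMap_eq], AlgHom.comp_apply, hp, map_zero])
      (fun p hp => by rw [hI1Z p hp, mul_zero]))
  have hcompatC : ∀ c, algebraMap Λ Λq (hC c) = hZ (χ c) := by
    intro c
    obtain ⟨p, rfl⟩ := Ideal.Quotient.mk_surjective c
    refine eval_compat hR wZ u (w τ) (fun i => ?_) p
    rcases i with (k | i) | s
    · simp [w, wZ, y, hR, hcomm]
    · simp [w, wZ, u, hR, hlam, b]
    · cases s <;> simp [w, wZ, u]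
  let X' := Localization.AtPrime P
  let cl : MvPolynomial ((Fin r ⊕ Fin n) ⊕ Bool) R →ₐ[R] X' :=
    (IsScalarTower.toAlgHom R _ X').comp (Ideal.Quotient.mkₐ R I)
  let wX : (Fin r ⊕ Fin n) ⊕ Bool → X' := fun i => cl (X i)
  have hclw : ∀ p, cl p = aeval wX p := fun p => DFunLike.congr_fun (aeval_unique cl) p
  have hclu : ∀ p, aeval (w τ) p ∉ 𝔮 → IsUnit (cl p) := fun p hp =>
    IsLocalization.map_units X' (⟨Ideal.Quotient.mk I p, hp⟩ : P.primeCompl)
  have hTu : IsUnit (wX (Sum.inr false)) := hclu _ (by rw [aeval_X]; exact ht)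
  have hWu : IsUnit (wX (Sum.inr true)) := hclu _ (by rw [aeval_X]; exact hτ)
  have hMu : ∀ s ∈ M, IsUnit (algebraMap R X' s) := fun s hs => by
    rw [← cl.commutes]
    exact hclu _ (by rw [AlgHom.commutes]; exact hM s hs)
  let xX : Fin n → X' := fun i => ↑hTu.unit⁻¹ * wX (Sum.inl (Sum.inr i))
  have hkill : ∀ q : MvPolynomial (Fin r ⊕ Fin n) R, aeval (Sum.elim y fun i => θ (X i)) q = 0 →
      aeval (Sum.elim (fun k => wX (Sum.inl (Sum.inl k))) xX) q = 0 := by
    intro q hq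
    obtain ⟨N, e', he'⟩ := exists_homogenize q
    have he1 : e' ∈ I₁ := by
      show aeval wZ1 e' = 0
      rw [he' _ wZ1 (fun i => C (Sum.elim y (fun i => θ (X i)) i)) (fun k => rfl) (fun i => rfl)]
      rw [show aeval (fun i => (C (Sum.elim y (fun i => θ (X i)) i) : MvPolynomial Bool B)) q =
        (IsScalarTower.toAlgHom R B (MvPolynomial Bool B)) (aeval (Sum.elim y fun i => θ (X i)) q) from
          (comp_aeval_apply _ (IsScalarTower.toAlgHom R B (MvPolynomial Bool B)) q).symm, hq, map_zero, mul_zero]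
    have h0 : cl (X (Sum.inr true) * σ e') = 0 := by
      show algebraMap _ X' (Ideal.Quotient.mk I _) = 0
      rw [(Ideal.Quotient.eq_zero_iff_mem (I := I)).2 (Ideal.mem_sup_right
        (Ideal.mul_mem_mul (Ideal.mem_span_singleton_self _) (Ideal.mem_map_of_mem σ he1))), map_zero]
    rw [map_mul] at h0
    have h1 := hWu.mul_right_eq_zero.1 h0
    rw [hclw] at h1
    have h2 := (hσ wX e').symm.trans h1
    rw [he' _ _ (Sum.elim (fun k => wX (Sum.inl (Sum.inl k))) xX) (fun k => rfl) (fun i => by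
      show wX (Sum.inl (Sum.inr i)) = wX (Sum.inr false) * (↑hTu.unit⁻¹ * wX (Sum.inl (Sum.inr i)))
      rw [← mul_assoc, hTu.mul_val_inv, one_mul])] at h2
    exact (hTu.pow N).mul_right_eq_zero.1 h2
  obtain ⟨eB, heBx, heBy⟩ := exists_to_local M hMu θ hθ y (fun k => wX (Sum.inl (Sum.inl k))) xX hkill
  let eZ : MvPolynomial Bool B →ₐ[R] X' :=
    { eval₂Hom eB.toRingHom (fun s => wX (Sum.inr s)) with
      commutes' := fun c => by
        show eval₂Hom eB.toRingHom _ (C (algebraMap R B c)) = _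
        rw [eval₂Hom_C]
        exact eB.commutes c }
  have heZC : ∀ z, eZ (C z) = eB z := fun z => eval₂Hom_C _ _ z
  have heZX : ∀ s, eZ (X s) = wX (Sum.inr s) := fun s => eval₂Hom_X' _ _ s
  refine isSmoothAt_retract P PZ χ (fun c hc => ?_) eZ (fun c => ?_) (fun z hz => ?_)
  · show ¬ hZ (χ c) ∈ IsLocalRing.maximalIdeal Λq
    rw [← hcompatC]
    exact fun hm => hc ((IsLocalization.AtPrime.to_map_mem_maximal_iff Λq 𝔮 _).1 hm)
  · obtain ⟨p, rfl⟩ := Ideal.Quotient.mk_surjective c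
    show eZ (aeval wZ p) = cl p
    have : eZ.comp (aeval wZ) = cl := by
      refine MvPolynomial.algHom_ext fun i => ?_
      show eZ (aeval wZ (X i)) = cl (X i)
      rw [aeval_X]
      rcases i with (k | i) | s
      · exact (heZC _).trans (heBy k)
      · show eZ (X false * C (b i)) = _
        rw [map_mul, heZX, heZC, heBx, ← mul_assoc, hTu.mul_val_inv, one_mul]
      · exact heZX s
    exact DFunLike.congr_fun this p
  · -- units
    let hX : X' →+* Λq := IsLocalization.lift (M := P.primeCompl) (g := (algebraMap Λ Λq).comp hC.toRingHom)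
      (fun c => IsLocalization.map_units Λq (⟨hC c, c.2⟩ : 𝔮.primeCompl))
    have hXcl : ∀ p, hX (cl p) = algebraMap Λ Λq (aeval (w τ) p) := fun p => IsLocalization.lift_eq _ _
    have hXR : ∀ c, hX (algebraMap R X' c) = algebraMap R Λq c := fun c => by
      rw [← cl.commutes, hXcl, AlgHom.commutes, ← IsScalarTower.algebraMap_apply]
    have hXB : hX.comp eB.toRingHom = h.toRingHom := by
      have hc : ∀ c : Rp, hX (eB (algebraMap Rp B c)) = algebraMap Rp Λq c := by
        intro c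
        have : (hX.comp eB.toRingHom).comp (algebraMap Rp B) = algebraMap Rp Λq := by
          refine IsLocalization.ringHom_ext M (RingHom.ext fun a => ?_)
          show hX (eB (algebraMap Rp B (algebraMap R Rp a))) = algebraMap Rp Λq (algebraMap R Rp a)
          rw [← IsScalarTower.algebraMap_apply, AlgHom.commutes, hXR, ← IsScalarTower.algebraMap_apply]
        exact DFunLike.congr_fun this c
      have : (hX.comp eB.toRingHom).comp θ.toRingHom = h.toRingHom.comp θ.toRingHom := by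
        refine MvPolynomial.ringHom_ext (fun c => ?_) fun i => ?_
        · show hX (eB (θ (C c))) = h (θ (C c))
          rw [← MvPolynomial.algebraMap_eq, AlgHom.commutes, AlgHom.commutes, hc]
        · show hX (eB (θ (X i))) = h (b i)
          rw [heBx]
          have ht' : IsUnit (algebraMap Λ Λq t) := IsLocalization.map_units Λq (⟨t, ht⟩ : 𝔮.primeCompl)
          refine ht'.mul_left_cancel ?_
          rw [← hlam, map_mul, ← mul_assoc, show algebraMap Λ Λq t = hX (wX (Sum.inr false)) by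
            rw [hXcl, aeval_X]; rfl, ← map_mul, hTu.mul_val_inv, map_one, one_mul, hXcl, aeval_X]
          rfl
      exact RingHom.ext fun z => by
        obtain ⟨z, rfl⟩ := hθ z
        exact DFunLike.congr_fun this z
    have hXZ : hX.comp eZ.toRingHom = hZ := by
      refine MvPolynomial.ringHom_ext (fun c => ?_) fun s => ?_
      · show hX (eZ (C c)) = hZ (C c)
        rw [heZC, eval₂Hom_C]
        exact DFunLike.congr_fun hXB c
      · show hX (eZ (X s)) = hZ (X s)
        rw [heZX, hXcl, aeval_X, eval₂Hom_X']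
        cases s <;> rfl
    obtain ⟨c, d, hcd⟩ := IsLocalization.exists_mk'_eq P.primeCompl (eZ z)
    by_contra hnu
    refine hz ?_
    have hcP : c ∈ P := by
      rw [← hcd] at hnu
      by_contra hcP
      exact hnu ((IsLocalization.AtPrime.isUnit_mk'_iff X' P c d).2 hcP)
    show hZ z ∈ IsLocalRing.maximalIdeal Λq
    rw [← hXZ, RingHom.comp_apply, show eZ.toRingHom z = eZ z from rfl, ← hcd, IsLocalization.mk'_eq_mul_mk'_one, map_mul,
      show hX (algebraMap _ X' c) = algebraMap Λ Λq (hC c) from IsLocalization.lift_eq _ _]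
    exact Ideal.mul_mem_right _ _ ((IsLocalization.AtPrime.to_map_mem_maximal_iff Λq 𝔮 _).2 hcP)

theorem exists_delocalization {R A Λ Rₚ Λq : Type u} [CommRing R] [IsNoetherianRing R] [CommRing A]
    [Algebra R A] [Algebra.FinitePresentation R A] [CommRing Λ] [Algebra R Λ] (φ : A →ₐ[R] Λ)
    (𝔮 : Ideal Λ) [𝔮.IsPrime]
    [CommRing Rₚ] [Algebra R Rₚ] [IsLocalization.AtPrime Rₚ (𝔮.comap (algebraMap R Λ))]
    [CommRing Λq] [Algebra Λ Λq] [IsLocalization.AtPrime Λq 𝔮] [Algebra R Λq] [IsScalarTower R Λ Λq]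
    [Algebra Rₚ Λq] [IsScalarTower R Rₚ Λq]
    (hres : Smoothing.Resolvable Rₚ
      (Algebra.TensorProduct.lift (Algebra.ofId Rₚ Λq) ((IsScalarTower.toAlgHom R Λ Λq).comp φ)
        (fun _ _ => Commute.all _ _) : Rₚ ⊗[R] A →ₐ[Rₚ] Λq) (𝔮.map (algebraMap Λ Λq))) :
    ∃ (C : Type u) (_ : CommRing C) (_ : Algebra R C), Algebra.FinitePresentation R C ∧
      ∃ (g : A →ₐ[R] C) (h : C →ₐ[R] Λ), h.comp g = φ ∧
        ¬ (Smoothing.singularIdeal R C).map h ≤ 𝔮 := by
  classical
  haveI : IsLocalRing Λq := IsLocalization.AtPrime.isLocalRing Λq 𝔮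
  obtain ⟨B, _, _, hfp, g, h, hgh, -, hnot⟩ := hres
  have hmax : 𝔮.map (algebraMap Λ Λq) = IsLocalRing.maximalIdeal Λq := IsLocalization.AtPrime.map_eq_maximalIdeal 𝔮 Λq
  rw [hmax] at hnot
  let PB : Ideal B := (IsLocalRing.maximalIdeal Λq).comap h.toRingHom
  haveI : PB.IsPrime := Ideal.IsPrime.comap _
  haveI : Algebra.IsSmoothAt Rₚ PB := by
    by_contra hns
    refine hnot ((Ideal.IsPrime.radical_le_iff inferInstance).2 (Ideal.map_le_iff_le_comap.2 fun y hy => ?_))
    exact (PrimeSpectrum.mem_vanishingIdeal _ _).1 hy ⟨PB, inferInstance⟩ hns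
  letI : Algebra R B := ((algebraMap Rₚ B).comp (algebraMap R Rₚ)).toAlgebra
  haveI : IsScalarTower R Rₚ B := IsScalarTower.of_algebraMap_eq' rfl
  obtain ⟨r, π, hπ, -⟩ := ‹Algebra.FinitePresentation R A›.out
  let gA : A →ₐ[R] B := (g.restrictScalars R).comp Algebra.TensorProduct.includeRight
  obtain ⟨C, _, _, hCfp, gC, hC, hcomp, hsm⟩ := exists_delocalization_aux φ 𝔮 (𝔮.comap (algebraMap R Λ)).primeCompl
    (fun s hs => hs) (Λq := Λq) gA h (fun a => by
      show h (g (1 ⊗ₜ a)) = _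
      rw [← AlgHom.comp_apply, hgh]
      simp) π hπ
  refine ⟨C, inferInstance, inferInstance, hCfp, gC, hC, hcomp, fun hle => ?_⟩
  haveI := hsm
  obtain ⟨a, ha, hae⟩ := SingularIdeal.exists_isElementaryStandard (R := R) (𝔮.comap hC.toRingHom)
  refine ha (hle (Ideal.mem_map_of_mem hC ?_))
  rw [(SingularIdeal.singularIdeal_eq).2]
  exact Ideal.le_radical (Ideal.subset_span hae)

end Groth.Agent.CAlgH.DelocalizeWeak
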