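import Groth.Agent.CAlgH.IdemEtale
import Groth.Agent.CAlgH.SmoothQuotient
import Mathlib

/-! Smooth algebras lift along surjections of base rings. -/

universe u

open MvPolynomial KaehlerDifferential

namespace Groth.Agent.CAlgH.SmoothLift

variable {R A₀ : Type u} [CommRing R] [CommRing A₀] [Algebra R A₀]

theorem pderiv_mem_ker {n : ℕ} (I : Ideal R) (q₀ : MvPolynomial (Fin n) R →ₐ[R] A₀)
    (hI : I.map (algebraMap R (MvPolynomial (Fin n) R)) ≤ RingHom.ker q₀) {x : MvPolynomial (Fin n) R}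
    (hx : x ∈ RingHom.ker q₀ ^ 2 ⊔ I.map (algebraMap R (MvPolynomial (Fin n) R))) (i : Fin n) :
    q₀ (pderiv i x) = 0 := by
  obtain ⟨a, ha, b, hb, rfl⟩ := Submodule.mem_sup.1 hx
  clear hx
  rw [map_add, map_add]
  have h1 : q₀ (pderiv i a) = 0 := by
    rw [pow_two] at ha
    induction ha using Submodule.mul_induction_on' with
    | mem_mul_mem x hx y hy =>
      rw [pderiv_mul, map_add, map_mul, map_mul, RingHom.mem_ker.1 hx, RingHom.mem_ker.1 hy,
        mul_zero, zero_mul, add_zero]
    | add x _ y _ h h' => rw [map_add, map_add, h, h', add_zero]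
  have h2 : q₀ (pderiv i b) = 0 := by
    rw [Ideal.map] at hb
    induction hb using Submodule.span_induction with
    | mem x hx => obtain ⟨r, -, rfl⟩ := hx; rw [Derivation.map_algebraMap, map_zero]
    | zero => rw [map_zero, map_zero]
    | add x y _ _ h h' => rw [map_add, map_add, h, h', add_zero]
    | smul c x hx h =>
      have hx0 : q₀ x = 0 := hI hx
      rw [smul_eq_mul, pderiv_mul, map_add, map_mul, map_mul, h, hx0, mul_zero, mul_zero, add_zero]
  rw [h1, h2, add_zero]

theorem isNilpotent_ker {T A : Type u} [CommRing T] [CommRing A] (g : T →+* A)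
    (h : ∀ a b, g a = 0 → g b = 0 → a * b = 0) : IsNilpotent (RingHom.ker g) := by
  refine ⟨2, ?_⟩
  rw [pow_two, Ideal.zero_eq_bot, ← le_bot_iff, Ideal.mul_le]
  exact fun a ha b hb => Ideal.mem_bot.2 (h a b ha hb)

theorem exists_presentation (I : Ideal R) [Algebra (R ⧸ I) A₀] [IsScalarTower R (R ⧸ I) A₀]
    [Algebra.Smooth (R ⧸ I) A₀] :
    ∃ (n m : ℕ) (q₀ : MvPolynomial (Fin n) R →ₐ[R] A₀) (f : Fin m → MvPolynomial (Fin n) R)
      (W : Matrix (Fin n) (Fin m) A₀) (Q : Matrix (Fin m) (Fin m) (MvPolynomial (Fin n) R)),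
      Function.Surjective q₀ ∧
      RingHom.ker q₀ = Ideal.span (Set.range f) ⊔ I.map (algebraMap R (MvPolynomial (Fin n) R)) ∧
      Q.map q₀ = Matrix.of (fun j i => q₀ (pderiv i (f j))) * W ∧
      (∀ j, f j - ∑ k, Q j k * f k ∈
        RingHom.ker q₀ ^ 2 ⊔ I.map (algebraMap R (MvPolynomial (Fin n) R))) := by
  obtain ⟨n, φ, hφ, hφfg⟩ := Algebra.FinitePresentation.out (R := R ⧸ I) (A := A₀)
  obtain ⟨s0, hs0⟩ := hφfg
  let P := MvPolynomial (Fin n) R
  let red : P →+* MvPolynomial (Fin n) (R ⧸ I) := MvPolynomial.map (Ideal.Quotient.mk I)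
  have hred : Function.Surjective red :=
    MvPolynomial.map_surjective _ Ideal.Quotient.mk_surjective
  have hredker : RingHom.ker red = I.map (algebraMap R P) := by
    show RingHom.ker (MvPolynomial.map (Ideal.Quotient.mk I)) = _
    rw [MvPolynomial.ker_map, Ideal.mk_ker]
    rfl
  let q₀ : P →ₐ[R] A₀ :=
    { φ.toRingHom.comp red with
      commutes' := fun r => by
        show φ (red (C r)) = algebraMap R A₀ r
        rw [show red (C r) = C (Ideal.Quotient.mk I r) from map_C _ r]
        exact (φ.commutes _).trans (IsScalarTower.algebraMap_apply R (R ⧸ I) A₀ r).symm }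
  have hq₀ : Function.Surjective q₀ := hφ.comp hred
  let f : Fin s0.card → P := fun j => Function.surjInv hred (s0.equivFin.symm j : MvPolynomial (Fin n) (R ⧸ I))
  have hker : RingHom.ker q₀ = Ideal.span (Set.range f) ⊔ I.map (algebraMap R P) := by
    have h1 : (Ideal.span (Set.range f)).map red = RingHom.ker φ := by
      rw [Ideal.map_span, ← Set.range_comp]
      refine Eq.trans ?_ hs0
      congr 1
      ext x
      constructor
      · rintro ⟨j, rfl⟩
        rw [Function.comp_apply, Function.surjInv_eq hred]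
        exact (s0.equivFin.symm j).2
      · intro hx
        exact ⟨s0.equivFin ⟨x, hx⟩, by simp [f, Function.surjInv_eq hred]⟩
    have h2 : RingHom.ker q₀ = Ideal.comap red ((Ideal.span (Set.range f)).map red) := by
      rw [h1]; rfl
    rw [h2, Ideal.comap_map_of_surjective red hred, ← RingHom.ker_eq_comap_bot, hredker]
  let J := RingHom.ker q₀ ^ 2 ⊔ I.map (algebraMap R P)
  have hIker : I.map (algebraMap R P) ≤ RingHom.ker q₀ := hker ▸ le_sup_right
  have hJ : J ≤ RingHom.ker q₀ := sup_le (Ideal.pow_le_self two_ne_zero) hIker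
  let T := P ⧸ J
  let mk : P →ₐ[R] T := Ideal.Quotient.mkₐ R J
  letI : Algebra (R ⧸ I) T := (Ideal.Quotient.lift I (algebraMap R T) fun r hr =>
    Ideal.Quotient.eq_zero_iff_mem.2 (Ideal.mem_sup_right (Ideal.mem_map_of_mem _ hr))).toAlgebra
  haveI : IsScalarTower R (R ⧸ I) T := IsScalarTower.of_algebraMap_eq fun r => rfl
  let g : T →+* A₀ := Ideal.Quotient.lift J q₀.toRingHom fun x hx => hJ hx
  let g' : T →ₐ[R ⧸ I] A₀ :=
    { g with
      commutes' := fun r => by
        obtain ⟨r, rfl⟩ := Ideal.Quotient.mk_surjective r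
        exact (q₀.commutes r).trans (IsScalarTower.algebraMap_apply R (R ⧸ I) A₀ r) }
  have hg : ∀ x, g' (mk x) = q₀ x := fun x => rfl
  have hgs : Function.Surjective g' := fun a => by
    obtain ⟨x, hx⟩ := hq₀ a; exact ⟨mk x, hx⟩
  have hgker : ∀ a b : T, g' a = 0 → g' b = 0 → a * b = 0 := by
    intro a b ha hb
    obtain ⟨a, rfl⟩ := Ideal.Quotient.mk_surjective a
    obtain ⟨b, rfl⟩ := Ideal.Quotient.mk_surjective b
    rw [← map_mul, Ideal.Quotient.eq_zero_iff_mem]
    exact Ideal.mem_sup_left (pow_two (RingHom.ker q₀) ▸ Ideal.mul_mem_mul ha hb)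
  have hgnil : IsNilpotent (RingHom.ker (g' : T →+* A₀)) := isNilpotent_ker _ hgker
  let s : A₀ →ₐ[R ⧸ I] T := Algebra.FormallySmooth.liftOfSurjective (AlgHom.id _ A₀) g' hgs hgnil
  have hs : ∀ a, g' (s a) = a := fun a =>
    Algebra.FormallySmooth.liftOfSurjective_apply (AlgHom.id _ A₀) g' hgs hgnil a
  let θ : P →ₐ[R] T := (s.restrictScalars R).comp q₀
  let δ : P → T := fun p => mk p - θ p
  have hδ0 : ∀ p, g' (δ p) = 0 := fun p => by
    rw [map_sub, hg]; exact sub_eq_zero.2 (hs _).symm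
  have taylor : ∀ p, δ p = ∑ i, mk (pderiv i p) * δ (X i) := by
    intro p
    induction p using MvPolynomial.induction_on with
    | C r =>
      have h1 : mk (C r) = θ (C r) := (mk.commutes r).trans (θ.commutes r).symm
      simp [δ, h1]
    | add p p' hp hp' =>
      have : δ (p + p') = δ p + δ p' := by simp only [δ, map_add]; ring
      rw [this, hp, hp']
      simp [add_mul, Finset.sum_add_distrib]
    | mul_X p i hp =>
      have h1 : δ (p * X i) = mk p * δ (X i) + mk (X i) * δ p := by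
        have h0 := hgker _ _ (hδ0 (X i)) (hδ0 p)
        simp only [δ, map_mul] at h0 ⊢
        linear_combination -h0
      rw [h1, hp, Finset.mul_sum]
      simp only [pderiv_mul, map_add, map_mul, add_mul, Finset.sum_add_distrib]
      rw [Finset.sum_eq_single (f := fun j => mk p * mk (pderiv j (X i)) * δ (X j)) i]
      · rw [pderiv_X_self, map_one, mul_one, add_comm]
        congr 1
        exact Finset.sum_congr rfl fun j _ => by ring
      · intro j _ hj; rw [pderiv_X_of_ne hj.symm, map_zero, mul_zero, zero_mul]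
      · simp
  have hW : ∀ i, ∃ w : Fin s0.card → P, δ (X i) = ∑ j, mk (w j) * mk (f j) := by
    intro i
    obtain ⟨x, hx⟩ := Ideal.Quotient.mk_surjective (δ (X i))
    have hxk : x ∈ RingHom.ker q₀ := by
      rw [RingHom.mem_ker, ← hg]; show g' (Ideal.Quotient.mk J x) = 0
      rw [hx]; exact hδ0 _
    rw [hker] at hxk
    obtain ⟨a, ha, b, hb, rfl⟩ := Submodule.mem_sup.1 hxk
    obtain ⟨w, rfl⟩ := Ideal.mem_span_range_iff_exists_fun.1 ha
    refine ⟨w, hx.symm.trans ?_⟩
    rw [map_add, Ideal.Quotient.eq_zero_iff_mem.2 (Ideal.mem_sup_right hb), add_zero, map_sum]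
    exact Finset.sum_congr rfl fun j _ => map_mul _ _ _
  choose w hw using hW
  refine ⟨n, s0.card, q₀, f, Matrix.of (fun i j => q₀ (w i j)),
    Matrix.of (fun j k => ∑ i, pderiv i (f j) * w i k), hq₀, hker, ?_, fun j => ?_⟩
  · ext j k
    simp [Matrix.mul_apply]
  · rw [← Ideal.Quotient.eq_zero_iff_mem, map_sub, sub_eq_zero]
    show mk (f j) = mk _
    have h0 : θ (f j) = 0 := by
      have hfj : f j ∈ RingHom.ker q₀ := hker.ge (Ideal.mem_sup_left (Ideal.subset_span ⟨j, rfl⟩))
      show s (q₀ (f j)) = 0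
      rw [RingHom.mem_ker.1 hfj, map_zero]
    calc mk (f j) = δ (f j) := by simp [δ, h0]
      _ = ∑ i, mk (pderiv i (f j)) * ∑ k, mk (w i k) * mk (f k) := by
          rw [taylor]; exact Finset.sum_congr rfl fun i _ => by rw [hw i]
      _ = mk (∑ k, Matrix.of (fun j k => ∑ i, pderiv i (f j) * w i k) j k * f k) := by
          rw [map_sum]
          refine (Finset.sum_congr rfl fun i _ => Finset.mul_sum _ _ _).trans
            (Finset.sum_comm.trans (Finset.sum_congr rfl fun k _ => ?_))
          rw [map_mul, Matrix.of_apply, map_sum, Finset.sum_mul]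
          exact Finset.sum_congr rfl fun i _ => by rw [map_mul, mul_assoc]

variable {P P' : Type u} [CommRing P] [CommRing P'] [Algebra R P] [Algebra R P'] [Algebra P P']
  [IsScalarTower R P P'] [Algebra P A₀]

/-- Description of the kernel of a point of an étale algebra. -/
theorem kernel_le [Algebra.FormallyUnramified P P'] {m l : ℕ} (I : Ideal R) (f : Fin l → P)
    (hker : RingHom.ker (algebraMap P A₀) = Ideal.span (Set.range f) ⊔ I.map (algebraMap R P))
    (t : MvPolynomial (Fin m) P →ₐ[P] P') (ht : Function.Surjective t) {ι : Type*}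
    (h : ι → MvPolynomial (Fin m) P) (htker : RingHom.ker t = Ideal.span (Set.range h))
    (q' : P' →ₐ[P] A₀) (yt : Fin m → P) (hyt : ∀ a, q' (t (X a)) = algebraMap P A₀ (yt a)) :
    RingHom.ker q' ≤ Ideal.span (Set.range fun j => algebraMap P P' (f j)) ⊔
        I.map (algebraMap R P') ⊔ RingHom.ker q' ^ 2 ∧
    RingHom.ker q' ≤ Ideal.span ((Set.range fun j => algebraMap P P' (f j)) ∪
        Set.range fun a => t (X a) - algebraMap P P' (yt a)) ⊔ I.map (algebraMap R P') := by
  let J' := RingHom.ker q'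
  let IP' := I.map (algebraMap R P')
  let fP : Fin l → P' := fun j => algebraMap P P' (f j)
  let Z : Ideal P' := Ideal.span (Set.range fP) ⊔ IP' ⊔ J' ^ 2
  have hIP' : IP' = (I.map (algebraMap R P)).map (algebraMap P P') := by
    rw [Ideal.map_map, ← IsScalarTower.algebraMap_eq]
  have hfJ : ∀ k, fP k ∈ J' := fun k => (q'.commutes _).trans
    (RingHom.mem_ker.1 (hker.ge (Ideal.mem_sup_left (Ideal.subset_span ⟨k, rfl⟩))))
  have hIJ : IP' ≤ J' := by
    rw [hIP', Ideal.map_le_iff_le_comap]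
    exact fun x hx => (q'.commutes x).trans (RingHom.mem_ker.1 (hker.ge (Ideal.mem_sup_right hx)))
  have hmap : ∀ p, algebraMap P A₀ p = 0 → algebraMap P P' p ∈ Ideal.span (Set.range fP) ⊔ IP' := by
    intro p hp
    obtain ⟨a, ha, b, hb, rfl⟩ := Submodule.mem_sup.1 (hker.le hp)
    rw [map_add]
    refine add_mem (Ideal.mem_sup_left ?_) (Ideal.mem_sup_right (hIP'.ge (Ideal.mem_map_of_mem _ hb)))
    have := Ideal.mem_map_of_mem (algebraMap P P') ha
    rwa [Ideal.map_span, ← Set.range_comp] at this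
  have hae : ∀ x, algebraMap P A₀ (aeval yt x) = q' (t x) := fun x => by
    have : (Algebra.ofId P A₀).comp (aeval yt) = q'.comp t :=
      MvPolynomial.algHom_ext fun a => by simpa using (hyt a).symm
    exact AlgHom.congr_fun this x
  refine ⟨?_, ?_⟩
  · let T := P' ⧸ Z
    let π : T →+* A₀ := Ideal.Quotient.lift Z q'.toRingHom fun x hx => by
      refine (sup_le (sup_le ?_ hIJ) (Ideal.pow_le_self two_ne_zero) : Z ≤ J') hx
      exact Ideal.span_le.2 (Set.range_subset_iff.2 hfJ)
    let t0 : MvPolynomial (Fin m) P →ₐ[P] T := (Algebra.ofId P T).comp (aeval yt)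
    have ht0 : ∀ x, q' (t x) = 0 → t0 x = 0 := fun x hx =>
      Ideal.Quotient.eq_zero_iff_mem.2 (Ideal.mem_sup_left (hmap _ ((hae x).trans hx)))
    let t2 : P' →ₐ[P] T := AlgHom.liftOfSurjective t ht t0 fun x hx =>
      RingHom.mem_ker.2 (ht0 x (by rw [show t x = 0 from hx, map_zero]))
    have ht2 : ∀ x, t2 (t x) = t0 x := fun x => by simp [t2]
    have hnil : IsNilpotent (RingHom.ker π) := isNilpotent_ker _ fun a b ha hb => by
      obtain ⟨a, rfl⟩ := Ideal.Quotient.mk_surjective a
      obtain ⟨b, rfl⟩ := Ideal.Quotient.mk_surjective b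
      rw [← map_mul, Ideal.Quotient.eq_zero_iff_mem]
      exact Ideal.mem_sup_right (pow_two J' ▸ Ideal.mul_mem_mul ha hb)
    have h12 : ∀ x, π ((Ideal.Quotient.mkₐ P Z) x) = π (t2 x) := by
      intro x
      obtain ⟨x, rfl⟩ := ht x
      rw [ht2]
      exact (hae x).symm.trans (q'.commutes _).symm
    have h12' := Algebra.FormallyUnramified.ext' π hnil (Ideal.Quotient.mkₐ P Z) t2 h12
    intro x hx
    show x ∈ Z
    rw [← Ideal.Quotient.eq_zero_iff_mem]
    show Ideal.Quotient.mkₐ P Z x = 0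
    rw [h12']
    obtain ⟨x, rfl⟩ := ht x
    rw [ht2]
    exact ht0 x hx
  · let D := Ideal.span (Set.range fP ∪ Set.range fun a => t (X a) - algebraMap P P' (yt a)) ⊔ IP'
    have hc : ∀ x, Ideal.Quotient.mk D (t x) = Ideal.Quotient.mk D (algebraMap P P' (aeval yt x)) := by
      intro x
      induction x using MvPolynomial.induction_on with
      | C c => rw [aeval_C, ← MvPolynomial.algebraMap_eq, t.commutes]; rfl
      | add x x' h h' => simp only [map_add, h, h']
      | mul_X x a h =>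
        simp only [map_mul, h, aeval_X]
        congr 1
        rw [Ideal.Quotient.mk_eq_mk_iff_sub_mem]
        exact Ideal.mem_sup_left (Ideal.subset_span (Or.inr ⟨a, rfl⟩))
    intro x hx
    show x ∈ D
    obtain ⟨x, rfl⟩ := ht x
    rw [← Ideal.Quotient.eq_zero_iff_mem, hc, Ideal.Quotient.eq_zero_iff_mem]
    have hle : Ideal.span (Set.range fP) ⊔ IP' ≤ D :=
      sup_le ((Ideal.span_mono Set.subset_union_left).trans le_sup_left) le_sup_right
    exact hle (hmap _ ((hae x).trans hx))

/-- An element `≡ 1` killing `ker q'` modulo `N`. -/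
theorem exists_killer {P' : Type u} [CommRing P'] (q' : P' →+* A₀) (N : Ideal P')
    (hNJ : N ≤ RingHom.ker q') (S : Set P') (hS : S.Finite) (hSJ : S ⊆ RingHom.ker q')
    (IP' : Ideal P') (hIN : IP' ≤ N) (hgen : RingHom.ker q' ≤ Ideal.span S ⊔ IP')
    (hsq : RingHom.ker q' ≤ N ⊔ RingHom.ker q' ^ 2) :
    ∃ G : P', q' G = 1 ∧ ∀ x ∈ RingHom.ker q', G * x ∈ N := by
  let J' := RingHom.ker q'
  let mkN : P' →+* P' ⧸ N := Ideal.Quotient.mk N
  have hidem : IsIdempotentElem (J'.map mkN) := by
    refine le_antisymm Ideal.mul_le_left ?_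
    calc J'.map mkN ≤ (N ⊔ J' ^ 2).map mkN := Ideal.map_mono hsq
      _ = J'.map mkN * J'.map mkN := by
        rw [Ideal.map_sup, Ideal.map_pow, pow_two, Ideal.map_quotient_self, bot_sup_eq]
  have hfg : (J'.map mkN).FG := by
    rw [show J'.map mkN = (Ideal.span S).map mkN from
      le_antisymm ((Ideal.map_mono hgen).trans (by
        rw [Ideal.map_sup, (Ideal.map_eq_bot_iff_le_ker mkN).2 (hIN.trans Ideal.mk_ker.ge), sup_bot_eq]))
        (Ideal.map_mono (Ideal.span_le.2 hSJ))]
    exact Ideal.FG.map (Submodule.fg_span hS) _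
  obtain ⟨ε, hε, hεJ⟩ := (Ideal.isIdempotentElem_iff_of_fg _ hfg).1 hidem
  obtain ⟨G, hG⟩ := Ideal.Quotient.mk_surjective (1 - ε)
  have hGJ : ∀ x ∈ J', G * x ∈ N := by
    intro x hx
    rw [← Ideal.Quotient.eq_zero_iff_mem, map_mul, hG]
    obtain ⟨c, hc⟩ := Ideal.mem_span_singleton'.1 (hεJ.le (Ideal.mem_map_of_mem mkN hx))
    rw [← hc]
    linear_combination -(c : P' ⧸ N) * hε.eq
  have hqG : q' G = 1 := by
    have h1 : mkN (1 - G) ∈ J'.map mkN := by
      rw [map_sub, map_one, hG, sub_sub_cancel, hεJ]; exact Ideal.mem_span_singleton_self _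
    obtain ⟨z, hz, hz'⟩ := (Ideal.mem_map_iff_of_surjective mkN Ideal.Quotient.mk_surjective).1 h1
    have h2 : z - (1 - G) ∈ J' := hNJ ((Ideal.Quotient.eq).1 hz')
    have h3 := J'.sub_mem hz h2
    rw [sub_sub_cancel, RingHom.mem_ker, map_sub, map_one, sub_eq_zero] at h3
    exact h3.symm
  exact ⟨G, hqG, hGJ⟩

/-- Lifting the differential coefficients through an étale algebra over a polynomial ring. -/
theorem exists_mu {n m : ℕ} {P' : Type u} [CommRing P'] [Algebra R P']
    [Algebra (MvPolynomial (Fin n) R) P'] [IsScalarTower R (MvPolynomial (Fin n) R) P']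
    [Algebra.FormallyEtale (MvPolynomial (Fin n) R) P'] [Module.Projective P' Ω[P'⁄R]]
    (q₀ : MvPolynomial (Fin n) R →ₐ[R] A₀) (W : Matrix (Fin n) (Fin m) A₀)
    (q' : P' →+* A₀) (hq' : ∀ p, q' (algebraMap _ P' p) = q₀ p) (hqs : Function.Surjective q') :
    ∃ μ : Ω[P'⁄R] →ₗ[P'] (Fin m → P'), ∀ p k,
      q' (μ (D R P' (algebraMap _ P' p)) k) = ∑ i, q₀ (pderiv i p) * W i k := by
  let P := MvPolynomial (Fin n) R
  letI : Algebra P' A₀ := q'.toAlgebra
  letI : Algebra P A₀ := q₀.toRingHom.toAlgebra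
  haveI : IsScalarTower P P' A₀ := IsScalarTower.of_algebraMap_eq fun p => (hq' p).symm
  let lam : Ω[P⁄R] →ₗ[P] (Fin m → A₀) :=
    (KaehlerDifferential.mvPolynomialBasis R (Fin n)).constr P fun i => W i
  have hlam : ∀ p, lam (D R P p) = fun k => ∑ i, q₀ (pderiv i p) * W i k := by
    intro p
    ext k
    rw [Module.Basis.constr_apply_fintype]
    simp [Algebra.smul_def]
    refine Finset.sum_congr rfl fun i _ => ?_
    rw [KaehlerDifferential.mvPolynomialBasis_repr_apply]
    rfl
  let lam' : Ω[P'⁄R] →ₗ[P'] (Fin m → A₀) :=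
    (KaehlerDifferential.isBaseChange_of_formallyEtale R P P').lift lam
  have hlam' : ∀ p, lam' (D R P' (algebraMap P P' p)) = lam (D R P p) := fun p => by
    rw [← KaehlerDifferential.map_D R R P P']
    exact (KaehlerDifferential.isBaseChange_of_formallyEtale R P P').lift_eq lam _
  let proj : (Fin m → P') →ₗ[P'] (Fin m → A₀) := (Algebra.linearMap P' A₀).compLeft (Fin m)
  have hproj : Function.Surjective proj := fun v =>
    ⟨fun k => (hqs (v k)).choose, funext fun k => (hqs (v k)).choose_spec⟩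
  obtain ⟨μ, hμ⟩ := Module.projective_lifting_property proj lam' hproj
  refine ⟨μ, fun p k => (congrFun (LinearMap.congr_fun hμ _) k).trans ?_⟩
  rw [hlam', hlam]

/-- Cutting out the lift. -/
theorem exists_cut {m : ℕ} {P' : Type u} [CommRing P'] [Algebra R P'] [Algebra.Smooth R P']
    (I : Ideal R) (q' : P' →ₐ[R] A₀) (hqs : Function.Surjective q') (hIJ : I.map (algebraMap R P') ≤ RingHom.ker q')
    (E : Matrix (Fin m) (Fin m) P') (hEE : E * E = E) (g : Fin m → P')
    (hEg : ∀ j, ∑ k, E j k * g k = g j) (hgJ : ∀ j, q' (g j) = 0)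
    (μ : Ω[P'⁄R] →ₗ[P'] (Fin m → P'))
    (hμe : ∀ j k, q' (μ (D R P' (g j)) k) = q' (E j k))
    (G : P') (hqG : q' G = 1)
    (hGJ : ∀ x ∈ RingHom.ker q', G * x ∈ Ideal.span (Set.range g) ⊔ I.map (algebraMap R P')) :
    ∃ (A : Type u) (_ : CommRing A) (_ : Algebra R A), Algebra.Smooth R A ∧
      ∃ q : A →ₐ[R] A₀, Function.Surjective q ∧ RingHom.ker q = I.map (algebraMap R A) := by
  classical
  let J' := RingHom.ker q'
  let N := Ideal.span (Set.range g) ⊔ I.map (algebraMap R P')
  let Nm : Matrix (Fin m) (Fin m) P' := Matrix.of fun j k => μ (D R P' (g j)) k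
  have hNe : Nm.map q' = E.map q' := Matrix.ext hμe
  let H : Matrix (Fin m) (Fin m) P' := E * Nm * E + (1 - E)
  have hH : H.map q' = 1 := by
    have he : E.map q' * E.map q' = E.map q' := by rw [← Matrix.map_mul, hEE]
    rw [← AlgHom.mapMatrix_apply]
    simp only [H, map_add, map_mul, map_sub, map_one, AlgHom.mapMatrix_apply, hNe, he]
    abel
  have hdet : q' H.det = 1 := by
    rw [AlgHom.map_det, AlgHom.mapMatrix_apply, hH, Matrix.det_one]
  -- localize
  let s := G * H.det
  let B := Localization.Away s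
  haveI : Algebra.Smooth P' B := inferInstance
  haveI : Algebra.Smooth R B := Algebra.Smooth.comp R P' B
  let ι := algebraMap P' B
  let gB : Fin m → B := fun j => ι (g j)
  let KB := Ideal.span (Set.range gB)
  let EB := E.map ι
  let HB := H.map ι
  have hHu : IsUnit HB.det := by
    rw [show HB = ι.mapMatrix H from rfl, ← RingHom.map_det]
    exact isUnit_of_mul_isUnit_right (by rw [← map_mul]; exact IsLocalization.Away.algebraMap_isUnit s)
  let M : Matrix (Fin m) (Fin m) B := EB * HB⁻¹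
  let μB : Ω[B⁄R] →ₗ[B] (Fin m → B) :=
    (KaehlerDifferential.isBaseChange_of_formallyEtale R P' B).lift
      (((Algebra.linearMap P' B).compLeft (Fin m)) ∘ₗ μ)
  haveI : Algebra.FormallyEtale P' B := Algebra.FormallyEtale.of_isLocalization (Submonoid.powers s)
  have hμB : ∀ x k, μB (D R B (ι x)) k = ι (μ (D R P' x) k) := fun x k => by
    rw [← KaehlerDifferential.map_D R R P' B]
    exact congrFun ((KaehlerDifferential.isBaseChange_of_formallyEtale R P' B).lift_eq _ _) k
  let L : Ω[B⁄R] →ₗ[B] (Fin m → B) := (Matrix.vecMulLinear M) ∘ₗ μB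
  have hL : ∀ j, ∑ k, L (D R B (gB j)) k * gB k - gB j ∈ KB ^ 2 := by
    intro j
    let NB := Nm.map ι
    have hEBB : EB * EB = EB := by
      show E.map ι * E.map ι = E.map ι
      rw [← Matrix.map_mul, hEE]
    -- differentiate `g = E g`
    have hD : ∀ k, NB j k - (EB * NB) j k ∈ KB := by
      intro k
      have h := congrArg (fun x => ι (μ (D R P' x) k)) (hEg j)
      simp only [map_sum, Derivation.leibniz, map_add, map_smul, Finset.sum_apply, Pi.add_apply,
        Pi.smul_apply, smul_eq_mul, map_mul, Finset.sum_add_distrib] at h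
      have h' : NB j k - (EB * NB) j k = ∑ x, ι (g x) * ι (μ (D R P' (E j x)) k) := by
        rw [sub_eq_iff_eq_add', Matrix.mul_apply]
        exact h.symm
      rw [h']
      exact sum_mem fun x _ => Ideal.mul_mem_right _ _ (Ideal.subset_span ⟨x, rfl⟩)
    have hEH : EB * NB * M = EB := by
      have h1 : EB * HB = EB * NB * EB := by
        show E.map ι * H.map ι = E.map ι * Nm.map ι * E.map ι
        rw [← Matrix.map_mul, ← Matrix.map_mul, ← Matrix.map_mul]
        congr 1
        show E * (E * Nm * E + (1 - E)) = _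
        rw [mul_add, mul_sub, mul_one, hEE, sub_self, add_zero, ← mul_assoc, ← mul_assoc, hEE]
      show EB * NB * (EB * HB⁻¹) = EB
      rw [← Matrix.mul_assoc, ← h1, Matrix.mul_assoc, Matrix.mul_nonsing_inv _ hHu, Matrix.mul_one]
    have hval : ∀ k, L (D R B (gB j)) k = (NB * M) j k := by
      intro k
      show Matrix.vecMul (μB (D R B (ι (g j)))) M k = _
      simp only [Matrix.vecMul, dotProduct, hμB, Matrix.mul_apply]
      rfl
    have hdiff : ∀ k, L (D R B (gB j)) k - EB j k ∈ KB := by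
      intro k
      rw [hval, ← congrFun (congrFun hEH j) k, Matrix.mul_apply, Matrix.mul_apply, ← Finset.sum_sub_distrib]
      exact sum_mem fun x _ => by rw [← sub_mul]; exact Ideal.mul_mem_right _ _ (hD x)
    have hgj : ∑ k, EB j k * gB k = gB j := by
      show ∑ k, ι (E j k) * ι (g k) = ι (g j)
      rw [← hEg j, map_sum]
      exact Finset.sum_congr rfl fun k _ => (map_mul _ _ _).symm
    have h5 : ∑ k, L (D R B (gB j)) k * gB k - gB j = ∑ k, (L (D R B (gB j)) k - EB j k) * gB k := by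
      simp only [sub_mul, Finset.sum_sub_distrib, hgj]
    rw [h5, pow_two]
    exact sum_mem fun k _ => Ideal.mul_mem_mul (hdiff k) (Ideal.subset_span ⟨k, rfl⟩)
  haveI hfs : Algebra.FormallySmooth R (B ⧸ KB) :=
    SmoothQuotient.formallySmooth_quotient gB L hL
  haveI hfp : Algebra.FinitePresentation R (B ⧸ KB) :=
    Algebra.FinitePresentation.quotient (Submodule.fg_span (Set.finite_range gB))
  have hqs1 : q' s = 1 := by rw [map_mul, hqG, hdet, one_mul]
  let qB : B →ₐ[R] A₀ := IsLocalization.liftAlgHom (M := Submonoid.powers s) (f := q') (fun z => by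
    obtain ⟨k, hk⟩ := z.2
    rw [← hk]
    show IsUnit (q' (s ^ k))
    rw [map_pow, hqs1, one_pow]; exact isUnit_one)
  have hqB : ∀ x, qB (ι x) = q' x := fun x => by simp [qB, ι, IsLocalization.liftAlgHom]
  have hKq : ∀ x ∈ KB, qB x = 0 := by
    intro x hx
    refine RingHom.mem_ker.1 ((Ideal.span_le (I := RingHom.ker qB)).2 ?_ hx)
    rintro _ ⟨j, rfl⟩
    exact (hqB _).trans (hgJ j)
  refine ⟨B ⧸ KB, inferInstance, inferInstance, ⟨hfs, hfp⟩, Ideal.Quotient.liftₐ KB qB hKq, ?_, ?_⟩
  · intro a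
    obtain ⟨x, hx⟩ := hqs a
    exact ⟨Ideal.Quotient.mk KB (ι x), (hqB x).trans hx⟩
  · refine le_antisymm ?_ (Ideal.map_le_iff_le_comap.2 fun r hr => ?_)
    · intro x hx
      obtain ⟨x, rfl⟩ := Ideal.Quotient.mk_surjective x
      have hx' : qB x = 0 := hx
      obtain ⟨⟨a, ⟨_, k, rfl⟩⟩, ha⟩ := IsLocalization.surj (Submonoid.powers s) x
      have ha' : a ∈ J' := by
        rw [RingHom.mem_ker, ← hqB, ← ha, map_mul, hx', zero_mul]
      have h1 : G * a ∈ N := hGJ a ha'
      have h2 : ι (G * a) ∈ KB ⊔ I.map (algebraMap R B) := by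
        have := Ideal.mem_map_of_mem ι h1
        rwa [Ideal.map_sup, Ideal.map_span, ← Set.range_comp, Ideal.map_map,
          ← IsScalarTower.algebraMap_eq] at this
      have h3 : x ∈ KB ⊔ I.map (algebraMap R B) := by
        have hu : IsUnit (ι G * ι (s ^ k)) := by
          rw [map_pow]
          refine IsUnit.mul (isUnit_of_mul_isUnit_left (y := ι H.det) ?_) ((IsLocalization.Away.algebraMap_isUnit s).pow k)
          rw [← map_mul]; exact IsLocalization.Away.algebraMap_isUnit s
        rw [map_mul, ← ha, ← mul_assoc, mul_comm (ι G) x, mul_assoc] at h2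
        exact (Ideal.mul_unit_mem_iff_mem _ hu).1 h2
      have h4 := Ideal.mem_map_of_mem (Ideal.Quotient.mk KB) h3
      rw [Ideal.map_sup, Ideal.map_quotient_self, bot_sup_eq, Ideal.map_map] at h4
      exact h4
    · show qB (algebraMap R B r) = 0
      rw [qB.commutes, ← q'.commutes]
      exact hIJ (Ideal.mem_map_of_mem _ hr)

open Groth.Agent.CAlgH.IdemEtale in
theorem exists_smooth_lift_aux (I : Ideal R) [Algebra (R ⧸ I) A₀] [IsScalarTower R (R ⧸ I) A₀]
    [Algebra.Smooth (R ⧸ I) A₀] :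
    ∃ (A : Type u) (_ : CommRing A) (_ : Algebra R A), Algebra.Smooth R A ∧
      ∃ q : A →ₐ[R] A₀, Function.Surjective q ∧ RingHom.ker q = I.map (algebraMap R A) := by
  classical
  obtain ⟨n, m, q₀, f, W, Q, hq₀, hker, hQ, hfQ⟩ := exists_presentation (A₀ := A₀) I
  let P := MvPolynomial (Fin n) R
  have hIker : I.map (algebraMap R P) ≤ RingHom.ker q₀ := hker ▸ le_sup_right
  letI : Algebra P A₀ := q₀.toRingHom.toAlgebra
  haveI : IsScalarTower R P A₀ := IsScalarTower.of_algHom q₀
  let e : Matrix (Fin m) (Fin m) A₀ := Q.map (algebraMap P A₀)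
  let dF : Matrix (Fin m) (Fin n) A₀ := Matrix.of fun j i => q₀ (pderiv i (f j))
  have he' : e = dF * W := hQ
  have hedF : e * dF = dF := by
    ext j i
    have h := pderiv_mem_ker I q₀ hIker (hfQ j) i
    simp only [map_sub, map_sum, pderiv_mul, map_add, map_mul] at h
    rw [sub_eq_zero] at h
    rw [Matrix.mul_apply]
    refine Eq.trans ?_ h.symm
    refine Finset.sum_congr rfl fun k _ => ?_
    have : q₀ (f k) = 0 := hker.ge (Ideal.mem_sup_left (Ideal.subset_span ⟨k, rfl⟩))
    rw [this, mul_zero, zero_add]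
    rfl
  have hee : e * e = e := by
    conv_lhs => arg 2; rw [he']
    rw [← Matrix.mul_assoc, hedF, ← he']
  obtain ⟨y₀, hy₀, hye⟩ := exists_coord_of_isIdempotentElem Q e rfl hee
  -- the étale neighbourhood carrying an idempotent matrix
  let χ := Q.charpoly
  rcases subsingleton_or_nontrivial A₀ with hA | hA
  · refine ⟨PUnit, inferInstance, inferInstance, ?_, ?_⟩
    · haveI : Algebra.IsStandardSmooth R PUnit.{u+1} :=
        (Algebra.SubmersivePresentation.ofSubsingleton R PUnit.{u+1}).isStandardSmooth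
      infer_instance
    · let q : PUnit.{u+1} →ₐ[R] A₀ :=
        { toFun := fun _ => 0
          map_one' := Subsingleton.elim _ _
          map_mul' := fun _ _ => Subsingleton.elim _ _
          map_zero' := rfl
          map_add' := fun _ _ => Subsingleton.elim _ _
          commutes' := fun _ => Subsingleton.elim _ _ }
      refine ⟨q, fun a => ⟨PUnit.unit, Subsingleton.elim _ _⟩, ?_⟩
      refine Ideal.ext fun x => ⟨fun _ => ?_, fun _ => Subsingleton.elim _ _⟩
      rw [show x = 0 from Subsingleton.elim _ _]; exact zero_mem _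
  haveI : Nontrivial P := (algebraMap P A₀).domain_nontrivial
  have hχdeg : χ.natDegree = m := by rw [Matrix.charpoly_natDegree_eq_dim, Fintype.card_fin]
  let P' := IdemAlg χ m
  haveI : Algebra.Etale P P' := etale χ Q.charpoly_monic hχdeg
  haveI : Algebra.Smooth R P := ⟨inferInstance, inferInstance⟩
  haveI : Algebra.Smooth R P' := Algebra.Smooth.comp R P P'
  let q' : P' →ₐ[P] A₀ := Ideal.Quotient.liftₐ _ (aeval y₀) fun x hx => by
    refine RingHom.mem_ker.1 ((Ideal.span_le (I := RingHom.ker (aeval y₀))).2 ?_ hx)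
    rintro _ ⟨l, rfl⟩
    exact hy₀ l
  have hq'c : ∀ p : P, q' (algebraMap P P' p) = q₀ p := fun p => q'.commutes p
  have hq'X : ∀ a, q' (coord (m := m) χ a) = y₀ a := fun a => by
    show aeval y₀ (X a) = y₀ a
    exact aeval_X _ _
  let E : Matrix (Fin m) (Fin m) P' :=
    ∑ a : Fin m, (coord (m := m) χ a : P') • (Q.map (algebraMap P P')) ^ (a : ℕ)
  have hEE : E * E = E := by
    rw [← sub_eq_zero, sq_sub_eq (isRootLike_matrix Q) (coord χ)]
    refine Finset.sum_eq_zero fun l _ => ?_
    rw [aeval_coord, show Ideal.Quotient.mk _ (eqn Q.charpoly l) = (0 : P') from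
      Ideal.Quotient.eq_zero_iff_mem.2 (Ideal.subset_span ⟨l, rfl⟩)]
    exact zero_smul P' (Q.map (algebraMap P P') ^ (l : ℕ))
  have hEe : E.map q' = e := by
    rw [← AlgHom.mapMatrix_apply]
    simp only [E, map_sum]
    refine Eq.trans (Finset.sum_congr rfl fun a _ => ?_) hye
    rw [AlgHom.mapMatrix_apply, Matrix.map_smul' _ _ _ (map_mul q'), hq'X,
      ← AlgHom.mapMatrix_apply, map_pow, AlgHom.mapMatrix_apply, Matrix.map_map]
    congr 3
    ext p : 2
    exact hq'c p
  let fP : Fin m → P' := fun j => algebraMap P P' (f j)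
  let g : Fin m → P' := fun j => ∑ k, E j k * fP k
  have hEg : ∀ j, ∑ k, E j k * g k = g j := by
    intro j
    show (E.mulVec (E.mulVec fP)) j = (E.mulVec fP) j
    rw [Matrix.mulVec_mulVec, hEE]
  -- the kernel of `q'`
  let J' := RingHom.ker q'
  let IP' := I.map (algebraMap R P')
  have hIP' : IP' = (I.map (algebraMap R P)).map (algebraMap P P') := by
    rw [Ideal.map_map, ← IsScalarTower.algebraMap_eq]
  have hIJ : IP' ≤ J' := by
    rw [hIP', Ideal.map_le_iff_le_comap]
    exact fun x hx => (hq'c x).trans (hIker hx)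
  have hfJ : ∀ k, fP k ∈ J' := fun k => (hq'c _).trans (hker.ge (Ideal.mem_sup_left (Ideal.subset_span ⟨k, rfl⟩)))
  have hgJ : ∀ j, g j ∈ J' := fun j => sum_mem fun k _ => Ideal.mul_mem_left _ _ (hfJ k)
  choose yt hyt using fun a => hq₀ (y₀ a)
  let t : MvPolynomial (Fin m) P →ₐ[P] P' := Ideal.Quotient.mkₐ P _
  obtain ⟨hJZ, hgen⟩ := kernel_le (A₀ := A₀) (P := P) (P' := P') I f hker t Ideal.Quotient.mk_surjective
    (eqn (m := m) χ) (Ideal.Quotient.mkₐ_ker P _) q' yt (fun a => (hq'X a).trans (hyt a).symm)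
  let K := Ideal.span (Set.range g)
  let N := K ⊔ IP'
  have hNJ : N ≤ J' := sup_le (Ideal.span_le.2 (Set.range_subset_iff.2 hgJ)) hIJ
  have hfN : ∀ j, fP j ∈ N ⊔ J' ^ 2 := by
    intro j
    have h1 : fP j - ∑ k, algebraMap P P' (Q j k) * fP k ∈ J' ^ 2 ⊔ IP' := by
      have h := Ideal.mem_map_of_mem (algebraMap P P') (hfQ j)
      simp only [map_sub, map_sum, map_mul, Ideal.map_sup, Ideal.map_pow, ← hIP'] at h
      have hkk : (RingHom.ker q₀).map (algebraMap P P') ≤ J' :=
        Ideal.map_le_iff_le_comap.2 fun x hx => RingHom.mem_ker.2 ((hq'c x).trans (RingHom.mem_ker.1 hx))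
      have hle : (RingHom.ker q₀).map (algebraMap P P') ^ 2 ⊔ IP' ≤ J' ^ 2 ⊔ IP' :=
        sup_le_sup_right (Ideal.pow_right_mono hkk 2) _
      refine hle ?_
      rw [hIP']
      exact h
    have h2 : ∀ k, (algebraMap P P' (Q j k) - E j k) * fP k ∈ J' ^ 2 := by
      intro k
      rw [pow_two]
      refine Ideal.mul_mem_mul ?_ (hfJ k)
      rw [RingHom.mem_ker, map_sub, hq'c, sub_eq_zero]
      exact (congrFun (congrFun hEe j) k).symm
    have h3 : fP j = g j + ((fP j - ∑ k, algebraMap P P' (Q j k) * fP k) +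
        ∑ k, (algebraMap P P' (Q j k) - E j k) * fP k) := by
      simp only [g, sub_mul, Finset.sum_sub_distrib]; ring
    rw [h3]
    refine add_mem (Ideal.mem_sup_left (Ideal.mem_sup_left (Ideal.subset_span ⟨j, rfl⟩))) (add_mem ?_ ?_)
    · have hle : J' ^ 2 ⊔ IP' ≤ N ⊔ J' ^ 2 := sup_le le_sup_right (le_sup_right.trans le_sup_left)
      exact hle h1
    · exact Ideal.mem_sup_right (sum_mem fun k _ => h2 k)
  obtain ⟨G, hqG, hGJ⟩ := exists_killer q'.toRingHom N hNJ
    (Set.range fP ∪ Set.range fun a => t (X a) - algebraMap P P' (yt a))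
    ((Set.finite_range _).union (Set.finite_range _))
    (Set.union_subset (Set.range_subset_iff.2 hfJ) (Set.range_subset_iff.2 fun a => by
      rw [SetLike.mem_coe, RingHom.mem_ker]
      show q' (t (X a) - algebraMap P P' (yt a)) = 0
      rw [map_sub, hq'c, hyt, sub_eq_zero]
      exact hq'X a))
    IP' le_sup_right hgen
    (hJZ.trans (sup_le (sup_le (Ideal.span_le.2 (Set.range_subset_iff.2 hfN))
      (le_sup_right.trans le_sup_left)) le_sup_right))
  have hqs : Function.Surjective (q'.restrictScalars R) := fun a => by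
    obtain ⟨p, hp⟩ := hq₀ a; exact ⟨_, (hq'c p).trans hp⟩
  obtain ⟨μ, hμ⟩ := exists_mu (P' := P') q₀ W q'.toRingHom hq'c hqs
  refine exists_cut I (q'.restrictScalars R) hqs hIJ E hEE g hEg hgJ μ (fun j k => ?_) G hqG hGJ
  show q' (μ (D R P' (g j)) k) = q' (E j k)
  have hμ' : ∀ p k, q' (μ (D R P' (algebraMap P P' p)) k) = ∑ i, q₀ (pderiv i p) * W i k := hμ
  simp only [g, map_sum, Derivation.leibniz, map_add, map_smul, fP, Finset.sum_apply, Pi.add_apply,
    Pi.smul_apply, smul_eq_mul, map_mul, hμ']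
  have : ∀ x : Fin m, q' (algebraMap P P' (f x)) = 0 := fun x => hfJ x
  simp only [this, zero_mul, add_zero]
  refine Eq.trans ?_ (congrFun (congrFun hEe j) k).symm
  rw [← congrFun (congrFun hee j) k, Matrix.mul_apply]
  refine Finset.sum_congr rfl fun x _ => ?_
  congr 1
  · exact congrFun (congrFun hEe j) x
  · conv_rhs => rw [he', Matrix.mul_apply]
    rfl

theorem exists_smooth_lift {R A₀ : Type u} [CommRing R] (I : Ideal R) [CommRing A₀]
    [Algebra (R ⧸ I) A₀] [Algebra.Smooth (R ⧸ I) A₀] :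
    ∃ (A : Type u) (_ : CommRing A) (_ : Algebra R A), Algebra.Smooth R A ∧
      Nonempty ((A ⧸ I.map (algebraMap R A)) ≃ₐ[R ⧸ I] A₀) := by
  letI : Algebra R A₀ := Algebra.compHom A₀ (algebraMap R (R ⧸ I))
  haveI : IsScalarTower R (R ⧸ I) A₀ := IsScalarTower.of_algebraMap_eq fun r => rfl
  obtain ⟨A, iA, aA, hA, q, hq, hker⟩ := exists_smooth_lift_aux (A₀ := A₀) I
  letI := iA; letI := aA
  let e : (A ⧸ I.map (algebraMap R A)) ≃+* A₀ :=
    (Ideal.quotEquivOfEq hker.symm).trans (RingHom.quotientKerEquivOfSurjective hq)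
  refine ⟨A, iA, aA, hA, ⟨AlgEquiv.ofRingEquiv (f := e) fun r => ?_⟩⟩
  obtain ⟨r, rfl⟩ := Ideal.Quotient.mk_surjective r
  exact q.commutes r

end Groth.Agent.CAlgH.SmoothLift
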