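import Groth.Prelude.Def_Smoothing
import Groth.Agent.CAlgH.SmoothLift
import Mathlib

/-! Ind-smoothness along nilpotent flat deformations. -/

universe u

open MvPolynomial
open scoped TensorProduct

namespace Groth.Agent.CAlgH.IndSmoothSquareZero

theorem exists_smooth_lift' {R R₀ A₀ : Type u} [CommRing R] [CommRing R₀] [Algebra R R₀]
    (hR₀ : Function.Surjective (algebraMap R R₀)) [CommRing A₀] [Algebra R₀ A₀] [Algebra R A₀]
    [IsScalarTower R R₀ A₀] [Algebra.Smooth R₀ A₀] :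
    ∃ (A : Type u) (_ : CommRing A) (_ : Algebra R A), Algebra.Smooth R A ∧
      ∃ q : A →ₐ[R] A₀, Function.Surjective q ∧
        RingHom.ker q = (RingHom.ker (algebraMap R R₀)).map (algebraMap R A) := by
  let I := RingHom.ker (algebraMap R R₀)
  let e : (R ⧸ I) ≃+* R₀ := RingHom.quotientKerEquivOfSurjective hR₀
  letI : Algebra (R ⧸ I) R₀ := e.toRingHom.toAlgebra
  letI : Algebra (R ⧸ I) A₀ := ((algebraMap R₀ A₀).comp e.toRingHom).toAlgebra
  haveI : IsScalarTower (R ⧸ I) R₀ A₀ := IsScalarTower.of_algebraMap_eq fun r => rfl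
  haveI : IsScalarTower R (R ⧸ I) A₀ := IsScalarTower.of_algebraMap_eq fun r =>
    (IsScalarTower.algebraMap_apply R R₀ A₀ r).trans rfl
  haveI : Algebra.Smooth (R ⧸ I) R₀ :=
    Algebra.Smooth.of_equiv (AlgEquiv.ofBijective (Algebra.ofId (R ⧸ I) R₀) e.bijective)
  haveI : Algebra.Smooth (R ⧸ I) A₀ := Algebra.Smooth.comp _ R₀ A₀
  exact SmoothLift.exists_smooth_lift_aux I

theorem exists_sum_of_mem_map {R S : Type u} [CommRing R] [CommRing S] [Algebra R S] {I : Ideal R}
    {z : S} (hz : z ∈ I.map (algebraMap R S)) :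
    ∃ (N : ℕ) (r : Fin N → R) (l : Fin N → S), (∀ i, r i ∈ I) ∧ ∑ i, algebraMap R S (r i) * l i = z := by
  rw [Ideal.map, Ideal.span, Submodule.mem_span_set'] at hz
  obtain ⟨N, c, v, rfl⟩ := hz
  have : ∀ i : Fin N, ∃ r ∈ I, algebraMap R S r = v i := fun i => (v i).2
  choose r hr hv using this
  exact ⟨N, r, c, hr, Finset.sum_congr rfl fun i _ => by rw [hv, smul_eq_mul, mul_comm]⟩

theorem mul_eq_zero_of_sq {R S : Type u} [CommRing R] [CommRing S] [Algebra R S] {I : Ideal R}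
    (hI : I ^ 2 = ⊥) {a b : S} (ha : a ∈ I.map (algebraMap R S)) (hb : b ∈ I.map (algebraMap R S)) :
    a * b = 0 := by
  rw [← Ideal.mem_bot, ← Ideal.map_bot (f := algebraMap R S), ← hI, Ideal.map_pow, pow_two]
  exact Ideal.mul_mem_mul ha hb

variable {R R₀ Λ Λ₀ : Type u} [CommRing R] [CommRing R₀] [CommRing Λ] [CommRing Λ₀]
  [Algebra R R₀] [Algebra R Λ] [Algebra R₀ Λ₀] [Algebra R Λ₀] [IsScalarTower R R₀ Λ₀]
  (hR₀ : Function.Surjective (algebraMap R R₀))
  {I : Ideal R} (hI : RingHom.ker (algebraMap R R₀) = I) (ρ : Λ →ₐ[R] Λ₀)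
  (hρ : Function.Surjective ρ) (hρk : RingHom.ker ρ = I.map (algebraMap R Λ))

include hR₀ hI hρ hρk

theorem lift_once (h2 : I ^ 2 = ⊥) (h : Smoothing.IndSmooth R₀ Λ₀) {A : Type u} [CommRing A]
    [Algebra R A] [Algebra.FinitePresentation R A] (φ : A →ₐ[R] Λ) :
    ∃ (B : Type u) (_ : CommRing B) (_ : Algebra R B), Algebra.Smooth R B ∧
      ∃ J : Ideal B, J ≤ I.map (algebraMap R B) ∧ J.FG ∧
        ∃ (g : A →ₐ[R] B ⧸ J) (k : (B ⧸ J) →ₐ[R] Λ), k.comp g = φ := by
  classical
  obtain ⟨n, π, hπ, hπfg⟩ := Algebra.FinitePresentation.out (R := R) (A := A)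
  obtain ⟨S, hS⟩ := hπfg
  let red : MvPolynomial (Fin n) R →+* MvPolynomial (Fin n) R₀ := MvPolynomial.map (algebraMap R R₀)
  let K₀ : Ideal (MvPolynomial (Fin n) R₀) := Ideal.span (red '' (S : Set (MvPolynomial (Fin n) R)))
  let A₀ := MvPolynomial (Fin n) R₀ ⧸ K₀
  haveI : Algebra.FinitePresentation R₀ A₀ :=
    Algebra.FinitePresentation.quotient (Submodule.fg_span (S.finite_toSet.image _))
  have hf0 : ∀ s ∈ (S : Set (MvPolynomial (Fin n) R)), π s = 0 := fun s hs =>
    RingHom.mem_ker.1 (hS.le (Ideal.subset_span hs))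
  let ev : MvPolynomial (Fin n) R₀ →ₐ[R₀] Λ₀ := aeval fun i => ρ (φ (π (X i)))
  have hev : ∀ p, ev (red p) = ρ (φ (π p)) := by
    intro p
    show aeval _ (MvPolynomial.map (algebraMap R R₀) p) = _
    rw [aeval_map_algebraMap]
    exact AlgHom.congr_fun (MvPolynomial.algHom_ext fun i => by simp :
      (aeval fun i => ρ (φ (π (X i)))) = ρ.comp (φ.comp π)) p
  let f₀ : A₀ →ₐ[R₀] Λ₀ := Ideal.Quotient.liftₐ K₀ ev fun x hx => by
    refine RingHom.mem_ker.1 ((Ideal.span_le (I := RingHom.ker ev)).2 ?_ hx)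
    rintro _ ⟨s, hs, rfl⟩
    exact RingHom.mem_ker.2 (by rw [hev, hf0 s hs, map_zero, map_zero])
  obtain ⟨B₀, iB₀, aB₀, hB₀, g₀, h₀, hgh⟩ := h A₀ inferInstance f₀
  letI := iB₀; letI := aB₀
  letI : Algebra R B₀ := Algebra.compHom B₀ (algebraMap R R₀)
  haveI : IsScalarTower R R₀ B₀ := IsScalarTower.of_algebraMap_eq fun r => rfl
  haveI := hB₀
  obtain ⟨B, iB, aB, hB, q, hq, hqk⟩ := exists_smooth_lift' (A₀ := B₀) hR₀
  letI := iB; letI := aB; haveI := hB
  rw [hI] at hqk
  have hnil : IsNilpotent (RingHom.ker (ρ : Λ →+* Λ₀)) := SmoothLift.isNilpotent_ker _ fun a b ha hb =>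
    mul_eq_zero_of_sq h2 (hρk.le (RingHom.mem_ker.2 ha)) (hρk.le (RingHom.mem_ker.2 hb))
  let ψ : B →ₐ[R] Λ :=
    Algebra.FormallySmooth.liftOfSurjective ((h₀.restrictScalars R).comp q) ρ hρ hnil
  have hψ : ∀ x, ρ (ψ x) = h₀ (q x) := fun x =>
    Algebra.FormallySmooth.liftOfSurjective_apply ((h₀.restrictScalars R).comp q) ρ hρ hnil x
  choose b hb using fun i => hq (g₀ (Ideal.Quotient.mk K₀ (X i)))
  have hdiff : ∀ i, φ (π (X i)) - ψ (b i) ∈ I.map (algebraMap R Λ) := by
    intro i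
    rw [← hρk, RingHom.mem_ker, map_sub, hψ, hb, sub_eq_zero]
    refine Eq.trans ?_ (AlgHom.congr_fun hgh (Ideal.Quotient.mk K₀ (X i))).symm
    show ρ (φ (π (X i))) = ev (X i)
    simp [ev]
  choose N r l hr hrl using fun i => exists_sum_of_mem_map (hdiff i)
  let Z := Σ i, Fin (N i)
  let B' := MvPolynomial Z B
  let b' : Fin n → B' := fun i => C (b i) + ∑ k, algebraMap R B' (r i k) * X ⟨i, k⟩
  let evB : MvPolynomial (Fin n) R →ₐ[R] B' := aeval b'
  let J : Ideal B' := Ideal.span (evB '' (S : Set (MvPolynomial (Fin n) R)))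
  have hJI : J ≤ I.map (algebraMap R B') := by
    refine Ideal.span_le.2 ?_
    rintro _ ⟨s, hs, rfl⟩
    rw [SetLike.mem_coe, ← Ideal.Quotient.eq_zero_iff_mem]
    let m : B' →ₐ[R] B' ⧸ I.map (algebraMap R B') := Ideal.Quotient.mkₐ R _
    show m.comp evB s = 0
    have hcomp : m.comp evB = (m.comp (IsScalarTower.toAlgHom R B B')).comp (aeval b) := by
      refine MvPolynomial.algHom_ext fun i => ?_
      show m (evB (X i)) = m (algebraMap B B' (aeval b (X i : MvPolynomial (Fin n) R)))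
      simp only [evB, aeval_X, b', map_add, map_sum, MvPolynomial.algebraMap_eq]
      refine add_eq_left.2 ?_
      refine Finset.sum_eq_zero fun k _ => Ideal.Quotient.eq_zero_iff_mem.2 ?_
      exact Ideal.mul_mem_right _ _ (Ideal.mem_map_of_mem _ (hr i k))
    rw [hcomp]
    refine Ideal.Quotient.eq_zero_iff_mem.2 ?_
    have hmem : aeval b s ∈ I.map (algebraMap R B) := by
      rw [← hqk, RingHom.mem_ker]
      have h1 : ∀ x, q (aeval b x) = g₀ (Ideal.Quotient.mk K₀ (red x)) := by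
        intro x
        induction x using MvPolynomial.induction_on with
        | C c =>
          rw [aeval_C, q.commutes, IsScalarTower.algebraMap_apply R R₀ B₀,
            show red (C c) = C (algebraMap R R₀ c) from map_C _ c]
          exact (g₀.commutes _).symm
        | add x y hx hy => simp only [map_add, hx, hy]
        | mul_X x i hx =>
          rw [map_mul, map_mul, aeval_X, hx, hb, show red (x * X i) = red x * X i by simp [red]]
          simp only [map_mul]
      have hm : red s ∈ K₀ := Ideal.subset_span ⟨s, hs, rfl⟩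
      rw [h1, Ideal.Quotient.eq_zero_iff_mem.2 hm, map_zero]
    have := Ideal.mem_map_of_mem (algebraMap B B') hmem
    rw [Ideal.map_map, ← IsScalarTower.algebraMap_eq] at this
    exact this
  let K : B' →ₐ[R] Λ :=
    { MvPolynomial.eval₂Hom ψ.toRingHom (fun z => l z.1 z.2) with
      commutes' := fun t => by
        show MvPolynomial.eval₂Hom ψ.toRingHom _ (algebraMap R B' t) = _
        rw [IsScalarTower.algebraMap_apply R B B', MvPolynomial.algebraMap_eq, eval₂Hom_C]
        exact ψ.commutes t }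
  have hKC : ∀ x, K (C x) = ψ x := fun x => eval₂Hom_C _ _ x
  have hKX : ∀ z, K (X z) = l z.1 z.2 := fun z => eval₂Hom_X' _ _ z
  have hK : K.comp evB = φ.comp π := by
    refine MvPolynomial.algHom_ext fun i => ?_
    show K (evB (X i)) = φ (π (X i))
    simp only [evB, aeval_X, b', map_add, map_sum, map_mul, hKC, hKX, AlgHom.commutes, hrl]
    ring
  have hKJ : ∀ x ∈ J, K x = 0 := by
    intro x hx
    refine RingHom.mem_ker.1 ((Ideal.span_le (I := RingHom.ker K)).2 ?_ hx)
    rintro _ ⟨s, hs, rfl⟩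
    refine RingHom.mem_ker.2 ((AlgHom.congr_fun hK s).trans ?_)
    show φ (π s) = 0
    rw [hf0 s hs, map_zero]
  let ev' : MvPolynomial (Fin n) R →ₐ[R] B' ⧸ J := (Ideal.Quotient.mkₐ R J).comp evB
  have hev' : RingHom.ker π.toRingHom ≤ RingHom.ker ev' := by
    rw [← hS]
    refine Ideal.span_le.2 fun s hs => RingHom.mem_ker.2 ?_
    exact Ideal.Quotient.eq_zero_iff_mem.2 (Ideal.subset_span ⟨s, hs, rfl⟩)
  haveI : Algebra.Smooth B B' := ⟨inferInstance, inferInstance⟩
  refine ⟨B', inferInstance, inferInstance, Algebra.Smooth.comp R B B', J, hJI,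
    Submodule.fg_span (S.finite_toSet.image _), AlgHom.liftOfSurjective π hπ ev' hev',
    Ideal.Quotient.liftₐ J K hKJ, ?_⟩
  refine AlgHom.ext fun a => ?_
  obtain ⟨p, rfl⟩ := hπ a
  have h1 : AlgHom.liftOfSurjective π hπ ev' hev' (π p) = ev' p :=
    AlgHom.liftOfSurjective_apply _ _ _ _ _
  rw [AlgHom.comp_apply, h1]
  exact AlgHom.congr_fun hK p

set_option maxHeartbeats 800000 in
theorem lift_twice [Module.Flat R Λ] (h2 : I ^ 2 = ⊥) (h : Smoothing.IndSmooth R₀ Λ₀) {B : Type u}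
    [CommRing B] [Algebra R B] [Algebra.Smooth R B] (φ : B →ₐ[R] Λ) (J : Ideal B)
    (hJ : J ≤ I.map (algebraMap R B)) (hJfg : J.FG) (hφJ : ∀ x ∈ J, φ x = 0) :
    ∃ (B' : Type u) (_ : CommRing B') (_ : Algebra R B'), Algebra.Smooth R B' ∧
      ∃ (α : B →ₐ[R] B') (β : B' →ₐ[R] Λ), (∀ x ∈ J, α x = 0) ∧
        ∀ b : B, β (α b) - φ b ∈ I.map (algebraMap R Λ) := by
  classical
  obtain ⟨G, hG⟩ := hJfg
  choose N r c hr hrc using fun j : G => exists_sum_of_mem_map (hJ (hG.le (Ideal.subset_span j.2)))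
  have hrel : ∀ j : G, ∑ k, r j k • φ (c j k) = 0 := by
    intro j
    have := hφJ j (hG.le (Ideal.subset_span j.2))
    rw [← hrc j, map_sum] at this
    simpa [Algebra.smul_def] using this
  have htriv : ∀ j : G, ∃ (M : ℕ) (a : Fin (N j) → Fin M → R) (y : Fin M → Λ),
      (∀ k, φ (c j k) = ∑ t, a k t • y t) ∧ ∀ t, ∑ k, r j k * a k t = 0 :=
    fun j => (Module.Flat.iff_forall_isTrivialRelation.1 ‹Module.Flat R Λ› : _) (hrel j)
  choose M a y hay hra using htriv
  let Y := Σ j : G, Fin (M j)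
  -- the equations over `R₀`
  let B₁ := R₀ ⊗[R] B
  haveI : Algebra.Smooth R₀ B₁ := inferInstance
  let P := MvPolynomial Y B₁
  let rel : (Σ j : G, Fin (N j)) → P := fun s =>
    C ((1 : R₀) ⊗ₜ[R] c s.1 s.2) - ∑ t, algebraMap R P (a s.1 s.2 t) * X ⟨s.1, t⟩
  let K₁ := Ideal.span (Set.range rel)
  let A₁ := P ⧸ K₁
  haveI : Algebra.FinitePresentation B₁ A₁ :=
    Algebra.FinitePresentation.quotient (Submodule.fg_span (Set.finite_range _))
  haveI : Algebra.FinitePresentation R₀ A₁ := Algebra.FinitePresentation.trans R₀ B₁ A₁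
  let φ₁ : B₁ →ₐ[R₀] Λ₀ := Algebra.TensorProduct.lift (Algebra.ofId R₀ Λ₀) (ρ.comp φ)
    (fun _ _ => Commute.all _ _)
  let ev : P →ₐ[R₀] Λ₀ :=
    { MvPolynomial.eval₂Hom φ₁.toRingHom (fun z : Y => ρ (y z.1 z.2)) with
      commutes' := fun t => by
        show MvPolynomial.eval₂Hom φ₁.toRingHom _ (algebraMap R₀ P t) = _
        rw [IsScalarTower.algebraMap_apply R₀ B₁ P, MvPolynomial.algebraMap_eq, eval₂Hom_C]
        exact φ₁.commutes t }
  have hevC : ∀ x, ev (C x) = φ₁ x := fun x => eval₂Hom_C _ _ x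
  have hevX : ∀ z, ev (X z) = ρ (y z.1 z.2) := fun z => eval₂Hom_X' _ _ z
  have hev : ∀ t, ev (algebraMap R P t) = algebraMap R Λ₀ t := fun t => by
    rw [IsScalarTower.algebraMap_apply R R₀ P, ev.commutes, ← IsScalarTower.algebraMap_apply]
  let f₁ : A₁ →ₐ[R₀] Λ₀ := Ideal.Quotient.liftₐ K₁ ev fun x hx => by
    refine RingHom.mem_ker.1 ((Ideal.span_le (I := RingHom.ker ev)).2 ?_ hx)
    rintro _ ⟨s, rfl⟩
    refine RingHom.mem_ker.2 ?_
    simp only [rel, map_sub, map_sum, map_mul, hevC, hevX, hev]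
    have := congrArg ρ (hay s.1 s.2)
    simp only [map_sum, map_smul, Algebra.smul_def] at this
    rw [show φ₁ ((1 : R₀) ⊗ₜ[R] c s.1 s.2) = ρ (φ (c s.1 s.2)) from
      (Algebra.TensorProduct.lift_tmul _ _ _ _ _).trans (by simp), sub_eq_zero, this]
    simp
  obtain ⟨B₀, iB₀, aB₀, hB₀, g₀, h₀, hgh⟩ := h A₁ inferInstance f₁
  letI := iB₀; letI := aB₀
  letI : Algebra R B₀ := Algebra.compHom B₀ (algebraMap R R₀)
  haveI : IsScalarTower R R₀ B₀ := IsScalarTower.of_algebraMap_eq fun r => rfl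
  haveI := hB₀
  obtain ⟨B', iB, aB, hB, q, hq, hqk⟩ := exists_smooth_lift' (A₀ := B₀) hR₀
  letI := iB; letI := aB; haveI := hB
  rw [hI] at hqk
  have hnilq : IsNilpotent (RingHom.ker (q : B' →+* B₀)) := SmoothLift.isNilpotent_ker _ fun a b ha hb =>
    mul_eq_zero_of_sq h2 (hqk.le (RingHom.mem_ker.2 ha)) (hqk.le (RingHom.mem_ker.2 hb))
  have hnil : IsNilpotent (RingHom.ker (ρ : Λ →+* Λ₀)) := SmoothLift.isNilpotent_ker _ fun a b ha hb =>
    mul_eq_zero_of_sq h2 (hρk.le (RingHom.mem_ker.2 ha)) (hρk.le (RingHom.mem_ker.2 hb))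
  let toA₁ : B →ₐ[R] A₁ := ((Ideal.Quotient.mkₐ R K₁).comp (IsScalarTower.toAlgHom R B₁ P)).comp
    Algebra.TensorProduct.includeRight
  let α : B →ₐ[R] B' :=
    Algebra.FormallySmooth.liftOfSurjective ((g₀.restrictScalars R).comp toA₁) q hq hnilq
  have hα : ∀ x, q (α x) = g₀ (toA₁ x) := fun x =>
    Algebra.FormallySmooth.liftOfSurjective_apply ((g₀.restrictScalars R).comp toA₁) q hq hnilq x
  let β : B' →ₐ[R] Λ :=
    Algebra.FormallySmooth.liftOfSurjective ((h₀.restrictScalars R).comp q) ρ hρ hnil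
  have hβ : ∀ x, ρ (β x) = h₀ (q x) := fun x =>
    Algebra.FormallySmooth.liftOfSurjective_apply ((h₀.restrictScalars R).comp q) ρ hρ hnil x
  refine ⟨B', iB, aB, hB, α, β, fun x hx => ?_, fun b => ?_⟩
  · choose Yl hYl using fun z : Y => hq (g₀ (Ideal.Quotient.mk K₁ (X z)))
    rw [← hG] at hx
    refine RingHom.mem_ker.1 ((Ideal.span_le (I := RingHom.ker α)).2 (fun x hx => ?_) hx)
    rw [SetLike.mem_coe, RingHom.mem_ker]
    lift x to G using hx
    have hdiff : ∀ k, α (c x k) - ∑ t, algebraMap R B' (a x k t) * Yl ⟨x, t⟩ ∈ I.map (algebraMap R B') := by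
      intro k
      rw [← hqk, RingHom.mem_ker, map_sub, map_sum, hα]
      simp only [map_mul, AlgHom.commutes, hYl]
      rw [sub_eq_zero]
      have h0 : g₀ (Ideal.Quotient.mk K₁ (rel ⟨x, k⟩)) = 0 := by
        rw [Ideal.Quotient.eq_zero_iff_mem.2 (Ideal.subset_span ⟨⟨x, k⟩, rfl⟩ : rel ⟨x, k⟩ ∈ K₁), map_zero]
      simp only [rel, map_sub, map_sum, map_mul, sub_eq_zero] at h0
      refine Eq.trans ?_ (h0.trans ?_)
      · rfl
      · refine Finset.sum_congr rfl fun t _ => ?_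
        congr 1
        exact (g₀.restrictScalars R).commutes _
    rw [← hrc x, map_sum]
    calc ∑ k, α (algebraMap R B (r x k) * c x k)
        = ∑ k, algebraMap R B' (r x k) * ∑ t, algebraMap R B' (a x k t) * Yl ⟨x, t⟩ := by
          refine Finset.sum_congr rfl fun k _ => ?_
          rw [map_mul, AlgHom.commutes, ← sub_eq_zero, ← mul_sub]
          exact mul_eq_zero_of_sq h2 (Ideal.mem_map_of_mem _ (hr x k)) (hdiff k)
      _ = ∑ t, algebraMap R B' (∑ k, r x k * a x k t) * Yl ⟨x, t⟩ := by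
          simp only [Finset.mul_sum, map_sum, map_mul, Finset.sum_mul, mul_assoc]
          exact Finset.sum_comm
      _ = 0 := by simp [hra]
  · rw [← hρk, RingHom.mem_ker, map_sub, hβ, hα, sub_eq_zero]
    refine (AlgHom.congr_fun hgh _).trans ?_
    show ev (C ((1 : R₀) ⊗ₜ[R] b)) = ρ (φ b)
    rw [hevC]
    exact (Algebra.TensorProduct.lift_tmul _ _ _ _ _).trans (by simp)

theorem indSmooth_squareZero [Module.Flat R Λ] (h2 : I ^ 2 = ⊥) (h : Smoothing.IndSmooth R₀ Λ₀) :
    Smoothing.IndSmooth R Λ := by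
  classical
  intro A _ _ hA φ
  obtain ⟨B, iB, aB, hB, J, hJ, hJfg, g, k, hkg⟩ := lift_once hR₀ hI ρ hρ hρk h2 h φ
  letI := iB; letI := aB; haveI := hB
  let φB : B →ₐ[R] Λ := k.comp (Ideal.Quotient.mkₐ R J)
  have hφJ : ∀ x ∈ J, φB x = 0 := fun x hx => by
    show k (Ideal.Quotient.mk J x) = 0
    rw [Ideal.Quotient.eq_zero_iff_mem.2 hx, map_zero]
  obtain ⟨B', iB', aB', hB', α, β, hαJ, hdiff⟩ := lift_twice hR₀ hI ρ hρ hρk h2 h φB J hJ hJfg hφJ
  letI := iB'; letI := aB'; haveI := hB'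
  -- a dual basis of the differentials
  haveI : Module.Finite B Ω[B⁄R] := inferInstance
  obtain ⟨d, p, s, -, -, hps⟩ := Module.Finite.exists_comp_eq_id_of_projective B Ω[B⁄R]
  letI : Algebra B Λ := φB.toRingHom.toAlgebra
  haveI : IsScalarTower R B Λ := IsScalarTower.of_algHom φB
  have hab : ∀ x, algebraMap B Λ x = φB x := fun x => rfl
  have hmem : ∀ x, φB x - β (α x) ∈ I.map (algebraMap R Λ) := fun x => by
    rw [← neg_sub]; exact neg_mem (hdiff x)
  let dd : Derivation R B Λ := Derivation.mk' (φB.toLinearMap - (β.comp α).toLinearMap) fun x y => by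
    have h0 := mul_eq_zero_of_sq h2 (hmem x) (hmem y)
    simp only [LinearMap.sub_apply, AlgHom.toLinearMap_apply, AlgHom.comp_apply, map_mul,
      Algebra.smul_def, hab]
    linear_combination -h0
  have hdd : ∀ x, dd x = φB x - β (α x) := fun x => rfl
  let L := dd.liftKaehlerDifferential
  have hL : ∀ ω, L ω ∈ I.map (algebraMap R Λ) := by
    intro ω
    induction (KaehlerDifferential.span_range_derivation R B ▸ Submodule.mem_top :
      ω ∈ Submodule.span B (Set.range (KaehlerDifferential.D R B))) using Submodule.span_induction with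
    | mem x hx =>
      obtain ⟨x, rfl⟩ := hx
      rw [Derivation.liftKaehlerDifferential_comp_D]
      exact hmem x
    | zero => simp
    | add x y _ _ hx hy => rw [map_add]; exact add_mem hx hy
    | smul c x _ hx => rw [map_smul, Algebra.smul_def]; exact Ideal.mul_mem_left _ _ hx
  choose N r l hr hrl using fun i : Fin d => exists_sum_of_mem_map (hL (p (Pi.single i 1)))
  let Z := Σ i, Fin (N i)
  let B'' := MvPolynomial Z B'
  let w : Fin d → B'' := fun i => ∑ k, algebraMap R B'' (r i k) * X ⟨i, k⟩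
  have hw : ∀ i, w i ∈ I.map (algebraMap R B'') := fun i =>
    sum_mem fun k _ => Ideal.mul_mem_right _ _ (Ideal.mem_map_of_mem _ (hr i k))
  let e : B → B'' := fun x => ∑ i, C (α (s (KaehlerDifferential.D R B x) i)) * w i
  have he : ∀ x, e x ∈ I.map (algebraMap R B'') := fun x =>
    sum_mem fun i _ => Ideal.mul_mem_left _ _ (hw i)
  have hmul : ∀ x y, e (x * y) = C (α x) * e y + C (α y) * e x := fun x y => by
    simp only [e, Derivation.leibniz, map_add, map_smul, Pi.add_apply, Pi.smul_apply, smul_eq_mul,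
      map_mul, add_mul, Finset.sum_add_distrib, Finset.mul_sum, mul_assoc]
  have hadd : ∀ x y, e (x + y) = e x + e y := fun x y => by
    simp only [e, map_add, Pi.add_apply, add_mul, Finset.sum_add_distrib]
  have hzero : ∀ t, e (algebraMap R B t) = 0 := fun t => by
    simp only [e, Derivation.map_algebraMap, map_zero, Pi.zero_apply, zero_mul, Finset.sum_const_zero]
  let α' : B →ₐ[R] B'' :=
    { toFun := fun x => C (α x) + e x
      map_one' := by
        have := hzero 1
        rw [map_one] at this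
        simp [this]
      map_zero' := by
        have := hzero 0
        rw [map_zero] at this
        simp [this]
      map_mul' := fun x y => by
        have h0 := mul_eq_zero_of_sq h2 (he x) (he y)
        rw [hmul, map_mul, map_mul]
        linear_combination -h0
      map_add' := fun x y => by rw [hadd, map_add, map_add]; ring
      commutes' := fun t => by
        rw [hzero, add_zero, AlgHom.commutes, ← MvPolynomial.algebraMap_eq,
          ← IsScalarTower.algebraMap_apply] }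
  have hα'J : ∀ x ∈ J, α' x = 0 := by
    intro x hx
    have hsI : ∀ i, s (KaehlerDifferential.D R B x) i ∈ I.map (algebraMap R B) := by
      intro i
      obtain ⟨M, t, c, ht, rfl⟩ := exists_sum_of_mem_map (hJ hx)
      simp only [map_sum, Finset.sum_apply]
      refine sum_mem fun k _ => ?_
      rw [Derivation.leibniz, Derivation.map_algebraMap, smul_zero, add_zero, map_smul,
        Pi.smul_apply, smul_eq_mul]
      exact Ideal.mul_mem_right _ _ (Ideal.mem_map_of_mem _ (ht k))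
    show C (α x) + e x = 0
    rw [hαJ x hx, map_zero, zero_add]
    refine Finset.sum_eq_zero fun i _ => mul_eq_zero_of_sq h2 ?_ (hw i)
    have h1 := Ideal.mem_map_of_mem ((C : B' →+* B'').comp α.toRingHom) (hsI i)
    rw [Ideal.map_map] at h1
    have h3 : ((C : B' →+* B'').comp α.toRingHom).comp (algebraMap R B) = algebraMap R B'' :=
      RingHom.ext fun t => by rw [RingHom.comp_apply, RingHom.comp_apply, IsScalarTower.algebraMap_apply R B' B'', MvPolynomial.algebraMap_eq]; exact congrArg C (α.commutes t)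
    rw [h3] at h1
    exact h1
  let β' : B'' →ₐ[R] Λ :=
    { MvPolynomial.eval₂Hom β.toRingHom (fun z : Z => l z.1 z.2) with
      commutes' := fun t => by
        show MvPolynomial.eval₂Hom β.toRingHom _ (algebraMap R B'' t) = _
        rw [IsScalarTower.algebraMap_apply R B' B'', MvPolynomial.algebraMap_eq, eval₂Hom_C]
        exact β.commutes t }
  have hβC : ∀ x, β' (C x) = β x := fun x => eval₂Hom_C _ _ x
  have hβX : ∀ z, β' (X z) = l z.1 z.2 := fun z => eval₂Hom_X' _ _ z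
  have hfinal : ∀ x, β' (α' x) = φB x := by
    intro x
    show β' (C (α x) + e x) = φB x
    have hω : KaehlerDifferential.D R B x =
        ∑ i, s (KaehlerDifferential.D R B x) i • p (Pi.single i 1) := by
      conv_lhs => rw [show KaehlerDifferential.D R B x = p (s (KaehlerDifferential.D R B x)) from
        (LinearMap.congr_fun hps _).symm, pi_eq_sum_univ' (s _), map_sum]
      simp only [map_smul]
    have h3 : φB x - β (α x) =
        ∑ i, β (α (s (KaehlerDifferential.D R B x) i)) * L (p (Pi.single i 1)) := by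
      rw [← hdd, ← Derivation.liftKaehlerDifferential_comp_D dd x]
      conv_lhs => rw [hω, map_sum]
      refine Finset.sum_congr rfl fun i _ => ?_
      rw [map_smul, Algebra.smul_def, hab, ← sub_eq_zero, ← sub_mul]
      exact mul_eq_zero_of_sq h2 (hmem _) (hL _)
    simp only [e, w, map_add, map_sum, map_mul, hβC, hβX, AlgHom.commutes, hrl]
    rw [← h3]
    ring
  haveI : Algebra.Smooth B' B'' := ⟨inferInstance, inferInstance⟩
  refine ⟨B'', inferInstance, inferInstance, Algebra.Smooth.comp R B' B'',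
    (Ideal.Quotient.liftₐ J α' hα'J).comp g, β', ?_⟩
  rw [← hkg, ← AlgHom.comp_assoc]
  refine congrArg (AlgHom.comp · g) (Ideal.Quotient.algHom_ext R (AlgHom.ext fun x => ?_))
  exact hfinal x

omit hR₀ hI hρ hρk in
theorem indSmooth_nilpotent (n : ℕ) : ∀ {R R₀ Λ Λ₀ : Type u} [CommRing R] [CommRing R₀] [CommRing Λ]
    [CommRing Λ₀] [Algebra R R₀] [Algebra R Λ] [Algebra R₀ Λ₀] [Algebra R Λ₀] [IsScalarTower R R₀ Λ₀]
    (_hR₀ : Function.Surjective (algebraMap R R₀)) {I : Ideal R}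
    (_hI : RingHom.ker (algebraMap R R₀) = I) (ρ : Λ →ₐ[R] Λ₀) (_hρ : Function.Surjective ρ)
    (_hρk : RingHom.ker ρ = I.map (algebraMap R Λ)) [Module.Flat R Λ],
    I ^ n = ⊥ → Smoothing.IndSmooth R₀ Λ₀ → Smoothing.IndSmooth R Λ := by
  induction n using Nat.strong_induction_on with
  | _ n ih =>
    intro R R₀ Λ Λ₀ _ _ _ _ _ _ _ _ _ hR₀ I hI ρ hρ hρk _ hn h
    rcases Nat.lt_or_ge 2 n with h3 | h3
    · let Iq := I.map (algebraMap R Λ)
      let ρ₁ : Λ →ₐ[R] Λ ⧸ (I ^ 2).map (algebraMap R Λ) := Ideal.Quotient.mkₐ R _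
      letI : Algebra (R ⧸ I ^ 2) R₀ := (Ideal.Quotient.lift (I ^ 2) (algebraMap R R₀) fun x hx =>
        RingHom.mem_ker.1 (hI.ge (Ideal.pow_le_self two_ne_zero hx))).toAlgebra
      letI : Algebra (R ⧸ I ^ 2) Λ₀ := ((algebraMap R₀ Λ₀).comp (algebraMap (R ⧸ I ^ 2) R₀)).toAlgebra
      haveI : IsScalarTower (R ⧸ I ^ 2) R₀ Λ₀ := IsScalarTower.of_algebraMap_eq fun _ => rfl
      let q : (Λ ⧸ (I ^ 2).map (algebraMap R Λ)) →+* Λ₀ :=
        Ideal.Quotient.lift _ ρ.toRingHom fun x hx =>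
          RingHom.mem_ker.1 (hρk.ge (Ideal.map_mono (Ideal.pow_le_self two_ne_zero) hx))
      let ρ₀ : (Λ ⧸ (I ^ 2).map (algebraMap R Λ)) →ₐ[R ⧸ I ^ 2] Λ₀ :=
        { q with
          commutes' := fun r => by
            obtain ⟨r, rfl⟩ := Ideal.Quotient.mk_surjective r
            show ρ (algebraMap R Λ r) = algebraMap R₀ Λ₀ (algebraMap R R₀ r)
            rw [ρ.commutes, IsScalarTower.algebraMap_apply R R₀ Λ₀] }
      haveI : Module.Flat (R ⧸ I ^ 2) (Λ ⧸ (I ^ 2).map (algebraMap R Λ)) :=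
        Module.Flat.of_linearEquiv (Algebra.TensorProduct.quotIdealMapEquivQuotTensor Λ (I ^ 2)).toLinearEquiv
      have hI₁ : RingHom.ker (algebraMap (R ⧸ I ^ 2) R₀) = I.map (Ideal.Quotient.mk (I ^ 2)) := by
        refine (Ideal.ker_quotient_lift _ _).trans ?_
        rw [hI]
      have hρ₁ : RingHom.ker ρ₀ =
          (I.map (Ideal.Quotient.mk (I ^ 2))).map (algebraMap (R ⧸ I ^ 2) (Λ ⧸ (I ^ 2).map (algebraMap R Λ))) := by
        refine (Ideal.ker_quotient_lift _ _).trans ?_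
        show Ideal.map _ (RingHom.ker ρ) = _
        rw [hρk, Ideal.map_map, Ideal.map_map]
        congr 1
      have h1 : Smoothing.IndSmooth (R ⧸ I ^ 2) (Λ ⧸ (I ^ 2).map (algebraMap R Λ)) := by
        refine ih 2 h3 ?_ hI₁ ρ₀ ?_ hρ₁ ?_ h
        · intro a; obtain ⟨r, hr⟩ := hR₀ a; exact ⟨Ideal.Quotient.mk _ r, hr⟩
        · intro a; obtain ⟨r, hr⟩ := hρ a; exact ⟨Ideal.Quotient.mk _ r, hr⟩
        · rw [← Ideal.map_pow, Ideal.map_quotient_self]
      refine ih (n - 1) (by omega) Ideal.Quotient.mk_surjective Ideal.mk_ker ρ₁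
        Ideal.Quotient.mk_surjective (Ideal.Quotient.mkₐ_ker R _) ?_ h1
      rw [← pow_mul, ← le_bot_iff, ← hn]
      exact Ideal.pow_le_pow_right (by omega)
    · refine indSmooth_squareZero hR₀ hI ρ hρ hρk ?_ h
      rw [← le_bot_iff, ← hn]
      exact Ideal.pow_le_pow_right h3

end Groth.Agent.CAlgH.IndSmoothSquareZero
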