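import Groth.Prelude.Def_Smoothing
import Mathlib

/-! Standard elements are stable under base change. -/

universe u

open MvPolynomial
open scoped TensorProduct

namespace Groth.Agent.CAlgH.StandardBaseChange

variable {R A : Type u} [CommRing R] [CommRing A] [Algebra R A]
  (R' : Type u) [CommRing R'] [Algebra R R'] (P : Smoothing.MarkedPresentation R A)

theorem pderiv_map' {σ : Type*} (i : σ) (p : MvPolynomial σ R) :
    pderiv i (MvPolynomial.map (algebraMap R R') p) = MvPolynomial.map (algebraMap R R') (pderiv i p) :=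
  pderiv_map

theorem exists_baseChange :
    ∃ Q : Smoothing.MarkedPresentation R' (R' ⊗[R] A),
      (∀ (a : A), Smoothing.KillsTail P a → Smoothing.KillsTail Q ((1 : R') ⊗ₜ[R] a)) ∧
      (∀ (a : A), a ∈ Ideal.span (Set.range fun cols : Fin P.c → Fin P.n =>
          P.hom (Smoothing.jacobianMinor P.rel (Fin.castLE P.hcm) cols)) →
        ((1 : R') ⊗ₜ[R] a : R' ⊗[R] A) ∈ Ideal.span (Set.range fun cols : Fin Q.c → Fin Q.n =>
          Q.hom (Smoothing.jacobianMinor Q.rel (Fin.castLE Q.hcm) cols))) ∧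
      ((1 : R') ⊗ₜ[R] P.hom (Smoothing.jacobianMinor P.rel (Fin.castLE P.hcm) (Fin.castLE P.hcn)) =
        Q.hom (Smoothing.jacobianMinor Q.rel (Fin.castLE Q.hcm) (Fin.castLE Q.hcn))) := by
  classical
  let M : MvPolynomial (Fin P.n) R →+* MvPolynomial (Fin P.n) R' := MvPolynomial.map (algebraMap R R')
  let g : R' ⊗[R] MvPolynomial (Fin P.n) R →ₐ[R'] R' ⊗[R] A :=
    Algebra.TensorProduct.map (AlgHom.id R' R') P.hom
  let e := MvPolynomial.algebraTensorAlgEquiv (σ := Fin P.n) R R'
  let h : MvPolynomial (Fin P.n) R' →ₐ[R'] R' ⊗[R] A := g.comp e.symm.toAlgHom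
  have hM : ∀ p, h (M p) = (1 : R') ⊗ₜ[R] P.hom p := by
    intro p
    show g (e.symm (MvPolynomial.map (algebraMap R R') p)) = _
    rw [MvPolynomial.algebraTensorAlgEquiv_symm_map]
    exact Algebra.TensorProduct.map_tmul _ _ _ _
  have hgs : Function.Surjective g := by
    intro z
    induction z using TensorProduct.induction_on with
    | zero => exact ⟨0, map_zero _⟩
    | tmul r a =>
      obtain ⟨p, hp⟩ := P.surj a
      exact ⟨r ⊗ₜ p, by simp [g, hp]⟩
    | add x y hx hy =>
      obtain ⟨x, rfl⟩ := hx; obtain ⟨y, rfl⟩ := hy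
      exact ⟨x + y, map_add _ _ _⟩
  have hker : RingHom.ker h.toRingHom = Ideal.span (Set.range fun j => M (P.rel j)) := by
    have hg : RingHom.ker g.toRingHom =
        (RingHom.ker P.hom.toRingHom).map Algebra.TensorProduct.includeRight.toRingHom :=
      Algebra.TensorProduct.lTensor_ker P.hom P.surj
    have h1 : RingHom.ker h.toRingHom = (RingHom.ker g.toRingHom).map e.toRingEquiv.toRingHom := by
      ext z
      rw [Ideal.mem_map_iff_of_surjective e.toRingEquiv.toRingHom e.toRingEquiv.surjective]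
      constructor
      · intro hz; exact ⟨e.symm z, hz, e.apply_symm_apply z⟩
      · rintro ⟨w, hw, rfl⟩
        show g (e.symm (e w)) = 0
        rw [e.symm_apply_apply]; exact hw
    rw [h1, hg, P.ker_eq, Ideal.map_map, Ideal.map_span, ← Set.range_comp]
    congr 2
    funext j
    show e ((1 : R') ⊗ₜ[R] P.rel j) = M (P.rel j)
    rw [MvPolynomial.algebraTensorAlgEquiv_tmul, one_smul]
  let Q : Smoothing.MarkedPresentation R' (R' ⊗[R] A) :=
    { n := P.n, m := P.m, c := P.c, hcn := P.hcn, hcm := P.hcm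
      rel := fun j => M (P.rel j), hom := h
      surj := hgs.comp e.symm.surjective
      ker_eq := hker }
  have hminor : ∀ (cols : Fin P.c → Fin P.n),
      h (Smoothing.jacobianMinor (fun j => M (P.rel j)) (Fin.castLE P.hcm) cols) =
        (1 : R') ⊗ₜ[R] P.hom (Smoothing.jacobianMinor P.rel (Fin.castLE P.hcm) cols) := by
    intro cols
    rw [← hM]
    congr 1
    simp only [Smoothing.jacobianMinor, RingHom.map_det]
    congr 1
    ext j k
    simp only [Matrix.of_apply, RingHom.mapMatrix_apply, Matrix.map_apply, M, pderiv_map']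
  refine ⟨Q, fun a hkill => ?_, fun a ha => ?_, (hminor _).symm⟩
  · intro a' ha' j hj
    obtain ⟨a₀, ha₀⟩ := P.surj a
    have h1 := Ideal.mem_map_of_mem M (hkill a₀ ha₀ j hj)
    rw [map_mul, Ideal.map_sup, Ideal.map_pow, Ideal.map_span, Ideal.map_span,
      ← Set.image_comp, ← Set.range_comp] at h1
    have h2 : a' - M a₀ ∈ Ideal.span (Set.range Q.rel) := by
      rw [← Q.ker_eq, RingHom.mem_ker]
      show h (a' - M a₀) = 0
      rw [map_sub, hM, ha₀, show h a' = _ from ha', sub_self]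
    have h3 : (a' - M a₀) * Q.rel j ∈ Ideal.span (Set.range Q.rel) ^ 2 := by
      rw [pow_two]; exact Ideal.mul_mem_mul h2 (Ideal.subset_span ⟨j, rfl⟩)
    rw [show a' * Q.rel j = (a' - M a₀) * Q.rel j + M a₀ * M (P.rel j) by
      show a' * M (P.rel j) = (a' - M a₀) * M (P.rel j) + _; ring]
    exact add_mem (Ideal.mem_sup_right h3) h1
  · have := Ideal.mem_map_of_mem
      (Algebra.TensorProduct.includeRight : A →ₐ[R] R' ⊗[R] A).toRingHom ha
    rw [Ideal.map_span, ← Set.range_comp] at this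
    refine Ideal.span_mono ?_ this
    rintro _ ⟨cols, rfl⟩
    exact ⟨cols, hminor cols⟩

theorem isStandard_baseChange (a : A) :
    (Smoothing.IsElementaryStandard R A a →
        Smoothing.IsElementaryStandard R' (R' ⊗[R] A) ((1 : R') ⊗ₜ[R] a)) ∧
      (Smoothing.IsStrictlyStandard R A a →
        Smoothing.IsStrictlyStandard R' (R' ⊗[R] A) ((1 : R') ⊗ₜ[R] a)) := by
  constructor
  · rintro ⟨P, ⟨a', ha'⟩, hk⟩
    obtain ⟨Q, hQk, -, hQd⟩ := exists_baseChange R' P
    refine ⟨Q, ⟨(1 : R') ⊗ₜ[R] a', ?_⟩, hQk a hk⟩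
    rw [← hQd, Algebra.TensorProduct.tmul_mul_tmul, one_mul, ← ha']
  · rintro ⟨P, hs, hk⟩
    obtain ⟨Q, hQk, hQs, -⟩ := exists_baseChange R' P
    exact ⟨Q, hQs a hs, hQk a hk⟩

end Groth.Agent.CAlgH.StandardBaseChange
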