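import Groth.Agent.CAlgH.LiftingApply
import Groth.Agent.CAlgH.StandardBaseChange
import Mathlib

/-! Resolving a problem resolved modulo eighth powers. -/

universe u

open scoped TensorProduct

namespace Groth.Agent.CAlgH.ResolveModPow

/-- Smoothness at a prime descends along a surjection of bases. -/
theorem isSmoothAt_of_surjective_base {R₁ R₂ C : Type u} [CommRing R₁] [CommRing R₂] [Algebra R₁ R₂] [CommRing C]
    [Algebra R₁ C] [Algebra R₂ C] [IsScalarTower R₁ R₂ C] (h : Function.Surjective (algebraMap R₁ R₂))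
    (Q : Ideal C) [Q.IsPrime] [hQ : Algebra.IsSmoothAt R₁ Q] : Algebra.IsSmoothAt R₂ Q := by
  haveI : Algebra.FormallyUnramified R₁ R₂ := Algebra.FormallyUnramified.of_surjective (Algebra.ofId R₁ R₂) h
  haveI : Algebra.FormallySmooth R₁ (Localization.AtPrime Q) := hQ
  exact Algebra.FormallySmooth.of_restrictScalars R₁ R₂ (Localization.AtPrime Q)

theorem singularIdeal_le_of_bijective_base {R₁ R₂ C : Type u} [CommRing R₁] [CommRing R₂] [Algebra R₁ R₂] [CommRing C]
    [Algebra R₁ C] [Algebra R₂ C] [IsScalarTower R₁ R₂ C] (h : Function.Bijective (algebraMap R₁ R₂)) :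
    Smoothing.singularIdeal R₂ C ≤ Smoothing.singularIdeal R₁ C := by
  intro x hx
  refine (PrimeSpectrum.mem_vanishingIdeal _ _).2 fun Q hQ => ?_
  refine (PrimeSpectrum.mem_vanishingIdeal _ _).1 hx Q fun hs => hQ ?_
  haveI := Q.2
  haveI : Algebra.FormallySmooth R₂ (Localization.AtPrime Q.asIdeal) := hs
  haveI : Algebra.FormallySmooth R₁ R₂ :=
    Algebra.FormallySmooth.of_equiv (AlgEquiv.ofBijective (Algebra.ofId R₁ R₂) h)
  show Algebra.FormallySmooth R₁ (Localization.AtPrime Q.asIdeal)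
  exact Algebra.FormallySmooth.comp R₁ R₂ (Localization.AtPrime Q.asIdeal)

/-- Smoothness at a prime passes to the quotient by an ideal of the base. -/
theorem isSmoothAt_quotient {R A Rb Ab : Type u} [CommRing R] [CommRing A] [Algebra R A] [CommRing Rb] [Algebra R Rb]
    [CommRing Ab] [Algebra R Ab] [Algebra Rb Ab] [IsScalarTower R Rb Ab] (hb : Function.Surjective (algebraMap R Rb))
    (p : A →ₐ[R] Ab) (hp : Function.Surjective p)
    (hker : RingHom.ker p.toRingHom ≤ (RingHom.ker (algebraMap R Rb)).map (algebraMap R A))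
    (Q : Ideal Ab) [Q.IsPrime] [hQ : Algebra.IsSmoothAt R (Q.comap p.toRingHom)] : Algebra.IsSmoothAt Rb Q := by
  let Ap := Localization.AtPrime (Q.comap p.toRingHom)
  let X := Localization.AtPrime Q
  show Algebra.FormallySmooth Rb X
  rw [Algebra.FormallySmooth.iff_comp_surjective]
  intro T _ _ J hJ h
  letI : Algebra R T := ((algebraMap Rb T).comp (algebraMap R Rb)).toAlgebra
  haveI : IsScalarTower R Rb T := IsScalarTower.of_algebraMap_eq' rfl
  let ψ : A →ₐ[R] X := (IsScalarTower.toAlgHom R Ab X).comp p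
  have hψ : ∀ z : (Q.comap p.toRingHom).primeCompl, IsUnit (ψ z) := fun z =>
    IsLocalization.map_units X (⟨p z, z.2⟩ : Q.primeCompl)
  let ν : Ap →ₐ[R] X := IsLocalization.liftAlgHom (M := (Q.comap p.toRingHom).primeCompl) (f := ψ) hψ
  haveI : Algebra.FormallySmooth R Ap := hQ
  obtain ⟨k, hk⟩ := Algebra.FormallySmooth.comp_surjective R Ap J hJ ((h.restrictScalars R).comp ν)
  let kA : A →ₐ[R] T := k.comp (IsScalarTower.toAlgHom R A Ap)
  have hkill : RingHom.ker p.toRingHom ≤ RingHom.ker kA.toRingHom := by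
    refine hker.trans (Ideal.map_le_iff_le_comap.2 fun r hr => ?_)
    show kA (algebraMap R A r) = 0
    rw [AlgHom.commutes, IsScalarTower.algebraMap_apply R Rb T, RingHom.mem_ker.1 hr, map_zero]
  let kb : Ab →ₐ[R] T := AlgHom.liftOfSurjective p hp kA hkill
  have hkb : ∀ a, kb (p a) = kA a := fun a => AlgHom.liftOfSurjective_apply p hp kA hkill a
  have hunit : ∀ z : Q.primeCompl, IsUnit (kb z) := by
    rintro ⟨z, hz⟩
    obtain ⟨a, rfl⟩ := hp z
    rw [show kb (p a) = k (algebraMap A Ap a) from hkb a]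
    exact (IsLocalization.map_units Ap (⟨a, hz⟩ : (Q.comap p.toRingHom).primeCompl)).map k
  let kX : X →ₐ[R] T := IsLocalization.liftAlgHom (M := Q.primeCompl) (f := kb) hunit
  let kX' : X →ₐ[Rb] T :=
    { toRingHom := kX.toRingHom
      commutes' := fun r => by
        obtain ⟨r, rfl⟩ := hb r
        show kX (algebraMap Rb X (algebraMap R Rb r)) = algebraMap Rb T (algebraMap R Rb r)
        rw [← IsScalarTower.algebraMap_apply, AlgHom.commutes, ← IsScalarTower.algebraMap_apply] }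
  refine ⟨kX', AlgHom.coe_ringHom_injective (IsLocalization.ringHom_ext Q.primeCompl (RingHom.ext fun z => ?_))⟩
  obtain ⟨a, rfl⟩ := hp z
  show Ideal.Quotient.mk J (kX (algebraMap Ab X (p a))) = h (algebraMap Ab X (p a))
  rw [show kX (algebraMap Ab X (p a)) = kb (p a) from IsLocalization.lift_eq _ _, hkb]
  refine (DFunLike.congr_fun hk (algebraMap A Ap a)).trans ?_
  exact congrArg h (IsLocalization.lift_eq _ _)

/-- A problem resolved modulo an ideal of the base. -/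
def ResMod {R A Λ : Type u} [CommRing R] [CommRing A] [Algebra R A] [CommRing Λ] [Algebra R Λ]
    (φ : A →ₐ[R] Λ) (𝔮 : Ideal Λ) (K : Ideal R) : Prop :=
  ∃ (C : Type u) (_ : CommRing C) (_ : Algebra R C) (_ : Algebra (R ⧸ K) C) (_ : IsScalarTower R (R ⧸ K) C),
    Algebra.FinitePresentation (R ⧸ K) C ∧
    ∃ (γ : A →ₐ[R] C) (g : C →ₐ[R] Λ ⧸ K.map (algebraMap R Λ)),
      (∀ a, g (γ a) = Ideal.Quotient.mk _ (φ a)) ∧
      (∀ a ∈ Smoothing.singularIdeal R A,
        Ideal.Quotient.mk _ (φ a) ∈ ((Smoothing.singularIdeal (R ⧸ K) C).map g).radical) ∧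
      ∃ x ∈ Smoothing.singularIdeal (R ⧸ K) C, g x ∉ 𝔮.map (Ideal.Quotient.mk (K.map (algebraMap R Λ)))

theorem finitePresentation_of_base {R₁ R₂ C : Type u} [CommRing R₁] [IsNoetherianRing R₁] [CommRing R₂] [Algebra R₁ R₂]
    [CommRing C] [Algebra R₁ C] [Algebra R₂ C] [IsScalarTower R₁ R₂ C] [Algebra.FinitePresentation R₂ C]
    (h : Function.Bijective (algebraMap R₁ R₂)) : Algebra.FinitePresentation R₁ C := by
  haveI : Algebra.FiniteType R₁ R₂ := Algebra.FiniteType.of_surjective (Algebra.ofId R₁ R₂) h.2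
  haveI : Algebra.FiniteType R₁ C := Algebra.FiniteType.trans (S := R₂) inferInstance inferInstance
  exact Algebra.FinitePresentation.of_finiteType.1 inferInstance

/-- Passing singular radicals down along a quotient. -/
theorem transfer {L L' : Type u} [CommRing L] [CommRing L'] (S' : Ideal L') {p : L} (u : L' →+* L ⧸ Ideal.span {p})
    (p' : L) (S : Ideal L) (hp : p' ∈ S.radical) (hpp : p = p') (hS : S'.map u ≤ S.radical.map (Ideal.Quotient.mk _)) :
    (∀ (l : L) (l' : L'), u l' = Ideal.Quotient.mk _ l → l' ∈ S'.radical → l ∈ S.radical) ∧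
      ∀ (P : Ideal L) [P.IsPrime], S ≤ P → ∀ (l : L) (l' : L'), u l' = Ideal.Quotient.mk _ l → p' ∈ P → l' ∈ S' → l ∈ P := by
  subst hpp
  refine ⟨fun l l' h hl' => ?_, fun P _ hSP l l' h hpP hl' => ?_⟩
  · obtain ⟨N, hN⟩ := hl'
    have h1 : Ideal.Quotient.mk _ (l ^ N) ∈ S.radical.map (Ideal.Quotient.mk (Ideal.span {p})) := by
      rw [map_pow, ← h, ← map_pow]
      exact hS (Ideal.mem_map_of_mem u hN)
    obtain ⟨z, hz, hzl⟩ := (Ideal.mem_map_iff_of_surjective _ Ideal.Quotient.mk_surjective).1 h1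
    obtain ⟨e, he⟩ := Ideal.mem_span_singleton'.1 (Ideal.Quotient.eq.1 hzl.symm)
    refine Ideal.radical_isRadical S ⟨N, ?_⟩
    rw [show l ^ N = z + e * p by rw [he]; ring]
    exact add_mem hz (Ideal.mul_mem_left _ _ hp)
  · have h1 : Ideal.Quotient.mk _ l ∈ S.radical.map (Ideal.Quotient.mk (Ideal.span {p})) := by
      rw [← h]; exact hS (Ideal.mem_map_of_mem u hl')
    obtain ⟨z, hz, hzl⟩ := (Ideal.mem_map_iff_of_surjective _ Ideal.Quotient.mk_surjective).1 h1
    obtain ⟨e, he⟩ := Ideal.mem_span_singleton'.1 (Ideal.Quotient.eq.1 hzl.symm)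
    rw [show l = z + e * p by rw [he]; ring]
    exact add_mem ((Ideal.IsPrime.radical_le_iff inferInstance).2 hSP hz) (Ideal.mul_mem_left _ _ hpP)

/-- One step, over abstract rings. -/
theorem step_core {R Rb A Λ Λb C : Type u} [CommRing R] [CommRing Rb] [IsNoetherianRing Rb] [Algebra R Rb]
    [CommRing A] [Algebra R A] [Algebra.FinitePresentation R A] [CommRing Λ] [Algebra R Λ]
    [CommRing Λb] [Algebra R Λb] [Algebra Rb Λb] [IsScalarTower R Rb Λb]
    (φ : A →ₐ[R] Λ) (pb : Λ →ₐ[R] Λb) (π : R)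
    (hR : ∀ x : Rb, algebraMap R Rb π ^ 2 * x = 0 → algebraMap R Rb π * x = 0)
    (hΛ : ∀ x : Λb, algebraMap R Λb π ^ 2 * x = 0 → algebraMap R Λb π * x = 0)
    (hstd : Smoothing.IsStrictlyStandard R A (algebraMap R A π))
    [CommRing C] [Algebra R C] [Algebra Rb C] [IsScalarTower R Rb C]
    [Algebra (Rb ⧸ Ideal.span {algebraMap R Rb π ^ 8}) C] [IsScalarTower Rb (Rb ⧸ Ideal.span {algebraMap R Rb π ^ 8}) C]
    [Algebra.FinitePresentation (Rb ⧸ Ideal.span {algebraMap R Rb π ^ 8}) C] (γ : A →ₐ[R] C)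
    (gb : C →ₐ[Rb] Λb ⧸ Ideal.span {algebraMap Rb Λb (algebraMap R Rb π ^ 8)})
    (hfac : ∀ a, gb (γ a) = Ideal.Quotient.mk _ (pb (φ a))) :
    ∃ (B : Type u) (_ : CommRing B) (_ : Algebra R B) (_ : Algebra Rb B) (_ : IsScalarTower R Rb B),
      Algebra.FinitePresentation Rb B ∧ ∃ (α : A →ₐ[R] B) (β : B →ₐ[R] Λb), (∀ a, β (α a) = pb (φ a)) ∧
        algebraMap R Λb π ∈ ((Smoothing.singularIdeal Rb B).map β).radical ∧
        (Smoothing.singularIdeal (Rb ⧸ Ideal.span {algebraMap R Rb π ^ 8}) C).map gb ≤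
          ((Smoothing.singularIdeal Rb B).map β).radical.map (Ideal.Quotient.mk _) := by
  let π' := algebraMap R Rb π
  have hpiΛ : algebraMap Rb Λb π' = algebraMap R Λb π := (IsScalarTower.algebraMap_apply R Rb Λb π).symm
  have hstdb : Smoothing.IsStrictlyStandard Rb (Rb ⊗[R] A) (algebraMap Rb (Rb ⊗[R] A) π') := by
    have h := (StandardBaseChange.isStandard_baseChange Rb (algebraMap R A π)).2 hstd
    rwa [Algebra.TensorProduct.algebraMap_apply, Algebra.algebraMap_self, RingHom.id_apply,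
      show π' ⊗ₜ[R] (1 : A) = (1 : Rb) ⊗ₜ[R] algebraMap R A π by
        rw [show π' = π • (1 : Rb) from Algebra.algebraMap_eq_smul_one π, Algebra.algebraMap_eq_smul_one π,
          TensorProduct.smul_tmul]]
  let φb : Rb ⊗[R] A →ₐ[Rb] Λb :=
    Algebra.TensorProduct.lift (Algebra.ofId Rb Λb) (pb.comp φ) fun _ _ => Commute.all _ _
  let γb : Rb ⊗[R] A →ₐ[Rb] C := Algebra.TensorProduct.lift (Algebra.ofId Rb C) γ fun _ _ => Commute.all _ _
  obtain ⟨B, _, _, hBfp, α, β, hβα, haway, hB⟩ := LiftingApply.exists_resolution_aux (R := Rb) (Λ := Λb) π' (π' ^ 8) (by ring)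
    hR (fun y hy => by
      rw [Algebra.smul_def, map_pow, hpiΛ] at hy
      rw [Algebra.smul_def, hpiΛ]
      exact hΛ y hy)
    φb hstdb γb gb (fun z => by
      have : gb.comp γb = (Ideal.Quotient.mkₐ Rb _).comp φb := by
        refine Algebra.TensorProduct.ext' fun r a => ?_
        show gb (algebraMap Rb C r * γ a) = Ideal.Quotient.mk _ (algebraMap Rb Λb r * pb (φ a))
        rw [map_mul, AlgHom.commutes, hfac, map_mul]
        rfl
      exact DFunLike.congr_fun this z)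
  letI : Algebra R B := ((algebraMap Rb B).comp (algebraMap R Rb)).toAlgebra
  haveI : IsScalarTower R Rb B := IsScalarTower.of_algebraMap_eq' rfl
  refine ⟨B, inferInstance, inferInstance, inferInstance, inferInstance, hBfp,
    (α.restrictScalars R).comp Algebra.TensorProduct.includeRight, β.restrictScalars R, fun a => ?_, ?_, hB⟩
  · show β (α (1 ⊗ₜ a)) = _
    rw [← AlgHom.comp_apply, hβα]
    simp [φb]
  · refine Ideal.le_radical ?_
    rw [← hpiΛ, ← β.commutes]
    refine Ideal.mem_map_of_mem _ ((PrimeSpectrum.mem_vanishingIdeal _ _).2 fun Q hQ => ?_)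
    haveI := Q.2
    by_contra h'
    exact hQ (haway Q.asIdeal h')

theorem exists_base_equiv' {R Rb R₂ : Type u} [CommRing R] [CommRing Rb] [Algebra R Rb] [CommRing R₂] [Algebra R R₂]
    [Algebra Rb R₂] [IsScalarTower R Rb R₂] (π : R) (hb : Function.Surjective (algebraMap R Rb))
    (h2 : Function.Surjective (algebraMap R R₂))
    (hk : RingHom.ker (algebraMap R R₂) = RingHom.ker (algebraMap R Rb) ⊔ Ideal.span {π ^ 8}) :
    ∃ w : Rb ⧸ Ideal.span {algebraMap R Rb π ^ 8} →+* R₂, Function.Bijective w ∧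
      ∀ z, w (Ideal.Quotient.mk _ z) = algebraMap Rb R₂ z := by
  refine ⟨Ideal.Quotient.lift _ (algebraMap Rb R₂) fun y hy => ?_, ⟨?_, fun y => ?_⟩, fun z => rfl⟩
  · obtain ⟨z, rfl⟩ := Ideal.mem_span_singleton'.1 hy
    rw [map_mul]
    refine mul_eq_zero_of_right _ ?_
    rw [← map_pow, ← IsScalarTower.algebraMap_apply]
    exact RingHom.mem_ker.1 (hk.ge (Ideal.mem_sup_right (Ideal.mem_span_singleton_self _)))
  · rw [injective_iff_map_eq_zero]
    intro y hy
    obtain ⟨y, rfl⟩ := Ideal.Quotient.mk_surjective y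
    obtain ⟨r, rfl⟩ := hb y
    rw [Ideal.Quotient.lift_mk, ← IsScalarTower.algebraMap_apply] at hy
    obtain ⟨k, hk', p, hp, hkp⟩ := Submodule.mem_sup.1 (hk.le (RingHom.mem_ker.2 hy))
    obtain ⟨e, rfl⟩ := Ideal.mem_span_singleton'.1 hp
    refine Ideal.Quotient.eq_zero_iff_mem.2 (Ideal.mem_span_singleton'.2 ⟨algebraMap R Rb e, ?_⟩)
    rw [← hkp, map_add, RingHom.mem_ker.1 hk', zero_add, map_mul, map_pow]
  · obtain ⟨r, rfl⟩ := h2 y
    exact ⟨Ideal.Quotient.mk _ (algebraMap R Rb r), (IsScalarTower.algebraMap_apply R Rb R₂ r).symm⟩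

theorem step_abstract {R Rb R₂ A Λ Λb Λ₂ C : Type u} [CommRing R] [CommRing Rb] [IsNoetherianRing Rb] [Algebra R Rb]
    [CommRing R₂] [Algebra R R₂] [Algebra Rb R₂] [IsScalarTower R Rb R₂]
    [CommRing A] [Algebra R A] [Algebra.FinitePresentation R A] [CommRing Λ] [Algebra R Λ]
    [CommRing Λb] [Algebra R Λb] [Algebra Rb Λb] [IsScalarTower R Rb Λb]
    [CommRing Λ₂] [Algebra R Λ₂] [CommRing C] [Algebra R C] [Algebra R₂ C] [IsScalarTower R R₂ C]
    [Algebra.FinitePresentation R₂ C]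
    (φ : A →ₐ[R] Λ) (𝔮 : Ideal Λ) [𝔮.IsPrime] (π : R) (hπ𝔮 : algebraMap R Λ π ∈ 𝔮)
    (hb : Function.Surjective (algebraMap R Rb)) (h2 : Function.Surjective (algebraMap R R₂))
    (hk : RingHom.ker (algebraMap R R₂) = RingHom.ker (algebraMap R Rb) ⊔ Ideal.span {π ^ 8})
    (pb : Λ →ₐ[R] Λb) (hpb : Function.Surjective pb) (hpbq : RingHom.ker pb.toRingHom ≤ 𝔮)
    (p₂ : Λ →ₐ[R] Λ₂) (hp₂ : Function.Surjective p₂)
    (hk₂ : RingHom.ker p₂.toRingHom ≤ RingHom.ker pb.toRingHom ⊔ Ideal.span {algebraMap R Λ π ^ 8})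
    (hR : ∀ x : Rb, algebraMap R Rb π ^ 2 * x = 0 → algebraMap R Rb π * x = 0)
    (hΛ : ∀ x : Λb, algebraMap R Λb π ^ 2 * x = 0 → algebraMap R Λb π * x = 0)
    (hstd : Smoothing.IsStrictlyStandard R A (algebraMap R A π))
    (γ : A →ₐ[R] C) (g : C →ₐ[R] Λ₂) (hfac : ∀ a, g (γ a) = p₂ (φ a))
    (hsingA : ∀ a ∈ Smoothing.singularIdeal R A, p₂ (φ a) ∈ ((Smoothing.singularIdeal R₂ C).map g).radical)
    (x : C) (hx : x ∈ Smoothing.singularIdeal R₂ C) (hxq : g x ∉ 𝔮.map p₂) :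
    ∃ (B : Type u) (_ : CommRing B) (_ : Algebra R B) (_ : Algebra Rb B) (_ : IsScalarTower R Rb B),
      Algebra.FinitePresentation Rb B ∧ ∃ (α : A →ₐ[R] B) (β : B →ₐ[R] Λb), (∀ a, β (α a) = pb (φ a)) ∧
        (∀ a ∈ Smoothing.singularIdeal R A, pb (φ a) ∈ ((Smoothing.singularIdeal Rb B).map β).radical) ∧
        ∃ y ∈ Smoothing.singularIdeal Rb B, β y ∉ 𝔮.map pb := by
  letI : Algebra Rb C := ((algebraMap R₂ C).comp (algebraMap Rb R₂)).toAlgebra
  haveI : IsScalarTower R Rb C := IsScalarTower.of_algebraMap_eq fun r => by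
    show algebraMap R C r = algebraMap R₂ C (algebraMap Rb R₂ (algebraMap R Rb r))
    rw [← IsScalarTower.algebraMap_apply R Rb R₂, ← IsScalarTower.algebraMap_apply R R₂ C]
  obtain ⟨w, hwb, hw⟩ := exists_base_equiv' π hb h2 hk
  letI : Algebra (Rb ⧸ Ideal.span {algebraMap R Rb π ^ 8}) R₂ := w.toAlgebra
  letI : Algebra (Rb ⧸ Ideal.span {algebraMap R Rb π ^ 8}) C := ((algebraMap R₂ C).comp w).toAlgebra
  haveI : IsScalarTower (Rb ⧸ Ideal.span {algebraMap R Rb π ^ 8}) R₂ C := IsScalarTower.of_algebraMap_eq' rfl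
  haveI : IsScalarTower Rb (Rb ⧸ Ideal.span {algebraMap R Rb π ^ 8}) C :=
    IsScalarTower.of_algebraMap_eq fun z => congrArg (algebraMap R₂ C) (hw z).symm
  haveI : Algebra.FinitePresentation (Rb ⧸ Ideal.span {algebraMap R Rb π ^ 8}) C := finitePresentation_of_base hwb
  have hpiΛ : algebraMap Rb Λb (algebraMap R Rb π ^ 8) = pb (algebraMap R Λ π ^ 8) := by
    rw [map_pow, map_pow, ← IsScalarTower.algebraMap_apply, AlgHom.commutes]
  let m8 : Λb →ₐ[R] Λb ⧸ Ideal.span {algebraMap Rb Λb (algebraMap R Rb π ^ 8)} := Ideal.Quotient.mkₐ R _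
  have hu0 : RingHom.ker p₂.toRingHom ≤ RingHom.ker (m8.comp pb).toRingHom := by
    refine hk₂.trans (sup_le (fun y hy => ?_) ?_)
    · show m8 (pb y) = 0
      rw [show pb y = 0 from hy, map_zero]
    · rw [Ideal.span_singleton_le_iff_mem]
      refine Ideal.Quotient.eq_zero_iff_mem.2 ?_
      rw [hpiΛ]
      exact Ideal.mem_span_singleton_self _
  let u := AlgHom.liftOfSurjective p₂ hp₂ (m8.comp pb) hu0
  have hu : ∀ l, u (p₂ l) = m8 (pb l) := fun l => AlgHom.liftOfSurjective_apply p₂ hp₂ (m8.comp pb) hu0 l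
  let gb : C →ₐ[Rb] Λb ⧸ Ideal.span {algebraMap Rb Λb (algebraMap R Rb π ^ 8)} :=
    { toRingHom := u.toRingHom.comp g.toRingHom
      commutes' := fun r => by
        obtain ⟨r, rfl⟩ := hb r
        show u (g (algebraMap Rb C (algebraMap R Rb r))) = _
        rw [← IsScalarTower.algebraMap_apply, AlgHom.commutes, AlgHom.commutes, ← IsScalarTower.algebraMap_apply] }
  obtain ⟨B, _, _, _, _, hBfp, α, β, hβα, hπJ, hB⟩ := step_core φ pb π hR hΛ hstd γ gb (fun a => by
      show u (g (γ a)) = _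
      rw [hfac, hu]
      rfl)
  refine ⟨B, inferInstance, inferInstance, inferInstance, inferInstance, hBfp, α, β, hβα, ?_⟩
  obtain ⟨hrad, hnot⟩ := transfer ((Smoothing.singularIdeal R₂ C).map g) u.toRingHom (algebraMap R Λb π ^ 8)
    ((Smoothing.singularIdeal Rb B).map β) (Ideal.pow_mem_of_mem _ hπJ 8 (by norm_num))
    (by rw [hpiΛ, map_pow, AlgHom.commutes]) (by
      refine le_trans ?_ hB
      rw [Ideal.map_le_iff_le_comap, Ideal.map_le_iff_le_comap]
      exact fun y hy => Ideal.mem_map_of_mem gb (singularIdeal_le_of_bijective_base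
        (R₁ := Rb ⧸ Ideal.span {algebraMap R Rb π ^ 8}) (R₂ := R₂) hwb hy))
  refine ⟨fun a ha => hrad _ _ (hu (φ a)) (hsingA a ha), ?_⟩
  by_contra hcon
  push Not at hcon
  refine hxq ?_
  obtain ⟨lam, hlam⟩ := hp₂ (g x)
  haveI : (𝔮.map pb).IsPrime := Ideal.map_isPrime_of_surjective hpb hpbq
  have h1 := hnot (𝔮.map pb) (Ideal.map_le_iff_le_comap.2 fun y hy => hcon y hy) (pb lam) _ (hu lam)
    (Ideal.pow_mem_of_mem _ (pb.commutes π ▸ Ideal.mem_map_of_mem pb hπ𝔮) 8 (by norm_num))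
    (hlam ▸ Ideal.mem_map_of_mem g hx)
  obtain ⟨z, hz, hzl⟩ := (Ideal.mem_map_iff_of_surjective pb hpb).1 h1
  have hd : lam - z ∈ RingHom.ker pb.toRingHom := show pb (lam - z) = 0 by rw [map_sub, hzl, sub_self]
  have hlamq : lam ∈ 𝔮 := by simpa using add_mem hz (hpbq hd)
  rw [← hlam]
  exact Ideal.mem_map_of_mem _ hlamq

theorem step {R A Λ : Type u} [CommRing R] [IsNoetherianRing R]
    [CommRing A] [Algebra R A] [Algebra.FinitePresentation R A] [CommRing Λ] [Algebra R Λ]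
    (φ : A →ₐ[R] Λ) (𝔮 : Ideal Λ) [𝔮.IsPrime] (π : R) (hπ𝔮 : algebraMap R Λ π ∈ 𝔮)
    (K K' : Ideal R) (hK' : K' = K ⊔ Ideal.span {π ^ 8}) (hK𝔮 : K.map (algebraMap R Λ) ≤ 𝔮)
    (hR : ∀ x : R ⧸ K, Ideal.Quotient.mk K π ^ 2 * x = 0 → Ideal.Quotient.mk K π * x = 0)
    (hΛ : ∀ x : Λ ⧸ K.map (algebraMap R Λ), Ideal.Quotient.mk _ (algebraMap R Λ π) ^ 2 * x = 0 →
      Ideal.Quotient.mk _ (algebraMap R Λ π) * x = 0)
    (hstd : Smoothing.IsStrictlyStandard R A (algebraMap R A π)) (h : ResMod φ 𝔮 K') : ResMod φ 𝔮 K := by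
  obtain ⟨C, _, _, _, _, hfp, γ, g, hfac, hsingA, x, hx, hxq⟩ := h
  have hle : K ≤ K' := hK' ▸ le_sup_left
  letI : Algebra (R ⧸ K) (R ⧸ K') := (Ideal.Quotient.factor hle).toAlgebra
  haveI : IsScalarTower R (R ⧸ K) (R ⧸ K') := IsScalarTower.of_algebraMap_eq fun r => rfl
  obtain ⟨B, _, _, _, _, hB, α, β, h1, h2, y, hy, hyq⟩ :=
    step_abstract (Rb := R ⧸ K) (R₂ := R ⧸ K') φ 𝔮 π hπ𝔮 Ideal.Quotient.mk_surjective Ideal.Quotient.mk_surjective
      (by rw [show RingHom.ker (algebraMap R (R ⧸ K')) = K' from Ideal.mk_ker,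
        show RingHom.ker (algebraMap R (R ⧸ K)) = K from Ideal.mk_ker, hK'])
      (Ideal.Quotient.mkₐ R (K.map (algebraMap R Λ))) Ideal.Quotient.mk_surjective
      (by rw [show RingHom.ker (Ideal.Quotient.mkₐ R (K.map (algebraMap R Λ))).toRingHom = _ from Ideal.mk_ker]; exact hK𝔮)
      (Ideal.Quotient.mkₐ R (K'.map (algebraMap R Λ))) Ideal.Quotient.mk_surjective
      (by
        rw [show RingHom.ker (Ideal.Quotient.mkₐ R (K'.map (algebraMap R Λ))).toRingHom = _ from Ideal.mk_ker,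
          show RingHom.ker (Ideal.Quotient.mkₐ R (K.map (algebraMap R Λ))).toRingHom = _ from Ideal.mk_ker,
          hK', Ideal.map_sup, Ideal.map_span, Set.image_singleton, map_pow])
      hR hΛ hstd γ g hfac hsingA x hx hxq
  exact ⟨B, inferInstance, inferInstance, inferInstance, inferInstance, hB, α, β, h1, h2, y, hy, hyq⟩

theorem of_resolvable {R A Λ : Type u} [CommRing R] [CommRing A] [Algebra R A] [CommRing Λ] [Algebra R Λ]
    (φ : A →ₐ[R] Λ) (𝔮 : Ideal Λ) [𝔮.IsPrime] (K : Ideal R) (hK : K.map (algebraMap R Λ) ≤ 𝔮)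
    (φK : (A ⧸ K.map (algebraMap R A)) →ₐ[R ⧸ K] (Λ ⧸ K.map (algebraMap R Λ)))
    (hφK : ∀ a : A, φK (Ideal.Quotient.mk _ a) = Ideal.Quotient.mk _ (φ a))
    (hres : Smoothing.Resolvable (R ⧸ K) φK (𝔮.map (Ideal.Quotient.mk (K.map (algebraMap R Λ))))) :
    ResMod φ 𝔮 K := by
  obtain ⟨B, _, _, hfp, g, h, hcomp, hle, hnot⟩ := hres
  letI : Algebra R B := ((algebraMap (R ⧸ K) B).comp (Ideal.Quotient.mk K)).toAlgebra
  haveI : IsScalarTower R (R ⧸ K) B := IsScalarTower.of_algebraMap_eq' rfl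
  refine ⟨B, inferInstance, inferInstance, inferInstance, inferInstance, hfp,
    (g.restrictScalars R).comp (Ideal.Quotient.mkₐ R _), h.restrictScalars R, fun a => ?_, fun a ha => ?_, ?_⟩
  · show h (g (Ideal.Quotient.mk _ a)) = _
    rw [← AlgHom.comp_apply, hcomp, hφK]
  · rw [← hφK]
    refine hle (Ideal.le_radical (Ideal.mem_map_of_mem φK ?_))
    refine (PrimeSpectrum.mem_vanishingIdeal _ _).2 fun Q hQ => ?_
    haveI := Q.2
    by_contra haQ
    refine hQ ?_
    haveI : Algebra.IsSmoothAt R (Q.asIdeal.comap (Ideal.Quotient.mkₐ R (K.map (algebraMap R A))).toRingHom) := by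
      by_contra hns
      exact haQ ((PrimeSpectrum.mem_vanishingIdeal _ _).1 ha
        ⟨Q.asIdeal.comap (Ideal.Quotient.mkₐ R (K.map (algebraMap R A))).toRingHom, inferInstance⟩ hns)
    exact isSmoothAt_quotient (R := R) Ideal.Quotient.mk_surjective (Ideal.Quotient.mkₐ R (K.map (algebraMap R A)))
      Ideal.Quotient.mk_surjective (by
        rw [show RingHom.ker (Ideal.Quotient.mkₐ R (K.map (algebraMap R A))).toRingHom = _ from Ideal.mk_ker,
          show RingHom.ker (algebraMap R (R ⧸ K)) = K from Ideal.mk_ker]) Q.asIdeal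
  · by_contra hcon
    push Not at hcon
    haveI : (𝔮.map (Ideal.Quotient.mk (K.map (algebraMap R Λ)))).IsPrime :=
      Ideal.map_isPrime_of_surjective Ideal.Quotient.mk_surjective (by rwa [Ideal.mk_ker])
    exact hnot ((Ideal.IsPrime.radical_le_iff inferInstance).2 (Ideal.map_le_iff_le_comap.2 fun y hy => hcon y hy))

theorem resolvable_of_resMod_bot {R A Λ : Type u} [CommRing R] [CommRing A] [Algebra R A] [CommRing Λ] [Algebra R Λ]
    (φ : A →ₐ[R] Λ) (𝔮 : Ideal Λ) [𝔮.IsPrime] (K : Ideal R) (hK : K = ⊥) (h : ResMod φ 𝔮 K) :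
    Smoothing.Resolvable R φ 𝔮 := by
  subst hK
  obtain ⟨C, _, _, _, _, hfp, γ, g, hfac, hsing, y, hy, hyq⟩ := h
  haveI : Algebra.FinitePresentation R (R ⧸ (⊥ : Ideal R)) := Algebra.FinitePresentation.quotient Submodule.fg_bot
  haveI : Algebra.FinitePresentation R C := Algebra.FinitePresentation.trans R (R ⧸ (⊥ : Ideal R)) C
  let p : Λ →ₐ[R] Λ ⧸ (⊥ : Ideal R).map (algebraMap R Λ) := Ideal.Quotient.mkₐ R _
  have hp : Function.Bijective p :=
    ⟨(injective_iff_map_eq_zero p).2 fun z hz => by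
      have h : z ∈ (⊥ : Ideal R).map (algebraMap R Λ) := Ideal.Quotient.eq_zero_iff_mem.1 hz
      rwa [Ideal.map_bot, Ideal.mem_bot] at h, Ideal.Quotient.mk_surjective⟩
  let e := AlgEquiv.ofBijective p hp
  let g' : C →ₐ[R] Λ := e.symm.toAlgHom.comp g
  have hg' : ∀ c, p (g' c) = g c := fun c => e.apply_symm_apply _
  have hb : Function.Bijective (algebraMap R (R ⧸ (⊥ : Ideal R))) :=
    ⟨(injective_iff_map_eq_zero _).2 fun z hz => by simpa using Ideal.Quotient.eq_zero_iff_mem.1 hz, Ideal.Quotient.mk_surjective⟩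
  have hS : Smoothing.singularIdeal (R ⧸ (⊥ : Ideal R)) C ≤ Smoothing.singularIdeal R C :=
    singularIdeal_le_of_bijective_base hb
  refine ⟨C, inferInstance, inferInstance, inferInstance, γ, g', ?_, ?_, fun hle => hyq ?_⟩
  · refine AlgHom.ext fun a => hp.1 ?_
    show p (g' (γ a)) = p (φ a)
    rw [hg', hfac]
    rfl
  · refine (Ideal.radical_le_radical_iff.2 (Ideal.map_le_iff_le_comap.2 fun a ha => ?_))
    obtain ⟨N, hN⟩ := hsing a ha
    refine ⟨N, ?_⟩
    have h1 : ((Smoothing.singularIdeal (R ⧸ (⊥ : Ideal R)) C).map g) ≤ ((Smoothing.singularIdeal R C).map g').map p := by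
      rw [Ideal.map_le_iff_le_comap]
      intro c hc
      rw [Ideal.mem_comap, ← hg']
      exact Ideal.mem_map_of_mem p (Ideal.mem_map_of_mem g' (hS hc))
    obtain ⟨z, hz, hzl⟩ := (Ideal.mem_map_iff_of_surjective p hp.2).1 (h1 hN)
    rw [show φ a ^ N = z from hp.1 (by rw [hzl, map_pow]; rfl)]
    exact hz
  · rw [← hg' y]
    exact Ideal.mem_map_of_mem p (hle (Ideal.le_radical (Ideal.mem_map_of_mem g' (hS hy))))

theorem resolvable_of_resolvable_mod_pow {R A Λ : Type u} [CommRing R] [IsNoetherianRing R]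
    [CommRing A] [Algebra R A] [Algebra.FinitePresentation R A] [CommRing Λ] [Algebra R Λ]
    (φ : A →ₐ[R] Λ) (𝔮 : Ideal Λ) [𝔮.IsPrime] {r : ℕ} (π : Fin r → R)
    (hπ𝔮 : ∀ i, algebraMap R Λ (π i) ∈ 𝔮)
    (hR : ∀ i : Fin r, ∀ x : R ⧸ Ideal.span (Set.range fun j : {j : Fin r // (j : ℕ) < (i : ℕ)} => π j ^ 8),
      Ideal.Quotient.mk _ (π i) ^ 2 * x = 0 → Ideal.Quotient.mk _ (π i) * x = 0)
    (hΛ : ∀ i : Fin r, ∀ x : Λ ⧸ Ideal.span (Set.range fun j : {j : Fin r // (j : ℕ) < (i : ℕ)} =>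
        algebraMap R Λ (π j) ^ 8),
      Ideal.Quotient.mk _ (algebraMap R Λ (π i)) ^ 2 * x = 0 → Ideal.Quotient.mk _ (algebraMap R Λ (π i)) * x = 0)
    (hstd : ∀ i, Smoothing.IsStrictlyStandard R A (algebraMap R A (π i)))
    (K : Ideal R) (hK : K = Ideal.span (Set.range fun i => π i ^ 8))
    (φK : (A ⧸ K.map (algebraMap R A)) →ₐ[R ⧸ K] (Λ ⧸ K.map (algebraMap R Λ)))
    (hφK : ∀ a : A, φK (Ideal.Quotient.mk _ a) = Ideal.Quotient.mk _ (φ a))
    (hres : Smoothing.Resolvable (R ⧸ K) φK (𝔮.map (Ideal.Quotient.mk (K.map (algebraMap R Λ))))) :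
    Smoothing.Resolvable R φ 𝔮 := by
  let Kf : ℕ → Ideal R := fun i => Ideal.span (Set.range fun j : {j : Fin r // (j : ℕ) < i} => π j ^ 8)
  have hKq : ∀ i, (Kf i).map (algebraMap R Λ) ≤ 𝔮 := fun i => by
    rw [Ideal.map_span, Ideal.span_le]
    rintro _ ⟨_, ⟨j, rfl⟩, rfl⟩
    rw [SetLike.mem_coe, map_pow]
    exact Ideal.pow_mem_of_mem _ (hπ𝔮 _) 8 (by norm_num)
  have hKr : Kf r = K := by
    rw [hK]
    refine le_antisymm (Ideal.span_mono ?_) (Ideal.span_mono ?_)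
    · rintro _ ⟨j, rfl⟩; exact ⟨j.1, rfl⟩
    · rintro _ ⟨j, rfl⟩; exact ⟨⟨j, j.2⟩, rfl⟩
  subst hKr
  have hdown : ∀ k, k ≤ r → ResMod φ 𝔮 (Kf (r - k)) := by
    intro k
    induction k with
    | zero => exact fun _ => of_resolvable φ 𝔮 (Kf r) (hKq r) φK hφK hres
    | succ k ih =>
      intro hk
      let i : Fin r := ⟨r - (k + 1), by omega⟩
      have hsucc : Kf (r - k) = Kf (r - (k + 1)) ⊔ Ideal.span {π i ^ 8} := by
        refine le_antisymm (Ideal.span_le.2 ?_) (sup_le (Ideal.span_mono ?_) ?_)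
        · rintro _ ⟨⟨j, hj⟩, rfl⟩
          rcases lt_or_ge (j : ℕ) (r - (k + 1)) with h | h
          · exact Ideal.mem_sup_left (Ideal.subset_span ⟨⟨j, h⟩, rfl⟩)
          · have : j = i := Fin.ext (by show (j : ℕ) = r - (k + 1); omega)
            subst this
            exact Ideal.mem_sup_right (Ideal.mem_span_singleton_self _)
        · rintro _ ⟨⟨j, hj⟩, rfl⟩
          exact ⟨⟨j, by omega⟩, rfl⟩
        · rw [Ideal.span_singleton_le_iff_mem]
          exact Ideal.subset_span ⟨⟨i, by show r - (k + 1) < r - k; omega⟩, rfl⟩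
      have hmap : (Kf (r - (k + 1))).map (algebraMap R Λ) = Ideal.span (Set.range fun j : {j : Fin r // (j : ℕ) < (i : ℕ)} =>
          algebraMap R Λ (π j) ^ 8) := by
        rw [Ideal.map_span, ← Set.range_comp]
        congr 2
        funext j
        exact map_pow _ _ _
      exact step φ 𝔮 (π i) (hπ𝔮 i) (Kf (r - (k + 1))) (Kf (r - k)) hsucc (hKq _) (hR i) (by
        rw [hmap]
        exact hΛ i) (hstd i) (ih (by omega))
  refine resolvable_of_resMod_bot φ 𝔮 (Kf 0) ?_ (by simpa using hdown r le_rfl)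
  refine eq_bot_iff.2 (Ideal.span_le.2 ?_)
  rintro _ ⟨⟨j, hj⟩, rfl⟩
  exact absurd hj (Nat.not_lt_zero _)

end Groth.Agent.CAlgH.ResolveModPow
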