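import Groth.Agent.CAlgH.RegularSmooth
import Mathlib

/-! A bound, depending only on the base, for the torsion exponent of an element of a smooth
algebra over a Noetherian ring. -/

universe u

open scoped TensorProduct

namespace Groth.Agent.CAlgH.ResolveTorsion

theorem exists_bound (R : Type u) [CommRing R] [IsNoetherianRing R] (N : Type u) [AddCommGroup N] [Module R N]
    [Module.Finite R N] :
    ∃ M : ℕ, ∀ (D : Type u) [CommRing D] [Algebra R D] [Module.Flat R D],
      (∀ p : Ideal R, p.IsPrime → IsReduced (D ⧸ p.map (algebraMap R D))) →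
        ∀ (a : D) (y : D ⊗[R] N), a ^ (M + 1) • y = 0 → a ^ M • y = 0 := by
  induction ‹Module.Finite R N› using IsNoetherianRing.induction_on_isQuotientEquivQuotientPrime R with
  | subsingleton N => exact ⟨0, fun D _ _ _ _ a y _ => Subsingleton.elim _ _⟩
  | quotient N p e =>
    refine ⟨1, fun D _ _ _ hred a y hy => ?_⟩
    haveI := hred p.asIdeal p.2
    let E : D ⊗[R] N ≃ₗ[D] D ⊗[R] (R ⧸ p.asIdeal) := LinearEquiv.baseChange R D _ _ e
    let q : D ⊗[R] (R ⧸ p.asIdeal) ≃ₐ[D] D ⧸ p.asIdeal.map (algebraMap R D) :=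
      (Algebra.TensorProduct.quotIdealMapEquivTensorQuot D p.asIdeal).symm
    have h1 : q (E (a ^ (1 + 1) • y)) = 0 := by rw [hy, map_zero, map_zero]
    rw [map_smul, map_smul, Algebra.smul_def] at h1
    suffices h2 : q (E (a ^ 1 • y)) = 0 by
      exact E.map_eq_zero_iff.1 ((map_eq_zero_iff q q.injective).1 h2)
    rw [map_smul, map_smul, Algebra.smul_def]
    refine IsReduced.eq_zero _ ⟨2, ?_⟩
    rw [pow_one, mul_pow, ← map_pow, sq (q (E y)), ← mul_assoc, show (2 : ℕ) = 1 + 1 from rfl, h1, zero_mul]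
  | exact N₁ N₂ N₃ f g hf hg hfg h₁ h₃ =>
    obtain ⟨M₁, h₁⟩ := h₁
    obtain ⟨M₃, h₃⟩ := h₃
    refine ⟨M₁ + M₃, fun D _ _ _ hred a y hy => ?_⟩
    let fD := f.baseChange D
    let gD := g.baseChange D
    have hzero : ∀ (j : ℕ) (z : D ⊗[R] N₃), a ^ (M₃ + j) • z = 0 → a ^ M₃ • z = 0 := by
      intro j
      induction j with
      | zero => exact fun z hz => hz
      | succ j ih =>
        intro z hz
        refine ih z ?_
        have h := h₃ D hred a (a ^ j • z) (by rw [← mul_smul, ← pow_add]; convert hz using 3; omega)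
        rwa [← mul_smul, ← pow_add] at h
    have h3 : a ^ M₃ • gD y = 0 := by
      refine hzero (M₁ + 1) _ ?_
      rw [← map_smul]
      convert map_zero gD
      rw [← hy]
      congr 2
      omega
    obtain ⟨z, hz⟩ := (Module.Flat.lTensor_exact D hfg (a ^ M₃ • y)).1 (by rw [← map_smul] at h3; exact h3)
    have hinj : Function.Injective fD := Module.Flat.lTensor_preserves_injective_linearMap (M := D) f hf
    have hz' : fD z = a ^ M₃ • y := hz
    have h1 : fD (a ^ (M₁ + 1) • z) = 0 := by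
      rw [map_smul, hz', ← mul_smul, ← pow_add]
      convert hy using 3
      omega
    have h2 := h₁ D hred a z ((map_eq_zero_iff fD hinj).1 h1)
    rw [pow_add, mul_smul, ← hz', ← map_smul, h2, map_zero]

/-- Smooth algebras have uniformly bounded torsion exponents near smooth points. -/
theorem exists_local_torsion (R : Type u) [CommRing R] [IsNoetherianRing R] :
    ∃ M : ℕ, ∀ (D : Type u) [CommRing D] [Algebra R D] [Algebra.FinitePresentation R D] (Q : Ideal D) [Q.IsPrime],
      Algebra.IsSmoothAt R Q → ∀ (a : D) (N : ℕ), M ≤ N →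
        ∃ t : D, t ∉ Q ∧ ∀ x : D, (a ^ N) ^ 2 * x = 0 → a ^ N * (t * x) = 0 := by
  classical
  obtain ⟨M, hM⟩ := exists_bound R R
  refine ⟨M, fun D _ _ _ Q _ hsm a N hN => ?_⟩
  haveI := hsm
  haveI : IsNoetherianRing D := Algebra.FiniteType.isNoetherianRing R D
  obtain ⟨h, hh, hsm'⟩ := Algebra.IsSmoothAt.exists_notMem_smooth R Q
  let Dh := Localization.Away h
  haveI : Algebra.Smooth R Dh := hsm'
  haveI : Module.Flat R Dh := Algebra.Smooth.flat R Dh
  have hred : ∀ p : Ideal R, p.IsPrime → IsReduced (Dh ⧸ p.map (algebraMap R Dh)) := by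
    intro p hp
    haveI := hp
    haveI : IsReduced ((R ⧸ p) ⊗[R] Dh) := isReduced_of_smooth (R ⧸ p) _
    exact isReduced_of_injective ((Algebra.TensorProduct.quotIdealMapEquivTensorQuot Dh p).restrictScalars R |>.trans
      (Algebra.TensorProduct.comm R Dh (R ⧸ p))) (AlgEquiv.injective _)
  have key : ∀ x : D, (a ^ N) ^ 2 * x = 0 → ∃ k : ℕ, h ^ k * (a ^ N * x) = 0 := by
    intro x hx
    have h1 : ∀ (j : ℕ) (z : Dh), algebraMap D Dh a ^ (M + j) * z = 0 → algebraMap D Dh a ^ M * z = 0 := by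
      intro j
      induction j with
      | zero => exact fun z hz => hz
      | succ j ih =>
        intro z hz
        refine ih z ?_
        have e1 : algebraMap D Dh a ^ (M + 1) • ((algebraMap D Dh a ^ j * z) ⊗ₜ[R] (1 : R)) = 0 := by
          rw [TensorProduct.smul_tmul', smul_eq_mul, ← mul_assoc, ← pow_add,
            show M + 1 + j = M + (j + 1) by omega, hz, TensorProduct.zero_tmul]
        have e2 := congrArg (TensorProduct.rid R Dh) (hM Dh hred (algebraMap D Dh a) _ e1)
        rw [TensorProduct.smul_tmul', TensorProduct.rid_tmul, one_smul, smul_eq_mul, ← mul_assoc, ← pow_add,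
          map_zero] at e2
        exact e2
    obtain ⟨d, rfl⟩ := Nat.exists_eq_add_of_le hN
    have h2 := h1 (M + (d + d)) (algebraMap D Dh x) (by
      rw [← map_pow, ← map_mul, show M + (M + (d + d)) = (M + d) * 2 by ring, pow_mul, hx, map_zero])
    have h3 : algebraMap D Dh (a ^ (M + d) * x) = 0 := by
      rw [map_mul, map_pow, pow_add, mul_right_comm, h2, zero_mul]
    obtain ⟨⟨_, k, rfl⟩, hk⟩ := (IsLocalization.map_eq_zero_iff (Submonoid.powers h) Dh _).1 h3
    exact ⟨k, hk⟩
  let T : Ideal D := LinearMap.ker (LinearMap.lsmul D D ((a ^ N) ^ 2))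
  obtain ⟨g, hg⟩ := (IsNoetherian.noetherian T : T.FG)
  choose! k hk using fun x (hx : x ∈ g) => key x (show x ∈ T from hg.le (Submodule.subset_span hx))
  refine ⟨h ^ g.sup k, fun hm => hh (‹Q.IsPrime›.mem_of_pow_mem _ hm), fun x hx => ?_⟩
  have hx' : x ∈ Submodule.span D (g : Set D) := hg.ge (show x ∈ T from hx)
  refine Submodule.span_induction (p := fun x _ => a ^ N * (h ^ g.sup k * x) = 0) (fun y hy => ?_) (by simp)
    (fun y z _ _ hy hz => by rw [mul_add, mul_add, hy, hz, add_zero])
    (fun r y _ hy => by rw [smul_eq_mul, mul_left_comm (h ^ g.sup k), mul_left_comm, hy, mul_zero]) hx'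
  obtain ⟨d, hd⟩ := Nat.exists_eq_add_of_le (Finset.le_sup (f := k) hy)
  rw [hd, pow_add, show a ^ N * (h ^ k y * h ^ d * y) = h ^ d * (h ^ k y * (a ^ N * y)) by ring, hk y hy, mul_zero]

end Groth.Agent.CAlgH.ResolveTorsion
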