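import Groth.Agent.CAlgH.ResolveModel
import Groth.Agent.CAlgH.ResolveTorsion
import Groth.Agent.CAlgH.StandardBaseChange
import Groth.Agent.CAlgH.SingularIdeal
import Mathlib

/-! Any map of finitely presented algebras over a Noetherian ring factors through an algebra which is
smooth above the smooth locus of both. -/

universe u

open scoped TensorProduct

namespace Groth.Agent.CAlgH.ResolveStep

theorem isStrictlyStandard_mul {S B : Type u} [CommRing S] [CommRing B] [Algebra S B] {a : B}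
    (ha : Smoothing.IsStrictlyStandard S B a) (b : B) : Smoothing.IsStrictlyStandard S B (a * b) := by
  obtain ⟨P, hmin, hkill⟩ := ha
  refine ⟨P, Ideal.mul_mem_right _ _ hmin, fun l hl j hj => ?_⟩
  obtain ⟨la, hla⟩ := P.surj a
  obtain ⟨lb, hlb⟩ := P.surj b
  rw [show l * P.rel j = lb * (la * P.rel j) + (l - la * lb) * P.rel j by ring]
  refine add_mem (Ideal.mul_mem_left _ _ (hkill la hla j hj)) (Ideal.mem_sup_right ?_)
  rw [sq]
  refine Ideal.mul_mem_mul (P.ker_eq.le ?_) (Ideal.subset_span ⟨j, rfl⟩)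
  show P.hom (l - la * lb) = 0
  rw [map_sub, map_mul, hla, hlb, hl, sub_self]

theorem finitePresentation_of_isStrictlyStandard {S B : Type u} [CommRing S] [CommRing B] [Algebra S B] {a : B}
    (ha : Smoothing.IsStrictlyStandard S B a) : Algebra.FinitePresentation S B := by
  obtain ⟨P, -⟩ := ha
  refine Algebra.FinitePresentation.of_surjective (f := P.hom) P.surj ?_
  rw [P.ker_eq]
  exact Submodule.fg_span (Set.finite_range _)

/-- Adjoining a solution of `z a = τ`, with the extension of maps sending `a` to `τ`. -/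
theorem exists_adjoin {S AS U : Type u} [CommRing S] [CommRing AS] [Algebra S AS] [CommRing U] [Algebra S U] (a : AS)
    (ha : Smoothing.IsStrictlyStandard S AS a) (τ : S) (f : AS →ₐ[S] U) (hf : f a = algebraMap S U τ) :
    ∃ (X : Type u) (_ : CommRing X) (_ : Algebra S X) (ι : AS →ₐ[S] X) (F : X →ₐ[S] U),
      Smoothing.IsStrictlyStandard S X (algebraMap S X τ ^ 2) ∧ F.comp ι = f ∧ ∀ z, ∃ w, F z = f w := by
  let E : Polynomial AS := Polynomial.C a * Polynomial.X - Polynomial.C (algebraMap S AS τ)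
  let e₁ : Polynomial AS →ₐ[S] AS := (Polynomial.aeval (1 : AS)).restrictScalars S
  have he₁ : e₁ E = a - algebraMap S AS τ := by
    show Polynomial.aeval (1 : AS) E = _
    simp [E]
  refine ⟨Polynomial AS ⧸ Ideal.span {E}, inferInstance, inferInstance,
    (Ideal.Quotient.mkₐ S _).comp Polynomial.CAlgHom,
    Ideal.Quotient.liftₐ _ (f.comp e₁) (fun y hy => ?_), ResolveTools.isStrictlyStandard_adjoin a ha τ, ?_, ?_⟩
  · obtain ⟨w, rfl⟩ := Ideal.mem_span_singleton'.1 hy
    rw [map_mul, AlgHom.comp_apply f e₁ E, he₁, map_sub, hf, AlgHom.commutes, sub_self, mul_zero]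
  · refine AlgHom.ext fun y => ?_
    show f (e₁ (Polynomial.C y)) = f y
    exact congrArg f (Polynomial.aeval_C _ _)
  · intro z
    obtain ⟨z, rfl⟩ := Ideal.Quotient.mk_surjective z
    exact ⟨e₁ z, rfl⟩

/-- The final step, over the model. -/
theorem desingularize_model {R A C C' : Type u} [CommRing R] [CommRing A] [Algebra R A] [CommRing C] [Algebra R C]
    [CommRing C'] [IsNoetherianRing C'] [Algebra R C'] [Algebra.FinitePresentation R C'] [Algebra C' C]
    [IsScalarTower R C' C] (g : A →ₐ[R] C) (a : A)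
    (ha : Smoothing.IsStrictlyStandard R A a) (a' : C') (c₀ : C) (hc₀ : g a = c₀)
    (ha' : algebraMap C' C a' = c₀) (N : ℕ) (hN : 2 ≤ N)
    (hC : ∀ x : C, (c₀ ^ N) ^ 2 * x = 0 → c₀ ^ N * x = 0)
    (ψ : C →ₐ[R] C' ⧸ Ideal.span {(a' ^ N) ^ 4}) (hψa : ψ c₀ = Ideal.Quotient.mk _ a')
    (hψ : ∀ (c : C) (d : C'), Ideal.Quotient.mk (Ideal.span {(a' ^ N) ^ 4}) d = ψ c →
      algebraMap C' C d - c ∈ Ideal.span {(c₀ ^ N) ^ 4}) :
    ∃ (B : Type u) (_ : CommRing B) (_ : Algebra R B), Algebra.FinitePresentation R B ∧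
      ∃ (α : A →ₐ[R] B) (β : B →ₐ[R] C), β.comp α = g ∧
        ∀ (𝔔 : Ideal C) [𝔔.IsPrime] (t : C'), algebraMap C' C t ∉ 𝔔 →
          (∀ x : C', (a' ^ N) ^ 2 * x = 0 → a' ^ N * (t * x) = 0) →
          Algebra.IsSmoothAt R (𝔔.comap (algebraMap C' C)) → Algebra.IsSmoothAt R (𝔔.comap β.toRingHom) := by
  subst hc₀
  let AS := C' ⊗[R] A
  have haS : Smoothing.IsStrictlyStandard C' AS ((1 : C') ⊗ₜ[R] a) :=
    (StandardBaseChange.isStandard_baseChange C' a).2 ha
  let π := a' ^ N
  let I4 : Ideal C' := Ideal.span {π ^ 4}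
  let fC : AS →ₐ[C'] C := Algebra.TensorProduct.lift (Algebra.ofId C' C) g fun _ _ => Commute.all _ _
  let fT : AS →ₐ[C'] C' ⧸ I4 :=
    Algebra.TensorProduct.lift (Algebra.ofId C' (C' ⧸ I4)) (ψ.comp g) fun _ _ => Commute.all _ _
  obtain ⟨Ax, _, _, ιx, F, hstd2, hFι, hFw⟩ := exists_adjoin ((1 : C') ⊗ₜ[R] a) haS a' (fC.prod fT) (by
    refine Prod.ext ?_ ?_
    · show fC _ = algebraMap C' C a'
      exact (Algebra.TensorProduct.lift_tmul _ _ _ _ _).trans (by rw [map_one, one_mul, ha'])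
    · show fT _ = algebraMap C' (C' ⧸ I4) a'
      refine (Algebra.TensorProduct.lift_tmul _ _ _ _ _).trans ?_
      rw [map_one, one_mul, AlgHom.comp_apply]
      exact hψa)
  have hstd : Smoothing.IsStrictlyStandard C' Ax (algebraMap C' Ax (a' ^ N)) := by
    rw [map_pow, ← Nat.add_sub_cancel' hN, pow_add]
    exact isStrictlyStandard_mul hstd2 _
  haveI : Algebra.FinitePresentation C' Ax := finitePresentation_of_isStrictlyStandard hstd
  let φx : Ax →ₐ[C'] C := (AlgHom.fst C' C (C' ⧸ I4)).comp F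
  let ρx : Ax →ₐ[C'] C' ⧸ I4 := (AlgHom.snd C' C (C' ⧸ I4)).comp F
  let q : (C' ⧸ I4) →+* C ⧸ Ideal.span {(g a ^ N) ^ 4} :=
    Ideal.Quotient.lift _ ((Ideal.Quotient.mk _).comp (algebraMap C' C)) fun y hy => by
      obtain ⟨w, rfl⟩ := Ideal.mem_span_singleton'.1 hy
      refine Ideal.Quotient.eq_zero_iff_mem.2 ?_
      rw [map_mul, map_pow, map_pow, ha']
      exact Ideal.mul_mem_left _ _ (Ideal.mem_span_singleton_self _)
  have hq : ∀ w : AS, q (fT w) = Ideal.Quotient.mk _ (fC w) := by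
    intro w
    induction w using TensorProduct.induction_on with
    | zero => simp
    | tmul s y =>
      obtain ⟨d, hd⟩ := Ideal.Quotient.mk_surjective (ψ (g y))
      have h1 : q (ψ (g y)) = Ideal.Quotient.mk _ (g y) := by
        rw [← hd]
        exact (Ideal.Quotient.mk_eq_mk_iff_sub_mem _ _).2 (hψ _ d hd)
      rw [show fT (s ⊗ₜ[R] y) = _ from Algebra.TensorProduct.lift_tmul _ _ _ _ _,
        show fC (s ⊗ₜ[R] y) = _ from Algebra.TensorProduct.lift_tmul _ _ _ _ _, map_mul, map_mul, AlgHom.comp_apply, h1]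
      rfl
    | add x y hx hy => rw [map_add, map_add, map_add, map_add, hx, hy]
  have hρ : ∀ (z : Ax) (r : C'), Ideal.Quotient.mk (Ideal.span {π ^ 4}) r = ρx z →
      algebraMap C' C r - φx z ∈ Ideal.span {algebraMap C' C (π ^ 4)} := by
    intro z r hr
    obtain ⟨w, hw⟩ := hFw z
    rw [show Ideal.span {algebraMap C' C (π ^ 4)} = Ideal.span {(g a ^ N) ^ 4} by rw [map_pow, map_pow, ha'],
      ← Ideal.Quotient.mk_eq_mk_iff_sub_mem]
    show q (Ideal.Quotient.mk _ r) = _
    rw [hr, show ρx z = fT w from congrArg Prod.snd hw, show φx z = fC w from congrArg Prod.fst hw]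
    exact hq _
  obtain ⟨B, _, _, hBfp, α, β, hβα, hsing⟩ := Desingularize.exists_desingularization (R := C') (Λ := C) π
    (fun x hx => by
      rw [Algebra.smul_def, map_pow, map_pow, ha'] at hx
      rw [Algebra.smul_def, map_pow, ha']
      exact hC x hx) φx hstd ρx hρ
  letI : Algebra R B := ((algebraMap C' B).comp (algebraMap R C')).toAlgebra
  haveI : IsScalarTower R C' B := IsScalarTower.of_algebraMap_eq' rfl
  haveI : Algebra.FinitePresentation R B := Algebra.FinitePresentation.trans R C' B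
  letI : Algebra R Ax := ((algebraMap C' Ax).comp (algebraMap R C')).toAlgebra
  haveI : IsScalarTower R C' Ax := IsScalarTower.of_algebraMap_eq' rfl
  let ιA : A →ₐ[R] Ax := (ιx.restrictScalars R).comp Algebra.TensorProduct.includeRight
  refine ⟨B, inferInstance, inferInstance, inferInstance, (α.restrictScalars R).comp ιA, β.restrictScalars R, ?_, ?_⟩
  · refine AlgHom.ext fun y => ?_
    show β (α (ιA y)) = g y
    rw [← AlgHom.comp_apply β α, hβα]
    show (F (ιx ((1 : C') ⊗ₜ[R] y))).1 = g y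
    rw [← AlgHom.comp_apply F ιx, hFι]
    show fC _ = _
    exact (Algebra.TensorProduct.lift_tmul _ _ _ _ _).trans (by rw [map_one, one_mul])
  intro 𝔔 _ t ht htors hsm
  have hQ : (𝔔.comap β.toRingHom).comap (algebraMap C' B) = 𝔔.comap (algebraMap C' C) := by
    ext z
    show β (algebraMap C' B z) ∈ 𝔔 ↔ _
    rw [AlgHom.commutes]
    rfl
  haveI : Algebra.IsSmoothAt C' (𝔔.comap β.toRingHom) := by
    by_contra hns
    have h := (PrimeSpectrum.mem_vanishingIdeal _ _).1 (hsing t htors) ⟨𝔔.comap β.toRingHom, inferInstance⟩ hns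
    exact ht (by simpa using h)
  haveI : Algebra.IsSmoothAt R ((𝔔.comap β.toRingHom).comap (algebraMap C' B)) := by
    convert hsm
  exact DesingularizeOver.isSmoothAt_comp (D := C') (𝔔.comap β.toRingHom)

/-- One step: `B` is smooth above the smooth points of `C` and above the points where `a` is
invertible. -/
theorem step {R A C : Type u} [CommRing R] [IsNoetherianRing R] [CommRing A] [Algebra R A]
    [CommRing C] [Algebra R C] [Algebra.FinitePresentation R C] (g : A →ₐ[R] C) (a : A)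
    (ha : Smoothing.IsStrictlyStandard R A a) :
    ∃ (B : Type u) (_ : CommRing B) (_ : Algebra R B), Algebra.FinitePresentation R B ∧
      ∃ (α : A →ₐ[R] B) (β : B →ₐ[R] C), β.comp α = g ∧
        ∀ (𝔔 : Ideal C) [𝔔.IsPrime], (g a ∉ 𝔔 ∨ Algebra.IsSmoothAt R 𝔔) →
          Algebra.IsSmoothAt R (𝔔.comap β.toRingHom) := by
  obtain ⟨M, hM⟩ := ResolveTorsion.exists_local_torsion R
  haveI : IsNoetherianRing C := Algebra.FiniteType.isNoetherianRing R C
  let c₀ := g a
  let f : ℕ →o Submodule C C := ⟨fun j => LinearMap.ker (LinearMap.lsmul C C (c₀ ^ j)), fun i j hij x hx => by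
    have hx' : c₀ ^ i * x = 0 := hx
    show c₀ ^ j * x = 0
    rw [← Nat.sub_add_cancel hij, pow_add, mul_assoc, hx', mul_zero]⟩
  obtain ⟨s, hs⟩ := monotone_stabilizes_iff_noetherian.2 inferInstance f
  let N := M + s + 2
  have hCN : ∀ j, N ≤ j → ∀ x : C, (c₀ ^ j) ^ 2 * x = 0 → c₀ ^ j * x = 0 := by
    intro j hj x hx
    rw [← pow_mul] at hx
    have h : x ∈ f (j * 2) := hx
    rw [← hs _ (by omega)] at h
    rw [hs j (by omega)] at h
    exact h
  obtain ⟨C', _, _, hfp, ρ, a', ψ, hρa, hψa, hψ, hsmooth⟩ :=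
    ResolveModel.exists_model (R := R) c₀ (N * 4) (by omega) (hCN _ (by omega))
  haveI : IsNoetherianRing C' := Algebra.FiniteType.isNoetherianRing R C'
  letI : Algebra C' C := ρ.toRingHom.toAlgebra
  haveI : IsScalarTower R C' C := IsScalarTower.of_algebraMap_eq fun r => (ρ.commutes r).symm
  let e : (C' ⧸ Ideal.span {a' ^ (N * 4)}) ≃ₐ[R] C' ⧸ Ideal.span {(a' ^ N) ^ 4} :=
    Ideal.quotientEquivAlgOfEq R (by rw [pow_mul])
  obtain ⟨B, _, _, hB, α, β, hcomp, hB'⟩ := desingularize_model g a ha a' c₀ rfl hρa N (by omega)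
    (hCN N le_rfl) (e.toAlgHom.comp ψ) (by
      show e (ψ c₀) = _
      rw [hψa]; rfl)
    (fun c d hd => by
      rw [← pow_mul]
      refine hψ c d (e.injective ?_)
      exact hd)
  refine ⟨B, inferInstance, inferInstance, hB, α, β, hcomp, fun 𝔔 _ h => ?_⟩
  have hsm := hsmooth 𝔔 h
  obtain ⟨t, ht, htors⟩ := hM C' _ hsm a' N (by omega)
  exact hB' 𝔔 t ht htors hsm

theorem exists_resolution_list {R A C : Type u} [CommRing R] [IsNoetherianRing R] [CommRing A] [Algebra R A]
    [CommRing C] [Algebra R C] [Algebra.FinitePresentation R C] (g : A →ₐ[R] C) (l : List A)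
    (hl : ∀ a ∈ l, Smoothing.IsStrictlyStandard R A a) :
    ∃ (B : Type u) (_ : CommRing B) (_ : Algebra R B), Algebra.FinitePresentation R B ∧
      ∃ (α : A →ₐ[R] B) (β : B →ₐ[R] C), β.comp α = g ∧
        ∀ (𝔔 : Ideal C) [𝔔.IsPrime], ((∃ a ∈ l, g a ∉ 𝔔) ∨ Algebra.IsSmoothAt R 𝔔) →
          Algebra.IsSmoothAt R (𝔔.comap β.toRingHom) := by
  induction l with
  | nil =>
    refine ⟨C, inferInstance, inferInstance, inferInstance, g, AlgHom.id R C, AlgHom.id_comp g, fun 𝔔 _ h => ?_⟩
    rcases h with ⟨a, ha, -⟩ | h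
    · simp at ha
    · exact h
  | cons a l ih =>
    obtain ⟨B₁, _, _, hB₁, α₁, β₁, h₁, hs₁⟩ := ih fun b hb => hl b (List.mem_cons_of_mem _ hb)
    obtain ⟨B, _, _, hB, α, β, hcomp, hs⟩ := step α₁ a (hl a List.mem_cons_self)
    refine ⟨B, inferInstance, inferInstance, hB, α, β₁.comp β, by rw [AlgHom.comp_assoc, hcomp, h₁], fun 𝔔 _ h => ?_⟩
    refine hs (𝔔.comap β₁.toRingHom) ?_
    rcases h with ⟨b, hb, hbQ⟩ | h
    · rcases List.mem_cons.1 hb with rfl | hb
      · left
        show ¬ β₁ (α₁ b) ∈ 𝔔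
        rwa [← AlgHom.comp_apply, h₁]
      · exact Or.inr (hs₁ 𝔔 (Or.inl ⟨b, hb, hbQ⟩))
    · exact Or.inr (hs₁ 𝔔 (Or.inr h))

/-- Every map `A → C` of finitely presented algebras over a Noetherian ring factors through one which is
smooth above the smooth locus of `A` and above the smooth locus of `C`. -/
theorem exists_resolution {R A C : Type u} [CommRing R] [IsNoetherianRing R] [CommRing A] [Algebra R A]
    [Algebra.FinitePresentation R A] [CommRing C] [Algebra R C] [Algebra.FinitePresentation R C] (g : A →ₐ[R] C) :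
    ∃ (B : Type u) (_ : CommRing B) (_ : Algebra R B), Algebra.FinitePresentation R B ∧
      ∃ (α : A →ₐ[R] B) (β : B →ₐ[R] C), β.comp α = g ∧
        ∀ (𝔔 : Ideal C) [𝔔.IsPrime], (Algebra.IsSmoothAt R (𝔔.comap g.toRingHom) ∨ Algebra.IsSmoothAt R 𝔔) →
          Algebra.IsSmoothAt R (𝔔.comap β.toRingHom) := by
  classical
  haveI : IsNoetherianRing A := Algebra.FiniteType.isNoetherianRing R A
  obtain ⟨s, hs, hspan⟩ := (Submodule.fg_span_iff_fg_span_finset_subset _).1
    (IsNoetherian.noetherian (Ideal.span {a : A | Smoothing.IsStrictlyStandard R A a}))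
  obtain ⟨B, _, _, hB, α, β, hcomp, h⟩ := exists_resolution_list g s.toList
    (fun a ha => hs (Finset.mem_toList.1 ha))
  refine ⟨B, inferInstance, inferInstance, hB, α, β, hcomp, fun 𝔔 _ hsm => h 𝔔 ?_⟩
  rcases hsm with hA | hC
  · left
    by_contra hno
    push Not at hno
    haveI := hA
    obtain ⟨a, ha, hae⟩ := SingularIdeal.exists_isElementaryStandard (R := R) (𝔔.comap g.toRingHom)
    have h1 : Ideal.span {a : A | Smoothing.IsStrictlyStandard R A a} ≤ 𝔔.comap g.toRingHom := by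
      refine hspan.le.trans (Submodule.span_le.2 fun b hb => ?_)
      exact hno b (Finset.mem_toList.2 hb)
    exact ha (h1 (Ideal.subset_span (SingularIdeal.isStrictlyStandard_of_isElementaryStandard hae)))
  · exact Or.inr hC

/-- A problem with a factorisation smooth at the prime can be resolved. -/
theorem resolvable_of_delocalization {R A Λ : Type u} [CommRing R] [IsNoetherianRing R] [CommRing A] [Algebra R A]
    [Algebra.FinitePresentation R A] [CommRing Λ] [Algebra R Λ] (φ : A →ₐ[R] Λ) (𝔮 : Ideal Λ) [𝔮.IsPrime]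
    (hC : ∃ (C : Type u) (_ : CommRing C) (_ : Algebra R C), Algebra.FinitePresentation R C ∧
      ∃ (g : A →ₐ[R] C) (h : C →ₐ[R] Λ), h.comp g = φ ∧ ¬ (Smoothing.singularIdeal R C).map h ≤ 𝔮) :
    Smoothing.Resolvable R φ 𝔮 := by
  obtain ⟨C, _, _, hfp, g, h, hgh, hnot⟩ := hC
  obtain ⟨B, _, _, hB, α, β, hcomp, hs⟩ := exists_resolution g
  refine ⟨B, inferInstance, inferInstance, hB, α, h.comp β, by rw [AlgHom.comp_assoc, hcomp, hgh], ?_, fun hle => ?_⟩
  · refine (Ideal.radical_le_radical_iff).2 ?_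
    rw [Ideal.radical_eq_sInf]
    refine le_sInf fun P hP => ?_
    obtain ⟨hle, hPp⟩ := hP
    haveI := hPp
    rw [Ideal.map_le_iff_le_comap]
    intro x hx
    by_contra hxP
    have hA : Algebra.IsSmoothAt R ((P.comap h.toRingHom).comap g.toRingHom) := by
      by_contra hns
      refine hxP ?_
      have := (PrimeSpectrum.mem_vanishingIdeal _ _).1 hx ⟨(P.comap h.toRingHom).comap g.toRingHom, inferInstance⟩ hns
      show φ x ∈ P
      rw [← hgh]
      exact this
    have hsB := hs (P.comap h.toRingHom) (Or.inl hA)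
    obtain ⟨b, hb, hbe⟩ := @SingularIdeal.exists_isElementaryStandard R B _ _ _ hB
      ((P.comap h.toRingHom).comap β.toRingHom) _ hsB
    refine hb (hle (Ideal.mem_map_of_mem (h.comp β) ?_))
    rw [(SingularIdeal.singularIdeal_eq).2]
    exact Ideal.le_radical (Ideal.subset_span hbe)
  · refine hnot (Ideal.map_le_iff_le_comap.2 fun x hx => ?_)
    by_contra hxP
    have hCs : Algebra.IsSmoothAt R (𝔮.comap h.toRingHom) := by
      by_contra hns
      exact hxP ((PrimeSpectrum.mem_vanishingIdeal _ _).1 hx ⟨𝔮.comap h.toRingHom, inferInstance⟩ hns)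
    have hsB := hs (𝔮.comap h.toRingHom) (Or.inr hCs)
    obtain ⟨b, hb, hbe⟩ := @SingularIdeal.exists_isElementaryStandard R B _ _ _ hB
      ((𝔮.comap h.toRingHom).comap β.toRingHom) _ hsB
    refine hb (hle (Ideal.le_radical (Ideal.mem_map_of_mem (h.comp β) ?_)))
    rw [(SingularIdeal.singularIdeal_eq).2]
    exact Ideal.le_radical (Ideal.subset_span hbe)

end Groth.Agent.CAlgH.ResolveStep
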