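import Groth.Prelude.Def_Smoothing
import Mathlib

/-! Powers of `a` are strictly standard when `A_a` is smooth with stably free differentials. -/

universe u

open MvPolynomial

namespace Groth.Agent.CAlgH.StrictlyStandardPow

theorem one_mem_span_minors {S : Type u} [CommRing S] {c N : ℕ} (M : Matrix (Fin c) (Fin N) S)
    (W : Matrix (Fin N) (Fin c) S) (h : M * W = 1) :
    (1 : S) ∈ Ideal.span (Set.range fun cols : Fin c → Fin N => (Matrix.of fun j k => M j (cols k)).det) := by
  classical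
  have h1 : (1 : S) = Matrix.detRowAlternating.toMultilinearMap fun k => ∑ i, W i k • M.transpose i := by
    rw [show (fun k => ∑ i, W i k • M.transpose i) = (M * W).transpose by
      funext k j
      rw [Finset.sum_apply, Matrix.transpose_apply, Matrix.mul_apply]
      exact Finset.sum_congr rfl fun i _ => mul_comm _ _, h, Matrix.transpose_one]
    exact (Matrix.det_one).symm
  rw [h1, MultilinearMap.map_sum]
  refine sum_mem fun cols _ => ?_
  rw [MultilinearMap.map_smul_univ, smul_eq_mul]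
  refine Ideal.mul_mem_left _ _ (Ideal.subset_span ⟨cols, ?_⟩)
  exact (Matrix.det_transpose _).symm

variable {R A Aa : Type u} [CommRing R] [CommRing A] [Algebra R A] [CommRing Aa] [Algebra R Aa]
  [Algebra A Aa] [IsScalarTower R A Aa]

/-- The gradient of a polynomial, with values in a localisation. -/
noncomputable def grad {N : ℕ} (φ : MvPolynomial (Fin N) R →ₐ[R] A) (p : MvPolynomial (Fin N) R) : Fin N → Aa :=
  fun i => algebraMap A Aa (φ (pderiv i p))

theorem grad_mul_of_eq_zero {N : ℕ} (φ : MvPolynomial (Fin N) R →ₐ[R] A) (p q : MvPolynomial (Fin N) R)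
    (h : φ q = 0) : grad (Aa := Aa) φ (p * q) = algebraMap A Aa (φ p) • grad φ q := by
  funext i
  simp [grad, pderiv_mul, h]

/-- `π`: the differentials of the variables. -/
noncomputable def piMap {N : ℕ} (φ : MvPolynomial (Fin N) R →ₐ[R] A) : (Fin N → Aa) →ₗ[Aa] Ω[Aa⁄R] :=
  Fintype.linearCombination Aa fun i => KaehlerDifferential.D R Aa (algebraMap A Aa (φ (X i)))

theorem D_algebraMap {N : ℕ} (φ : MvPolynomial (Fin N) R →ₐ[R] A) (p : MvPolynomial (Fin N) R) :
    KaehlerDifferential.D R Aa (algebraMap A Aa (φ p)) = piMap φ (grad φ p) := by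
  classical
  simp only [piMap, Fintype.linearCombination_apply]
  induction p using MvPolynomial.induction_on with
  | C r =>
    rw [← MvPolynomial.algebraMap_eq, AlgHom.commutes, ← IsScalarTower.algebraMap_apply, Derivation.map_algebraMap]
    refine (Finset.sum_eq_zero fun i _ => ?_).symm
    simp [grad]
  | add p q hp hq =>
    rw [map_add, map_add, map_add, hp, hq, ← Finset.sum_add_distrib]
    exact Finset.sum_congr rfl fun i _ => by simp [grad, add_smul]
  | mul_X p i hp =>
    rw [map_mul, map_mul, Derivation.leibniz, hp, Finset.smul_sum, add_comm]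
    have e : ∀ k, grad (Aa := Aa) φ (p * X i) k • KaehlerDifferential.D R Aa (algebraMap A Aa (φ (X k))) =
        algebraMap A Aa (φ (X i)) • grad (Aa := Aa) φ p k • KaehlerDifferential.D R Aa (algebraMap A Aa (φ (X k))) +
          if k = i then algebraMap A Aa (φ p) • KaehlerDifferential.D R Aa (algebraMap A Aa (φ (X i))) else 0 := fun k => by
      simp only [grad, pderiv_mul, map_add, map_mul, add_smul, smul_smul]
      rw [mul_comm (algebraMap A Aa (φ (X i)))]
      split_ifs with h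
      · subst h; rw [pderiv_X_self, map_one, map_one, mul_one]
      · rw [pderiv_X_of_ne (Ne.symm h), map_zero, map_zero, mul_zero, zero_smul]
    rw [Finset.sum_congr rfl fun k _ => e k, Finset.sum_add_distrib]
    simp

theorem delta_formula {N : ℕ} {Ta : Type u} [CommRing Ta] [Algebra R Ta] (ι : MvPolynomial (Fin N) R →ₐ[R] Ta)
    (ψ : MvPolynomial (Fin N) R →ₐ[R] Aa) (pr : Ta →ₐ[R] Aa) (s : Aa →ₐ[R] Ta)
    (hpr : ∀ x, pr (ι x) = ψ x) (hs : ∀ z, pr (s z) = z) (hsq : ∀ y z, pr y = 0 → pr z = 0 → y * z = 0) (p) :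
    ι p - s (ψ p) = ∑ i, ι (pderiv i p) * (ι (X i) - s (ψ (X i))) := by
  classical
  let δ : Fin N → Ta := fun i => ι (X i) - s (ψ (X i))
  have hδ : ∀ i, pr (δ i) = 0 := fun i => by simp only [δ, map_sub, hpr, hs, sub_self]
  have hcongr : ∀ y y' i, pr y = pr y' → y * δ i = y' * δ i := by
    intro y y' i h
    rw [← sub_eq_zero, ← sub_mul]
    exact hsq _ _ (by rw [map_sub, h, sub_self]) (hδ i)
  show ι p - s (ψ p) = ∑ i, ι (pderiv i p) * δ i
  induction p using MvPolynomial.induction_on with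
  | C r =>
    rw [← MvPolynomial.algebraMap_eq, AlgHom.commutes, AlgHom.commutes, AlgHom.commutes, sub_self]
    exact (Finset.sum_eq_zero fun i _ => by simp).symm
  | add p q hp hq =>
    rw [map_add, map_add, map_add, add_sub_add_comm, hp, hq, ← Finset.sum_add_distrib]
    exact Finset.sum_congr rfl fun i _ => by rw [map_add, map_add, add_mul]
  | mul_X p i hp =>
    have e : ∀ k, ι (pderiv k (p * X i)) * δ k = ι (X i) * (ι (pderiv k p) * δ k) + if k = i then ι p * δ i else 0 := by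
      intro k
      rw [pderiv_mul, map_add, map_mul, map_mul]
      split_ifs with h
      · subst h; rw [pderiv_X_self, map_one]; ring
      · rw [pderiv_X_of_ne (Ne.symm h), map_zero]; ring
    rw [Finset.sum_congr rfl fun k _ => e k, Finset.sum_add_distrib, ← Finset.mul_sum, ← hp, Finset.sum_ite_eq',
      if_pos (Finset.mem_univ i)]
    have h2 : s (ψ p) * δ i = ι p * δ i := hcongr _ _ i (by rw [hs, hpr])
    rw [← h2, map_mul, map_mul, map_mul]
    show _ = _ + s (ψ p) * (ι (X i) - s (ψ (X i)))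
    ring

theorem exists_gradHom {N : ℕ} (φ : MvPolynomial (Fin N) R →ₐ[R] A) :
    ∃ GP : MvPolynomial (Fin N) R →ₐ[R] TrivSqZeroExt Aa (Fin N → Aa),
      (∀ p, (GP p).fst = algebraMap A Aa (φ p) ∧ (GP p).snd = grad φ p) ∧
      ∀ x ∈ RingHom.ker φ.toRingHom ^ 2, GP x = 0 := by
  classical
  let J : Ideal (MvPolynomial (Fin N) R) := RingHom.ker φ.toRingHom
  let ψ : MvPolynomial (Fin N) R →ₐ[R] Aa := (IsScalarTower.toAlgHom R A Aa).comp φ
  have hJψ : ∀ x ∈ J, ψ x = 0 := fun x hx => by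
    show algebraMap A Aa (φ x) = 0
    rw [show φ x = 0 from hx, map_zero]
  let GP : MvPolynomial (Fin N) R →ₐ[R] TrivSqZeroExt Aa (Fin N → Aa) :=
    aeval fun i => TrivSqZeroExt.inl (ψ (X i)) + TrivSqZeroExt.inr (Pi.single i 1)
  have hGP : ∀ p, (GP p).fst = ψ p ∧ (GP p).snd = grad φ p := by
    intro p
    induction p using MvPolynomial.induction_on with
    | C r =>
      refine ⟨?_, ?_⟩
      · rw [← MvPolynomial.algebraMap_eq, AlgHom.commutes, AlgHom.commutes]; rfl
      · rw [← MvPolynomial.algebraMap_eq, AlgHom.commutes]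
        funext i
        simp [grad, TrivSqZeroExt.algebraMap_eq_inl']
    | add p q hp hq =>
      refine ⟨by rw [map_add, TrivSqZeroExt.fst_add, hp.1, hq.1, map_add], ?_⟩
      rw [map_add, TrivSqZeroExt.snd_add, hp.2, hq.2]
      funext i
      simp [grad]
    | mul_X p i hp =>
      have hXf : (GP (X i)).fst = ψ (X i) ∧ (GP (X i)).snd = Pi.single i 1 := by
        simp [GP]
      refine ⟨by rw [map_mul, TrivSqZeroExt.fst_mul, hp.1, hXf.1, map_mul], ?_⟩
      rw [map_mul, TrivSqZeroExt.snd_mul, hp.1, hp.2, hXf.1, hXf.2, op_smul_eq_smul]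
      funext k
      simp only [grad, Pi.add_apply, Pi.smul_apply, smul_eq_mul, pderiv_mul, map_add, map_mul]
      rw [add_comm]
      congr 1
      · exact mul_comm _ _
      · by_cases h : i = k
        · subst h; rw [pderiv_X_self, Pi.single_eq_same, map_one, map_one]; simp [ψ]
        · rw [pderiv_X_of_ne h, Pi.single_eq_of_ne (Ne.symm h), map_zero, map_zero]
          simp
  have hGP2 : ∀ x ∈ J ^ 2, GP x = 0 := by
    intro x hx
    rw [sq] at hx
    refine Submodule.mul_induction_on hx (fun a ha b hb => ?_) (fun a b ha hb => by rw [map_add, ha, hb, add_zero])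
    have ha' : (GP a).fst = 0 := by rw [(hGP a).1, hJψ a ha]
    have hb' : (GP b).fst = 0 := by rw [(hGP b).1, hJψ b hb]
    rw [map_mul]
    refine TrivSqZeroExt.ext ?_ ?_
    · rw [TrivSqZeroExt.fst_mul, ha', zero_mul, TrivSqZeroExt.fst_zero]
    · rw [TrivSqZeroExt.snd_mul, ha', hb', zero_smul, MulOpposite.op_zero, zero_smul, add_zero, TrivSqZeroExt.snd_zero]
  exact ⟨GP, hGP, hGP2⟩

theorem exists_squareZero_model {N : ℕ} (φ : MvPolynomial (Fin N) R →ₐ[R] A) (hφ : Function.Surjective φ)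
    (ã : MvPolynomial (Fin N) R) [IsLocalization.Away (φ ã) Aa] :
    ∃ (Ta : Type u) (_ : CommRing Ta) (_ : Algebra R Ta) (ι : MvPolynomial (Fin N) R →ₐ[R] Ta) (pr : Ta →ₐ[R] Aa),
      (∀ x, pr (ι x) = algebraMap A Aa (φ x)) ∧ Function.Surjective pr ∧
      (∀ y z, pr y = 0 → pr z = 0 → y * z = 0) ∧
      (∀ p, ι p = 0 → ∃ k, ã ^ k * p ∈ RingHom.ker φ.toRingHom ^ 2) ∧
      (∀ y, ∃ (x : MvPolynomial (Fin N) R) (k : ℕ), y * ι ã ^ k = ι x) ∧
      (∀ y, pr y = 0 → ∃ (x : MvPolynomial (Fin N) R) (k : ℕ), φ x = 0 ∧ y * ι ã ^ k = ι x) ∧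
      ∀ {U : Type u} [CommRing U] [Algebra R U] (f : MvPolynomial (Fin N) R →ₐ[R] U),
        (∀ x ∈ RingHom.ker φ.toRingHom ^ 2, f x = 0) → IsUnit (f ã) → ∃ g : Ta →ₐ[R] U, ∀ x, g (ι x) = f x := by
  classical
  let J : Ideal (MvPolynomial (Fin N) R) := RingHom.ker φ.toRingHom
  let t : MvPolynomial (Fin N) R ⧸ J ^ 2 := Ideal.Quotient.mk (J ^ 2) ã
  let Ta := Localization.Away t
  let ι : MvPolynomial (Fin N) R →ₐ[R] Ta :=
    (IsScalarTower.toAlgHom R (MvPolynomial (Fin N) R ⧸ J ^ 2) Ta).comp (Ideal.Quotient.mkₐ R (J ^ 2))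
  let ψ : MvPolynomial (Fin N) R →ₐ[R] Aa := (IsScalarTower.toAlgHom R A Aa).comp φ
  have hψu : IsUnit (ψ ã) := IsLocalization.Away.algebraMap_isUnit (φ ã)
  have hι2 : ∀ x ∈ J ^ 2, ι x = 0 := fun x hx => by
    show algebraMap _ Ta (Ideal.Quotient.mk (J ^ 2) x) = 0
    rw [Ideal.Quotient.eq_zero_iff_mem.2 hx, map_zero]
  -- maps out of `Ta`
  have hlift : ∀ {U : Type u} [CommRing U] [Algebra R U] (f : MvPolynomial (Fin N) R →ₐ[R] U),
      (∀ x ∈ J ^ 2, f x = 0) → IsUnit (f ã) → ∃ g : Ta →ₐ[R] U, ∀ x, g (ι x) = f x := by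
    intro U _ _ f h0 hu
    let f₀ : MvPolynomial (Fin N) R ⧸ J ^ 2 →ₐ[R] U := Ideal.Quotient.liftₐ (J ^ 2) f h0
    refine ⟨IsLocalization.liftAlgHom (M := Submonoid.powers t) (f := f₀) ?_, fun x => ?_⟩
    · rintro ⟨_, k, rfl⟩
      show IsUnit (f₀ (t ^ k))
      rw [map_pow]
      exact hu.pow k
    · show IsLocalization.lift _ (algebraMap _ Ta (Ideal.Quotient.mk (J ^ 2) x)) = f x
      rw [IsLocalization.lift_eq]
      rfl
  have hJψ : ∀ x ∈ J, ψ x = 0 := fun x hx => by
    show algebraMap A Aa (φ x) = 0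
    rw [show φ x = 0 from hx, map_zero]
  obtain ⟨pr, hpr⟩ := hlift ψ (fun x hx => hJψ x (Ideal.pow_le_self two_ne_zero hx)) hψu
  have hsurjform : ∀ y : Ta, ∃ (x : MvPolynomial (Fin N) R) (k : ℕ), y * ι ã ^ k = ι x := by
    intro y
    obtain ⟨⟨x, ⟨_, k, rfl⟩⟩, h⟩ := IsLocalization.surj (Submonoid.powers t) y
    obtain ⟨x, rfl⟩ := Ideal.Quotient.mk_surjective x
    exact ⟨x, k, by simpa [ι, t] using h⟩
  have hprsurj : Function.Surjective pr := by
    intro z
    obtain ⟨k, x, hx⟩ := IsLocalization.Away.surj (φ ã) z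
    obtain ⟨p, rfl⟩ := hφ x
    have hu : IsUnit (ι ã) := IsLocalization.Away.algebraMap_isUnit t
    refine ⟨ι p * ↑(hu.pow k).unit⁻¹, ?_⟩
    refine (hψu.pow k).mul_left_injective ?_
    show pr (ι p * ↑(hu.pow k).unit⁻¹) * ψ ã ^ k = z * ψ ã ^ k
    rw [← hpr ã, ← map_pow pr, ← map_mul, mul_assoc, IsUnit.val_inv_mul, mul_one, hpr, map_pow, hpr]
    exact hx.symm
  have hker : ∀ y, pr y = 0 → ∃ (x : MvPolynomial (Fin N) R) (k : ℕ), x ∈ J ∧ y * ι ã ^ k = ι x := by
    intro y hy
    obtain ⟨x, k, h⟩ := hsurjform y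
    have h0 : algebraMap A Aa (φ x) = 0 := by
      have h' := congrArg pr h
      rw [map_mul, hy, zero_mul, hpr] at h'
      exact h'.symm
    obtain ⟨⟨_, m, rfl⟩, hm⟩ := (IsLocalization.map_eq_zero_iff (Submonoid.powers (φ ã)) Aa _).1 h0
    refine ⟨ã ^ m * x, k + m, show φ (ã ^ m * x) = 0 by rw [map_mul, map_pow]; exact hm, ?_⟩
    rw [map_mul, ← h, map_pow]
    ring
  have hunit : ∀ k, IsUnit (ι ã ^ k) := fun k => (IsLocalization.Away.algebraMap_isUnit t).pow k
  have hsq : ∀ y z, pr y = 0 → pr z = 0 → y * z = 0 := by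
    intro y z hy hz
    obtain ⟨x, k, hx, hxe⟩ := hker y hy
    obtain ⟨x', k', hx', hxe'⟩ := hker z hz
    refine ((hunit k).mul (hunit k')).mul_left_eq_zero.1 ?_
    rw [show y * z * (ι ã ^ k * ι ã ^ k') = (y * ι ã ^ k) * (z * ι ã ^ k') by ring, hxe, hxe', ← map_mul]
    exact hι2 _ (by rw [sq]; exact Ideal.mul_mem_mul hx hx')
  refine ⟨Ta, inferInstance, inferInstance, ι, pr, hpr, hprsurj, hsq, fun p h0 => ?_, hsurjform, hker, hlift⟩
  obtain ⟨⟨_, k, rfl⟩, hk⟩ := (IsLocalization.map_eq_zero_iff (Submonoid.powers t) Ta _).1 h0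
  exact ⟨k, Ideal.Quotient.eq_zero_iff_mem.1 (by rw [map_mul, map_pow]; exact hk)⟩

theorem grad_data {N : ℕ} (φ : MvPolynomial (Fin N) R →ₐ[R] A) (hφ : Function.Surjective φ)
    (ã : MvPolynomial (Fin N) R) [IsLocalization.Away (φ ã) Aa] [Algebra.FormallySmooth R Aa] :
    (∀ p, φ p = 0 → grad (Aa := Aa) φ p = 0 → ∃ k, ã ^ k * p ∈ RingHom.ker φ.toRingHom ^ 2) ∧
      ∀ v, piMap (Aa := Aa) φ v = 0 → ∃ k p, φ p = 0 ∧ grad φ p = algebraMap A Aa (φ ã) ^ k • v := by
  classical
  let ψ : MvPolynomial (Fin N) R →ₐ[R] Aa := (IsScalarTower.toAlgHom R A Aa).comp φ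
  have hψu : IsUnit (ψ ã) := IsLocalization.Away.algebraMap_isUnit (φ ã)
  obtain ⟨Ta, _, _, ι, pr, hpr', hprsurj, hsq, hzero, hsurjform, hker, hlift⟩ :=
    exists_squareZero_model (Aa := Aa) φ hφ ã
  have hpr : ∀ x, pr (ι x) = ψ x := hpr'
  obtain ⟨GP, hGP', hGP2⟩ := exists_gradHom (Aa := Aa) φ
  have hGP : ∀ p, (GP p).fst = ψ p ∧ (GP p).snd = grad φ p := hGP'
  have hnil : IsNilpotent (RingHom.ker pr.toRingHom) := by
    refine ⟨2, le_antisymm ?_ bot_le⟩
    refine le_trans (le_of_eq (pow_two _)) (Ideal.mul_le.2 ?_)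
    exact fun y hy z hz => (Submodule.mem_bot _).2 (hsq y z hy hz)
  let s : Aa →ₐ[R] Ta := Algebra.FormallySmooth.liftOfSurjective (AlgHom.id R Aa) pr hprsurj hnil
  have hs : ∀ z, pr (s z) = z := fun z =>
    Algebra.FormallySmooth.liftOfSurjective_apply (AlgHom.id R Aa) pr hprsurj hnil z
  let δ : Fin N → Ta := fun i => ι (X i) - s (ψ (X i))
  have hδ : ∀ i, pr (δ i) = 0 := fun i => by simp only [δ, map_sub, hpr, hs, sub_self]
  have hcongr : ∀ y y' i, pr y = pr y' → y * δ i = y' * δ i := by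
    intro y y' i h
    rw [← sub_eq_zero, ← sub_mul]
    exact hsq _ _ (by rw [map_sub, h, sub_self]) (hδ i)
  have hδp : ∀ p, ι p - s (ψ p) = ∑ i, ι (pderiv i p) * δ i := delta_formula ι ψ pr s hpr hs hsq
  obtain ⟨G, hG⟩ := hlift GP hGP2 (by
    rw [TrivSqZeroExt.isUnit_iff_isUnit_fst, (hGP ã).1]
    exact hψu)
  refine ⟨fun p hp hg => ?_, fun v hv => ?_⟩
  · have h0 : ι p = 0 := by
      have h := hδp p
      rw [show ψ p = 0 by show algebraMap A Aa (φ p) = 0; rw [hp, map_zero], map_zero, sub_zero] at h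
      rw [h]
      refine Finset.sum_eq_zero fun i _ => ?_
      rw [← zero_mul (δ i)]
      refine hcongr _ _ i ?_
      rw [map_zero, hpr]
      exact congrFun hg i
    exact hzero p h0
  · choose v' hv' using fun i => hprsurj (v i)
    let y : Ta := ∑ i, v' i * δ i
    have hy : pr y = 0 := by simp only [y, map_sum, map_mul, hδ, mul_zero, Finset.sum_const_zero]
    obtain ⟨x, k, hx, hxe⟩ := hker y hy
    refine ⟨k, x, hx, ?_⟩
    have hfst : ∀ z, (G z).fst = pr z := by
      intro z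
      obtain ⟨x', k', h'⟩ := hsurjform z
      refine ((hψu.pow k').mul_left_injective) ?_
      show (G z).fst * ψ ã ^ k' = pr z * ψ ã ^ k'
      rw [← hpr ã, ← map_pow pr, ← map_mul pr, h', hpr, ← (hGP x').1, ← hG x', ← h', map_mul, TrivSqZeroExt.fst_mul,
        map_pow G, hG, TrivSqZeroExt.fst_pow, (hGP ã).1, map_pow pr, hpr]
    let E : Derivation R Aa (Fin N → Aa) :=
      Derivation.mk'
        { toFun := fun z => (G (s z)).snd
          map_add' := fun a b => by rw [map_add, map_add, TrivSqZeroExt.snd_add]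
          map_smul' := fun r b => by rw [map_smul, map_smul, TrivSqZeroExt.snd_smul, RingHom.id_apply] }
        (fun a b => by
          show (G (s (a * b))).snd = a • (G (s b)).snd + b • (G (s a)).snd
          rw [map_mul, map_mul, TrivSqZeroExt.snd_mul, hfst, hfst, hs, hs, op_smul_eq_smul])
    have hE : ∀ i, E (ψ (X i)) = Pi.single i 1 - (G (δ i)).snd := by
      intro i
      show (G (s (ψ (X i)))).snd = _
      have : s (ψ (X i)) = ι (X i) - δ i := by simp [δ]
      rw [this, map_sub, hG, TrivSqZeroExt.snd_sub, (hGP (X i)).2]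
      congr 1
      funext j
      by_cases h : i = j
      · subst h; simp [grad]
      · simp [grad, pderiv_X_of_ne h, Pi.single_eq_of_ne (Ne.symm h)]
    have hL : ∑ i, v i • E (ψ (X i)) = 0 := by
      have h := congrArg E.liftKaehlerDifferential hv
      simp only [piMap, Fintype.linearCombination_apply, map_sum, map_smul, map_zero,
        Derivation.liftKaehlerDifferential_comp_D] at h
      exact h
    have hGy : (G y).snd = v := by
      simp only [hE, smul_sub, Finset.sum_sub_distrib, sub_eq_zero] at hL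
      rw [show ∑ i, v i • (Pi.single i 1 : Fin N → Aa) = v from (pi_eq_sum_univ' v).symm] at hL
      conv_rhs => rw [hL]
      simp only [y, map_sum, TrivSqZeroExt.snd_sum, map_mul]
      refine Finset.sum_congr rfl fun i _ => ?_
      rw [TrivSqZeroExt.snd_mul, hfst, hfst, hδ, hv', MulOpposite.op_zero, zero_smul, add_zero]
    have h2 : GP x = G y * GP ã ^ k := by
      rw [← hG x, ← hxe, map_mul, map_pow, hG]
    rw [← (hGP x).2, h2, TrivSqZeroExt.snd_mul, hfst, hy, zero_smul, zero_add, op_smul_eq_smul, hGy,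
      TrivSqZeroExt.fst_pow, (hGP ã).1]
    rfl

theorem piMap_surjective {N : ℕ} (φ : MvPolynomial (Fin N) R →ₐ[R] A) (hφ : Function.Surjective φ)
    (a : A) [IsLocalization.Away a Aa] : Function.Surjective (piMap (Aa := Aa) φ) := by
  rw [← LinearMap.range_eq_top, eq_top_iff, ← KaehlerDifferential.span_range_derivation, Submodule.span_le]
  rintro _ ⟨z, rfl⟩
  obtain ⟨k, x, hx⟩ := IsLocalization.Away.surj a z
  obtain ⟨p, rfl⟩ := hφ x
  obtain ⟨q, rfl⟩ := hφ a
  have hmem : ∀ q, KaehlerDifferential.D R Aa (algebraMap A Aa (φ q)) ∈ LinearMap.range (piMap (Aa := Aa) φ) :=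
    fun q => ⟨_, (D_algebraMap φ q).symm⟩
  have h := congrArg (KaehlerDifferential.D R Aa) hx
  rw [Derivation.leibniz, ← map_pow, ← map_pow] at h
  have h1 : algebraMap A Aa (φ (q ^ k)) • KaehlerDifferential.D R Aa z ∈ LinearMap.range (piMap (Aa := Aa) φ) := by
    rw [← sub_add_cancel (algebraMap A Aa (φ (q ^ k)) • KaehlerDifferential.D R Aa z)
      (-(z • KaehlerDifferential.D R Aa (algebraMap A Aa (φ (q ^ k))))), sub_neg_eq_add, add_comm (algebraMap A Aa _ • _), h]
    exact add_mem (hmem p) (neg_mem (Submodule.smul_mem _ _ (hmem _)))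
  obtain ⟨w, hw⟩ := h1
  have hu : IsUnit (algebraMap A Aa (φ (q ^ k))) := by
    rw [map_pow, map_pow]
    exact (IsLocalization.Away.algebraMap_isUnit (φ q)).pow k
  refine ⟨(↑hu.unit⁻¹ : Aa) • w, ?_⟩
  rw [map_smul, hw, smul_smul, IsUnit.val_inv_mul, one_smul]

theorem isStrictlyStandard_pow_of_basis {N m c : ℕ} (φ : MvPolynomial (Fin N) R →ₐ[R] A) (hφ : Function.Surjective φ)
    (f : Fin m → MvPolynomial (Fin N) R) (hf : RingHom.ker φ.toRingHom = Ideal.span (Set.range f)) (a : A)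
    [IsLocalization.Away a Aa] [Algebra.FormallySmooth R Aa] (hc : c ≤ N)
    (b : Module.Basis (Fin c) Aa (LinearMap.ker (piMap (Aa := Aa) φ))) :
    ∃ e₀, ∀ e, e₀ ≤ e → Smoothing.IsStrictlyStandard R A (a ^ e) := by
  classical
  obtain ⟨ã, rfl⟩ := hφ a
  obtain ⟨hinj, hlift⟩ := grad_data (Aa := Aa) φ hφ ã
  choose k g hg0 hg using fun j => hlift (b j) (b j).2
  have hu : IsUnit (algebraMap A Aa (φ ã)) := IsLocalization.Away.algebraMap_isUnit (φ ã)
  let b' := b.unitsSMul fun j => hu.unit ^ k j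
  have hb' : ∀ j, (b' j : Fin N → Aa) = grad φ (g j) := fun j => by
    rw [Module.Basis.unitsSMul_apply, hg]; simp [Units.smul_def]
  -- right inverse
  haveI : Module.Projective Aa (Ω[Aa⁄R]) := inferInstance
  obtain ⟨sec, hsec⟩ := Module.projective_lifting_property (piMap (Aa := Aa) φ) LinearMap.id
    (piMap_surjective φ hφ (φ ã))
  let r : (Fin N → Aa) →ₗ[Aa] LinearMap.ker (piMap (Aa := Aa) φ) :=
    LinearMap.codRestrict _ (LinearMap.id - sec ∘ₗ piMap φ) fun v => by
      show piMap φ (v - sec (piMap φ v)) = 0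
      rw [map_sub, ← LinearMap.comp_apply, hsec, LinearMap.id_apply, sub_self]
  let M : Matrix (Fin c) (Fin N) Aa := Matrix.of fun j => grad φ (g j)
  let W : Matrix (Fin N) (Fin c) Aa := Matrix.of fun i l => b'.repr (r (Pi.single i 1)) l
  have hMW : M * W = 1 := by
    refine Matrix.ext fun j l => ?_
    have hr : r (grad φ (g j)) = b' j := by
      refine Subtype.ext ?_
      show grad φ (g j) - sec (piMap φ (grad φ (g j))) = (b' j : Fin N → Aa)
      rw [hb', ← hb' j, (b' j).2, map_zero, sub_zero]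
    have h := congrArg (fun z => b'.repr z l) hr
    simp only [Module.Basis.repr_self, Finsupp.single_apply] at h
    rw [Matrix.one_apply, ← h, Matrix.mul_apply]
    conv_rhs => rw [pi_eq_sum_univ' (grad φ (g j))]
    simp only [map_sum, map_smul, Finsupp.coe_finset_sum, Finset.sum_apply, Finsupp.smul_apply]
    rfl
  have hone := one_mem_span_minors M W hMW
  let minor : (Fin c → Fin N) → A := fun cols => φ (Matrix.of fun j l => pderiv (cols l) (g j)).det
  have hone' : algebraMap A Aa 1 ∈ (Ideal.span (Set.range minor)).map (algebraMap A Aa) := by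
    rw [map_one, Ideal.map_span, ← Set.range_comp]
    convert hone using 4 with cols
    simp only [Function.comp_apply, minor]
    rw [AlgHom.map_det, RingHom.map_det]
    rfl
  obtain ⟨_, ⟨e₁, rfl⟩, he₁⟩ :=
    (IsLocalization.algebraMap_mem_map_algebraMap_iff (Submonoid.powers (φ ã)) Aa _ _).1 hone'
  rw [mul_one] at he₁
  -- the tail
  let J := RingHom.ker φ.toRingHom
  let G : Ideal (MvPolynomial (Fin N) R) := Ideal.span (Set.range g)
  have hfJ : ∀ l, f l ∈ J := fun l => hf.ge (Ideal.subset_span ⟨l, rfl⟩)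
  have htail : ∀ l, ∃ e, ã ^ e * f l ∈ G ⊔ J ^ 2 := by
    intro l
    have hπ0 : piMap (Aa := Aa) φ (grad φ (f l)) = 0 := by
      rw [← D_algebraMap, show φ (f l) = 0 from hfJ l, map_zero, map_zero]
    have hrep := congrArg (Subtype.val (p := fun v => v ∈ LinearMap.ker (piMap (Aa := Aa) φ))) (b'.sum_repr ⟨_, hπ0⟩)
    simp only [Submodule.coe_sum, Submodule.coe_smul, hb'] at hrep
    obtain ⟨⟨_, n, rfl⟩, hn⟩ := IsLocalization.exist_integer_multiples_of_finite (Submonoid.powers (φ ã))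
      (fun j => b'.repr ⟨_, hπ0⟩ j)
    choose x hx using hn
    choose T hT using fun j => hφ (x j)
    let q := ã ^ n * f l - ∑ j, T j * g j
    have hq : φ q = 0 := by
      simp only [q, map_sub, map_mul, map_sum, show φ (f l) = 0 from hfJ l, hg0, mul_zero, Finset.sum_const_zero, sub_zero]
    have hgq : grad (Aa := Aa) φ q = 0 := by
      have e1 : grad (Aa := Aa) φ q = grad φ (ã ^ n * f l) - ∑ j, grad φ (T j * g j) := by
        funext i
        simp [q, grad, Finset.sum_apply]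
      rw [e1, grad_mul_of_eq_zero φ _ _ (hfJ l), sub_eq_zero, Finset.sum_congr rfl fun j _ => grad_mul_of_eq_zero φ _ _ (hg0 j),
        map_pow φ]
      refine (congrArg (algebraMap A Aa (φ ã ^ n) • ·) hrep.symm).trans ?_
      simp only [Finset.smul_sum, smul_smul]
      refine Finset.sum_congr rfl fun j _ => ?_
      rw [hT, hx]
      exact congrArg (· • grad φ (g j)) (Algebra.smul_def (φ ã ^ n) _).symm
    obtain ⟨k', hk'⟩ := hinj q hq hgq
    refine ⟨k' + n, ?_⟩
    have e2 : ã ^ (k' + n) * f l = ã ^ k' * q + ∑ j, (ã ^ k' * T j) * g j := by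
      simp only [q, mul_sub, Finset.mul_sum, mul_assoc, sub_add_cancel, pow_add]
    rw [e2]
    exact add_mem (Ideal.mem_sup_right hk')
      (Ideal.mem_sup_left (sum_mem fun j _ => Ideal.mul_mem_left _ _ (Ideal.subset_span ⟨j, rfl⟩)))
  choose et het using htail
  refine ⟨e₁ + ∑ l, et l, fun e he => ?_⟩
  let rel : Fin (c + m) → MvPolynomial (Fin N) R := Fin.append g f
  have hrel : RingHom.ker φ.toRingHom = Ideal.span (Set.range rel) := by
    refine le_antisymm ?_ (Ideal.span_le.2 ?_)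
    · rw [hf]
      exact Ideal.span_mono (by rintro _ ⟨l, rfl⟩; exact ⟨Fin.natAdd c l, Fin.append_right _ _ _⟩)
    · rintro _ ⟨i, rfl⟩
      induction i using Fin.addCases with
      | left j => rw [show rel (Fin.castAdd m j) = g j from Fin.append_left _ _ _]; exact hg0 j
      | right l => rw [show rel (Fin.natAdd c l) = f l from Fin.append_right _ _ _]; exact hfJ l
  refine ⟨⟨N, c + m, c, hc, Nat.le_add_right c m, rel, φ, hφ, hrel⟩, ?_, ?_⟩
  · show φ ã ^ e ∈ _
    obtain ⟨d, rfl⟩ := Nat.exists_eq_add_of_le (le_of_add_le_left he)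
    rw [pow_add]
    refine Ideal.mul_mem_right _ _ (SetLike.le_def.1 (Ideal.span_mono ?_) he₁)
    rintro _ ⟨cols, rfl⟩
    refine ⟨cols, ?_⟩
    simp only [minor, Smoothing.jacobianMinor]
    congr 3
    funext j l
    rw [show Fin.castLE (Nat.le_add_right c m) j = Fin.castAdd m j from rfl, show rel (Fin.castAdd m j) = g j from Fin.append_left _ _ _]
  · intro b₁ hb₁ i hi
    show b₁ * rel i ∈ Ideal.span (rel '' _) ⊔ Ideal.span (Set.range rel) ^ 2
    rw [← hrel]
    obtain ⟨l, rfl⟩ : ∃ l, i = Fin.natAdd c l := ⟨⟨(i : ℕ) - c, by have := i.2; simp only at hi this ⊢; omega⟩,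
      Fin.ext (by simp only [Fin.val_natAdd] at *; simp only at hi; omega)⟩
    rw [show rel (Fin.natAdd c l) = f l from Fin.append_right _ _ _]
    have hG : G ≤ Ideal.span (rel '' {j' : Fin (c + m) | (j' : ℕ) < c}) :=
      Ideal.span_mono (by rintro _ ⟨j, rfl⟩; exact ⟨Fin.castAdd m j, j.2, Fin.append_left _ _ _⟩)
    have hmem : ã ^ e * f l ∈ G ⊔ J ^ 2 := by
      obtain ⟨d, rfl⟩ := Nat.exists_eq_add_of_le
        (show et l ≤ e from (Finset.single_le_sum (fun _ _ => Nat.zero_le _) (Finset.mem_univ l)).trans (le_of_add_le_right he))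
      rw [pow_add, mul_comm (ã ^ et l), mul_assoc]
      exact Ideal.mul_mem_left _ _ (het l)
    have hb : (b₁ - ã ^ e) * f l ∈ J ^ 2 := by
      rw [sq]
      exact Ideal.mul_mem_mul (show φ (b₁ - ã ^ e) = 0 by rw [map_sub, map_pow]; exact sub_eq_zero.2 hb₁) (hfJ l)
    rw [show b₁ * f l = (b₁ - ã ^ e) * f l + ã ^ e * f l by ring]
    exact add_mem (Ideal.mem_sup_right hb) (SetLike.le_def.1 (sup_le_sup_right hG _) hmem)

theorem exists_isStrictlyStandard_pow [Algebra.FinitePresentation R A] (a : A) [IsLocalization.Away a Aa]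
    [Algebra.FormallySmooth R Aa] (p q : ℕ) (e : (Ω[Aa⁄R] × (Fin p → Aa)) ≃ₗ[Aa] (Fin q → Aa)) :
    ∃ e₀, ∀ n, e₀ ≤ n → Smoothing.IsStrictlyStandard R A (a ^ n) := by
  classical
  obtain ⟨n, φ, hφ, hfg⟩ := ‹Algebra.FinitePresentation R A›.out
  cases subsingleton_or_nontrivial Aa with
  | inl hs =>
    have h0 : algebraMap A Aa 1 = 0 := Subsingleton.elim _ _
    obtain ⟨⟨_, k, rfl⟩, hk⟩ := (IsLocalization.map_eq_zero_iff (Submonoid.powers a) Aa _).1 h0
    obtain ⟨m, f, hf⟩ := Submodule.fg_iff_exists_fin_generating_family.1 hfg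
    refine ⟨k, fun j hj => ?_⟩
    have haj : a ^ j = 0 := by
      obtain ⟨d, rfl⟩ := Nat.exists_eq_add_of_le hj
      simp only [mul_one] at hk
      rw [pow_add, hk, zero_mul]
    rw [haj]
    refine ⟨⟨n, m, 0, Nat.zero_le _, Nat.zero_le _, f, φ, hφ, hf.symm⟩, Ideal.zero_mem _, fun b hb i _ => ?_⟩
    refine Ideal.mem_sup_right ?_
    rw [sq]
    exact Ideal.mul_mem_mul (hf.ge (hb : φ b = 0)) (Ideal.subset_span ⟨i, rfl⟩)
  | inr hnt =>
    have hpq : p ≤ q := by
      have hinj : Function.Injective (e.toLinearMap ∘ₗ LinearMap.inr Aa (Ω[Aa⁄R]) (Fin p → Aa)) :=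
        e.injective.comp LinearMap.inr_injective
      simpa using card_le_of_injective Aa _ hinj
    let φ' : MvPolynomial (Fin (n + q)) R →ₐ[R] A := aeval (Fin.append (fun i => φ (X i)) 0)
    have hcomp : φ'.comp (rename (Fin.castAdd q)) = φ :=
      MvPolynomial.algHom_ext fun i => by simp [φ']
    have hφ' : Function.Surjective φ' := fun y => by
      obtain ⟨x, rfl⟩ := hφ y
      exact ⟨rename (Fin.castAdd q) x, DFunLike.congr_fun hcomp x⟩
    haveI : Module.Projective Aa (Ω[Aa⁄R]) := inferInstance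
    let π := piMap (Aa := Aa) φ
    obtain ⟨sec, hsec⟩ := Module.projective_lifting_property π LinearMap.id (piMap_surjective φ hφ a)
    have hsec' : ∀ w, π (sec w) = w := DFunLike.congr_fun hsec
    let eK : (LinearMap.ker π × Ω[Aa⁄R]) ≃ₗ[Aa] (Fin n → Aa) :=
      { toLinearMap := (LinearMap.ker π).subtype.coprod sec
        invFun := fun v => (⟨v - sec (π v), by rw [LinearMap.mem_ker, map_sub, hsec', sub_self]⟩, π v)
        left_inv := fun x => by
          have h : π ((x.1 : Fin n → Aa) + sec x.2) = x.2 := by rw [map_add, x.1.2, hsec', zero_add]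
          refine Prod.ext (Subtype.ext ?_) h
          show (x.1 : Fin n → Aa) + sec x.2 - sec (π ((x.1 : Fin n → Aa) + sec x.2)) = x.1
          rw [h, add_sub_cancel_right]
        right_inv := fun v => sub_add_cancel v _ }
    have hπ' : ∀ v : Fin (n + q) → Aa, piMap φ' v = π fun i => v (Fin.castAdd q i) := by
      intro v
      simp only [π, piMap, Fintype.linearCombination_apply]
      rw [Fin.sum_univ_add]
      simp [φ']
    let eP : LinearMap.ker (piMap (Aa := Aa) φ') ≃ₗ[Aa] LinearMap.ker π × (Fin q → Aa) :=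
      { toFun := fun v => (⟨fun i => v.1 (Fin.castAdd q i), (hπ' v.1).symm.trans v.2⟩, fun j => v.1 (Fin.natAdd n j))
        map_add' := fun _ _ => rfl
        map_smul' := fun _ _ => rfl
        invFun := fun x => ⟨Fin.append x.1.1 x.2, by
          rw [LinearMap.mem_ker, hπ']
          simpa only [Fin.append_left] using (LinearMap.mem_ker.1 x.1.2)⟩
        left_inv := fun v => Subtype.ext (Fin.append_castAdd_natAdd)
        right_inv := fun x => Prod.ext (Subtype.ext (funext fun i => Fin.append_left _ _ i))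
          (funext fun j => Fin.append_right _ _ j) }
    let eB : LinearMap.ker (piMap (Aa := Aa) φ') ≃ₗ[Aa] (Fin (n + p) → Aa) :=
      eP ≪≫ₗ (LinearEquiv.refl Aa _).prodCongr e.symm ≪≫ₗ (LinearEquiv.prodAssoc Aa _ _ _).symm ≪≫ₗ
        eK.prodCongr (LinearEquiv.refl Aa _) ≪≫ₗ (LinearEquiv.sumArrowLequivProdArrow _ _ Aa Aa).symm ≪≫ₗ
          LinearEquiv.funCongrLeft Aa Aa finSumFinEquiv.symm
    obtain ⟨m, f, hf⟩ := Submodule.fg_iff_exists_fin_generating_family.1
      (Algebra.FinitePresentation.ker_fG_of_surjective φ' hφ')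
    exact isStrictlyStandard_pow_of_basis φ' hφ' f hf.symm a (Nat.add_le_add_left hpq n)
      (Module.Basis.ofEquivFun eB)

end Groth.Agent.CAlgH.StrictlyStandardPow
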