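import Groth.Prelude.Def_Smoothing
import Groth.Agent.S9431
import Groth.Agent.CAlgH.ResolveStep
import Groth.Agent.CAlgH.ResolveModPow
import Groth.Agent.CAlgH.DelocalizeWeak
import Groth.Agent.CAlgH.IndSmoothSquareZero
import Groth.Agent.CAlgH.RetractFreeKaehler
import Groth.Agent.CAlgH.StrictlyStandardPow
import Groth.Agent.CAlgH3.MiracleFlat
import Groth.Agent.CAlgH3.RegularCore
import Groth.Agent.EGA41Lib.RegularPow
import Groth.Agent.Misc15.KoszulTopLim
import Mathlib

/-! A regular local algebra over a field with separable residue field: every map into it from a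
finitely presented algebra which is smooth off the closed point factors through one smooth at it. -/

universe u

open MvPolynomial IsLocalRing RingTheory.Sequence

namespace Groth.Agent.CAlgH.RegularPoint

/-- A weakly regular family is regular modulo its predecessors. -/
theorem regular_mod_of_isWeaklyRegular {L : Type u} [CommRing L] {d : ℕ} (f : Fin d → L)
    (h : IsWeaklyRegular L (List.ofFn f)) (i : Fin d) (g : Fin d → L) (hg : ∀ j : Fin d, (j : ℕ) < i → g j = f j)
    (x : L ⧸ Ideal.span (Set.range fun j : {j : Fin d // (j : ℕ) < (i : ℕ)} => g j))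
    (hx : Ideal.Quotient.mk _ (f i) * x = 0) : x = 0 := by
  obtain ⟨x, rfl⟩ := Ideal.Quotient.mk_surjective x
  rw [← map_mul, Ideal.Quotient.eq_zero_iff_mem] at hx
  rw [Ideal.Quotient.eq_zero_iff_mem]
  have heq : (Ideal.ofList ((List.ofFn f).take i) • (⊤ : Submodule L L)) =
      Ideal.span (Set.range fun j : {j : Fin d // (j : ℕ) < (i : ℕ)} => g j) := by
    rw [Ideal.ofList, smul_eq_mul, Ideal.mul_top]
    congr 1
    ext y
    constructor
    · intro hy
      obtain ⟨j, hj, e⟩ := List.mem_take_iff_getElem.1 hy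
      simp only [List.length_ofFn] at hj
      refine ⟨⟨⟨j, by omega⟩, by show j < (i : ℕ); omega⟩, ?_⟩
      show g ⟨j, _⟩ = y
      rw [hg _ (by show j < (i : ℕ); omega), ← e]
      simp
    · rintro ⟨⟨j, hj⟩, rfl⟩
      show g j ∈ (List.ofFn f).take i
      rw [hg j hj, List.mem_take_iff_getElem]
      exact ⟨j, by simp [hj], by simp⟩
  have hreg := h.regular_mod_prev i (by simp)
  rw [List.getElem_ofFn] at hreg
  have h2 : (Submodule.Quotient.mk x : L ⧸ (Ideal.ofList ((List.ofFn f).take i) • (⊤ : Submodule L L))) = 0 := by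
    refine hreg ?_
    show f i • _ = f i • _
    rw [smul_zero, ← Submodule.Quotient.mk_smul, Submodule.Quotient.mk_eq_zero, heq]
    exact hx
  rwa [Submodule.Quotient.mk_eq_zero, heq] at h2

/-- Powers of a regular family satisfy the annihilator condition. -/
theorem pow_regular_mod {L : Type u} [CommRing L] {d : ℕ} (f : Fin d → L) (h : IsWeaklyRegular L (List.ofFn f))
    (c e : ℕ) (hc : 1 ≤ c) (he : 1 ≤ e) (i : Fin d)
    (x : L ⧸ Ideal.span (Set.range fun j : {j : Fin d // (j : ℕ) < (i : ℕ)} => (f j ^ c) ^ e))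
    (hx : Ideal.Quotient.mk _ (f i ^ c) ^ 2 * x = 0) : Ideal.Quotient.mk _ (f i ^ c) * x = 0 := by
  let v : Fin d → ℕ := fun j => if (j : ℕ) < i then c * e else c
  have h' := EGA41Lib.isWeaklyRegular_pow d f v (fun j => by simp only [v]; split_ifs <;> nlinarith) h
  have hg : ∀ j : Fin d, (j : ℕ) < i → (f j ^ c) ^ e = f j ^ v j := fun j hj => by
    simp only [v]
    rw [if_pos hj, ← pow_mul]
  have hi : f i ^ v i = f i ^ c := by simp [v]
  refine regular_mod_of_isWeaklyRegular (fun j => f j ^ v j) h' i (fun j => (f j ^ c) ^ e) hg _ ?_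
  rw [hi, ← mul_assoc, ← sq]
  exact hx

theorem pow_regular_mod' {L : Type u} [CommRing L] {d : ℕ} (f : Fin d → L) (h : IsWeaklyRegular L (List.ofFn f))
    (c e : ℕ) (hc : 1 ≤ c) (he : 1 ≤ e) (i : Fin d) (g : Fin d → L) (hg : ∀ j, g j = f j ^ c) :
    ∀ x : L ⧸ Ideal.span (Set.range fun j : {j : Fin d // (j : ℕ) < (i : ℕ)} => g j ^ e),
      Ideal.Quotient.mk _ (g i) ^ 2 * x = 0 → Ideal.Quotient.mk _ (g i) * x = 0 := by
  obtain rfl : g = fun j => f j ^ c := funext hg
  exact fun x hx => pow_regular_mod f h c e hc he i x hx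

theorem isWeaklyRegular_X (k : Type u) [CommRing k] (d : ℕ) :
    IsWeaklyRegular (MvPolynomial (Fin d) k) (List.ofFn fun i : Fin d => (X i : MvPolynomial (Fin d) k)) := by
  have h := Misc15.Koszul.isWeaklyRegular_vars_pow k d 1
  simpa [Function.comp_def] using h

theorem indSmooth_geometricallyReduced (k K : Type u) [Field k] [Field K] [Algebra k K]
    [Algebra.IsGeometricallyReduced k K] : Smoothing.IndSmooth k K := by
  classical
  intro A _ _ hA f
  obtain ⟨n, π, hπ, -⟩ := hA.out
  obtain ⟨S, hS, hsm⟩ := S9431.result k K (Finset.univ.image fun i => f (π (X i)))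
  have hmem : ∀ a, f a ∈ S := by
    intro a
    obtain ⟨p, rfl⟩ := hπ a
    induction p using MvPolynomial.induction_on with
    | C r =>
      rw [show f (π (MvPolynomial.C r)) = algebraMap k K r from (congrArg f (π.commutes r)).trans (f.commutes r)]
      exact S.algebraMap_mem r
    | add p q hp hq => rw [map_add, map_add]; exact add_mem hp hq
    | mul_X p i hp => rw [map_mul, map_mul]; exact mul_mem hp (hS (by simp))
  exact ⟨S, inferInstance, inferInstance, hsm, f.codRestrict S hmem, S.val, AlgHom.ext fun a => rfl⟩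

/-- The algebra forcing powers of the parameters into the ideal of the given elements. -/
theorem exists_parameter_algebra {k A L : Type u} [Field k] [CommRing A] [Algebra k A]
    [Algebra.FinitePresentation k A] [CommRing L] [Algebra k L] (φ : A →ₐ[k] L) {r d : ℕ} (a : Fin r → A)
    (hsm : ∀ j, Algebra.Smooth k (Localization.Away (a j))) (x : Fin d → L) (n : ℕ) (δ : Fin d → Fin r → L)
    (hx : ∀ i, x i ^ n = ∑ j, δ i j * φ (a j)) [Algebra (MvPolynomial (Fin d) k) L]
    [IsScalarTower k (MvPolynomial (Fin d) k) L]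
    (hX : ∀ i, algebraMap (MvPolynomial (Fin d) k) L (X i) = x i) :
    ∃ (A' : Type u) (_ : CommRing A') (_ : Algebra (MvPolynomial (Fin d) k) A') (_ : Algebra k A')
      (_ : IsScalarTower k (MvPolynomial (Fin d) k) A'),
      Algebra.FinitePresentation (MvPolynomial (Fin d) k) A' ∧
      ∃ (ι : A →ₐ[k] A') (φ' : A' →ₐ[MvPolynomial (Fin d) k] L), (∀ y, φ' (ι y) = φ y) ∧
        ∀ i, Algebra.Smooth (MvPolynomial (Fin d) k)
          (Localization.Away (algebraMap (MvPolynomial (Fin d) k) A' (X i))) := by
  classical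
  let V := MvPolynomial (Fin d ⊕ Fin d × Fin r) A
  let rel : Fin d → V := fun i => X (Sum.inl i) ^ n - ∑ j, C (a j) * X (Sum.inr (i, j))
  let A' := V ⧸ Ideal.span (Set.range rel)
  let mk : V →ₐ[k] A' := Ideal.Quotient.mkₐ k _
  let t : MvPolynomial (Fin d) k →ₐ[k] A' := aeval fun i => mk (X (Sum.inl i))
  letI : Algebra (MvPolynomial (Fin d) k) A' := t.toRingHom.toAlgebra
  haveI : IsScalarTower k (MvPolynomial (Fin d) k) A' := IsScalarTower.of_algebraMap_eq fun c => (t.commutes c).symm
  haveI : Algebra.FinitePresentation A V := inferInstance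
  haveI : Algebra.FinitePresentation A A' :=
    Algebra.FinitePresentation.quotient (Submodule.fg_span (Set.finite_range rel))
  haveI : Algebra.FinitePresentation k A' := Algebra.FinitePresentation.trans k A A'
  haveI : Algebra.FinitePresentation (MvPolynomial (Fin d) k) A' :=
    Algebra.FinitePresentation.of_restrict_scalars_finitePresentation k _ A'
  let ι : A →ₐ[k] A' := IsScalarTower.toAlgHom k A A'
  letI : Algebra A L := φ.toRingHom.toAlgebra
  haveI : IsScalarTower k A L := IsScalarTower.of_algebraMap_eq fun c => (φ.commutes c).symm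
  let ev : V →ₐ[A] L := aeval (Sum.elim x fun p => δ p.1 p.2)
  let φ₀ : A' →ₐ[A] L := Ideal.Quotient.liftₐ _ ev fun y hy => by
    refine (Ideal.span_le (I := RingHom.ker ev)).2 ?_ hy
    rintro _ ⟨i, rfl⟩
    show ev (rel i) = 0
    have hevX : ∀ v, ev (X v) = Sum.elim x (fun p => δ p.1 p.2) v := fun v => aeval_X _ v
    have hevC : ∀ c, ev (C c) = φ c := fun c => aeval_C _ c
    simp only [rel, map_sub, map_pow, map_sum, map_mul, hevX, hevC, Sum.elim_inl, Sum.elim_inr]
    rw [hx, sub_eq_zero]
    exact Finset.sum_congr rfl fun j _ => mul_comm _ _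
  let φ' : A' →ₐ[MvPolynomial (Fin d) k] L :=
    { φ₀.toRingHom with
      commutes' := fun p => by
        show (φ₀.restrictScalars k).comp t p = (IsScalarTower.toAlgHom k _ L) p
        congr 1
        refine MvPolynomial.algHom_ext fun i => ?_
        show φ₀ (t (X i)) = algebraMap _ L (X i)
        rw [hX, show t (X i) = mk (X (Sum.inl i)) from aeval_X _ _]
        exact aeval_X _ _ }
  refine ⟨A', inferInstance, inferInstance, inferInstance, inferInstance, inferInstance, ι, φ', fun y => ?_, fun i => ?_⟩
  · exact φ₀.commutes y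
  have hA : ∀ (j : Fin r), Algebra.Smooth (MvPolynomial (Fin d) k) (Localization.Away (algebraMap A A' (a j))) := by
    intro j
    let Al := Localization.Away (algebraMap A A' (a j))
    haveI : Algebra.FinitePresentation (MvPolynomial (Fin d) k) Al := Algebra.FinitePresentation.trans _ A' _
    refine ⟨?_, inferInstance⟩
    rw [Algebra.FormallySmooth.iff_comp_surjective]
    intro U _ _ J hJ g
    letI : Algebra k U := ((algebraMap (MvPolynomial (Fin d) k) U).comp (algebraMap k _)).toAlgebra
    haveI : IsScalarTower k (MvPolynomial (Fin d) k) U := IsScalarTower.of_algebraMap_eq' rfl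
    let g₀ : A' →ₐ[k] U ⧸ J := (g.restrictScalars k).comp (IsScalarTower.toAlgHom k A' Al)
    have hgu : IsUnit (g₀ (algebraMap A A' (a j))) :=
      (IsLocalization.Away.algebraMap_isUnit (S := Al) (algebraMap A A' (a j))).map g
    let gA : A →ₐ[k] U ⧸ J := g₀.comp ι
    let gAa : Localization.Away (a j) →ₐ[k] U ⧸ J := IsLocalization.liftAlgHom (M := Submonoid.powers (a j)) (f := gA) (by
      rintro ⟨_, m, rfl⟩
      show IsUnit (gA (a j ^ m))
      rw [map_pow]
      exact hgu.pow m)
    haveI := hsm j
    obtain ⟨h₀, hh₀⟩ := Algebra.FormallySmooth.comp_surjective k (Localization.Away (a j)) J hJ gAa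
    let hA : A →ₐ[k] U := h₀.comp (IsScalarTower.toAlgHom k A _)
    have hhA : ∀ y, Ideal.Quotient.mk J (hA y) = gA y := fun y =>
      (DFunLike.congr_fun hh₀ (algebraMap A _ y)).trans (IsLocalization.lift_eq _ y)
    have hau : IsUnit (hA (a j)) := (IsLocalization.Away.algebraMap_isUnit (a j)).map h₀
    let T : Fin d → U := fun l => algebraMap (MvPolynomial (Fin d) k) U (X l)
    have hT : ∀ l, Ideal.Quotient.mk J (T l) = g₀ (mk (X (Sum.inl l))) := fun l => by
      show algebraMap (MvPolynomial (Fin d) k) (U ⧸ J) (X l) = _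
      rw [← g.commutes, IsScalarTower.algebraMap_apply (MvPolynomial (Fin d) k) A' Al,
        show algebraMap (MvPolynomial (Fin d) k) A' (X l) = mk (X (Sum.inl l)) from aeval_X _ _]
      rfl
    choose z hz using fun p : Fin d × Fin r => Ideal.Quotient.mk_surjective (g₀ (mk (X (Sum.inr p))))
    let z' : Fin d × Fin r → U := fun p => if p.2 = j then
        ↑hau.unit⁻¹ * (T p.1 ^ n - ∑ l ∈ Finset.univ.erase j, hA (a l) * z (p.1, l)) else z p
    letI : Algebra A U := hA.toRingHom.toAlgebra
    let evU : V →ₐ[A] U := aeval (Sum.elim T z')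
    have hevU : ∀ y ∈ Ideal.span (Set.range rel), evU y = 0 := by
      intro y hy
      refine (Ideal.span_le (I := RingHom.ker evU)).2 ?_ hy
      rintro _ ⟨l, rfl⟩
      show evU (rel l) = 0
      have hevX : ∀ v, evU (X v) = Sum.elim T z' v := fun v => aeval_X _ v
      have hevC : ∀ c, evU (C c) = hA c := fun c => aeval_C _ c
      simp only [rel, map_sub, map_pow, map_sum, map_mul, hevX, hevC, Sum.elim_inl, Sum.elim_inr]
      rw [← Finset.add_sum_erase _ _ (Finset.mem_univ j)]
      rw [Finset.sum_congr rfl (fun m (hm : m ∈ Finset.univ.erase j) =>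
        show hA (a m) * z' (l, m) = hA (a m) * z (l, m) by simp only [z', if_neg (Finset.ne_of_mem_erase hm)])]
      simp only [z', if_true]
      rw [← mul_assoc, hau.mul_val_inv, one_mul]
      ring
    let h₁ : A' →ₐ[A] U := Ideal.Quotient.liftₐ _ evU hevU
    have hcomp : ∀ y, Ideal.Quotient.mk J (h₁ y) = g₀ y := by
      have hrel0 : ∀ l, g₀ (mk (rel l)) = 0 := fun l => by
        rw [show mk (rel l) = 0 from Ideal.Quotient.eq_zero_iff_mem.2 (Ideal.subset_span ⟨l, rfl⟩), map_zero]
      have : (Ideal.Quotient.mk J).comp evU.toRingHom = g₀.toRingHom.comp mk.toRingHom := by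
        refine MvPolynomial.ringHom_ext (fun y => ?_) fun v => ?_
        · show Ideal.Quotient.mk J (evU (C y)) = g₀ (mk (C y))
          rw [show evU (C y) = hA y from aeval_C _ _, hhA]
          rfl
        · show Ideal.Quotient.mk J (evU (X v)) = g₀ (mk (X v))
          rw [show evU (X v) = Sum.elim T z' v from aeval_X _ _]
          rcases v with l | ⟨l, m⟩
          · exact hT l
          by_cases hm : m = j
          · subst hm
            have h0 := hrel0 l
            simp only [rel, map_sub, map_pow, map_sum, map_mul, ← Finset.add_sum_erase _ _ (Finset.mem_univ m)] at h0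
            simp only [Sum.elim_inr, z', if_true, map_mul, map_sub, map_pow, map_sum, hhA, hz, hT]
            have hu : Ideal.Quotient.mk J (↑hau.unit⁻¹ : U) * gA (a m) = 1 := by
              rw [← hhA, ← map_mul, hau.val_inv_mul, map_one]
            have hC : ∀ q, g₀ (mk (C (a q))) = gA (a q) := fun q => rfl
            simp only [map_add, map_sum, map_mul, hC] at h0
            linear_combination (Ideal.Quotient.mk J (↑hau.unit⁻¹ : U)) * h0 + g₀ (mk (X (Sum.inr (l, m)))) * hu
          · simp only [Sum.elim_inr, z', if_neg hm]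
            exact hz (l, m)
      intro y
      obtain ⟨y, rfl⟩ := Ideal.Quotient.mk_surjective y
      exact DFunLike.congr_fun this y
    let h₂ : A' →ₐ[MvPolynomial (Fin d) k] U :=
      { h₁.toRingHom with
        commutes' := fun p => by
          let h₁k : A' →ₐ[k] U :=
            { h₁.toRingHom with
              commutes' := fun c => by
                show h₁ (algebraMap k A' c) = _
                rw [IsScalarTower.algebraMap_apply k A A', h₁.commutes]
                exact hA.commutes c }
          show h₁k.comp t p = (IsScalarTower.toAlgHom k _ U) p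
          congr 1
          refine MvPolynomial.algHom_ext fun l => ?_
          show h₁ (t (X l)) = algebraMap _ U (X l)
          rw [show t (X l) = mk (X (Sum.inl l)) from aeval_X _ _]
          exact aeval_X _ _ }
    refine ⟨IsLocalization.liftAlgHom (M := Submonoid.powers (algebraMap A A' (a j))) (f := h₂) (by
      rintro ⟨_, m, rfl⟩
      show IsUnit (h₁ (algebraMap A A' (a j) ^ m))
      rw [map_pow, h₁.commutes]
      exact hau.pow m), AlgHom.coe_ringHom_injective (IsLocalization.ringHom_ext (Submonoid.powers (algebraMap A A' (a j)))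
        (RingHom.ext fun y => ?_))⟩
    show Ideal.Quotient.mk J (IsLocalization.liftAlgHom (M := Submonoid.powers (algebraMap A A' (a j))) (f := h₂) _
      (algebraMap A' Al y)) = g₀ y
    rw [IsLocalization.liftAlgHom_apply, IsLocalization.lift_eq]
    exact hcomp y
  rw [← Algebra.basicOpen_subset_smoothLocus_iff_smooth]
  intro P hP
  obtain ⟨j, hj⟩ : ∃ j, algebraMap A A' (a j) ∉ P.asIdeal := by
    by_contra hno
    push Not at hno
    refine hP (P.2.mem_of_pow_mem n ?_)
    rw [show algebraMap (MvPolynomial (Fin d) k) A' (X i) = mk (X (Sum.inl i)) from aeval_X _ _, ← map_pow,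
      show (X (Sum.inl i) : V) ^ n = rel i + ∑ j, C (a j) * X (Sum.inr (i, j)) from (sub_add_cancel _ _).symm, map_add,
      show mk (rel i) = 0 from Ideal.Quotient.eq_zero_iff_mem.2 (Ideal.subset_span ⟨i, rfl⟩), zero_add, map_sum]
    exact sum_mem fun l _ => by rw [map_mul]; exact Ideal.mul_mem_right _ _ (hno l)
  exact (Algebra.basicOpen_subset_smoothLocus_iff_smooth.2 (hA j)) hj

/-- Regular systems of parameters make a regular local algebra flat over the polynomial ring. -/
theorem exists_parameters (k L : Type u) [Field k] [CommRing L] [Algebra k L] [IsRegularLocalRing L] :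
    ∃ (d : ℕ) (x : Fin d → L), Ideal.span (Set.range x) = maximalIdeal L ∧ IsWeaklyRegular L (List.ofFn x) ∧
      ∀ [Algebra (MvPolynomial (Fin d) k) L] [IsScalarTower k (MvPolynomial (Fin d) k) L],
        (∀ i, algebraMap (MvPolynomial (Fin d) k) L (X i) = x i) → Module.Flat (MvPolynomial (Fin d) k) L := by
  obtain ⟨rs, hlen, hspan, hreg⟩ := CAlgH3.exists_isRegular_ofList_eq_maximalIdeal (R := L)
  let x : Fin rs.length → L := fun i => rs[i]
  have hof : List.ofFn x = rs := List.ofFn_getElem ..
  have hx : Ideal.span (Set.range x) = maximalIdeal L := by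
    rw [← hspan, Ideal.ofList]
    congr 1
    ext y
    conv_rhs => rw [Set.mem_setOf_eq, ← hof, List.mem_ofFn]
    rfl
  refine ⟨rs.length, x, hx, hof.symm ▸ hreg.toIsWeaklyRegular, fun {_ _} hX => ?_⟩
  let P := MvPolynomial (Fin rs.length) k
  let 𝔭 : Ideal P := (maximalIdeal L).comap (algebraMap P L)
  haveI : 𝔭.IsPrime := Ideal.IsPrime.comap _
  have hXp : ∀ i, (X i : P) ∈ 𝔭 := fun i => by
    show algebraMap P L (X i) ∈ maximalIdeal L
    rw [hX, ← hx]; exact Ideal.subset_span ⟨i, rfl⟩
  have h𝔭 : 𝔭 = Ideal.span (Set.range (X : Fin rs.length → P)) := by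
    refine le_antisymm (fun p hp => ?_) (Ideal.span_le.2 (by rintro _ ⟨i, rfl⟩; exact hXp i))
    have hsub : p - C (constantCoeff p) ∈ Ideal.span (Set.range (X : Fin rs.length → P)) := by
      clear hp
      induction p using MvPolynomial.induction_on with
      | C c => simp
      | add p q hp hq => rw [map_add, map_add, add_sub_add_comm]; exact add_mem hp hq
      | mul_X p i hp =>
        rw [map_mul, constantCoeff_X, mul_zero, map_zero, sub_zero]
        exact Ideal.mul_mem_left _ _ (Ideal.subset_span ⟨i, rfl⟩)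
    by_contra hpn
    have hc : constantCoeff p ≠ 0 := fun h => hpn (by simpa [h] using hsub)
    have h1 : C (constantCoeff p) ∈ 𝔭 := by
      have := sub_mem hp ((Ideal.span_le.2 (by rintro _ ⟨i, rfl⟩; exact hXp i) : _ ≤ 𝔭) hsub)
      simpa using this
    exact ‹𝔭.IsPrime›.ne_top (Ideal.eq_top_of_isUnit_mem _ h1 ((isUnit_iff_ne_zero.2 hc).map C))
  let P₀ := Localization.AtPrime 𝔭
  haveI : IsRegularLocalRing P₀ := IsRegularRing.isRegularLocalRing_localization 𝔭
  have hu : ∀ y : 𝔭.primeCompl, IsUnit (algebraMap P L y) := fun y => by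
    by_contra hy
    exact y.2 ((IsLocalRing.mem_maximalIdeal _).2 hy)
  letI : Algebra P₀ L := (IsLocalization.lift (M := 𝔭.primeCompl) (g := algebraMap P L) hu).toAlgebra
  haveI : IsScalarTower P P₀ L := IsScalarTower.of_algebraMap_eq fun y => (IsLocalization.lift_eq _ y).symm
  have hm₀ : maximalIdeal P₀ = Ideal.span (Set.range fun i => algebraMap P P₀ (X i)) := by
    rw [← Localization.AtPrime.map_eq_maximalIdeal, congrArg (Ideal.map (algebraMap P P₀)) h𝔭, Ideal.map_span, ← Set.range_comp]
    rfl
  have hmap : (maximalIdeal P₀).map (algebraMap P₀ L) = maximalIdeal L := by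
    rw [hm₀, Ideal.map_span, ← Set.range_comp, ← hx]
    congr 2
    funext i
    show algebraMap P₀ L (algebraMap P P₀ (X i)) = x i
    rw [← IsScalarTower.algebraMap_apply, hX]
  haveI : IsLocalHom (algebraMap P₀ L) := by
    refine ((IsLocalRing.local_hom_TFAE (algebraMap P₀ L)).out 0 2).2 ?_
    exact hmap.le
  have hreg₀ : IsRegular P₀ ((List.ofFn fun i : Fin rs.length => (X i : P)).map (algebraMap P P₀)) := by
    refine (IsLocalRing.isRegular_iff_isWeaklyRegular_of_subset_maximalIdeal fun y hy => ?_).2
      (IsWeaklyRegular.of_flat (isWeaklyRegular_X k rs.length))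
    obtain ⟨z, hz, rfl⟩ := List.mem_map.1 hy
    obtain ⟨i, rfl⟩ := List.mem_ofFn.1 hz
    rw [hm₀]
    exact Ideal.subset_span ⟨i, rfl⟩
  have hl₀ : Ideal.ofList ((List.ofFn fun i : Fin rs.length => (X i : P)).map (algebraMap P P₀)) = maximalIdeal P₀ := by
    rw [hm₀, Ideal.ofList]
    congr 1
    ext y
    simp [List.mem_map, List.mem_ofFn]
  have hdim : ∀ {S : Type u} [CommRing S] [IsLocalRing S] [IsNoetherianRing S] (l : List S),
      IsRegular S l → Ideal.ofList l = maximalIdeal S → ringKrullDim S = (l.length : WithBot ℕ∞) := by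
    intro S _ _ _ l hl hlm
    rw [← ringKrullDim_add_length_eq_ringKrullDim_of_isRegular l hl]
    haveI : (Ideal.ofList l).IsMaximal := hlm ▸ maximalIdeal.isMaximal S
    rw [ringKrullDim_eq_zero_of_isField ((Ideal.Quotient.maximal_ideal_iff_isField_quotient _).1 inferInstance), zero_add]
  haveI := CAlgH3.isCohenMacaulayLocalRing_of_regular L
  haveI : Module.Flat P₀ L := by
    refine CAlgH3.flat_of_dim_eq _ P₀ rfl L ?_
    rw [hdim _ hreg₀ hl₀, hdim _ hreg hspan, List.length_map, List.length_ofFn,
      ringKrullDim_eq_zero_of_isField, add_zero]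
    exact (Ideal.Quotient.maximal_ideal_iff_isField_quotient _).1 (by rw [hmap]; exact maximalIdeal.isMaximal L)
  haveI : Module.Flat P P₀ := IsLocalization.flat P₀ 𝔭.primeCompl
  exact Module.Flat.trans P P₀ L

end Groth.Agent.CAlgH.RegularPoint
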