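import Groth.Agent.QReg6.Regular
import Groth.Agent.EGA41Lib.QuasiRegular
import Groth.Agent.CAlgH.TorDimInjective
import Groth.Agent.S5802
import Mathlib.LinearAlgebra.Matrix.InvariantBasisNumber

/-!
# Ideals generated by regular sequences in Noetherian local rings
-/

universe u

set_option autoImplicit false

open IsLocalRing RingTheory.Sequence

namespace Groth.Agent.CAlgH.RegularIdealLocal

variable {A : Type u} [CommRing A] [IsLocalRing A]

/-- `f` is linearly independent in `J/mJ`. -/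
def IndepMod (J : Ideal A) {c : ℕ} (f : Fin c → A) : Prop :=
  ∀ a : Fin c → A, ∑ i, a i * f i ∈ maximalIdeal A * J → ∀ i, a i ∈ maximalIdeal A

theorem exists_sum_of_mem_mul_span {I : Ideal A} {c : ℕ} {f : Fin c → A} {x : A}
    (hx : x ∈ I * Ideal.span (Set.range f)) : ∃ a : Fin c → A, (∀ i, a i ∈ I) ∧ ∑ i, a i * f i = x := by
  induction hx using Submodule.mul_induction_on' with
  | mem_mul_mem r hr s hs =>
    obtain ⟨b, rfl⟩ := Ideal.mem_span_range_iff_exists_fun.1 hs
    exact ⟨fun i => r * b i, fun i => I.mul_mem_right _ hr, by simp [Finset.mul_sum, mul_assoc]⟩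
  | add x _ y _ hx hy =>
    obtain ⟨a, ha, rfl⟩ := hx
    obtain ⟨b, hb, rfl⟩ := hy
    exact ⟨a + b, fun i => I.add_mem (ha i) (hb i), by simp [add_mul, Finset.sum_add_distrib]⟩

theorem eval_sum_C_mul_X {c : ℕ} (a f : Fin c → A) :
    MvPolynomial.eval f (∑ i, MvPolynomial.C (a i) * MvPolynomial.X i) = ∑ i, a i * f i := by
  simp

/-- A quasi-regular family in the maximal ideal is independent modulo `mJ`. -/
theorem indepMod_of_isQuasiRegular {c : ℕ} {f : Fin c → A} (hf : CAlgX.IsQuasiRegular f)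
    (hm : ∀ i, f i ∈ maximalIdeal A) : IndepMod (Ideal.span (Set.range f)) f := by
  intro a ha i
  obtain ⟨b, hb, hab⟩ := exists_sum_of_mem_mul_span ha
  have h := QReg6.mem_of_sum_mem_sq hf (fun i => a i - b i) (by
    simp only [sub_mul, Finset.sum_sub_distrib, hab, sub_self]
    exact zero_mem _) i
  have hle : Ideal.span (Set.range f) ≤ maximalIdeal A := Ideal.span_le.2 (Set.range_subset_iff.2 hm)
  simpa using (maximalIdeal A).add_mem (hle h) (hb i)

/-- Two independent generating families have the same cardinality. -/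
theorem card_eq {J : Ideal A} {c d : ℕ} {f : Fin c → A} {g : Fin d → A}
    (hfJ : Ideal.span (Set.range f) = J) (hgJ : Ideal.span (Set.range g) = J) (hf : IndepMod J f)
    (hg : IndepMod J g) : c = d := by
  classical
  have hU : ∀ i, ∃ u : Fin c → A, ∑ j, u j * f j = g i := fun i =>
    Ideal.mem_span_range_iff_exists_fun.mp (hfJ ▸ hgJ ▸ Ideal.subset_span ⟨i, rfl⟩)
  have hV : ∀ j, ∃ v : Fin d → A, ∑ i, v i * g i = f j := fun j =>
    Ideal.mem_span_range_iff_exists_fun.mp (hgJ ▸ hfJ ▸ Ideal.subset_span ⟨j, rfl⟩)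
  choose U hU using hU
  choose V hV using hV
  have key : ∀ (p q : ℕ) (u : Fin p → A) (v : Fin q → A), IndepMod J u → ∀ (M : Fin p → Fin q → A)
      (N : Fin q → Fin p → A), (∀ i, ∑ j, M i j * v j = u i) → (∀ j, ∑ i, N j i * u i = v j) →
      (Matrix.of M * Matrix.of N).map (residue A) = 1 := by
    intro p q u v hu M N hM hN
    ext i k
    have h0 : ∑ k, ((∑ j, M i j * N j k) - if i = k then 1 else 0) * u k = 0 := by
      simp only [sub_mul, Finset.sum_sub_distrib, Finset.sum_mul, mul_assoc]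
      rw [Finset.sum_comm]
      simp [← Finset.mul_sum, hN, hM]
    have h1 := hu _ (h0 ▸ zero_mem _) k
    rw [← residue_eq_zero_iff, map_sub, sub_eq_zero] at h1
    simpa [Matrix.mul_apply, Matrix.one_apply, apply_ite (residue A)] using h1
  have h1 := key _ _ g f hg U V hU hV
  have h2 := key _ _ f g hf V U hV hU
  rw [Matrix.map_mul] at h1 h2
  have h3 := Matrix.square_of_invertible _ _ h1 h2
  simpa using h3.symm

variable [IsNoetherianRing A]

/-- Extend an independent family to an independent generating family. -/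
theorem exists_extension {J : Ideal A} {c : ℕ} {x : Fin c → A} (hxJ : ∀ i, x i ∈ J)
    (hx : IndepMod J x) :
    ∃ (r : ℕ) (b : Fin r → A), Ideal.span (Set.range (Fin.append x b)) = J ∧
      IndepMod J (Fin.append x b) := by
  classical
  have hne : ∃ r, ∃ b : Fin r → A, Ideal.span (Set.range (Fin.append x b)) = J := by
    obtain ⟨n, b, hb⟩ := Submodule.fg_iff_exists_fin_generating_family.1 (IsNoetherian.noetherian J)
    refine ⟨n, b, le_antisymm (Ideal.span_le.2 (Set.range_subset_iff.2 (Fin.addCases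
      (fun i => by simpa using hxJ i) fun i => by
        simpa using (hb ▸ Submodule.subset_span ⟨i, rfl⟩ : b i ∈ J)))) ?_⟩
    conv_lhs => rw [← hb]
    exact Ideal.span_le.2 (Set.range_subset_iff.2 fun i =>
      Ideal.subset_span ⟨Fin.natAdd c i, by simp⟩)
  obtain ⟨b, hb⟩ := Nat.find_spec hne
  refine ⟨_, b, hb, fun a ha => ?_⟩
  have hright : ∀ j, a (Fin.natAdd c j) ∈ maximalIdeal A := by
    intro j
    by_contra hj
    obtain ⟨r, hr⟩ : ∃ r, Nat.find hne = r + 1 := ⟨Nat.find hne - 1, by have := j.isLt; omega⟩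
    refine Nat.find_min hne (m := r) (by omega) ?_
    revert b a j
    rw [hr]
    intro b hb a ha j hj
    refine ⟨b ∘ j.succAbove, le_antisymm (Ideal.span_le.2 (Set.range_subset_iff.2 (Fin.addCases
      (fun i => by simpa using hxJ i) fun i => by
        simpa using (hb ▸ Ideal.subset_span ⟨Fin.natAdd c (j.succAbove i), by simp⟩ :
          b (j.succAbove i) ∈ J)))) ?_⟩
    set S := Ideal.span (Set.range (Fin.append x (b ∘ j.succAbove))) with hS
    refine Submodule.le_of_le_smul_of_le_jacobson_bot (IsNoetherian.noetherian J)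
      (maximalIdeal_le_jacobson _) ?_
    nth_rw 1 [← hb]
    refine Ideal.span_le.2 (Set.range_subset_iff.2 (Fin.addCases (fun i => ?_) fun i => ?_))
    · exact Submodule.mem_sup_left (Ideal.subset_span ⟨Fin.castAdd r i, by simp⟩)
    rcases eq_or_ne i j with rfl | hi
    swap
    · obtain ⟨i, rfl⟩ := Fin.exists_succAbove_eq hi
      exact Submodule.mem_sup_left (Ideal.subset_span ⟨Fin.natAdd c i, by simp⟩)
    rw [mem_maximalIdeal, mem_nonunits_iff, not_not] at hj
    rw [SetLike.mem_coe, Fin.append_right, ← Ideal.unit_mul_mem_iff_mem _ hj]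
    have hsplit : a (Fin.natAdd c i) * b i =
        (∑ k, a k * Fin.append x b k) - ((∑ k, a (Fin.castAdd (r + 1) k) * x k) +
          ∑ k : Fin r, a (Fin.natAdd c (i.succAbove k)) * b (i.succAbove k)) := by
      simp [Fin.sum_univ_add, Fin.sum_univ_succAbove _ i]
    rw [hsplit]
    refine sub_mem (Submodule.mem_sup_right (by simpa using ha)) (Submodule.mem_sup_left (add_mem
      (sum_mem fun k _ => Ideal.mul_mem_left _ _ ?_) (sum_mem fun k _ => Ideal.mul_mem_left _ _ ?_)))
    · exact Ideal.subset_span ⟨Fin.castAdd r k, by simp⟩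
    · exact Ideal.subset_span ⟨Fin.natAdd c k, by simp⟩
  have hleft := hx (fun i => a (Fin.castAdd _ i)) (by
    have h2 : ∑ j, a (Fin.natAdd c j) * b j ∈ maximalIdeal A * J := sum_mem fun j _ =>
      Ideal.mul_mem_mul (hright j) (hb ▸ Ideal.subset_span ⟨Fin.natAdd c j, by simp⟩)
    have := sub_mem ha h2
    simpa [Fin.sum_univ_add] using this)
  exact Fin.addCases hleft hright

theorem exists_minimal (J : Ideal A) : ∃ (r : ℕ) (b : Fin r → A),
    Ideal.span (Set.range b) = J ∧ IndepMod J b := by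
  obtain ⟨r, b, hb, hb'⟩ := exists_extension (J := J) (x := (Fin.elim0 : Fin 0 → A))
    (fun i => i.elim0) (fun _ _ i => i.elim0)
  exact ⟨_, _, hb, hb'⟩

theorem ofList_ofFn {c : ℕ} (f : Fin c → A) : Ideal.ofList (List.ofFn f) = Ideal.span (Set.range f) := by
  rw [Ideal.ofList]; congr 1; ext; simp [List.mem_ofFn, eq_comm]

theorem isRegular_of_mem {rs : List A} (h : IsWeaklyRegular A rs) (hm : ∀ r ∈ rs, r ∈ maximalIdeal A) :
    IsRegular A rs :=
  (IsLocalRing.isRegular_iff_isWeaklyRegular_of_subset_maximalIdeal hm).2 h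

/-- A minimal generating family of an ideal generated by a regular sequence is regular. -/
theorem isWeaklyRegular_of_indepMod {J : Ideal A} (hJ : J ≤ maximalIdeal A) {rs : List A}
    (hrs : IsWeaklyRegular A rs) (hrsJ : Ideal.ofList rs = J) {c : ℕ} {g : Fin c → A}
    (hgJ : Ideal.span (Set.range g) = J) (hg : IndepMod J g) :
    IsWeaklyRegular A (List.ofFn g) := by
  have hspan : Ideal.span (Set.range rs.get) = J := by rw [← ofList_ofFn, List.ofFn_get, hrsJ]
  have hq : CAlgX.IsQuasiRegular rs.get :=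
    S5802.result A rs.length rs.get (by rwa [List.ofFn_get])
  have hi : IndepMod J rs.get := hspan ▸ indepMod_of_isQuasiRegular hq fun i =>
    hJ (hspan ▸ Ideal.subset_span ⟨i, rfl⟩)
  obtain rfl : rs.length = c := card_eq hspan hgJ hi hg
  refine EGA41Lib.isWeaklyRegular_of_isQuasiRegular _ A g (fun i m hm => ?_)
    (QReg6.isQuasiRegular_of_span_eq hq (hgJ.trans hspan.symm))
  rw [IsLocalRing.eq_maximalIdeal hm]
  exact hJ (hgJ ▸ Ideal.subset_span ⟨i, rfl⟩)

/-- If `J` is generated by a regular sequence and `I ∩ mJ = mI`, then `I` is generated by a regular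
sequence and so is `J/I`. -/
theorem regular_sub_and_quotient (I J : Ideal A) (hIJ : I ≤ J) (hJ : J ≠ ⊤)
    (hJreg : ∃ rs : List A, Ideal.ofList rs = J ∧ IsRegular A rs)
    (h : ∀ x ∈ I, x ∈ maximalIdeal A * J → x ∈ maximalIdeal A * I) :
    (∃ rs : List A, Ideal.ofList rs = I ∧ IsRegular A rs) ∧
      ∃ rs' : List (A ⧸ I), Ideal.ofList rs' = J.map (Ideal.Quotient.mk I) ∧
        IsRegular (A ⧸ I) rs' := by
  obtain ⟨rs, hrsJ, hrs⟩ := hJreg
  have hJm := le_maximalIdeal hJ
  obtain ⟨c, x, hxI, hx⟩ := exists_minimal I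
  have hxmem : ∀ i, x i ∈ I := fun i => hxI ▸ Ideal.subset_span ⟨i, rfl⟩
  have hxJ : IndepMod J x := fun a ha => hx a (h _ (sum_mem fun i _ => I.mul_mem_left _ (hxmem i)) ha)
  obtain ⟨r, b, hbJ, hb⟩ := exists_extension (fun i => hIJ (hxmem i)) hxJ
  have hreg := isWeaklyRegular_of_indepMod hJm hrs.toIsWeaklyRegular hrsJ hbJ hb
  rw [List.ofFn_fin_append, isWeaklyRegular_append_iff] at hreg
  obtain ⟨hreg₁, hreg₂⟩ := hreg
  have hxl : Ideal.ofList (List.ofFn x) = I := by rw [ofList_ofFn, hxI]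
  have hbm : ∀ j, b j ∈ J := fun j => hbJ ▸ Ideal.subset_span ⟨Fin.natAdd c j, by simp⟩
  refine ⟨⟨_, hxl, isRegular_of_mem hreg₁ (by simpa [List.mem_ofFn] using fun i => hJm (hIJ (hxmem i)))⟩, ?_⟩
  subst hxl
  have hJeq : J = Ideal.ofList (List.ofFn x) ⊔ Ideal.ofList (List.ofFn b) := by
    rw [← hbJ, ← ofList_ofFn, List.ofFn_fin_append, Ideal.ofList_append]
  have : Nontrivial (A ⧸ Ideal.ofList (List.ofFn x)) :=
    Ideal.Quotient.nontrivial_iff.2 fun e => hJ (top_le_iff.1 (e ▸ hIJ))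
  have : IsLocalRing (A ⧸ Ideal.ofList (List.ofFn x)) :=
    .of_surjective' _ Ideal.Quotient.mk_surjective
  have : IsLocalHom (Ideal.Quotient.mk (Ideal.ofList (List.ofFn x))) :=
    .of_surjective _ Ideal.Quotient.mk_surjective
  refine ⟨(List.ofFn b).map (Ideal.Quotient.mk _), ?_, ?_⟩
  · rw [← Ideal.map_ofList, hJeq, Ideal.map_sup, Ideal.map_quotient_self, bot_sup_eq]
  · refine (IsLocalRing.isRegular_iff_isWeaklyRegular_of_subset_maximalIdeal ?_).2
      ((isWeaklyRegular_map_algebraMap_iff (A ⧸ Ideal.ofList (List.ofFn x))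
        (A ⧸ Ideal.ofList (List.ofFn x)) (List.ofFn b)).2 (((Submodule.quotEquivOfEq _ _
          (by rw [smul_eq_mul, Ideal.mul_top])).isWeaklyRegular_congr _).1 hreg₂))
    intro y hy
    simp only [List.mem_map, List.mem_ofFn] at hy
    obtain ⟨_, ⟨j, rfl⟩, rfl⟩ := hy
    exact map_nonunit _ _ (hJm (hbm j))

/-- `I ∩ mK = mI` when `K/I` is generated by a regular sequence. -/
theorem mem_maximalIdeal_mul_of_regular_quotient {I K : Ideal A} (hIK : I ≤ K)
    (hK : K ≤ maximalIdeal A) (hKI : ∃ rs' : List (A ⧸ I), Ideal.ofList rs' = K.map (Ideal.Quotient.mk I) ∧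
      IsWeaklyRegular (A ⧸ I) rs') :
    ∀ x ∈ I, x ∈ maximalIdeal A * K → x ∈ maximalIdeal A * I := by
  obtain ⟨rs', hrs', hreg⟩ := hKI
  have hlift : ∀ y : A ⧸ I, ∃ z : A, Ideal.Quotient.mk I z = y := Ideal.Quotient.mk_surjective
  choose s hs using hlift
  let rs := rs'.map s
  have hmap : rs.map (Ideal.Quotient.mk I) = rs' := by simp [rs, Function.comp_def, hs]
  have hregA : IsWeaklyRegular (A ⧸ I) rs := by
    rw [← isWeaklyRegular_map_algebraMap_iff (A ⧸ I)]
    exact hmap.symm ▸ hreg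
  have hregf : IsWeaklyRegular (A ⧸ I) (List.ofFn rs.get) := by rwa [List.ofFn_get]
  have hspan : Ideal.span (Set.range rs.get) = Ideal.ofList rs := by rw [← ofList_ofFn, List.ofFn_get]
  have hinf : I ⊓ Ideal.ofList rs = I * Ideal.ofList rs := by
    simpa [hspan] using QReg6.inf_pow_eq_mul hregf 1
  have hKeq : K = I ⊔ Ideal.ofList rs := by
    have h2 : K.map (Ideal.Quotient.mk I) = (Ideal.ofList rs).map (Ideal.Quotient.mk I) := by
      rw [Ideal.map_ofList, hmap, hrs']
    have := congrArg (Ideal.comap (Ideal.Quotient.mk I)) h2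
    rw [Ideal.comap_map_of_surjective' _ Ideal.Quotient.mk_surjective,
      Ideal.comap_map_of_surjective' _ Ideal.Quotient.mk_surjective, Ideal.mk_ker,
      sup_eq_left.2 hIK, sup_comm] at this
    exact this
  have hrsK : Ideal.ofList rs ≤ K := hKeq ▸ le_sup_right
  intro x hxI hx
  rw [hKeq, Ideal.mul_sup] at hx
  obtain ⟨u, hu, v, hv, rfl⟩ := Submodule.mem_sup.1 hx
  refine add_mem hu ?_
  have hv' : v ∈ I ⊓ Ideal.ofList rs :=
    ⟨(Submodule.add_mem_iff_right I (Ideal.mul_le_right hu)).1 hxI, Ideal.mul_le_right hv⟩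
  rw [hinf, mul_comm] at hv'
  exact Ideal.mul_mono_left (hrsK.trans hK) hv'

/-- If `g` is regular on `A` and on `A/c` with `c ⊆ (g)`, then `c = 0`. -/
theorem eq_bot_of_le {gs : List A} (hm : ∀ g ∈ gs, g ∈ maximalIdeal A) (c : Ideal A)
    (hc : c ≤ Ideal.ofList gs) (hcreg : IsWeaklyRegular (A ⧸ c) (gs.map (Ideal.Quotient.mk c))) :
    c = ⊥ := by
  have hregA : IsWeaklyRegular (A ⧸ c) (List.ofFn gs.get) := by
    rw [List.ofFn_get, ← isWeaklyRegular_map_algebraMap_iff (A ⧸ c)]
    exact hcreg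
  have hspan : Ideal.span (Set.range gs.get) = Ideal.ofList gs := by rw [← ofList_ofFn, List.ofFn_get]
  have h := QReg6.inf_pow_eq_mul hregA 1
  rw [pow_one, hspan, inf_eq_left.2 hc] at h
  refine Submodule.eq_bot_of_le_smul_of_le_jacobson_bot (Ideal.ofList gs) c (IsNoetherian.noetherian _)
    ?_ ((Ideal.span_le.2 fun g hg => hm g hg).trans (maximalIdeal_le_jacobson _))
  rw [smul_eq_mul, mul_comm, ← h]

end Groth.Agent.CAlgH.RegularIdealLocal
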