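import Groth.Agent.CAlgH3.CohenMacaulay
import Mathlib.RingTheory.Regular.Flat

/-!
# Depth at the primes containing an ideal and regular sequences in the ideal
-/

universe u v

set_option autoImplicit false

open IsLocalRing RingTheory.Sequence

namespace Groth.Agent.CAlgH.DepthCriterion

variable {A : Type u} [CommRing A] [IsNoetherianRing A]

theorem exists_regular_of_depth {M : Type u} [AddCommGroup M] [Module A M] [Module.Finite A M]
    (I : Ideal A) {r : ℕ} (hr : 1 ≤ r)
    (h : ∀ (p : Ideal A) [p.IsPrime], I ≤ p →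
      (r : ℕ∞) ≤ LocCoh.depth (Localization.AtPrime p) (LocalizedModule p.primeCompl M)) :
    ∃ x ∈ I, IsSMulRegular M x := by
  classical
  by_contra hne
  have hsub : (I : Set A) ⊆ ⋃ p ∈ ((associatedPrimes.finite A M).toFinset : Set (Ideal A)), (p : Set A) := by
    intro x hx
    have hx' : ¬ IsSMulRegular M x := fun h => hne ⟨x, hx, h⟩
    obtain ⟨y, hy, hy0⟩ : ∃ y : M, x • y = 0 ∧ y ≠ 0 := by
      by_contra h0
      push Not at h0
      exact hx' (IsSMulRegular.of_right_eq_zero_of_smul h0)
    have hmem : x ∈ ⋃ p ∈ associatedPrimes A M, (p : Set A) := by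
      rw [biUnion_associatedPrimes_eq_zero_divisors]
      exact ⟨y, hy0, hy⟩
    simpa using hmem
  obtain ⟨p, hp, hIp⟩ := (Ideal.subset_union_prime (⊥ : Ideal A) ⊥ fun i hi _ _ =>
    IsAssociatedPrime.isPrime ((associatedPrimes.finite A M).mem_toFinset.1 hi)).1 hsub
  rw [Set.Finite.mem_toFinset] at hp
  have : p.IsPrime := IsAssociatedPrime.isPrime hp
  have hpM := Module.associatedPrimes.mem_associatedPrimes_atPrime_of_mem_associatedPrimes hp
  have : Nontrivial (LocalizedModule p.primeCompl M) := by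
    by_contra hn
    rw [not_nontrivial_iff_subsingleton] at hn
    rw [associatedPrimes.eq_empty_of_subsingleton] at hpM
    exact hpM
  have h1 : (1 : ℕ∞) ≤ LocCoh.depth (Localization.AtPrime p) (LocalizedModule p.primeCompl M) :=
    le_trans (by exact_mod_cast hr) (h p hIp)
  exact CAlgH3.one_le_depth_iff.1 h1 hpM

theorem exists_weaklyRegular_of_depth :
    ∀ (r : ℕ) {M : Type u} [AddCommGroup M] [Module A M] [Module.Finite A M] (I : Ideal A),
      (∀ (p : Ideal A) [p.IsPrime], I ≤ p →
        (r : ℕ∞) ≤ LocCoh.depth (Localization.AtPrime p) (LocalizedModule p.primeCompl M)) →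
      ∃ fs : List A, fs.length = r ∧ (∀ f ∈ fs, f ∈ I) ∧ IsWeaklyRegular M fs
  | 0, M, _, _, _, _, _ => ⟨[], rfl, by simp, IsWeaklyRegular.nil A M⟩
  | r + 1, M, _, _, _, I, h => by
    obtain ⟨x, hxI, hx⟩ := exists_regular_of_depth I (Nat.succ_pos r) h
    obtain ⟨fs, hl, hm, hw⟩ := exists_weaklyRegular_of_depth r (M := QuotSMulTop x M) I fun p _ hIp => by
      rw [← CAlgH3.depth_congr (CAlgH3.localizedQuotSMulTop p M x)]
      have hxm : algebraMap A (Localization.AtPrime p) x ∈ maximalIdeal (Localization.AtPrime p) :=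
        (IsLocalization.AtPrime.to_map_mem_maximal_iff _ p x).2 (hIp hxI)
      have hd := CAlgH3.depth_quotSMulTop_add_one hxm (CAlgH3.isSMulRegular_localization hx p)
      have := h p hIp
      rw [← hd] at this
      exact CAlgH3.natCast_add_one_le_iff.1 this
    refine ⟨x :: fs, by simp [hl], ?_, IsWeaklyRegular.cons hx hw⟩
    simp [hxI]
    exact hm

theorem depth_of_exists_weaklyRegular {M : Type u} [AddCommGroup M] [Module A M] [Module.Finite A M]
    (I : Ideal A) {fs : List A} (hm : ∀ f ∈ fs, f ∈ I) (hw : IsWeaklyRegular M fs)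
    (p : Ideal A) [p.IsPrime] (hIp : I ≤ p) :
    (fs.length : ℕ∞) ≤ LocCoh.depth (Localization.AtPrime p) (LocalizedModule p.primeCompl M) := by
  by_cases hn : Nontrivial (LocalizedModule p.primeCompl M)
  · rw [_root_.LocCoh.depth, LocCoh.natCast_le_idealDepth_iff_exists _ _ CAlgH3.maximal_smul_top_ne_top]
    have hw' := hw.of_isLocalizedModule (Localization.AtPrime p) (T := p.primeCompl)
      (LocalizedModule.mkLinearMap p.primeCompl M)
    refine ⟨fs.map (algebraMap A (Localization.AtPrime p)), by rw [List.length_map], fun y hy => ?_, IsRegular.of_isWeaklyRegular_of_mem_maximalIdeal (LocalizedModule p.primeCompl M) ?_ hw'⟩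
    · obtain ⟨f, hf, rfl⟩ := List.mem_map.1 hy
      exact (IsLocalization.AtPrime.to_map_mem_maximal_iff _ p f).2 (hIp (hm f hf))
    · intro y hy
      obtain ⟨f, hf, rfl⟩ := List.mem_map.1 hy
      exact (IsLocalization.AtPrime.to_map_mem_maximal_iff _ p f).2 (hIp (hm f hf))
  · rw [not_nontrivial_iff_subsingleton] at hn
    rw [CAlgH3.depth_eq_top_of_subsingleton]
    exact le_top

/-- Depth at all primes over an ideal is measured by regular sequences in the ideal. -/
theorem depth_ge_iff (M : Type v) [AddCommGroup M] [Module A M] [Module.Finite A M] (I : Ideal A) (r : ℕ) :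
    (∀ (p : Ideal A) [p.IsPrime], I ≤ p →
        (r : ℕ∞) ≤ LocCoh.depth (Localization.AtPrime p) (LocalizedModule p.primeCompl M)) ↔
      ∃ fs : List A, fs.length = r ∧ (∀ f ∈ fs, f ∈ I) ∧ IsWeaklyRegular M fs := by
  obtain ⟨n, f, hf⟩ := Module.Finite.exists_fin' A M
  let e := f.quotKerEquivOfSurjective hf
  have key : ∀ (p : Ideal A) [p.IsPrime],
      LocCoh.depth (Localization.AtPrime p) (LocalizedModule p.primeCompl ((Fin n → A) ⧸ LinearMap.ker f)) =
        LocCoh.depth (Localization.AtPrime p) (LocalizedModule p.primeCompl M) := fun p _ => by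
    refine CAlgH3.depth_congr (LinearEquiv.ofBijective (LocalizedModule.map p.primeCompl e.toLinearMap)
      ⟨LocalizedModule.map_injective _ _ e.injective, LocalizedModule.map_surjective _ _ e.surjective⟩)
  constructor
  · intro h
    obtain ⟨fs, hl, hm, hw⟩ := exists_weaklyRegular_of_depth r (M := (Fin n → A) ⧸ LinearMap.ker f) I
      fun p _ hp => by rw [key p]; exact h p hp
    exact ⟨fs, hl, hm, (e.isWeaklyRegular_congr fs).1 hw⟩
  · rintro ⟨fs, rfl, hm, hw⟩ p _ hp
    rw [← key p]
    exact depth_of_exists_weaklyRegular I hm ((e.isWeaklyRegular_congr fs).2 hw) p hp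

end Groth.Agent.CAlgH.DepthCriterion
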