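import Mathlib
import Groth.Agent.CAlgH.AdicSmooth
import Groth.Agent.CAlgH.PowerSeriesComplete

/-! Power series rings are formally smooth for the adic topology of the variables. -/
universe u
open IsLocalRing

namespace Groth.Agent.CAlgH.AdicSmooth

variable {R T : Type u} [CommRing R] [CommRing T] {n : ℕ}

theorem mvPowerSeries_hom_ext_ring (g g' : MvPowerSeries (Fin n) R →+* T)
    (hC : g.comp MvPowerSeries.C = g'.comp MvPowerSeries.C)
    (hX : ∀ i, g (MvPowerSeries.X i) = g' (MvPowerSeries.X i))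
    (I : Ideal T) (hI : ∀ i, g (MvPowerSeries.X i) ∈ I) {N : ℕ} (hN : I ^ N = ⊥) : g = g' := by
  have key : ∀ k, ∀ f, g f - g' f ∈ I ^ k := by
    intro k
    induction k with
    | zero => intro f; simp
    | succ k ih =>
      intro f
      obtain ⟨c, -, hc⟩ := exists_eq_C_add_sum_X_mul f
      have h1 : g f - g' f = ∑ i, (g (c i) - g' (c i)) * g (MvPowerSeries.X i) := by
        have h2 := congrArg g hc
        have h3 := congrArg g' hc
        simp only [map_add, map_sum, map_mul, ← hX] at h2 h3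
        rw [h2, h3, show g (MvPowerSeries.C (MvPowerSeries.constantCoeff f)) =
          g' (MvPowerSeries.C (MvPowerSeries.constantCoeff f)) from RingHom.congr_fun hC _, add_sub_add_left_eq_sub,
          ← Finset.sum_sub_distrib]
        exact Finset.sum_congr rfl fun i _ => by ring
      rw [h1, pow_succ]
      exact Ideal.sum_mem _ fun i _ => Ideal.mul_mem_mul (ih (c i)) (hI i)
  refine RingHom.ext fun f => ?_
  have := key N f
  rwa [hN, Ideal.mem_bot, sub_eq_zero] at this

/-- `R → R[[X]]` is formally smooth for the `(X)`-adic topology. -/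
theorem mvPowerSeries (R : Type u) [CommRing R] (n : ℕ) :
    CAlgX.IsAdicFormallySmooth R (MvPowerSeries (Fin n) R) (Ideal.span (Set.range MvPowerSeries.X)) := by
  classical
  refine of_ringHom fun T _ f J hJ ψ hψ ⟨c, hc⟩ => ?_
  choose a ha using fun i => Ideal.Quotient.mk_surjective (ψ (MvPowerSeries.X i))
  have hnil : ∀ i, a i ^ (c * 2) = 0 := fun i => by
    have h1 : a i ^ c ∈ J := by
      rw [← Ideal.Quotient.eq_zero_iff_mem, map_pow, ha, ← map_pow]
      exact hc _ (Ideal.pow_mem_pow (Ideal.subset_span (Set.mem_range_self i)) c)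
    have h3 := Ideal.pow_mem_pow h1 2
    rwa [hJ, Ideal.mem_bot, ← pow_mul] at h3
  let I := Ideal.span (Set.range a)
  obtain ⟨N, hN⟩ : IsNilpotent I := by
    refine (Ideal.FG.isNilpotent_iff_le_nilradical ⟨Finset.univ.image a, by simp [I]⟩).mpr (Ideal.span_le.mpr ?_)
    rintro _ ⟨i, rfl⟩
    exact ⟨_, hnil i⟩
  haveI := isAdicComplete_of_pow_eq_bot (show I ^ N = ⊥ from hN)
  obtain ⟨g, hgC, hgX⟩ := exists_mvPowerSeries_eval f I a fun i => Ideal.subset_span ⟨i, rfl⟩
  refine ⟨g, RingHom.ext fun r => ?_, mvPowerSeries_hom_ext_ring _ _ ?_ (fun i => ?_) (I.map (Ideal.Quotient.mk J))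
    (fun i => ?_) (N := N) (by rw [← Ideal.map_pow, show I ^ N = ⊥ from hN, Ideal.map_bot])⟩
  · exact RingHom.congr_fun hgC r
  · refine RingHom.ext fun r => ?_
    simp only [RingHom.comp_apply]
    rw [show g (MvPowerSeries.C r) = f r from RingHom.congr_fun hgC r]
    exact (RingHom.congr_fun hψ r).symm
  · rw [RingHom.comp_apply, hgX, ha]
  · rw [RingHom.comp_apply, hgX]
    exact Ideal.mem_map_of_mem _ (Ideal.subset_span ⟨i, rfl⟩)

theorem span_X_le_of_isMaximal (𝔫 : Ideal (MvPowerSeries (Fin n) R)) [h : 𝔫.IsMaximal] :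
    Ideal.span (Set.range MvPowerSeries.X) ≤ 𝔫 := by
  rw [Ideal.span_le]
  rintro _ ⟨i, rfl⟩
  refine Ideal.mem_sInf.mp ((Ideal.mem_jacobson_iff.mpr fun y => ?_ : MvPowerSeries.X i ∈ (⊥ : Ideal _).jacobson)) ⟨bot_le, h⟩
  obtain ⟨z, hz⟩ := (MvPowerSeries.isUnit_iff_constantCoeff.mpr (by simp : IsUnit (MvPowerSeries.constantCoeff
    (y * MvPowerSeries.X i + 1 : MvPowerSeries (Fin n) R)))).exists_left_inv
  exact ⟨z, by rw [Ideal.mem_bot, mul_assoc, ← mul_add_one, hz, sub_self]⟩

theorem mvPowerSeries_of_isMaximal (𝔫 : Ideal (MvPowerSeries (Fin n) R)) [𝔫.IsMaximal] :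
    CAlgX.IsAdicFormallySmooth R (MvPowerSeries (Fin n) R) 𝔫 :=
  mono 1 (by rw [pow_one]; exact span_X_le_of_isMaximal 𝔫) (mvPowerSeries R n)

end Groth.Agent.CAlgH.AdicSmooth
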