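import Mathlib
import Groth.Agent.CAlgH.AdicSmoothPowerSeries
import Groth.Agent.CAlgH.FieldSmooth
import Groth.Agent.CAlgH.CohenLift
import Groth.Prelude.Def_Found

/-! Cohen rings and their power series rings are formally smooth over the prime ring. -/
universe u
open IsLocalRing

namespace Groth.Agent.CAlgH.AdicSmooth

theorem mvPowerSeries_field (k K : Type u) [Field k] [PerfectField k] [Field K] [Algebra k K] (n : ℕ) :
    CAlgX.IsAdicFormallySmooth k (MvPowerSeries (Fin n) K) (maximalIdeal (MvPowerSeries (Fin n) K)) := by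
  haveI : Algebra.FormallySmooth k K := formallySmooth_of_perfectField_any k K
  exact trans (𝔫 := (⊥ : Ideal K)) (by rw [Ideal.map_bot]; exact bot_le) of_formallySmooth (mvPowerSeries_of_isMaximal _)

/-- A Cohen ring is formally smooth over `ℤ` for its adic topology. -/
theorem cohen (Λ : Type) [CommRing Λ] [IsLocalRing Λ] (hΛ : CAlg.IsCohenRing Λ) :
    CAlgX.IsAdicFormallySmooth ℤ Λ (maximalIdeal Λ) := by
  obtain ⟨hdom, hdvr, -, p, hp, hm⟩ := hΛ
  haveI := Fact.mk hp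
  refine of_ringHom fun T _ f J hJ ψ _ ⟨c, hc⟩ => ?_
  have hpc : ((p ^ c : ℕ) : T) ∈ J := by
    rw [← Ideal.Quotient.eq_zero_iff_mem, map_natCast, ← map_natCast ψ]
    refine hc _ ?_
    rw [hm, Nat.cast_pow]
    exact Ideal.pow_mem_pow (Ideal.mem_span_singleton_self _) c
  have hT : ((p ^ (c * 2 + 2) : ℕ) : T) = 0 := by
    have h1 := Ideal.pow_mem_pow hpc 2
    rw [hJ, Ideal.mem_bot, ← Nat.cast_pow, ← pow_mul] at h1
    rw [pow_add p, Nat.cast_mul, h1, zero_mul]
  let N := p ^ (c * 2 + 2)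
  let cT : ZMod N →+* T :=
    haveI := ringChar.charP T
    ZMod.castHom ((ringChar.spec T _).mp hT) T
  let S := Λ ⧸ Ideal.span {((p : Λ) ^ (c * 2 + 2))}
  have hS : ((N : ℕ) : S) = 0 := by
    rw [← map_natCast (Ideal.Quotient.mk (Ideal.span {((p : Λ) ^ (c * 2 + 2))})), Ideal.Quotient.eq_zero_iff_mem, Nat.cast_pow]
    exact Ideal.mem_span_singleton_self _
  let cS : ZMod N →+* S :=
    haveI := ringChar.charP S
    ZMod.castHom ((ringChar.spec S _).mp hS) S
  letI : Algebra (ZMod N) T := cT.toAlgebra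
  letI : Algebra (ZMod N) (T ⧸ J) := ((Ideal.Quotient.mk J).comp cT).toAlgebra
  letI : Algebra (ZMod N) S := cS.toAlgebra
  haveI : Algebra.FormallySmooth (ZMod N) S := formallySmooth_zmod_quotient Λ p (hm ▸ maximalIdeal.isMaximal Λ)
    (fun h => IsDiscreteValuationRing.not_a_field Λ (by rw [hm, h, Ideal.span_singleton_zero])) (c * 2 + 2) (by omega)
  let ψ' : S →+* T ⧸ J := Ideal.Quotient.lift _ ψ fun a ha => by
    obtain ⟨b, rfl⟩ := Ideal.mem_span_singleton'.mp ha
    rw [map_mul, ← Nat.cast_pow, map_natCast, ← map_natCast (Ideal.Quotient.mk J), hT, map_zero, mul_zero]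
  let ψa : S →ₐ[ZMod N] T ⧸ J :=
    { ψ' with commutes' := fun x => DFunLike.congr_fun (Subsingleton.elim (ψ'.comp (algebraMap _ _)) (algebraMap _ _)) x }
  let qa : T →ₐ[ZMod N] T ⧸ J := { Ideal.Quotient.mk J with commutes' := fun _ => rfl }
  have hnil : IsNilpotent (RingHom.ker (qa : T →+* T ⧸ J)) := ⟨2, by
    show RingHom.ker (Ideal.Quotient.mk J) ^ 2 = 0
    rw [Ideal.mk_ker, hJ]; rfl⟩
  obtain ⟨χ, hχ⟩ : ∃ χ : S →ₐ[ZMod N] T, ∀ x, qa (χ x) = ψa x :=
    ⟨Algebra.FormallySmooth.liftOfSurjective ψa qa Ideal.Quotient.mk_surjective hnil,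
      fun x => Algebra.FormallySmooth.liftOfSurjective_apply ψa qa Ideal.Quotient.mk_surjective hnil x⟩
  exact ⟨χ.toRingHom.comp (Ideal.Quotient.mk _), RingHom.ext_int _ _, RingHom.ext fun x => hχ (Ideal.Quotient.mk _ x)⟩

theorem mvPowerSeries_cohen (Λ : Type) [CommRing Λ] [IsLocalRing Λ] (hΛ : CAlg.IsCohenRing Λ) (n : ℕ) :
    CAlgX.IsAdicFormallySmooth ℤ (MvPowerSeries (Fin n) Λ) (maximalIdeal (MvPowerSeries (Fin n) Λ)) := by
  refine trans (𝔫 := maximalIdeal Λ) ?_ (cohen Λ hΛ) (mvPowerSeries_of_isMaximal _)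
  refine Ideal.map_le_iff_le_comap.mpr fun a ha => ?_
  show MvPowerSeries.C a ∈ maximalIdeal _
  rw [mem_maximalIdeal, mem_nonunits_iff, MvPowerSeries.isUnit_iff_constantCoeff, MvPowerSeries.constantCoeff_C]
  exact ha

end Groth.Agent.CAlgH.AdicSmooth
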