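import Mathlib
import Groth.Prelude.Def_CAlgX
import Groth.Agent.FSchLib.Completion

/-! Adic formal smoothness is invariant under adic completion at finitely generated ideals. -/
universe u

namespace Groth.Agent.CAlgH.AdicSmooth

/-- `ι` identifies `S / K ^ n` with `T / (K T) ^ n` for all `n`. -/
structure IsTruncIso {S T : Type u} [CommRing S] [CommRing T] (ι : S →+* T) (K : Ideal S) : Prop where
  surj : ∀ (n : ℕ) (t : T), ∃ s, t - ι s ∈ (K.map ι) ^ n
  ker : ∀ (n : ℕ) (s : S), ι s ∈ (K.map ι) ^ n → s ∈ K ^ n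

theorem isTruncIso_adicCompletion {S : Type u} [CommRing S] (K : Ideal S) (hK : K.FG) :
    IsTruncIso (algebraMap S (AdicCompletion K S)) K where
  surj n t := by
    obtain ⟨s, hs⟩ := Ideal.Quotient.mk_surjective (AdicCompletion.evalₐ K n t)
    refine ⟨s, ?_⟩
    rw [← FSchLib.ker_evalₐ K hK n, RingHom.mem_ker]
    show AdicCompletion.evalₐ K n (t - algebraMap S _ s) = 0
    rw [map_sub, FSchLib.evalₐ_algebraMap, hs, sub_self]
  ker n s hs := by
    rw [← FSchLib.ker_evalₐ K hK n, RingHom.mem_ker] at hs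
    change AdicCompletion.evalₐ K n (algebraMap S _ s) = 0 at hs
    rwa [FSchLib.evalₐ_algebraMap, Ideal.Quotient.eq_zero_iff_mem] at hs

variable {S T : Type u} [CommRing S] [CommRing T] {ι : S →+* T} {K : Ideal S}

theorem IsTruncIso.exists_extend (h : IsTruncIso ι K) {A : Type u} [CommRing A] (g : S →+* A) (N : ℕ)
    (hg : ∀ x ∈ K ^ N, g x = 0) :
    ∃ g' : T →+* A, g'.comp ι = g ∧ ∀ x ∈ (K.map ι) ^ N, g' x = 0 := by
  have hle : K ^ N ≤ ((K.map ι) ^ N).comap ι := by
    rw [← Ideal.map_pow]; exact Ideal.le_comap_map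
  let φ : S ⧸ K ^ N →+* T ⧸ (K.map ι) ^ N := Ideal.quotientMap _ ι hle
  have hb : Function.Bijective φ := by
    constructor
    · refine (injective_iff_map_eq_zero φ).mpr fun x hx => ?_
      obtain ⟨s, rfl⟩ := Ideal.Quotient.mk_surjective x
      rw [Ideal.quotientMap_mk, Ideal.Quotient.eq_zero_iff_mem] at hx
      exact Ideal.Quotient.eq_zero_iff_mem.mpr (h.ker N s hx)
    · intro x
      obtain ⟨t, rfl⟩ := Ideal.Quotient.mk_surjective x
      obtain ⟨s, hs⟩ := h.surj N t
      refine ⟨Ideal.Quotient.mk _ s, ?_⟩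
      rw [Ideal.quotientMap_mk]
      exact ((Ideal.Quotient.eq (I := (K.map ι) ^ N)).mpr hs).symm
  let e := RingEquiv.ofBijective φ hb
  let gl : S ⧸ K ^ N →+* A := Ideal.Quotient.lift _ g hg
  refine ⟨gl.comp (e.symm.toRingHom.comp (Ideal.Quotient.mk _)), RingHom.ext fun s => ?_, fun x hx => ?_⟩
  · have : e.symm (Ideal.Quotient.mk ((K.map ι) ^ N) (ι s)) = Ideal.Quotient.mk (K ^ N) s :=
      e.symm_apply_eq.mpr (Ideal.quotientMap_mk (H := hle)).symm
    show gl (e.symm (Ideal.Quotient.mk _ (ι s))) = g s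
    rw [this]; rfl
  · show gl (e.symm (Ideal.Quotient.mk _ x)) = 0
    rw [Ideal.Quotient.eq_zero_iff_mem.mpr hx, map_zero, map_zero]

theorem IsTruncIso.hom_ext (h : IsTruncIso ι K) {A : Type u} [CommRing A] {g g' : T →+* A} (N : ℕ)
    (hg : ∀ x ∈ (K.map ι) ^ N, g x = 0) (hg' : ∀ x ∈ (K.map ι) ^ N, g' x = 0)
    (he : g.comp ι = g'.comp ι) : g = g' := by
  refine RingHom.ext fun t => ?_
  obtain ⟨s, hs⟩ := h.surj N t
  have h1 := hg _ hs
  have h2 := hg' _ hs
  rw [map_sub, sub_eq_zero] at h1 h2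
  rw [h1, h2]
  exact RingHom.congr_fun he s

theorem eq_zero_of_mem_pow_add {S A : Type u} [CommRing S] [CommRing A] (g : S →+* A) {J : Ideal A} (hJ : J ^ 2 = ⊥)
    {L : Ideal S} {k : ℕ} (hk : ∀ x ∈ L ^ k, g x ∈ J) : ∀ x ∈ L ^ (k + k), g x = 0 := by
  intro x hx
  have h2 : (L ^ k).map g ≤ J := Ideal.map_le_iff_le_comap.mpr hk
  have : g x ∈ ((L ^ k).map g) ^ 2 := by
    rw [pow_two, ← Ideal.map_mul, ← pow_add]; exact Ideal.mem_map_of_mem g hx
  have := Ideal.pow_right_mono h2 2 this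
  rwa [hJ, Ideal.mem_bot] at this

theorem iff_of_isTruncIso {R S T : Type u} [CommRing R] [CommRing S] [CommRing T] [Algebra R S] [Algebra R T]
    [Algebra S T] [IsScalarTower R S T] (K : Ideal S) (h : IsTruncIso (algebraMap S T) K) :
    CAlgX.IsAdicFormallySmooth R S K ↔ CAlgX.IsAdicFormallySmooth R T (K.map (algebraMap S T)) := by
  constructor
  · intro hs A _ _ J hJ ψ ⟨k, hk⟩
    obtain ⟨χ, hχ⟩ := hs A J hJ (ψ.comp (IsScalarTower.toAlgHom R S T)) ⟨k, fun x hx => hk _ (by
      rw [← Ideal.map_pow]; exact Ideal.mem_map_of_mem _ hx)⟩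
    have hmk : ∀ s, Ideal.Quotient.mk J (χ s) = ψ (algebraMap S T s) := fun s => DFunLike.congr_fun hχ s
    have hJk : ∀ x ∈ K ^ k, χ x ∈ J := fun x hx => Ideal.Quotient.eq_zero_iff_mem.mp
      ((hmk x).trans (hk _ (by rw [← Ideal.map_pow]; exact Ideal.mem_map_of_mem _ hx)))
    obtain ⟨g, hg, hgN⟩ := h.exists_extend χ.toRingHom (k + k) (eq_zero_of_mem_pow_add _ hJ hJk)
    refine ⟨{ g with commutes' := fun r => ?_ }, ?_⟩
    · show g (algebraMap R T r) = algebraMap R A r
      rw [IsScalarTower.algebraMap_apply R S T, ← RingHom.comp_apply, hg]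
      exact χ.commutes r
    · have := h.hom_ext (g := (Ideal.Quotient.mk J).comp g) (g' := ψ.toRingHom) (k + k)
        (fun x hx => by rw [RingHom.comp_apply, hgN x hx, map_zero])
        (fun x hx => hk x (Ideal.pow_le_pow_right (by omega) hx))
        (by rw [RingHom.comp_assoc, hg]; exact RingHom.ext hmk)
      exact AlgHom.ext fun t => RingHom.congr_fun this t
  · intro hT A _ _ J hJ ψ ⟨k, hk⟩
    obtain ⟨g, hg, hgk⟩ := h.exists_extend ψ.toRingHom k hk
    let ψ' : T →ₐ[R] A ⧸ J := { g with commutes' := fun r => (by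
      show g (algebraMap R T r) = algebraMap R (A ⧸ J) r
      rw [IsScalarTower.algebraMap_apply R S T, ← RingHom.comp_apply, hg]
      exact ψ.commutes r) }
    obtain ⟨χ, hχ⟩ := hT A J hJ ψ' ⟨k, hgk⟩
    refine ⟨χ.comp (IsScalarTower.toAlgHom R S T), AlgHom.ext fun s => ?_⟩
    exact (DFunLike.congr_fun hχ (algebraMap S T s)).trans (RingHom.congr_fun hg s)

theorem iff_base_of_isTruncIso {R R' T : Type u} [CommRing R] [CommRing R'] [CommRing T] [Algebra R R'] [Algebra R T]
    [Algebra R' T] [IsScalarTower R R' T] (P : Ideal R) (h : IsTruncIso (algebraMap R R') P) (L : Ideal T) (c : ℕ)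
    (hc : (P ^ c).map (algebraMap R T) ≤ L) :
    CAlgX.IsAdicFormallySmooth R T L ↔ CAlgX.IsAdicFormallySmooth R' T L := by
  have hc' : ∀ (k : ℕ), ∀ x ∈ (P.map (algebraMap R R')) ^ (c * k), algebraMap R' T x ∈ L ^ k := fun k x hx => by
    have h1 : ((P.map (algebraMap R R')) ^ (c * k)).map (algebraMap R' T) ≤ L ^ k := by
      rw [pow_mul, ← Ideal.map_pow, ← Ideal.map_pow, Ideal.map_map, ← IsScalarTower.algebraMap_eq, Ideal.map_pow]
      exact Ideal.pow_right_mono hc k
    exact h1 (Ideal.mem_map_of_mem _ hx)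
  constructor
  · intro hs A _ _ J hJ ψ ⟨k, hk⟩
    letI : Algebra R A := ((algebraMap R' A).comp (algebraMap R R')).toAlgebra
    haveI : IsScalarTower R R' A := IsScalarTower.of_algebraMap_eq fun _ => rfl
    haveI : IsScalarTower R R' (A ⧸ J) := IsScalarTower.of_algebraMap_eq fun _ => rfl
    obtain ⟨χ, hχ⟩ := hs A J hJ (ψ.restrictScalars R) ⟨k, hk⟩
    have hmk : ∀ t, Ideal.Quotient.mk J (χ t) = ψ t := fun t => DFunLike.congr_fun hχ t
    have h1 : ∀ x ∈ (P.map (algebraMap R R')) ^ (c * k), algebraMap R' A x ∈ J := fun x hx => by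
      refine Ideal.Quotient.eq_zero_iff_mem.mp ?_
      show algebraMap R' (A ⧸ J) x = 0
      rw [← ψ.commutes x]; exact hk _ (hc' k x hx)
    have h2 : ∀ x ∈ (P.map (algebraMap R R')) ^ (c * k), χ (algebraMap R' T x) ∈ J := fun x hx =>
      Ideal.Quotient.eq_zero_iff_mem.mp ((hmk _).trans (hk _ (hc' k x hx)))
    have := h.hom_ext (g := χ.toRingHom.comp (algebraMap R' T)) (g' := algebraMap R' A) (c * k + c * k)
      (eq_zero_of_mem_pow_add _ hJ h2) (eq_zero_of_mem_pow_add _ hJ h1)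
      (RingHom.ext fun r => by
        show χ (algebraMap R' T (algebraMap R R' r)) = algebraMap R' A (algebraMap R R' r)
        rw [← IsScalarTower.algebraMap_apply R R' T, χ.commutes]; rfl)
    exact ⟨{ χ.toRingHom with commutes' := fun x => RingHom.congr_fun this x }, AlgHom.ext hmk⟩
  · intro hs A _ _ J hJ ψ ⟨k, hk⟩
    have h1 : ∀ r ∈ P ^ (c * k), algebraMap R A r ∈ J := fun r hr => by
      refine Ideal.Quotient.eq_zero_iff_mem.mp ?_
      show algebraMap R (A ⧸ J) r = 0
      rw [← ψ.commutes r, IsScalarTower.algebraMap_apply R R' T]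
      exact hk _ (hc' k _ (by rw [← Ideal.map_pow]; exact Ideal.mem_map_of_mem _ hr))
    obtain ⟨g, hg, hgN⟩ := h.exists_extend (algebraMap R A) (c * k + c * k) (eq_zero_of_mem_pow_add _ hJ h1)
    letI : Algebra R' A := g.toAlgebra
    have := h.hom_ext (g := ψ.toRingHom.comp (algebraMap R' T)) (g' := algebraMap R' (A ⧸ J)) (c * k + c * k)
      (fun x hx => hk _ (hc' k x (Ideal.pow_le_pow_right (by omega) hx)))
      (fun x hx => by show Ideal.Quotient.mk J (g x) = 0; rw [hgN x hx, map_zero])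
      (RingHom.ext fun r => by
        show ψ (algebraMap R' T (algebraMap R R' r)) = Ideal.Quotient.mk J (g (algebraMap R R' r))
        rw [← IsScalarTower.algebraMap_apply R R' T, ψ.commutes, ← RingHom.comp_apply g, hg]; rfl)
    let ψ' : T →ₐ[R'] A ⧸ J := { ψ.toRingHom with commutes' := fun x => RingHom.congr_fun this x }
    obtain ⟨χ, hχ⟩ := hs A J hJ ψ' ⟨k, hk⟩
    refine ⟨{ χ.toRingHom with commutes' := fun r => ?_ }, AlgHom.ext fun t => DFunLike.congr_fun hχ t⟩
    show χ (algebraMap R T r) = algebraMap R A r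
    rw [IsScalarTower.algebraMap_apply R R' T, χ.commutes]
    exact RingHom.congr_fun hg r

end Groth.Agent.CAlgH.AdicSmooth
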