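import Mathlib
import Groth.Agent.CAlgH.AdicSmooth

/-! Derivations and adic formal smoothness. -/
universe u
open TensorProduct IsLocalRing

namespace Groth.Agent.CAlgH.AdicSmooth

variable {R S : Type u} [CommRing R] [CommRing S] [Algebra R S] {𝔫 : Ideal S}

/-- The element `a + εb`. -/
def dpair {W : Type u} [CommRing W] (a b : W) : DualNumber W := TrivSqZeroExt.inl a + TrivSqZeroExt.inr b

@[simp] theorem fst_dpair {W : Type u} [CommRing W] (a b : W) : TrivSqZeroExt.fst (dpair a b) = a := by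
  simp only [dpair, TrivSqZeroExt.fst_add, TrivSqZeroExt.fst_inl, TrivSqZeroExt.fst_inr, add_zero]

@[simp] theorem snd_dpair {W : Type u} [CommRing W] (a b : W) : TrivSqZeroExt.snd (dpair a b) = b := by
  simp only [dpair, TrivSqZeroExt.snd_add, TrivSqZeroExt.snd_inl, TrivSqZeroExt.snd_inr, zero_add]

/-- One step of extending a derivation. -/
theorem exists_derivation_step (h : CAlgX.IsAdicFormallySmooth R S 𝔫) {W W' : Type u} [CommRing W] [CommRing W']
    (q : W →+* W') (hq : Function.Surjective q) (φ : S →+* W) (m : ℕ) (hm : ∀ x ∈ 𝔫 ^ m, φ x = 0) (D : S →+ W')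
    (hD : ∀ a b, D (a * b) = q (φ a) * D b + q (φ b) * D a) (δ : R →+ W)
    (hδ : ∀ a b, δ (a * b) = φ (algebraMap R S a) * δ b + φ (algebraMap R S b) * δ a)
    (hc : ∀ r, D (algebraMap R S r) = q (δ r)) :
    ∃ D' : S →+ W, (∀ a b, D' (a * b) = φ a * D' b + φ b * D' a) ∧ (∀ r, D' (algebraMap R S r) = δ r) ∧
      ∀ x, q (D' x) = D x := by
  classical
  let K : Ideal (DualNumber W) :=
    { carrier := {a | TrivSqZeroExt.fst a = 0 ∧ q (TrivSqZeroExt.snd a) = 0}
      add_mem' := fun {a b} ha hb => ⟨by rw [TrivSqZeroExt.fst_add, ha.1, hb.1, add_zero],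
        by rw [TrivSqZeroExt.snd_add, map_add, ha.2, hb.2, add_zero]⟩
      zero_mem' := ⟨TrivSqZeroExt.fst_zero, by rw [TrivSqZeroExt.snd_zero, map_zero]⟩
      smul_mem' := fun c {a} ha => ⟨by rw [smul_eq_mul, TrivSqZeroExt.fst_mul, ha.1, mul_zero], by
        rw [smul_eq_mul, DualNumber.snd_mul, ha.1, mul_zero, add_zero, map_mul, ha.2, mul_zero]⟩ }
  have hK : K ^ 2 = ⊥ := by
    refine eq_bot_iff.mpr ?_
    rw [pow_two, Ideal.mul_le]
    intro a ha b hb
    rw [Ideal.mem_bot]
    refine TrivSqZeroExt.ext ?_ ?_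
    · rw [TrivSqZeroExt.fst_mul, ha.1, zero_mul, TrivSqZeroExt.fst_zero]
    · rw [DualNumber.snd_mul, ha.1, hb.1, mul_zero, zero_mul, add_zero, TrivSqZeroExt.snd_zero]
  choose l hl using fun x => hq (D x)
  have heq : ∀ (a b : DualNumber W), TrivSqZeroExt.fst a = TrivSqZeroExt.fst b →
      q (TrivSqZeroExt.snd a) = q (TrivSqZeroExt.snd b) → Ideal.Quotient.mk K a = Ideal.Quotient.mk K b := fun a b h1 h2 =>
    Ideal.Quotient.eq.mpr ⟨by rw [TrivSqZeroExt.fst_sub, h1, sub_self], by rw [TrivSqZeroExt.snd_sub, map_sub, h2, sub_self]⟩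
  have hone : D 1 = 0 := by
    have h1 := hD 1 1
    simp only [mul_one, map_one, one_mul] at h1
    simpa using h1
  have hδ1 : δ 1 = 0 := by
    have h1 := hδ 1 1
    simp only [mul_one, map_one, one_mul] at h1
    simpa using h1
  let ψ : S →+* DualNumber W ⧸ K :=
    { toFun := fun x => Ideal.Quotient.mk K (dpair (φ x) (l x))
      map_one' := by
        rw [← map_one (Ideal.Quotient.mk K)]
        exact heq _ _ (by simp) (by simp [hl, hone])
      map_zero' := by
        rw [← map_zero (Ideal.Quotient.mk K)]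
        exact heq _ _ (by simp) (by simp [hl])
      map_add' := fun a b => by
        rw [← map_add]
        exact heq _ _ (by simp) (by simp [hl])
      map_mul' := fun a b => by
        rw [← map_mul]
        refine heq _ _ (by simp) ?_
        simp only [DualNumber.snd_mul, fst_dpair, snd_dpair, map_add, map_mul, hl, hD]
        ring }
  let f : R →+* DualNumber W :=
    { toFun := fun r => dpair (φ (algebraMap R S r)) (δ r)
      map_one' := by refine TrivSqZeroExt.ext ?_ ?_ <;> simp [hδ1]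
      map_zero' := by refine TrivSqZeroExt.ext ?_ ?_ <;> simp
      map_add' := fun a b => by refine TrivSqZeroExt.ext ?_ ?_ <;> simp
      map_mul' := fun a b => by
        refine TrivSqZeroExt.ext ?_ ?_
        · simp
        · simp only [DualNumber.snd_mul, fst_dpair, snd_dpair, hδ]
          ring }
  have hψf : ψ.comp (algebraMap R S) = (Ideal.Quotient.mk K).comp f := RingHom.ext fun r =>
    heq _ _ (by simp [f]) (by simp [f, hl, hc])
  have hkill : ∀ x ∈ 𝔫 ^ (m * 2), ψ x = 0 := by
    intro x hx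
    rw [pow_mul, pow_two] at hx
    refine (Ideal.mul_le.mpr fun a ha b hb => ?_ : 𝔫 ^ m * 𝔫 ^ m ≤ RingHom.ker ψ) hx
    rw [RingHom.mem_ker, map_mul]
    show Ideal.Quotient.mk K _ * Ideal.Quotient.mk K _ = 0
    rw [← map_mul, Ideal.Quotient.eq_zero_iff_mem]
    refine ⟨?_, ?_⟩
    · rw [TrivSqZeroExt.fst_mul, fst_dpair, fst_dpair, hm a ha, zero_mul]
    · rw [DualNumber.snd_mul, fst_dpair, fst_dpair, hm a ha, hm b hb, mul_zero, zero_mul, add_zero, map_zero]
  obtain ⟨χ, hχ1, hχ2⟩ := exists_lift_ringHom h f K hK ψ hψf ⟨_, hkill⟩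
  have hχ : ∀ x, TrivSqZeroExt.fst (χ x) = φ x ∧ q (TrivSqZeroExt.snd (χ x)) = D x := fun x => by
    obtain ⟨h1, h2⟩ := Ideal.Quotient.eq.mp (RingHom.congr_fun hχ2 x)
    rw [TrivSqZeroExt.fst_sub, fst_dpair, sub_eq_zero] at h1
    rw [TrivSqZeroExt.snd_sub, snd_dpair, map_sub, sub_eq_zero, hl] at h2
    exact ⟨h1, h2⟩
  refine ⟨AddMonoidHom.mk' (fun x => TrivSqZeroExt.snd (χ x)) fun a b => by rw [map_add, TrivSqZeroExt.snd_add],
    fun a b => ?_, fun r => ?_, fun x => (hχ x).2⟩
  · show TrivSqZeroExt.snd (χ (a * b)) = _ * TrivSqZeroExt.snd (χ b) + _ * TrivSqZeroExt.snd (χ a)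
    rw [map_mul, DualNumber.snd_mul, (hχ a).1, (hχ b).1]
    ring
  · show TrivSqZeroExt.snd (χ (algebraMap R S r)) = _
    rw [show χ (algebraMap R S r) = f r from RingHom.congr_fun hχ1 r]
    simp [f]

/-- Derivations along a continuous map into a complete ring extend. -/
theorem exists_derivation_lift (h : CAlgX.IsAdicFormallySmooth R S 𝔫) {T : Type u} [CommRing T] (φ : S →+* T)
    (J : Ideal T) [IsAdicComplete J T] (hφ : ∃ k : ℕ, ∀ x ∈ 𝔫 ^ k, φ x ∈ J) (δ : R →+ T)
    (hδ : ∀ a b, δ (a * b) = φ (algebraMap R S a) * δ b + φ (algebraMap R S b) * δ a) :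
    ∃ D : S →+ T, (∀ a b, D (a * b) = φ a * D b + φ b * D a) ∧ ∀ r, D (algebraMap R S r) = δ r := by
  classical
  obtain ⟨k, hk⟩ := hφ
  let μ := fun n => Ideal.Quotient.mk (J ^ n)
  let P : ∀ n, (S →+ T ⧸ J ^ n) → Prop := fun n D =>
    (∀ a b, D (a * b) = μ n (φ a) * D b + μ n (φ b) * D a) ∧ ∀ r, D (algebraMap R S r) = μ n (δ r)
  have step : ∀ n (D : S →+ T ⧸ J ^ n), P n D → ∃ D' : S →+ T ⧸ J ^ (n + 1), P (n + 1) D' ∧
      ∀ x, Ideal.Quotient.factor (Ideal.pow_le_pow_right (Nat.le_succ n)) (D' x) = D x := by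
    intro n D hD
    have hkill : ∀ x ∈ 𝔫 ^ (k * (n + 1)), (μ (n + 1)).comp φ x = 0 := fun x hx => by
      have h1 : (𝔫 ^ k).map φ ≤ J := Ideal.map_le_iff_le_comap.mpr hk
      have h2 := Ideal.pow_right_mono h1 (n + 1) (by
        rw [← Ideal.map_pow, ← pow_mul]; exact Ideal.mem_map_of_mem φ hx)
      exact Ideal.Quotient.eq_zero_iff_mem.mpr h2
    obtain ⟨D', h1, h2, h3⟩ := exists_derivation_step h
      (Ideal.Quotient.factor (Ideal.pow_le_pow_right (I := J) (Nat.le_succ n))) (Ideal.Quotient.factor_surjective _)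
      ((μ (n + 1)).comp φ) _ hkill D hD.1 ((μ (n + 1)).toAddMonoidHom.comp δ)
      (fun a b => by
        show μ (n + 1) (δ (a * b)) = _
        rw [hδ, map_add, map_mul, map_mul]
        rfl) hD.2
    exact ⟨D', ⟨h1, h2⟩, h3⟩
  haveI : Subsingleton (T ⧸ J ^ 0) := Ideal.Quotient.subsingleton_iff.mpr (by rw [pow_zero, Ideal.one_eq_top])
  let seq : ∀ n, {D : S →+ T ⧸ J ^ n // P n D} := fun n =>
    Nat.rec ⟨0, ⟨fun _ _ => Subsingleton.elim _ _, fun _ => Subsingleton.elim _ _⟩⟩
      (fun n D => ⟨(step n D.1 D.2).choose, (step n D.1 D.2).choose_spec.1⟩) n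
  have hseq : ∀ n x, Ideal.Quotient.factor (Ideal.pow_le_pow_right (Nat.le_succ n)) ((seq (n + 1)).1 x) = (seq n).1 x :=
    fun n => (step n (seq n).1 (seq n).2).choose_spec.2
  choose L hL using fun n x => Ideal.Quotient.mk_surjective ((seq n).1 x)
  have hcompat : ∀ x {m n : ℕ}, m ≤ n → L m x - L n x ∈ J ^ m := fun x m n hmn => by
    induction n, hmn using Nat.le_induction with
    | base => simp
    | succ n hmn ih =>
      have h1 : L n x - L (n + 1) x ∈ J ^ n := Ideal.Quotient.eq.mp (by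
        rw [hL, ← hseq, ← hL (n + 1) x]; rfl)
      have := add_mem ih (Ideal.pow_le_pow_right hmn h1)
      simpa using this
  choose D hD using fun x => IsPrecomplete.prec (I := J) (M := T) inferInstance (f := fun n => L n x) fun {m n} hmn => by
    rw [SModEq.sub_mem, smul_eq_mul, Ideal.mul_top]; exact hcompat x hmn
  have hDn : ∀ x n, μ n (D x) = (seq n).1 x := fun x n => by
    have h1 := hD x n
    rw [SModEq.sub_mem, smul_eq_mul, Ideal.mul_top] at h1
    rw [← hL n x]
    exact (Ideal.Quotient.eq.mpr h1).symm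
  have huniq : ∀ y z : T, (∀ n, μ n y = μ n z) → y = z := fun y z hyz => by
    rw [← sub_eq_zero]
    refine IsHausdorff.haus (inferInstance : IsHausdorff J T) _ fun n => ?_
    rw [SModEq.zero, smul_eq_mul, Ideal.mul_top]
    exact Ideal.Quotient.eq.mp (hyz n)
  refine ⟨AddMonoidHom.mk' D fun a b => huniq _ _ fun n => ?_, fun a b => huniq _ _ fun n => ?_, fun r => huniq _ _ fun n => ?_⟩
  · simp only [map_add, hDn]
  · show μ n (D (a * b)) = μ n (φ a * D b + φ b * D a)
    rw [map_add, map_mul, map_mul, hDn, hDn, hDn]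
    exact (seq n).2.1 a b
  · show μ n (D _) = _
    rw [hDn]
    exact (seq n).2.2 r

/-- Derivations of the base extend to a complete formally smooth algebra. -/
theorem exists_derivation_extension [IsAdicComplete 𝔫 S] (h : CAlgX.IsAdicFormallySmooth R S 𝔫) (D : Derivation ℤ R R) :
    ∃ D' : Derivation ℤ S S, ∀ r, D' (algebraMap R S r) = algebraMap R S (D r) := by
  obtain ⟨E, hE1, hE2⟩ := exists_derivation_lift h (RingHom.id S) 𝔫 ⟨1, fun x hx => by simpa using hx⟩
    ((algebraMap R S).toAddMonoidHom.comp D.toLinearMap.toAddMonoidHom) fun a b => by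
      show algebraMap R S (D (a * b)) = _
      rw [Derivation.leibniz, smul_eq_mul, smul_eq_mul, map_add, map_mul, map_mul]
      rfl
  exact ⟨Derivation.mk' E.toIntLinearMap fun a b => hE1 a b, hE2⟩

/-- Derivations of an algebra extend to its tensor product with a formally smooth algebra, once complete. -/
theorem exists_derivation_tensor (h : CAlgX.IsAdicFormallySmooth R S 𝔫) (B : Type u) [CommRing B] [Algebra R B]
    [IsAdicComplete (𝔫.map (algebraMap S (S ⊗[R] B))) (S ⊗[R] B)] (D : Derivation ℤ B B) :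
    ∃ D' : Derivation ℤ (S ⊗[R] B) (S ⊗[R] B), ∀ b, D' ((1 : S) ⊗ₜ[R] b) = (1 : S) ⊗ₜ[R] D b := by
  let iR : B →ₐ[R] S ⊗[R] B := Algebra.TensorProduct.includeRight
  let φ : S →+* S ⊗[R] B := algebraMap S (S ⊗[R] B)
  have hsw : ∀ r, φ (algebraMap R S r) = iR (algebraMap R B r) := fun r => by
    rw [AlgHom.commutes]
    exact (IsScalarTower.algebraMap_apply R S (S ⊗[R] B) r).symm
  obtain ⟨E, hE1, hE2⟩ := exists_derivation_lift h φ (𝔫.map φ) ⟨1, fun x hx => Ideal.mem_map_of_mem _ (by simpa using hx)⟩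
    (iR.toRingHom.toAddMonoidHom.comp (D.toLinearMap.toAddMonoidHom.comp (algebraMap R B).toAddMonoidHom)) fun a b => by
      show iR (D (algebraMap R B (a * b))) = φ (algebraMap R S a) * iR (D (algebraMap R B b)) + φ (algebraMap R S b) * iR (D (algebraMap R B a))
      rw [map_mul, Derivation.leibniz, smul_eq_mul, smul_eq_mul, map_add, map_mul, map_mul, hsw, hsw]
  have hE2' : ∀ r, E (algebraMap R S r) = iR (D (algebraMap R B r)) := hE2
  let g : S →+ B →+ S ⊗[R] B := AddMonoidHom.mk' (fun s => AddMonoidHom.mk' (fun b => iR b * E s + φ s * iR (D b))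
    fun b c => by simp only [map_add]; ring) fun s t => by
      ext b
      simp only [AddMonoidHom.add_apply, AddMonoidHom.mk'_apply, map_add]
      ring
  let G : S ⊗[R] B →+ S ⊗[R] B := TensorProduct.liftAddHom g fun r s b => by
    show iR b * E (r • s) + φ (r • s) * iR (D b) = iR (r • b) * E s + φ s * iR (D (r • b))
    rw [Algebra.smul_def, Algebra.smul_def, hE1, hE2', map_mul φ, map_mul iR, Derivation.leibniz, smul_eq_mul, smul_eq_mul,
      map_add, map_mul, map_mul, hsw]
    ring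
  have hG : ∀ s b, G (s ⊗ₜ[R] b) = iR b * E s + φ s * iR (D b) := fun _ _ => rfl
  have hsplit : ∀ (s : S) (b : B), s ⊗ₜ[R] b = φ s * iR b := fun s b => by
    show _ = (s ⊗ₜ[R] (1 : B)) * ((1 : S) ⊗ₜ[R] b)
    rw [Algebra.TensorProduct.tmul_mul_tmul, mul_one, one_mul]
  refine ⟨Derivation.mk' G.toIntLinearMap fun x y => ?_, fun b => ?_⟩
  · show G (x * y) = x * G y + y * G x
    induction x using TensorProduct.induction_on with
    | zero => simp
    | add a a' ha ha' => simp only [add_mul, map_add, ha, ha']; ring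
    | tmul s b =>
      induction y using TensorProduct.induction_on with
      | zero => simp
      | add c c' hc hc' => simp only [mul_add, map_add, hc, hc']; ring
      | tmul s' b' =>
        rw [Algebra.TensorProduct.tmul_mul_tmul, hG, hG, hG, hE1, Derivation.leibniz, smul_eq_mul, smul_eq_mul,
          map_add, map_mul iR, map_mul iR, map_mul iR, map_mul φ, hsplit s b, hsplit s' b']
        ring
  · show G ((1 : S) ⊗ₜ[R] b) = _
    rw [hG]
    have h1 : E 1 = 0 := by
      have h1 := hE1 1 1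
      simp only [mul_one, map_one, one_mul] at h1
      simpa using h1
    rw [h1, mul_zero, zero_add, map_one, one_mul]
    rfl

end Groth.Agent.CAlgH.AdicSmooth
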