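import Mathlib
import Groth.Agent.CAlgH.AdicSmoothModel
import Groth.Agent.CAlgH.GRingMaximal

/-! Formal smoothness implies flatness; completion. -/
universe u
open IsLocalRing TensorProduct

namespace Groth.Agent.CAlgH.AdicSmooth

theorem injective_of_surjective_ringEndo {R : Type u} [CommRing R] [IsNoetherianRing R] (f : R →+* R)
    (hf : Function.Surjective f) : Function.Injective f := by
  let K : ℕ →o Ideal R := ⟨fun n => Nat.rec (⊥ : Ideal R) (fun _ I => I.comap f) n, monotone_nat_of_le_succ fun n => by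
    induction n with
    | zero => exact bot_le
    | succ n ih => exact Ideal.comap_mono ih⟩
  obtain ⟨N, hN⟩ := monotone_stabilizes_iff_noetherian.mpr (inferInstanceAs (IsNoetherian R R)) K
  have hinj : ∀ n, ∀ y, ∃ x, ∀ I : Ideal R, (x ∈ Nat.rec (motive := fun _ => Ideal R) I (fun _ J => J.comap f) n ↔ y ∈ I) := by
    intro n
    induction n with
    | zero => exact fun y => ⟨y, fun _ => Iff.rfl⟩
    | succ n ih =>
      intro y
      obtain ⟨z, hz⟩ := ih y
      obtain ⟨x, rfl⟩ := hf z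
      exact ⟨x, fun I => hz I⟩
  rw [RingHom.injective_iff_ker_eq_bot, eq_bot_iff]
  intro y hy
  obtain ⟨x, hx⟩ := hinj N y
  have h1 : ∀ n (I : Ideal R), Nat.rec (motive := fun _ => Ideal R) (I.comap f) (fun _ J => J.comap f) n =
      (Nat.rec (motive := fun _ => Ideal R) I (fun _ J => J.comap f) n).comap f := by
    intro n I
    induction n with
    | zero => rfl
    | succ n ih => exact congrArg (Ideal.comap f) ih
  have h2 : x ∈ Nat.rec (motive := fun _ => Ideal R) (RingHom.ker f) (fun _ J => J.comap f) N := (hx _).mpr hy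
  rw [show RingHom.ker f = (⊥ : Ideal R).comap f from RingHom.ker_eq_comap_bot f, h1] at h2
  change x ∈ K (N + 1) at h2
  rw [← hN (N + 1) N.le_succ] at h2
  exact (hx ⊥).mp h2

variable {A B : Type u} [CommRing A] [CommRing B] [Algebra A B]

/-- Base change of formal smoothness to the fibre. -/
theorem fibre {k B₀ : Type u} [CommRing k] [CommRing B₀] [Algebra k B₀] {𝔫 : Ideal B} (α : A →+* k) (hα : Function.Surjective α)
    (ρ : B →+* B₀) (hρ : Function.Surjective ρ) (hker : RingHom.ker ρ = (RingHom.ker α).map (algebraMap A B))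
    (hcomm : ρ.comp (algebraMap A B) = (algebraMap k B₀).comp α) (h : CAlgX.IsAdicFormallySmooth A B 𝔫) :
    CAlgX.IsAdicFormallySmooth k B₀ (𝔫.map ρ) := by
  refine of_ringHom fun T _ f J hJ ψ hψ ⟨c, hc⟩ => ?_
  obtain ⟨g, hg1, hg2⟩ := exists_lift_ringHom h (f.comp α) J hJ (ψ.comp ρ)
    (by rw [RingHom.comp_assoc, hcomm, ← RingHom.comp_assoc, hψ, RingHom.comp_assoc])
    ⟨c, fun x hx => hc _ (by rw [← Ideal.map_pow]; exact Ideal.mem_map_of_mem _ hx)⟩
  have hk : RingHom.ker ρ ≤ RingHom.ker g := by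
    rw [hker, Ideal.map_le_iff_le_comap]
    intro a ha
    rw [Ideal.mem_comap, RingHom.mem_ker, ← RingHom.comp_apply, hg1, RingHom.comp_apply, RingHom.mem_ker.mp ha, map_zero]
  have hl := RingHom.liftOfRightInverse_comp_apply ρ _ (Function.rightInverse_surjInv hρ) ⟨g, hk⟩
  refine ⟨RingHom.liftOfSurjective ρ hρ ⟨g, hk⟩, RingHom.ext fun r => ?_, RingHom.ext fun y => ?_⟩
  · obtain ⟨a, rfl⟩ := hα r
    rw [RingHom.comp_apply, show algebraMap k B₀ (α a) = ρ (algebraMap A B a) from (RingHom.congr_fun hcomm a).symm]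
    exact (hl _).trans (RingHom.congr_fun hg1 a)
  · obtain ⟨b, rfl⟩ := hρ y
    exact (congrArg (Ideal.Quotient.mk J) (hl b)).trans (RingHom.congr_fun hg2 b)

variable [IsLocalRing A] [IsLocalRing B] [IsNoetherianRing A] [IsNoetherianRing B]

theorem exists_cpl_map [IsLocalHom (algebraMap A B)] :
    ∃ ψ : EGA4.Cpl A →+* EGA4.Cpl B,
      ψ.comp (algebraMap A (EGA4.Cpl A)) = (algebraMap B (EGA4.Cpl B)).comp (algebraMap A B) := by
  let χ := (algebraMap B (EGA4.Cpl B)).comp (algebraMap A B)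
  have hloc : (maximalIdeal A).map χ ≤ maximalIdeal (EGA4.Cpl B) := by
    rw [← Ideal.map_map, AdicCompletion.maximalIdeal_eq_map]
    exact Ideal.map_mono (IsLocalRing.map_maximalIdeal_le _)
  have hle : ∀ n, maximalIdeal A ^ n ≤ (maximalIdeal (EGA4.Cpl B) ^ n).comap χ := fun n => by
    rw [← Ideal.map_le_iff_le_comap, Ideal.map_pow]; exact Ideal.pow_right_mono hloc n
  let F : (n : ℕ) → EGA4.Cpl A →+* EGA4.Cpl B ⧸ maximalIdeal (EGA4.Cpl B) ^ n := fun n =>
    (Ideal.quotientMap (maximalIdeal (EGA4.Cpl B) ^ n) χ (hle n)).comp (AdicCompletion.evalₐ (maximalIdeal A) n).toRingHom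
  have hF : ∀ {i j : ℕ} (hij : i ≤ j), (Ideal.Quotient.factorPow (maximalIdeal (EGA4.Cpl B)) hij).comp (F j) = F i := by
    intro i j hij
    refine RingHom.ext fun x => ?_
    induction x using AdicCompletion.induction_on with
    | _ g =>
      simp only [F, RingHom.comp_apply, AlgHom.toRingHom_eq_coe, RingHom.coe_coe, AdicCompletion.evalₐ_mk]
      have := congrArg (Ideal.quotientMap (maximalIdeal (EGA4.Cpl B) ^ i) χ (hle i))
        (AdicCompletion.Ideal.mk_eq_mk (maximalIdeal A) hij g)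
      simpa [Ideal.quotientMap_mk] using this
  refine ⟨IsAdicComplete.liftRingHom (maximalIdeal (EGA4.Cpl B)) F hF, RingHom.ext fun a => ?_⟩
  refine IsHausdorff.eq_iff_smodEq (I := maximalIdeal (EGA4.Cpl B)).mpr fun n => ?_
  rw [SModEq.sub_mem, smul_eq_mul, Ideal.mul_top, ← Ideal.Quotient.eq]
  show Ideal.Quotient.mk _ (IsAdicComplete.liftRingHom _ F hF _) = _
  rw [IsAdicComplete.mk_liftRingHom]
  rfl

/-- Maps out of a completion killing a power of the maximal ideal agree once they agree on the ring. -/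
theorem cpl_hom_ext_of_pow {T : Type u} [CommRing T] (g g' : EGA4.Cpl A →+* T) {j : ℕ}
    (h : ∀ x ∈ maximalIdeal (EGA4.Cpl A) ^ j, g x = 0) (h' : ∀ x ∈ maximalIdeal (EGA4.Cpl A) ^ j, g' x = 0)
    (heq : g.comp (algebraMap A (EGA4.Cpl A)) = g'.comp (algebraMap A (EGA4.Cpl A))) : g = g' := by
  refine RingHom.ext fun x => ?_
  obtain ⟨a, ha⟩ := exists_sub_mem_pow _ AdicCompletion.maximalIdeal_eq_map.symm (exists_sub_algebraMap_mem A) j x
  have h1 := h _ ha
  have h2 := h' _ ha
  rw [map_sub, sub_eq_zero] at h1 h2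
  rw [h1, h2]
  exact RingHom.congr_fun heq a

/-- Formal smoothness passes to the completion of the target. -/
theorem cpl_target
    (h : CAlgX.IsAdicFormallySmooth A B (maximalIdeal B)) :
    CAlgX.IsAdicFormallySmooth A (EGA4.Cpl B) (maximalIdeal (EGA4.Cpl B)) := by
  refine of_ringHom fun T _ f J hJ ψ hψ ⟨c, hc⟩ => ?_
  have hc' : ∀ x ∈ maximalIdeal B ^ c, ψ (algebraMap B (EGA4.Cpl B) x) = 0 := fun x hx => hc _ (by
    rw [AdicCompletion.maximalIdeal_eq_map, ← Ideal.map_pow]; exact Ideal.mem_map_of_mem _ hx)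
  obtain ⟨g, hg1, hg2⟩ := exists_lift_ringHom h f J hJ (ψ.comp (algebraMap B (EGA4.Cpl B)))
    (by rw [RingHom.comp_assoc, ← IsScalarTower.algebraMap_eq, hψ]) ⟨c, hc'⟩
  have hkill : ∀ x ∈ maximalIdeal B ^ (c * 2), g x = 0 := fun x hx => by
    have hsub : (maximalIdeal B ^ c).map g ≤ J := Ideal.map_le_iff_le_comap.mpr fun y hy =>
      Ideal.mem_comap.mpr (Ideal.Quotient.eq_zero_iff_mem.mp ((RingHom.congr_fun hg2 y).trans (hc' y hy)))
    have h4 := Ideal.pow_right_mono hsub 2 (by rw [← Ideal.map_pow, ← pow_mul]; exact Ideal.mem_map_of_mem _ hx)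
    rwa [hJ, Ideal.mem_bot] at h4
  let gh : EGA4.Cpl B →+* T := (Ideal.Quotient.lift (maximalIdeal B ^ (c * 2)) g hkill).comp
    (AdicCompletion.evalₐ (maximalIdeal B) (c * 2)).toRingHom
  have hgh : ∀ b, gh (algebraMap B (EGA4.Cpl B) b) = g b := fun b => rfl
  have hkill' : ∀ x ∈ maximalIdeal (EGA4.Cpl B) ^ (c * 2), gh x = 0 := fun x hx => by
    rw [AdicCompletion.maximalIdeal_eq_map, ← Ideal.map_pow] at hx
    refine (Ideal.map_le_iff_le_comap.mpr fun y hy => ?_ : (maximalIdeal B ^ (c * 2)).map (algebraMap B (EGA4.Cpl B)) ≤ RingHom.ker gh) hx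
    rw [Ideal.mem_comap, RingHom.mem_ker, hgh]
    exact hkill y hy
  refine ⟨gh, RingHom.ext fun a => ?_, cpl_hom_ext_of_pow _ _ (j := c * 2) (fun x hx => ?_) (fun x hx => ?_) (RingHom.ext fun b => ?_)⟩
  · rw [RingHom.comp_apply, IsScalarTower.algebraMap_apply A B (EGA4.Cpl B), hgh]
    exact RingHom.congr_fun hg1 a
  · rw [RingHom.comp_apply, hkill' x hx, map_zero]
  · exact hc _ (Ideal.pow_le_pow_right (Nat.le_mul_of_pos_right c two_pos) hx)
  · show Ideal.Quotient.mk J (gh _) = ψ _
    rw [hgh]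
    exact RingHom.congr_fun hg2 b

/-- Formal smoothness passes to the completions. -/
theorem cpl [IsLocalHom (algebraMap A B)] (ψ : EGA4.Cpl A →+* EGA4.Cpl B)
    (hψ : ψ.comp (algebraMap A (EGA4.Cpl A)) = (algebraMap B (EGA4.Cpl B)).comp (algebraMap A B))
    (h : CAlgX.IsAdicFormallySmooth A B (maximalIdeal B)) :
    letI := ψ.toAlgebra
    CAlgX.IsAdicFormallySmooth (EGA4.Cpl A) (EGA4.Cpl B) (maximalIdeal (EGA4.Cpl B)) := by
  letI := ψ.toAlgebra
  refine of_ringHom fun T _ f J hJ ψ' hψ' ⟨c, hc⟩ => ?_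
  obtain ⟨g, hg1, hg2⟩ := exists_lift_ringHom (cpl_target h) (f.comp (algebraMap A (EGA4.Cpl A))) J hJ ψ'
    (by
      rw [IsScalarTower.algebraMap_eq A B (EGA4.Cpl B), ← hψ, ← RingHom.comp_assoc, ← RingHom.comp_assoc]
      exact congrArg (fun z => RingHom.comp z (algebraMap A (EGA4.Cpl A))) hψ') ⟨c, hc⟩
  have hloc : (maximalIdeal (EGA4.Cpl A)).map ψ ≤ maximalIdeal (EGA4.Cpl B) := by
    rw [AdicCompletion.maximalIdeal_eq_map, Ideal.map_map, hψ, ← Ideal.map_map, AdicCompletion.maximalIdeal_eq_map]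
    exact Ideal.map_mono (IsLocalRing.map_maximalIdeal_le _)
  have hm : ∀ x ∈ maximalIdeal (EGA4.Cpl A) ^ c, ψ x ∈ maximalIdeal (EGA4.Cpl B) ^ c := fun x hx => by
    have h1 := Ideal.mem_map_of_mem ψ hx
    rw [Ideal.map_pow] at h1
    exact Ideal.pow_right_mono hloc c h1
  have hsq : ∀ (u : EGA4.Cpl A →+* T), (∀ x ∈ maximalIdeal (EGA4.Cpl A) ^ c, u x ∈ J) →
      ∀ x ∈ maximalIdeal (EGA4.Cpl A) ^ (c * 2), u x = 0 := fun u hu x hx => by
    have h4 := Ideal.pow_right_mono (Ideal.map_le_iff_le_comap.mpr hu) 2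
      (by rw [← Ideal.map_pow, ← pow_mul]; exact Ideal.mem_map_of_mem u hx)
    rwa [hJ, Ideal.mem_bot] at h4
  refine ⟨g, cpl_hom_ext_of_pow _ _ (j := c * 2) (hsq _ fun x hx => ?_) (hsq _ fun x hx => ?_) ?_, hg2⟩
  · exact Ideal.Quotient.eq_zero_iff_mem.mp ((RingHom.congr_fun hg2 _).trans (hc _ (hm x hx)))
  · exact Ideal.Quotient.eq_zero_iff_mem.mp ((RingHom.congr_fun hψ' x).symm.trans (hc _ (hm x hx)))
  · refine Eq.trans ?_ hg1
    rw [RingHom.comp_assoc]
    exact congrArg (RingHom.comp g) (hψ.trans (IsScalarTower.algebraMap_eq A B (EGA4.Cpl B)).symm)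

/-- A formally smooth algebra is the flat complete algebra with the same fibre. -/
theorem exists_algEquiv_of_fibre [IsAdicComplete (maximalIdeal B) B] [IsLocalHom (algebraMap A B)]
    (h : CAlgX.IsAdicFormallySmooth A B (maximalIdeal B)) {k B₀ : Type u} [CommRing k] [CommRing B₀] [IsLocalRing B₀]
    [Algebra k B₀] (α : A →+* k) (ρB : B →+* B₀) (hρB : Function.Surjective ρB)
    (hkerB : RingHom.ker ρB = (maximalIdeal A).map (algebraMap A B))
    (hcommB : ρB.comp (algebraMap A B) = (algebraMap k B₀).comp α)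
    (C : Type u) [CommRing C] [IsLocalRing C] [IsNoetherianRing C] [IsAdicComplete (maximalIdeal C) C] [Algebra A C]
    [Module.Flat A C] (ρ : C →+* B₀) (hρs : Function.Surjective ρ)
    (hρker : RingHom.ker ρ = (maximalIdeal A).map (algebraMap A C))
    (hρc : ρ.comp (algebraMap A C) = (algebraMap k B₀).comp α) : Nonempty (B ≃ₐ[A] C) := by
  let mB := (maximalIdeal A).map (algebraMap A B)
  have hmB : mB ≤ maximalIdeal B := IsLocalRing.map_maximalIdeal_le _
  haveI : IsNoetherianRing B₀ := isNoetherianRing_of_surjective B B₀ ρB hρB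
  haveI : IsLocalHom ρB := IsLocalHom.of_surjective _ hρB
  have hmax : (maximalIdeal B).map ρB = maximalIdeal B₀ := IsLocalRing.map_maximalIdeal_of_surjective _ hρB
  let J := RingHom.ker ρ ⊔ maximalIdeal C ^ 2
  have hJle : J ≤ maximalIdeal C := sup_le (le_maximalIdeal (RingHom.ker_ne_top ρ)) (Ideal.pow_le_self two_ne_zero)
  haveI : IsAdicComplete J C :=
    (Groth.Agent.S9604.result (maximalIdeal C) J 2 1 two_pos one_pos le_sup_right (by rw [pow_one]; exact hJle) C).mp inferInstance
  let q : B₀ →+* C ⧸ J := RingHom.liftOfSurjective ρ hρs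
    ⟨Ideal.Quotient.mk J, fun x hx => Ideal.Quotient.eq_zero_iff_mem.mpr (Ideal.mem_sup_left hx)⟩
  have hq : ∀ c, q (ρ c) = Ideal.Quotient.mk J c := fun c => RingHom.liftOfRightInverse_comp_apply _ _ _ _ c
  haveI : IsLocalHom ρ := IsLocalHom.of_surjective _ hρs
  have hρmax : (maximalIdeal C).map ρ = maximalIdeal B₀ := IsLocalRing.map_maximalIdeal_of_surjective _ hρs
  obtain ⟨v, hv1, hv2⟩ := exists_lift_complete h (algebraMap A C) J (q.comp ρB)
    (RingHom.ext fun a => by
      show q (ρB (algebraMap A B a)) = Ideal.Quotient.mk J (algebraMap A C a)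
      rw [← hq]
      exact congrArg q ((RingHom.congr_fun hcommB a).trans (RingHom.congr_fun hρc a).symm))
    ⟨2, fun x hx => by
      have h1 : ρB x ∈ (maximalIdeal C ^ 2).map ρ := by
        rw [Ideal.map_pow, hρmax, ← hmax, ← Ideal.map_pow]; exact Ideal.mem_map_of_mem _ hx
      obtain ⟨c, hc, hcx⟩ := (Ideal.mem_map_iff_of_surjective ρ hρs).mp h1
      rw [RingHom.comp_apply, ← hcx, hq, Ideal.Quotient.eq_zero_iff_mem]
      exact Ideal.mem_sup_right hc⟩
  have hv : ∀ b c, ρ c = ρB b → v b - c ∈ J := fun b c hbc => Ideal.Quotient.eq.mp (by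
    rw [← hq c, hbc]; exact RingHom.congr_fun hv2 b)
  have hmv : RingHom.ker ρ ≤ (maximalIdeal B).map v := by
    rw [hρker, ← hv1, ← Ideal.map_map]
    exact Ideal.map_mono hmB
  have hvs : Function.Surjective v := by
    refine CAlgH3.surjective_of_maximalIdeal_le v (Ideal.map_le_iff_le_comap.mpr fun b hb => ?_) (fun y => ?_) fun c hc => ?_
    · have h1 : ρB b ∈ (maximalIdeal C).map ρ := by
        rw [hρmax, ← hmax]; exact Ideal.mem_map_of_mem _ hb
      obtain ⟨c, hc, hcb⟩ := (Ideal.mem_map_iff_of_surjective ρ hρs).mp h1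
      simpa using add_mem (hJle (hv b c hcb)) hc
    · obtain ⟨c, rfl⟩ := residue_surjective y
      obtain ⟨b, hb⟩ := hρB (ρ c)
      refine ⟨b, ?_⟩
      rw [RingHom.comp_apply, ← sub_eq_zero, ← map_sub, residue_eq_zero_iff]
      exact hJle (hv b c hb.symm)
    · have h1 : ρ c ∈ (maximalIdeal B).map ρB := by
        rw [hmax, ← hρmax]; exact Ideal.mem_map_of_mem _ hc
      obtain ⟨b, hb, hbc⟩ := (Ideal.mem_map_iff_of_surjective ρB hρB).mp h1
      obtain ⟨u, hu, w, hw, huw⟩ := Submodule.mem_sup.mp (hv b c hbc.symm)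
      rw [show c = (v b - u) + (-w) by linear_combination huw]
      exact Submodule.add_mem_sup (sub_mem (Ideal.mem_map_of_mem v hb) (hmv hu)) (neg_mem hw)
  let vb : B₀ →+* B₀ := RingHom.liftOfSurjective ρB hρB ⟨ρ.comp v, fun x hx => by
    rw [hkerB] at hx
    have h1 : v x ∈ RingHom.ker ρ := by
      rw [hρker, ← hv1, ← Ideal.map_map]
      exact Ideal.mem_map_of_mem v hx
    exact h1⟩
  have hvbρ : ∀ x, vb (ρB x) = ρ (v x) := fun x => RingHom.liftOfRightInverse_comp_apply _ _ _ _ x
  have hvb : Function.Injective vb :=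
    injective_of_surjective_ringEndo vb fun y => by
      obtain ⟨x, hx⟩ := (hρs.comp hvs) y
      exact ⟨ρB x, (hvbρ x).trans hx⟩
  have hvker : RingHom.ker v ≤ mB := fun x hx => by
    show x ∈ (maximalIdeal A).map (algebraMap A B)
    rw [← hkerB, RingHom.mem_ker]
    refine hvb ?_
    rw [map_zero, hvbρ]
    rw [RingHom.mem_ker.mp hx, map_zero]
  let va : B →ₐ[A] C := { v with commutes' := fun a => RingHom.congr_fun hv1 a }
  haveI : Module.Flat A (B ⧸ LinearMap.ker va.toLinearMap) :=
    Module.Flat.of_linearEquiv (va.toLinearMap.quotKerEquivOfSurjective hvs)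
  have hK : RingHom.ker v ≤ mB * RingHom.ker v := fun x hx => by
    have h2 : x ∈ LinearMap.ker va.toLinearMap ⊓ (maximalIdeal A • ⊤ : Submodule A B) := by
      refine ⟨hx, ?_⟩
      rw [Ideal.smul_top_eq_map]
      exact hvker hx
    refine (Submodule.smul_le (P := (mB * RingHom.ker v).restrictScalars A)).mpr (fun a ha y hy => ?_)
      (inf_smul_top_le_of_flat_quotient _ _ h2)
    show a • y ∈ mB * RingHom.ker v
    rw [Algebra.smul_def]
    exact Ideal.mul_mem_mul (Ideal.mem_map_of_mem _ ha) hy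
  have hbot : RingHom.ker v = ⊥ := Submodule.eq_bot_of_le_smul_of_le_jacobson_bot mB _ (IsNoetherian.noetherian _)
    (by rw [smul_eq_mul]; exact hK) (hmB.trans (maximalIdeal_le_jacobson _))
  exact ⟨AlgEquiv.ofBijective va ⟨(RingHom.injective_iff_ker_eq_bot v).mpr hbot, hvs⟩⟩

/-- Formally smooth maps of complete Noetherian local rings are flat. -/
theorem flat_of_complete [IsAdicComplete (maximalIdeal A) A] [IsAdicComplete (maximalIdeal B) B]
    [IsLocalHom (algebraMap A B)] (h : CAlgX.IsAdicFormallySmooth A B (maximalIdeal B)) : Module.Flat A B := by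
  let k := ResidueField A
  let mB := (maximalIdeal A).map (algebraMap A B)
  have hmB : mB ≤ maximalIdeal B := IsLocalRing.map_maximalIdeal_le _
  haveI : Nontrivial (B ⧸ mB) := Ideal.Quotient.nontrivial_iff.mpr (ne_top_of_le_ne_top (maximalIdeal.isMaximal B).ne_top hmB)
  haveI : IsLocalRing (B ⧸ mB) := IsLocalRing.of_surjective' (Ideal.Quotient.mk mB) Ideal.Quotient.mk_surjective
  haveI := CAlgH.isAdicComplete_quotient mB
  let j : k →+* B ⧸ mB := Ideal.Quotient.lift (maximalIdeal A) ((Ideal.Quotient.mk mB).comp (algebraMap A B))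
    fun a ha => Ideal.Quotient.eq_zero_iff_mem.mpr (Ideal.mem_map_of_mem _ ha)
  letI : Algebra k (B ⧸ mB) := j.toAlgebra
  have hmax : (maximalIdeal B).map (Ideal.Quotient.mk mB) = maximalIdeal (B ⧸ mB) :=
    haveI : IsLocalHom (Ideal.Quotient.mk mB) := IsLocalHom.of_surjective _ Ideal.Quotient.mk_surjective
    IsLocalRing.map_maximalIdeal_of_surjective _ Ideal.Quotient.mk_surjective
  have h₀ := fibre (k := k) (residue A) residue_surjective (Ideal.Quotient.mk mB) Ideal.Quotient.mk_surjective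
    (by rw [Ideal.mk_ker, ker_residue]) rfl h
  rw [hmax] at h₀
  haveI := isRegularLocalRing_of_adicSmooth h₀
  obtain ⟨C, _, _, _, ρ, _, _, _, _, hρs, hρker, hρc⟩ := exists_flat_lift A (residue A) residue_surjective (B ⧸ mB)
  obtain ⟨e⟩ := exists_algEquiv_of_fibre h (residue A) (Ideal.Quotient.mk mB) Ideal.Quotient.mk_surjective
    (Ideal.mk_ker) rfl C ρ hρs hρker hρc
  exact Module.Flat.of_linearEquiv e.toLinearEquiv

/-- Formally smooth local maps of Noetherian local rings are flat. -/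
theorem flat [IsLocalHom (algebraMap A B)] (h : CAlgX.IsAdicFormallySmooth A B (maximalIdeal B)) : Module.Flat A B := by
  obtain ⟨ψ, hψ⟩ := exists_cpl_map (A := A) (B := B)
  haveI : IsNoetherianRing (EGA4.Cpl A) := Groth.Agent.Matlis6.isNoetherianRing_adicCompletion _
  haveI : IsNoetherianRing (EGA4.Cpl B) := Groth.Agent.Matlis6.isNoetherianRing_adicCompletion _
  have h' := cpl ψ hψ h
  letI := ψ.toAlgebra
  haveI : IsLocalHom (algebraMap (EGA4.Cpl A) (EGA4.Cpl B)) := by
    refine ((local_hom_TFAE _).out 0 2 rfl rfl).mpr ?_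
    show Ideal.map ψ _ ≤ _
    rw [AdicCompletion.maximalIdeal_eq_map, Ideal.map_map, hψ, ← Ideal.map_map, AdicCompletion.maximalIdeal_eq_map]
    exact Ideal.map_mono (IsLocalRing.map_maximalIdeal_le _)
  exact RingHom.flat_algebraMap_iff.mp
    ((completion_map_flat_iff A B ψ hψ).mp (RingHom.flat_algebraMap_iff.mpr (flat_of_complete h')))

end Groth.Agent.CAlgH.AdicSmooth

namespace Groth.Agent.CAlgH.AdicSmooth

theorem includeRight_surjective_of_surjective (A k B : Type u) [CommRing A] [CommRing k] [CommRing B] [Algebra A k] [Algebra A B]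
    (hα : Function.Surjective (algebraMap A k)) :
    Function.Surjective (Algebra.TensorProduct.includeRight : B →ₐ[A] k ⊗[A] B) := fun z => by
  induction z using TensorProduct.induction_on with
  | zero => exact ⟨0, map_zero _⟩
  | add x y hx hy =>
    obtain ⟨a, rfl⟩ := hx; obtain ⟨b, rfl⟩ := hy
    exact ⟨a + b, map_add _ _ _⟩
  | tmul c b =>
    obtain ⟨a, rfl⟩ := hα c
    refine ⟨a • b, ?_⟩
    rw [Algebra.TensorProduct.includeRight_apply, ← TensorProduct.smul_tmul, Algebra.algebraMap_eq_smul_one]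

theorem ker_includeRight_of_surjective (A k B : Type u) [CommRing A] [CommRing k] [CommRing B] [Algebra A k] [Algebra A B]
    (hα : Function.Surjective (algebraMap A k)) :
    RingHom.ker (Algebra.TensorProduct.includeRight : B →ₐ[A] k ⊗[A] B).toRingHom =
      (RingHom.ker (algebraMap A k)).map (algebraMap A B) := by
  let I := (RingHom.ker (algebraMap A k)).map (algebraMap A B)
  refine le_antisymm (fun b hb => ?_) (Ideal.map_le_iff_le_comap.mpr fun a ha => ?_)
  · let j : k →+* B ⧸ I := RingHom.liftOfSurjective (algebraMap A k) hα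
      ⟨(Ideal.Quotient.mk I).comp (algebraMap A B), fun a ha => Ideal.Quotient.eq_zero_iff_mem.mpr (Ideal.mem_map_of_mem _ ha)⟩
    let j' : k →ₐ[A] B ⧸ I := { j with commutes' := fun a => RingHom.liftOfRightInverse_comp_apply _ _ _ _ a }
    let θ : k ⊗[A] B →ₐ[A] B ⧸ I := Algebra.TensorProduct.lift j' (Ideal.Quotient.mkₐ A I) fun _ _ => Commute.all _ _
    have h1 : θ ((1 : k) ⊗ₜ[A] b) = Ideal.Quotient.mk I b := by simp [θ]
    rw [show (1 : k) ⊗ₜ[A] b = 0 from hb, map_zero] at h1
    exact Ideal.Quotient.eq_zero_iff_mem.mp h1.symm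
  · show (1 : k) ⊗ₜ[A] algebraMap A B a = 0
    rw [Algebra.algebraMap_eq_smul_one, ← TensorProduct.smul_tmul, ← Algebra.algebraMap_eq_smul_one,
      RingHom.mem_ker.mp ha, TensorProduct.zero_tmul]

variable {A B : Type u} [CommRing A] [CommRing B] [Algebra A B] [IsLocalRing A] [IsLocalRing B]

theorem ker_algebraMap_closedResidue : RingHom.ker (algebraMap A (maximalIdeal A).ResidueField) = maximalIdeal A :=
  Ideal.ker_algebraMap_residueField _

theorem closedFibre [IsLocalHom (algebraMap A B)] :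
    ∃ _ : IsLocalRing ((maximalIdeal A).Fiber B),
      Function.Surjective (Algebra.TensorProduct.includeRight : B →ₐ[A] (maximalIdeal A).Fiber B) ∧
      (maximalIdeal B).map (Algebra.TensorProduct.includeRight : B →ₐ[A] (maximalIdeal A).Fiber B).toRingHom =
        maximalIdeal ((maximalIdeal A).Fiber B) := by
  have hα : Function.Surjective (algebraMap A (maximalIdeal A).ResidueField) := Ideal.algebraMap_residueField_surjective _
  have hs := includeRight_surjective_of_surjective A (maximalIdeal A).ResidueField B hα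
  haveI : Nontrivial ((maximalIdeal A).Fiber B) := by
    refine nontrivial_of_ne 1 0 fun h => ?_
    have h1 : (1 : B) ∈ RingHom.ker (Algebra.TensorProduct.includeRight : B →ₐ[A] (maximalIdeal A).Fiber B).toRingHom := h
    rw [ker_includeRight_of_surjective A _ B hα, ker_algebraMap_closedResidue] at h1
    exact (maximalIdeal.isMaximal B).ne_top ((Ideal.eq_top_iff_one _).mpr (IsLocalRing.map_maximalIdeal_le _ h1))
  haveI hloc : IsLocalRing ((maximalIdeal A).Fiber B) :=
    IsLocalRing.of_surjective' (Algebra.TensorProduct.includeRight : B →ₐ[A] (maximalIdeal A).Fiber B).toRingHom hs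
  haveI : IsLocalHom (Algebra.TensorProduct.includeRight : B →ₐ[A] (maximalIdeal A).Fiber B).toRingHom :=
    IsLocalHom.of_surjective _ hs
  exact ⟨hloc, hs, IsLocalRing.map_maximalIdeal_of_surjective _ hs⟩

/-- Formally smooth ⟺ flat with geometrically regular special fibre. -/
theorem flat_fibre_iff [IsNoetherianRing A] [IsNoetherianRing B] [IsLocalHom (algebraMap A B)] :
    (Module.Flat A B ∧ CAlg.IsGeometricallyRegular (maximalIdeal A).ResidueField ((maximalIdeal A).Fiber B)) ↔
      CAlgX.IsAdicFormallySmooth A B (maximalIdeal B) := by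
  obtain ⟨_, hs, hmax⟩ := closedFibre (A := A) (B := B)
  haveI : IsNoetherianRing ((maximalIdeal A).Fiber B) :=
    isNoetherianRing_of_surjective B _ (Algebra.TensorProduct.includeRight : B →ₐ[A] (maximalIdeal A).Fiber B).toRingHom hs
  have hα : Function.Surjective (algebraMap A (maximalIdeal A).ResidueField) := Ideal.algebraMap_residueField_surjective _
  have hker := ker_includeRight_of_surjective A (maximalIdeal A).ResidueField B hα
  have hcomm : (Algebra.TensorProduct.includeRight : B →ₐ[A] (maximalIdeal A).Fiber B).toRingHom.comp (algebraMap A B) =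
      (algebraMap (maximalIdeal A).ResidueField ((maximalIdeal A).Fiber B)).comp (algebraMap A (maximalIdeal A).ResidueField) :=
    (Algebra.TensorProduct.includeRight : B →ₐ[A] (maximalIdeal A).Fiber B).comp_algebraMap.trans
      (IsScalarTower.algebraMap_eq A (maximalIdeal A).ResidueField _)
  constructor
  · rintro ⟨hflat, hgeo⟩
    refine of_flat_of_fibre (algebraMap A (maximalIdeal A).ResidueField) hα _ hs hker hcomm _ ?_ ?_
    · rw [ker_algebraMap_closedResidue]; exact IsLocalRing.map_maximalIdeal_le _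
    · rw [hmax]; exact of_isGeometricallyRegular hgeo
  · intro h
    refine ⟨flat h, isGeometricallyRegular_of_adicSmooth ?_⟩
    rw [← hmax]
    exact fibre (algebraMap A (maximalIdeal A).ResidueField) hα _ hs hker hcomm h

/-- Formally smooth lifts of formally smooth algebras over the residue field. -/
theorem exists_lift_of_fibre [IsNoetherianRing A] [IsAdicComplete (maximalIdeal A) A] (B₀ : Type u) [CommRing B₀] [IsLocalRing B₀]
    [IsNoetherianRing B₀] [IsAdicComplete (maximalIdeal B₀) B₀] [Algebra (maximalIdeal A).ResidueField B₀]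
    (hB : CAlgX.IsAdicFormallySmooth (maximalIdeal A).ResidueField B₀ (maximalIdeal B₀)) :
    ∃ (C : Type u) (_ : CommRing C) (_ : IsLocalRing C) (_ : Algebra A C),
      IsNoetherianRing C ∧ IsAdicComplete (maximalIdeal C) C ∧ IsLocalHom (algebraMap A C) ∧
        CAlgX.IsAdicFormallySmooth A C (maximalIdeal C) ∧
        Nonempty ((maximalIdeal A).Fiber C ≃ₐ[(maximalIdeal A).ResidueField] B₀) := by
  haveI := isRegularLocalRing_of_adicSmooth hB
  have hα : Function.Surjective (algebraMap A (maximalIdeal A).ResidueField) := Ideal.algebraMap_residueField_surjective _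
  obtain ⟨C, _, _, _, ρ, hN, hc, hflat, hloc, hρs, hρker, hρc⟩ := exists_flat_lift A _ hα B₀
  letI : Algebra A B₀ := ((algebraMap (maximalIdeal A).ResidueField B₀).comp (algebraMap A _)).toAlgebra
  haveI : IsScalarTower A (maximalIdeal A).ResidueField B₀ := IsScalarTower.of_algebraMap_eq fun _ => rfl
  let ρa : C →ₐ[A] B₀ := { ρ with commutes' := fun a => RingHom.congr_fun hρc a }
  let Φ : (maximalIdeal A).Fiber C →ₐ[(maximalIdeal A).ResidueField] B₀ :=
    Algebra.TensorProduct.lift (Algebra.ofId _ _) ρa fun _ _ => Commute.all _ _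
  have hΦ : ∀ c, Φ ((1 : (maximalIdeal A).ResidueField) ⊗ₜ[A] c) = ρ c := fun c => by
    simp [Φ, ρa]
  have hΦs : Function.Surjective Φ := fun y => by
    obtain ⟨c, rfl⟩ := hρs y
    exact ⟨_, hΦ c⟩
  have hΦi : Function.Injective Φ := by
    rw [injective_iff_map_eq_zero]
    intro z hz
    obtain ⟨c, rfl⟩ := includeRight_surjective_of_surjective A _ C hα z
    rw [Algebra.TensorProduct.includeRight_apply, hΦ] at hz
    have h1 : c ∈ RingHom.ker ρ := hz
    rw [hρker, ← ker_algebraMap_closedResidue (A := A), ← ker_includeRight_of_surjective A _ C hα] at h1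
    exact h1
  let e := AlgEquiv.ofBijective Φ ⟨hΦi, hΦs⟩
  refine ⟨C, inferInstance, inferInstance, inferInstance, hN, hc, hloc, ?_, ⟨e⟩⟩
  refine flat_fibre_iff.mp ⟨hflat, ?_⟩
  obtain ⟨_, hs, -⟩ := closedFibre (A := A) (B := C)
  exact CAlgH.isGeometricallyRegular_of_algEquiv e.symm (isGeometricallyRegular_of_adicSmooth hB)

end Groth.Agent.CAlgH.AdicSmooth
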