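import Mathlib
import Groth.Agent.CAlgH.AdicSmoothFlatness
import Groth.Agent.CAlgH.AdicSmoothDeriv
import Groth.Agent.CAlgH.GRingPoly
import Groth.Agent.CAlgH.RegularBase
import Groth.Agent.CAlgH.FiniteCompletion

/-! Formally smooth maps of complete local rings are regular. -/
universe u
open IsLocalRing TensorProduct

namespace Groth.Agent.CAlgH.AdicSmooth

/-- The generic fibre over a regular complete base. -/
theorem isGeometricallyRegular_generic_fibre (A C : Type u) [CommRing A] [IsDomain A] [IsRegularLocalRing A]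
    (hA : GoodBase A) [CommRing C] [IsRegularLocalRing C] [IsAdicComplete (maximalIdeal C) C] [Algebra A C]
    (h : CAlgX.IsAdicFormallySmooth A C (maximalIdeal C)) :
    CAlg.IsGeometricallyRegular (FractionRing A) (FractionRing A ⊗[A] C) := by
  haveI : IsRegularRing C := CAlgH3.isRegularRing_of_isRegularLocalRing
  refine isGeometricallyRegular_generic_goodBase A C hA ?_
  intro B _ _ _ _ D
  haveI : IsAdicComplete ((maximalIdeal C).map (algebraMap C (C ⊗[A] B))) (C ⊗[A] B) :=
    (IsAdicComplete.map_algebraMap_iff _ _).mpr (AdicRing.isAdicComplete_of_finite _ _)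
  exact exists_derivation_tensor h B D

theorem exists_pow_le_of_finite (R L : Type u) [CommRing R] [IsLocalRing R] [CommRing L] [IsLocalRing L]
    [IsNoetherianRing L] [Algebra R L] [Module.Finite R L]
    [Nontrivial (L ⧸ (maximalIdeal R).map (algebraMap R L))] :
    ∃ d, maximalIdeal L ^ d ≤ (maximalIdeal R).map (algebraMap R L) := by
  let J := (maximalIdeal R).map (algebraMap R L)
  haveI : Module.Finite (R ⧸ maximalIdeal R) (L ⧸ J) := Module.Finite.of_restrictScalars_finite R _ _
  haveI : IsArtinianRing (L ⧸ J) :=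
    letI := Ideal.Quotient.field (maximalIdeal R)
    IsArtinianRing.of_finite (R ⧸ maximalIdeal R) _
  haveI : IsLocalRing (L ⧸ J) := .of_surjective' _ Ideal.Quotient.mk_surjective
  obtain ⟨d, hd⟩ := IsArtinianRing.isNilpotent_jacobson_bot (R := L ⧸ J)
  rw [IsLocalRing.jacobson_eq_maximalIdeal _ bot_ne_top] at hd
  refine ⟨d, ?_⟩
  rw [← Ideal.mk_ker (I := (maximalIdeal R).map (algebraMap R L)), RingHom.ker_eq_comap_bot, ← Ideal.map_le_iff_le_comap,
    Ideal.map_pow, IsLocalRing.map_maximalIdeal_of_surjective _ Ideal.Quotient.mk_surjective, hd]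
  exact le_rfl

/-- The flat complete algebra obtained by base change along a finite extension of local rings. -/
theorem exists_algEquiv_tensor {A0 A C1 B B₀ k : Type u} [CommRing A0] [IsLocalRing A0] [IsNoetherianRing A0] [CommRing A]
    [IsLocalRing A] [IsNoetherianRing A] [IsAdicComplete (maximalIdeal A) A] [Algebra A0 A] [Module.Finite A0 A]
    [IsLocalHom (algebraMap A0 A)]
    [CommRing C1] [IsLocalRing C1] [IsNoetherianRing C1] [IsAdicComplete (maximalIdeal C1) C1] [Algebra A0 C1]
    [Module.Flat A0 C1] [CommRing B] [IsLocalRing B] [IsNoetherianRing B] [IsAdicComplete (maximalIdeal B) B] [Algebra A B]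
    [IsLocalHom (algebraMap A B)] [CommRing k] [CommRing B₀] [IsLocalRing B₀] [Algebra k B₀]
    (h : CAlgX.IsAdicFormallySmooth A B (maximalIdeal B)) (α : A →+* k) (hα : RingHom.ker α = maximalIdeal A)
    (hres : Function.Surjective ((residue A).comp (algebraMap A0 A)))
    (ρB : B →+* B₀) (hρB : Function.Surjective ρB)
    (hkerB : RingHom.ker ρB = (maximalIdeal A).map (algebraMap A B))
    (hcommB : ρB.comp (algebraMap A B) = (algebraMap k B₀).comp α)
    (ρ1 : C1 →+* B₀) (hρ1 : Function.Surjective ρ1) (hker1 : RingHom.ker ρ1 = (maximalIdeal A0).map (algebraMap A0 C1))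
    (hcomm1 : ρ1.comp (algebraMap A0 C1) = (algebraMap k B₀).comp (α.comp (algebraMap A0 A))) :
    Nonempty (B ≃ₐ[A] A ⊗[A0] C1) := by
  letI : Algebra A0 B₀ := (ρ1.comp (algebraMap A0 C1)).toAlgebra
  let l : A →ₐ[A0] B₀ := { (algebraMap k B₀).comp α with commutes' := fun a => (RingHom.congr_fun hcomm1 a).symm }
  let r : C1 →ₐ[A0] B₀ := { ρ1 with commutes' := fun _ => rfl }
  let ρa : A ⊗[A0] C1 →ₐ[A0] B₀ := Algebra.TensorProduct.lift l r fun _ _ => Commute.all _ _
  let ρ : A ⊗[A0] C1 →+* B₀ := ρa.toRingHom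
  have hρA : ∀ a : A, ρ (algebraMap A (A ⊗[A0] C1) a) = algebraMap k B₀ (α a) := fun a => by
    show ρa (a ⊗ₜ[A0] (1 : C1)) = _
    rw [Algebra.TensorProduct.lift_tmul, map_one, mul_one]
    rfl
  have hρC : ∀ c : C1, ρ ((1 : A) ⊗ₜ[A0] c) = ρ1 c := fun c => by
    show ρa _ = _
    rw [Algebra.TensorProduct.lift_tmul, map_one, one_mul]
    rfl
  have hρs : Function.Surjective ρ := fun y => by
    obtain ⟨c, rfl⟩ := hρ1 y
    exact ⟨_, hρC c⟩
  let mD := (maximalIdeal A).map (algebraMap A (A ⊗[A0] C1))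
  have hdec : ∀ z : A ⊗[A0] C1, ∃ c : C1, z - (1 : A) ⊗ₜ[A0] c ∈ mD := fun z => by
    induction z using TensorProduct.induction_on with
    | zero => exact ⟨0, by simp⟩
    | add x y hx hy =>
      obtain ⟨c, hc⟩ := hx; obtain ⟨c', hc'⟩ := hy
      exact ⟨c + c', by rw [tmul_add, add_sub_add_comm]; exact add_mem hc hc'⟩
    | tmul a c =>
      obtain ⟨a0, ha0⟩ := hres (residue A a)
      refine ⟨a0 • c, ?_⟩
      rw [← TensorProduct.smul_tmul, ← sub_tmul]
      have hm : a - a0 • (1 : A) ∈ maximalIdeal A := by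
        rw [← residue_eq_zero_iff, map_sub, ← Algebra.algebraMap_eq_smul_one, sub_eq_zero]; exact ha0.symm
      rw [show (a - a0 • (1 : A)) ⊗ₜ[A0] c = algebraMap A (A ⊗[A0] C1) (a - a0 • (1 : A)) * ((1 : A) ⊗ₜ[A0] c) by
        rw [Algebra.TensorProduct.algebraMap_apply, Algebra.TensorProduct.tmul_mul_tmul, mul_one, one_mul]; rfl]
      exact Ideal.mul_mem_right _ _ (Ideal.mem_map_of_mem _ hm)
  have hρker : RingHom.ker ρ = mD := by
    have hle : mD ≤ RingHom.ker ρ := Ideal.map_le_iff_le_comap.mpr fun a ha => by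
      rw [Ideal.mem_comap, RingHom.mem_ker, hρA, RingHom.mem_ker.mp (hα.ge ha), map_zero]
    refine le_antisymm (fun z hz => ?_) hle
    obtain ⟨c, hc⟩ := hdec z
    have h1 : c ∈ RingHom.ker ρ1 := by
      rw [RingHom.mem_ker, ← hρC]
      have h2 := hle hc
      rw [RingHom.mem_ker, map_sub, RingHom.mem_ker.mp hz, zero_sub, neg_eq_zero] at h2
      exact h2
    rw [hker1] at h1
    have h2 : (Algebra.TensorProduct.includeRight : C1 →ₐ[A0] A ⊗[A0] C1) c ∈ mD := by
      have h3 := Ideal.mem_map_of_mem (Algebra.TensorProduct.includeRight : C1 →ₐ[A0] A ⊗[A0] C1).toRingHom h1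
      rw [Ideal.map_map, show (Algebra.TensorProduct.includeRight : C1 →ₐ[A0] A ⊗[A0] C1).toRingHom.comp (algebraMap A0 C1) = algebraMap A0 (A ⊗[A0] C1) from (Algebra.TensorProduct.includeRight : C1 →ₐ[A0] A ⊗[A0] C1).comp_algebraMap, IsScalarTower.algebraMap_eq A0 A (A ⊗[A0] C1), ← Ideal.map_map] at h3
      exact Ideal.map_mono (IsLocalRing.map_maximalIdeal_le _) h3
    simpa using add_mem hc h2
  letI : Algebra C1 (A ⊗[A0] C1) := Algebra.TensorProduct.rightAlgebra
  haveI : Module.Finite C1 (A ⊗[A0] C1) := Module.Finite.equiv (Algebra.TensorProduct.commRight A0 C1 A).toLinearEquiv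
  haveI : IsNoetherianRing (A ⊗[A0] C1) := IsNoetherianRing.of_finite C1 (A ⊗[A0] C1)
  haveI : Nontrivial (A ⊗[A0] C1) := hρs.nontrivial
  obtain ⟨d, hd⟩ : ∃ d, maximalIdeal A ^ d ≤ (maximalIdeal A0).map (algebraMap A0 A) := by
    haveI : Nontrivial (A ⧸ (maximalIdeal A0).map (algebraMap A0 A)) := Ideal.Quotient.nontrivial_iff.mpr
      (ne_top_of_le_ne_top (maximalIdeal.isMaximal A).ne_top (IsLocalRing.map_maximalIdeal_le _))
    exact exists_pow_le_of_finite A0 A
  haveI : IsLocalRing (A ⊗[A0] C1) := by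
    refine IsLocalRing.of_unique_max_ideal ⟨(maximalIdeal B₀).comap ρ, Ideal.comap_isMaximal_of_surjective ρ hρs, fun Q hQ => ?_⟩
    have hc : Q.comap (algebraMap C1 (A ⊗[A0] C1)) = maximalIdeal C1 :=
      haveI := hQ
      eq_maximalIdeal (Ideal.isMaximal_comap_of_isIntegral_of_isMaximal Q)
    have hle : mD ≤ Q := by
      refine Ideal.map_le_iff_le_comap.mpr fun a ha => ?_
      refine hQ.isPrime.mem_of_pow_mem d ?_
      rw [← map_pow]
      have h1 := Ideal.mem_map_of_mem (algebraMap A (A ⊗[A0] C1)) (hd (Ideal.pow_mem_pow ha d))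
      rw [Ideal.map_map, ← IsScalarTower.algebraMap_eq,
        show algebraMap A0 (A ⊗[A0] C1) = (algebraMap C1 (A ⊗[A0] C1)).comp (algebraMap A0 C1) from
          (Algebra.TensorProduct.includeRight : C1 →ₐ[A0] A ⊗[A0] C1).comp_algebraMap.symm, ← Ideal.map_map] at h1
      refine (Ideal.map_le_iff_le_comap.mpr ?_ : _ ≤ Q) h1
      rw [hc]
      exact le_maximalIdeal fun htop => RingHom.ker_ne_top ρ1 (hker1.trans htop)
    refine (Ideal.IsMaximal.eq_of_le hQ (Ideal.comap_isMaximal_of_surjective ρ hρs).ne_top ?_)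
    intro z hz
    show ρ z ∈ maximalIdeal B₀
    intro hu
    obtain ⟨w, hw⟩ := hρs (↑hu.unit⁻¹ : B₀)
    have h1 : z * w - 1 ∈ Q := hle (by
      rw [← hρker, RingHom.mem_ker, map_sub, map_mul, hw, IsUnit.mul_val_inv, map_one, sub_self])
    exact hQ.ne_top ((Ideal.eq_top_iff_one _).mpr (by simpa using sub_mem (Ideal.mul_mem_right w Q hz) h1))
  haveI := isAdicComplete_maximal_of_finite C1 (A ⊗[A0] C1)
  exact exists_algEquiv_of_fibre h α ρB hρB hkerB hcommB (A ⊗[A0] C1) ρ hρs hρker (RingHom.ext hρA)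

/-- The generic fibre of a formally smooth map from a complete local domain. -/
theorem isRegularRing_tensor_field_domain {A B : Type u} [CommRing A] [IsDomain A] [IsLocalRing A] [IsNoetherianRing A]
    [IsAdicComplete (maximalIdeal A) A] [CommRing B] [IsLocalRing B] [IsNoetherianRing B]
    [IsAdicComplete (maximalIdeal B) B] [Algebra A B] [IsLocalHom (algebraMap A B)]
    (h : CAlgX.IsAdicFormallySmooth A B (maximalIdeal B)) (L : Type u) [Field L] [Algebra A L]
    [Algebra.EssFiniteType A L] (hL : Function.Injective (algebraMap A L)) : IsRegularRing (L ⊗[A] B) := by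
  obtain ⟨Λ, _, n, f, hregΛ, hcase, hinj, hfin, hres⟩ := exists_finite_injective_mvPowerSeries A
  haveI := (isRegularLocalRing_mvPowerSeries Λ n).1
  haveI : IsAdicComplete (maximalIdeal Λ) Λ := by
    rcases hcase with hf | hc
    · letI := hf.toField
      rw [show maximalIdeal Λ = ⊥ from maximalIdeal_eq_bot]
      infer_instance
    · obtain ⟨_, _, hc, -⟩ := hc
      exact hc
  haveI := isAdicComplete_maximalIdeal_mvPowerSeries (R := Λ) (n := n)
  letI : Algebra (MvPowerSeries (Fin n) Λ) A := f.toAlgebra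
  haveI : Module.Finite (MvPowerSeries (Fin n) Λ) A := hfin
  haveI : IsDomain (MvPowerSeries (Fin n) Λ) := hinj.isDomain f
  haveI : IsLocalHom (algebraMap (MvPowerSeries (Fin n) Λ) A) := RingHom.IsIntegral.isLocalHom
    (RingHom.IsIntegral.of_finite hfin) hinj
  let k := ResidueField A
  let mB := (maximalIdeal A).map (algebraMap A B)
  have hmB : mB ≤ maximalIdeal B := IsLocalRing.map_maximalIdeal_le _
  haveI : Nontrivial (B ⧸ mB) := Ideal.Quotient.nontrivial_iff.mpr (ne_top_of_le_ne_top (maximalIdeal.isMaximal B).ne_top hmB)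
  haveI : IsLocalRing (B ⧸ mB) := IsLocalRing.of_surjective' (Ideal.Quotient.mk mB) Ideal.Quotient.mk_surjective
  haveI := CAlgH.isAdicComplete_quotient mB
  let j : k →+* B ⧸ mB := Ideal.Quotient.lift (maximalIdeal A) ((Ideal.Quotient.mk mB).comp (algebraMap A B))
    fun a ha => Ideal.Quotient.eq_zero_iff_mem.mpr (Ideal.mem_map_of_mem _ ha)
  letI : Algebra k (B ⧸ mB) := j.toAlgebra
  have hmax : (maximalIdeal B).map (Ideal.Quotient.mk mB) = maximalIdeal (B ⧸ mB) :=
    haveI : IsLocalHom (Ideal.Quotient.mk mB) := IsLocalHom.of_surjective _ Ideal.Quotient.mk_surjective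
    IsLocalRing.map_maximalIdeal_of_surjective _ Ideal.Quotient.mk_surjective
  have h₀ := fibre (k := k) (residue A) residue_surjective (Ideal.Quotient.mk mB) Ideal.Quotient.mk_surjective
    (by rw [Ideal.mk_ker, ker_residue]) rfl h
  rw [hmax] at h₀
  haveI := isRegularLocalRing_of_adicSmooth h₀
  obtain ⟨C1, _, _, _, ρ1, hN1, hc1, hflat1, hloc1, hρ1, hker1, hcomm1⟩ :=
    exists_flat_lift (MvPowerSeries (Fin n) Λ) ((residue A).comp (algebraMap (MvPowerSeries (Fin n) Λ) A)) hres (B ⧸ mB)
  haveI : IsRegularLocalRing (C1 ⧸ (maximalIdeal (MvPowerSeries (Fin n) Λ)).map (algebraMap _ C1)) :=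
    IsRegularLocalRing.of_ringEquiv
      ((Ideal.quotEquivOfEq hker1.symm).trans (RingHom.quotientKerEquivOfSurjective hρ1)).symm
  haveI := isRegularLocalRing_of_flat_fibre (A := MvPowerSeries (Fin n) Λ) (B := C1)
  have hfs1 : CAlgX.IsAdicFormallySmooth (MvPowerSeries (Fin n) Λ) C1 (maximalIdeal C1) := by
    have hker' : RingHom.ker ((residue A).comp f) = maximalIdeal _ :=
      eq_maximalIdeal (RingHom.ker_isMaximal_of_surjective _ hres)
    refine of_flat_of_fibre _ hres ρ1 hρ1 (by rw [hker', hker1]) hcomm1 _ ?_ ?_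
    · rw [hker']; exact IsLocalRing.map_maximalIdeal_le _
    · haveI : IsLocalHom ρ1 := IsLocalHom.of_surjective _ hρ1
      rw [IsLocalRing.map_maximalIdeal_of_surjective _ hρ1]
      exact h₀
  obtain ⟨e⟩ := exists_algEquiv_tensor h (residue A) (ker_residue) hres (Ideal.Quotient.mk mB) Ideal.Quotient.mk_surjective
    Ideal.mk_ker rfl ρ1 hρ1 hker1 hcomm1
  let A0 := MvPowerSeries (Fin n) Λ
  letI : Algebra A0 L := ((algebraMap A L).comp (algebraMap A0 A)).toAlgebra
  haveI : IsScalarTower A0 A L := IsScalarTower.of_algebraMap_eq fun _ => rfl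
  haveI : Algebra.EssFiniteType A0 L := Algebra.EssFiniteType.comp A0 A L
  haveI : FaithfulSMul A0 L := (faithfulSMul_iff_algebraMap_injective A0 L).mpr (hL.comp hinj)
  letI : Algebra (FractionRing A0) L := FractionRing.liftAlgebra A0 L
  haveI : Algebra.EssFiniteType (FractionRing A0) L := Algebra.EssFiniteType.of_comp A0 _ _
  haveI := isRegularRing_fg_ext (FractionRing A0) L (FractionRing A0 ⊗[A0] C1)
    (isGeometricallyRegular_generic_fibre A0 C1 (goodBase_mvPowerSeries hcase n) hfs1)
  haveI : IsRegularRing (L ⊗[A0] C1) :=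
    IsRegularRing.of_ringEquiv (Algebra.TensorProduct.cancelBaseChange A0 (FractionRing A0) L L C1).toRingEquiv
  haveI : IsRegularRing (L ⊗[A] (A ⊗[A0] C1)) :=
    IsRegularRing.of_ringEquiv (Algebra.TensorProduct.cancelBaseChange A0 A L L C1).toRingEquiv.symm
  exact IsRegularRing.of_ringEquiv (R := L ⊗[A] (A ⊗[A0] C1))
    (Algebra.TensorProduct.congr (AlgEquiv.refl (R := A) (A₁ := L)) e.symm).toRingEquiv

/-- Formally smooth maps of complete Noetherian local rings are regular. -/
theorem isRegularHom_of_complete {A B : Type u} [CommRing A] [IsLocalRing A] [IsNoetherianRing A]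
    [IsAdicComplete (maximalIdeal A) A] [CommRing B] [IsLocalRing B] [IsNoetherianRing B]
    [IsAdicComplete (maximalIdeal B) B] [Algebra A B] [IsLocalHom (algebraMap A B)]
    (h : CAlgX.IsAdicFormallySmooth A B (maximalIdeal B)) : CAlg.IsRegularHom A B := by
  refine (isRegularHom_iff_fields A B).mpr ⟨flat_of_complete h, fun L _ _ _ => ?_⟩
  let q := RingHom.ker (algebraMap A L)
  haveI : q.IsPrime := RingHom.ker_isPrime _
  haveI : IsLocalRing (A ⧸ q) := IsLocalRing.of_surjective' (Ideal.Quotient.mk q) Ideal.Quotient.mk_surjective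
  haveI := CAlgH.isAdicComplete_quotient q
  letI : Algebra (A ⧸ q) L := (RingHom.kerLift (algebraMap A L)).toAlgebra
  haveI : IsScalarTower A (A ⧸ q) L := IsScalarTower.of_algebraMap_eq fun _ => rfl
  haveI : Algebra.EssFiniteType (A ⧸ q) L := Algebra.EssFiniteType.of_comp A _ _
  let B' := (A ⧸ q) ⊗[A] B
  let iR : B →ₐ[A] B' := Algebra.TensorProduct.includeRight
  have hs : Function.Surjective iR := includeRight_surjective_of_surjective A (A ⧸ q) B Ideal.Quotient.mk_surjective
  haveI : Nontrivial B' := by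
    refine nontrivial_of_ne 1 0 fun h => ?_
    have h1 : (1 : B) ∈ RingHom.ker iR.toRingHom := h
    rw [show RingHom.ker iR.toRingHom = _ from ker_includeRight_of_surjective A (A ⧸ q) B Ideal.Quotient.mk_surjective] at h1
    exact (maximalIdeal.isMaximal B).ne_top ((Ideal.eq_top_iff_one _).mpr
      ((Ideal.map_mono (le_maximalIdeal (RingHom.ker_ne_top _))).trans (IsLocalRing.map_maximalIdeal_le _) h1))
  haveI : IsLocalRing B' := IsLocalRing.of_surjective' iR.toRingHom hs
  haveI : IsNoetherianRing B' := isNoetherianRing_of_surjective B B' iR.toRingHom hs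
  haveI : IsLocalHom iR.toRingHom := IsLocalHom.of_surjective _ hs
  haveI : IsAdicComplete (maximalIdeal B') B' :=
    letI := iR.toRingHom.toAlgebra
    haveI : Module.Finite B B' := RingHom.Finite.of_surjective iR.toRingHom hs
    isAdicComplete_maximal_of_finite B B'
  have hmax : (maximalIdeal B).map iR.toRingHom = maximalIdeal B' := IsLocalRing.map_maximalIdeal_of_surjective _ hs
  have h' := baseChange (A ⧸ q) h
  rw [show (maximalIdeal B).map (Algebra.TensorProduct.includeRight : B →ₐ[A] B') = maximalIdeal B' from hmax] at h'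
  haveI : IsLocalHom (algebraMap (A ⧸ q) B') := by
    refine ((local_hom_TFAE _).out 0 2 rfl rfl).mpr ?_
    rw [← IsLocalRing.map_maximalIdeal_of_surjective (Ideal.Quotient.mk q) Ideal.Quotient.mk_surjective, Ideal.map_map,
      show (algebraMap (A ⧸ q) B').comp (Ideal.Quotient.mk q) = iR.toRingHom.comp (algebraMap A B) from
        ((IsScalarTower.algebraMap_eq A (A ⧸ q) B').symm.trans iR.comp_algebraMap.symm), ← Ideal.map_map, ← hmax]
    exact Ideal.map_mono (IsLocalRing.map_maximalIdeal_le _)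
  haveI := isRegularRing_tensor_field_domain h' L (RingHom.kerLift_injective _)
  exact IsRegularRing.of_ringEquiv (R := L ⊗[A ⧸ q] B')
    (Algebra.TensorProduct.cancelBaseChange A (A ⧸ q) L L B).toRingEquiv

end Groth.Agent.CAlgH.AdicSmooth

namespace Groth.Agent.CAlgH.AdicSmooth

/-- Regular maps of local rings are formally smooth. -/
theorem of_isRegularHom {A B : Type u} [CommRing A] [IsLocalRing A] [IsNoetherianRing A] [CommRing B] [IsLocalRing B]
    [IsNoetherianRing B] [Algebra A B] [IsLocalHom (algebraMap A B)] (h : CAlg.IsRegularHom A B) :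
    CAlgX.IsAdicFormallySmooth A B (maximalIdeal B) :=
  flat_fibre_iff.mp ⟨h.1, (h.2 (maximalIdeal A)).2⟩

/-- Formally smooth local maps out of a ring with regular completion map are regular. -/
theorem isRegularHom_of_adicSmooth {A B : Type u} [CommRing A] [IsLocalRing A] [IsNoetherianRing A] [CommRing B]
    [IsLocalRing B] [IsNoetherianRing B] [Algebra A B] [IsLocalHom (algebraMap A B)]
    (hA : CAlg.IsRegularHom A (EGA4.Cpl A)) (h : CAlgX.IsAdicFormallySmooth A B (maximalIdeal B)) :
    CAlg.IsRegularHom A B := by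
  obtain ⟨ψ, hψ⟩ := exists_cpl_map (A := A) (B := B)
  haveI : IsNoetherianRing (EGA4.Cpl A) := Groth.Agent.Matlis6.isNoetherianRing_adicCompletion _
  haveI : IsNoetherianRing (EGA4.Cpl B) := Groth.Agent.Matlis6.isNoetherianRing_adicCompletion _
  have h' := cpl ψ hψ h
  letI := ψ.toAlgebra
  haveI : IsScalarTower A (EGA4.Cpl A) (EGA4.Cpl B) := IsScalarTower.of_algebraMap_eq' (by
    rw [RingHom.algebraMap_toAlgebra, hψ]
    exact IsScalarTower.algebraMap_eq A B (EGA4.Cpl B))
  haveI : IsLocalHom (algebraMap (EGA4.Cpl A) (EGA4.Cpl B)) := by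
    refine ((local_hom_TFAE _).out 0 2 rfl rfl).mpr ?_
    show Ideal.map ψ _ ≤ _
    rw [AdicCompletion.maximalIdeal_eq_map, Ideal.map_map, hψ, ← Ideal.map_map, AdicCompletion.maximalIdeal_eq_map]
    exact Ideal.map_mono (IsLocalRing.map_maximalIdeal_le _)
  have hAC := isRegularHom_comp_of_noetherian_fibres A (EGA4.Cpl A) (EGA4.Cpl B) hA (isRegularHom_of_complete h')
    fun p _ => isNoetherianRing_fiber A _ p
  haveI := isLocalHom_algebraMap_cpl B
  haveI : Module.FaithfullyFlat B (EGA4.Cpl B) := Module.FaithfullyFlat.of_flat_of_isLocalHom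
  exact isRegularHom_of_comp A B (EGA4.Cpl B) hAC

end Groth.Agent.CAlgH.AdicSmooth
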