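import Mathlib
import Groth.Agent.CAlgH.AdicSmoothRegular
import Groth.Agent.CAlgH.RegularLocal

/-! Regularity of a map of Noetherian rings, tested by formal smoothness of the local rings. -/
universe u
open IsLocalRing TensorProduct

namespace Groth.Agent.CAlgH

theorem isRegularLocalRing_prime_of_closedFibre (R Λ : Type u) [CommRing R] [CommRing Λ] [Algebra R Λ] (n : Ideal Λ) [n.IsPrime]
    [Algebra (Localization.AtPrime (n.comap (algebraMap R Λ))) (Localization.AtPrime n)]
    [IsScalarTower R (Localization.AtPrime (n.comap (algebraMap R Λ))) (Localization.AtPrime n)]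
    (h : CAlg.IsGeometricallyRegular (maximalIdeal (Localization.AtPrime (n.comap (algebraMap R Λ)))).ResidueField
      ((maximalIdeal (Localization.AtPrime (n.comap (algebraMap R Λ)))).Fiber (Localization.AtPrime n)))
    (K : Type u) [Field K] [Algebra R K] [Algebra.EssFiniteType R K] (Q : Ideal (K ⊗[R] Λ)) [Q.IsPrime]
    (hn : ∀ r ∈ n.comap (algebraMap R Λ), algebraMap R K r = 0)
    (hQ : ∀ s ∉ n, (Algebra.TensorProduct.includeRight (R := R) (A := K)) s ∉ Q) :
    IsRegularLocalRing (Localization.AtPrime Q) := by
  let pn := n.comap (algebraMap R Λ)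
  let R1 := Localization.AtPrime pn
  let L1 := Localization.AtPrime n
  have hu : ∀ r : pn.primeCompl, IsUnit (algebraMap R K r) := fun r => isUnit_iff_ne_zero.mpr fun h0 => by
    refine hQ _ r.2 ?_
    rw [AlgHom.commutes, IsScalarTower.algebraMap_apply R K (K ⊗[R] Λ), h0, map_zero]
    exact Q.zero_mem
  letI : Algebra R1 K := (IsLocalization.lift hu).toAlgebra
  haveI : IsScalarTower R R1 K := IsScalarTower.of_algebraMap_eq fun x => (IsLocalization.lift_eq hu x).symm
  haveI : Algebra.EssFiniteType R1 K := Algebra.EssFiniteType.of_comp R _ _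
  haveI := isRegularRing_field_tensor_prime (maximalIdeal R1) h K (by
    refine (eq_maximalIdeal (RingHom.ker_ne_top (algebraMap R1 K) |> fun hne => Ideal.isMaximal_iff.mpr
      ⟨(Ideal.ne_top_iff_one _).mp hne, fun J x hle hx hxJ => ?_⟩))
    obtain ⟨r, s, rfl⟩ := IsLocalization.exists_mk'_eq pn.primeCompl x
    have hr : r ∉ pn := fun hr => hx (by
      rw [RingHom.mem_ker]
      show IsLocalization.lift hu (IsLocalization.mk' R1 r s) = 0
      rw [IsLocalization.lift_mk', hn r hr, zero_mul])
    exact (Ideal.eq_top_iff_one J).mp (Ideal.eq_top_of_isUnit_mem J hxJ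
      (IsLocalization.AtPrime.isUnit_mk'_iff R1 pn r s |>.mpr hr)))
  haveI : IsRegularRing (K ⊗[R] L1) :=
    IsRegularRing.of_ringEquiv (IsLocalization.algebraTensorEquiv pn.primeCompl R1 K L1).toRingEquiv
  letI : Algebra (K ⊗[R] Λ) (K ⊗[R] L1) :=
    (Algebra.TensorProduct.map (AlgHom.id R K) (IsScalarTower.toAlgHom R Λ L1)).toAlgebra
  haveI : IsScalarTower K (K ⊗[R] Λ) (K ⊗[R] L1) :=
    @IsScalarTower.of_algebraMap_eq K (K ⊗[R] Λ) (K ⊗[R] L1) _ _ _ _ _ _ fun x => by
      show x ⊗ₜ[R] (1 : L1) = Algebra.TensorProduct.map (AlgHom.id R K) (IsScalarTower.toAlgHom R Λ L1) (x ⊗ₜ[R] (1 : Λ))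
      simp
  haveI := IsLocalization.tensorProduct_tensorProduct_right R K n.primeCompl L1
    (RingHom.ext fun x => by simp [RingHom.algebraMap_toAlgebra])
  let M := n.primeCompl.map (Algebra.TensorProduct.includeRight (R := R) (A := K) : Λ →ₐ[R] K ⊗[R] Λ)
  have hd : Disjoint (M : Set (K ⊗[R] Λ)) (Q : Set (K ⊗[R] Λ)) := Set.disjoint_left.mpr fun x hx hxQ => by
    obtain ⟨s, hs, rfl⟩ := hx
    exact hQ s hs hxQ
  let Q' := Q.map (algebraMap (K ⊗[R] Λ) (K ⊗[R] L1))
  haveI : Q'.IsPrime := IsLocalization.isPrime_of_isPrime_disjoint M _ Q inferInstance hd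
  have hc : Q'.comap (algebraMap (K ⊗[R] Λ) (K ⊗[R] L1)) = Q :=
    IsLocalization.comap_map_of_isPrime_disjoint M _ inferInstance hd
  haveI := IsLocalization.isLocalization_isLocalization_atPrime_isLocalization M (Localization.AtPrime Q') Q'
  haveI : IsLocalization.AtPrime (Localization.AtPrime Q') Q := by
    unfold IsLocalization.AtPrime; simp only [← hc]; assumption
  haveI : IsRegularLocalRing (Localization.AtPrime Q') := IsRegularRing.isRegularLocalRing_localization Q'
  exact IsRegularLocalRing.of_ringEquiv (R := Localization.AtPrime Q')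
    (IsLocalization.algEquiv Q.primeCompl (Localization.AtPrime Q') (Localization.AtPrime Q)).toRingEquiv

/-- `A → B` is regular iff all `A_p → B_q` are formally smooth. -/
theorem isRegularHom_iff_adicSmooth (A B : Type u) [CommRing A] [CommRing B] [Algebra A B] [IsNoetherianRing A]
    [IsNoetherianRing B] :
    CAlg.IsRegularHom A B ↔
      ∀ (q : Ideal B) [q.IsPrime],
        letI := (Localization.localRingHom (Ideal.comap (algebraMap A B) q) q (algebraMap A B) rfl).toAlgebra
        CAlgX.IsAdicFormallySmooth (Localization.AtPrime (Ideal.comap (algebraMap A B) q))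
          (Localization.AtPrime q) (maximalIdeal (Localization.AtPrime q)) := by
  constructor
  · intro h q _
    let p := q.comap (algebraMap A B)
    letI := (Localization.localRingHom p q (algebraMap A B) rfl).toAlgebra
    haveI : IsNoetherianRing (Localization.AtPrime p) := IsLocalization.isNoetherianRing p.primeCompl _ inferInstance
    haveI : IsNoetherianRing (Localization.AtPrime q) := IsLocalization.isNoetherianRing q.primeCompl _ inferInstance
    haveI : IsLocalHom (algebraMap (Localization.AtPrime p) (Localization.AtPrime q)) :=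
      Localization.isLocalHom_localRingHom p q _ rfl
    exact AdicSmooth.of_isRegularHom ((isRegularHom_iff_localRingHom A B).1 h q)
  · intro h
    have key : ∀ (q : Ideal B) [q.IsPrime],
        letI := (Localization.localRingHom (q.comap (algebraMap A B)) q (algebraMap A B) rfl).toAlgebra
        Module.Flat (Localization.AtPrime (q.comap (algebraMap A B))) (Localization.AtPrime q) ∧
          CAlg.IsGeometricallyRegular (maximalIdeal (Localization.AtPrime (q.comap (algebraMap A B)))).ResidueField
            ((maximalIdeal (Localization.AtPrime (q.comap (algebraMap A B)))).Fiber (Localization.AtPrime q)) := by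
      intro q _
      let p := q.comap (algebraMap A B)
      letI := (Localization.localRingHom p q (algebraMap A B) rfl).toAlgebra
      haveI : IsNoetherianRing (Localization.AtPrime p) := IsLocalization.isNoetherianRing p.primeCompl _ inferInstance
      haveI : IsNoetherianRing (Localization.AtPrime q) := IsLocalization.isNoetherianRing q.primeCompl _ inferInstance
      haveI : IsLocalHom (algebraMap (Localization.AtPrime p) (Localization.AtPrime q)) :=
        Localization.isLocalHom_localRingHom p q _ rfl
      exact AdicSmooth.flat_fibre_iff.mpr (h q)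
    have hflat : Module.Flat A B := Module.flat_of_isLocalized_maximal B B (fun P _ => Localization.AtPrime P)
      (fun P _ => Algebra.linearMap B (Localization.AtPrime P)) fun P _ => by
        let p := P.comap (algebraMap A B)
        letI := (Localization.localRingHom p P (algebraMap A B) rfl).toAlgebra
        haveI : IsScalarTower A (Localization.AtPrime p) (Localization.AtPrime P) :=
          IsScalarTower.of_algebraMap_eq fun x => (Localization.localRingHom_to_map p P (algebraMap A B) rfl x).symm
        exact (Module.flat_iff_of_isLocalization (Localization.AtPrime p) p.primeCompl _).mp (key P).1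
    refine (isRegularHom_iff_fields _ _).mpr ⟨hflat, fun K _ _ _ => ?_⟩
    haveI : IsNoetherianRing (K ⊗[A] B) :=
      haveI : IsNoetherianRing (B ⊗[A] K) := Algebra.EssFiniteType.isNoetherianRing B (B ⊗[A] K)
      isNoetherianRing_of_ringEquiv _ (Algebra.TensorProduct.comm A B K).toRingEquiv
    refine isRegularRing_iff.2 fun Q hQ => ?_
    let q := Q.comap (Algebra.TensorProduct.includeRight (R := A) (A := K) : B →ₐ[A] K ⊗[A] B)
    haveI : q.IsPrime := Ideal.comap_isPrime _ _
    let p := q.comap (algebraMap A B)
    letI := (Localization.localRingHom p q (algebraMap A B) rfl).toAlgebra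
    haveI : IsScalarTower A (Localization.AtPrime p) (Localization.AtPrime q) :=
      IsScalarTower.of_algebraMap_eq fun x => (Localization.localRingHom_to_map p q (algebraMap A B) rfl x).symm
    refine isRegularLocalRing_prime_of_closedFibre A B q (key q).2 K Q (fun r hr => ?_) fun s hs hsQ => hs hsQ
    by_contra h0
    have h1 : algebraMap A (K ⊗[A] B) r ∈ Q := by
      rw [← (Algebra.TensorProduct.includeRight (R := A) (A := K) : B →ₐ[A] K ⊗[A] B).commutes]
      exact hr
    rw [IsScalarTower.algebraMap_apply A K (K ⊗[A] B)] at h1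
    exact hQ.ne_top (Ideal.eq_top_of_isUnit_mem Q h1 ((isUnit_iff_ne_zero.mpr h0).map (algebraMap K (K ⊗[A] B))))

/-- Formally smooth maps of Noetherian rings are regular. -/
theorem isRegularHom_of_formallySmooth (A B : Type u) [CommRing A] [CommRing B] [Algebra A B] [IsNoetherianRing A]
    [IsNoetherianRing B] [Algebra.FormallySmooth A B] : CAlg.IsRegularHom A B := by
  refine (isRegularHom_iff_adicSmooth A B).mpr fun q _ => ?_
  let p := q.comap (algebraMap A B)
  letI := (Localization.localRingHom p q (algebraMap A B) rfl).toAlgebra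
  haveI : IsScalarTower A (Localization.AtPrime p) (Localization.AtPrime q) :=
    IsScalarTower.of_algebraMap_eq fun x => (Localization.localRingHom_to_map p q (algebraMap A B) rfl x).symm
  have h1 : CAlgX.IsAdicFormallySmooth A B q := AdicSmooth.of_formallySmooth
  have h2 := AdicSmooth.localization q.primeCompl (Localization.AtPrime q) h1
  rw [Localization.AtPrime.map_eq_maximalIdeal] at h2
  exact AdicSmooth.of_isLocalization_base p.primeCompl _ h2

end Groth.Agent.CAlgH
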