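import Mathlib
import Groth.Agent.CAlgH.AdicSmoothCharP

/-! Adic formal smoothness of a local map, tested on local rings and on small extensions. -/
universe u
open IsLocalRing

namespace Groth.Agent.CAlgH.AdicSmooth

variable {R S : Type u} [CommRing R] [CommRing S] [IsLocalRing R] [IsLocalRing S] [Algebra R S]

theorem kills_pow_of_isLocalHom {A : Type u} [CommRing A] [IsLocalRing A] [Algebra R A] {J : Ideal A}
    {n : ℕ} (hn : maximalIdeal A ^ n = ⊥) [IsLocalRing (A ⧸ J)] (ψ : S →ₐ[R] A ⧸ J) [IsLocalHom ψ.toRingHom] :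
    ∀ x ∈ maximalIdeal S ^ n, ψ x = 0 := by
  have h : (maximalIdeal S).map ψ.toRingHom ≤ (maximalIdeal A).map (Ideal.Quotient.mk J) := by
    refine Ideal.map_le_iff_le_comap.mpr fun s hs => ?_
    obtain ⟨t, ht⟩ := Ideal.Quotient.mk_surjective (ψ s)
    show ψ s ∈ (maximalIdeal A).map (Ideal.Quotient.mk J)
    rw [← ht]
    refine Ideal.mem_map_of_mem _ ((mem_maximalIdeal t).mpr fun hu => (mem_maximalIdeal s).mp hs ?_)
    exact IsUnit.of_map ψ.toRingHom s (show IsUnit (ψ s) by rw [← ht]; exact hu.map _)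
  intro x hx
  have h1 := Ideal.mem_map_of_mem ψ.toRingHom hx
  rw [Ideal.map_pow] at h1
  have h2 := Ideal.pow_right_mono h n h1
  rwa [← Ideal.map_pow, hn, Ideal.map_bot, Ideal.mem_bot] at h2

/-- It suffices to lift surjections onto quotients of local rings by ideals killed by the maximal ideal. -/
theorem of_lift_local [IsLocalHom (algebraMap R S)]
    (H : ∀ (A : Type u) [CommRing A] [IsLocalRing A] [Algebra R A] (J : Ideal A), IsLocalHom (algebraMap R A) →
      J ^ 2 = ⊥ → J ≠ ⊤ → (∃ n, maximalIdeal A ^ n = ⊥) → (∀ a ∈ maximalIdeal A, ∀ j ∈ J, a * j = 0) →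
      ∀ ψ : S →ₐ[R] A ⧸ J, Function.Surjective ψ → ∃ χ : S →ₐ[R] A, (Ideal.Quotient.mkₐ R J).comp χ = ψ) :
    CAlgX.IsAdicFormallySmooth R S (maximalIdeal S) := by
  refine of_killed fun T _ f J hJ ψ₀ hψ₀ hk hkill => ?_
  letI : Algebra R T := f.toAlgebra
  let ψ : S →ₐ[R] T ⧸ J := { ψ₀ with commutes' := fun r => RingHom.congr_fun hψ₀ r }
  by_cases htop : J = ⊤
  · haveI : Subsingleton T := subsingleton_of_zero_eq_one (by
      have : (1 : T) ∈ J ^ 2 := by rw [htop, pow_two, Ideal.mul_top]; trivial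
      rw [hJ, Ideal.mem_bot] at this; exact this.symm)
    let z : S →+* T :=
      { toFun := fun _ => 0
        map_one' := Subsingleton.elim _ _
        map_mul' := fun _ _ => Subsingleton.elim _ _
        map_zero' := rfl
        map_add' := fun _ _ => Subsingleton.elim _ _ }
    refine ⟨z, ?_, ?_⟩
    · exact RingHom.ext fun _ => Subsingleton.elim _ _
    · refine RingHom.ext fun x => ?_
      haveI : Subsingleton (T ⧸ J) := Ideal.Quotient.mk_surjective.subsingleton
      exact Subsingleton.elim _ _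
  haveI : Nontrivial (T ⧸ J) := Ideal.Quotient.nontrivial_iff.mpr htop
  haveI : Nontrivial T := (Ideal.Quotient.mk J).domain_nontrivial
  obtain ⟨k, hk⟩ := hk
  let A' : Subalgebra R T := ψ.range.comap (Ideal.Quotient.mkₐ R J)
  let J' : Ideal A' := J.comap A'.val
  have hJ'2 : J' ^ 2 = ⊥ := by
    refine eq_bot_iff.mpr fun x hx => ?_
    have h1 : (A'.val x) ∈ (J'.map A'.val) ^ 2 := by rw [← Ideal.map_pow]; exact Ideal.mem_map_of_mem _ hx
    have h2 := Ideal.pow_right_mono Ideal.map_comap_le 2 h1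
    rw [hJ, Ideal.mem_bot] at h2
    exact Ideal.mem_bot.mpr (Subtype.ext h2)
  have hJ'ne : J' ≠ ⊤ := fun h => htop ((Ideal.eq_top_iff_one _).mpr (by
    have : (1 : A') ∈ J' := h ▸ trivial
    exact this))
  let ι : (A' ⧸ J') →ₐ[R] T ⧸ J := Ideal.quotientMapₐ J A'.val le_rfl
  have hι : Function.Injective ι := Ideal.quotientMap_injective' (H := le_rfl) le_rfl
  have hmem : ∀ s, ψ s ∈ ι.range := fun s => by
    obtain ⟨t, ht⟩ := Ideal.Quotient.mk_surjective (ψ s)
    exact ⟨Ideal.Quotient.mk J' ⟨t, ⟨s, ht.symm⟩⟩, ht⟩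
  let ψ' : S →ₐ[R] A' ⧸ J' := (AlgEquiv.ofInjective ι hι).symm.toAlgHom.comp (ψ.codRestrict ι.range hmem)
  have hιψ : ∀ s, ι (ψ' s) = ψ s := fun s =>
    congrArg Subtype.val ((AlgEquiv.ofInjective ι hι).apply_symm_apply (ψ.codRestrict ι.range hmem s))
  have hsurj : Function.Surjective ψ' := fun x => by
    obtain ⟨a, rfl⟩ := Ideal.Quotient.mk_surjective x
    obtain ⟨s, hs⟩ := a.2
    exact ⟨s, hι ((hιψ s).trans hs)⟩
  have hk' : ∀ x ∈ maximalIdeal S ^ k, ψ' x = 0 := fun x hx => hι (by rw [hιψ, map_zero]; exact hk x hx)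
  haveI : Nontrivial (A' ⧸ J') := Ideal.Quotient.nontrivial_iff.mpr hJ'ne
  have hlift : ∀ (a : A') (s : S), ψ' s = Ideal.Quotient.mk J' a → (IsUnit a ↔ IsUnit s) := fun a s hs => by
    rw [← IsNilpotent.isUnit_quotient_mk_iff ⟨2, hJ'2⟩, ← hs]
    refine ⟨fun hu => ?_, fun hu => hu.map ψ'⟩
    by_contra hns
    have h1 := hu.pow k
    rw [← map_pow, hk' _ (Ideal.pow_mem_pow ((mem_maximalIdeal s).mpr hns) k)] at h1
    exact not_isUnit_zero h1
  haveI : Nontrivial A' := (Ideal.Quotient.mk J').domain_nontrivial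
  haveI : IsLocalRing A' := IsLocalRing.of_isUnit_or_isUnit_one_sub_self fun a => by
    obtain ⟨s, hs⟩ := hsurj (Ideal.Quotient.mk J' a)
    rcases IsLocalRing.isUnit_or_isUnit_one_sub_self s with h | h
    · exact Or.inl ((hlift a s hs).mpr h)
    · exact Or.inr ((hlift (1 - a) (1 - s) (by rw [map_sub, map_sub, hs, map_one, map_one])).mpr h)
  have hm : ∀ a ∈ maximalIdeal A', ∃ s ∈ maximalIdeal S, ψ' s = Ideal.Quotient.mk J' a := fun a ha => by
    obtain ⟨s, hs⟩ := hsurj (Ideal.Quotient.mk J' a)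
    exact ⟨s, (mem_maximalIdeal s).mpr fun hu => (mem_maximalIdeal a).mp ha ((hlift a s hs).mpr hu), hs⟩
  have hnil : maximalIdeal A' ^ (k * 2) = ⊥ := by
    have h1 : maximalIdeal A' ^ k ≤ J' := fun a ha => by
      refine Ideal.Quotient.eq_zero_iff_mem.mp ?_
      have h2 := Ideal.mem_map_of_mem (Ideal.Quotient.mk J') ha
      rw [Ideal.map_pow] at h2
      have h3 : (maximalIdeal A').map (Ideal.Quotient.mk J') ≤ (maximalIdeal S).map ψ'.toRingHom :=
        Ideal.map_le_iff_le_comap.mpr fun b hb => by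
          obtain ⟨s, hs, hsb⟩ := hm b hb
          show Ideal.Quotient.mk J' b ∈ (maximalIdeal S).map ψ'.toRingHom
          rw [← hsb]
          exact Ideal.mem_map_of_mem _ hs
      have h4 := Ideal.pow_right_mono h3 k h2
      rw [← Ideal.map_pow] at h4
      exact (Ideal.map_le_iff_le_comap.mpr fun y hy => hk' y hy : (maximalIdeal S ^ k).map ψ'.toRingHom ≤ ⊥) h4
    rw [pow_mul]
    exact eq_bot_iff.mpr ((Ideal.pow_right_mono h1 2).trans hJ'2.le)
  have hloc : IsLocalHom (algebraMap R A') := ⟨fun r hu => IsUnit.of_map (algebraMap R S) r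
    ((hlift _ _ (ψ'.commutes r)).mp hu)⟩
  obtain ⟨χ, hχ⟩ := H A' J' hloc hJ'2 hJ'ne ⟨_, hnil⟩ (fun a ha j hj => by
    obtain ⟨s, hs, hsa⟩ := hm a ha
    refine Subtype.ext (hkill s hs a ?_ j hj)
    show Ideal.Quotient.mk J (a : T) = ψ s
    rw [← hιψ, hsa]; rfl) ψ' hsurj
  refine ⟨(A'.val.comp χ).toRingHom, (A'.val.comp χ).comp_algebraMap, RingHom.ext fun s => ?_⟩
  show Ideal.Quotient.mk J (χ s : T) = ψ₀ s
  rw [show ψ₀ s = ι (ψ' s) from (hιψ s).symm, ← show Ideal.Quotient.mk J' (χ s) = ψ' s from DFunLike.congr_fun hχ s]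
  rfl

/-- Lifts modulo the kernels of all functionals on `J` glue to a lift. -/
theorem exists_lift_of_functionals {A : Type u} [CommRing A] [IsLocalRing A] [Algebra R A] {J : Ideal A}
    (hJ : J ^ 2 = ⊥) (hJm : ∀ a ∈ maximalIdeal A, ∀ j ∈ J, a * j = 0) (ψ : S →ₐ[R] A ⧸ J)
    (h : ∀ f : J →ₗ[A] (A ⧸ maximalIdeal A), ∃ χ : S →ₐ[R] A ⧸ (LinearMap.ker f).map J.subtype,
      ∀ s a, Ideal.Quotient.mk J a = ψ s → ∃ j : J, χ s = Ideal.Quotient.mk _ (a + j)) :
    ∃ χ : S →ₐ[R] A, (Ideal.Quotient.mkₐ R J).comp χ = ψ := by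
  classical
  choose χf hχf using h
  let Λ := J →ₗ[A] (A ⧸ maximalIdeal A)
  letI : Field (A ⧸ maximalIdeal A) := Ideal.Quotient.field _
  have htor : Module.IsTorsionBySet A J (maximalIdeal A : Set A) := fun j a => Subtype.ext (hJm a a.2 j j.2)
  letI : Module (A ⧸ maximalIdeal A) J := htor.module
  haveI : IsScalarTower A (A ⧸ maximalIdeal A) J := htor.isScalarTower
  let ev : J →ₗ[A ⧸ maximalIdeal A] (Λ → A ⧸ maximalIdeal A) :=
    LinearMap.extendScalarsOfSurjective Ideal.Quotient.mk_surjective (LinearMap.pi fun f : Λ => f)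
  have hev : LinearMap.ker ev = ⊥ := by
    refine LinearMap.ker_eq_bot'.mpr fun j hj => by_contra fun hne => ?_
    obtain ⟨g, hg⟩ : ∃ g : J →ₗ[A ⧸ maximalIdeal A] (A ⧸ maximalIdeal A), g j ≠ 0 := by
      by_contra h0
      push Not at h0
      exact hne ((Module.forall_dual_apply_eq_zero_iff _ j).mp h0)
    exact hg (congrFun hj (g.restrictScalars A))
  obtain ⟨r₀, hr₀⟩ := ev.exists_leftInverse_of_injective hev
  let r : (Λ → A ⧸ maximalIdeal A) →ₗ[A] J := r₀.restrictScalars A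
  have hr : ∀ j : J, r (fun f => f j) = j := fun j => LinearMap.congr_fun hr₀ j
  let P : S → A → (Λ → A ⧸ maximalIdeal A) → Prop := fun s a w =>
    Ideal.Quotient.mk J a = ψ s ∧ ∀ f : Λ, ∃ j : J, f j = w f ∧ χf f s = Ideal.Quotient.mk _ (a + j)
  have hex : ∀ s, ∃ a w, P s a w := fun s => by
    obtain ⟨a, ha⟩ := Ideal.Quotient.mk_surjective (ψ s)
    choose j hj using fun f => hχf f s a ha
    exact ⟨a, fun f => f (j f), ha, fun f => ⟨j f, rfl, hj f⟩⟩
  have huniq : ∀ s a w a' w', P s a w → P s a' w' → a + r w = a' + r w' := fun s a w a' w' ⟨ha, hw⟩ ⟨ha', hw'⟩ => by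
    let v : J := ⟨a - a', Ideal.Quotient.eq.mp (ha.trans ha'.symm)⟩
    have hv : (fun f : Λ => f v) + w = w' := funext fun f => by
      obtain ⟨j, hj1, hj2⟩ := hw f
      obtain ⟨j', hj1', hj2'⟩ := hw' f
      have := Ideal.Quotient.eq.mp (hj2.symm.trans hj2')
      obtain ⟨z, hz, hzv⟩ := Submodule.mem_map.mp this
      have hz' : v + j - j' = z := Subtype.ext (by
        change (z : A) = _ at hzv
        show a - a' + j - j' = (z : A)
        rw [hzv]; ring)
      have h0 : f (v + j - j') = 0 := by rw [hz']; exact LinearMap.mem_ker.mp hz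
      rw [map_sub, map_add, sub_eq_zero] at h0
      rw [Pi.add_apply, ← hj1, h0, hj1']
    rw [← hv, map_add, hr, Submodule.coe_add]
    show a + r w = a' + (a - a' + r w)
    ring
  choose a₀ w₀ hP₀ using hex
  let χ : S → A := fun s => a₀ s + r (w₀ s)
  have hχ : ∀ {s a w}, P s a w → χ s = a + r w := fun hP => huniq _ _ _ _ _ (hP₀ _) hP
  have hP1 : ∀ c : R, P (algebraMap R S c) (algebraMap R A c) 0 := fun c =>
    ⟨by rw [ψ.commutes]; rfl, fun f => ⟨0, map_zero f, by rw [(χf f).commutes, Submodule.coe_zero, add_zero]; rfl⟩⟩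
  have hadd : ∀ s t, χ (s + t) = χ s + χ t := fun s t => by
    obtain ⟨ha, hw⟩ := hP₀ s
    obtain ⟨hb, hz⟩ := hP₀ t
    rw [hχ (a := a₀ s + a₀ t) (w := w₀ s + w₀ t) ⟨by rw [map_add, map_add, ha, hb], fun f => by
      obtain ⟨i, hi1, hi2⟩ := hw f
      obtain ⟨j, hj1, hj2⟩ := hz f
      exact ⟨i + j, by rw [map_add, hi1, hj1]; rfl, by rw [map_add, hi2, hj2, ← map_add, Submodule.coe_add]; congr 1; ring⟩⟩]
    rw [map_add, Submodule.coe_add]
    simp only [χ]; ring
  have hsq : ∀ i j : J, (i : A) * j = 0 := fun i j => by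
    rw [← Ideal.mem_bot, ← hJ, pow_two]; exact Ideal.mul_mem_mul i.2 j.2
  have hmul : ∀ s t, χ (s * t) = χ s * χ t := fun s t => by
    obtain ⟨ha, hw⟩ := hP₀ s
    obtain ⟨hb, hz⟩ := hP₀ t
    rw [hχ (a := a₀ s * a₀ t) (w := a₀ s • w₀ t + a₀ t • w₀ s) ⟨by rw [map_mul, map_mul, ha, hb], fun f => by
      obtain ⟨i, hi1, hi2⟩ := hw f
      obtain ⟨j, hj1, hj2⟩ := hz f
      refine ⟨a₀ s • j + a₀ t • i, by rw [map_add, map_smul, map_smul, hi1, hj1]; rfl, ?_⟩
      rw [map_mul, hi2, hj2, ← map_mul, Submodule.coe_add, Submodule.coe_smul, Submodule.coe_smul, smul_eq_mul, smul_eq_mul]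
      congr 1
      linear_combination hsq i j⟩]
    rw [map_add, map_smul, map_smul, Submodule.coe_add, Submodule.coe_smul, Submodule.coe_smul, smul_eq_mul, smul_eq_mul]
    simp only [χ]
    linear_combination -(hsq (r (w₀ s)) (r (w₀ t)))
  have halg : ∀ c, χ (algebraMap R S c) = algebraMap R A c := fun c => by
    rw [hχ (hP1 c), map_zero, Submodule.coe_zero, add_zero]
  refine ⟨{ toFun := χ, map_one' := by simpa using halg 1, map_mul' := hmul, map_zero' := by simpa using halg 0,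
            map_add' := hadd, commutes' := halg }, AlgHom.ext fun s => ?_⟩
  show Ideal.Quotient.mk J (a₀ s + r (w₀ s)) = ψ s
  rw [map_add, (hP₀ s).1, Ideal.Quotient.eq_zero_iff_mem.mpr (r (w₀ s)).2, add_zero]

/-- Lifting along small extensions suffices when `S` is Noetherian. -/
theorem of_lift_small [IsNoetherianRing S] [IsLocalHom (algebraMap R S)]
    (H : ∀ (A : Type u) [CommRing A] [IsLocalRing A] [IsArtinianRing A] [Algebra R A] (J : Ideal A),
      IsLocalHom (algebraMap R A) → J ^ 2 = ⊥ → Module.length A J = 1 →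
      ∀ ψ : S →ₐ[R] A ⧸ J, Function.Surjective ψ → ∃ χ : S →ₐ[R] A, (Ideal.Quotient.mkₐ R J).comp χ = ψ) :
    CAlgX.IsAdicFormallySmooth R S (maximalIdeal S) := by
  refine of_lift_local fun A _ _ _ J hloc hJ hJne ⟨n, hn⟩ hJm ψ hψ => ?_
  refine exists_lift_of_functionals hJ hJm ψ fun f => ?_
  let K : Ideal A := (LinearMap.ker f).map J.subtype
  have hKJ : K ≤ J := Submodule.map_subtype_le _ _
  have hK : ∀ j : J, Ideal.Quotient.mk K (j : A) = 0 ↔ f j = 0 := fun j => by
    rw [Ideal.Quotient.eq_zero_iff_mem, show (j : A) ∈ K ↔ j ∈ LinearMap.ker f from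
      ⟨fun hj => by
        obtain ⟨z, hz, hzj⟩ := Submodule.mem_map.mp hj
        rwa [show j = z from Subtype.ext hzj.symm], fun hj => Submodule.mem_map_of_mem hj⟩, LinearMap.mem_ker]
  let J' : Ideal (A ⧸ K) := J.map (Ideal.Quotient.mkₐ R K)
  have hmemJ' : ∀ x ∈ J', ∃ j : J, Ideal.Quotient.mk K (j : A) = x := fun x hx => by
    obtain ⟨j, hj, hjx⟩ := (Ideal.mem_map_iff_of_surjective _ Ideal.Quotient.mk_surjective).mp hx
    exact ⟨⟨j, hj⟩, hjx⟩
  let e : ((A ⧸ K) ⧸ J') ≃ₐ[R] A ⧸ J := DoubleQuot.quotQuotEquivQuotOfLEₐ R hKJ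
  have he : ∀ a, e (Ideal.Quotient.mk J' (Ideal.Quotient.mk K a)) = Ideal.Quotient.mk J a := fun a => rfl
  obtain ⟨χ, hχ⟩ : ∃ χ : S →ₐ[R] A ⧸ K, (Ideal.Quotient.mkₐ R J').comp χ = e.symm.toAlgHom.comp ψ := by
    by_cases hf : f = 0
    · have hKeq : K = J := by
        show (LinearMap.ker f).map J.subtype = J
        rw [hf, LinearMap.ker_zero, Submodule.map_subtype_top]
      have hb : Function.Bijective (Ideal.Quotient.mkₐ R J') := by
        refine ⟨(injective_iff_map_eq_zero _).mpr fun x hx => ?_, Ideal.Quotient.mk_surjective⟩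
        obtain ⟨j, rfl⟩ := hmemJ' x (Ideal.Quotient.eq_zero_iff_mem.mp hx)
        exact (hK j).mpr (by rw [hf]; rfl)
      exact ⟨(AlgEquiv.ofBijective _ hb).symm.toAlgHom.comp (e.symm.toAlgHom.comp ψ),
        AlgHom.ext fun s => (AlgEquiv.ofBijective _ hb).apply_symm_apply _⟩
    · haveI : Nontrivial (A ⧸ K) := Ideal.Quotient.nontrivial_iff.mpr (ne_top_of_le_ne_top hJne hKJ)
      haveI : IsLocalRing (A ⧸ K) := IsLocalRing.of_surjective' (Ideal.Quotient.mk K) Ideal.Quotient.mk_surjective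
      obtain ⟨j₀, hj₀⟩ : ∃ j, f j ≠ 0 := by
        by_contra h
        push Not at h
        exact hf (LinearMap.ext h)
      have hne : J' ≠ ⊥ := fun h => hj₀ ((hK j₀).mp (Ideal.mem_bot.mp (h ▸ Ideal.mem_map_of_mem _ j₀.2)))
      have hatom : IsAtom J' := by
        refine ⟨hne, fun L hL => eq_bot_iff.mpr fun x hx => ?_⟩
        by_contra hx0
        refine hL.not_ge fun y hy => ?_
        obtain ⟨i, rfl⟩ := hmemJ' x (hL.le hx)
        obtain ⟨j, rfl⟩ := hmemJ' y hy
        letI : Field (A ⧸ maximalIdeal A) := Ideal.Quotient.field _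
        have hi : f i ≠ 0 := fun h0 => hx0 (Ideal.mem_bot.mpr ((hK i).mpr h0))
        obtain ⟨c, hc⟩ := Ideal.Quotient.mk_surjective (f j / f i)
        have : f (j - c • i) = 0 := by
          rw [map_sub, map_smul, sub_eq_zero]
          show f j = Ideal.Quotient.mk _ c * f i
          rw [hc, div_mul_cancel₀ _ hi]
        have h1 := (hK _).mpr this
        rw [Submodule.coe_sub, map_sub, sub_eq_zero, Submodule.coe_smul, smul_eq_mul, map_mul] at h1
        rw [h1]
        exact Ideal.mul_mem_left _ _ hx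
      haveI : IsSimpleModule (A ⧸ K) J' := isSimpleModule_iff_isAtom.mpr hatom
      have hlen : Module.length (A ⧸ K) J' = 1 := Module.length_eq_one_iff.mpr inferInstance
      haveI : IsNoetherianRing (A ⧸ J) := isNoetherianRing_of_surjective S (A ⧸ J) ψ.toRingHom hψ
      haveI : IsNoetherianRing ((A ⧸ K) ⧸ J') := isNoetherianRing_of_ringEquiv _ e.toRingEquiv.symm
      haveI : IsNoetherianRing (A ⧸ K) := (isNoetherian_iff_submodule_quotient J').mpr
        ⟨inferInstance, by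
          haveI : RingHomSurjective (algebraMap (A ⧸ K) ((A ⧸ K) ⧸ J')) := ⟨Ideal.Quotient.mk_surjective⟩
          exact (LinearMap.isNoetherian_iff_of_bijective
            (σ := algebraMap (A ⧸ K) ((A ⧸ K) ⧸ J'))
            { toFun := id
              map_add' := fun _ _ => rfl
              map_smul' := fun c (x : (A ⧸ K) ⧸ J') => by
                exact Algebra.smul_def c x }
            Function.bijective_id).mpr inferInstance⟩
      haveI : IsArtinianRing (A ⧸ K) := by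
        refine isArtinianRing_iff_isNilpotent_maximalIdeal _ |>.mpr ⟨n, ?_⟩
        rw [← IsLocalRing.map_maximalIdeal_of_surjective (Ideal.Quotient.mk K) Ideal.Quotient.mk_surjective, ← Ideal.map_pow,
          hn, Ideal.map_bot]
        rfl
      have hloc' : IsLocalHom (algebraMap R (A ⧸ K)) := by
        haveI := hloc
        haveI : IsLocalHom (Ideal.Quotient.mk K) := IsLocalHom.of_surjective _ Ideal.Quotient.mk_surjective
        exact RingHom.isLocalHom_comp (Ideal.Quotient.mk K) (algebraMap R A)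
      refine H (A ⧸ K) J' hloc' ?_ hlen _ (e.symm.surjective.comp hψ)
      show (J.map (Ideal.Quotient.mkₐ R K)) ^ 2 = ⊥
      rw [← Ideal.map_pow, hJ, Ideal.map_bot]
  refine ⟨χ, fun s a ha => ?_⟩
  have h1 : Ideal.Quotient.mk J' (χ s) = Ideal.Quotient.mk J' (Ideal.Quotient.mk K a) := by
    refine e.injective ?_
    rw [he, ha, show Ideal.Quotient.mk J' (χ s) = e.symm (ψ s) from DFunLike.congr_fun hχ s, e.apply_symm_apply]
  obtain ⟨j, hj⟩ := hmemJ' _ (Ideal.Quotient.eq.mp h1)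
  exact ⟨j, by rw [map_add, hj]; ring⟩

end Groth.Agent.CAlgH.AdicSmooth
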