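import Mathlib
import Groth.Agent.CAlgH.AdicSmoothField

/-! Regular local algebras with formally smooth residue field are formally smooth. -/
universe u
open IsLocalRing TensorProduct

namespace Groth.Agent.CAlgH.AdicSmooth

variable {k : Type u} [Field k] {A : Type u} [CommRing A] [IsLocalRing A] [Algebra k A]

/-- A regular local algebra whose residue field is formally smooth is formally smooth. -/
theorem of_regular_formallySmooth_residueField [IsRegularLocalRing A] [Algebra.FormallySmooth k (ResidueField A)] :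
    CAlgX.IsAdicFormallySmooth k A (maximalIdeal A) := by
  classical
  let Ah := EGA4.Cpl A
  haveI : IsNoetherianRing Ah := Groth.Agent.Matlis6.isNoetherianRing_adicCompletion _
  haveI : IsRegularLocalRing Ah := isRegularLocalRing_cpl A
  haveI : IsDomain Ah := CAlgH3.isDomain_of_isRegularLocalRing Ah
  let K := ResidueField Ah
  haveI := isLocalHom_algebraMap_cpl A
  let eK : ResidueField A ≃+* K := RingEquiv.ofBijective _ (AdicCompletion.residueField_map_bijective A)
  haveI : Algebra.FormallySmooth k K := Algebra.FormallySmooth.of_equiv (AlgEquiv.ofRingEquiv (f := eK) fun r => by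
    show ResidueField.map (algebraMap A Ah) (algebraMap k (ResidueField A) r) = algebraMap k K r
    rw [IsScalarTower.algebraMap_apply k A (ResidueField A), ResidueField.algebraMap_eq, ResidueField.map_residue,
      ← IsScalarTower.algebraMap_apply k A Ah]
    rfl)
  obtain ⟨s, hs1, hs2⟩ := exists_lift_complete (of_formallySmooth (R := k) (S := K) (𝔫 := ⊥)) (algebraMap k Ah)
    (maximalIdeal Ah) (RingHom.id K) rfl ⟨1, fun x hx => by rw [pow_one, Ideal.mem_bot] at hx; exact hx⟩
  obtain ⟨t, ht, htspan⟩ := Submodule.FG.exists_span_finset_card_eq_spanFinrank (IsNoetherian.noetherian (maximalIdeal Ah))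
  have hdim := IsRegularLocalRing.spanFinrank_maximalIdeal (R := Ah)
  rw [← ht] at hdim
  let x : Fin t.card → Ah := fun i => (t.equivFin.symm i : Ah)
  have hx : Ideal.span (Set.range x) = maximalIdeal Ah := by
    rw [show Set.range x = (t : Set Ah) from ?_]
    · exact htspan
    · ext a
      exact ⟨fun ⟨i, hi⟩ => hi ▸ (t.equivFin.symm i).2, fun ha => ⟨t.equivFin ⟨a, ha⟩, by simp [x]⟩⟩
  obtain ⟨f, hfC, hfX⟩ := exists_mvPowerSeries_eval s (maximalIdeal Ah) x fun i => hx ▸ Ideal.subset_span ⟨i, rfl⟩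
  have hfs : Function.Surjective f := by
    refine surjective_mvPowerSeries_hom f (maximalIdeal Ah) (fun i => by rw [hfX]; exact hx ▸ Ideal.subset_span ⟨i, rfl⟩) ?_
    intro y
    obtain ⟨a, rfl⟩ := Ideal.Quotient.mk_surjective y
    refine ⟨residue Ah a, ?_⟩
    rw [RingHom.comp_apply, hfC, Ideal.Quotient.eq, show (fun i => f (MvPowerSeries.X i)) = x from funext hfX, hx]
    exact Ideal.Quotient.eq.mp (RingHom.congr_fun hs2 (residue Ah a))
  have hfi : Function.Injective f := by
    refine injective_mvPowerSeries_hom f (RingHom.Finite.of_surjective f hfs) ?_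
    rw [ringKrullDim_eq_zero_of_isField (Field.toIsField K), zero_add, hdim]
  let e := RingEquiv.ofBijective f ⟨hfi, hfs⟩
  let R := MvPowerSeries (Fin t.card) K
  refine of_ringHom fun T _ f₀ J hJ ψ hψ ⟨c, hc⟩ => ?_
  let ψh : Ah →+* T ⧸ J := (Ideal.Quotient.lift (maximalIdeal A ^ c) ψ hc).comp
    (AdicCompletion.evalₐ (maximalIdeal A) c).toRingHom
  have hψh : ∀ a, ψh (algebraMap A Ah a) = ψ a := fun a => rfl
  let ψ' : R →+* T ⧸ J := ψh.comp e.toRingHom
  have hCk : ∀ r, ψ' (MvPowerSeries.C (algebraMap k K r)) = Ideal.Quotient.mk J (f₀ r) := fun r => by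
    show ψh (f (MvPowerSeries.C (algebraMap k K r))) = _
    rw [show f (MvPowerSeries.C (algebraMap k K r)) = s (algebraMap k K r) from RingHom.congr_fun hfC _,
      show s (algebraMap k K r) = algebraMap k Ah r from RingHom.congr_fun hs1 r, IsScalarTower.algebraMap_apply k A Ah, hψh]
    exact RingHom.congr_fun hψ r
  obtain ⟨sT, hsT1, hsT2⟩ := exists_lift_ringHom (of_formallySmooth (R := k) (S := K) (𝔫 := ⊥)) f₀ J hJ
    (ψ'.comp MvPowerSeries.C) (RingHom.ext hCk) ⟨1, fun x hx => by rw [pow_one, Ideal.mem_bot] at hx; rw [hx, map_zero]⟩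
  choose a ha using fun i => Ideal.Quotient.mk_surjective (ψ' (MvPowerSeries.X i))
  have hnil : ∀ i, a i ^ (c * 2) = 0 := fun i => by
    have h1 : a i ^ c ∈ J := by
      rw [← Ideal.Quotient.eq_zero_iff_mem, map_pow, ha, ← map_pow]
      show ψh (f (MvPowerSeries.X i ^ c)) = 0
      rw [map_pow, hfX]
      have h2 : x i ^ c ∈ (maximalIdeal A ^ c).map (algebraMap A Ah) := by
        rw [Ideal.map_pow, ← AdicCompletion.maximalIdeal_eq_map]
        exact Ideal.pow_mem_pow (hx ▸ Ideal.subset_span ⟨i, rfl⟩) c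
      refine (Ideal.map_le_iff_le_comap.mpr fun y hy => ?_ : (maximalIdeal A ^ c).map (algebraMap A Ah) ≤ RingHom.ker ψh) h2
      rw [Ideal.mem_comap, RingHom.mem_ker, hψh]
      exact hc y hy
    have h3 := Ideal.pow_mem_pow h1 2
    rwa [hJ, Ideal.mem_bot, ← pow_mul] at h3
  let I := Ideal.span (Set.range a)
  obtain ⟨N, hN⟩ : IsNilpotent I := by
    refine (Ideal.FG.isNilpotent_iff_le_nilradical ⟨Finset.univ.image a, by simp [I]⟩).mpr (Ideal.span_le.mpr ?_)
    rintro _ ⟨i, rfl⟩
    exact ⟨_, hnil i⟩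
  haveI := isAdicComplete_of_pow_eq_bot (show I ^ N = ⊥ from hN)
  obtain ⟨g, hgC, hgX⟩ := exists_mvPowerSeries_eval sT I a fun i => Ideal.subset_span ⟨i, rfl⟩
  have hgψ : (Ideal.Quotient.mk J).comp g = ψ' := by
    refine mvPowerSeries_hom_ext _ _ (RingHom.ext fun z => ?_) (fun i => ?_) (I.map (Ideal.Quotient.mk J)) (fun i => ?_)
      (N := N) (by rw [← Ideal.map_pow, show I ^ N = ⊥ from hN, Ideal.map_bot])
    · simp only [RingHom.comp_apply]
      rw [show g (MvPowerSeries.C z) = sT z from RingHom.congr_fun hgC z]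
      exact RingHom.congr_fun hsT2 z
    · rw [RingHom.comp_apply, hgX, ha]
    · rw [RingHom.comp_apply, hgX]
      exact Ideal.mem_map_of_mem _ (Ideal.subset_span ⟨i, rfl⟩)
  refine ⟨g.comp (e.symm.toRingHom.comp (algebraMap A Ah)), RingHom.ext fun r => ?_, RingHom.ext fun y => ?_⟩
  · show g (e.symm (algebraMap A Ah (algebraMap k A r))) = f₀ r
    rw [← IsScalarTower.algebraMap_apply k A Ah, ← show s (algebraMap k K r) = algebraMap k Ah r from RingHom.congr_fun hs1 r,
      show s (algebraMap k K r) = e (MvPowerSeries.C (algebraMap k K r)) from (RingHom.congr_fun hfC _).symm,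
      e.symm_apply_apply, show g (MvPowerSeries.C (algebraMap k K r)) = sT (algebraMap k K r) from RingHom.congr_fun hgC _]
    exact RingHom.congr_fun hsT1 r
  · show Ideal.Quotient.mk J (g (e.symm (algebraMap A Ah y))) = ψ y
    rw [show Ideal.Quotient.mk J (g _) = ψ' _ from RingHom.congr_fun hgψ _]
    show ψh (e (e.symm _)) = ψ y
    rw [e.apply_symm_apply, hψh]

end Groth.Agent.CAlgH.AdicSmooth
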