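import Groth.Agent.AdicRing.ComplBij
import Groth.Agent.AdicRing.ComplHom
import Groth.Agent.AdicRing.Basic
import Mathlib

/-!
# Algebraization of quotients of a completion which are locally idempotent outside `V(I)`

If `R` is the `I`-adic completion of a Noetherian ring `B` and `J` is an ideal of `R` with
`I^c J ⊆ J^2`, then `R/J` is the completion of a finite type `B`-algebra. The proof glues
`R/J^k × R/Ann(J)` (which agrees with `R` outside `V(I)`) with `B`.
-/

set_option autoImplicit false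
universe u

namespace Groth.Agent.CAlgH.Algebraize

variable {B R : Type u} [CommRing B] [CommRing R] [Algebra B R] (I : Ideal B)

/-- The properties of a completion used below. -/
structure IsCompl : Prop where
  dense : ∀ (n : ℕ) (x : R), ∃ b : B, x - algebraMap B R b ∈ (I.map (algebraMap B R)) ^ n
  contract : ∀ (n : ℕ) (b : B), algebraMap B R b ∈ (I.map (algebraMap B R)) ^ n → b ∈ I ^ n

theorem exists_combination {n : ℕ} {r : ℕ} (a : Fin r → B)
    (ha : Ideal.span (Set.range a) = I ^ n) {x : R}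
    (hx : x ∈ (I.map (algebraMap B R)) ^ n) :
    ∃ v : Fin r → R, x = ∑ i, algebraMap B R (a i) * v i := by
  have h1 : (I.map (algebraMap B R)) ^ n =
      Ideal.span (Set.range fun i => algebraMap B R (a i)) := by
    rw [← Ideal.map_pow, ← ha, Ideal.map_span, ← Set.range_comp]; rfl
  rw [h1] at hx
  obtain ⟨v, hv⟩ := (Submodule.mem_span_range_iff_exists_fun R).1 hx
  exact ⟨v, by rw [← hv]; simp [mul_comm]⟩

theorem exists_combination_mem {n m : ℕ} {r : ℕ} (a : Fin r → B)
    (ha : Ideal.span (Set.range a) = I ^ n) {x : R}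
    (hx : x ∈ (I.map (algebraMap B R)) ^ (m + n)) :
    ∃ v : Fin r → R, (∀ i, v i ∈ (I.map (algebraMap B R)) ^ m) ∧
      x = ∑ i, algebraMap B R (a i) * v i := by
  rw [pow_add] at hx
  refine Submodule.mul_induction_on hx ?_ ?_
  · intro y hy z hz
    obtain ⟨v, rfl⟩ := exists_combination I a ha hz
    refine ⟨fun i => y * v i, fun i => Ideal.mul_mem_right _ _ hy, ?_⟩
    rw [Finset.mul_sum]
    exact Finset.sum_congr rfl fun i _ => by ring
  · rintro y z ⟨v, hv, rfl⟩ ⟨w, hw, rfl⟩
    refine ⟨fun i => v i + w i, fun i => add_mem (hv i) (hw i), ?_⟩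
    rw [← Finset.sum_add_distrib]
    exact Finset.sum_congr rfl fun i _ => by ring

/-- Solutions in `R` of a homogeneous linear system over `B` are combinations of solutions in `B`. -/
theorem exists_solutions [Module.Flat B R] {p : ℕ} {q : Type} [Fintype q]
    (M : q → Fin p → B) (y : Fin p → R)
    (hy : ∀ i, ∑ j, algebraMap B R (M i j) * y j = 0) :
    ∃ (l : ℕ) (s : Fin l → Fin p → B) (w : Fin l → R),
      (∀ k i, ∑ j, M i j * s k j = 0) ∧ ∀ j, y j = ∑ k, w k * algebraMap B R (s k j) := by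
  classical
  let f : (q → B) →ₗ[B] (Fin p → B) := Fintype.linearCombination B M
  let x : (Fin p → B) →ₗ[B] R := Fintype.linearCombination B y
  have hxf : x ∘ₗ f = 0 := by
    refine LinearMap.pi_ext fun i c => ?_
    simp only [LinearMap.comp_apply, LinearMap.zero_apply, f, x,
      Fintype.linearCombination_apply_single, map_smul]
    rw [Fintype.linearCombination_apply]
    simp only [Algebra.smul_def]
    rw [hy i, mul_zero]
  obtain ⟨l, s, w, hxy, hsf⟩ := Module.Flat.exists_factorization_of_comp_eq_zero_of_free hxf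
  refine ⟨l, fun k j => s (Pi.single j 1) k, fun k => w (Finsupp.single k 1), ?_, ?_⟩
  · intro k i
    have h := congrArg (fun g : (q → B) →ₗ[B] (Fin l →₀ B) => g (Pi.single i 1) k) hsf
    simp only [LinearMap.comp_apply, LinearMap.zero_apply, f, one_smul,
      Fintype.linearCombination_apply_single, Finsupp.coe_zero, Pi.zero_apply] at h
    rw [← h]
    conv_rhs => rw [pi_eq_sum_univ' (M i)]
    simp only [map_sum, map_smul, Finsupp.coe_finsetSum, Finset.sum_apply, Finsupp.coe_smul,
      Pi.smul_apply, smul_eq_mul]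
  · intro j
    have h := congrArg (fun g : (Fin p → B) →ₗ[B] R => g (Pi.single j 1)) hxy
    simp only [LinearMap.comp_apply, x, Fintype.linearCombination_apply_single, one_smul] at h
    rw [h]
    conv_lhs => rw [← Finsupp.univ_sum_single (s (Pi.single j 1))]
    simp only [map_sum]
    refine Finset.sum_congr rfl fun k _ => ?_
    rw [← mul_one (s (Pi.single j 1) k), ← smul_eq_mul, ← Finsupp.smul_single, map_smul,
      Algebra.smul_def, mul_comm]
    simp

variable {I} (hR : IsCompl (R := R) I)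
include hR

/-- An element killed by a power of `I` comes from the base. -/
theorem mem_range_of_kill [Module.Flat B R] {n r : ℕ} (a : Fin r → B)
    (ha : Ideal.span (Set.range a) = I ^ n) {y : R}
    (hy : ∀ i, algebraMap B R (a i) * y = 0) : ∃ b, y = algebraMap B R b := by
  obtain ⟨l, s, w, hs, hw⟩ := exists_solutions (q := Fin r) (p := 1) (fun i _ => a i) (fun _ => y)
    (fun i => by simpa using hy i)
  choose w0 hw0 using fun k => hR.dense n (w k)
  choose v hv using fun k => exists_combination I a ha (hw0 k)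
  refine ⟨∑ k, w0 k * s k 0, ?_⟩
  have hk : ∀ k i, algebraMap B R (a i) * algebraMap B R (s k 0) = 0 := fun k i => by
    rw [← map_mul]
    have := hs k i
    simp only [Fin.sum_univ_one] at this
    rw [this, map_zero]
  rw [show y = ∑ k, w k * algebraMap B R (s k 0) from hw 0, map_sum]
  refine Finset.sum_congr rfl fun k _ => ?_
  rw [map_mul, ← sub_eq_zero, ← sub_mul, hv k, Finset.sum_mul]
  exact Finset.sum_eq_zero fun i _ => by rw [mul_right_comm, hk, zero_mul]

/-- The image of `B` is closed under division by powers of `I`. -/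
theorem mem_range_of_mul_mem [Module.Flat B R] {n r : ℕ} (a : Fin r → B)
    (ha : Ideal.span (Set.range a) = I ^ n) {y : R}
    (hy : ∀ i, ∃ b, algebraMap B R (a i) * y = algebraMap B R b) :
    ∃ b, y = algebraMap B R b := by
  choose β hβ using hy
  obtain ⟨l, s, w, hs, hw⟩ := exists_solutions (q := Fin r) (p := 2) (fun i => ![a i, -β i])
    ![y, 1] (fun i => by simp [Fin.sum_univ_two, hβ i])
  have hs' : ∀ k i, a i * s k 0 = β i * s k 1 := fun k i => by
    have := hs k i
    simp only [Fin.sum_univ_two, Matrix.cons_val_zero, Matrix.cons_val_one] at this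
    linear_combination this
  choose w0 hw0 using fun k => hR.dense 1 (w k)
  have hz : (∑ k, w0 k * s k 1) - 1 ∈ I := by
    rw [← pow_one I]
    refine hR.contract 1 _ ?_
    have h1 : (1 : R) = ∑ k, w k * algebraMap B R (s k 1) := by simpa using hw 1
    rw [map_sub, map_one, h1, map_sum, ← Finset.sum_sub_distrib]
    refine Submodule.sum_mem _ fun k _ => ?_
    rw [map_mul, ← sub_mul]
    exact Ideal.mul_mem_right _ _ (neg_sub (w k) (algebraMap B R (w0 k)) ▸ neg_mem (hw0 k))
  have htop : Ideal.span {∑ k, w0 k * s k 1} ⊔ I ^ n = ⊤ := by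
    refine Ideal.sup_pow_eq_top ((Ideal.eq_top_iff_one _).2 ?_)
    rw [← sub_sub_cancel (∑ k, w0 k * s k 1) (1 : B)]
    exact sub_mem (Submodule.mem_sup_left (Ideal.mem_span_singleton_self _))
      (Submodule.mem_sup_right hz)
  obtain ⟨g, hg, h, hh, hgh⟩ := Submodule.mem_sup.1 (htop.ge (Submodule.mem_top (x := (1 : B))))
  obtain ⟨u, hu⟩ := Ideal.mem_span_singleton'.1 hg
  rw [← ha] at hh
  obtain ⟨v, hv⟩ := (Submodule.mem_span_range_iff_exists_fun B).1 hh
  subst hu hv
  let X : B := u * ∑ k, w0 k * s k 0 + ∑ i, v i * β i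
  have hX : ∀ i, algebraMap B R (a i) * (y - algebraMap B R X) = 0 := by
    intro i
    have e0 : a i * (∑ k, w0 k * s k 0) = β i * ∑ k, w0 k * s k 1 := by
      rw [Finset.mul_sum, Finset.mul_sum]
      exact Finset.sum_congr rfl fun k _ => by linear_combination w0 k * hs' k i
    have e1 : algebraMap B R (a i * X) = algebraMap B R (β i) := by
      have e2 : algebraMap B R (β i * ∑ m, v m * a m) =
          algebraMap B R (a i * ∑ m, v m * β m) := by
        simp only [Finset.mul_sum, map_sum]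
        refine Finset.sum_congr rfl fun m _ => ?_
        rw [map_mul, map_mul, map_mul, map_mul, ← hβ i, ← hβ m]
        ring
      have e3 : a i * X = β i * (u * ∑ k, w0 k * s k 1) + a i * ∑ m, v m * β m := by
        linear_combination u * e0
      rw [e3, map_add, ← e2, ← map_add, ← mul_add]
      simp only [smul_eq_mul] at hgh
      rw [hgh, mul_one]
    rw [mul_sub, hβ i, ← map_mul, e1, sub_self]
  obtain ⟨b, hb⟩ := mem_range_of_kill hR a ha hX
  exact ⟨X + b, by rw [map_add, ← hb]; ring⟩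

/-- Compatible families of fractions with denominators in a power of `I` become algebraic after
subtracting a multiple. -/
theorem exists_translate [Module.Flat B R] {n r : ℕ} (a : Fin r → B)
    (ha : Ideal.span (Set.range a) = I ^ n) (b : Fin r → R)
    (hb : ∀ m i, algebraMap B R (a m) * b i = algebraMap B R (a i) * b m) :
    ∃ δ : R, ∀ i, ∃ β, b i - algebraMap B R (a i) * δ = algebraMap B R β := by
  classical
  obtain ⟨l, s, w, hs, hw⟩ := exists_solutions (q := Fin r × Fin r)
    (fun mi j => (Pi.single mi.2 (a mi.1) : Fin r → B) j - (Pi.single mi.1 (a mi.2) : Fin r → B) j)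
    b (fun mi => by
      simp only [map_sub, sub_mul, Finset.sum_sub_distrib]
      rw [Fintype.sum_eq_single mi.2 (fun j hj => by rw [Pi.single_eq_of_ne hj]; simp),
        Fintype.sum_eq_single mi.1 (fun j hj => by rw [Pi.single_eq_of_ne hj]; simp),
        Pi.single_eq_same, Pi.single_eq_same, hb, sub_self])
  have hs' : ∀ k m i, a m * s k i = a i * s k m := fun k m i => by
    have := hs k (m, i)
    simp only [sub_mul, Finset.sum_sub_distrib] at this
    rw [Fintype.sum_eq_single i (fun j hj => by rw [Pi.single_eq_of_ne hj]; simp),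
      Fintype.sum_eq_single m (fun j hj => by rw [Pi.single_eq_of_ne hj]; simp),
      Pi.single_eq_same, Pi.single_eq_same, sub_eq_zero] at this
    exact this
  choose w0 hw0 using fun k => hR.dense n (w k)
  choose v hv using fun k => exists_combination I a ha (hw0 k)
  refine ⟨∑ k, ∑ m, v k m * algebraMap B R (s k m), fun i => ⟨∑ k, w0 k * s k i, ?_⟩⟩
  rw [hw i, Finset.mul_sum, map_sum, sub_eq_iff_eq_add, ← Finset.sum_add_distrib]
  refine Finset.sum_congr rfl fun k _ => ?_
  rw [map_mul, Finset.mul_sum, ← sub_eq_iff_eq_add', ← sub_mul, hv k, Finset.sum_mul]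
  refine Finset.sum_congr rfl fun m _ => ?_
  have h1 := congrArg (algebraMap B R) (hs' k m i)
  rw [map_mul, map_mul] at h1
  linear_combination (v k m) * h1

omit hR
/-- `I^c J ⊆ J^2` makes `J` and its annihilator comaximal outside `V(I)`. -/
theorem exists_pow_le_pow_sup_annihilator {R : Type u} [CommRing R] [IsNoetherianRing R]
    (H J : Ideal R) (c : ℕ) (hJ : H ^ c * J ≤ J ^ 2) :
    ∃ k n : ℕ, J ^ (k + 1) ⊓ Submodule.annihilator J = ⊥ ∧
      H ^ n ≤ J ^ (k + 1) ⊔ Submodule.annihilator J := by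
  set J' := Submodule.annihilator J
  haveI : Module.Finite R J := Module.Finite.of_fg (IsNoetherian.noetherian J)
  have hrad : H ^ c ≤ (J ⊔ J').radical := by
    intro a ha
    obtain ⟨p, hpm, -, hpc, hp0⟩ :=
      LinearMap.exists_monic_and_coeff_mem_pow_and_aeval_eq_zero_of_range_le_smul (R := R) (M := J)
        (a • LinearMap.id) J (by
          rintro _ ⟨x, rfl⟩
          rw [Submodule.mem_smul_top_iff]
          simp only [LinearMap.smul_apply, LinearMap.id_coe, id_eq, SetLike.val_smul, smul_eq_mul]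
          rw [← pow_two]
          exact hJ (Ideal.mul_mem_mul ha x.2))
    have h1 : p.eval a ∈ J' := by
      rw [Submodule.mem_annihilator]
      intro x hx
      have h2 := congrArg (fun g : Module.End R J => (g ⟨x, hx⟩ : R)) hp0
      have h3 : Polynomial.aeval (a • LinearMap.id : Module.End R J) p
          = algebraMap R (Module.End R J) (p.eval a) := by
        rw [show (a • LinearMap.id : Module.End R J) = algebraMap R _ a from rfl,
          Polynomial.aeval_algebraMap_apply_eq_algebraMap_eval]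
      rw [h3] at h2
      simpa [Module.algebraMap_end_apply] using h2
    refine ⟨p.natDegree, ?_⟩
    have h4 : p.eval a - a ^ p.natDegree ∈ J := by
      rw [Polynomial.eval_eq_sum_range, Finset.sum_range_succ,
        hpm.coeff_natDegree, one_mul, add_sub_cancel_right]
      refine Submodule.sum_mem _ fun i hi => Ideal.mul_mem_right _ _ ?_
      exact Ideal.pow_le_self (by have := Finset.mem_range.1 hi; omega) (hpc i)
    have h5 := sub_mem (Submodule.mem_sup_right (S := J) h1) (Submodule.mem_sup_left (T := J') h4)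
    rwa [sub_sub_cancel] at h5
  obtain ⟨m, hm⟩ := Ideal.exists_pow_le_of_le_radical_of_fg hrad (IsNoetherian.noetherian _)
  obtain ⟨k, hk⟩ := Ideal.exists_pow_inf_eq_pow_smul J (J' : Submodule R R)
  refine ⟨k, c * m * (k + 1), ?_, ?_⟩
  · have h1 := hk (k + 1) (by omega)
    simp only [smul_eq_mul, Ideal.mul_top] at h1
    rw [eq_bot_iff, h1]
    refine (Ideal.mul_mono le_rfl inf_le_right).trans ?_
    rw [Nat.add_sub_cancel_left, pow_one, Ideal.mul_le]
    intro x hx y hy
    rw [Submodule.mem_bot, mul_comm]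
    exact Submodule.mem_annihilator.1 hy x hx
  · rw [pow_mul, pow_mul]
    refine (Ideal.pow_right_mono hm _).trans ?_
    intro x hx
    have h1 : ((J ⊔ J') ^ (k + 1)).map (Ideal.Quotient.mk J') =
        (J ^ (k + 1)).map (Ideal.Quotient.mk J') := by
      simp [Ideal.map_pow, Ideal.map_sup, Ideal.map_quotient_self]
    have h2 := h1 ▸ Ideal.mem_map_of_mem (Ideal.Quotient.mk J') hx
    have h3 : x ∈ ((J ^ (k + 1)).map (Ideal.Quotient.mk J')).comap (Ideal.Quotient.mk J') := h2
    rwa [Ideal.comap_map_of_surjective _ Ideal.Quotient.mk_surjective,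
      ← RingHom.ker_eq_comap_bot, Ideal.mk_ker] at h3

variable [IsNoetherianRing B] [IsNoetherianRing R] [Module.Flat B R]
  {C : Type u} [CommRing C] [Algebra B C]

include hR
/-- The algebraization: a finitely generated subalgebra of `R/J` dense and with induced topology. -/
theorem exists_subalgebra [IsAdicComplete (I.map (algebraMap B R)) R] (π : R →ₐ[B] C)
    (hπ : Function.Surjective π) (c : ℕ)
    (hJ : (I.map (algebraMap B R)) ^ c * RingHom.ker π ≤ RingHom.ker π ^ 2) :
    ∃ D : Subalgebra B C, D.FG ∧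
      ∀ (m : ℕ) (d : D), (d : C) ∈ (I.map (algebraMap B C)) ^ m →
        d ∈ (I.map (algebraMap B D)) ^ m := by
  classical
  set H := I.map (algebraMap B R) with hH
  set J : Ideal R := RingHom.ker π with hJd
  obtain ⟨k', n, hinf, hle⟩ := exists_pow_le_pow_sup_annihilator H J c hJ
  set J' := Submodule.annihilator J with hJ'd
  set k := k' + 1 with hk
  obtain ⟨r, a, ha⟩ := Submodule.fg_iff_exists_fin_generating_family.1
    (IsNoetherian.noetherian (I ^ n))
  have haR : ∀ b ∈ I ^ n, algebraMap B R b ∈ J ^ k ⊔ J' := fun b hb => hle (by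
    rw [hH, ← Ideal.map_pow]; exact Ideal.mem_map_of_mem _ hb)
  choose x hx x' hx' hxx' using fun i =>
    Submodule.mem_sup.1 (haR (a i) (ha ▸ Submodule.subset_span ⟨i, rfl⟩))
  let emb : R →+* (R ⧸ J ^ k) × (R ⧸ J') :=
    (Ideal.Quotient.mk (J ^ k)).prod (Ideal.Quotient.mk J')
  have hemb : Function.Injective emb := by
    rw [RingHom.injective_iff_ker_eq_bot, eq_bot_iff]
    intro z hz
    rw [RingHom.mem_ker] at hz
    rw [← hinf]
    exact ⟨Ideal.Quotient.eq_zero_iff_mem.1 (congrArg Prod.fst hz),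
      Ideal.Quotient.eq_zero_iff_mem.1 (congrArg Prod.snd hz)⟩
  let φ : B →+* (R ⧸ J ^ k) × (R ⧸ J') := emb.comp (algebraMap B R)
  have hφ : ∀ b, φ b = emb (algebraMap B R b) := fun b => rfl
  let e : (R ⧸ J ^ k) × (R ⧸ J') := (1, 0)
  have hae : ∀ i, φ (a i) * e = emb (x' i) := by
    intro i
    refine Prod.ext ?_ ?_
    · change Ideal.Quotient.mk (J ^ k) (algebraMap B R (a i)) * 1 = Ideal.Quotient.mk (J ^ k) (x' i)
      rw [mul_one, Ideal.Quotient.eq, ← hxx' i, add_sub_cancel_right]
      exact hx i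
    · change Ideal.Quotient.mk J' (algebraMap B R (a i)) * 0 = Ideal.Quotient.mk J' (x' i)
      rw [mul_zero, Ideal.Quotient.eq_zero_iff_mem.2 (hx' i)]
  obtain ⟨δ, hδ⟩ := exists_translate hR a ha x' (fun m i => hemb (by
    rw [map_mul, map_mul, ← hφ, ← hφ, ← hae, ← hae]; ring))
  choose β hβ using hδ
  let ε : (R ⧸ J ^ k) × (R ⧸ J') := e - emb δ
  have haε : ∀ i, φ (a i) * ε = φ (β i) := fun i => by
    simp only [ε, mul_sub, hae]; simp only [hφ, ← map_mul, ← map_sub, hβ i]
  let E : Subalgebra ℤ ((R ⧸ J ^ k) × (R ⧸ J')) :=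
  { carrier := {z | ∃ p, ∀ b ∈ I ^ p, φ b * z ∈ φ.range}
    mul_mem' := by
      rintro z w ⟨p, hp⟩ ⟨q, hq⟩
      refine ⟨p + q, fun b hb => ?_⟩
      rw [pow_add] at hb
      refine Submodule.mul_induction_on hb (fun b₁ hb₁ b₂ hb₂ => ?_) fun b₁ b₂ h₁ h₂ => ?_
      · rw [map_mul, mul_mul_mul_comm]
        exact mul_mem (hp b₁ hb₁) (hq b₂ hb₂)
      · rw [map_add, add_mul]; exact add_mem h₁ h₂
    add_mem' := by
      rintro z w ⟨p, hp⟩ ⟨q, hq⟩
      refine ⟨p + q, fun b hb => ?_⟩
      rw [mul_add]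
      exact add_mem (hp b (Ideal.pow_le_pow_right (Nat.le_add_right p q) hb))
        (hq b (Ideal.pow_le_pow_right (Nat.le_add_left q p) hb))
    algebraMap_mem' := fun z => ⟨0, fun b _ => by
      rw [show algebraMap ℤ ((R ⧸ J ^ k) × (R ⧸ J')) z = φ (z : B) from (map_intCast φ z).symm,
        ← map_mul]
      exact ⟨_, rfl⟩⟩ }
  have hφE : ∀ b, φ b ∈ E := fun b => ⟨0, fun b' _ => ⟨b' * b, map_mul φ b' b⟩⟩
  have hεE : ε ∈ E := by
    refine ⟨n, fun b hb => ?_⟩
    rw [← ha] at hb
    refine Submodule.span_induction ?_ ?_ ?_ ?_ hb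
    · rintro _ ⟨i, rfl⟩
      rw [haε]; exact ⟨_, rfl⟩
    · simp
    · intro u v _ _ hu hv
      rw [map_add, add_mul]; exact add_mem hu hv
    · intro u v _ hv
      rw [smul_eq_mul, map_mul, mul_assoc]; exact mul_mem ⟨u, rfl⟩ hv
  have hJE : ∀ j ∈ J, ((Ideal.Quotient.mk (J ^ k) j, 0) : (R ⧸ J ^ k) × (R ⧸ J')) ∈ E := by
    intro j hj
    refine ⟨n, fun b hb => ⟨0, ?_⟩⟩
    rw [map_zero]
    refine (Prod.ext ?_ (mul_zero _)).symm
    change Ideal.Quotient.mk (J ^ k) (algebraMap B R b) * Ideal.Quotient.mk (J ^ k) j = 0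
    rw [← map_mul, Ideal.Quotient.eq_zero_iff_mem]
    obtain ⟨y, hy, y', hy', hyy'⟩ := Submodule.mem_sup.1 (haR b hb)
    rw [← hyy', add_mul]
    refine add_mem (Ideal.mul_mem_right _ _ hy) ?_
    have h0 : y' * j = 0 := Submodule.mem_annihilator.1 hy' j hj
    rw [h0]
    exact zero_mem _
  have hcap : ∀ z : R, emb z ∈ E → ∃ b, z = algebraMap B R b := by
    rintro z ⟨p, hp⟩
    obtain ⟨r₁, a₁, ha₁⟩ := Submodule.fg_iff_exists_fin_generating_family.1
      (IsNoetherian.noetherian (I ^ p))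
    refine mem_range_of_mul_mem hR a₁ ha₁ fun i => ?_
    obtain ⟨b, hb⟩ := hp (a₁ i) (ha₁ ▸ Submodule.subset_span ⟨i, rfl⟩)
    exact ⟨b, hemb (by rw [map_mul]; exact hb.symm)⟩
  have hnorm : ∀ (z : (R ⧸ J ^ k) × (R ⧸ J')) (m : ℕ) (Y Z : R), Y ∈ H ^ m → Z ∈ H ^ m →
      z = (Ideal.Quotient.mk _ Y, Ideal.Quotient.mk _ Z) → z ∈ E →
      ∃ s b, s ∈ I ^ m ∧ b ∈ I ^ m ∧ z = φ s * ε + φ b := by
    intro z m Y Z hY hZ hz hzE
    obtain ⟨s, hs⟩ := hR.dense (m + n) (Y - Z)
    have hsm : s ∈ I ^ m := hR.contract m s (by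
      have h1 := sub_mem (sub_mem hY hZ) (Ideal.pow_le_pow_right (Nat.le_add_right m n) hs)
      rwa [sub_sub_cancel] at h1)
    obtain ⟨v, hv, hvs⟩ := exists_combination_mem I a ha hs
    let T : R := Z + (Y - Z) * δ + ∑ i, v i * algebraMap B R (β i)
    have hzT : z = φ s * ε + emb T := by
      have h1 : emb (∑ i, v i * algebraMap B R (β i)) =
          emb (Y - Z - algebraMap B R s) * ε := by
        rw [hvs, map_sum, map_sum, Finset.sum_mul]
        refine Finset.sum_congr rfl fun i _ => ?_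
        rw [map_mul, map_mul, ← hφ, ← hφ, ← haε]; ring
      simp only [T, map_add, h1, hφ, map_sub, map_mul]
      rw [hz]
      refine Prod.ext ?_ ?_
      · simp [ε, e, emb]; ring
      · simp [ε, e, emb]; ring
    have hTE : emb T ∈ E := by
      have h2 := sub_mem hzE (mul_mem (hφE s) hεE)
      rwa [hzT, add_sub_cancel_left] at h2
    obtain ⟨b, hb⟩ := hcap T hTE
    refine ⟨s, b, hsm, hR.contract m b ?_, by rw [hzT, hb]; rfl⟩
    rw [← hb]
    exact add_mem (add_mem hZ (Ideal.mul_mem_right _ _ (sub_mem hY hZ)))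
      (Submodule.sum_mem _ fun i _ => Ideal.mul_mem_right _ _ (hv i))
  have hkJ : J ^ k ≤ J := Ideal.pow_le_self k'.succ_ne_zero
  let θ : (R ⧸ J ^ k) × (R ⧸ J') →+* C :=
    (Ideal.Quotient.lift (J ^ k) π.toRingHom fun z hz => RingHom.mem_ker.1 (hkJ hz)).comp
      (RingHom.fst _ _)
  have hθ : ∀ y z : R, θ (Ideal.Quotient.mk _ y, Ideal.Quotient.mk _ z) = π y := fun y z => rfl
  have hθφ : ∀ b, θ (φ b) = algebraMap B C b := fun b => π.commutes b
  have hθemb : ∀ z, θ (emb z) = π z := fun z => rfl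
  have hθε : θ ε = 1 - π δ := by
    rw [map_sub, hθemb]
    exact congrArg (· - π δ) (map_one (Ideal.Quotient.lift (J ^ k) π.toRingHom fun z hz => RingHom.mem_ker.1 (hkJ hz)))
  obtain ⟨δ₀, hδ₀⟩ := hR.dense 1 δ
  rw [pow_one] at hδ₀
  set t : R := δ - algebraMap B R δ₀ with ht
  have hunit : IsUnit (1 - t) := by
    have h1 : t ∈ (⊥ : Ideal R).jacobson := IsAdicComplete.le_jacobson_bot H hδ₀
    have h2 := Ideal.mem_jacobson_bot.1 h1 (-1)
    rwa [mul_neg_one, neg_add_eq_sub] at h2
  obtain ⟨u, hu⟩ := hunit.map π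
  let f : (R ⧸ J ^ k) × (R ⧸ J') := ε + φ δ₀
  have hfE : f ∈ E := add_mem hεE (hφE δ₀)
  have hf : f = (Ideal.Quotient.mk _ (1 - t), Ideal.Quotient.mk _ (-t)) := by
    refine Prod.ext ?_ ?_
    · simp [f, ε, e, emb, φ, t]; ring
    · simp [f, ε, e, emb, φ, t]; ring
  have hθf : θ f = (u : C) := by rw [hf, hθ, hu]
  set D := Algebra.adjoin B ({π δ, ((u⁻¹ : Cˣ) : C)} : Set C) with hD
  refine ⟨D, Subalgebra.fg_def.2 ⟨_, Set.toFinite _, hD.symm⟩, fun m d hd => ?_⟩
  have hδD : π δ ∈ D := Algebra.subset_adjoin (Set.mem_insert _ _)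
  have huD : ((u⁻¹ : Cˣ) : C) ∈ D := Algebra.subset_adjoin (Set.mem_insert_of_mem _ rfl)
  let S : Subalgebra B C :=
  { carrier := {z | ∃ p, ∃ y ∈ E, z * (u : C) ^ p = θ y}
    mul_mem' := by
      rintro z w ⟨p, y, hy, hzy⟩ ⟨q, y', hy', hwy⟩
      exact ⟨p + q, y * y', mul_mem hy hy', by rw [map_mul, ← hzy, ← hwy, pow_add]; ring⟩
    add_mem' := by
      rintro z w ⟨p, y, hy, hzy⟩ ⟨q, y', hy', hwy⟩
      exact ⟨p + q, y * f ^ q + y' * f ^ p,
        add_mem (mul_mem hy (pow_mem hfE q)) (mul_mem hy' (pow_mem hfE p)),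
        by rw [map_add, map_mul, map_mul, map_pow, map_pow, ← hzy, ← hwy, hθf, pow_add]; ring⟩
    algebraMap_mem' := fun b => ⟨0, φ b, hφE b, by rw [hθφ, pow_zero, mul_one]⟩ }
  have hDS : D ≤ S := Algebra.adjoin_le (by
    rintro z (rfl | rfl)
    · exact ⟨0, 1 - ε, sub_mem (one_mem E) hεE, by rw [map_sub, map_one, hθε]; ring⟩
    · exact ⟨1, 1, one_mem E, by simp⟩)
  obtain ⟨p, y, hy, hdy⟩ := hDS d.2
  obtain ⟨y₁, hy₁⟩ := Ideal.Quotient.mk_surjective y.1
  obtain ⟨y₂, hy₂⟩ := Ideal.Quotient.mk_surjective y.2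
  have hy' : y = (Ideal.Quotient.mk _ y₁, Ideal.Quotient.mk _ y₂) :=
    Prod.ext hy₁.symm hy₂.symm
  have hπy : π y₁ = (d : C) * (u : C) ^ p := by rw [hdy, hy', hθ]
  have hmapC : I.map (algebraMap B C) = H.map π := by
    rw [← π.comp_algebraMap, ← Ideal.map_map]; rfl
  have hπm : π y₁ ∈ (H ^ m).map π := by
    rw [Ideal.map_pow, ← hmapC, hπy]
    exact Ideal.mul_mem_right _ _ hd
  obtain ⟨Y, hY, hYy⟩ := (Ideal.mem_map_iff_of_surjective π hπ).1 hπm
  have hjJ : (y₁ - Y) * (1 - t) ^ m ∈ J := by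
    refine Ideal.mul_mem_right _ _ ?_
    rw [hJd, RingHom.mem_ker, map_sub, hYy, sub_self]
  set z := y * f ^ m - (Ideal.Quotient.mk _ ((y₁ - Y) * (1 - t) ^ m), 0) with hz
  have hzE : z ∈ E := sub_mem (mul_mem hy (pow_mem hfE m)) (hJE _ hjJ)
  obtain ⟨s, b, hs, hb, hzsb⟩ := hnorm z m ((1 - t) ^ m * Y) (y₂ * (-t) ^ m)
    (Ideal.mul_mem_left _ _ hY) (Ideal.mul_mem_left _ _ (Ideal.pow_mem_pow (neg_mem hδ₀) m))
    (by
      rw [hz, hy', hf]
      refine Prod.ext ?_ ?_
      · simp; ring
      · simp) hzE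
  have hfin : (d : C) * (u : C) ^ (p + m) =
      algebraMap B C s * (1 - π δ) + algebraMap B C b := by
    rw [← hθφ, ← hθφ, ← hθε, ← map_mul, ← map_add, ← hzsb, hz, map_sub, map_mul, map_pow, hθf,
      ← hdy]
    rw [show θ ((Ideal.Quotient.mk _ ((y₁ - Y) * (1 - t) ^ m), 0) : (R ⧸ J ^ k) × (R ⧸ J')) = 0
      from RingHom.mem_ker.1 hjJ]
    rw [pow_add, sub_zero, mul_assoc]
  have hd' : d = (⟨_, huD⟩ : D) ^ (p + m) *
      (algebraMap B D s * (1 - ⟨_, hδD⟩) + algebraMap B D b) := by
    refine Subtype.ext ?_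
    push_cast
    rw [← hfin, mul_left_comm, ← mul_pow, Units.inv_mul, one_pow, mul_one]
  rw [hd', ← Ideal.map_pow]
  exact Ideal.mul_mem_left _ _ (add_mem (Ideal.mul_mem_right _ _ (Ideal.mem_map_of_mem _ hs))
    (Ideal.mem_map_of_mem _ hb))

end Groth.Agent.CAlgH.Algebraize

namespace Groth.Agent.CAlgH.Algebraize

theorem isCompl_adicCompletion {B : Type u} [CommRing B] (I : Ideal B) (hI : I.FG) :
    IsCompl (R := AdicCompletion I B) I where
  dense n x := by
    obtain ⟨b, hb⟩ := Ideal.Quotient.mk_surjective (AdicCompletion.evalₐ I n x)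
    refine ⟨b, ?_⟩
    rw [← FSchLib.ker_evalₐ I hI n, RingHom.mem_ker]
    change AdicCompletion.evalₐ I n (x - algebraMap B (AdicCompletion I B) b) = 0
    rw [map_sub, FSchLib.evalₐ_algebraMap, hb, sub_self]
  contract n b hb := by
    rw [← FSchLib.ker_evalₐ I hI n, RingHom.mem_ker] at hb
    change AdicCompletion.evalₐ I n (algebraMap B (AdicCompletion I B) b) = 0 at hb
    rwa [FSchLib.evalₐ_algebraMap, Ideal.Quotient.eq_zero_iff_mem] at hb

/-- A dense subalgebra with induced topology of a complete ring has that ring as completion. -/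
theorem exists_equiv_completion {B C : Type u} [CommRing B] [CommRing C] [Algebra B C]
    (I : Ideal B) [IsAdicComplete (I.map (algebraMap B C)) C] (D : Subalgebra B C)
    (hd : ∀ (m : ℕ) (x : C), ∃ b : B, x - algebraMap B C b ∈ (I.map (algebraMap B C)) ^ m)
    (hD : ∀ (m : ℕ) (d : D), (d : C) ∈ (I.map (algebraMap B C)) ^ m →
      d ∈ (I.map (algebraMap B D)) ^ m) :
    ∃ e : C ≃+* AdicCompletion (I.map (algebraMap B D)) D,
      ∀ b : B, e (algebraMap B C b) = algebraMap D _ (algebraMap B D b) := by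
  have hle : (I.map (algebraMap B D)).map (D.val : D →+* C) ≤ I.map (algebraMap B C) := by
    rw [Ideal.map_map, AlgHom.comp_algebraMap]
  have hb : ∀ m, Function.Bijective (Ideal.quotientMap ((I.map (algebraMap B C)) ^ m) (D.val : D →+* C)
      (FSch.pow_le_comap_pow_of_map_le _ _ _ hle m)) := fun m => by
    refine ⟨Ideal.quotientMap_injective' fun d hd' => hD m d hd', fun z => ?_⟩
    obtain ⟨x, rfl⟩ := Ideal.Quotient.mk_surjective z
    obtain ⟨b, hb⟩ := hd m x
    refine ⟨Ideal.Quotient.mk _ (algebraMap B D b), ?_⟩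
    rw [Ideal.quotientMap_mk, Ideal.Quotient.eq, ← neg_mem_iff, neg_sub]
    exact hb
  let e₁ := RingEquiv.ofBijective _
    (Groth.Agent.AdicRing.bijective_complMap_of_levels _ _ (D.val : D →+* C) hle hb)
  refine ⟨(AdicCompletion.ofAlgEquiv (I.map (algebraMap B C))).toRingEquiv.trans e₁.symm, fun b => ?_⟩
  rw [RingEquiv.trans_apply, RingEquiv.symm_apply_eq]
  exact (FSchLib.complMap_algebraMap _ _ _ hle (algebraMap B D b)).symm

/-- Quotients of the completion with conormal killed by a power of `I` are algebraizable. -/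
theorem exists_finiteType {B : Type u} [CommRing B] [IsNoetherianRing B] (I : Ideal B)
    {C : Type u} [CommRing C] (π : AdicCompletion I B →+* C) (hπ : Function.Surjective π) (c : ℕ)
    (hJ : (I.map (algebraMap B (AdicCompletion I B))) ^ c * RingHom.ker π ≤ RingHom.ker π ^ 2) :
    ∃ (D : Type u) (_ : CommRing D) (_ : Algebra B D), Algebra.FiniteType B D ∧
      ∃ e : C ≃+* AdicCompletion (I.map (algebraMap B D)) D,
        ∀ b : B, e (π (algebraMap B _ b)) = algebraMap D _ (algebraMap B D b) := by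
  let R := AdicCompletion I B
  have hI : I.FG := IsNoetherian.noetherian I
  haveI : IsNoetherianRing R := AdicRing.isNoetherianRing_completion I hI
  haveI : IsAdicComplete (I.map (algebraMap B R)) R := AdicCompletion.isAdicComplete_self I hI
  letI : Algebra B C := (π.comp (algebraMap B R)).toAlgebra
  let πA : R →ₐ[B] C := { π with commutes' := fun b => rfl }
  obtain ⟨D, hfg, hD⟩ := exists_subalgebra (isCompl_adicCompletion I hI) πA hπ c hJ
  letI : Algebra R C := π.toAlgebra
  haveI : Module.Finite R C := Module.Finite.of_surjective (Algebra.linearMap R C) hπ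
  haveI : IsAdicComplete (I.map (algebraMap B C)) C := by
    have h1 := Groth.Agent.AdicRing.isAdicComplete_of_finite (I.map (algebraMap B R)) C
    have h2 := (IsAdicComplete.map_algebraMap_iff (S := C) (I.map (algebraMap B R)) C).2 h1
    rwa [Ideal.map_map] at h2
  have hd : ∀ (m : ℕ) (x : C), ∃ b : B,
      x - algebraMap B C b ∈ (I.map (algebraMap B C)) ^ m := fun m x => by
    obtain ⟨y, rfl⟩ := hπ x
    obtain ⟨b, hb⟩ := (isCompl_adicCompletion I hI).dense m y
    refine ⟨b, ?_⟩
    have h1 := Ideal.mem_map_of_mem π hb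
    rwa [Ideal.map_pow, Ideal.map_map, map_sub] at h1
  obtain ⟨e, he⟩ := exists_equiv_completion I D hd hD
  exact ⟨D, inferInstance, inferInstance, D.fg_iff_finiteType.1 hfg, e, he⟩

end Groth.Agent.CAlgH.Algebraize
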