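import Groth.Agent.CAlgH.Algebraize
import Groth.Agent.FlatLocal.FlatAt
import Groth.Agent.AdicRing.CompLocMap
import Groth.Agent.HenselLib.Unique
import Groth.Agent.HenselLib.HullNoeth
import Groth.Agent.HenselLib.PairQuot
import Mathlib

/-!
# Formal sections of algebras etale outside `V(J)` lift to the henselian pair

`C` Noetherian, `B` of finite type over `C` and etale outside `V(J)`. The kernel of a formal section
`B^ → C^` has conormal killed by a power of `J`, hence the section algebraizes to a finite type
algebra `D` with `D^ = C^`, which is etale over `C` near `V(J D)`.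
-/

set_option autoImplicit false
set_option linter.style.haveILetI false
universe u

namespace Groth.Agent.CAlgH.AlgebraizeEtale

section Unramified

variable {C B Q : Type u} [CommRing C] [CommRing B] [CommRing Q] [Algebra C B] [Algebra C Q]

/-- Two maps congruent modulo a square zero ideal agree up to powers of `a` if `B_a` is unramified. -/
theorem exists_pow_mul_sub_eq_zero (a : C)
    [Algebra.FormallyUnramified C (Localization.Away (algebraMap C B a))]
    (f g : B →ₐ[C] Q) (N : Ideal Q) (hN : N ^ 2 = ⊥) (h : ∀ b, f b - g b ∈ N) (b : B) :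
    ∃ m : ℕ, algebraMap C Q a ^ m * (f b - g b) = 0 := by
  let L := Localization.Away (algebraMap C Q a)
  let Ba := Localization.Away (algebraMap C B a)
  let q : Q →ₐ[C] L := IsScalarTower.toAlgHom C Q L
  have hu : ∀ k : B →ₐ[C] Q, IsUnit ((q.comp k) (algebraMap C B a)) := fun k => by
    rw [AlgHom.comp_apply, AlgHom.commutes]
    exact IsLocalization.Away.algebraMap_isUnit (S := L) (algebraMap C Q a)
  let F : Ba →ₐ[C] L := IsLocalization.Away.liftAlgHom (algebraMap C B a) (hu f)
  let G : Ba →ₐ[C] L := IsLocalization.Away.liftAlgHom (algebraMap C B a) (hu g)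
  have hN' : IsNilpotent (N.map (algebraMap Q L)) :=
    ⟨2, by rw [← Ideal.map_pow, hN, Ideal.map_bot]; rfl⟩
  have hFb : ∀ y, F (algebraMap B Ba y) = algebraMap Q L (f y) := fun y => by simp [F, q]
  have hGb : ∀ y, G (algebraMap B Ba y) = algebraMap Q L (g y) := fun y => by simp [G, q]
  have hFG : (Ideal.Quotient.mkₐ C (N.map (algebraMap Q L))).comp F =
      (Ideal.Quotient.mkₐ C (N.map (algebraMap Q L))).comp G := by
    refine IsLocalization.algHom_ext (Submonoid.powers (algebraMap C B a)) (AlgHom.ext fun y => ?_)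
    show Ideal.Quotient.mk _ (F (algebraMap B Ba y)) = Ideal.Quotient.mk _ (G (algebraMap B Ba y))
    rw [hFb, hGb, Ideal.Quotient.eq, ← map_sub]
    exact Ideal.mem_map_of_mem _ (h y)
  have heq : F = G := Algebra.FormallyUnramified.ext _ hN' fun x => congr($hFG x)
  have h1 : algebraMap Q L (f b) = algebraMap Q L (g b) := by rw [← hFb, ← hGb, heq]
  rw [← sub_eq_zero, ← map_sub, IsLocalization.map_eq_zero_iff (Submonoid.powers (algebraMap C Q a))] at h1
  obtain ⟨⟨_, m, rfl⟩, hm⟩ := h1
  exact ⟨m, hm⟩

end Unramified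

section Kernel

variable {C R B : Type u} [CommRing C] [CommRing R] [CommRing B] [IsNoetherianRing R]
  [Algebra C B] [Algebra C R] [Algebra B R] [IsScalarTower C B R]

/-- Kernel of a retraction onto a quotient of a completion of an algebra etale outside `V(J)`:
the ideal `K` is killed modulo `K ^ 2` by powers of elements of `J`. -/
theorem exists_pow_mul_mem_sq (J : Ideal C) [IsAdicComplete (J.map (algebraMap C R)) R]
    (a : C) [Algebra.FormallyUnramified C (Localization.Away (algebraMap C B a))]
    [Algebra.FiniteType C B]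
    (hdense : ∀ (n : ℕ) (x : R), ∃ b : B, x - algebraMap B R b ∈ (J.map (algebraMap C R)) ^ n)
    (h : R →ₐ[C] R) (K : Ideal R) (hK : ∀ x ∈ K, h x = 0) (hmod : ∀ x, x - h x ∈ K) :
    ∃ m : ℕ, ∀ x ∈ K, algebraMap C R a ^ m * x ∈ K ^ 2 := by
  classical
  let Q := R ⧸ K ^ 2
  let f : B →ₐ[C] Q := (Ideal.Quotient.mkₐ C (K ^ 2)).comp (IsScalarTower.toAlgHom C B R)
  let g : B →ₐ[C] Q := ((Ideal.Quotient.mkₐ C (K ^ 2)).comp h).comp (IsScalarTower.toAlgHom C B R)
  have hN : (K.map (Ideal.Quotient.mk (K ^ 2))) ^ 2 = ⊥ := by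
    rw [← Ideal.map_pow, Ideal.map_quotient_self]
  have hfg : ∀ b, f b - g b ∈ K.map (Ideal.Quotient.mk (K ^ 2)) := fun b => by
    show Ideal.Quotient.mk _ (algebraMap B R b) - Ideal.Quotient.mk _ (h (algebraMap B R b)) ∈ _
    rw [← map_sub]
    exact Ideal.mem_map_of_mem _ (hmod _)
  choose e he using exists_pow_mul_sub_eq_zero a f g _ hN hfg
  obtain ⟨s, hs⟩ := Algebra.FiniteType.out (R := C) (A := B)
  let m := s.sup e
  let E : Subalgebra C B :=
  { carrier := {b | algebraMap C Q a ^ m * (f b - g b) = 0}
    mul_mem' := fun {x y} hx hy => by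
      simp only [Set.mem_setOf_eq, map_mul] at hx hy ⊢
      linear_combination f x * hy + g y * hx
    add_mem' := fun {x y} hx hy => by
      simp only [Set.mem_setOf_eq, map_add] at hx hy ⊢
      linear_combination hx + hy
    algebraMap_mem' := fun c => by
      simp only [Set.mem_setOf_eq, AlgHom.commutes, sub_self, mul_zero] }
  have hE : ∀ b : B, algebraMap C Q a ^ m * (f b - g b) = 0 := by
    have h1 : Algebra.adjoin C (s : Set B) ≤ E := Algebra.adjoin_le fun b hb => by
      show algebraMap C Q a ^ m * (f b - g b) = 0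
      rw [show m = m - e b + e b from (Nat.sub_add_cancel (Finset.le_sup (f := e) hb)).symm, pow_add,
        mul_assoc, he b, mul_zero]
    intro b
    exact h1 (hs ▸ Algebra.mem_top)
  refine ⟨m, fun x hx => ?_⟩
  let T : Ideal R := (K ^ 2).colon {algebraMap C R a ^ m}
  have hT : ∀ y, y ∈ T ↔ y * algebraMap C R a ^ m ∈ K ^ 2 := fun y => Submodule.mem_colon_singleton
  have hb : ∀ b : B, algebraMap B R b - h (algebraMap B R b) ∈ T := fun b => by
    rw [hT, ← Ideal.Quotient.eq_zero_iff_mem, map_mul, map_pow, mul_comm]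
    exact hE b
  set H := J.map (algebraMap C R) with hH
  have hhH : H.map h.toRingHom = H := by
    rw [hH, Ideal.map_map]
    exact congrArg (Ideal.map · J) h.comp_algebraMap
  have hTx : x - h x ∈ T := by
    haveI : IsHausdorff H (R ⧸ T) := IsHausdorff.of_le_jacobson H _ (IsAdicComplete.le_jacobson_bot H)
    refine Ideal.Quotient.eq_zero_iff_mem.1 (IsHausdorff.haus ‹IsHausdorff H (R ⧸ T)› _ fun n => ?_)
    rw [SModEq.zero]
    obtain ⟨b, hbn⟩ := hdense n x
    have hd : (x - algebraMap B R b) - h (x - algebraMap B R b) ∈ H ^ n := by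
      refine sub_mem hbn ?_
      have h2 := Ideal.mem_map_of_mem h.toRingHom hbn
      rwa [Ideal.map_pow, hhH] at h2
    have h3 : Ideal.Quotient.mk T (x - h x) =
        ((x - algebraMap B R b) - h (x - algebraMap B R b)) • (1 : R ⧸ T) := by
      rw [Algebra.smul_def, mul_one, Ideal.Quotient.algebraMap_eq, Ideal.Quotient.eq, map_sub]
      convert hb b using 1
      ring
    rw [h3]
    exact Submodule.smul_mem_smul hd trivial
  rw [hK x hx, sub_zero, hT, mul_comm] at hTx
  exact hTx

end Kernel

/-- A formal section of an algebra etale outside `V(J)` has conormal killed by a power of `J`. -/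
theorem exists_pow_mul_ker_le {C B : Type u} [CommRing C] [IsNoetherianRing C] [CommRing B]
    [Algebra C B] [Algebra.FiniteType C B] (J : Ideal C) (S : Set C) (hS : Ideal.span S = J)
    (hB : ∀ a ∈ S, Algebra.FormallyUnramified C (Localization.Away (algebraMap C B a)))
    (π : AdicCompletion (J.map (algebraMap C B)) B →+* AdicCompletion J C)
    (hπ : ∀ c : C, π (algebraMap B _ (algebraMap C B c)) = algebraMap C (AdicCompletion J C) c) :
    ∃ c : ℕ, ((J.map (algebraMap C B)).map
        (algebraMap B (AdicCompletion (J.map (algebraMap C B)) B))) ^ c * RingHom.ker π ≤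
      RingHom.ker π ^ 2 := by
  classical
  haveI : IsNoetherianRing B := Algebra.FiniteType.isNoetherianRing C B
  let I := J.map (algebraMap C B)
  let R := AdicCompletion I B
  have hIfg : I.FG := IsNoetherian.noetherian I
  haveI : IsNoetherianRing R := AdicRing.isNoetherianRing_completion I hIfg
  have hH : J.map (algebraMap C R) = I.map (algebraMap B R) := by
    refine Eq.trans ?_ (Ideal.map_map (algebraMap C B) (algebraMap B R)).symm
    exact congrArg (Ideal.map · J) (IsScalarTower.algebraMap_eq C B R)
  haveI : IsAdicComplete (J.map (algebraMap C R)) R := hH ▸ AdicCompletion.isAdicComplete_self I hIfg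
  obtain ⟨ι, hι⟩ := Groth.Agent.AdicRing.exists_completion_hom J (algebraMap C R)
    (J.map (algebraMap C R)) le_rfl
  have hπR : ∀ c : C, π (algebraMap C R c) = algebraMap C (AdicCompletion J C) c := fun c => by
    rw [IsScalarTower.algebraMap_apply C B R]; exact hπ c
  let h : R →ₐ[C] R := { ι.comp π with
    commutes' := fun c => by
      show ι (π (algebraMap C R c)) = _
      rw [hπR, hι] }
  have hπι : π.comp ι = RingHom.id _ := by
    have hJfg : J.FG := IsNoetherian.noetherian J
    haveI := AdicCompletion.isAdicComplete_self J hJfg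
    refine Groth.Agent.AdicRing.completion_hom_ext J hJfg
      (J.map (algebraMap C (AdicCompletion J C))) (fun c => ?_) fun c hc => ?_
    · rw [RingHom.comp_apply, hι, RingHom.id_apply]; exact hπR c
    · rw [RingHom.comp_apply, hι, hπR]; exact Ideal.mem_map_of_mem _ hc
  have hK : ∀ x ∈ RingHom.ker π, h x = 0 := fun x hx => by
    show ι (π x) = 0
    rw [RingHom.mem_ker.1 hx, map_zero]
  have hmod : ∀ x, x - h x ∈ RingHom.ker π := fun x => by
    rw [RingHom.mem_ker, map_sub, sub_eq_zero]
    exact (congr($hπι (π x))).symm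
  have hdense : ∀ (n : ℕ) (x : R), ∃ b : B,
      x - algebraMap B R b ∈ (J.map (algebraMap C R)) ^ n := by
    rw [hH]; exact (Algebraize.isCompl_adicCompletion I hIfg).dense
  let L : Ideal R := (RingHom.ker π ^ 2).colon (RingHom.ker π : Set R)
  have hrad : J.map (algebraMap C R) ≤ L.radical := by
    rw [Ideal.map_le_iff_le_comap]
    refine hS.ge.trans (Ideal.span_le.2 fun a ha => ?_)
    haveI := hB a ha
    obtain ⟨m, hm⟩ := exists_pow_mul_mem_sq J a hdense h (RingHom.ker π) hK hmod
    exact ⟨m, Submodule.mem_colon.2 fun x hx => hm x hx⟩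
  obtain ⟨c, hc⟩ := Ideal.exists_pow_le_of_le_radical_of_fg hrad (IsNoetherian.noetherian _)
  refine ⟨c, Ideal.mul_le.2 fun r hr x hx => ?_⟩
  rw [← hH] at hr
  exact Submodule.mem_colon.1 (hc hr) x hx

/-- A finite type algebra with the same completion is etale on a neighbourhood of the closed subset. -/
theorem exists_etale_away {C D : Type u} [CommRing C] [IsNoetherianRing C] [CommRing D]
    [Algebra C D] [Algebra.FiniteType C D] (J : Ideal C)
    (e : AdicCompletion J C ≃+* AdicCompletion (J.map (algebraMap C D)) D)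
    (he : ∀ c : C, e (algebraMap C _ c) = algebraMap D _ (algebraMap C D c)) :
    ∃ g : D, g - 1 ∈ J.map (algebraMap C D) ∧ Algebra.Etale C (Localization.Away g) := by
  classical
  haveI : IsNoetherianRing D := Algebra.FiniteType.isNoetherianRing C D
  haveI : Algebra.FinitePresentation C D := Algebra.FinitePresentation.of_finiteType.1 ‹_›
  let I := J.map (algebraMap C D)
  let T := AdicCompletion I D
  have hIfg : I.FG := IsNoetherian.noetherian I
  have hcompl := Algebraize.isCompl_adicCompletion (B := D) I hIfg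
  have hmap : (J.map (algebraMap C (AdicCompletion J C))).map e.toRingHom =
      I.map (algebraMap D T) := by
    refine (Ideal.map_map _ _).trans (Eq.trans ?_ (Ideal.map_map _ _).symm)
    exact congrArg (Ideal.map · J) (RingHom.ext he)
  -- every element of `D` is congruent to a constant
  have hconst : ∀ d : D, ∃ c : C, d - algebraMap C D c ∈ I := by
    intro d
    obtain ⟨c, hc⟩ := (Algebraize.isCompl_adicCompletion (B := C) J (IsNoetherian.noetherian J)).dense 1
      (e.symm (algebraMap D T d))
    refine ⟨c, ?_⟩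
    have h1 := Ideal.mem_map_of_mem e.toRingHom hc
    rw [Ideal.map_pow, hmap] at h1
    have h2 : e.toRingHom (e.symm (algebraMap D T d) - algebraMap C (AdicCompletion J C) c) =
        algebraMap D T (d - algebraMap C D c) := by
      show e _ = _
      rw [map_sub, e.apply_symm_apply, he, map_sub]
    rw [h2] at h1
    simpa using hcompl.contract 1 _ h1
  -- differentials are killed by an element congruent to one
  have hΩ : (⊤ : Submodule D Ω[D⁄C]) ≤ I • ⊤ := by
    rw [← KaehlerDifferential.span_range_derivation C D, Submodule.span_le]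
    rintro _ ⟨d, rfl⟩
    obtain ⟨c, hc⟩ := hconst d
    rw [SetLike.mem_coe, show KaehlerDifferential.D C D d =
      KaehlerDifferential.D C D (d - algebraMap C D c) by simp,
      KaehlerDifferential.span_range_derivation]
    suffices h : ∀ y ∈ Ideal.span (algebraMap C D '' (J : Set C)),
        KaehlerDifferential.D C D y ∈ I • (⊤ : Submodule D Ω[D⁄C]) from h _ hc
    intro y hy
    induction hy using Submodule.span_induction with
    | mem x hx =>
      obtain ⟨c', -, rfl⟩ := hx
      simp
    | zero => simp
    | add x y _ _ hx hy => rw [map_add]; exact add_mem hx hy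
    | smul r x hx' hx =>
      rw [smul_eq_mul, Derivation.leibniz]
      exact add_mem (Submodule.smul_mem _ r hx) (Submodule.smul_mem_smul hx' trivial)
  obtain ⟨g₀, hg₀, hg₀'⟩ := Submodule.exists_sub_one_mem_and_smul_eq_zero_of_fg_of_le_smul I ⊤
    Module.Finite.fg_top hΩ
  -- etale at every prime containing `I`
  have hloc : ∀ q : PrimeSpectrum D, I ≤ q.asIdeal → q ∈ Algebra.etaleLocus C D := by
    intro q hq
    haveI : Algebra.IsUnramifiedAt C q.asIdeal := by
      show q ∈ Algebra.unramifiedLocus C D
      rw [Algebra.unramifiedLocus_eq_compl_support, Set.mem_compl_iff, Module.notMem_support_iff']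
      intro x
      refine ⟨g₀, fun hg => q.2.ne_top ((Ideal.eq_top_iff_one _).2 ?_), hg₀' x trivial⟩
      simpa using sub_mem hg (hq hg₀)
    let θ : T →+* D ⧸ q.asIdeal :=
      (Ideal.Quotient.factor (show I ^ 1 ≤ q.asIdeal by rwa [pow_one])).comp
        (AdicCompletion.evalₐ I 1).toRingHom
    let Q : Ideal T := RingHom.ker θ
    haveI : Q.IsPrime := RingHom.ker_isPrime θ
    have hθd : ∀ d, θ (algebraMap D T d) = Ideal.Quotient.mk q.asIdeal d := fun d => by
      show Ideal.Quotient.factor (show I ^ 1 ≤ q.asIdeal by rwa [pow_one]) (AdicCompletion.evalₐ I 1 (algebraMap D T d)) = _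
      rw [FSchLib.evalₐ_algebraMap, Ideal.Quotient.factor_mk]
    have hQ : q.asIdeal = Q.comap (algebraMap D T) := by
      ext d
      rw [Ideal.mem_comap, RingHom.mem_ker, hθd, Ideal.Quotient.eq_zero_iff_mem]
    have hDT : (algebraMap D T).Flat := by
      rw [RingHom.flat_algebraMap_iff]; infer_instance
    have hCT : ((algebraMap D T).comp (algebraMap C D)).Flat := by
      have h1 : (algebraMap D T).comp (algebraMap C D) =
          e.toRingHom.comp (algebraMap C (AdicCompletion J C)) := (RingHom.ext he).symm
      rw [h1]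
      exact RingHom.Flat.comp (by rw [RingHom.flat_algebraMap_iff]; infer_instance)
        (RingHom.Flat.of_bijective e.bijective)
    let j := Localization.localRingHom q.asIdeal Q (algebraMap D T) hQ
    have hcomp : j.comp (algebraMap C (Localization.AtPrime q.asIdeal)) =
        (algebraMap T (Localization.AtPrime Q)).comp ((algebraMap D T).comp (algebraMap C D)) := by
      refine RingHom.ext fun c => ?_
      rw [RingHom.comp_apply, IsScalarTower.algebraMap_apply C D (Localization.AtPrime q.asIdeal)]
      exact Localization.localRingHom_to_map _ _ _ hQ _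
    have hflat : (j.comp (algebraMap C (Localization.AtPrime q.asIdeal))).Flat := by
      rw [hcomp]
      exact RingHom.Flat.comp hCT
        (by rw [RingHom.flat_algebraMap_iff]; exact IsLocalization.flat _ Q.primeCompl)
    have h3 := Groth.Agent.AdicRing.flat_of_flat_comp_of_isLocalHom _ j
      (Groth.Agent.AdicRing.flat_localRingHom _ hDT Q q.asIdeal hQ) hflat
    rw [RingHom.flat_algebraMap_iff] at h3
    exact FlatLocal.isEtaleAt_of_flatAt q.asIdeal
  obtain ⟨s, hs⟩ := (PrimeSpectrum.isClosed_iff_zeroLocus _).1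
    (Algebra.isOpen_etaleLocus (R := C) (A := D)).isClosed_compl
  have htop : Ideal.span s ⊔ I = ⊤ := by
    by_contra hne
    obtain ⟨M, hM, hle⟩ := Ideal.exists_le_maximal _ hne
    have hc : (⟨M, hM.isPrime⟩ : PrimeSpectrum D) ∈ (Algebra.etaleLocus C D)ᶜ := by
      rw [hs, PrimeSpectrum.mem_zeroLocus]
      exact Ideal.span_le.1 (le_sup_left.trans hle)
    exact hc (hloc _ (le_sup_right.trans hle))
  obtain ⟨g, hg, i, hi, hgi⟩ := Submodule.mem_sup.1 ((Ideal.eq_top_iff_one _).1 htop)
  refine ⟨g, ?_, Algebra.basicOpen_subset_etaleLocus_iff_etale.1 fun p hp => ?_⟩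
  · rw [← hgi, sub_add_cancel_left]; exact neg_mem hi
  · by_contra hpn
    have h4 : p ∈ PrimeSpectrum.zeroLocus s := hs ▸ hpn
    exact hp (Ideal.span_le.2 ((PrimeSpectrum.mem_zeroLocus _ _).1 h4) hg)

/-- Formal sections of algebras etale outside `V(J)` lift uniquely to the henselisation of the pair. -/
theorem existsUnique_lift {C B H : Type u} [CommRing C] [IsNoetherianRing C] [CommRing B]
    [Algebra C B] [Algebra.FiniteType C B] [CommRing H] [Algebra C H] (J : Ideal C)
    (hH : HenselLib.IsPairHull C J H) (S : Set C) (hS : Ideal.span S = J)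
    (hB : ∀ a ∈ S, Algebra.FormallyUnramified C (Localization.Away (algebraMap C B a)))
    (φ : B →ₐ[C] AdicCompletion J C) :
    ∃! ψ : B →ₐ[C] H, ∀ (n : ℕ) (b : B), ∃ c : C,
      ψ b - algebraMap C H c ∈ (J.map (algebraMap C H)) ^ n ∧
        AdicCompletion.evalₐ J n (φ b) = Ideal.Quotient.mk (J ^ n) c := by
  classical
  haveI : IsNoetherianRing B := Algebra.FiniteType.isNoetherianRing C B
  have hJfg : J.FG := IsNoetherian.noetherian J
  haveI := AdicCompletion.isAdicComplete_self J hJfg
  let I := J.map (algebraMap C B)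
  obtain ⟨π, hπ⟩ := Groth.Agent.AdicRing.exists_completion_hom I φ.toRingHom
    (J.map (algebraMap C (AdicCompletion J C))) (by
      exact ((Ideal.map_map _ _).trans (congrArg (Ideal.map · J) φ.comp_algebraMap)).le)
  have hπC : ∀ c : C, π (algebraMap B _ (algebraMap C B c)) = algebraMap C (AdicCompletion J C) c :=
    fun c => by rw [hπ]; exact φ.commutes c
  haveI : IsAdicComplete (I.map (algebraMap B (AdicCompletion I B))) (AdicCompletion I B) :=
    AdicCompletion.isAdicComplete_self I (IsNoetherian.noetherian I)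
  have hπs : Function.Surjective π := by
    obtain ⟨ι, hι⟩ := Groth.Agent.AdicRing.exists_completion_hom J
      ((algebraMap B (AdicCompletion I B)).comp (algebraMap C B))
      (I.map (algebraMap B (AdicCompletion I B))) (by rw [← Ideal.map_map])
    have hid : π.comp ι = RingHom.id _ := by
      refine Groth.Agent.AdicRing.completion_hom_ext J hJfg
        (J.map (algebraMap C (AdicCompletion J C))) (fun c => ?_) fun c hc => ?_
      · rw [RingHom.comp_apply, hι, RingHom.id_apply]; exact hπC c
      · rw [RingHom.comp_apply, hι]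
        exact (hπC c).symm ▸ Ideal.mem_map_of_mem _ hc
    exact fun y => ⟨ι y, congr($hid y)⟩
  obtain ⟨k, hk⟩ := exists_pow_mul_ker_le J S hS hB π hπC
  obtain ⟨D, _, _, hD, e, he⟩ := Algebraize.exists_finiteType I π hπs k hk
  letI : Algebra C D := ((algebraMap B D).comp (algebraMap C B)).toAlgebra
  haveI : IsScalarTower C B D := IsScalarTower.of_algebraMap_eq fun _ => rfl
  haveI : Algebra.FiniteType C D := Algebra.FiniteType.trans (R := C) (S := B) inferInstance hD
  haveI : IsNoetherianRing D := Algebra.FiniteType.isNoetherianRing C D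
  have hID : I.map (algebraMap B D) = J.map (algebraMap C D) := by
    exact Ideal.map_map _ _
  have key : ∀ (e' : AdicCompletion J C ≃+* AdicCompletion (J.map (algebraMap C D)) D),
      (∀ b, e' (φ b) = algebraMap D _ (algebraMap B D b)) →
      ∃ ψ : B →ₐ[C] H, ∀ (n : ℕ) (b : B), ∃ c : C,
        ψ b - algebraMap C H c ∈ (J.map (algebraMap C H)) ^ n ∧
          AdicCompletion.evalₐ J n (φ b) = Ideal.Quotient.mk (J ^ n) c := by
    intro e' he'
    have heC : ∀ c : C, e' (algebraMap C _ c) = algebraMap D _ (algebraMap C D c) := fun c => by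
      rw [← φ.commutes, he']; rfl
    obtain ⟨g, hg, hDg⟩ := exists_etale_away J e' heC
    have hIfg : (J.map (algebraMap C D)).FG := IsNoetherian.noetherian _
    -- congruences in `D`
    have hcong : ∀ (n : ℕ) (d : D) (c : C),
        AdicCompletion.evalₐ J n (e'.symm (algebraMap D _ d)) = Ideal.Quotient.mk (J ^ n) c →
          d - algebraMap C D c ∈ (J.map (algebraMap C D)) ^ n := by
      intro n d c hc
      refine (Algebraize.isCompl_adicCompletion (B := D) _ hIfg).contract n _ ?_
      have h1 : e'.symm (algebraMap D _ (d - algebraMap C D c)) ∈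
          (J.map (algebraMap C (AdicCompletion J C))) ^ n := by
        rw [← FSchLib.ker_evalₐ J hJfg n, RingHom.mem_ker, map_sub, map_sub, ← heC,
          e'.symm_apply_apply]
        show AdicCompletion.evalₐ J n (e'.symm _ - algebraMap C _ c) = 0
        rw [map_sub, FSchLib.evalₐ_algebraMap, hc, sub_self]
      have h2 := Ideal.mem_map_of_mem e'.toRingHom h1
      rw [Ideal.map_pow, Ideal.map_map, show e'.toRingHom.comp (algebraMap C (AdicCompletion J C)) =
        (algebraMap D (AdicCompletion (J.map (algebraMap C D)) D)).comp (algebraMap C D) from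
        RingHom.ext heC, ← Ideal.map_map] at h2
      simpa only [RingEquiv.toRingHom_eq_coe, RingEquiv.coe_toRingHom, e'.apply_symm_apply] using h2
    -- the point modulo `J`
    let JH := J.map (algebraMap C H)
    let r : C ⧸ J →+* H ⧸ JH := Ideal.quotientMap JH (algebraMap C H) Ideal.le_comap_map
    let σ₀ : D →+* H ⧸ JH := r.comp ((Ideal.Quotient.factor (le_of_eq (pow_one J))).comp
      ((AdicCompletion.evalₐ J 1).toRingHom.comp
        (e'.symm.toRingHom.comp (algebraMap D (AdicCompletion (J.map (algebraMap C D)) D)))))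
    let σ : D →ₐ[C] H ⧸ JH := { σ₀ with
      commutes' := fun c => by
        show r (Ideal.Quotient.factor (le_of_eq (pow_one J)) (AdicCompletion.evalₐ J 1 (e'.symm (algebraMap D _ (algebraMap C D c))))) = _
        rw [← heC, e'.symm_apply_apply, FSchLib.evalₐ_algebraMap, Ideal.Quotient.factor_mk]
        rfl }
    have hσJ : ∀ x ∈ J.map (algebraMap C D), σ x = 0 := by
      intro x hx
      have h1 : (J.map (algebraMap C D)).map σ.toRingHom = ⊥ := by
        rw [Ideal.map_map, show σ.toRingHom.comp (algebraMap C D) =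
          (Ideal.Quotient.mk JH).comp (algebraMap C H) from σ.comp_algebraMap, ← Ideal.map_map,
          Ideal.map_quotient_self]
      exact Ideal.mem_bot.1 (h1 ▸ Ideal.mem_map_of_mem σ.toRingHom hx)
    have hσg : IsUnit (σ g) := by
      have h1 := hσJ _ hg
      rw [map_sub, map_one, sub_eq_zero] at h1
      exact h1 ▸ isUnit_one
    haveI := hH.1
    obtain ⟨τ, -, -⟩ := HenselLib.existsUnique_lift JH
      (IsLocalization.Away.liftAlgHom g hσg : Localization.Away g →ₐ[C] H ⧸ JH)
    let τD : D →ₐ[C] H := τ.comp (IsScalarTower.toAlgHom C D (Localization.Away g))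
    refine ⟨τD.comp (IsScalarTower.toAlgHom C B D), fun n b => ?_⟩
    obtain ⟨c, hc⟩ := Ideal.Quotient.mk_surjective (AdicCompletion.evalₐ J n (φ b))
    refine ⟨c, ?_, hc.symm⟩
    have h1 := hcong n (algebraMap B D b) c (by rw [← he', e'.symm_apply_apply, hc])
    have h2 := Ideal.mem_map_of_mem τD.toRingHom h1
    rw [Ideal.map_pow, Ideal.map_map] at h2
    change τD (algebraMap B D b - algebraMap C D c) ∈ _ at h2
    rw [map_sub, AlgHom.commutes] at h2
    rwa [show τD.toRingHom.comp (algebraMap C D) = algebraMap C H from τD.comp_algebraMap] at h2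
  obtain ⟨ψ, hψ⟩ : ∃ ψ : B →ₐ[C] H, ∀ (n : ℕ) (b : B), ∃ c : C,
      ψ b - algebraMap C H c ∈ (J.map (algebraMap C H)) ^ n ∧
        AdicCompletion.evalₐ J n (φ b) = Ideal.Quotient.mk (J ^ n) c := by
    revert e
    rw [hID]
    intro e he
    exact key e fun b => by rw [← he b, hπ]; rfl
  refine ⟨ψ, hψ, fun ψ' hψ' => AlgHom.ext fun b => ?_⟩
  obtain ⟨eH⟩ := hH.equiv_pairH
  haveI := HenselLib.isNoetherianRing_pairH (R := C) J
  haveI : IsNoetherianRing H := isNoetherianRing_of_ringEquiv _ eH.toRingEquiv
  haveI := IsHausdorff.of_le_jacobson (J.map (algebraMap C H)) H hH.1.jac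
  refine sub_eq_zero.1 (IsHausdorff.haus ‹IsHausdorff (J.map (algebraMap C H)) H› _ fun n => ?_)
  rw [SModEq.zero, smul_eq_mul, Ideal.mul_top]
  obtain ⟨c, hc, hc'⟩ := hψ n b
  obtain ⟨c₂, hc₂, hc₂'⟩ := hψ' n b
  have h1 : algebraMap C H (c₂ - c) ∈ (J.map (algebraMap C H)) ^ n := by
    rw [← Ideal.map_pow]
    exact Ideal.mem_map_of_mem _ (Ideal.Quotient.eq.1 (hc₂'.symm.trans hc'))
  rw [map_sub] at h1
  convert add_mem (sub_mem hc₂ hc) h1 using 1
  ring

end Groth.Agent.CAlgH.AlgebraizeEtale
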