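import Groth.Agent.CAlgH.AlgebraizeGradedCore
import Mathlib.Algebra.Category.CommAlgCat.Basic

/-! Algebraization of formal objects of finitary functors with control of the associated graded ring. -/

universe u
set_option autoImplicit false
set_option linter.style.haveILetI false
open IsLocalRing Function CategoryTheory

namespace Groth.Agent.CAlgH.AlgebraizeGraded

variable {k : Type u} [Field k]

theorem exists_fp_element (F : CommAlgCat.{u} k ⥤ Type u)
    (hF : ∀ (J : Type u) [SmallCategory J] [IsFiltered J], Limits.PreservesColimitsOfShape J F)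
    (R : Type u) [CommRing R] [Algebra k R] (ξ : F.obj (CommAlgCat.of k R)) :
    ∃ (B : Type u) (_ : CommRing B) (_ : Algebra k B) (_ : Algebra.FinitePresentation k B)
      (g : B →ₐ[k] R) (x : F.obj (CommAlgCat.of k B)), F.map (CommAlgCat.ofHom g) x = ξ := by
  let E := commAlgCatEquivUnder (CommRingCat.of k)
  let F' : Under (CommRingCat.of k) ⥤ Type u := E.inverse ⋙ (F : CommAlgCat.{u} (CommRingCat.of k) ⥤ Type u)
  have hF' : ∀ (J : Type u) [SmallCategory J] [IsFiltered J], Limits.PreservesColimitsOfShape J F' :=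
    fun J _ _ => by
      haveI := hF J
      infer_instance
  let i : CommAlgCat.of k R ⟶ E.inverse.obj (Under.mk (CommRingCat.ofHom (algebraMap k R))) :=
    E.unitIso.hom.app (CommAlgCat.of k R)
  obtain ⟨j, x, hx⟩ := HenselLib.FPColim.exists_descend F' hF' R (F.map i ξ)
  haveI : Algebra.FinitePresentation k j.R := Algebra.FinitePresentation.quotient j.fg
  let iB : E.inverse.obj ((HenselLib.FPColim.diagram k R).obj j) ⟶ CommAlgCat.of k j.R :=
    E.unitIso.inv.app (CommAlgCat.of k j.R)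
  let i' : E.inverse.obj (Under.mk (CommRingCat.ofHom (algebraMap k R))) ⟶ CommAlgCat.of k R :=
    E.unitIso.inv.app (CommAlgCat.of k R)
  refine ⟨j.R, inferInstance, inferInstance, inferInstance, j.ev, F.map iB x, ?_⟩
  have h1 : iB ≫ CommAlgCat.ofHom j.ev = E.inverse.map ((HenselLib.FPColim.cocone k R).ι.app j) ≫ i' :=
    (E.unitIso.inv.naturality (CommAlgCat.ofHom j.ev)).symm
  have h2 : i ≫ i' = 𝟙 (CommAlgCat.of k R) := E.unitIso.hom_inv_id_app _
  rw [← Functor.map_comp_apply, h1, Functor.map_comp_apply]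
  have h3 : F.map (E.inverse.map ((HenselLib.FPColim.cocone k R).ι.app j)) x = F.map i ξ := hx
  exact (congrArg (F.map i') h3).trans (by rw [← Functor.map_comp_apply, h2, Functor.map_id_apply])

theorem exists_cover (R : Type u) [CommRing R] [Algebra k R] [IsLocalRing R] [IsNoetherianRing R]
    [IsAdicComplete (maximalIdeal R) R]
    (hres : Surjective (fun c : k => IsLocalRing.residue R (algebraMap k R c)))
    (B : Type u) [CommRing B] [Algebra k B] [Algebra.FinitePresentation k B] (g : B →ₐ[k] R) (N : ℕ) :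
    ∃ (A : Type u) (_ : CommRing A) (_ : Algebra k A) (_ : Algebra.FiniteType k A)
      (m : Ideal A) (_ : m.IsMaximal)
      (_ : Surjective (fun c : k => Ideal.Quotient.mk m (algebraMap k A c)))
      (γ : B →ₐ[k] A) (φ : (R ⧸ maximalIdeal R ^ (N + 1)) ≃ₐ[k] (A ⧸ m ^ (N + 1))),
      (∀ b, φ (Ideal.Quotient.mk _ (g b)) = Ideal.Quotient.mk _ (γ b)) ∧
      (∀ n, Module.Finite k (A ⧸ m ^ n) ∧ Module.Finite k (R ⧸ maximalIdeal R ^ n) ∧
        Module.finrank k (R ⧸ maximalIdeal R ^ n) = Module.finrank k (A ⧸ m ^ n)) ∧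
      ∃ e : AssocGr.GrRing (FiltBl.IdealFiltration.adic (maximalIdeal R)) ≃+*
          AssocGr.GrRing (FiltBl.IdealFiltration.adic m),
        (∀ (n : ℕ) (x : AssocGr.GrRing (FiltBl.IdealFiltration.adic (maximalIdeal R))),
            x ∈ AssocGr.gr (FiltBl.IdealFiltration.adic (maximalIdeal R)) n →
              e x ∈ AssocGr.gr (FiltBl.IdealFiltration.adic m) n) ∧
        (∀ c : k, e (algebraMap R _ (algebraMap k R c)) = algebraMap A _ (algebraMap k A c)) := by
  classical
  obtain ⟨r, x, hx⟩ := Submodule.fg_iff_exists_fin_generating_family.1 (IsNoetherian.noetherian (maximalIdeal R))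
  let P := MvPolynomial (Fin r) k
  let ev0 : P →ₐ[k] k := MvPolynomial.aeval (0 : Fin r → k)
  have hev0 : Surjective ev0 := fun c => ⟨algebraMap k P c, ev0.commutes c⟩
  let m₀ : Ideal P := RingHom.ker ev0
  haveI : m₀.IsMaximal := RingHom.ker_isMaximal_of_surjective _ hev0
  let T := AdicCompletion m₀ P
  haveI : IsNoetherianRing T := Matlis6.isNoetherianRing_adicCompletion _
  obtain ⟨hloc, hcomp, hmT, -⟩ := Approximation.exists_local_data m₀
  haveI := hloc
  haveI := hcomp
  have hfg := m₀.fg_of_isNoetherianRing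
  have hdense : ∀ (n : ℕ) (y : T), ∃ p : P, y - algebraMap P T p ∈ maximalIdeal T ^ n := fun n y => by
    obtain ⟨p, hp⟩ := Ideal.Quotient.mk_surjective (AdicCompletion.evalₐ m₀ n y)
    refine ⟨p, ?_⟩
    rw [hmT, ← Ideal.map_pow]
    refine Approximation.mem_map_pow hfg ?_
    rw [map_sub, AlgHom.commutes, sub_eq_zero]
    exact hp.symm
  have hcontract : ∀ (n : ℕ) (p : P), algebraMap P T p ∈ maximalIdeal T ^ n → p ∈ m₀ ^ n := fun n p hp => by
    rw [hmT, ← Ideal.map_pow] at hp
    have := Approximation.evalₐ_eq_zero hp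
    rw [AlgHom.commutes] at this
    exact Ideal.Quotient.eq_zero_iff_mem.1 this
  have hres₀ : ∀ p : P, ∃ c : k, p - algebraMap k P c ∈ m₀ := fun p => ⟨ev0 p, by
    rw [RingHom.mem_ker, map_sub, AlgHom.commutes]
    simp⟩
  have hreg : CAlg.IsRegularHom P T :=
    isRegularHom_adicCompletion_of_isGRing P (isGRing_of_finiteType k (Approximation.isGRing_field k) P) m₀
  let a : P →ₐ[k] R := MvPolynomial.aeval x
  have hxm : ∀ i, x i ∈ maximalIdeal R := fun i => hx ▸ Submodule.subset_span ⟨i, rfl⟩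
  have ha : m₀.map a.toRingHom = maximalIdeal R := by
    refine le_antisymm (Ideal.map_le_iff_le_comap.2 fun p hp => ?_) ?_
    · have h1 : (Ideal.Quotient.mkₐ k (maximalIdeal R)).comp a = (Algebra.ofId k _).comp ev0 :=
        MvPolynomial.algHom_ext fun i => by
          simp [a, ev0, Ideal.Quotient.eq_zero_iff_mem.2 (hxm i)]
      have h2 := AlgHom.congr_fun h1 p
      rw [AlgHom.comp_apply, AlgHom.comp_apply, show ev0 p = 0 from hp, map_zero] at h2
      exact Ideal.mem_comap.2 ((Ideal.Quotient.eq_zero_iff_mem (I := maximalIdeal R)).1 h2)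
    · rw [← hx, Submodule.span_le]
      rintro _ ⟨i, rfl⟩
      have : (MvPolynomial.X i : P) ∈ m₀ := (MvPolynomial.aeval_X (0 : Fin r → k) i : _)
      have h3 := Ideal.mem_map_of_mem a.toRingHom this
      rwa [show a.toRingHom (MvPolynomial.X i) = x i from MvPolynomial.aeval_X x i] at h3
  have hapow : ∀ n, (m₀ ^ n).map a.toRingHom = maximalIdeal R ^ n := fun n => by rw [Ideal.map_pow, ha]
  let qm : ∀ n, P ⧸ m₀ ^ n →+* R ⧸ maximalIdeal R ^ n := fun n =>
    Ideal.quotientMap _ a.toRingHom (Ideal.map_le_iff_le_comap.1 (hapow n).le)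
  let f : ∀ n, T →+* R ⧸ maximalIdeal R ^ n := fun n => (qm n).comp (AdicCompletion.evalₐ m₀ n).toRingHom
  have hfalg : ∀ n p, f n (algebraMap P T p) = Ideal.Quotient.mk _ (a p) := fun n p => by
    show qm n (AdicCompletion.evalₐ m₀ n (algebraMap P T p)) = _
    rw [AlgHom.commutes]
    rfl
  have hfker : ∀ n z, z ∈ maximalIdeal T ^ n → f n z = 0 := fun n z hz => by
    rw [hmT, ← Ideal.map_pow] at hz
    show qm n (AdicCompletion.evalₐ m₀ n z) = _
    rw [Approximation.evalₐ_eq_zero hz, map_zero]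
  have hf : ∀ {m n : ℕ} (hle : m ≤ n), (Ideal.Quotient.factorPow (maximalIdeal R) hle).comp (f n) = f m := by
    intro m n hle
    ext t
    obtain ⟨p, hp⟩ := hdense n t
    rw [← sub_add_cancel t (algebraMap P T p), RingHom.comp_apply, map_add, map_add, map_add,
      hfker n _ hp, hfker m _ (Ideal.pow_le_pow_right hle hp), map_zero, hfalg, hfalg]
    rfl
  let π₀ : T →+* R := IsAdicComplete.liftRingHom (maximalIdeal R) f hf
  have hπmk : ∀ n t, Ideal.Quotient.mk (maximalIdeal R ^ n) (π₀ t) = f n t := fun n t =>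
    IsAdicComplete.mk_liftRingHom _ _ _ n t
  have hsep : ∀ z : R, (∀ n, z ∈ maximalIdeal R ^ n) → z = 0 := fun z hz =>
    IsHausdorff.haus (inferInstance : IsHausdorff (maximalIdeal R) R) z fun n => by
      rw [SModEq.zero, smul_eq_mul, Ideal.mul_top]
      exact hz n
  have hπalg : ∀ p, π₀ (algebraMap P T p) = a p := fun p => by
    rw [← sub_eq_zero]
    refine hsep _ fun n => ?_
    rw [← Ideal.Quotient.mk_eq_mk_iff_sub_mem, hπmk, hfalg]
  let π : T →ₐ[k] R :=
    { π₀ with
      commutes' := fun c => by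
        show π₀ (algebraMap k T c) = _
        rw [IsScalarTower.algebraMap_apply k P T, hπalg, AlgHom.commutes] }
  have hπ : Surjective π := by
    intro y
    have hstep : ∀ n (p : P), y - a p ∈ maximalIdeal R ^ n →
        ∃ p', p' - p ∈ m₀ ^ n ∧ y - a p' ∈ maximalIdeal R ^ (n + 1) := fun n p hp => by
      rw [← hapow n] at hp
      obtain ⟨q, hq, hq'⟩ := AlgebraizeGradedEtale.exists_sub_mem a.toRingHom m₀ (maximalIdeal R) ha.le (fun b => by
        obtain ⟨c, hc⟩ := hres (IsLocalRing.residue R b)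
        refine ⟨algebraMap k P c, ?_⟩
        rw [show a.toRingHom (algebraMap k P c) = algebraMap k R c from a.commutes c]
        exact (Ideal.Quotient.mk_eq_mk_iff_sub_mem _ _).1 hc.symm) n hp
      refine ⟨p + q, by rwa [add_sub_cancel_left], ?_⟩
      rw [map_add, ← sub_sub]
      exact hq'
    choose nxt hn1 hn2 using hstep
    let seq : (n : ℕ) → {p : P // y - a p ∈ maximalIdeal R ^ n} := fun n =>
      Nat.rec ⟨0, by rw [pow_zero, Ideal.one_eq_top]; trivial⟩ (fun n p => ⟨nxt n p.1 p.2, hn2 n p.1 p.2⟩) n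
    let s : AdicCompletion.AdicCauchySequence m₀ P := AdicCompletion.AdicCauchySequence.mk m₀ P (fun n => (seq n).1)
      fun n => by
        rw [SModEq.sub_mem, smul_eq_mul, Ideal.mul_top, ← neg_sub]
        exact neg_mem (hn1 n (seq n).1 (seq n).2)
    refine ⟨AdicCompletion.mk m₀ P s, ?_⟩
    rw [← sub_eq_zero]
    refine hsep _ fun n => ?_
    rw [← Ideal.Quotient.mk_eq_mk_iff_sub_mem]
    refine (hπmk n _).trans ?_
    show qm n (AdicCompletion.evalₐ m₀ n (AdicCompletion.mk m₀ P s)) = _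
    rw [AdicCompletion.evalₐ_mk]
    show Ideal.Quotient.mk _ (a (seq n).1) = Ideal.Quotient.mk _ y
    exact ((Ideal.Quotient.mk_eq_mk_iff_sub_mem _ _).2 (seq n).2).symm
  exact AlgebraizeGradedCore.exists_algebraization hreg m₀ hmT hdense hcontract hres₀ π hπ B g N

theorem exists_algebraization (F : CommAlgCat.{u} k ⥤ Type u)
    (hF : ∀ (J : Type u) [SmallCategory J] [IsFiltered J], Limits.PreservesColimitsOfShape J F)
    (R : Type u) [CommRing R] [Algebra k R] [IsLocalRing R] [IsNoetherianRing R]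
    [IsAdicComplete (maximalIdeal R) R]
    (hres : Surjective (fun c : k => IsLocalRing.residue R (algebraMap k R c)))
    (ξ : F.obj (CommAlgCat.of k R)) (N : ℕ) :
    ∃ (A : Type u) (_ : CommRing A) (_ : Algebra k A) (_ : Algebra.FiniteType k A)
      (m : Ideal A) (_ : m.IsMaximal)
      (_ : Surjective (fun c : k => Ideal.Quotient.mk m (algebraMap k A c)))
      (η : F.obj (CommAlgCat.of k A))
      (φ : (R ⧸ maximalIdeal R ^ (N + 1)) ≃ₐ[k] (A ⧸ m ^ (N + 1))),
      F.map (CommAlgCat.ofHom (φ.toAlgHom.comp (Ideal.Quotient.mkₐ k (maximalIdeal R ^ (N + 1))))) ξ =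
        F.map (CommAlgCat.ofHom (Ideal.Quotient.mkₐ k (m ^ (N + 1)))) η ∧
      (∀ n, Module.Finite k (A ⧸ m ^ n) ∧ Module.Finite k (R ⧸ maximalIdeal R ^ n) ∧
        Module.finrank k (R ⧸ maximalIdeal R ^ n) = Module.finrank k (A ⧸ m ^ n)) ∧
      ∃ e : AssocGr.GrRing (FiltBl.IdealFiltration.adic (maximalIdeal R)) ≃+*
          AssocGr.GrRing (FiltBl.IdealFiltration.adic m),
        (∀ (n : ℕ) (x : AssocGr.GrRing (FiltBl.IdealFiltration.adic (maximalIdeal R))),
            x ∈ AssocGr.gr (FiltBl.IdealFiltration.adic (maximalIdeal R)) n →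
              e x ∈ AssocGr.gr (FiltBl.IdealFiltration.adic m) n) ∧
        (∀ c : k, e (algebraMap R _ (algebraMap k R c)) = algebraMap A _ (algebraMap k A c)) := by
  obtain ⟨B, _, _, _, g, x, rfl⟩ := exists_fp_element F hF R ξ
  obtain ⟨A, _, _, hA, m, hm, hkm, γ, φ, hφ, hfin, he⟩ := exists_cover R hres B g N
  refine ⟨A, inferInstance, inferInstance, hA, m, hm, hkm, F.map (CommAlgCat.ofHom γ) x, φ, ?_, hfin, he⟩
  rw [← Functor.map_comp_apply, ← Functor.map_comp_apply]
  congr 3
  exact CommAlgCat.hom_ext (AlgHom.ext fun b => hφ b)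

end Groth.Agent.CAlgH.AlgebraizeGraded
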