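import Mathlib

/-! Étale algebras with trivial residue extension; graded surjectivity; finite quotients. -/

universe u
set_option autoImplicit false

namespace Groth.Agent.CAlgH.AlgebraizeGradedEtale

/-- If `P → B` is onto modulo `J`, the extension of `Q ^ n` is the image of `Q ^ n` modulo `J ^ (n + 1)`. -/
theorem exists_sub_mem {P B : Type u} [CommRing P] [CommRing B] (h : P →+* B) (Q : Ideal P) (J : Ideal B)
    (hQ : Q.map h ≤ J) (hres : ∀ b : B, ∃ p, b - h p ∈ J) (n : ℕ) {y : B} (hy : y ∈ (Q ^ n).map h) :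
    ∃ x ∈ Q ^ n, y - h x ∈ J ^ (n + 1) := by
  unfold Ideal.map at hy
  induction hy using Submodule.span_induction with
  | mem y hy =>
    obtain ⟨x, hx, rfl⟩ := hy
    exact ⟨x, hx, by rw [sub_self]; exact zero_mem _⟩
  | zero => exact ⟨0, zero_mem _, by rw [map_zero, sub_zero]; exact zero_mem _⟩
  | add y z _ _ hy hz =>
    obtain ⟨x, hx, hxy⟩ := hy
    obtain ⟨w, hw, hwz⟩ := hz
    exact ⟨x + w, add_mem hx hw, by rw [map_add, add_sub_add_comm]; exact add_mem hxy hwz⟩
  | smul b y _ hy =>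
    obtain ⟨x, hx, hxy⟩ := hy
    obtain ⟨p, hp⟩ := hres b
    refine ⟨p * x, Ideal.mul_mem_left _ p hx, ?_⟩
    rw [smul_eq_mul, map_mul, show b * y - h p * h x = b * (y - h x) + (b - h p) * h x by ring]
    refine add_mem (Ideal.mul_mem_left _ b hxy) ?_
    rw [pow_succ']
    refine Submodule.mul_mem_mul hp (Ideal.pow_right_mono hQ n ?_)
    rw [← Ideal.map_pow]
    exact Ideal.mem_map_of_mem h hx

theorem finite_quotient_pow {k A : Type u} [Field k] [CommRing A] [Algebra k A] [Algebra.FiniteType k A]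
    (m : Ideal A) [m.IsMaximal] (n : ℕ) : Module.Finite k (A ⧸ m ^ n) := by
  haveI : IsNoetherianRing A := Algebra.FiniteType.isNoetherianRing k A
  haveI : Algebra.FiniteType k (A ⧸ m ^ n) :=
    Algebra.FiniteType.of_surjective (Ideal.Quotient.mkₐ k (m ^ n)) Ideal.Quotient.mk_surjective
  haveI : IsArtinianRing (A ⧸ m ^ n) := by
    rw [isArtinianRing_iff_isNoetherianRing_krullDimLE_zero]
    refine ⟨inferInstance, Ring.KrullDimLE.mk₀ fun P hP => ?_⟩
    have hle : m ≤ P.comap (Ideal.Quotient.mk (m ^ n)) := by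
      haveI := hP
      refine Ideal.IsPrime.le_of_pow_le (n := n) fun x hx => ?_
      rw [Ideal.mem_comap, Ideal.Quotient.eq_zero_iff_mem.2 hx]
      exact zero_mem _
    have heq := (‹m.IsMaximal›.eq_of_le (Ideal.IsPrime.comap _).ne_top hle)
    rw [← Ideal.map_comap_of_surjective (Ideal.Quotient.mk (m ^ n)) Ideal.Quotient.mk_surjective P, ← heq]
    exact (Ideal.map_eq_top_or_isMaximal_of_surjective _ Ideal.Quotient.mk_surjective ‹m.IsMaximal›).resolve_left
      fun h => hP.ne_top (by rw [← Ideal.map_comap_of_surjective (Ideal.Quotient.mk (m ^ n)) Ideal.Quotient.mk_surjective P, ← heq, h])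
  exact (Module.finite_iff_isArtinianRing k _).2 inferInstance

theorem pow_le_sup {A : Type u} [CommRing A] {a b c : Ideal A} (h : c ≤ a ⊔ b) (j : ℕ) : c ^ j ≤ a ^ j ⊔ b := by
  induction j with
  | zero => simp
  | succ j ih =>
    rw [pow_succ, pow_succ]
    refine (Ideal.mul_mono ih h).trans ?_
    rw [Ideal.sup_mul, Ideal.mul_sup]
    refine sup_le (sup_le le_sup_left ?_) ?_
    · exact le_trans (Ideal.mul_le_right : a ^ j * b ≤ b) le_sup_right
    · exact le_trans (Ideal.mul_le_left : b * (a ⊔ b) ≤ b) le_sup_right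

/-- For `P → P'` unramified at the maximal ideal `Q` over `m₀` with trivial residue extension,
`P` is onto `P' / Q ^ n`. -/
theorem exists_eq_mod_pow {P P' : Type u} [CommRing P] [CommRing P'] [Algebra P P']
    [Algebra.EssFiniteType P P'] [Algebra.FormallyUnramified P P'] (m₀ : Ideal P) [m₀.IsPrime] (Q : Ideal P')
    [Q.IsMaximal] [Q.LiesOver m₀] (hres : ∀ x, ∃ p, x - algebraMap P P' p ∈ Q) :
    ∀ n x, ∃ p, x - algebraMap P P' p ∈ Q ^ n := by
  have hle : ∀ n, Q ≤ m₀.map (algebraMap P P') ⊔ Q ^ n := by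
    intro n x hx
    letI := Localization.AtPrime.algebraOfLiesOver m₀ Q
    have hmax := ((Algebra.isUnramifiedAt_iff_map_eq P m₀ Q).1 inferInstance).2
    have h1 : algebraMap P' (Localization.AtPrime Q) x ∈
        (m₀.map (algebraMap P P')).map (algebraMap P' (Localization.AtPrime Q)) := by
      rw [Ideal.map_map, ← IsScalarTower.algebraMap_eq, hmax, ← Localization.AtPrime.map_eq_maximalIdeal]
      exact Ideal.mem_map_of_mem _ hx
    obtain ⟨s, hs, hsx⟩ := (IsLocalization.algebraMap_mem_map_algebraMap_iff Q.primeCompl _ _ x).1 h1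
    have hsQ : Ideal.span {s} ⊔ Q = ⊤ := by
      refine (inferInstance : Q.IsMaximal).out.2 _ (lt_of_le_of_ne le_sup_right fun h => hs ?_)
      exact h.symm ▸ Ideal.mem_sup_left (Ideal.mem_span_singleton_self s)
    have htop : Ideal.span {s} ⊔ Q ^ n = ⊤ := Ideal.sup_pow_eq_top hsQ
    obtain ⟨a, ha, b, hb, hab⟩ := Submodule.mem_sup.1 (htop ▸ Submodule.mem_top : (1 : P') ∈ Ideal.span {s} ⊔ Q ^ n)
    obtain ⟨t, rfl⟩ := Ideal.mem_span_singleton'.1 ha
    rw [show x = t * (s * x) + x * b by linear_combination (-x) * hab]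
    exact Ideal.add_mem _ (Ideal.mem_sup_left (Ideal.mul_mem_left _ _ hsx))
      (Ideal.mem_sup_right (Ideal.mul_mem_left _ _ hb))
  intro n
  induction n with
  | zero => exact fun x => ⟨0, by simp⟩
  | succ n ih =>
    intro x
    obtain ⟨p, hp⟩ := ih x
    have hpow := fun j => pow_le_sup (hle (n + 1)) j
    obtain ⟨y, hy, z, hz, hyz⟩ := Submodule.mem_sup.1 (hpow n hp)
    rw [← Ideal.map_pow] at hy
    have hmQ : m₀.map (algebraMap P P') ≤ Q :=
      Ideal.map_le_iff_le_comap.2 (le_of_eq ‹Q.LiesOver m₀›.over)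
    obtain ⟨q, -, hq⟩ := exists_sub_mem (algebraMap P P') m₀ Q hmQ hres n hy
    refine ⟨p + q, ?_⟩
    rw [map_add, ← sub_sub, ← hyz, add_sub_right_comm]
    exact add_mem hq hz

end Groth.Agent.CAlgH.AlgebraizeGradedEtale
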