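import Mathlib

/-! Perturbing an exact sequence of equations does not change the initial ideal. -/

universe u
set_option autoImplicit false
open Function

namespace Groth.Agent.CAlgH.GrApproxEquations

variable {T : Type u} [CommRing T] (m : Ideal T)

theorem mem_smul_top_iff {ι : Type} [Fintype ι] [DecidableEq ι] (I : Ideal T) (a : ι → T) :
    a ∈ (I • ⊤ : Submodule T (ι → T)) ↔ ∀ i, a i ∈ I := by
  constructor
  · intro h i
    refine Submodule.smul_induction_on h (fun r hr x _ => ?_) (fun x y hx hy => add_mem hx hy)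
    exact Ideal.mul_mem_right _ _ hr
  · intro h
    rw [pi_eq_sum_univ a]
    exact Submodule.sum_mem _ fun i _ => Submodule.smul_mem_smul (h i) Submodule.mem_top

/-- Artin–Rees for a linear map of free modules. -/
theorem exists_artinRees [IsNoetherianRing T] {p q : ℕ} (L : (Fin p → T) →ₗ[T] (Fin q → T)) :
    ∃ c : ℕ, ∀ s a, (∀ i, L a i ∈ m ^ s) → ∃ a', (∀ j, a' j ∈ m ^ (s - c)) ∧ L a' = L a := by
  obtain ⟨c, hc⟩ := Ideal.exists_pow_inf_eq_pow_smul m (LinearMap.range L)
  refine ⟨c, fun s a ha => ?_⟩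
  rcases Nat.lt_or_ge s c with hlt | hge
  · exact ⟨a, fun j => by rw [Nat.sub_eq_zero_of_le hlt.le, pow_zero, Ideal.one_eq_top]; trivial, rfl⟩
  have h1 : L a ∈ (m ^ (s - c) • LinearMap.range L : Submodule T (Fin q → T)) := by
    have h2 : L a ∈ (m ^ (s - c) • (m ^ c • ⊤ ⊓ LinearMap.range L) : Submodule T (Fin q → T)) := by
      rw [← hc s hge]
      exact ⟨(mem_smul_top_iff _ _).2 ha, ⟨a, rfl⟩⟩
    exact Submodule.smul_mono le_rfl inf_le_right h2
  rw [LinearMap.range_eq_map, ← Submodule.map_smul''] at h1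
  obtain ⟨a', ha', he⟩ := h1
  exact ⟨a', (mem_smul_top_iff _ _).1 ha', he⟩

theorem map_sub_mem {p q : ℕ} (L L' : (Fin p → T) →ₗ[T] (Fin q → T)) (M : ℕ)
    (h : ∀ j i, L (Pi.single j 1) i - L' (Pi.single j 1) i ∈ m ^ M) (l : ℕ) (a : Fin p → T)
    (ha : ∀ j, a j ∈ m ^ l) (i : Fin q) : L a i - L' a i ∈ m ^ (l + M) := by
  have h1 : L a i - L' a i = ∑ j, a j * (L (Pi.single j 1) i - L' (Pi.single j 1) i) := by
    conv_lhs => rw [pi_eq_sum_univ' a]
    simp [map_sum, Finset.sum_apply, mul_sub, Finset.sum_sub_distrib]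
  rw [h1, pow_add]
  exact Ideal.sum_mem _ fun j _ => Submodule.mul_mem_mul (ha j) (h j i)

/-- If `(G, F)` is exact and `(G', F')` is a complex congruent to it to high order, then `F` and `F'`
have the same initial forms. -/
theorem exists_bound [IsNoetherianRing T] {p q : ℕ} (G : (Fin p → T) →ₗ[T] (Fin q → T))
    (F : (Fin q → T) →ₗ[T] (Fin 1 → T)) (hex : Exact G F) :
    ∃ M₀ : ℕ, ∀ (G' : (Fin p → T) →ₗ[T] (Fin q → T)) (F' : (Fin q → T) →ₗ[T] (Fin 1 → T)) (M : ℕ),
      M₀ ≤ M → (∀ j i, G (Pi.single j 1) i - G' (Pi.single j 1) i ∈ m ^ M) →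
      (∀ j i, F (Pi.single j 1) i - F' (Pi.single j 1) i ∈ m ^ M) → F'.comp G' = 0 →
      ∀ (n : ℕ) (y : T), y ∈ m ^ n →
        ((∃ a, y - F a 0 ∈ m ^ (n + 1)) ↔ ∃ a, y - F' a 0 ∈ m ^ (n + 1)) := by
  obtain ⟨c, hc⟩ := exists_artinRees m F
  obtain ⟨d, hd⟩ := exists_artinRees m G
  refine ⟨c + d + 1, fun G' F' M hM hG hF hcomp n y hy => ⟨?_, ?_⟩⟩
  · rintro ⟨a, ha⟩
    have h1 : F a 0 ∈ m ^ n := by
      have := sub_mem hy (Ideal.pow_le_pow_right (Nat.le_succ n) ha)
      rwa [sub_sub_cancel] at this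
    obtain ⟨a', ha', he⟩ := hc n a (fun i => by rwa [Subsingleton.elim i 0])
    refine ⟨a', ?_⟩
    rw [← sub_add_sub_cancel y (F a 0) (F' a' 0)]
    refine add_mem ha ?_
    rw [← congrFun he 0]
    exact Ideal.pow_le_pow_right (by omega) (map_sub_mem m F F' M hF (n - c) a' ha' 0)
  · suffices ∀ (t l : ℕ) (a : Fin q → T), (∀ j, a j ∈ m ^ l) → n + 1 ≤ l + M + t →
        y - F' a 0 ∈ m ^ (n + 1) → ∃ a, y - F a 0 ∈ m ^ (n + 1) by
      rintro ⟨a, ha⟩
      exact this (n + 1) 0 a (fun j => by rw [pow_zero, Ideal.one_eq_top]; trivial) (by omega) ha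
    intro t
    induction t with
    | zero =>
      intro l a hal hle ha
      refine ⟨a, ?_⟩
      rw [← sub_add_sub_cancel y (F' a 0) (F a 0)]
      refine add_mem ha ?_
      rw [← neg_sub]
      exact neg_mem (Ideal.pow_le_pow_right (by omega) (map_sub_mem m F F' M hF l a hal 0))
    | succ t ih =>
      intro l a hal hle ha
      by_cases hbig : n + 1 ≤ l + M + t
      · exact ih l a hal hbig ha
      have h1 : F' a 0 ∈ m ^ n := by
        have := sub_mem hy (Ideal.pow_le_pow_right (Nat.le_succ n) ha)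
        rwa [sub_sub_cancel] at this
      have h2 : F a 0 ∈ m ^ (l + M) := by
        rw [← sub_add_cancel (F a 0) (F' a 0)]
        exact add_mem (map_sub_mem m F F' M hF l a hal 0) (Ideal.pow_le_pow_right (by omega) h1)
      obtain ⟨a'', ha'', he⟩ := hc (l + M) a (fun i => by rwa [Subsingleton.elim i 0])
      have hker : F (a - a'') = 0 := by rw [map_sub, he, sub_self]
      obtain ⟨b, hb⟩ := (hex _).1 hker
      obtain ⟨b', hb', hbe⟩ := hd l b (fun i => by
        rw [hb]
        exact sub_mem (hal i) (Ideal.pow_le_pow_right (by omega) (ha'' i)))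
      refine ih (l + 1) (a'' + (G b' - G' b')) (fun j => ?_) (by omega) ?_
      · exact add_mem (Ideal.pow_le_pow_right (by omega) (ha'' j))
          (Ideal.pow_le_pow_right (by omega) (map_sub_mem m G G' M hG (l - d) b' hb' j))
      · have h3 : F' (a'' + (G b' - G' b')) = F' a := by
          rw [map_add, map_sub, show F' (G' b') = 0 from LinearMap.congr_fun hcomp b', sub_zero, hbe, hb,
            map_sub, add_sub_cancel]
        rw [h3]
        exact ha

end Groth.Agent.CAlgH.GrApproxEquations
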