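import Mathlib
import Groth.Prelude.Def_GrMap

/-! Two graded quotients of an associated graded ring with the same kernel are isomorphic. -/

universe u
set_option autoImplicit false

namespace Groth.Agent.CAlgH.GrRingCompare

open AssocGr Polynomial

variable {P B B' : Type u} [CommRing P] [CommRing B] [CommRing B'] {Q : Ideal P} {J : Ideal B} {J' : Ideal B'}

theorem map_surjective (h : P →+* B) (hQ : Q.map h ≤ J)
    (hs : ∀ n, ∀ y ∈ J ^ n, ∃ x ∈ Q ^ n, y - h x ∈ J ^ (n + 1)) :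
    Function.Surjective (map (IsFiltHom.adic hQ)) := by
  intro z
  obtain ⟨g, rfl⟩ := mkG_surjective _ z
  choose x hx hxy using hs
  let xs : ℕ → P := fun n => x n ((g : B[X]).coeff n) (g.2 n)
  have hxs : ∀ n, xs n ∈ Q ^ n := fun n => hx n _ _
  let fp : P[X] := ∑ n ∈ (g : B[X]).support, monomial n (xs n)
  have hcoeff : ∀ n, fp.coeff n = if n ∈ (g : B[X]).support then xs n else 0 := fun n => by
    simp [fp, finsetSum_coeff, coeff_monomial]
  have hfp : fp ∈ (FiltBl.IdealFiltration.adic Q).rees := fun n => by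
    show fp.coeff n ∈ Q ^ n
    rw [hcoeff]
    split_ifs
    · exact hxs n
    · exact zero_mem _
  refine ⟨mkG _ ⟨fp, hfp⟩, ?_⟩
  rw [map_mkG, ← sub_eq_zero, ← map_sub, mkG_eq_zero_iff]
  intro n
  rw [Subalgebra.coe_sub, coe_reesMap, coeff_sub, Polynomial.coeff_map]
  show h (fp.coeff n) - (g : B[X]).coeff n ∈ J ^ (n + 1)
  rw [hcoeff]
  split_ifs with hn
  · rw [← neg_sub]
    exact neg_mem (hxy n _ _)
  · rw [Polynomial.notMem_support_iff.1 hn, map_zero, sub_zero]
    exact zero_mem _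

theorem map_eq_zero_iff (h : P →+* B) (hQ : Q.map h ≤ J) (f : (FiltBl.IdealFiltration.adic Q).rees) :
    map (IsFiltHom.adic hQ) (mkG _ f) = 0 ↔ ∀ n, h ((f : P[X]).coeff n) ∈ J ^ (n + 1) := by
  rw [map_mkG, mkG_eq_zero_iff]
  refine forall_congr' fun n => ?_
  rw [coe_reesMap, Polynomial.coeff_map]
  rfl

theorem exists_iso (h : P →+* B) (hQ : Q.map h ≤ J) (h' : P →+* B') (hQ' : Q.map h' ≤ J')
    (hs : ∀ n, ∀ y ∈ J ^ n, ∃ x ∈ Q ^ n, y - h x ∈ J ^ (n + 1))
    (hs' : ∀ n, ∀ y ∈ J' ^ n, ∃ x ∈ Q ^ n, y - h' x ∈ J' ^ (n + 1))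
    (hker : ∀ n, ∀ x ∈ Q ^ n, h x ∈ J ^ (n + 1) ↔ h' x ∈ J' ^ (n + 1)) :
    ∃ e : GrRing (FiltBl.IdealFiltration.adic J) ≃+* GrRing (FiltBl.IdealFiltration.adic J'),
      (∀ (n : ℕ) (z : GrRing (FiltBl.IdealFiltration.adic J)),
        z ∈ gr (FiltBl.IdealFiltration.adic J) n → e z ∈ gr (FiltBl.IdealFiltration.adic J') n) ∧
      ∀ p : P, e (algebraMap B _ (h p)) = algebraMap B' _ (h' p) := by
  let θ := map (IsFiltHom.adic hQ)
  let θ' := map (IsFiltHom.adic hQ')
  have hθ : Function.Surjective θ := map_surjective h hQ hs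
  have hθ' : Function.Surjective θ' := map_surjective h' hQ' hs'
  have hk : RingHom.ker θ = RingHom.ker θ' := by
    ext z
    obtain ⟨f, rfl⟩ := mkG_surjective _ z
    rw [RingHom.mem_ker, RingHom.mem_ker, map_eq_zero_iff h hQ, map_eq_zero_iff h' hQ']
    exact forall_congr' fun n => hker n _ (f.2 n)
  let e := (RingHom.quotientKerEquivOfSurjective hθ).symm.trans
    ((Ideal.quotEquivOfEq hk).trans (RingHom.quotientKerEquivOfSurjective hθ'))
  have he : ∀ w, e (θ w) = θ' w := fun w => by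
    have h1 : (RingHom.quotientKerEquivOfSurjective hθ).symm (θ w) = Ideal.Quotient.mk _ w := by
      rw [RingEquiv.symm_apply_eq]
      rfl
    simp only [e, RingEquiv.trans_apply, h1, Ideal.quotEquivOfEq_mk]
    rfl
  refine ⟨e, fun n z hz => ?_, fun p => ?_⟩
  · obtain ⟨f, hf, rfl⟩ := (mem_gr_iff _ n z).1 hz
    choose x hx hxy using hs
    let g : B[X] := (f : B[X])
    have hmem : monomial n (x n (g.coeff n) (f.2 n)) ∈ (FiltBl.IdealFiltration.adic Q).rees := fun i => by
      show (monomial n (x n (g.coeff n) (f.2 n))).coeff i ∈ Q ^ i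
      rw [coeff_monomial]
      split_ifs with hi
      · subst hi; exact hx n _ _
      · exact zero_mem _
    have hdeg : (⟨_, hmem⟩ : (FiltBl.IdealFiltration.adic Q).rees) ∈ Rees.deg _ n := by
      rw [Rees.mem_deg_iff]
      intro i hi
      exact (coeff_monomial).trans (if_neg (Ne.symm hi))
    have heq : θ (mkG _ ⟨_, hmem⟩) = mkG _ f := by
      rw [map_mkG, ← sub_eq_zero, ← map_sub, mkG_eq_zero_iff]
      intro i
      rw [Subalgebra.coe_sub, coe_reesMap, coeff_sub, Polynomial.coeff_map]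
      show h ((monomial n (x n (g.coeff n) (f.2 n))).coeff i) - g.coeff i ∈ J ^ (i + 1)
      rw [coeff_monomial]
      split_ifs with hi
      · subst hi
        rw [← neg_sub]
        exact neg_mem (hxy n _ _)
      · rw [(Rees.mem_deg_iff _ _ _).1 hf i (Ne.symm hi), map_zero, sub_zero]
        exact zero_mem _
    rw [← heq, he]
    exact map_mem_gr _ (mkG_mem_gr _ hdeg)
  · have h1 := map_algebraMap (IsFiltHom.adic hQ) p
    have h2 := map_algebraMap (IsFiltHom.adic hQ') p
    rw [← h1, he, h2]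

end Groth.Agent.CAlgH.GrRingCompare
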