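import Mathlib

/-! Two algebras with the same graded quotient have quotients of the same dimension. -/

universe u
set_option autoImplicit false

namespace Groth.Agent.CAlgH.GradedFinrank

variable {k P B B' : Type u} [Field k] [CommRing P] [Algebra k P] [CommRing B] [Algebra k B]
  [CommRing B'] [Algebra k B']

theorem finrank_succ (h : P →ₐ[k] B) (Q : Ideal P) (J : Ideal B) (hQ : Q.map h.toRingHom ≤ J)
    (hs : ∀ n, ∀ y ∈ J ^ n, ∃ x ∈ Q ^ n, y - h x ∈ J ^ (n + 1)) (n : ℕ) [Module.Finite k (B ⧸ J ^ (n + 1))] :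
    Module.finrank k (B ⧸ J ^ (n + 1)) = Module.finrank k (B ⧸ J ^ n) +
      Module.finrank k (LinearMap.range (((Ideal.Quotient.mkₐ k (J ^ (n + 1))).comp h).toLinearMap.comp
        ((Q ^ n).restrictScalars k).subtype)) := by
  let f : (B ⧸ J ^ (n + 1)) →ₐ[k] B ⧸ J ^ n := Ideal.Quotient.factorₐ k (Ideal.pow_le_pow_right (Nat.le_succ n))
  rw [← f.toLinearMap.finrank_range_add_finrank_ker]
  have hf : Function.Surjective f := fun y => by
    obtain ⟨b, rfl⟩ := Ideal.Quotient.mk_surjective y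
    exact ⟨Ideal.Quotient.mk _ b, rfl⟩
  have hmem : ∀ x ∈ Q ^ n, h x ∈ J ^ n := fun x hx => by
    refine Ideal.pow_right_mono hQ n ?_
    rw [← Ideal.map_pow]
    exact Ideal.mem_map_of_mem _ hx
  have heq : LinearMap.ker f.toLinearMap = LinearMap.range
      (((Ideal.Quotient.mkₐ k (J ^ (n + 1))).comp h).toLinearMap.comp ((Q ^ n).restrictScalars k).subtype) := by
    ext z
    obtain ⟨b, rfl⟩ := Ideal.Quotient.mk_surjective z
    constructor
    · intro hb
      have hb' : b ∈ J ^ n := Ideal.Quotient.eq_zero_iff_mem.1 hb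
      obtain ⟨x, hx, hxb⟩ := hs n b hb'
      exact ⟨⟨x, hx⟩, (Ideal.Quotient.mk_eq_mk_iff_sub_mem _ _).2 (by rw [← neg_sub]; exact neg_mem hxb)⟩
    · rintro ⟨⟨x, hx⟩, hxb⟩
      rw [LinearMap.mem_ker, ← hxb]
      exact Ideal.Quotient.eq_zero_iff_mem.2 (hmem x hx)
  rw [heq, LinearMap.range_eq_top.2 hf, finrank_top]

theorem finrank_eq (h : P →ₐ[k] B) (h' : P →ₐ[k] B') (Q : Ideal P) (J : Ideal B) (J' : Ideal B')
    (hQ : Q.map h.toRingHom ≤ J) (hQ' : Q.map h'.toRingHom ≤ J')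
    (hs : ∀ n, ∀ y ∈ J ^ n, ∃ x ∈ Q ^ n, y - h x ∈ J ^ (n + 1))
    (hs' : ∀ n, ∀ y ∈ J' ^ n, ∃ x ∈ Q ^ n, y - h' x ∈ J' ^ (n + 1))
    (hker : ∀ n, ∀ x ∈ Q ^ n, h x ∈ J ^ (n + 1) ↔ h' x ∈ J' ^ (n + 1))
    (hfin : ∀ n, Module.Finite k (B ⧸ J ^ n)) (hfin' : ∀ n, Module.Finite k (B' ⧸ J' ^ n)) (n : ℕ) :
    Module.finrank k (B ⧸ J ^ n) = Module.finrank k (B' ⧸ J' ^ n) := by
  induction n with
  | zero =>
    haveI : Subsingleton (B ⧸ J ^ 0) := by rw [pow_zero, Ideal.one_eq_top]; infer_instance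
    haveI : Subsingleton (B' ⧸ J' ^ 0) := by rw [pow_zero, Ideal.one_eq_top]; infer_instance
    rw [Module.finrank_zero_of_subsingleton, Module.finrank_zero_of_subsingleton]
  | succ n ih =>
    haveI := hfin (n + 1)
    haveI := hfin' (n + 1)
    rw [finrank_succ h Q J hQ hs n, finrank_succ h' Q J' hQ' hs' n, ih]
    congr 1
    refine LinearEquiv.finrank_eq ((LinearMap.quotKerEquivRange _).symm.trans
      ((Submodule.quotEquivOfEq _ _ ?_).trans (LinearMap.quotKerEquivRange _)))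
    ext ⟨x, hx⟩
    simp only [LinearMap.mem_ker, LinearMap.comp_apply, Submodule.subtype_apply]
    show Ideal.Quotient.mk _ (h x) = 0 ↔ Ideal.Quotient.mk _ (h' x) = 0
    rw [Ideal.Quotient.eq_zero_iff_mem, Ideal.Quotient.eq_zero_iff_mem]
    exact hker n x hx

end Groth.Agent.CAlgH.GradedFinrank
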