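import Groth.Agent.CAlgH.Approximation
import Groth.Agent.CAlgH.GrApproxEquations
import Groth.Agent.CAlgH.GrRingCompare
import Groth.Agent.CAlgH.AlgebraizeGradedEtale
import Groth.Agent.CAlgH.GradedFinrank

/-! A complete local algebra with an element of a finitely presented algebra is approximated by a
finite type algebra with the same associated graded ring. -/

universe u
set_option autoImplicit false
set_option linter.style.haveILetI false
open IsLocalRing Function

namespace Groth.Agent.CAlgH.AlgebraizeGradedCore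

/-- membership in `F`-image plus a power, read through a surjection -/
theorem mem_map_pow_iff {T R : Type u} [CommRing T] [CommRing R] (π : T →+* R) (hπ : Surjective π)
    {q : ℕ} (f : Fin q → T) (hker : RingHom.ker π = Ideal.span (Set.range f)) (J : Ideal T) (n : ℕ) (t : T) :
    π t ∈ (J.map π) ^ n ↔ ∃ a : Fin q → T, t - ∑ j, a j * f j ∈ J ^ n := by
  rw [← Ideal.map_pow, Ideal.mem_map_iff_of_surjective π hπ]
  constructor
  · rintro ⟨y, hy, hyt⟩
    have h1 : t - y ∈ Ideal.span (Set.range f) := by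
      rw [← hker, RingHom.mem_ker, map_sub, hyt, sub_self]
    obtain ⟨a, ha⟩ := Ideal.mem_span_range_iff_exists_fun.1 h1
    exact ⟨a, by rw [ha, sub_sub_cancel]; exact hy⟩
  · rintro ⟨a, ha⟩
    refine ⟨_, ha, ?_⟩
    rw [map_sub, map_sum, Finset.sum_eq_zero fun j _ => ?_, sub_zero]
    rw [map_mul, RingHom.mem_ker.1 (show f j ∈ RingHom.ker π by rw [hker]; exact Ideal.subset_span ⟨j, rfl⟩), mul_zero]

/-- the linear form with coefficients `f` -/
noncomputable def form {T : Type u} [CommRing T] {q : ℕ} (f : Fin q → T) : (Fin q → T) →ₗ[T] (Fin 1 → T) :=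
  LinearMap.pi fun _ => Fintype.linearCombination T f

theorem form_apply {T : Type u} [CommRing T] {q : ℕ} (f : Fin q → T) (a : Fin q → T) (i : Fin 1) :
    form f a i = ∑ j, a j * f j := by
  simp [form, Fintype.linearCombination_apply]

theorem exists_algebraization {k P T R : Type u} [Field k] [CommRing P] [Algebra k P] [Algebra.FiniteType k P]
    [CommRing T] [IsNoetherianRing T] [IsLocalRing T] [IsAdicComplete (maximalIdeal T) T]
    [Algebra P T] [Algebra k T] [IsScalarTower k P T] [CommRing R] [Algebra k R] [IsLocalRing R]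
    (hreg : CAlg.IsRegularHom P T) (m₀ : Ideal P) [m₀.IsMaximal]
    (hmT : maximalIdeal T = m₀.map (algebraMap P T))
    (hdense : ∀ (n : ℕ) (y : T), ∃ p : P, y - algebraMap P T p ∈ maximalIdeal T ^ n)
    (hcontract : ∀ (n : ℕ) (p : P), algebraMap P T p ∈ maximalIdeal T ^ n → p ∈ m₀ ^ n)
    (hres : ∀ p : P, ∃ c : k, p - algebraMap k P c ∈ m₀)
    (π : T →ₐ[k] R) (hπ : Surjective π)
    (B : Type u) [CommRing B] [Algebra k B] [Algebra.FinitePresentation k B] (g : B →ₐ[k] R) (N : ℕ) :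
    ∃ (A : Type u) (_ : CommRing A) (_ : Algebra k A) (_ : Algebra.FiniteType k A)
      (m : Ideal A) (_ : m.IsMaximal)
      (_ : Surjective (fun c : k => Ideal.Quotient.mk m (algebraMap k A c)))
      (γ : B →ₐ[k] A) (φ : (R ⧸ maximalIdeal R ^ (N + 1)) ≃ₐ[k] (A ⧸ m ^ (N + 1))),
      (∀ b, φ (Ideal.Quotient.mk _ (g b)) = Ideal.Quotient.mk _ (γ b)) ∧
      (∀ n, Module.Finite k (A ⧸ m ^ n) ∧ Module.Finite k (R ⧸ maximalIdeal R ^ n) ∧
        Module.finrank k (R ⧸ maximalIdeal R ^ n) = Module.finrank k (A ⧸ m ^ n)) ∧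
      ∃ e : AssocGr.GrRing (FiltBl.IdealFiltration.adic (maximalIdeal R)) ≃+*
          AssocGr.GrRing (FiltBl.IdealFiltration.adic m),
        (∀ (n : ℕ) (x : AssocGr.GrRing (FiltBl.IdealFiltration.adic (maximalIdeal R))),
            x ∈ AssocGr.gr (FiltBl.IdealFiltration.adic (maximalIdeal R)) n →
              e x ∈ AssocGr.gr (FiltBl.IdealFiltration.adic m) n) ∧
        (∀ c : k, e (algebraMap R _ (algebraMap k R c)) = algebraMap A _ (algebraMap k A c)) := by
  classical
  haveI : IsNoetherianRing P := Algebra.FiniteType.isNoetherianRing k P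
  -- the presentation of `R`
  have hπm : (maximalIdeal T).map π.toRingHom = maximalIdeal R := by
    have h1 : (maximalIdeal R).comap π.toRingHom = maximalIdeal T := by
      haveI : ((maximalIdeal R).comap π.toRingHom).IsMaximal :=
        Ideal.comap_isMaximal_of_surjective _ hπ
      exact IsLocalRing.eq_maximalIdeal inferInstance
    exact (congrArg (Ideal.map π.toRingHom) h1.symm).trans (Ideal.map_comap_of_surjective π.toRingHom hπ _)
  obtain ⟨q, f, hf⟩ := Submodule.fg_iff_exists_fin_generating_family.1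
    (IsNoetherian.noetherian (RingHom.ker π.toRingHom))
  have hfm : ∀ j, f j ∈ maximalIdeal T := fun j => by
    by_contra h
    rw [IsLocalRing.mem_maximalIdeal, mem_nonunits_iff, not_not] at h
    have h0 : f j ∈ RingHom.ker π.toRingHom := hf ▸ Submodule.subset_span ⟨j, rfl⟩
    exact not_isUnit_zero (M₀ := R) (h0 ▸ h.map π.toRingHom)
  let F := form f
  obtain ⟨p', gr, hgr⟩ := Submodule.fg_iff_exists_fin_generating_family.1 (IsNoetherian.noetherian (LinearMap.ker F))
  let G : (Fin p' → T) →ₗ[T] (Fin q → T) := Fintype.linearCombination T gr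
  have hex : Exact G F := by
    rw [LinearMap.exact_iff, Fintype.range_linearCombination, hgr]
  obtain ⟨M₀, hM₀⟩ := GrApproxEquations.exists_bound (maximalIdeal T) G F hex
  have hFG : ∀ l, ∑ j, gr l j * f j = 0 := fun l => by
    have h0 : gr l ∈ LinearMap.ker F := hgr ▸ Submodule.subset_span ⟨l, rfl⟩
    rw [← form_apply f (gr l) 0]
    exact congrFun (LinearMap.mem_ker.1 h0) 0
  -- the presentation of `B`
  obtain ⟨nb, e₀, he₀⟩ := Algebra.FiniteType.iff_quotient_mvPolynomial''.1 (inferInstance : Algebra.FiniteType k B)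
  obtain ⟨s, h, hh⟩ := Submodule.fg_iff_exists_fin_generating_family.1
    (Algebra.FinitePresentation.ker_fg_of_mvPolynomial e₀ he₀)
  choose c hc using fun i => hπ (g (e₀ (MvPolynomial.X i)))
  have hd : ∀ t, ∃ d : Fin q → T, ∑ j, d j * f j = MvPolynomial.aeval c (h t) := fun t => by
    refine Ideal.mem_span_range_iff_exists_fun.1 ?_
    rw [show Ideal.span (Set.range f) = RingHom.ker π.toRingHom from hf, RingHom.mem_ker]
    have h1 : π.comp (MvPolynomial.aeval c) = g.comp e₀ :=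
      MvPolynomial.algHom_ext fun i => by simp [hc]
    have h2 : e₀ (h t) = 0 := (hh ▸ Submodule.subset_span ⟨t, rfl⟩ : h t ∈ RingHom.ker e₀.toRingHom)
    show π (MvPolynomial.aeval c (h t)) = 0
    rw [← AlgHom.comp_apply, h1, AlgHom.comp_apply, h2, map_zero]
  choose d hd using hd
  -- the system
  let ι := Fin q ⊕ (Fin p' × Fin q) ⊕ Fin nb ⊕ (Fin s × Fin q)
  let v : ι → T := Sum.elim f (Sum.elim (fun i => gr i.1 i.2) (Sum.elim c fun i => d i.1 i.2))
  let Xf : Fin q → MvPolynomial ι P := fun j => MvPolynomial.X (Sum.inl j)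
  let Xc : Fin nb → MvPolynomial ι P := fun i => MvPolynomial.X (Sum.inr (Sum.inr (Sum.inl i)))
  let eqs : Fin p' ⊕ Fin s → MvPolynomial ι P := Sum.elim
    (fun l => ∑ j, MvPolynomial.X (Sum.inr (Sum.inl (l, j))) * Xf j)
    (fun t => MvPolynomial.aeval Xc (h t) - ∑ j, MvPolynomial.X (Sum.inr (Sum.inr (Sum.inr (t, j)))) * Xf j)
  let Ieq : Ideal (MvPolynomial ι P) := Ideal.span (Set.range eqs)
  have hv : ∀ x ∈ Ieq, MvPolynomial.aeval v x = 0 := fun x hx => by
    refine (Ideal.span_le (I := RingHom.ker (MvPolynomial.aeval v : MvPolynomial ι P →ₐ[P] T))).2 ?_ hx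
    rintro _ ⟨l | t, rfl⟩
    · simp [eqs, Xf, v, hFG]
    · have h1 : ((MvPolynomial.aeval v : MvPolynomial ι P →ₐ[P] T).restrictScalars k).comp
          (MvPolynomial.aeval Xc) = MvPolynomial.aeval c := MvPolynomial.algHom_ext fun i => by simp [Xc, v]
      have h2 := AlgHom.congr_fun h1 (h t)
      simp only [AlgHom.comp_apply, AlgHom.restrictScalars_apply] at h2
      simp [eqs, Xf, v, h2, hd]
  let C := MvPolynomial ι P ⧸ Ieq
  haveI : Algebra.FinitePresentation P C :=
    Algebra.FinitePresentation.quotient (Submodule.fg_span (Set.finite_range eqs))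
  let φC : C →ₐ[P] T := Ideal.Quotient.liftₐ Ieq (MvPolynomial.aeval v) hv
  let N' := max M₀ (N + 1)
  obtain ⟨P', _, _, hP', ψ, γC, hγ⟩ := Approximation.exists_etale_factor hreg ⊥
    (fun x hx => by rw [Submonoid.mem_bot.1 hx, map_one]; exact isUnit_one)
    (fun n y => by
      obtain ⟨p, hp⟩ := hdense n y
      exact ⟨p, 1, Submonoid.one_mem _, by rwa [map_one, one_mul]⟩) C φC N'
  haveI := hP'
  let b : ι → P' := fun i => γC (Ideal.Quotient.mk Ieq (MvPolynomial.X i))
  have hb : ∀ i, v i - ψ (b i) ∈ maximalIdeal T ^ N' := fun i => by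
    rw [← neg_sub]
    refine neg_mem ?_
    have h1 : φC (Ideal.Quotient.mk Ieq (MvPolynomial.X i)) = v i := MvPolynomial.aeval_X _ _
    rw [← h1]
    exact hγ _
  let f' : Fin q → P' := fun j => b (Sum.inl j)
  let g' : Fin p' → Fin q → P' := fun l j => b (Sum.inr (Sum.inl (l, j)))
  let c' : Fin nb → P' := fun i => b (Sum.inr (Sum.inr (Sum.inl i)))
  let d' : Fin s → Fin q → P' := fun t j => b (Sum.inr (Sum.inr (Sum.inr (t, j))))
  letI : Algebra k P' := ((algebraMap P P').comp (algebraMap k P)).toAlgebra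
  haveI : IsScalarTower k P P' := IsScalarTower.of_algebraMap_eq fun _ => rfl
  have hbev : (γC.comp (Ideal.Quotient.mkₐ P Ieq)) = MvPolynomial.aeval b := MvPolynomial.aeval_unique _
  have hbeq : ∀ i, MvPolynomial.aeval b (eqs i) = 0 := fun i => by
    rw [← hbev]
    show γC (Ideal.Quotient.mk Ieq (eqs i)) = 0
    rw [Ideal.Quotient.eq_zero_iff_mem.2 (Ideal.subset_span (Set.mem_range_self i)), map_zero]
  have hg' : ∀ l, ∑ j, g' l j * f' j = 0 := fun l => by
    simpa [eqs, Xf, g', f'] using hbeq (Sum.inl l)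
  have hd' : ∀ t, MvPolynomial.aeval c' (h t) = ∑ j, d' t j * f' j := fun t => by
    have h1 : ((MvPolynomial.aeval b : MvPolynomial ι P →ₐ[P] P').restrictScalars k).comp
        (MvPolynomial.aeval Xc) = MvPolynomial.aeval c' := MvPolynomial.algHom_ext fun i => by simp [Xc, c']
    have h2 := AlgHom.congr_fun h1 (h t)
    simp only [AlgHom.comp_apply, AlgHom.restrictScalars_apply] at h2
    simpa [eqs, Xf, d', f', h2, sub_eq_zero] using hbeq (Sum.inr t)
  -- the point of `P'`
  let Q : Ideal P' := (maximalIdeal T).comap ψ.toRingHom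
  have hQres : ∀ x, ∃ p, x - algebraMap P P' p ∈ Q := fun x => by
    obtain ⟨p, hp⟩ := hdense 1 (ψ x)
    refine ⟨p, ?_⟩
    show ψ (x - algebraMap P P' p) ∈ maximalIdeal T
    rw [map_sub, AlgHom.commutes]
    simpa using hp
  haveI hQmax : Q.IsMaximal := by
    rw [show Q = RingHom.ker ((Ideal.Quotient.mk (maximalIdeal T)).comp ψ.toRingHom) by
      rw [← RingHom.comap_ker, Ideal.mk_ker]]
    letI := Ideal.Quotient.field (maximalIdeal T)
    refine RingHom.ker_isMaximal_of_surjective _ fun z => ?_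
    obtain ⟨t, rfl⟩ := Ideal.Quotient.mk_surjective z
    obtain ⟨p, hp⟩ := hdense 1 t
    rw [pow_one] at hp
    refine ⟨algebraMap P P' p, ?_⟩
    show Ideal.Quotient.mk _ (ψ (algebraMap P P' p)) = _
    rw [AlgHom.commutes]
    exact ((Ideal.Quotient.mk_eq_mk_iff_sub_mem _ _).2 hp).symm
  have hm₀Q : ∀ p ∈ m₀, algebraMap P P' p ∈ Q := fun p hp => by
    show ψ (algebraMap P P' p) ∈ maximalIdeal T
    rw [AlgHom.commutes, hmT]
    exact Ideal.mem_map_of_mem _ hp
  haveI : Q.LiesOver m₀ := ⟨(‹m₀.IsMaximal›).eq_of_le (Ideal.IsPrime.comap _).ne_top hm₀Q⟩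
  have hmod := AlgebraizeGradedEtale.exists_eq_mod_pow m₀ Q hQres
  have hψQ : ∀ n, ∀ x ∈ Q ^ n, ψ x ∈ maximalIdeal T ^ n := fun n x hx => by
    have h1 : (Q ^ n).map ψ.toRingHom ≤ maximalIdeal T ^ n := by
      rw [Ideal.map_pow]
      exact Ideal.pow_right_mono Ideal.map_comap_le n
    exact h1 (Ideal.mem_map_of_mem _ hx)
  have hQψ : ∀ n x, ψ x ∈ maximalIdeal T ^ n → x ∈ Q ^ n := fun n x hx => by
    obtain ⟨p, hp⟩ := hmod n x
    have h1 : algebraMap P T p ∈ maximalIdeal T ^ n := by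
      have := sub_mem hx (hψQ n _ hp)
      rwa [map_sub, sub_sub_cancel, AlgHom.commutes] at this
    rw [← sub_add_cancel x (algebraMap P P' p)]
    refine add_mem hp ?_
    refine Ideal.pow_right_mono (Ideal.map_le_iff_le_comap.2 hm₀Q) n ?_
    rw [← Ideal.map_pow]
    exact Ideal.mem_map_of_mem _ (hcontract n p h1)
  have hψdense : ∀ n (y : T), ∃ x : P', y - ψ x ∈ maximalIdeal T ^ n := fun n y => by
    obtain ⟨p, hp⟩ := hdense n y
    exact ⟨algebraMap P P' p, by rwa [AlgHom.commutes]⟩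
  -- the algebra
  let If : Ideal P' := Ideal.span (Set.range f')
  have hIf : If ≤ Q := Ideal.span_le.2 (by
    rintro _ ⟨j, rfl⟩
    show ψ (f' j) ∈ maximalIdeal T
    rw [show ψ (f' j) = f j - (v (Sum.inl j) - ψ (b (Sum.inl j))) from (sub_sub_cancel _ _).symm]
    exact sub_mem (hfm j) (Ideal.pow_le_self (by omega) (hb _)))
  haveI : Algebra.FiniteType k P' := Algebra.FiniteType.trans (R := k) (S := P) inferInstance inferInstance
  let A := P' ⧸ If
  let mkA : P' →ₐ[k] A := Ideal.Quotient.mkₐ k If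
  haveI : Algebra.FiniteType k A := Algebra.FiniteType.of_surjective mkA Ideal.Quotient.mk_surjective
  let m : Ideal A := Q.map mkA.toRingHom
  haveI hm : m.IsMaximal := by
    refine (Ideal.map_eq_top_or_isMaximal_of_surjective _ Ideal.Quotient.mk_surjective hQmax).resolve_left ?_
    intro htop
    refine hQmax.ne_top (top_le_iff.1 ?_)
    rw [← Ideal.comap_top (f := mkA.toRingHom), ← htop]
    exact le_of_eq_of_le (Ideal.comap_map_of_surjective _ Ideal.Quotient.mk_surjective _)
      (sup_le le_rfl (le_of_eq_of_le Ideal.mk_ker hIf))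
  have hkm : Surjective (fun c : k => Ideal.Quotient.mk m (algebraMap k A c)) := fun z => by
    obtain ⟨a, rfl⟩ := Ideal.Quotient.mk_surjective z
    obtain ⟨x, rfl⟩ := Ideal.Quotient.mk_surjective a
    obtain ⟨p, hp⟩ := hQres x
    obtain ⟨r, hr⟩ := hres p
    refine ⟨r, ((Ideal.Quotient.mk_eq_mk_iff_sub_mem _ _).2 ?_).symm⟩
    have h1 : x - algebraMap k P' r ∈ Q := by
      rw [← sub_add_sub_cancel x (algebraMap P P' p), IsScalarTower.algebraMap_apply k P P', ← map_sub]
      exact add_mem hp (hm₀Q _ hr)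
    exact Ideal.mem_map_of_mem mkA.toRingHom h1
  let γB : B →ₐ[k] A :=
    (Ideal.Quotient.liftₐ (RingHom.ker e₀) (mkA.comp (MvPolynomial.aeval c')) fun x hx => by
      change x ∈ RingHom.ker e₀.toRingHom at hx
      rw [← show Ideal.span (Set.range h) = RingHom.ker e₀.toRingHom from hh] at hx
      refine (Ideal.span_le (I := RingHom.ker (mkA.comp (MvPolynomial.aeval c')))).2 ?_ hx
      rintro _ ⟨t, rfl⟩
      show Ideal.Quotient.mk If (MvPolynomial.aeval c' (h t)) = 0
      rw [hd', Ideal.Quotient.eq_zero_iff_mem]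
      exact Ideal.sum_mem _ fun j _ => Ideal.mul_mem_left _ _ (Ideal.subset_span ⟨j, rfl⟩)).comp
      (Ideal.quotientKerAlgEquivOfSurjective he₀).symm.toAlgHom
  have hγB : ∀ x, γB (e₀ x) = mkA (MvPolynomial.aeval c' x) := fun x => by
    have h1 : (Ideal.quotientKerAlgEquivOfSurjective he₀).symm (e₀ x) = Ideal.Quotient.mk _ x := by
      rw [AlgEquiv.symm_apply_eq]
      rfl
    simp only [γB, AlgHom.comp_apply]
    refine (congrArg _ h1).trans ?_
    rfl
  -- the two maps out of `P'`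
  let h1 : P' →ₐ[k] R := π.comp (ψ.restrictScalars k)
  let f'' : Fin q → T := fun j => ψ (f' j)
  let F' := form f''
  let G' : (Fin p' → T) →ₗ[T] (Fin q → T) := Fintype.linearCombination T fun l j => ψ (g' l j)
  have hcomp : F'.comp G' = 0 := by
    refine LinearMap.ext fun a => funext fun i => ?_
    show F' (G' a) i = 0
    rw [show G' a = ∑ l, a l • fun j => ψ (g' l j) from Fintype.linearCombination_apply _ _ _, map_sum, Finset.sum_apply]
    refine Finset.sum_eq_zero fun l _ => ?_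
    rw [map_smul, Pi.smul_apply, form_apply]
    simp only [f'', ← map_mul, ← map_sum, hg', map_zero, smul_zero]
  have hFF : ∀ j i, F (Pi.single j 1) i - F' (Pi.single j 1) i ∈ maximalIdeal T ^ N' := fun j i => by
    simp only [F, F', form_apply, Pi.single_apply, ite_mul, one_mul, zero_mul, Finset.sum_ite_eq', Finset.mem_univ, if_true]
    exact hb (Sum.inl j)
  have hGG : ∀ l j, G (Pi.single l 1) j - G' (Pi.single l 1) j ∈ maximalIdeal T ^ N' := fun l j => by
    simp only [G, G', Fintype.linearCombination_apply_single, one_smul]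
    exact hb (Sum.inr (Sum.inl (l, j)))
  have hR : ∀ n x, h1 x ∈ maximalIdeal R ^ n ↔ ∃ a, ψ x - F a 0 ∈ maximalIdeal T ^ n := fun n x => by
    rw [← hπm]
    refine (mem_map_pow_iff π.toRingHom hπ f hf.symm (maximalIdeal T) n (ψ x)).trans ?_
    simp only [F, form_apply]
  have hA : ∀ n x, mkA x ∈ m ^ n ↔ ∃ a, ψ x - F' a 0 ∈ maximalIdeal T ^ n := fun n x => by
    rw [show mkA x = mkA.toRingHom x from rfl]
    refine (mem_map_pow_iff mkA.toRingHom Ideal.Quotient.mk_surjective f' Ideal.mk_ker Q n x).trans ?_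
    simp only [F', form_apply, f'']
    constructor
    · rintro ⟨a, ha⟩
      refine ⟨fun j => ψ (a j), ?_⟩
      have := hψQ n _ ha
      simpa [map_sub, map_sum] using this
    · rintro ⟨a, ha⟩
      choose x' hx' using fun j => hψdense n (a j)
      refine ⟨x', hQψ n _ ?_⟩
      rw [map_sub, map_sum, ← sub_add_sub_cancel (ψ x) (∑ j, a j * ψ (f' j))]
      refine add_mem ha ?_
      rw [← Finset.sum_sub_distrib]
      refine Ideal.sum_mem _ fun j _ => ?_
      rw [map_mul, ← sub_mul]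
      exact Ideal.mul_mem_right _ _ (hx' j)
  have hker : ∀ n, ∀ x ∈ Q ^ n, h1 x ∈ maximalIdeal R ^ (n + 1) ↔ mkA x ∈ m ^ (n + 1) := fun n x hx => by
    rw [hR, hA]
    exact hM₀ G' F' N' (le_max_left _ _) hGG hFF hcomp n (ψ x) (hψQ n x hx)
  have hlow : ∀ x, h1 x ∈ maximalIdeal R ^ (N + 1) ↔ mkA x ∈ m ^ (N + 1) := fun x => by
    rw [hR, hA]
    have hdiff : ∀ a, F a 0 - F' a 0 ∈ maximalIdeal T ^ (N + 1) := fun a =>
      Ideal.pow_le_pow_right (by omega) (GrApproxEquations.map_sub_mem (maximalIdeal T) F F' N' hFF 0 a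
        (fun j => by rw [pow_zero, Ideal.one_eq_top]; trivial) 0)
    constructor
    · rintro ⟨a, ha⟩
      exact ⟨a, by rw [← sub_add_sub_cancel (ψ x) (F a 0)]; exact add_mem ha (hdiff a)⟩
    · rintro ⟨a, ha⟩
      exact ⟨a, by rw [← sub_sub_sub_cancel_right (ψ x) (F a 0) (F' a 0)]; exact sub_mem ha (hdiff a)⟩
  have hQ1 : Q.map h1.toRingHom = maximalIdeal R := by
    refine le_antisymm ?_ ?_
    · rw [← hπm, Ideal.map_le_iff_le_comap]
      exact fun x hx => Ideal.mem_map_of_mem π.toRingHom (show ψ x ∈ maximalIdeal T from hx)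
    · rw [← hπm, hmT, Ideal.map_map, Ideal.map_le_iff_le_comap]
      intro p hp
      refine Ideal.mem_comap.2 ?_
      rw [show (π.toRingHom.comp (algebraMap P T)) p = h1.toRingHom (algebraMap P P' p) from
        congrArg π (ψ.commutes p).symm]
      exact Ideal.mem_map_of_mem _ (hm₀Q p hp)
  have hsurjR : ∀ r : R, ∀ n, ∃ x : P', r - h1 x ∈ maximalIdeal R ^ n := fun r n => by
    obtain ⟨t, rfl⟩ := hπ r
    obtain ⟨x, hx⟩ := hψdense n t
    refine ⟨x, ?_⟩
    rw [show π t - h1 x = π.toRingHom (t - ψ x) from (map_sub π.toRingHom t (ψ x)).symm, ← hπm, ← Ideal.map_pow]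
    exact Ideal.mem_map_of_mem _ hx
  have hs1 : ∀ n, ∀ y ∈ maximalIdeal R ^ n, ∃ x ∈ Q ^ n, y - h1 x ∈ maximalIdeal R ^ (n + 1) := fun n y hy => by
    refine AlgebraizeGradedEtale.exists_sub_mem h1.toRingHom Q _ hQ1.le (fun r => ?_) n ?_
    · obtain ⟨x, hx⟩ := hsurjR r 1
      exact ⟨x, by rwa [pow_one] at hx⟩
    · rwa [Ideal.map_pow, hQ1]
  have hs2 : ∀ n, ∀ y ∈ m ^ n, ∃ x ∈ Q ^ n, y - mkA x ∈ m ^ (n + 1) := fun n y hy => by
    refine AlgebraizeGradedEtale.exists_sub_mem mkA.toRingHom Q m le_rfl (fun z => ?_) n ?_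
    · obtain ⟨x, rfl⟩ := Ideal.Quotient.mk_surjective z
      exact ⟨x, by rw [show mkA.toRingHom x = Ideal.Quotient.mk If x from rfl, sub_self]; exact zero_mem _⟩
    · rwa [Ideal.map_pow]
  have hfinA : ∀ n, Module.Finite k (A ⧸ m ^ n) := AlgebraizeGradedEtale.finite_quotient_pow m
  have hfinR : ∀ n, Module.Finite k (R ⧸ maximalIdeal R ^ n) := fun n => by
    haveI := AlgebraizeGradedEtale.finite_quotient_pow (k := k) Q n
    let l : (P' ⧸ Q ^ n) →ₐ[k] R ⧸ maximalIdeal R ^ n := Ideal.quotientMapₐ _ h1 (by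
      rw [← Ideal.map_le_iff_le_comap]
      exact (Ideal.map_pow h1.toRingHom Q n).le.trans (Ideal.pow_right_mono hQ1.le n))
    refine Module.Finite.of_surjective l.toLinearMap fun z => ?_
    obtain ⟨r, rfl⟩ := Ideal.Quotient.mk_surjective z
    obtain ⟨x, hx⟩ := hsurjR r n
    exact ⟨Ideal.Quotient.mk _ x, ((Ideal.Quotient.mk_eq_mk_iff_sub_mem _ _).2 hx).symm⟩
  let K1 : P' →ₐ[k] R ⧸ maximalIdeal R ^ (N + 1) := (Ideal.Quotient.mkₐ k _).comp h1
  let K2 : P' →ₐ[k] A ⧸ m ^ (N + 1) := (Ideal.Quotient.mkₐ k _).comp mkA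
  have hK1 : Surjective K1 := fun z => by
    obtain ⟨r, rfl⟩ := Ideal.Quotient.mk_surjective z
    obtain ⟨x, hx⟩ := hsurjR r (N + 1)
    exact ⟨x, ((Ideal.Quotient.mk_eq_mk_iff_sub_mem _ _).2 hx).symm⟩
  have hK2 : Surjective K2 := fun z => by
    obtain ⟨a, rfl⟩ := Ideal.Quotient.mk_surjective z
    obtain ⟨x, rfl⟩ := Ideal.Quotient.mk_surjective a
    exact ⟨x, rfl⟩
  have hKK : RingHom.ker K1 = RingHom.ker K2 := by
    ext x
    rw [RingHom.mem_ker, RingHom.mem_ker]
    show Ideal.Quotient.mk _ (h1 x) = 0 ↔ Ideal.Quotient.mk _ (mkA x) = 0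
    rw [Ideal.Quotient.eq_zero_iff_mem, Ideal.Quotient.eq_zero_iff_mem]
    exact hlow x
  let φ : (R ⧸ maximalIdeal R ^ (N + 1)) ≃ₐ[k] (A ⧸ m ^ (N + 1)) :=
    (Ideal.quotientKerAlgEquivOfSurjective hK1).symm.trans
      ((Ideal.quotientEquivAlgOfEq k hKK).trans (Ideal.quotientKerAlgEquivOfSurjective hK2))
  have hφ : ∀ x, φ (K1 x) = K2 x := fun x => by
    have h0 : (Ideal.quotientKerAlgEquivOfSurjective hK1).symm (K1 x) = Ideal.Quotient.mk _ x := by
      rw [AlgEquiv.symm_apply_eq]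
      rfl
    simp only [φ, AlgEquiv.trans_apply, h0]
    rfl
  obtain ⟨e, he, hec⟩ := GrRingCompare.exists_iso h1.toRingHom (J := maximalIdeal R) hQ1.le mkA.toRingHom (J' := m)
    le_rfl hs1 hs2 hker
  refine ⟨A, inferInstance, inferInstance, inferInstance, m, hm, hkm, γB, φ, fun b' => ?_,
    fun n => ⟨hfinA n, hfinR n, GradedFinrank.finrank_eq h1 mkA Q _ m hQ1.le le_rfl hs1 hs2 hker hfinR hfinA n⟩,
    e, he, fun r => ?_⟩
  · obtain ⟨x, rfl⟩ := he₀ b'
    have key : ((Ideal.Quotient.mkₐ k _).comp (g.comp e₀) : MvPolynomial (Fin nb) k →ₐ[k] R ⧸ maximalIdeal R ^ (N + 1)) =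
        K1.comp (MvPolynomial.aeval c') := by
      refine MvPolynomial.algHom_ext fun i => ?_
      show Ideal.Quotient.mk _ (g (e₀ (MvPolynomial.X i))) = Ideal.Quotient.mk _ (h1 (MvPolynomial.aeval c' (MvPolynomial.X i)))
      rw [MvPolynomial.aeval_X, ← hc, Ideal.Quotient.mk_eq_mk_iff_sub_mem,
        show π (c i) - h1 (c' i) = π.toRingHom (c i - ψ (c' i)) from (map_sub π.toRingHom _ _).symm,
        ← hπm, ← Ideal.map_pow]
      exact Ideal.mem_map_of_mem _ (Ideal.pow_le_pow_right (by omega) (hb (Sum.inr (Sum.inr (Sum.inl i)))))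
    rw [hγB]
    exact (congrArg φ (AlgHom.congr_fun key x)).trans (hφ _)
  · have h0 := hec (algebraMap k P' r)
    rw [show h1.toRingHom (algebraMap k P' r) = algebraMap k R r from h1.commutes r,
      show mkA.toRingHom (algebraMap k P' r) = algebraMap k A r from mkA.commutes r] at h0
    exact h0

end Groth.Agent.CAlgH.AlgebraizeGradedCore
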