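import Groth.Agent.CAlgH.AlgebraizeGraded

/-! Algebraization of versal formal objects. -/

universe u
set_option autoImplicit false
set_option linter.style.haveILetI false
open IsLocalRing Function CategoryTheory

namespace Groth.Agent.CAlgH.AlgebraizeVersal

variable {k : Type u} [Field k]

theorem isLocalRing_quotient_pow {A : Type u} [CommRing A] (m : Ideal A) [hm : m.IsMaximal] (n : ℕ) :
    IsLocalRing (A ⧸ m ^ (n + 1)) := by
  have hle : m ^ (n + 1) ≤ m := Ideal.pow_le_self n.succ_ne_zero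
  refine IsLocalRing.of_unique_max_ideal ⟨m.map (Ideal.Quotient.mk _), ?_, fun J hJ => ?_⟩
  · refine (Ideal.map_eq_top_or_isMaximal_of_surjective _ Ideal.Quotient.mk_surjective hm).resolve_left fun h => hm.ne_top ?_
    exact (Ideal.comap_map_mk hle).symm.trans (by rw [h, Ideal.comap_top])
  · haveI : (J.comap (Ideal.Quotient.mk (m ^ (n + 1)))).IsMaximal :=
      Ideal.comap_isMaximal_of_surjective _ Ideal.Quotient.mk_surjective
    have h1 : m = J.comap (Ideal.Quotient.mk (m ^ (n + 1))) := by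
      refine hm.eq_of_le (Ideal.IsMaximal.ne_top inferInstance) (Ideal.IsPrime.le_of_pow_le (n := n + 1) fun x hx => ?_)
      rw [Ideal.mem_comap, Ideal.Quotient.eq_zero_iff_mem.2 hx]
      exact zero_mem _
    exact (Ideal.map_comap_of_surjective _ Ideal.Quotient.mk_surjective J).symm.trans
      (congrArg (Ideal.map (Ideal.Quotient.mk (m ^ (n + 1)))) h1.symm)

/-- A map onto `A/m^(j+2)` lifting to `A/m^(j+3)` lifts to a surjection. -/
theorem surjective_of_lift {R A : Type u} [CommRing R] [CommRing A] (m : Ideal A) (j : ℕ)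
    (g : R →+* A ⧸ m ^ (j + 3)) (g' : R →+* A ⧸ m ^ (j + 2))
    (hg : (Ideal.Quotient.factor (Ideal.pow_le_pow_right (Nat.le_succ (j + 2)))).comp g = g')
    (hg' : Surjective g') : Surjective g := by
  have h0 : ∀ a : A, ∃ r, ∃ a', g r = Ideal.Quotient.mk _ a' ∧ a' - a ∈ m ^ (j + 2) := fun a => by
    obtain ⟨r, hr⟩ := hg' (Ideal.Quotient.mk _ a)
    obtain ⟨a', ha'⟩ := Ideal.Quotient.mk_surjective (g r)
    refine ⟨r, a', ha'.symm, ?_⟩
    rw [← hg, RingHom.comp_apply, ← ha'] at hr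
    exact Ideal.Quotient.eq.1 hr
  have h1 : ∀ a ∈ m ^ (j + 2), Ideal.Quotient.mk (m ^ (j + 3)) a ∈ Set.range g := by
    intro a ha
    rw [show j + 2 = (j + 1) + 1 from rfl, pow_succ] at ha
    refine Submodule.mul_induction_on ha ?_ ?_
    · intro x hx y hy
      obtain ⟨r, x', hr, hx'⟩ := h0 x
      obtain ⟨s, y', hs, hy'⟩ := h0 y
      refine ⟨r * s, ?_⟩
      rw [map_mul, hr, hs, ← map_mul, Ideal.Quotient.mk_eq_mk_iff_sub_mem,
        show x' * y' - x * y = (x' - x) * y' + x * (y' - y) by ring]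
      have hy'm : y' ∈ m := by
        rw [← sub_add_cancel y' y]
        exact add_mem (Ideal.pow_le_self (by omega) hy') hy
      refine add_mem ?_ ?_
      · rw [show j + 3 = (j + 2) + 1 from rfl, pow_succ]
        exact Submodule.mul_mem_mul hx' hy'm
      · refine Ideal.pow_le_pow_right (show j + 3 ≤ (j + 1) + (j + 2) by omega) ?_
        rw [pow_add]
        exact Submodule.mul_mem_mul hx hy'
    · rintro x y ⟨r, hr⟩ ⟨s, hs⟩
      exact ⟨r + s, by rw [map_add, map_add, hr, hs]⟩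
  intro z
  obtain ⟨a, rfl⟩ := Ideal.Quotient.mk_surjective z
  obtain ⟨r, a', hr, ha'⟩ := h0 a
  obtain ⟨s, hs⟩ := h1 _ ha'
  exact ⟨r - s, by rw [map_sub, hr, hs, map_sub, sub_sub_cancel]⟩

/-- A compatible system of surjections with the right dimensions is an isomorphism on completions. -/
theorem exists_iso_completion {R A : Type u} [CommRing R] [Algebra k R] [IsLocalRing R]
    [IsAdicComplete (maximalIdeal R) R] [CommRing A] [Algebra k A] (m : Ideal A) [m.IsMaximal]
    (G : ∀ n, R →ₐ[k] A ⧸ m ^ n)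
    (hG : ∀ {a b : ℕ} (h : a ≤ b) (r : R), Ideal.Quotient.factor (Ideal.pow_le_pow_right h) (G b r) = G a r)
    (hGs : ∀ n, Surjective (G n))
    (hfin : ∀ n, Module.Finite k (A ⧸ m ^ n) ∧ Module.Finite k (R ⧸ maximalIdeal R ^ n) ∧
        Module.finrank k (R ⧸ maximalIdeal R ^ n) = Module.finrank k (A ⧸ m ^ n)) :
    ∃ α : R ≃+* AdicCompletion m A, ∀ n r, AdicCompletion.evalₐ m n (α r) = G n r := by
  classical
  have hG0 : ∀ n, ∀ r ∈ maximalIdeal R ^ n, G n r = 0 := by
    intro n r hr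
    rcases n with - | n
    · haveI : Subsingleton (A ⧸ m ^ 0) := by rw [pow_zero, Ideal.one_eq_top]; infer_instance
      exact Subsingleton.elim _ _
    have h1 : (maximalIdeal R).map (G (n + 1)).toRingHom ≤ m.map (Ideal.Quotient.mk (m ^ (n + 1))) := by
      haveI : (m.map (Ideal.Quotient.mk (m ^ (n + 1)))).IsMaximal :=
        (Ideal.map_eq_top_or_isMaximal_of_surjective _ Ideal.Quotient.mk_surjective ‹m.IsMaximal›).resolve_left fun h =>
          (‹m.IsMaximal›).ne_top ((Ideal.comap_map_mk (Ideal.pow_le_self n.succ_ne_zero : m ^ (n + 1) ≤ m)).symm.trans (by rw [h, Ideal.comap_top]))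
      haveI := Ideal.comap_isMaximal_of_surjective (G (n + 1)).toRingHom (K := m.map (Ideal.Quotient.mk (m ^ (n + 1)))) (hGs (n + 1))
      rw [Ideal.map_le_iff_le_comap]
      exact le_of_eq (IsLocalRing.eq_maximalIdeal inferInstance).symm
    have h2 := Ideal.pow_right_mono h1 (n + 1)
    rw [← Ideal.map_pow, ← Ideal.map_pow, Ideal.map_quotient_self, le_bot_iff] at h2
    exact Ideal.mem_bot.1 (h2 ▸ Ideal.mem_map_of_mem (G (n + 1)).toRingHom hr)
  have hGker : ∀ n r, G n r = 0 → r ∈ maximalIdeal R ^ n := fun n r hr => by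
    haveI := (hfin n).1
    haveI := (hfin n).2.1
    let g : (R ⧸ maximalIdeal R ^ n) →ₗ[k] A ⧸ m ^ n :=
      (Ideal.Quotient.liftₐ (maximalIdeal R ^ n) (G n) (hG0 n)).toLinearMap
    have hgs : Surjective g := fun z => by
      obtain ⟨r, rfl⟩ := hGs n z
      exact ⟨Ideal.Quotient.mk _ r, rfl⟩
    have hgi : Injective g := (LinearMap.injective_iff_surjective_of_finrank_eq_finrank (hfin n).2.2).2 hgs
    refine Ideal.Quotient.eq_zero_iff_mem.1 (hgi ?_)
    rw [map_zero]
    exact hr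
  let α₀ : R →+* AdicCompletion m A := AdicCompletion.liftRingHom m (fun n => (G n).toRingHom)
    fun {a b} h => RingHom.ext fun r => hG h r
  have hev : ∀ n r, AdicCompletion.evalₐ m n (α₀ r) = G n r := fun n r =>
    AdicCompletion.evalₐ_liftRingHom _ _ _ n r
  have hsep : ∀ z : R, (∀ n, z ∈ maximalIdeal R ^ n) → z = 0 := fun z hz =>
    IsHausdorff.haus (inferInstance : IsHausdorff (maximalIdeal R) R) z fun n => by
      rw [SModEq.zero, smul_eq_mul, Ideal.mul_top]
      exact hz n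
  have hbij : Bijective α₀ := by
    refine ⟨(injective_iff_map_eq_zero α₀).2 fun r hr => hsep r fun n => hGker n r ?_, fun t => ?_⟩
    · rw [← hev, hr, map_zero]
    choose r hr using fun n => hGs n (AdicCompletion.evalₐ m n t)
    have hc : ∀ {a b : ℕ}, a ≤ b → r a - r b ∈ maximalIdeal R ^ a := fun {a b} h => by
      refine hGker a _ ?_
      rw [map_sub, hr, ← hG h, hr, sub_eq_zero]
      obtain ⟨s, rfl⟩ := AdicCompletion.mk_surjective m A t
      rw [AdicCompletion.evalₐ_mk, AdicCompletion.evalₐ_mk, Ideal.Quotient.factor_mk, Ideal.Quotient.mk_eq_mk_iff_sub_mem]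
      have := s.2 h
      rw [SModEq.sub_mem, smul_eq_mul, Ideal.mul_top] at this
      exact this
    obtain ⟨L, hL⟩ := IsPrecomplete.prec (inferInstance : IsPrecomplete (maximalIdeal R) R) (f := r) fun {a b} h => by
      rw [SModEq.sub_mem, smul_eq_mul, Ideal.mul_top]
      exact hc h
    refine ⟨L, AdicCompletion.ext_evalₐ fun n => ?_⟩
    rw [hev, ← hr n, ← sub_eq_zero, ← map_sub]
    refine hG0 n _ ?_
    have := hL n
    rw [SModEq.sub_mem, smul_eq_mul, Ideal.mul_top] at this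
    rw [← neg_sub]
    exact neg_mem this
  exact ⟨RingEquiv.ofBijective α₀ hbij, hev⟩

/-- reduction `A / m ^ b → A / m ^ a` -/
noncomputable def fac {A : Type u} [CommRing A] [Algebra k A] (m : Ideal A) {a b : ℕ} (h : a ≤ b) :
    (A ⧸ m ^ b) →ₐ[k] A ⧸ m ^ a := Ideal.Quotient.factorₐ k (Ideal.pow_le_pow_right h)

theorem fac_mk {A : Type u} [CommRing A] [Algebra k A] (m : Ideal A) {a b : ℕ} (h : a ≤ b) (x : A) :
    fac (k := k) m h (Ideal.Quotient.mk _ x) = Ideal.Quotient.mk _ x := rfl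

theorem fac_fac {A : Type u} [CommRing A] [Algebra k A] (m : Ideal A) {a b c : ℕ} (h : a ≤ b) (h' : b ≤ c)
    (x : A ⧸ m ^ c) : fac (k := k) m h (fac (k := k) m h' x) = fac (k := k) m (h.trans h') x := by
  obtain ⟨x, rfl⟩ := Ideal.Quotient.mk_surjective x
  rfl

/-- one step of the versal lifting -/
theorem exists_step {F : CommAlgCat.{u} k ⥤ Type u} {R : Type u} [CommRing R] [Algebra k R]
    {ξ : F.obj (CommAlgCat.of k R)}
    (hvers : ∀ (B B₀ : Type u) [CommRing B] [Algebra k B] [IsLocalRing B] [IsArtinianRing B]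
        [CommRing B₀] [Algebra k B₀] [IsLocalRing B₀] [IsArtinianRing B₀],
        Surjective (fun c : k => IsLocalRing.residue B (algebraMap k B c)) →
        ∀ (π : B →ₐ[k] B₀), Surjective π →
          ∀ (g₀ : R →ₐ[k] B₀) (y : F.obj (CommAlgCat.of k B)),
            F.map (CommAlgCat.ofHom π) y = F.map (CommAlgCat.ofHom g₀) ξ →
              ∃ g : R →ₐ[k] B, π.comp g = g₀ ∧ F.map (CommAlgCat.ofHom g) ξ = y)
    {A : Type u} [CommRing A] [Algebra k A] (m : Ideal A) [m.IsMaximal]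
    (hkm : Surjective (fun c : k => Ideal.Quotient.mk m (algebraMap k A c)))
    (hfin : ∀ n, Module.Finite k (A ⧸ m ^ n)) (η : F.obj (CommAlgCat.of k A))
    (j : ℕ) (g₀ : R →ₐ[k] A ⧸ m ^ (j + 2))
    (hg₀ : F.map (CommAlgCat.ofHom g₀) ξ = F.map (CommAlgCat.ofHom (Ideal.Quotient.mkₐ k (m ^ (j + 2)))) η) :
    ∃ g : R →ₐ[k] A ⧸ m ^ (j + 3), (fac m (Nat.le_succ (j + 2))).comp g = g₀ ∧
      F.map (CommAlgCat.ofHom g) ξ = F.map (CommAlgCat.ofHom (Ideal.Quotient.mkₐ k (m ^ (j + 3)))) η := by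
  haveI : IsLocalRing (A ⧸ m ^ (j + 2)) := isLocalRing_quotient_pow m (j + 1)
  haveI : IsLocalRing (A ⧸ m ^ (j + 3)) := isLocalRing_quotient_pow m (j + 2)
  haveI := hfin (j + 2)
  haveI := hfin (j + 3)
  haveI : IsArtinianRing (A ⧸ m ^ (j + 2)) := isArtinian_of_tower k inferInstance
  haveI : IsArtinianRing (A ⧸ m ^ (j + 3)) := isArtinian_of_tower k inferInstance
  refine hvers (A ⧸ m ^ (j + 3)) (A ⧸ m ^ (j + 2)) ?_ (fac m (Nat.le_succ (j + 2))) ?_ g₀ _ ?_
  · intro z
    obtain ⟨z, rfl⟩ := IsLocalRing.residue_surjective z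
    obtain ⟨a, rfl⟩ := Ideal.Quotient.mk_surjective z
    obtain ⟨c, hc⟩ := hkm (Ideal.Quotient.mk m a)
    refine ⟨c, (Ideal.Quotient.mk_eq_mk_iff_sub_mem _ _).2 ?_⟩
    rw [show (algebraMap k (A ⧸ m ^ (j + 3))) c = Ideal.Quotient.mk _ (algebraMap k A c) from rfl, ← map_sub,
      IsLocalRing.mem_maximalIdeal, mem_nonunits_iff]
    intro hu
    have h2 := hu.map (Ideal.Quotient.factor (Ideal.pow_le_self (show j + 3 ≠ 0 by omega)) : A ⧸ m ^ (j + 3) →+* A ⧸ m)
    rw [Ideal.Quotient.factor_mk, Ideal.Quotient.eq_zero_iff_mem.2 ((Ideal.Quotient.mk_eq_mk_iff_sub_mem _ _).1 hc)] at h2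
    exact not_isUnit_zero h2
  · exact Ideal.Quotient.factor_surjective (Ideal.pow_le_pow_right (Nat.le_succ (j + 2)))
  · rw [hg₀, ← Functor.map_comp_apply]
    congr 3

theorem exists_chain {F : CommAlgCat.{u} k ⥤ Type u} {R : Type u} [CommRing R] [Algebra k R]
    {ξ : F.obj (CommAlgCat.of k R)}
    (hvers : ∀ (B B₀ : Type u) [CommRing B] [Algebra k B] [IsLocalRing B] [IsArtinianRing B]
        [CommRing B₀] [Algebra k B₀] [IsLocalRing B₀] [IsArtinianRing B₀],
        Surjective (fun c : k => IsLocalRing.residue B (algebraMap k B c)) →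
        ∀ (π : B →ₐ[k] B₀), Surjective π →
          ∀ (g₀ : R →ₐ[k] B₀) (y : F.obj (CommAlgCat.of k B)),
            F.map (CommAlgCat.ofHom π) y = F.map (CommAlgCat.ofHom g₀) ξ →
              ∃ g : R →ₐ[k] B, π.comp g = g₀ ∧ F.map (CommAlgCat.ofHom g) ξ = y)
    {A : Type u} [CommRing A] [Algebra k A] (m : Ideal A) [m.IsMaximal]
    (hkm : Surjective (fun c : k => Ideal.Quotient.mk m (algebraMap k A c)))
    (hfin : ∀ n, Module.Finite k (A ⧸ m ^ n)) (η : F.obj (CommAlgCat.of k A))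
    (G₀ : R →ₐ[k] A ⧸ m ^ 2) (hG₀s : Surjective G₀)
    (hG₀ : F.map (CommAlgCat.ofHom G₀) ξ = F.map (CommAlgCat.ofHom (Ideal.Quotient.mkₐ k (m ^ 2))) η) :
    ∃ G : ∀ n, R →ₐ[k] A ⧸ m ^ n,
      (∀ {a b : ℕ} (h : a ≤ b) (r : R), Ideal.Quotient.factor (Ideal.pow_le_pow_right h) (G b r) = G a r) ∧
      (∀ n, Surjective (G n)) ∧
      ∀ n, F.map (CommAlgCat.ofHom (G n)) ξ = F.map (CommAlgCat.ofHom (Ideal.Quotient.mkₐ k (m ^ n))) η := by
  classical
  choose nx hn1 hn2 using exists_step hvers m hkm hfin η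
  let seq : (j : ℕ) → {g : R →ₐ[k] A ⧸ m ^ (j + 2) //
      F.map (CommAlgCat.ofHom g) ξ = F.map (CommAlgCat.ofHom (Ideal.Quotient.mkₐ k (m ^ (j + 2)))) η} :=
    fun j => Nat.rec ⟨G₀, hG₀⟩ (fun j g => ⟨nx j g.1 g.2, hn2 j g.1 g.2⟩) j
  have hsucc : ∀ j r, fac (k := k) m (Nat.le_succ (j + 2)) ((seq (j + 1)).1 r) = (seq j).1 r := fun j r =>
    AlgHom.congr_fun (hn1 j _ (seq j).2) r
  have hfac : ∀ i d (h : i + 2 ≤ i + d + 2) (r : R), fac (k := k) m h ((seq (i + d)).1 r) = (seq i).1 r := by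
    intro i d
    induction d with
    | zero =>
      intro h r
      obtain ⟨a, ha⟩ := Ideal.Quotient.mk_surjective ((seq i).1 r)
      show fac (k := k) m h ((seq i).1 r) = _
      rw [← ha]
      rfl
    | succ d ih =>
      intro h r
      rw [← ih (by omega) r, ← hsucc (i + d) r, fac_fac]
      rfl
  let G : ∀ n, R →ₐ[k] A ⧸ m ^ n := fun n => (fac m (Nat.le_add_right n 2)).comp (seq n).1
  refine ⟨G, fun {a b} h r => ?_, fun n => ?_, fun n => ?_⟩
  · obtain ⟨d, rfl⟩ := Nat.le.dest h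
    show fac (k := k) m h (fac (k := k) m (Nat.le_add_right (a + d) 2) ((seq (a + d)).1 r)) =
      fac (k := k) m (Nat.le_add_right a 2) ((seq a).1 r)
    rw [← hfac a d (by omega) r, fac_fac, fac_fac]
  · have hsurj : ∀ j, Surjective (seq j).1 := fun j => by
      induction j with
      | zero => exact hG₀s
      | succ j ih =>
        exact surjective_of_lift m j (seq (j + 1)).1.toRingHom (seq j).1.toRingHom (RingHom.ext (hsucc j)) ih
    exact (Ideal.Quotient.factor_surjective (Ideal.pow_le_pow_right (Nat.le_add_right n 2))).comp (hsurj n)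
  · rw [show CommAlgCat.ofHom (G n) = CommAlgCat.ofHom (seq n).1 ≫ CommAlgCat.ofHom (fac m (Nat.le_add_right n 2)) from rfl,
      Functor.map_comp_apply, (seq n).2, ← Functor.map_comp_apply]
    congr 3

theorem exists_algebraization (F : CommAlgCat.{u} k ⥤ Type u)
    (hF : ∀ (J : Type u) [SmallCategory J] [IsFiltered J], Limits.PreservesColimitsOfShape J F)
    (R : Type u) [CommRing R] [Algebra k R] [IsLocalRing R] [IsNoetherianRing R]
    [IsAdicComplete (maximalIdeal R) R]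
    (hres : Surjective (fun c : k => IsLocalRing.residue R (algebraMap k R c)))
    (ξ : F.obj (CommAlgCat.of k R))
    (hvers : ∀ (B B₀ : Type u) [CommRing B] [Algebra k B] [IsLocalRing B] [IsArtinianRing B]
        [CommRing B₀] [Algebra k B₀] [IsLocalRing B₀] [IsArtinianRing B₀],
        Surjective (fun c : k => IsLocalRing.residue B (algebraMap k B c)) →
        ∀ (π : B →ₐ[k] B₀), Surjective π →
          ∀ (g₀ : R →ₐ[k] B₀) (y : F.obj (CommAlgCat.of k B)),
            F.map (CommAlgCat.ofHom π) y = F.map (CommAlgCat.ofHom g₀) ξ →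
              ∃ g : R →ₐ[k] B, π.comp g = g₀ ∧ F.map (CommAlgCat.ofHom g) ξ = y) :
    ∃ (A : Type u) (_ : CommRing A) (_ : Algebra k A) (_ : Algebra.FiniteType k A)
      (m : Ideal A) (_ : m.IsMaximal)
      (_ : Surjective (fun c : k => Ideal.Quotient.mk m (algebraMap k A c)))
      (η : F.obj (CommAlgCat.of k A))
      (α : R ≃+* AdicCompletion m A),
      (∀ c : k, α (algebraMap k R c) = algebraMap A (AdicCompletion m A) (algebraMap k A c)) ∧
      ∀ (n : ℕ) (ψ : R →ₐ[k] A ⧸ m ^ (n + 1)),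
        ψ.toRingHom = (AdicCompletion.evalₐ m (n + 1) :
            AdicCompletion m A →ₐ[A] A ⧸ m ^ (n + 1)).toRingHom.comp α.toRingHom →
          F.map (CommAlgCat.ofHom ψ) ξ = F.map (CommAlgCat.ofHom (Ideal.Quotient.mkₐ k (m ^ (n + 1)))) η := by
  obtain ⟨A, _, _, hA, m, hm, hkm, η, φ, hφ, hfin, -⟩ := AlgebraizeGraded.exists_algebraization F hF R hres ξ 1
  haveI := hm
  obtain ⟨G, hG, hGs, hGF⟩ := exists_chain hvers m hkm (fun n => (hfin n).1) η
    (φ.toAlgHom.comp (Ideal.Quotient.mkₐ k (maximalIdeal R ^ 2))) (φ.surjective.comp Ideal.Quotient.mk_surjective) hφ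
  obtain ⟨α, hα⟩ := exists_iso_completion m G (fun h r => hG h r) hGs hfin
  refine ⟨A, inferInstance, inferInstance, hA, m, hm, hkm, η, α, fun c => ?_, fun n ψ hψ => ?_⟩
  · refine AdicCompletion.ext_evalₐ fun n => ?_
    rw [hα, AlgHom.commutes, AlgHom.commutes]
    rfl
  · have h1 : ψ = G (n + 1) := AlgHom.ext fun r =>
      ((RingHom.congr_fun hψ r).trans (hα (n + 1) r))
    rw [h1]
    exact hGF (n + 1)

end Groth.Agent.CAlgH.AlgebraizeVersal
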