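import Groth.Agent.CAlgH.Approximation
import Groth.Agent.CAlgH.GRingMaximal
import Groth.Agent.HenselLib.FlatQuot
import Mathlib.RingTheory.Unramified.LocalRing
import Mathlib

/-! Artin approximation at a point of a finite type scheme over a local G-ring. -/

set_option autoImplicit false
set_option linter.style.haveILetI false
universe u

open IsLocalRing

namespace Groth.Agent.CAlgH.ApproximationLocal

/-- Essentially finite type algebras over G-rings are G-rings. -/
theorem isGRing_of_essFiniteType {A R : Type u} [CommRing A] (hA : CAlg.IsGRing A) [CommRing R] [Algebra A R]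
    [Algebra.EssFiniteType A R] : CAlg.IsGRing R :=
  isGRing_localization (Algebra.EssFiniteType.submonoid A R) R
    (isGRing_of_finiteType A hA (Algebra.EssFiniteType.subalgebra A R))

/-- A formal point is approximated by a point of an étale algebra with trivial residue extension. -/
theorem exists_etale_local {C₀ R : Type u} [CommRing C₀] [IsNoetherianRing C₀] [CommRing R] [IsLocalRing R]
    [IsNoetherianRing R] [Algebra C₀ R] (p : Ideal C₀) [p.IsPrime] [IsLocalization.AtPrime R p]
    (hR : CAlg.IsGRing R) {D : Type u} [CommRing D] [Algebra C₀ D] [Algebra.FinitePresentation C₀ D]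
    (φ : D →ₐ[C₀] AdicCompletion (maximalIdeal R) R) (N : ℕ) :
    ∃ (C' : Type u) (_ : CommRing C') (_ : Algebra C₀ C'), Algebra.Etale C₀ C' ∧
      ∃ (γ : D →ₐ[C₀] C') (Q : Ideal C') (_ : Q.IsPrime), Q.comap (algebraMap C₀ C') = p ∧
        ∀ (R' : Type u) [CommRing R'] [IsLocalRing R'] [Algebra C' R'] [IsLocalization.AtPrime R' Q]
          (ι : R →+* R'), ι.comp (algebraMap C₀ R) = (algebraMap C' R').comp (algebraMap C₀ C') →
          (∀ z : R', ∃ r : R, z - ι r ∈ maximalIdeal R') ∧
          ∀ (d : D) (c : R), AdicCompletion.evalₐ (maximalIdeal R) N (φ d) =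
              Ideal.Quotient.mk (maximalIdeal R ^ N) c →
            algebraMap C' R' (γ d) - ι c ∈ maximalIdeal R' ^ N := by
  let T := AdicCompletion (maximalIdeal R) R
  haveI : IsNoetherianRing T := Matlis6.isNoetherianRing_adicCompletion _
  haveI := EtaleApprox.isAdicComplete_cpl R
  have hmT : maximalIdeal T = (maximalIdeal R).map (algebraMap R T) := AdicCompletion.maximalIdeal_eq_map
  have hreg : CAlg.IsRegularHom C₀ T :=
    isRegularHom_localization_comp C₀ R T p.primeCompl (isRegularHom_adicCompletion_of_isGRing R hR _)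
  have hM : ∀ s ∈ p.primeCompl, IsUnit (algebraMap C₀ T s) := fun s hs => by
    rw [IsScalarTower.algebraMap_apply C₀ R T]
    exact (IsLocalization.map_units R (⟨s, hs⟩ : p.primeCompl)).map _
  have hdense : ∀ (j : ℕ) (y : T), ∃ r : C₀, ∃ s ∈ p.primeCompl,
      algebraMap C₀ T s * y - algebraMap C₀ T r ∈ maximalIdeal T ^ j := fun j y => by
    obtain ⟨a, ha⟩ := EtaleApprox.exists_sub_mem R j y
    obtain ⟨⟨r, s⟩, hrs⟩ := IsLocalization.surj p.primeCompl a
    refine ⟨r, s, s.2, ?_⟩
    rw [IsScalarTower.algebraMap_apply C₀ R T r, ← hrs, map_mul, ← IsScalarTower.algebraMap_apply,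
      mul_comm (algebraMap R T a), ← mul_sub]
    exact Ideal.mul_mem_left _ _ ha
  obtain ⟨C', _, _, hC', ψ, γ, hψ⟩ := Approximation.exists_etale_factor hreg p.primeCompl hM hdense D φ N
  have hmR : (maximalIdeal T).comap (algebraMap R T) = maximalIdeal R := by
    refine (((IsLocalRing.maximalIdeal.isMaximal R).eq_of_le (Ideal.IsPrime.comap _).ne_top ?_)).symm
    rw [hmT]
    exact Ideal.le_comap_map
  have hQp : ((maximalIdeal T).comap ψ.toRingHom).comap (algebraMap C₀ C') = p := by
    rw [Ideal.comap_comap]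
    show (maximalIdeal T).comap (ψ.toRingHom.comp (algebraMap C₀ C')) = p
    rw [show ψ.toRingHom.comp (algebraMap C₀ C') = algebraMap C₀ T from ψ.comp_algebraMap, IsScalarTower.algebraMap_eq C₀ R T, ← Ideal.comap_comap, hmR]
    exact IsLocalization.AtPrime.under_maximalIdeal R p
  refine ⟨C', inferInstance, inferInstance, hC', γ, (maximalIdeal T).comap ψ.toRingHom,
    Ideal.IsPrime.comap _, hQp, fun R' _ _ _ _ ι hι => ?_⟩
  let Q := (maximalIdeal T).comap ψ.toRingHom
  let Ψ : R' →+* T := IsLocalization.lift (M := Q.primeCompl) (g := ψ.toRingHom) fun y => by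
    by_contra hu
    exact y.2 ((mem_maximalIdeal _).2 hu)
  have hΨ : ∀ x, Ψ (algebraMap C' R' x) = ψ x := fun x => IsLocalization.lift_eq _ x
  have hΨι : Ψ.comp ι = algebraMap R T := by
    refine IsLocalization.ringHom_ext p.primeCompl ?_
    rw [RingHom.comp_assoc, hι, ← RingHom.comp_assoc]
    refine RingHom.ext fun x => ?_
    show Ψ (algebraMap C' R' (algebraMap C₀ C' x)) = algebraMap R T (algebraMap C₀ R x)
    rw [hΨ, ψ.commutes]
    exact IsScalarTower.algebraMap_apply C₀ R T x
  have hΨu : ∀ z ∉ maximalIdeal R', Ψ z ∉ maximalIdeal T := fun z hz => by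
    rw [mem_maximalIdeal, mem_nonunits_iff, not_not] at hz ⊢
    exact hz.map Ψ
  have hres : ∀ z : R', ∃ r : R, z - ι r ∈ maximalIdeal R' := fun z => by
    obtain ⟨r, hr⟩ := EtaleApprox.exists_sub_mem R 1 (Ψ z)
    rw [pow_one] at hr
    refine ⟨r, by_contra fun h => hΨu _ h ?_⟩
    rwa [map_sub, ← RingHom.comp_apply Ψ ι, hΨι]
  refine ⟨hres, fun d c hc => ?_⟩
  have hloc : IsLocalHom ι := ⟨fun r hr => by
    have h2 : IsUnit (Ψ (ι r)) := hr.map Ψ
    rw [← RingHom.comp_apply Ψ ι, hΨι] at h2
    by_contra hu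
    exact (mem_maximalIdeal _).1 (hmR.ge ((mem_maximalIdeal r).2 hu)) h2⟩
  letI : Algebra R R' := ι.toAlgebra
  letI : Algebra C₀ R' := ((algebraMap C' R').comp (algebraMap C₀ C')).toAlgebra
  haveI : IsScalarTower C₀ C' R' := IsScalarTower.of_algebraMap_eq fun _ => rfl
  haveI : IsScalarTower C₀ R R' := IsScalarTower.of_algebraMap_eq fun x => (congr($hι x)).symm
  haveI : IsLocalHom (algebraMap R R') := hloc
  haveI := hC'
  haveI : Algebra.FormallyUnramified C' R' := Algebra.FormallyUnramified.of_isLocalization Q.primeCompl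
  haveI : Algebra.FormallyUnramified C₀ R' := Algebra.FormallyUnramified.comp C₀ C' R'
  haveI : Algebra.FormallyUnramified R R' := Algebra.FormallyUnramified.of_restrictScalars C₀ R R'
  haveI : Algebra.EssFiniteType C' R' := Algebra.EssFiniteType.of_isLocalization R' Q.primeCompl
  haveI : Algebra.EssFiniteType C₀ R' := Algebra.EssFiniteType.comp C₀ C' R'
  haveI : Algebra.EssFiniteType R R' := Algebra.EssFiniteType.of_comp C₀ R R'
  have hmR' : (maximalIdeal R).map (algebraMap R R') = maximalIdeal R' :=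
    Algebra.FormallyUnramified.map_maximalIdeal
  have hq : Function.Bijective (Ideal.quotientMap ((maximalIdeal R).map (algebraMap R R'))
      (algebraMap R R') (Ideal.le_comap_map (I := maximalIdeal R))) := by
    refine ⟨Ideal.quotientMap_injective' fun r hr => ?_, fun y => ?_⟩
    · rw [Ideal.mem_comap, hmR', mem_maximalIdeal] at hr
      exact (mem_maximalIdeal r).2 fun h => hr (h.map _)
    · obtain ⟨z, rfl⟩ := Ideal.Quotient.mk_surjective y
      obtain ⟨r, hr⟩ := hres z
      refine ⟨Ideal.Quotient.mk _ r, ?_⟩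
      rw [Ideal.quotientMap_mk]
      exact (Ideal.Quotient.eq.2 (by rw [hmR']; exact hr)).symm
  set z := algebraMap C' R' (γ d) - ι c with hz
  obtain ⟨r, hr⟩ := HenselLib.FlatQuot.exists_sub_mem hq N z
  have hTle : ((maximalIdeal R ^ N).map (algebraMap R R')).map Ψ ≤ maximalIdeal T ^ N := by
    rw [Ideal.map_map, show Ψ.comp (algebraMap R R') = algebraMap R T from hΨι, Ideal.map_pow, hmT]
  have h1 : Ψ z ∈ maximalIdeal T ^ N := by
    rw [hz, map_sub, hΨ, ← RingHom.comp_apply Ψ ι, hΨι,
      show ψ (γ d) - algebraMap R T c = (ψ (γ d) - φ d) + (φ d - algebraMap R T c) by ring]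
    refine add_mem (hψ d) ?_
    rw [hmT, ← Ideal.map_pow]
    refine Approximation.mem_map_pow (maximalIdeal R).fg_of_isNoetherianRing ?_
    rw [map_sub, AlgHom.commutes, sub_eq_zero]
    exact hc
  have h2 : algebraMap R T r ∈ maximalIdeal T ^ N := by
    rw [← congr($hΨι r), RingHom.comp_apply]
    show Ψ (algebraMap R R' r) ∈ _
    rw [show algebraMap R R' r = z - (z - algebraMap R R' r) by ring, map_sub]
    exact sub_mem h1 (hTle (Ideal.mem_map_of_mem Ψ hr))
  have h3 : r ∈ maximalIdeal R ^ N := by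
    rw [hmT, ← Ideal.map_pow] at h2
    have h := Approximation.evalₐ_eq_zero h2
    rw [AlgHom.commutes] at h
    exact Ideal.Quotient.eq_zero_iff_mem.1 h
  rw [← hmR', ← Ideal.map_pow, show z = (z - algebraMap R R' r) + algebraMap R R' r by ring]
  exact add_mem hr (Ideal.mem_map_of_mem _ h3)

end Groth.Agent.CAlgH.ApproximationLocal
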