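import Groth.Agent.CAlgH.Approximation
import Groth.Agent.CAlgMisc2.Nbhd
import Groth.Agent.HenselLib.FlatQuot
import Mathlib

/-! Artin approximation in étale neighbourhoods of a pair. -/

set_option autoImplicit false
set_option linter.style.haveILetI false
universe u

open IsLocalRing
open scoped TensorProduct

namespace Groth.Agent.CAlgH.ApproximationPair

/-- Points of smooth algebras modulo a power of an ideal lift to étale neighbourhoods of the pair. -/
theorem exists_nbhd_of_smooth {C : Type u} [CommRing C] (J : Ideal C) (k : ℕ) {S : Type u} [CommRing S]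
    [Algebra C S] [Algebra.Smooth C S] (σ : S →ₐ[C] C ⧸ J ^ (k + 1)) :
    ∃ (C' : Type u) (_ : CommRing C') (_ : Algebra C C'), Algebra.Etale C C' ∧
      Function.Bijective (HenselLib.quotθ J C') ∧
      ∃ ψ : S →ₐ[C] C', ∀ (x : S) (c : C), σ x = Ideal.Quotient.mk (J ^ (k + 1)) c →
        ψ x - algebraMap C C' c ∈ (J ^ (k + 1)).map (algebraMap C C') := by
  let H := HenselLib.PairH C J
  haveI hH : HenselianRing H (J.map (algebraMap C H)) := (HenselLib.isPairHull_pairH C J).1
  let K : Ideal H := (J ^ (k + 1)).map (algebraMap C H)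
  haveI : HenselianRing H K := HenselLib.henselianRing_of_le
    (show K ≤ J.map (algebraMap C H) from Ideal.map_mono (Ideal.pow_le_self (Nat.succ_ne_zero k)))
  let θ : (C ⧸ J ^ (k + 1)) →ₐ[C] H ⧸ K :=
    Ideal.Quotient.liftₐ (J ^ (k + 1)) (Algebra.ofId C (H ⧸ K)) fun c hc =>
      Ideal.Quotient.eq_zero_iff_mem.2 (Ideal.mem_map_of_mem _ hc)
  obtain ⟨τ₀, hτ₀⟩ := HenselLib.exists_lift_of_smooth (B := H ⊗[C] S) K
    (Algebra.TensorProduct.lift (Algebra.ofId H (H ⧸ K)) (θ.comp σ) fun _ _ => Commute.all _ _)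
  let τ : S →ₐ[C] H := (τ₀.restrictScalars C).comp Algebra.TensorProduct.includeRight
  have hτ : ∀ x, Ideal.Quotient.mk K (τ x) = θ (σ x) := fun x => by
    have h := congr($hτ₀ ((1 : H) ⊗ₜ[C] x))
    rw [Algebra.TensorProduct.lift_tmul, map_one, one_mul] at h
    exact h
  obtain ⟨Q, ψ, hQ, hψ⟩ := CAlgMisc2.exists_stage_hom τ
  refine ⟨Q.Ring, inferInstance, inferInstance, inferInstance, HenselLib.bijective_quotθ_of_ker J Q.pt hQ,
    ψ, fun x c hc => ?_⟩
  obtain ⟨c', hc'⟩ := HenselLib.FlatQuot.exists_sub_mem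
    (HenselLib.bijective_quotθ_of_ker J Q.pt hQ) (k + 1) (ψ x)
  haveI : HenselianRing (C ⧸ J ^ (k + 1)) (J.map (Ideal.Quotient.mk (J ^ (k + 1)))) :=
    HenselLib.henselianRing_of_nilpotent _ fun y hy => by
      refine ⟨k + 1, ?_⟩
      have := Ideal.pow_mem_pow hy (k + 1)
      rwa [← Ideal.map_pow, Ideal.map_quotient_self, Ideal.mem_bot] at this
  obtain ⟨π₀, hπ₀, -⟩ := (HenselLib.isPairHull_pairH C J).2 (C ⧸ J ^ (k + 1)) _
    (Ideal.Quotient.mk (J ^ (k + 1))) inferInstance le_rfl
  let π : H →ₐ[C] C ⧸ J ^ (k + 1) := { π₀ with commutes' := fun r => congr($hπ₀ r) }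
  have hπK : ∀ y ∈ K, π y = 0 := fun y hy => by
    have h := HenselLib.mem_map_algHom π (J ^ (k + 1)) hy
    rw [show (J ^ (k + 1)).map (algebraMap C (C ⧸ J ^ (k + 1))) = ⊥ from Ideal.map_quotient_self _] at h
    exact h
  have h1 : π (τ x) = Ideal.Quotient.mk (J ^ (k + 1)) c := by
    have h2 : Ideal.Quotient.mk K (τ x) = Ideal.Quotient.mk K (algebraMap C H c) := by
      rw [hτ, hc]
      rfl
    have h3 := hπK _ (Ideal.Quotient.eq.1 h2)
    rw [map_sub, π.commutes, sub_eq_zero] at h3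
    exact h3
  have h4 : π (τ x) = Ideal.Quotient.mk (J ^ (k + 1)) c' := by
    have h5 := hπK _ (HenselLib.mem_map_algHom (HenselLib.ι Q) (J ^ (k + 1)) hc')
    rw [map_sub, AlgHom.commutes, map_sub, π.commutes, sub_eq_zero] at h5
    rw [← hψ]
    exact h5
  have h6 : c - c' ∈ J ^ (k + 1) := Ideal.Quotient.eq.1 (h1.symm.trans h4)
  rw [show ψ x - algebraMap C Q.Ring c = (ψ x - algebraMap C Q.Ring c') - algebraMap C Q.Ring (c - c') by
    rw [map_sub]; ring]
  exact sub_mem hc' (Ideal.mem_map_of_mem _ h6)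

/-- Formal maps between completions are approximated on étale neighbourhoods. -/
theorem exists_etale_approx {A : Type u} [CommRing A] (hA : CAlg.IsGRing A) {C : Type u} [CommRing C]
    [Algebra A C] [Algebra.FiniteType A C] (J : Ideal C) {B : Type u} [CommRing B] [Algebra A B]
    [Algebra.FiniteType A B] (φ : B →ₐ[A] AdicCompletion J C) (k : ℕ) :
    ∃ (C' : Type u) (_ : CommRing C') (_ : Algebra C C') (_ : Algebra A C') (_ : IsScalarTower A C C'),
      Algebra.Etale C C' ∧ Function.Bijective (HenselLib.quotθ J C') ∧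
      ∃ ψ : B →ₐ[A] C', ∀ (b : B) (c : C),
        AdicCompletion.evalₐ J (k + 1) (φ b) = Ideal.Quotient.mk (J ^ (k + 1)) c →
          ψ b - algebraMap C C' c ∈ (J ^ (k + 1)).map (algebraMap C C') := by
  haveI := hA.1
  haveI : IsNoetherianRing C := Algebra.FiniteType.isNoetherianRing A C
  haveI : IsNoetherianRing (AdicCompletion J C) := Matlis6.isNoetherianRing_adicCompletion _
  have hreg := isRegularHom_adicCompletion_of_isGRing C (isGRing_of_finiteType A hA C) J
  haveI : Algebra.FinitePresentation C (C ⊗[A] B) :=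
    Algebra.FinitePresentation.of_finiteType.1 inferInstance
  let φ' : C ⊗[A] B →ₐ[C] AdicCompletion J C :=
    Algebra.TensorProduct.lift (Algebra.ofId C _) φ fun _ _ => Commute.all _ _
  obtain ⟨S, _, _, hS, g, h, hgh⟩ :=
    Popescu.indSmooth_of_isRegularHom hreg (C ⊗[A] B) inferInstance φ'
  haveI := hS
  obtain ⟨C', _, _, hC', hb, ψ, hψ⟩ := exists_nbhd_of_smooth J k ((AdicCompletion.evalₐ J (k + 1)).comp h)
  letI : Algebra A C' := Algebra.compHom C' (algebraMap A C)
  haveI : IsScalarTower A C C' := IsScalarTower.of_algebraMap_eq fun _ => rfl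
  refine ⟨C', inferInstance, inferInstance, inferInstance, inferInstance, hC', hb,
    ((ψ.comp g).restrictScalars A).comp Algebra.TensorProduct.includeRight, fun b c hc => ?_⟩
  refine hψ (g ((1 : C) ⊗ₜ[A] b)) c ?_
  show AdicCompletion.evalₐ J (k + 1) (h (g ((1 : C) ⊗ₜ[A] b))) = _
  rw [← AlgHom.comp_apply h g, hgh, Algebra.TensorProduct.lift_tmul, map_one, one_mul]
  exact hc

end Groth.Agent.CAlgH.ApproximationPair
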