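import Groth.Agent.EGA41Lib.FieldSeparableSmooth
import Groth.Agent.HenselLib.FieldSmoothGR
import Mathlib

/-! Descent of Artinian local algebras over a field of characteristic `p` whose residue extension has
finite `H₁` of the cotangent complex to algebras essentially of finite type. -/

universe u

open IsLocalRing TensorProduct

namespace Groth.Agent.CAlgH.ArtinianDescent

open EGA41Lib EGA41Lib.PB

variable (p : ℕ) [Fact p.Prime]

/-- A `p`-basis of `k` splits into a part that stays `p`-independent in `K` and a finite part. -/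
theorem exists_finite_complement (k K : Type u) [Field k] [CharP k p] [Field K] [Algebra k K]
    (hH : Module.Finite K (Algebra.H1Cotangent k K)) :
    ∃ (B' : Set k) (B'' : Finset k),
      (LinearIndependent K fun b : B' => KaehlerDifferential.D ℤ K (algebraMap k K b.1)) ∧
      Algebra.adjoin (powAlg p ℤ k) (B' ∪ ↑B'' : Set k) = ⊤ := by
  classical
  obtain ⟨B, hB⟩ := EGA41Lib.PB.exists_pBasis p ℤ k
  obtain ⟨β, hβ⟩ := (EGA41Lib.PB.exists_basis_iff p ℤ (Subtype.val : B → k)).1
    ⟨hB.1, by rw [Subtype.range_coe]; exact hB.2⟩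
  let bK := Algebra.TensorProduct.basis K β
  let ψ := KaehlerDifferential.mapBaseChange ℤ k K
  obtain ⟨t, htsub, htspan, htli⟩ := exists_linearIndependent K (Set.range fun b : B => ψ (bK b))
  choose g hg using fun x : t => htsub x.2
  let T : Set B := Set.range g
  have hψ : ∀ b : B, ψ (bK b) = KaehlerDifferential.D ℤ K (algebraMap k K b.1) := by
    intro b
    simp only [bK, Algebra.TensorProduct.basis_apply, hβ, ψ, KaehlerDifferential.mapBaseChange_tmul,
      KaehlerDifferential.map_D, one_smul]
  have hTli : LinearIndependent K fun b : T => ψ (bK b.1) := by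
    have hgi : Function.Injective g := fun a a' h =>
      Subtype.ext ((hg a).symm.trans ((congrArg (fun b => ψ (bK b)) h).trans (hg a')))
    have : (fun b : T => ψ (bK b.1)) = (Subtype.val : t → _) ∘ (Equiv.ofInjective g hgi).symm := by
      funext b
      obtain ⟨_, x, rfl⟩ := b
      rw [Function.comp_apply, Equiv.ofInjective_symm_apply]
      exact hg x
    rw [this]
    exact htli.comp _ (Equiv.injective _)
  have hspan : ∀ b : B, ψ (bK b) ∈ Submodule.span K (ψ '' (bK '' T)) := by
    intro b
    have : ψ (bK b) ∈ Submodule.span K t := htspan ▸ Submodule.subset_span ⟨b, rfl⟩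
    refine Submodule.span_mono ?_ this
    intro x hx
    exact ⟨bK (g ⟨x, hx⟩), ⟨g ⟨x, hx⟩, ⟨_, rfl⟩, rfl⟩, hg ⟨x, hx⟩⟩
  have : Module.Finite K (LinearMap.range (Algebra.H1Cotangent.δ ℤ k K)) := inferInstance
  let π := (Finsupp.lsubtypeDomain (R := K) (M := K) {b : B | b ∉ T}) ∘ₗ bK.repr.toLinearMap
  have hsurj : Function.Surjective (π ∘ₗ (LinearMap.range (Algebra.H1Cotangent.δ ℤ k K)).subtype) := by
    rw [← LinearMap.range_eq_top, _root_.eq_top_iff, ← Finsupp.basisSingleOne.span_eq, Submodule.span_le]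
    rintro _ ⟨⟨b, hb⟩, rfl⟩
    have := hspan b
    rw [Submodule.span_image] at this
    obtain ⟨y, hy, hye⟩ := this
    have hker : bK b - y ∈ LinearMap.range (Algebra.H1Cotangent.δ ℤ k K) := by
      rw [LinearMap.mem_range]
      exact (Algebra.H1Cotangent.exact_δ_mapBaseChange ℤ k K _).1 (by rw [map_sub]; exact sub_eq_zero.2 hye.symm)
    refine ⟨⟨_, hker⟩, ?_⟩
    have hy' : bK.repr y ∈ Finsupp.supported K K T := bK.mem_span_image.1 hy
    ext c
    simp only [LinearMap.comp_apply, Submodule.subtype_apply, π, LinearEquiv.coe_coe, map_sub,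
      Finsupp.lsubtypeDomain_apply, Finsupp.subtypeDomain_apply, Finsupp.coe_sub, Pi.sub_apply,
      Module.Basis.repr_self, Finsupp.coe_basisSingleOne]
    rw [(Finsupp.mem_supported' K _).1 hy' c.1 c.2, sub_zero, Finsupp.single_apply, Finsupp.single_apply]
    simp [Subtype.ext_iff]
  have : Module.Finite K (↥{b : B | b ∉ T} →₀ K) := Module.Finite.of_surjective _ hsurj
  have : Finite ↥{b : B | b ∉ T} := Module.Finite.finite_basis (R := K) Finsupp.basisSingleOne
  have hfin : {b : B | b ∉ T}.Finite := Set.toFinite _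
  refine ⟨Subtype.val '' T, (hfin.image Subtype.val).toFinset, ?_, ?_⟩
  · have h2 : LinearIndependent K fun b : T => KaehlerDifferential.D ℤ K (algebraMap k K b.1.1) := by
      simpa only [hψ] using hTli
    have hmem : ∀ x ∈ (Subtype.val '' T : Set k), ∃ hx : x ∈ B, (⟨x, hx⟩ : B) ∈ T := by
      rintro _ ⟨c, hc, rfl⟩
      exact ⟨c.2, hc⟩
    choose u hu using hmem
    exact h2.comp (fun x : ↥(Subtype.val '' T : Set k) => (⟨⟨x.1, u x.1 x.2⟩, hu x.1 x.2⟩ : T))
      fun x x' h => Subtype.ext (congrArg (fun z : T => z.1.1) h)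
  · rw [_root_.eq_top_iff, ← hB.2]
    refine Algebra.adjoin_mono fun x hx => ?_
    by_cases hT : (⟨x, hx⟩ : B) ∈ T
    · exact Or.inl ⟨_, hT, rfl⟩
    · exact Or.inr (by rw [Set.Finite.coe_toFinset]; exact ⟨_, hT, rfl⟩)

/-- A field generated over its `p`-th powers is generated over its `p ^ e`-th powers. -/
theorem closure_pow_eq_top (k : Type u) [Field k] [CharP k p] (S : Set k)
    (hS : Algebra.adjoin (powAlg p ℤ k) S = ⊤) (e : ℕ) :
    Subring.closure (Set.range (fun x : k => x ^ p ^ e) ∪ S) = ⊤ := by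
  have h1 : ∀ a : k, a ∈ Subring.closure (Set.range (fun x : k => x ^ p) ∪ S) := by
    intro a
    have ha : a ∈ Algebra.adjoin (powAlg p ℤ k) S := hS ▸ Algebra.mem_top
    induction ha using Algebra.adjoin_induction with
    | mem y hy => exact Subring.subset_closure (Or.inr hy)
    | algebraMap m =>
      obtain ⟨m, hm⟩ := m
      show m ∈ _
      induction hm using Algebra.adjoin_induction with
      | mem y hy => exact Subring.subset_closure (Or.inl hy)
      | algebraMap z => rw [eq_intCast]; exact intCast_mem _ z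
      | add x y _ _ hx hy => exact add_mem hx hy
      | mul x y _ _ hx hy => exact mul_mem hx hy
    | add x y _ _ hx hy => exact add_mem hx hy
    | mul x y _ _ hx hy => exact mul_mem hx hy
  induction e with
  | zero =>
    rw [_root_.eq_top_iff]
    exact fun a _ => Subring.subset_closure (Or.inl ⟨a, by simp⟩)
  | succ e ih =>
    rw [_root_.eq_top_iff, ← ih, Subring.closure_le]
    rintro x (⟨a, rfl⟩ | hx)
    · show a ^ p ^ e ∈ Subring.closure (Set.range (fun x : k => x ^ p ^ (e + 1)) ∪ S)
      induction h1 a using Subring.closure_induction with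
      | mem y hy =>
        rcases hy with ⟨z, rfl⟩ | hy
        · refine Subring.subset_closure (Or.inl ⟨z, ?_⟩)
          simp only [pow_succ', pow_mul]
        · have hy' : y ∈ Subring.closure (Set.range (fun x : k => x ^ p ^ (e + 1)) ∪ S) :=
            Subring.subset_closure (Or.inr hy)
          exact pow_mem hy' _
      | zero => simp [zero_pow (pow_ne_zero e (Fact.out : p.Prime).ne_zero)]
      | one => simp
      | add x y _ _ hx hy => simp only [add_pow_char_pow]; exact add_mem hx hy
      | neg x _ hx => simp only [← zero_sub x, sub_pow_char_pow,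
          zero_pow (pow_ne_zero e (Fact.out : p.Prime).ne_zero)]; exact sub_mem (zero_mem _) hx
      | mul x y _ _ hx hy => simp only [mul_pow]; exact mul_mem hx hy
    · exact Subring.subset_closure (Or.inr hx)

/-- A coefficient field fixing the `p`-independent part. -/
theorem exists_section {k Λ : Type u} [Field k] [CharP k p] [CommRing Λ] [IsLocalRing Λ] [Algebra k Λ]
    (hnil : ∃ n : ℕ, maximalIdeal Λ ^ n = ⊥) (B' : Set k)
    (hB' : LinearIndependent (ResidueField Λ)
      fun b : B' => KaehlerDifferential.D ℤ (ResidueField Λ) (algebraMap k (ResidueField Λ) b.1)) :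
    ∃ σ : ResidueField Λ →+* Λ, (∀ x, residue Λ (σ x) = x) ∧
      ∀ b ∈ B', σ (algebraMap k (ResidueField Λ) b) = algebraMap k Λ b := by
  let k0 : Subfield k := Subfield.closure B'
  have : CharP k0 p := (k0.subtype).charP k0.subtype.injective p
  have : CharP (ResidueField Λ) p :=
    charP_of_injective_algebraMap (algebraMap k (ResidueField Λ)).injective p
  let y : B' → k0 := fun b => ⟨b.1, Subfield.subset_closure b.2⟩
  have hgen : Algebra.adjoin (powAlg p ℤ k0) (Set.range y) = ⊤ := by
    let S := subfieldOf (p := p) (Algebra.adjoin (powAlg p ℤ k0) (Set.range y))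
      fun b => Subalgebra.algebraMap_mem _ (⟨b ^ p, Algebra.subset_adjoin ⟨b, rfl⟩⟩ : powAlg p ℤ k0)
    have hle : k0 ≤ S.map k0.subtype :=
      Subfield.closure_le.2 fun b hb => ⟨y ⟨b, hb⟩, Algebra.subset_adjoin ⟨⟨b, hb⟩, rfl⟩, rfl⟩
    rw [_root_.eq_top_iff]
    intro x _
    obtain ⟨z, hz, hzx⟩ := hle x.2
    obtain rfl : z = x := Subtype.ext hzx
    exact hz
  have hspan := (adjoin_eq_top_iff_span_D p ℤ y).1 hgen
  have hinj : Function.Injective (KaehlerDifferential.mapBaseChange ℤ k0 (ResidueField Λ)) := by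
    let w : B' → (ResidueField Λ) ⊗[k0] Ω[k0⁄ℤ] := fun b => 1 ⊗ₜ KaehlerDifferential.D ℤ k0 (y b)
    have hw : ⊤ ≤ Submodule.span (ResidueField Λ) (Set.range w) := by
      intro z hz
      clear hz
      induction z using TensorProduct.induction_on with
      | zero => exact zero_mem _
      | add a b ha hb => exact add_mem ha hb
      | tmul a d =>
        rw [show a ⊗ₜ[k0] d = a • ((1 : ResidueField Λ) ⊗ₜ[k0] d) by
          rw [TensorProduct.smul_tmul', smul_eq_mul, mul_one]]
        refine Submodule.smul_mem _ _ ?_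
        have hd : d ∈ Submodule.span k0 (Set.range fun i => KaehlerDifferential.D ℤ k0 (y i)) := hspan ▸ trivial
        induction hd using Submodule.span_induction with
        | mem x hx => obtain ⟨i, rfl⟩ := hx; exact Submodule.subset_span ⟨i, rfl⟩
        | zero => simp
        | add x x' _ _ h h' => rw [TensorProduct.tmul_add]; exact add_mem h h'
        | smul c x _ h =>
          have he : (1 : ResidueField Λ) ⊗ₜ[k0] (c • x) =
              (algebraMap k0 (ResidueField Λ) c) • ((1 : ResidueField Λ) ⊗ₜ[k0] x) := by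
            rw [← TensorProduct.smul_tmul, TensorProduct.smul_tmul', smul_eq_mul, mul_one,
              show c • (1 : ResidueField Λ) = algebraMap k0 (ResidueField Λ) c from (Algebra.algebraMap_eq_smul_one c).symm]
          rw [he]
          exact Submodule.smul_mem _ _ h
    have hli : LinearIndependent (ResidueField Λ)
        (KaehlerDifferential.mapBaseChange ℤ k0 (ResidueField Λ) ∘ w) := by
      convert hB' using 1
      funext b
      change KaehlerDifferential.mapBaseChange ℤ k0 (ResidueField Λ) (1 ⊗ₜ KaehlerDifferential.D ℤ k0 (y b)) = _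
      rw [KaehlerDifferential.mapBaseChange_tmul, one_smul, KaehlerDifferential.map_D]
      rfl
    let bw := Module.Basis.mk (hli.of_comp _) hw
    rw [← LinearMap.ker_eq_bot, _root_.eq_bot_iff]
    intro v hv
    rw [LinearMap.mem_ker, ← bw.linearCombination_repr v, Finsupp.apply_linearCombination] at hv
    have := hli (a₁ := bw.repr v) (a₂ := 0) (by
      rw [map_zero, ← hv]
      rw [show (⇑bw : B' → _) = w from Module.Basis.coe_mk _ _])
    simpa using this
  have := isGeometricallyReduced_of_macLane p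
    (macLane_of_injective_prime ℤ p (exists_pow_eq_algebraMap_int p) hinj)
  obtain ⟨σ, hσ⟩ := HenselLib.exists_residue_section k0 Λ hnil
  exact ⟨σ.toRingHom, hσ, fun b hb => σ.commutes ⟨b, Subfield.subset_closure hb⟩⟩

/-- A finite basis starting with `1` and continuing in the maximal ideal. -/
theorem exists_adapted_basis {K Λ : Type u} [Field K] [CommRing Λ] [IsLocalRing Λ] [IsNoetherianRing Λ]
    [Algebra K Λ] (hres : Function.Surjective fun x : K => residue Λ (algebraMap K Λ x))
    (hnil : ∃ n : ℕ, maximalIdeal Λ ^ n = ⊥) :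
    ∃ (r : ℕ) (e : Module.Basis (Fin (r + 1)) K Λ), e 0 = 1 ∧ ∀ i : Fin r, e i.succ ∈ maximalIdeal Λ := by
  classical
  obtain ⟨n, hn⟩ := hnil
  obtain ⟨s, hs⟩ := IsNoetherian.noetherian (maximalIdeal Λ)
  let V := Algebra.adjoin K (s : Set Λ)
  have hstep : ∀ m : ℕ, ∀ x : Λ, ∃ v ∈ V, x - v ∈ maximalIdeal Λ ^ m := by
    intro m
    induction m with
    | zero => exact fun x => ⟨0, zero_mem _, by simp⟩
    | succ m ih =>
      intro x
      obtain ⟨c, hc⟩ := hres (residue Λ x)
      have hm : x - algebraMap K Λ c ∈ maximalIdeal Λ :=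
        Ideal.Quotient.eq.1 hc.symm
      rw [← hs] at hm
      obtain ⟨f, -, hf⟩ := Submodule.mem_span_finset.1 hm
      choose v hv hv' using fun a => ih (f a)
      refine ⟨algebraMap K Λ c + ∑ a ∈ s, v a * a,
        add_mem (V.algebraMap_mem c) (sum_mem fun a ha => mul_mem (hv a) (Algebra.subset_adjoin ha)), ?_⟩
      rw [← sub_sub, ← hf, ← Finset.sum_sub_distrib]
      refine sum_mem fun a ha => ?_
      rw [smul_eq_mul, ← sub_mul, pow_succ]
      exact Ideal.mul_mem_mul (hv' a) (hs ▸ Submodule.subset_span ha)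
  have htop : V = ⊤ := _root_.eq_top_iff.2 fun x _ => by
    obtain ⟨v, hv, h⟩ := hstep n x
    rw [hn, Submodule.mem_bot, sub_eq_zero] at h
    exact h ▸ hv
  have : Module.Finite K Λ := by
    have h := Algebra.finite_adjoin_of_finite_of_isIntegral (R := K) s.finite_toSet fun a ha =>
      ⟨Polynomial.X ^ n, Polynomial.monic_X_pow n, by
        rw [Polynomial.eval₂_pow, Polynomial.eval₂_X]
        exact (Submodule.mem_bot Λ).1 (hn ▸ Ideal.pow_mem_pow (hs ▸ Submodule.subset_span ha) n)⟩
    exact Module.Finite.equiv ((Subalgebra.equivOfEq _ _ htop).trans Subalgebra.topEquiv).toLinearEquiv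
  let M : Submodule K Λ := (maximalIdeal Λ).restrictScalars K
  let β := Module.finBasis K M
  let e := Module.Basis.mkFinCons (1 : Λ) β (fun c x hx h => by
      by_contra hc
      have h1 : algebraMap K Λ c ∈ maximalIdeal Λ := by
        rw [Algebra.algebraMap_eq_smul_one, eq_neg_of_add_eq_zero_left h]
        exact neg_mem hx
      exact h1 ((isUnit_iff_ne_zero.2 hc).map _))
    (fun z => by
      obtain ⟨c, hc⟩ := hres (residue Λ z)
      refine ⟨-c, ?_⟩
      show z + -c • (1 : Λ) ∈ maximalIdeal Λ
      rw [neg_smul, ← Algebra.algebraMap_eq_smul_one, ← sub_eq_add_neg]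
      exact Ideal.Quotient.eq.1 hc.symm)
  refine ⟨_, e, by simp [e], fun i => ?_⟩
  simp only [e, Module.Basis.coe_mkFinCons, Fin.cons_succ, Function.comp_apply]
  exact (β i).2

/-- The subalgebra with coordinates in a finitely generated subfield containing the structure constants. -/
theorem exists_descent {k Λ K : Type u} [Field k] [CommRing Λ] [IsLocalRing Λ] [Field K] [Algebra k Λ]
    [Algebra k K] [Algebra K Λ] {r : ℕ} (e : Module.Basis (Fin (r + 1)) K Λ) (he0 : e 0 = 1)
    (hem : ∀ i : Fin r, e i.succ ∈ maximalIdeal Λ)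
    (hres : ∀ a : k, algebraMap k Λ a - algebraMap K Λ (algebraMap k K a) ∈ maximalIdeal Λ)
    (hnil : ∃ n : ℕ, maximalIdeal Λ ^ n = ⊥) (F : IntermediateField k K) (hF : F.FG)
    (hmul : ∀ i j l, e.repr (e i * e j) l ∈ F) (hk : ∀ a : k, ∀ l, e.repr (algebraMap k Λ a) l ∈ F) :
    ∃ (A : Subalgebra k Λ) (_ : IsLocalRing A), (∀ x : Λ, x ∈ A ↔ ∀ l, e.repr x l ∈ F) ∧
      IsArtinianRing A ∧ Module.Flat A Λ ∧ Algebra.EssFiniteType k A ∧
      (maximalIdeal A).map (algebraMap A Λ) = maximalIdeal Λ := by
  classical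
  let F' := F.toSubfield
  have hone : ∀ c : K, algebraMap K Λ c = c • e 0 := fun c => by rw [he0, Algebra.algebraMap_eq_smul_one]
  have hmemA : ∀ x y : Λ, (∀ l, e.repr x l ∈ F) → (∀ l, e.repr y l ∈ F) → ∀ l, e.repr (x * y) l ∈ F := by
    intro x y hx hy l
    rw [← e.sum_repr x, ← e.sum_repr y, Finset.sum_mul]
    simp only [Finset.mul_sum, smul_mul_smul_comm, map_sum, map_smul, Finsupp.coe_finsetSum, Finset.sum_apply,
      Finsupp.coe_smul, Pi.smul_apply, smul_eq_mul]
    exact sum_mem fun i _ => sum_mem fun j _ => mul_mem (mul_mem (hx i) (hy j)) (hmul i j l)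
  let A : Subalgebra k Λ :=
    { carrier := {x | ∀ l, e.repr x l ∈ F}
      mul_mem' := fun hx hy => hmemA _ _ hx hy
      one_mem' := fun l => by
        rw [← he0, Module.Basis.repr_self, Finsupp.single_apply]
        split_ifs <;> simp
      add_mem' := fun hx hy l => by rw [map_add]; exact add_mem (hx l) (hy l)
      zero_mem' := fun l => by simp
      algebraMap_mem' := hk }
  have hA : ∀ x, x ∈ A ↔ ∀ l, e.repr x l ∈ F := fun x => Iff.rfl
  have hσA : ∀ c ∈ F, algebraMap K Λ c ∈ A := fun c hc l => by
    rw [hone, map_smul, Module.Basis.repr_self, Finsupp.smul_single, smul_eq_mul, mul_one, Finsupp.single_apply]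
    split_ifs <;> simp [hc]
  have heA : ∀ i, e i ∈ A := fun i l => by
    rw [Module.Basis.repr_self, Finsupp.single_apply]
    split_ifs <;> simp
  -- `F` acts on `A`, finitely
  let ι : F' →+* A := ((algebraMap K Λ).comp F'.subtype).codRestrict A fun c => hσA c.1 c.2
  letI : Algebra F' A := ι.toAlgebra
  have hfin : Module.Finite F' A := by
    refine ⟨⟨Finset.univ.image fun i => (⟨e i, heA i⟩ : A), ?_⟩⟩
    rw [_root_.eq_top_iff]
    intro x _
    have hx : x = ∑ i, (⟨e.repr x.1 i, x.2 i⟩ : F') • (⟨e i, heA i⟩ : A) := by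
      apply Subtype.ext
      conv_lhs => rw [← e.sum_repr x.1]
      simp only [Algebra.smul_def]
      rw [AddSubmonoidClass.coe_finsetSum]
      rfl
    rw [hx]
    exact sum_mem fun i _ => Submodule.smul_mem _ _ (Submodule.subset_span (by simp))
  have hart : IsArtinianRing A := IsArtinianRing.of_finite F' A
  have hunit : ∀ a : A, IsUnit (a : Λ) → IsUnit a := fun a ha => by
    refine IsArtinianRing.isUnit_of_mem_nonZeroDivisors ?_
    rw [mem_nonZeroDivisors_iff_right]
    intro b hb
    apply Subtype.ext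
    exact ha.mul_left_eq_zero.1 (congrArg Subtype.val hb)
  have hlh : IsLocalHom (algebraMap A Λ) := ⟨hunit⟩
  have hloc : IsLocalRing A := RingHom.domain_isLocalRing (algebraMap A Λ)
  have hmax : ∀ a : A, a ∈ maximalIdeal A ↔ (a : Λ) ∈ maximalIdeal Λ := fun a =>
    not_congr ⟨fun h => h.map A.val, hunit a⟩
  have hsplit : ∀ x : Λ, x = algebraMap K Λ (e.repr x 0) + ∑ i : Fin r, algebraMap K Λ (e.repr x i.succ) * e i.succ := by
    intro x
    conv_lhs => rw [← e.sum_repr x, Fin.sum_univ_succ]
    simp [Algebra.smul_def, he0]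
  have hzero : ∀ x ∈ maximalIdeal Λ, e.repr x 0 = 0 := by
    intro x hx
    by_contra hne
    have h1 : algebraMap K Λ (e.repr x 0) ∈ maximalIdeal Λ := by
      rw [show algebraMap K Λ (e.repr x 0) = x - ∑ i : Fin r, algebraMap K Λ (e.repr x i.succ) * e i.succ from
        eq_sub_of_add_eq (hsplit x).symm]
      exact sub_mem hx (sum_mem fun i _ => Ideal.mul_mem_left _ _ (hem i))
    exact h1 ((isUnit_iff_ne_zero.2 hne).map _)
  refine ⟨A, hloc, hA, hart, ?_, ?_, ?_⟩
  · -- flatness: lifts of an `F`-basis of `K` form a basis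
    let c := Module.Basis.ofVectorSpace F' K
    have hli : LinearIndependent A fun j => algebraMap K Λ (c j) := by
      rw [linearIndependent_iff']
      intro s g hg j hj
      have h2 : ∀ l, ∑ i ∈ s, (⟨e.repr (g i).1 l, (g i).2 l⟩ : F') • c i = 0 := by
        intro l
        have := congrArg (fun x => e.repr x l) hg
        simp only [map_sum, map_zero, Finsupp.coe_finsetSum, Finset.sum_apply, Finsupp.coe_zero, Pi.zero_apply] at this
        rw [← this]
        refine Finset.sum_congr rfl fun i _ => ?_
        show e.repr (g i).1 l * c i = e.repr ((g i).1 * algebraMap K Λ (c i)) l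
        rw [mul_comm (g i).1, ← Algebra.smul_def, map_smul, Finsupp.coe_smul, Pi.smul_apply, smul_eq_mul, mul_comm]
      apply Subtype.ext
      apply e.repr.injective
      ext l
      have := (linearIndependent_iff'.1 c.linearIndependent) s _ (h2 l) j hj
      simpa using congrArg Subtype.val this
    have hsp : ⊤ ≤ Submodule.span A (Set.range fun j => algebraMap K Λ (c j)) := by
      intro x _
      rw [← e.sum_repr x]
      refine sum_mem fun i _ => ?_
      rw [← c.linearCombination_repr (e.repr x i), Finsupp.linearCombination_apply, Finsupp.sum, Finset.sum_smul]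
      refine sum_mem fun j _ => ?_
      have : (((c.repr (e.repr x i)) j) • c j) • e i =
          (⟨algebraMap K Λ ((c.repr (e.repr x i)) j).1 * e i,
            mul_mem (hσA _ ((c.repr (e.repr x i)) j).2) (heA i)⟩ : A) • algebraMap K Λ (c j) := by
        show ((((c.repr (e.repr x i)) j).1 * c j)) • e i = _
        rw [Algebra.smul_def, map_mul]
        show _ = (algebraMap K Λ ((c.repr (e.repr x i)) j).1 * e i) * algebraMap K Λ (c j)
        ring
      rw [this]
      exact Submodule.smul_mem _ _ (Submodule.subset_span ⟨j, rfl⟩)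
    have := Module.Free.of_basis (Module.Basis.mk hli hsp)
    infer_instance
  · -- essentially of finite type
    obtain ⟨S, hS⟩ := hF
    have hSF : ∀ c ∈ S, c ∈ F := fun c hc => hS ▸ IntermediateField.subset_adjoin k _ hc
    let G : Finset A := (Finset.univ.image fun i => (⟨e i, heA i⟩ : A)) ∪
      S.attach.image fun c => (⟨algebraMap K Λ c.1, hσA c.1 (hSF c.1 c.2)⟩ : A)
    refine ⟨G, (Algebra.essFiniteType_cond_iff k A G).2 ?_⟩
    let W : Set A := {x | ∃ t ∈ Algebra.adjoin k (G : Set A), IsUnit t ∧ x * t ∈ Algebra.adjoin k (G : Set A)}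
    have hWsub : ∀ x ∈ Algebra.adjoin k (G : Set A), x ∈ W := fun x hx =>
      ⟨1, one_mem _, isUnit_one, by rwa [mul_one]⟩
    have hWadd : ∀ x ∈ W, ∀ y ∈ W, x + y ∈ W := by
      rintro x ⟨t, ht, htu, hxt⟩ y ⟨t', ht', htu', hyt⟩
      refine ⟨t * t', mul_mem ht ht', htu.mul htu', ?_⟩
      rw [show (x + y) * (t * t') = x * t * t' + y * t' * t by ring]
      exact add_mem (mul_mem hxt ht') (mul_mem hyt ht)
    have hWmul : ∀ x ∈ W, ∀ y ∈ W, x * y ∈ W := by
      rintro x ⟨t, ht, htu, hxt⟩ y ⟨t', ht', htu', hyt⟩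
      refine ⟨t * t', mul_mem ht ht', htu.mul htu', ?_⟩
      rw [show (x * y) * (t * t') = (x * t) * (y * t') by ring]
      exact mul_mem hxt hyt
    have hWinv : ∀ x ∈ W, ∀ y, x * y = 1 → y ∈ W := by
      rintro x ⟨t, ht, htu, hxt⟩ y hxy
      refine ⟨x * t, hxt, (IsUnit.of_mul_eq_one y hxy).mul htu, ?_⟩
      rw [← mul_assoc, mul_comm y x, hxy, one_mul]
      exact ht
    have hG : ∀ i, (⟨e i, heA i⟩ : A) ∈ W := fun i => hWsub _ (Algebra.subset_adjoin (by simp [G]))
    have hWres : ∀ c ∈ F, ∃ w ∈ W, (w : Λ) - algebraMap K Λ c ∈ maximalIdeal Λ := by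
      intro c hc
      rw [← hS] at hc
      induction hc using IntermediateField.adjoin_induction with
      | mem c hc =>
        exact ⟨⟨algebraMap K Λ c, hσA c (hSF c hc)⟩, hWsub _ (Algebra.subset_adjoin
          (by simp only [G, Finset.coe_union, Set.mem_union, Finset.coe_image, Set.mem_image]
              exact Or.inr ⟨⟨c, hc⟩, Finset.mem_attach _ _, rfl⟩)), by simp⟩
      | algebraMap a => exact ⟨algebraMap k A a, hWsub _ (Subalgebra.algebraMap_mem _ a), hres a⟩
      | add x y _ _ hx hy =>
        obtain ⟨w, hw, h⟩ := hx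
        obtain ⟨w', hw', h'⟩ := hy
        refine ⟨w + w', hWadd w hw w' hw', ?_⟩
        rw [map_add, Subalgebra.coe_add, add_sub_add_comm]
        exact add_mem h h'
      | mul x y _ _ hx hy =>
        obtain ⟨w, hw, h⟩ := hx
        obtain ⟨w', hw', h'⟩ := hy
        refine ⟨w * w', hWmul w hw w' hw', ?_⟩
        rw [map_mul, Subalgebra.coe_mul, show (w : Λ) * w' - algebraMap K Λ x * algebraMap K Λ y =
          (w - algebraMap K Λ x) * w' + algebraMap K Λ x * (w' - algebraMap K Λ y) by ring]
        exact add_mem (Ideal.mul_mem_right _ _ h) (Ideal.mul_mem_left _ _ h')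
      | inv x _ hx =>
        obtain ⟨w, hw, h⟩ := hx
        rcases eq_or_ne x 0 with rfl | hx0
        · exact ⟨0, hWsub 0 (zero_mem _), by simp⟩
        · have hwu : IsUnit (w : Λ) := by
            by_contra hwn
            have := sub_mem (show (w : Λ) ∈ maximalIdeal Λ from hwn) h
            rw [sub_sub_cancel] at this
            exact this ((isUnit_iff_ne_zero.2 hx0).map _)
          obtain ⟨v, hv⟩ := (hunit w hwu).exists_right_inv
          refine ⟨v, hWinv w hw v hv, ?_⟩
          have hvΛ : (w : Λ) * v = 1 := congrArg Subtype.val hv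
          rw [show (v : Λ) - algebraMap K Λ x⁻¹ = (v : Λ) * algebraMap K Λ x⁻¹ * (algebraMap K Λ x - w) by
            have : algebraMap K Λ x * algebraMap K Λ x⁻¹ = 1 := by rw [← map_mul, mul_inv_cancel₀ hx0, map_one]
            linear_combination (algebraMap K Λ x⁻¹) * hvΛ - (v : Λ) * this]
          refine Ideal.mul_mem_left _ _ ?_
          rw [← neg_sub]
          exact neg_mem h
    have hstep : ∀ n : ℕ, ∀ x : A, ∃ w ∈ W, (x : Λ) - w ∈ maximalIdeal Λ ^ n := by
      intro n
      induction n with
      | zero => exact fun x => ⟨0, hWsub 0 (zero_mem _), by simp⟩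
      | succ n ih =>
        intro x
        obtain ⟨w, hw, h⟩ := hWres _ (x.2 0)
        have hxw : (x : Λ) - w ∈ maximalIdeal Λ := by
          rw [hsplit x.1, show algebraMap K Λ (e.repr x.1 0) + (∑ i : Fin r, algebraMap K Λ (e.repr x.1 i.succ) * e i.succ) - w =
            (∑ i : Fin r, algebraMap K Λ (e.repr x.1 i.succ) * e i.succ) - ((w : Λ) - algebraMap K Λ (e.repr x.1 0)) by ring]
          exact sub_mem (sum_mem fun i _ => Ideal.mul_mem_left _ _ (hem i)) h
        choose v hv hv' using fun i : Fin r =>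
          ih ⟨algebraMap K Λ (e.repr ((x - w : A) : Λ) i.succ), hσA _ ((x - w).2 i.succ)⟩
        refine ⟨w + ∑ i, v i * ⟨e i.succ, heA _⟩, hWadd w hw _
          (Finset.sum_induction _ (fun z => z ∈ W) (fun a b ha hb => hWadd a ha b hb) (hWsub 0 (zero_mem _))
            fun i _ => hWmul _ (hv i) _ (hG i.succ)), ?_⟩
        have hd := hsplit ((x - w : A) : Λ)
        rw [show e.repr ((x - w : A) : Λ) 0 = 0 from hzero _ hxw, map_zero, zero_add] at hd
        rw [Subalgebra.coe_add, AddSubmonoidClass.coe_finsetSum, ← sub_sub,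
          show (x : Λ) - w = _ from hd, ← Finset.sum_sub_distrib]
        refine sum_mem fun i _ => ?_
        rw [Subalgebra.coe_mul, pow_succ, ← sub_mul]
        exact Ideal.mul_mem_mul (hv' i) (hem i)
    intro x
    obtain ⟨n, hn⟩ := hnil
    obtain ⟨w, hw, h⟩ := hstep n x
    rw [hn, Submodule.mem_bot, sub_eq_zero] at h
    rw [Subtype.ext h]
    exact hw
  · refine le_antisymm (Ideal.map_le_iff_le_comap.2 fun a ha => (hmax a).1 ha) fun x hx => ?_
    rw [hsplit x, hzero x hx, map_zero, zero_add]
    refine sum_mem fun i _ => Ideal.mul_mem_left _ _ ?_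
    exact Ideal.mem_map_of_mem (algebraMap A Λ) (x := ⟨e i.succ, heA _⟩) ((hmax _).2 (hem i))

/-- An Artinian local algebra with residue extension of finite `H₁` is exhausted by flat subalgebras
which are Artinian local and essentially of finite type. -/
theorem exists_subalgebra {k Λ : Type u} [Field k] [CharP k p] [CommRing Λ] [Algebra k Λ] [IsArtinianRing Λ]
    [IsLocalRing Λ] (hH : Module.Finite (ResidueField Λ) (Algebra.H1Cotangent k (ResidueField Λ)))
    (E : Finset Λ) :
    ∃ (A : Subalgebra k Λ) (_ : IsLocalRing A), (↑E : Set Λ) ⊆ A ∧ IsArtinianRing A ∧ Module.Flat A Λ ∧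
      Algebra.EssFiniteType k A ∧ (maximalIdeal A).map (algebraMap A Λ) = maximalIdeal Λ := by
  classical
  obtain ⟨B', B'', hB', hgen⟩ := exists_finite_complement p k (ResidueField Λ) hH
  have hnil : ∃ n : ℕ, maximalIdeal Λ ^ n = ⊥ := by
    have := IsArtinianRing.isNilpotent_jacobson_bot (R := Λ)
    rwa [IsLocalRing.jacobson_eq_maximalIdeal ⊥ bot_ne_top] at this
  obtain ⟨σ, hσ, hσB⟩ := exists_section p hnil B' hB'
  letI : Algebra (ResidueField Λ) Λ := σ.toAlgebra
  obtain ⟨r, e, he0, hem⟩ := exists_adapted_basis (K := ResidueField Λ) (Λ := Λ)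
    (fun x => ⟨x, hσ x⟩) hnil
  let S : Finset (ResidueField Λ) :=
    (Finset.univ.biUnion fun i => Finset.univ.biUnion fun j => Finset.univ.image fun l => e.repr (e i * e j) l) ∪
    (B''.biUnion fun b => Finset.univ.image fun l => e.repr (algebraMap k Λ b) l) ∪
    (E.biUnion fun x => Finset.univ.image fun l => e.repr x l)
  let F := IntermediateField.adjoin k (S : Set (ResidueField Λ))
  have hSF : ∀ x ∈ S, x ∈ F := fun x hx => IntermediateField.subset_adjoin k _ hx
  have hmul : ∀ i j l, e.repr (e i * e j) l ∈ F := fun i j l => hSF _ (by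
    simp only [S, Finset.mem_union, Finset.mem_biUnion, Finset.mem_image, Finset.mem_univ, true_and]
    exact Or.inl (Or.inl ⟨i, j, l, rfl⟩))
  have hconst : ∀ c ∈ F, ∀ l, e.repr (σ c) l ∈ F := fun c hc l => by
    rw [show σ c = c • e 0 by rw [he0]; exact Algebra.algebraMap_eq_smul_one c, map_smul, Module.Basis.repr_self,
      Finsupp.smul_single, smul_eq_mul, mul_one, Finsupp.single_apply]
    split_ifs <;> simp [hc]
  obtain ⟨n, hn⟩ := hnil
  have : CharP Λ p := charP_of_injective_algebraMap (algebraMap k Λ).injective p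
  have hk : ∀ a : k, ∀ l, e.repr (algebraMap k Λ a) l ∈ F := by
    intro a
    have ha : a ∈ Subring.closure (Set.range (fun x : k => x ^ p ^ n) ∪ (B' ∪ ↑B'')) :=
      (closure_pow_eq_top p k _ hgen n).symm ▸ trivial
    induction ha using Subring.closure_induction with
    | mem x hx =>
      rcases hx with ⟨z, rfl⟩ | hx | hx
      · have h1 : algebraMap k Λ (z ^ p ^ n) = σ (algebraMap k (ResidueField Λ) (z ^ p ^ n)) := by
          rw [map_pow, map_pow, map_pow, ← sub_eq_zero, ← sub_pow_char_pow]
          refine (Submodule.mem_bot Λ).1 (hn ▸ Ideal.pow_le_pow_right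
            (n.lt_pow_self (Fact.out : p.Prime).one_lt).le (Ideal.pow_mem_pow ?_ _))
          exact Ideal.Quotient.eq.1 (hσ _).symm
        rw [h1]
        exact hconst _ (F.algebraMap_mem _)
      · rw [← hσB x hx]
        exact hconst _ (F.algebraMap_mem _)
      · exact fun l => hSF _ (by
          simp only [S, Finset.mem_union, Finset.mem_biUnion, Finset.mem_image, Finset.mem_univ, true_and]
          exact Or.inl (Or.inr ⟨x, hx, l, rfl⟩))
    | zero => exact fun l => by simp
    | one => rw [map_one, ← map_one σ]; exact hconst 1 (one_mem _)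
    | add x y _ _ hx hy => exact fun l => by simp only [map_add, Finsupp.add_apply]; exact add_mem (hx l) (hy l)
    | neg x _ hx => exact fun l => by simp only [map_neg, Finsupp.neg_apply]; exact neg_mem (hx l)
    | mul x y _ _ hx hy =>
      intro l
      rw [map_mul, ← e.sum_repr (algebraMap k Λ x), ← e.sum_repr (algebraMap k Λ y), Finset.sum_mul]
      simp only [Finset.mul_sum, smul_mul_smul_comm, map_sum, map_smul, Finsupp.coe_finsetSum, Finset.sum_apply,
        Finsupp.coe_smul, Pi.smul_apply, smul_eq_mul]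
      exact sum_mem fun i _ => sum_mem fun j _ => mul_mem (mul_mem (hx i) (hy j)) (hmul i j l)
  obtain ⟨A, hloc, hA, hart, hflat, hft, hmax⟩ := exists_descent e he0 hem
    (fun a => Ideal.Quotient.eq.1 (hσ _).symm) ⟨n, hn⟩ F (IntermediateField.fg_adjoin_finset S) hmul hk
  refine ⟨A, hloc, fun x hx => (hA x).2 fun l => hSF _ ?_, hart, hflat, hft, hmax⟩
  simp only [S, Finset.mem_union, Finset.mem_biUnion, Finset.mem_image, Finset.mem_univ, true_and]
  exact Or.inr ⟨x, hx, l, rfl⟩

end Groth.Agent.CAlgH.ArtinianDescent
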