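import Groth.Agent.CAlgH.AdicSmoothModel
import Groth.Agent.CAlgH.AdicSmoothPowerSeries

/-!
# Cohen factorizations of local maps of complete local rings
-/

universe u

set_option autoImplicit false

open IsLocalRing

namespace Groth.Agent.CAlgH.CohenFactor

/-- The step hypothesis: maps lift along quotients of `T/m^(n+2)` with kernel in `m^(n+1)`. -/
def LiftsStep (Λ : Type u) [CommRing Λ] {T : Type u} [CommRing T] (m : Ideal T) : Prop :=
  ∀ (n : ℕ) (Q : Ideal T) (hQ : m ^ (n + 2) ≤ Q), Q ≤ m ^ (n + 1) → ∀ φ : Λ →+* T ⧸ Q,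
    ∃ ψ : Λ →+* T ⧸ m ^ (n + 2), (Ideal.Quotient.factor hQ).comp ψ = φ

theorem sq_ker_factor_eq_bot {T : Type u} [CommRing T] {m : Ideal T} {n : ℕ} {Q : Ideal T}
    (hQ : m ^ (n + 2) ≤ Q) (hQ' : Q ≤ m ^ (n + 1)) :
    RingHom.ker (Ideal.Quotient.factor hQ) ^ 2 = ⊥ := by
  rw [Ideal.Quotient.factor_ker, ← Ideal.map_pow, ← le_bot_iff, ← Ideal.map_quotient_self (m ^ (n + 2))]
  refine Ideal.map_mono ((Ideal.pow_right_mono hQ' 2).trans ?_)
  rw [← pow_mul]
  exact Ideal.pow_le_pow_right (by omega)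

theorem liftsStep_cohen {Λ : Type u} [CommRing Λ] [IsDomain Λ] (p : ℕ) [hp : Fact p.Prime]
    (hmax : (Ideal.span {(p : Λ)}).IsMaximal) (h0 : (p : Λ) ≠ 0) {T : Type u} [CommRing T] {m : Ideal T}
    (hpm : (p : T) ∈ m) : LiftsStep Λ m := by
  intro n Q hQ hQ' φ
  let A := T ⧸ m ^ (n + 2)
  let C := T ⧸ Q
  let q : A →+* C := Ideal.Quotient.factor hQ
  have hA : ((p ^ (n + 2) : ℕ) : A) = 0 := by
    rw [← map_natCast (Ideal.Quotient.mk (m ^ (n + 2))), Ideal.Quotient.eq_zero_iff_mem, Nat.cast_pow]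
    exact Ideal.pow_mem_pow hpm _
  have hq : Function.Surjective q := Ideal.Quotient.factor_surjective _
  let cA : ZMod (p ^ (n + 2)) →+* A :=
    haveI := ringChar.charP A
    ZMod.castHom ((ringChar.spec A _).mp hA) A
  let S := Λ ⧸ Ideal.span {((p : Λ) ^ (n + 2))}
  have hS : ((p ^ (n + 2) : ℕ) : S) = 0 := by
    rw [← map_natCast (Ideal.Quotient.mk (Ideal.span {((p : Λ) ^ (n + 2))})), Ideal.Quotient.eq_zero_iff_mem, Nat.cast_pow]
    exact Ideal.mem_span_singleton_self _
  let cS : ZMod (p ^ (n + 2)) →+* S :=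
    haveI := ringChar.charP S
    ZMod.castHom ((ringChar.spec S _).mp hS) S
  letI : Algebra (ZMod (p ^ (n + 2))) A := cA.toAlgebra
  letI : Algebra (ZMod (p ^ (n + 2))) C := (q.comp cA).toAlgebra
  letI : Algebra (ZMod (p ^ (n + 2))) S := cS.toAlgebra
  have := formallySmooth_zmod_quotient Λ p hmax h0 (n + 2) (by omega)
  let φ' : S →+* C := Ideal.Quotient.lift _ φ (fun a ha => by
    obtain ⟨b, rfl⟩ := Ideal.mem_span_singleton'.mp ha
    rw [show b * (p : Λ) ^ (n + 2) = b * ((p ^ (n + 2) : ℕ) : Λ) by push_cast; rfl, map_mul, map_natCast φ,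
      ← map_natCast q, hA, map_zero, mul_zero])
  let φa : S →ₐ[ZMod (p ^ (n + 2))] C :=
    { φ' with commutes' := fun c => DFunLike.congr_fun (Subsingleton.elim (φ'.comp (algebraMap _ _)) (algebraMap _ _)) c }
  let qa : A →ₐ[ZMod (p ^ (n + 2))] C := { q with commutes' := fun _ => rfl }
  have hnil : IsNilpotent (RingHom.ker (qa : A →+* C)) := ⟨2, sq_ker_factor_eq_bot hQ hQ'⟩
  exact ⟨(Algebra.FormallySmooth.liftOfSurjective φa qa hq hnil).toRingHom.comp (Ideal.Quotient.mk _),
    RingHom.ext fun x => Algebra.FormallySmooth.liftOfSurjective_apply φa qa hq hnil (Ideal.Quotient.mk _ x)⟩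

theorem liftsStep_charZero (K : Type u) [Field K] [CharZero K] {T : Type u} [CommRing T] [Algebra ℚ T]
    (m : Ideal T) : LiftsStep K m := by
  intro n Q hQ hQ' φ
  have : Algebra.FormallySmooth ℚ K := formallySmooth_of_perfectField_any ℚ K
  let φa : K →ₐ[ℚ] T ⧸ Q :=
    { φ with commutes' := fun c => DFunLike.congr_fun (Subsingleton.elim (φ.comp (algebraMap ℚ K)) (algebraMap _ _)) c }
  let qa : T ⧸ m ^ (n + 2) →ₐ[ℚ] T ⧸ Q := Ideal.Quotient.factorₐ ℚ hQ
  have hnil : IsNilpotent (RingHom.ker (qa : T ⧸ m ^ (n + 2) →+* T ⧸ Q)) := ⟨2, sq_ker_factor_eq_bot hQ hQ'⟩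
  exact ⟨(Algebra.FormallySmooth.liftOfSurjective φa qa (Ideal.Quotient.factor_surjective hQ) hnil).toRingHom,
    RingHom.ext fun x => Algebra.FormallySmooth.liftOfSurjective_apply φa qa _ hnil x⟩

/-- A pair of compatible maps to `T/L` and `T/K` gives a map to `T/(L ⊓ K)`. -/
theorem exists_glue {Λ T : Type u} [CommRing Λ] [CommRing T] (L K : Ideal T) (α : Λ →+* T ⧸ L) (β : Λ →+* T ⧸ K)
    (h : (Ideal.Quotient.factor (le_sup_left : L ≤ L ⊔ K)).comp α =
      (Ideal.Quotient.factor (le_sup_right : K ≤ L ⊔ K)).comp β) :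
    ∃ φ : Λ →+* T ⧸ L ⊓ K, (Ideal.Quotient.factor (inf_le_left : L ⊓ K ≤ L)).comp φ = α ∧
      (Ideal.Quotient.factor (inf_le_right : L ⊓ K ≤ K)).comp φ = β := by
  let i : T ⧸ L ⊓ K →+* (T ⧸ L) × (T ⧸ K) :=
    (Ideal.Quotient.factor inf_le_left).prod (Ideal.Quotient.factor inf_le_right)
  have hi : Function.Injective i := by
    rw [injective_iff_map_eq_zero]
    intro z hz
    obtain ⟨t, rfl⟩ := Ideal.Quotient.mk_surjective z
    rw [Ideal.Quotient.eq_zero_iff_mem]
    exact ⟨Ideal.Quotient.eq_zero_iff_mem.1 (congrArg Prod.fst hz),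
      Ideal.Quotient.eq_zero_iff_mem.1 (congrArg Prod.snd hz)⟩
  have hex : ∀ l, ∃ z, i z = (α l, β l) := fun l => by
    obtain ⟨a, ha⟩ := Ideal.Quotient.mk_surjective (α l)
    obtain ⟨b, hb⟩ := Ideal.Quotient.mk_surjective (β l)
    have h' := RingHom.congr_fun h l
    rw [RingHom.comp_apply, RingHom.comp_apply, ← ha, ← hb, Ideal.Quotient.factor_mk,
      Ideal.Quotient.factor_mk, Ideal.Quotient.eq] at h'
    obtain ⟨u, hu, v, hv, huv⟩ := Submodule.mem_sup.1 h'
    refine ⟨Ideal.Quotient.mk _ (a - u), Prod.ext ?_ ?_⟩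
    · show Ideal.Quotient.mk L (a - u) = α l
      rw [← ha, Ideal.Quotient.eq, sub_sub_cancel_left]
      exact neg_mem hu
    · show Ideal.Quotient.mk K (a - u) = β l
      rw [← hb, Ideal.Quotient.eq, show a - u - b = v by linear_combination -huv]
      exact hv
  choose z hz using hex
  refine ⟨{ toFun := z
            map_one' := hi (by rw [hz, map_one, map_one, map_one]; rfl)
            map_zero' := hi (by rw [hz, map_zero, map_zero, map_zero]; rfl)
            map_mul' := fun a b => hi (by rw [hz, map_mul, map_mul, map_mul, hz, hz]; rfl)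
            map_add' := fun a b => hi (by rw [hz, map_add, map_add, map_add, hz, hz]; rfl) },
    RingHom.ext fun l => congrArg Prod.fst (hz l), RingHom.ext fun l => congrArg Prod.snd (hz l)⟩

/-- Lifting along a closed ideal of a complete ring. -/
theorem exists_lift_adic {Λ T : Type u} [CommRing Λ] [CommRing T] (m : Ideal T) [IsAdicComplete m T]
    (J : Ideal T) (hJm : J ≤ m) (hJ : ∀ x, (∀ n, x ∈ J ⊔ m ^ n) → x ∈ J) (hstep : LiftsStep Λ m)
    (f : Λ →+* T ⧸ J) : ∃ g : Λ →+* T, (Ideal.Quotient.mk J).comp g = f := by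
  classical
  let P : (n : ℕ) → (Λ →+* T ⧸ m ^ (n + 1)) → Prop := fun n g =>
    (Ideal.Quotient.factor (le_sup_right : m ^ (n + 1) ≤ J ⊔ m ^ (n + 1))).comp g =
      (Ideal.Quotient.factor (le_sup_left : J ≤ J ⊔ m ^ (n + 1))).comp f
  have base : ∃ g, P 0 g := by
    have he : J ⊔ m ^ (0 + 1) ≤ m ^ (0 + 1) := by rw [zero_add, pow_one]; exact sup_le hJm le_rfl
    refine ⟨(Ideal.Quotient.factor ((le_sup_left : J ≤ J ⊔ m ^ (0 + 1)).trans he)).comp f, ?_⟩
    show (Ideal.Quotient.factor _).comp ((Ideal.Quotient.factor _).comp f) = (Ideal.Quotient.factor _).comp f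
    rw [← RingHom.comp_assoc, Ideal.Quotient.factor_comp]
  have step : ∀ (n : ℕ) (g : { g // P n g }), ∃ g' : { g // P (n + 1) g },
      (Ideal.Quotient.factor (Ideal.pow_le_pow_right (Nat.le_succ (n + 1)))).comp g'.1 = g.1 := by
    rintro n ⟨g, hg⟩
    let L := m ^ (n + 1)
    let K := J ⊔ m ^ (n + 2)
    have hLK : L ⊔ K = J ⊔ m ^ (n + 1) := by
      refine le_antisymm (sup_le le_sup_right (sup_le le_sup_left ((Ideal.pow_le_pow_right (by omega)).trans le_sup_right))) ?_
      exact sup_le (le_sup_left.trans le_sup_right) le_sup_left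
    obtain ⟨φ, hφL, hφK⟩ := exists_glue L K g ((Ideal.Quotient.factor (le_sup_left : J ≤ K)).comp f) (by
      apply RingHom.ext
      intro l
      obtain ⟨a, ha⟩ := Ideal.Quotient.mk_surjective (g l)
      obtain ⟨b, hb⟩ := Ideal.Quotient.mk_surjective (f l)
      have h1 : Ideal.Quotient.mk (J ⊔ m ^ (n + 1)) a = Ideal.Quotient.mk (J ⊔ m ^ (n + 1)) b := by
        have := RingHom.congr_fun hg l
        rw [RingHom.comp_apply, RingHom.comp_apply, ← ha, ← hb] at this
        exact this
      simp only [RingHom.comp_apply]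
      rw [← ha, ← hb]
      show Ideal.Quotient.mk (L ⊔ K) a = Ideal.Quotient.mk (L ⊔ K) b
      rw [Ideal.Quotient.eq] at h1 ⊢
      rwa [hLK])
    obtain ⟨ψ, hψ⟩ := hstep n (L ⊓ K) (le_inf (Ideal.pow_le_pow_right (by omega)) le_sup_right) inf_le_left φ
    refine ⟨⟨ψ, ?_⟩, ?_⟩
    · show (Ideal.Quotient.factor _).comp ψ = (Ideal.Quotient.factor _).comp f
      rw [← hφK, ← hψ, ← RingHom.comp_assoc, Ideal.Quotient.factor_comp]
    · show (Ideal.Quotient.factor _).comp ψ = g
      rw [← hφL, ← hψ, ← RingHom.comp_assoc, Ideal.Quotient.factor_comp]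
  choose next hnext using step
  let F : (n : ℕ) → { g // P n g } := fun n =>
    Nat.rec (motive := fun n => { g // P n g }) ⟨base.choose, base.choose_spec⟩ (fun n g => next n g) n
  let G : (n : ℕ) → Λ →+* T ⧸ m ^ n := fun n =>
    (Ideal.Quotient.factor (Ideal.pow_le_pow_right (Nat.le_succ n))).comp (F n).1
  have hG : ∀ {a b : ℕ} (h : a ≤ b), (Ideal.Quotient.factor (Ideal.pow_le_pow_right h)).comp (G b) = G a := by
    intro a b h
    induction b, h using Nat.le_induction with
    | base => simp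
    | succ n hmn ih =>
      rw [← ih]
      have : G n = (Ideal.Quotient.factor (Ideal.pow_le_pow_right (Nat.le_succ n))).comp (G (n + 1)) := by
        show (Ideal.Quotient.factor _).comp (F n).1 =
          (Ideal.Quotient.factor _).comp ((Ideal.Quotient.factor _).comp (F (n + 1)).1)
        conv_lhs => rw [← hnext n (F n)]
      conv_rhs => rw [this, ← RingHom.comp_assoc, Ideal.Quotient.factor_comp]
  refine ⟨IsAdicComplete.liftRingHom m G (fun {a b} h => hG h), RingHom.ext fun x => ?_⟩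
  obtain ⟨r, hr⟩ := Ideal.Quotient.mk_surjective (f x)
  rw [RingHom.comp_apply, ← hr, Ideal.Quotient.eq]
  refine hJ _ fun n => ?_
  have h1 := IsAdicComplete.mk_liftRingHom m G (fun {a b} h => hG h) n x
  obtain ⟨s, hs⟩ := Ideal.Quotient.mk_surjective ((F n).1 x)
  have h2 := RingHom.congr_fun (F n).2 x
  simp only [G, RingHom.comp_apply, ← hs, ← hr, Ideal.Quotient.factor_mk, Ideal.Quotient.eq] at h1 h2
  have h3 : s - r ∈ J ⊔ m ^ n := (sup_le_sup_left (Ideal.pow_le_pow_right (Nat.le_succ n)) J) h2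
  have := add_mem (Submodule.mem_sup_right (S := J) h1) h3
  rwa [sub_add_sub_cancel] at this

/-- Ideals of Noetherian local rings are closed. -/
theorem mem_of_forall_mem_sup_pow {T : Type u} [CommRing T] [IsLocalRing T] [IsNoetherianRing T] {J : Ideal T}
    (hJ : J ≠ ⊤) {x : T} (h : ∀ n, x ∈ J ⊔ maximalIdeal T ^ n) : x ∈ J := by
  have : Nontrivial (T ⧸ J) := Ideal.Quotient.nontrivial_iff.2 hJ
  have : IsLocalRing (T ⧸ J) := .of_surjective' _ Ideal.Quotient.mk_surjective
  rw [← Ideal.Quotient.eq_zero_iff_mem]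
  refine IsHausdorff.haus (I := maximalIdeal (T ⧸ J)) inferInstance _ fun n => ?_
  rw [SModEq.zero, smul_eq_mul, Ideal.mul_top,
    ← IsLocalRing.map_maximalIdeal_of_surjective _ Ideal.Quotient.mk_surjective, ← Ideal.map_pow]
  obtain ⟨u, hu, v, hv, rfl⟩ := Submodule.mem_sup.1 (h n)
  rw [map_add, Ideal.Quotient.eq_zero_iff_mem.2 hu, zero_add]
  exact Ideal.mem_map_of_mem _ hv

/-- Maps out of power series agreeing on coefficients and variables agree. -/
theorem mvPowerSeries_hom_ext_hausdorff {Λ B : Type u} [CommRing Λ] [CommRing B] {n : ℕ} (I : Ideal B)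
    [IsHausdorff I B] (g g' : MvPowerSeries (Fin n) Λ →+* B)
    (hC : ∀ l, g (MvPowerSeries.C l) = g' (MvPowerSeries.C l))
    (hX : ∀ i, g (MvPowerSeries.X i) = g' (MvPowerSeries.X i))
    (hI : ∀ i, g (MvPowerSeries.X i) ∈ I) : g = g' := by
  refine RingHom.ext fun z => sub_eq_zero.1 (IsHausdorff.haus (I := I) inferInstance _ fun N => ?_)
  rw [SModEq.zero, smul_eq_mul, Ideal.mul_top, ← Ideal.Quotient.eq_zero_iff_mem, map_sub, sub_eq_zero]
  exact RingHom.congr_fun (AdicSmooth.mvPowerSeries_hom_ext_ring ((Ideal.Quotient.mk (I ^ N)).comp g)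
    ((Ideal.Quotient.mk (I ^ N)).comp g') (RingHom.ext fun l => congrArg (Ideal.Quotient.mk (I ^ N)) (hC l))
    (fun i => congrArg (Ideal.Quotient.mk (I ^ N)) (hX i)) (I.map (Ideal.Quotient.mk (I ^ N)))
    (fun i => Ideal.mem_map_of_mem _ (hI i)) (by rw [← Ideal.map_pow, Ideal.map_quotient_self])) z

/-- Assemble a factorization from a flat lift of coefficient rings. -/
theorem exists_factor_aux {A B Λ T B₀ : Type u} [CommRing A] [CommRing B] [IsLocalRing A] [IsLocalRing B]
    [IsNoetherianRing A] [IsAdicComplete (maximalIdeal A) A] [IsAdicComplete (maximalIdeal B) B]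
    (f : A →+* B) [IsLocalHom f] [CommRing Λ] [IsRegularLocalRing Λ] [CommRing T] [IsRegularLocalRing T]
    [IsAdicComplete (maximalIdeal T) T] [CommRing B₀] [IsRegularLocalRing B₀]
    (φ : Λ →+* A) (hφ : Function.Surjective ((residue A).comp φ)) (q : T →+* B) (hq : Function.Surjective q)
    (g : Λ →+* T) (hg : q.comp g = f.comp φ) (π : T →+* B₀) (hπ : Function.Surjective π)
    (hker : RingHom.ker π = (maximalIdeal Λ).map g) (hdim : ringKrullDim T = ringKrullDim Λ + ringKrullDim B₀) :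
    ∃ (R S : Type u) (_ : CommRing R) (_ : CommRing S) (ρ : R →+* S) (σ : R →+* A) (τ : S →+* B),
      IsRegularLocalRing R ∧ IsRegularLocalRing S ∧ ρ.Flat ∧ IsLocalHom ρ ∧
      (∃ _ : IsLocalRing R, IsRegularLocalRing (S ⧸ (maximalIdeal R).map ρ)) ∧
      Function.Surjective σ ∧ Function.Surjective τ ∧ τ.comp ρ = f.comp σ := by
  obtain ⟨n, a, ha⟩ := Submodule.fg_iff_exists_fin_generating_family.mp (IsNoetherian.noetherian (maximalIdeal A))
  have hI : ∀ i, a i ∈ maximalIdeal A := fun i => ha ▸ Submodule.subset_span ⟨i, rfl⟩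
  have hI' : ∀ i, f (a i) ∈ maximalIdeal B := fun i => map_nonunit f _ (hI i)
  obtain ⟨σ, hσC, hσX⟩ := exists_mvPowerSeries_eval φ (maximalIdeal A) a hI
  obtain ⟨τ, hτC, hτX⟩ := exists_mvPowerSeries_eval q (maximalIdeal B) (fun i => f (a i)) hI'
  have hσ : Function.Surjective σ := by
    refine surjective_mvPowerSeries_hom σ (maximalIdeal _) (fun i => (hσX i).symm ▸ hI i) ?_
    rw [show (fun i => σ (MvPowerSeries.X i)) = a from funext hσX, hσC,
      show Ideal.span (Set.range a) = maximalIdeal A from ha]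
    exact hφ
  have hτ : Function.Surjective τ := fun b => by
    obtain ⟨t, rfl⟩ := hq b
    exact ⟨MvPowerSeries.C t, RingHom.congr_fun hτC t⟩
  let k := ResidueField Λ
  letI : Algebra k B₀ := (Ideal.Quotient.lift (maximalIdeal Λ) (π.comp g) fun x hx => by
    show π (g x) = 0
    rw [← RingHom.mem_ker, hker]
    exact Ideal.mem_map_of_mem _ hx).toAlgebra
  obtain ⟨ρ₁, hreg, -, hflat, hloc, hρs, hρker, -⟩ := AdicSmooth.exists_flat_mvPowerSeries (k := k) π hπ g
    (residue Λ) (RingHom.ext fun _ => rfl) (ker_residue) hker hdim n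
  have hR := (isRegularLocalRing_mvPowerSeries Λ n).1
  refine ⟨MvPowerSeries (Fin n) Λ, MvPowerSeries (Fin n) T, inferInstance, inferInstance, MvPowerSeries.map g,
    σ, τ, hR, hreg, hflat, hloc, ⟨inferInstance, ?_⟩, hσ, hτ, ?_⟩
  · exact IsRegularLocalRing.of_ringEquiv
      ((RingHom.quotientKerEquivOfSurjective hρs).symm.trans (Ideal.quotEquivOfEq hρker))
  · refine mvPowerSeries_hom_ext_hausdorff (maximalIdeal B) _ _ (fun l => ?_) (fun i => ?_) fun i => ?_
    · show τ (MvPowerSeries.map g (MvPowerSeries.C l)) = f (σ (MvPowerSeries.C l))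
      rw [MvPowerSeries.map_C, show τ (MvPowerSeries.C (g l)) = q (g l) from RingHom.congr_fun hτC _,
        show σ (MvPowerSeries.C l) = φ l from RingHom.congr_fun hσC _]
      exact RingHom.congr_fun hg l
    · show τ (MvPowerSeries.map g (MvPowerSeries.X i)) = f (σ (MvPowerSeries.X i))
      rw [MvPowerSeries.map_X, hτX, hσX]
    · show τ (MvPowerSeries.map g (MvPowerSeries.X i)) ∈ _
      rw [MvPowerSeries.map_X, hτX]
      exact hI' i

/-- A Cohen ring with given residue characteristic maps to any complete local ring. -/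
theorem exists_cohen_coefficient (p : ℕ) [hp : Fact p.Prime] (R : Type u) [CommRing R] [IsLocalRing R]
    [IsAdicComplete (maximalIdeal R) R] (hpR : (p : R) ∈ maximalIdeal R) :
    ∃ (Λ : Type u) (_ : CommRing Λ) (_ : IsDomain Λ) (_ : IsDiscreteValuationRing Λ) (φ : Λ →+* R),
      IsAdicComplete (maximalIdeal Λ) Λ ∧ maximalIdeal Λ = Ideal.span {(p : Λ)} ∧
      Function.Surjective ((residue R).comp φ) := by
  have hpk : (p : ResidueField R) = 0 := by rw [← map_natCast (residue R), residue_eq_zero_iff]; exact hpR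
  have : CharP (ResidueField R) p := (CharP.charP_iff_prime_eq_zero hp.out).mpr hpk
  obtain ⟨Λ, _, _, hΛ, ⟨e⟩⟩ := exists_cohenRing p (ResidueField R)
  obtain ⟨hdom, hdvr, hc, p', hp', hm⟩ := id hΛ
  have hpq : p' = p := by
    have h1 : (p' : ResidueField R) = 0 := by
      rw [← map_natCast e, ← map_natCast (residue Λ), (residue_eq_zero_iff _).mpr (hm ▸ Ideal.mem_span_singleton_self _), map_zero]
    exact ((Nat.prime_dvd_prime_iff_eq hp.out hp').mp ((CharP.cast_eq_zero_iff (ResidueField R) p p').mp h1)).symm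
  subst hpq
  obtain ⟨φ, hφ⟩ := exists_lift_cohen p' (hm ▸ maximalIdeal.isMaximal Λ)
    (fun h => IsDiscreteValuationRing.not_a_field Λ (by rw [hm, h, Ideal.span_singleton_zero]))
    (maximalIdeal R) hpR (e.toRingHom.comp (residue Λ))
  refine ⟨Λ, inferInstance, hdom, hdvr, φ, hc, hm, ?_⟩
  rw [show (residue R).comp φ = _ from hφ]
  exact e.surjective.comp residue_surjective

/-- Cohen factorizations exist. -/
theorem exists_factor {A B : Type u} [CommRing A] [CommRing B] [IsLocalRing A] [IsLocalRing B]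
    [IsNoetherianRing A] [IsNoetherianRing B] [IsAdicComplete (maximalIdeal A) A]
    [IsAdicComplete (maximalIdeal B) B] (f : A →+* B) [IsLocalHom f] :
    ∃ (R S : Type u) (_ : CommRing R) (_ : CommRing S) (ρ : R →+* S) (σ : R →+* A) (τ : S →+* B),
      IsRegularLocalRing R ∧ IsRegularLocalRing S ∧ ρ.Flat ∧ IsLocalHom ρ ∧
      (∃ _ : IsLocalRing R, IsRegularLocalRing (S ⧸ (maximalIdeal R).map ρ)) ∧
      Function.Surjective σ ∧ Function.Surjective τ ∧ τ.comp ρ = f.comp σ := by
  obtain ⟨m, b, hb⟩ := Submodule.fg_iff_exists_fin_generating_family.mp (IsNoetherian.noetherian (maximalIdeal B))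
  have hbI : ∀ i, b i ∈ maximalIdeal B := fun i => hb ▸ Submodule.subset_span ⟨i, rfl⟩
  have hq' : ∀ {L : Type u} [CommRing L] (ψ : L →+* B), Function.Surjective ((residue B).comp ψ) →
      ∃ q : MvPowerSeries (Fin m) L →+* B, q.comp MvPowerSeries.C = ψ ∧ Function.Surjective q := by
    intro L _ ψ hψ
    obtain ⟨q, hqC, hqX⟩ := exists_mvPowerSeries_eval ψ (maximalIdeal B) b hbI
    refine ⟨q, hqC, surjective_mvPowerSeries_hom q (maximalIdeal _) (fun i => (hqX i).symm ▸ hbI i) ?_⟩
    rw [show (fun i => q (MvPowerSeries.X i)) = b from funext hqX, hqC,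
      show Ideal.span (Set.range b) = maximalIdeal B from hb]
    exact hψ
  have hlift : ∀ {L T : Type u} [CommRing L] [CommRing T] [IsLocalRing T] [IsNoetherianRing T]
      [IsAdicComplete (maximalIdeal T) T], LiftsStep L (maximalIdeal T) → ∀ (q : T →+* B),
      Function.Surjective q → ∀ h : L →+* B, ∃ g : L →+* T, q.comp g = h := by
    intro L T _ _ _ _ _ hstep q hq h
    let e := RingHom.quotientKerEquivOfSurjective hq
    obtain ⟨g, hg⟩ := exists_lift_adic (maximalIdeal T) (RingHom.ker q) (le_maximalIdeal (RingHom.ker_ne_top q))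
      (fun x hx => mem_of_forall_mem_sup_pow (RingHom.ker_ne_top q) hx) hstep (e.symm.toRingHom.comp h)
    refine ⟨g, RingHom.ext fun l => ?_⟩
    have := congrArg e (RingHom.congr_fun hg l)
    simpa [e] using this
  obtain ⟨p, hp⟩ := CharP.exists (ResidueField A)
  rcases CharP.char_is_prime_or_zero (ResidueField A) p with hprime | rfl
  · have : Fact p.Prime := ⟨hprime⟩
    have hpA : (p : A) ∈ maximalIdeal A := by
      rw [← residue_eq_zero_iff, map_natCast]; exact CharP.cast_eq_zero _ p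
    have hpB : (p : B) ∈ maximalIdeal B := map_natCast f p ▸ map_nonunit f _ hpA
    obtain ⟨Λ, _, _, _, φ, hcΛ, hmΛ, hφ⟩ := exists_cohen_coefficient p A hpA
    obtain ⟨ΛB, _, _, _, ψ, hcB, hmB, hψ⟩ := exists_cohen_coefficient p B hpB
    obtain ⟨q, hqC, hq⟩ := hq' ψ hψ
    have hTreg : IsRegularLocalRing (MvPowerSeries (Fin m) ΛB) := (isRegularLocalRing_mvPowerSeries ΛB m).1
    have hTc : IsAdicComplete (maximalIdeal (MvPowerSeries (Fin m) ΛB)) (MvPowerSeries (Fin m) ΛB) :=
      isAdicComplete_maximalIdeal_mvPowerSeries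
    let π : MvPowerSeries (Fin m) ΛB →+* MvPowerSeries (Fin m) (ResidueField ΛB) := MvPowerSeries.map (residue ΛB)
    have hπ : Function.Surjective π := fun x => by
      choose c hc using fun j => residue_surjective (R := ΛB) (MvPowerSeries.coeff j x)
      obtain ⟨c', hc'⟩ : ∃ c' : MvPowerSeries (Fin m) ΛB, ∀ j, MvPowerSeries.coeff j c' = c j := ⟨c, fun _ => rfl⟩
      exact ⟨c', MvPowerSeries.ext fun j => by rw [MvPowerSeries.coeff_map, hc']; exact hc j⟩
    have hπk : RingHom.ker π = Ideal.span {(p : MvPowerSeries (Fin m) ΛB)} := by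
      rw [AdicSmooth.ker_map_mvPowerSeries (residue ΛB) (p : ΛB) (by rw [ker_residue, hmB]), map_natCast]
    have hpT : (p : MvPowerSeries (Fin m) ΛB) ∈ maximalIdeal _ :=
      le_maximalIdeal (RingHom.ker_ne_top π) (hπk ▸ Ideal.mem_span_singleton_self _)
    obtain ⟨g, hg⟩ := hlift (liftsStep_cohen p (hmΛ ▸ maximalIdeal.isMaximal Λ)
      (fun h => IsDiscreteValuationRing.not_a_field Λ (by rw [hmΛ, h, Ideal.span_singleton_zero])) hpT) q hq (f.comp φ)
    have hB₀ := (isRegularLocalRing_mvPowerSeries (ResidueField ΛB) m).1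
    refine exists_factor_aux f φ hφ q hq g hg π hπ ?_ ?_
    · rw [hπk, hmΛ, Ideal.map_span, Set.image_singleton, map_natCast]
    · rw [AdicSmooth.ringKrullDim_mvPowerSeries_regular, AdicSmooth.ringKrullDim_mvPowerSeries_regular,
        IsDiscreteValuationRing.ringKrullDim_eq_one, IsDiscreteValuationRing.ringKrullDim_eq_one,
        ringKrullDim_eq_zero_of_field, zero_add]
  · have : CharZero (ResidueField A) := CharP.charP_to_charZero _
    have hkB : CharZero (ResidueField B) :=
      charZero_of_injective_ringHom (ResidueField.map f).injective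
    have hu : ∀ {L : Type u} [CommRing L] [IsLocalRing L], CharZero (ResidueField L) →
        ∀ z : nonZeroDivisors ℤ, IsUnit ((Int.castRingHom L) z) := by
      intro L _ _ _ z
      by_contra hz
      have h1 : residue L ((z : ℤ) : L) = 0 := Ideal.Quotient.eq_zero_iff_mem.mpr hz
      rw [map_intCast, Int.cast_eq_zero] at h1
      exact nonZeroDivisors.coe_ne_zero z h1
    letI : Algebra ℚ A := (IsLocalization.lift (M := nonZeroDivisors ℤ) (S := ℚ) (hu ‹_›)).toAlgebra
    letI : Algebra ℚ B := (IsLocalization.lift (M := nonZeroDivisors ℤ) (S := ℚ) (hu hkB)).toAlgebra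
    obtain ⟨φ, hφ⟩ := exists_coefficient_field (F := ℚ) (R := A)
    obtain ⟨ψ, hψ⟩ := exists_coefficient_field (F := ℚ) (R := B)
    obtain ⟨q, hqC, hq⟩ := hq' ψ hψ
    have hTreg : IsRegularLocalRing (MvPowerSeries (Fin m) (ResidueField B)) :=
      (isRegularLocalRing_mvPowerSeries (ResidueField B) m).1
    have hTc : IsAdicComplete (maximalIdeal (MvPowerSeries (Fin m) (ResidueField B)))
        (MvPowerSeries (Fin m) (ResidueField B)) := isAdicComplete_maximalIdeal_mvPowerSeries
    obtain ⟨g, hg⟩ := hlift (liftsStep_charZero (ResidueField A)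
      (T := MvPowerSeries (Fin m) (ResidueField B)) _) q hq (f.comp φ)
    refine exists_factor_aux f φ hφ q hq g hg (RingHom.id _) Function.surjective_id ?_ ?_
    · rw [maximalIdeal_eq_bot, Ideal.map_bot]
      exact (RingHom.injective_iff_ker_eq_bot _).mp Function.injective_id
    · rw [ringKrullDim_eq_zero_of_field, zero_add]

end Groth.Agent.CAlgH.CohenFactor
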