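import Groth.Agent.CAlgH.Avramov
import Groth.Agent.CAlgH.CohenFactor
import Groth.Agent.CAlgH.CIPresentation
import Groth.Agent.CommAlg6.CompletionMap

/-!
# Avramov's theorem
-/

universe u

set_option autoImplicit false

open IsLocalRing

namespace Groth.Agent.CAlgH.AvramovCI

theorem isCompleteIntersection_of_cpl_equiv {X Y : Type u} [CommRing X] [IsLocalRing X] [CommRing Y]
    [IsLocalRing Y] (e : EGA4.Cpl X ≃+* EGA4.Cpl Y) (h : Pi1.IsCompleteIntersection X) :
    Pi1.IsCompleteIntersection Y := by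
  obtain ⟨P, _, _, rs, hm, hrs, ⟨eP⟩⟩ := h
  exact ⟨P, inferInstance, inferInstance, rs, hm, hrs, ⟨e.symm.trans eP⟩⟩

theorem exists_cpl_equiv_of_equiv {X Y : Type u} [CommRing X] [IsLocalRing X] [IsNoetherianRing X]
    [CommRing Y] [IsLocalRing Y] [IsNoetherianRing Y] (e : X ≃+* Y) :
    Nonempty (EGA4.Cpl X ≃+* EGA4.Cpl Y) := by
  obtain ⟨eC⟩ := completion_quotient_equiv e.toRingHom e.surjective
  refine ⟨(RingEquiv.quotientBot _).symm.trans ((Ideal.quotEquivOfEq ?_).trans eC)⟩
  rw [(RingHom.injective_iff_ker_eq_bot e.toRingHom).1 e.injective, Ideal.map_bot]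

theorem isCompleteIntersection_iff_of_equiv {X Y : Type u} [CommRing X] [IsLocalRing X] [IsNoetherianRing X]
    [CommRing Y] [IsLocalRing Y] [IsNoetherianRing Y] (e : X ≃+* Y) :
    Pi1.IsCompleteIntersection X ↔ Pi1.IsCompleteIntersection Y := by
  obtain ⟨eC⟩ := exists_cpl_equiv_of_equiv e
  exact ⟨isCompleteIntersection_of_cpl_equiv eC, isCompleteIntersection_of_cpl_equiv eC.symm⟩

theorem isCompleteIntersection_cpl_iff {X : Type u} [CommRing X] [IsLocalRing X] [IsNoetherianRing X] :
    Pi1.IsCompleteIntersection (EGA4.Cpl X) ↔ Pi1.IsCompleteIntersection X := by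
  let e : EGA4.Cpl (EGA4.Cpl X) ≃+* EGA4.Cpl X :=
    (AdicCompletion.ofAlgEquiv (maximalIdeal (EGA4.Cpl X))).symm.toRingEquiv
  exact ⟨isCompleteIntersection_of_cpl_equiv e, isCompleteIntersection_of_cpl_equiv e.symm⟩

/-- Avramov's theorem for complete local rings. -/
theorem avramov_complete {A B : Type u} [CommRing A] [CommRing B] [IsNoetherianRing A] [IsNoetherianRing B]
    [IsLocalRing A] [IsLocalRing B] [IsAdicComplete (maximalIdeal A) A] [IsAdicComplete (maximalIdeal B) B]
    [Algebra A B] [IsLocalHom (algebraMap A B)] [Module.Flat A B]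
    [IsLocalRing (B ⧸ (maximalIdeal A).map (algebraMap A B))] :
    Pi1.IsCompleteIntersection B ↔
      Pi1.IsCompleteIntersection A ∧
        Pi1.IsCompleteIntersection (B ⧸ (maximalIdeal A).map (algebraMap A B)) := by
  obtain ⟨R, S, _, _, ρ, σ, τ, hR, hS, hflat, hloc, ⟨_, hfib⟩, hσ, hτ, hcomm⟩ :=
    CohenFactor.exists_factor (algebraMap A B)
  letI : Algebra R S := ρ.toAlgebra
  letI : Algebra R A := σ.toAlgebra
  letI : Algebra S B := τ.toAlgebra
  letI : Algebra R B := ((algebraMap A B).comp σ).toAlgebra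
  have : IsScalarTower R A B := .of_algebraMap_eq' rfl
  have : IsScalarTower R S B := .of_algebraMap_eq' hcomm.symm
  have : IsLocalHom (algebraMap R S) := hloc
  have : Module.Flat R S := hflat
  have : IsRegularLocalRing (S ⧸ (maximalIdeal R).map (algebraMap R S)) := hfib
  rw [CIPresentation.isCompleteIntersection_iff (algebraMap S B) hτ,
    CIPresentation.isCompleteIntersection_iff (algebraMap R A) hσ,
    Avramov.isRegularIdeal_ker_iff hσ hτ]
  refine and_congr Iff.rfl ?_
  obtain ⟨eF⟩ := Avramov.fibre_equiv (R := R) (A := A) (B := B) S hτ hσ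
  have : Nontrivial ((S ⧸ (maximalIdeal R).map (algebraMap R S)) ⧸ (RingHom.ker (algebraMap S B)).map
      (Ideal.Quotient.mk ((maximalIdeal R).map (algebraMap R S)))) := eF.toEquiv.nontrivial
  have : IsLocalRing ((S ⧸ (maximalIdeal R).map (algebraMap R S)) ⧸ (RingHom.ker (algebraMap S B)).map
      (Ideal.Quotient.mk ((maximalIdeal R).map (algebraMap R S)))) :=
    .of_surjective' _ Ideal.Quotient.mk_surjective
  rw [← isCompleteIntersection_iff_of_equiv eF,
    CIPresentation.isCompleteIntersection_iff (Ideal.Quotient.mk _) Ideal.Quotient.mk_surjective, Ideal.mk_ker]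

/-- Avramov's theorem. -/
theorem avramov {A B : Type u} [CommRing A] [CommRing B] [IsNoetherianRing A]
    [IsNoetherianRing B] [IsLocalRing A] [IsLocalRing B] [Algebra A B]
    [IsLocalHom (algebraMap A B)] [Module.Flat A B]
    [IsLocalRing (B ⧸ Ideal.map (algebraMap A B) (maximalIdeal A))] :
    Pi1.IsCompleteIntersection B ↔
      (Pi1.IsCompleteIntersection A ∧
        Pi1.IsCompleteIntersection (B ⧸ Ideal.map (algebraMap A B) (maximalIdeal A))) := by
  have : IsNoetherianRing (EGA4.Cpl A) := Matlis6.isNoetherianRing_adicCompletion (maximalIdeal A)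
  have : IsNoetherianRing (EGA4.Cpl B) := Matlis6.isNoetherianRing_adicCompletion (maximalIdeal B)
  obtain ⟨_, hT, hff⟩ := CommAlg6.exists_algebra_completion A B
  let F := B ⧸ (maximalIdeal A).map (algebraMap A B)
  obtain ⟨eC⟩ := completion_quotient_equiv (Ideal.Quotient.mk ((maximalIdeal A).map (algebraMap A B)))
    Ideal.Quotient.mk_surjective
  have hmap : ((maximalIdeal (EGA4.Cpl A))).map (algebraMap (EGA4.Cpl A) (EGA4.Cpl B)) =
      (RingHom.ker (Ideal.Quotient.mk ((maximalIdeal A).map (algebraMap A B)))).map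
        (algebraMap B (EGA4.Cpl B)) := by
    rw [Ideal.mk_ker, Ideal.map_map, ← IsScalarTower.algebraMap_eq, AdicCompletion.maximalIdeal_eq_map,
      Ideal.map_map, ← IsScalarTower.algebraMap_eq]
  let eF : (EGA4.Cpl B ⧸ (maximalIdeal (EGA4.Cpl A)).map (algebraMap (EGA4.Cpl A) (EGA4.Cpl B))) ≃+*
      EGA4.Cpl F := (Ideal.quotEquivOfEq hmap).trans eC
  have : IsNoetherianRing (EGA4.Cpl F) := Matlis6.isNoetherianRing_adicCompletion (maximalIdeal F)
  have : IsLocalRing (EGA4.Cpl B ⧸ (maximalIdeal (EGA4.Cpl A)).map (algebraMap (EGA4.Cpl A) (EGA4.Cpl B))) :=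
    eF.symm.isLocalRing
  have h := avramov_complete (A := EGA4.Cpl A) (B := EGA4.Cpl B)
  rwa [isCompleteIntersection_cpl_iff, isCompleteIntersection_cpl_iff, isCompleteIntersection_iff_of_equiv eF,
    isCompleteIntersection_cpl_iff] at h

end Groth.Agent.CAlgH.AvramovCI
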