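import Groth.Agent.EGA43.GrFlat.NormFlat
import Mathlib.RingTheory.Extension.Presentation.Core

/-!
# A Noetherian model of an ideal with flat graded pieces
-/

universe u

set_option autoImplicit false
set_option backward.isDefEq.respectTransparency false

open TensorProduct Function

namespace Groth.Agent.CAlgH.BlowupModel

open Groth.Agent.EGA43 Groth.Agent.EGA43.GrFlat

attribute [local instance] FlatDescent.bcModule

theorem exists_model {A B : Type u} [CommRing A] [CommRing B] [Algebra A B] [Algebra.FinitePresentation A B]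
    {r : ℕ} (g : Fin r → B) :
    ∃ (R : Type u) (_ : CommRing R) (_ : IsNoetherianRing R) (_ : Algebra R A) (P : Type u) (_ : CommRing P)
      (_ : Algebra R P) (_ : Algebra.FiniteType R P) (ψ : A ⊗[R] P ≃ₐ[A] B) (f : Fin r → P),
      ∀ i, ψ (1 ⊗ₜ f i) = g i := by
  classical
  let n := Algebra.Presentation.ofFinitePresentationVars A B
  let m := Algebra.Presentation.ofFinitePresentationRels A B
  let Q : Algebra.Presentation A B (Fin n) (Fin m) := Algebra.Presentation.ofFinitePresentation A B
  let F : Fin r → MvPolynomial (Fin n) A := fun i => Q.σ (g i)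
  let s : Finset A := Finset.univ.biUnion fun i => (F i).coeffs
  let R := Algebra.adjoin Q.Core (s : Set A)
  haveI : IsNoetherianRing Q.Core := Algebra.FiniteType.isNoetherianRing ℤ Q.Core
  haveI : IsNoetherianRing R := FlatDescent.isNoetherianRing_of_fg (Subalgebra.fg_adjoin_finset s)
  have hF : ∀ i, F i ∈ Set.range (MvPolynomial.map (algebraMap R A)) := fun i => by
    rw [MvPolynomial.mem_range_map_iff_coeffs_subset]
    exact fun c hc => ⟨⟨c, Algebra.subset_adjoin (Finset.mem_biUnion.2 ⟨i, Finset.mem_univ i, hc⟩)⟩, rfl⟩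
  choose F' hF' using hF
  refine ⟨R, inferInstance, inferInstance, inferInstance, Q.ModelOfHasCoeffs R, inferInstance, inferInstance,
    inferInstance, Q.tensorModelOfHasCoeffsEquiv R, fun i => Ideal.Quotient.mk _ (F' i), fun i => ?_⟩
  rw [Algebra.Presentation.tensorModelOfHasCoeffsEquiv_tmul, map_one, one_mul,
    ← MvPolynomial.aeval_map_algebraMap A, hF']
  exact Q.aeval_val_σ (g i)

theorem act_eq_mul {R A P : Type u} [CommRing R] [CommRing A] [Algebra R A] [CommRing P] [Algebra R P]
    (t x : A ⊗[R] P) :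
    (Module.endTensorEndAlgHom.comp (Algebra.TensorProduct.map (Algebra.lsmul R R A : A →ₐ[R] Module.End R A)
      (Algebra.lsmul R R P : P →ₐ[R] Module.End R P))) t x = t * x := by
  induction t using TensorProduct.induction_on with
  | zero => rw [map_zero, zero_mul, LinearMap.zero_apply]
  | add a b ha hb => rw [map_add, LinearMap.add_apply, ha, hb, add_mul]
  | tmul a p =>
    induction x using TensorProduct.induction_on with
    | zero => rw [map_zero, mul_zero]
    | add a b ha hb => rw [map_add, ha, hb, mul_add]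
    | tmul a' p' =>
      rw [Algebra.TensorProduct.tmul_mul_tmul]
      rfl

theorem exists_flat_model {A B : Type u} [CommRing A] [CommRing B] [Algebra A B]
    [Algebra.FinitePresentation A B] {r : ℕ} (g : Fin r → B)
    (hgr : ∀ k : ℕ, Module.Flat A
      (↥(Ideal.span (Set.range g) ^ k • (⊤ : Submodule B B)) ⧸ Submodule.comap
        (Ideal.span (Set.range g) ^ k • (⊤ : Submodule B B)).subtype (Ideal.span (Set.range g) ^ (k + 1) • ⊤))) :
    ∃ (R : Type u) (_ : CommRing R) (_ : IsNoetherianRing R) (_ : Algebra R A) (P : Type u) (_ : CommRing P)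
      (_ : Algebra R P) (_ : Algebra.FiniteType R P) (ψ : A ⊗[R] P ≃ₐ[A] B) (f : Fin r → P),
      (∀ i, ψ (1 ⊗ₜ f i) = g i) ∧
        ∀ k : ℕ, Module.Flat R (P ⧸ Ideal.span (Set.range f) ^ k) := by
  obtain ⟨R, _, _, _, P, _, _, _, ψ, f, hf⟩ := exists_model (A := A) g
  obtain ⟨S, hS, hflat⟩ := Filt.exists_stage f P A fun k => by
    obtain ⟨e₁⟩ := nonempty_trunc_equiv ψ.toAlgHom ψ.surjective ψ.toLinearEquiv
      (fun t x => (congrArg ψ (act_eq_mul t x)).trans (map_mul ψ t x)) f g hf k
    have := flat_trunc_of_gr _ B hgr k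
    exact Module.Flat.of_linearEquiv (e₁ ≪≫ₗ Submodule.Quotient.restrictScalarsEquiv A _)
  have := FlatDescent.isNoetherianRing_of_fg hS
  have : Algebra.FiniteType S (S ⊗[R] P) := Algebra.FiniteType.baseChange (A := P) S
  let fS : Fin r → S ⊗[R] P := fun i => 1 ⊗ₜ f i
  let φ := Algebra.TensorProduct.cancelBaseChange R S A A P
  refine ⟨S, inferInstance, inferInstance, inferInstance, S ⊗[R] P, inferInstance, inferInstance, inferInstance,
    φ.trans ψ, fS, ?_, fun k => ?_⟩
  · intro i
    show ψ (φ ((1 : A) ⊗ₜ[S] ((1 : S) ⊗ₜ[R] f i))) = g i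
    rw [show φ ((1 : A) ⊗ₜ[S] ((1 : S) ⊗ₜ[R] f i)) = (1 : A) ⊗ₜ[R] f i by simp [φ], hf]
  · obtain ⟨e₁⟩ := nonempty_trunc_equiv (AlgHom.id S (S ⊗[R] P)) surjective_id (LinearEquiv.refl S (S ⊗[R] P))
      (fun t x => act_eq_mul t x) f fS (fun i => rfl) k
    have := hflat k
    refine Module.Flat.of_linearEquiv ((Submodule.quotEquivOfEq _ _ ?_).restrictScalars S ≪≫ₗ
      (Submodule.Quotient.restrictScalarsEquiv S _).symm ≪≫ₗ e₁.symm)
    exact (Ideal.mul_top _).symm

end Groth.Agent.CAlgH.BlowupModel
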