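import Mathlib.RingTheory.Flat.Equalizer
import Mathlib.RingTheory.Adjoin.Tower
import Mathlib.RingTheory.Localization.Away.Basic
import Mathlib.RingTheory.TensorProduct.Maps
import Mathlib.RingTheory.FinitePresentation
import Groth.Prelude.Def_BlowUp2
import Groth.Agent.CAlgH.BlowupModel

/-! Charts of the blow-up of an ideal with flat graded pieces are finitely presented. -/

set_option autoImplicit false
set_option backward.isDefEq.respectTransparency.types false
universe u

open TensorProduct

namespace Groth.Agent.CAlgH.BlowupChartFP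

section frac

variable {P : Type u} [CommRing P] (I : Ideal P) (a : P)

/-- `x / a ^ k`. -/
noncomputable abbrev fr (k : ℕ) (x : P) : Localization.Away a :=
  IsLocalization.mk' (Localization.Away a) x (⟨a ^ k, k, rfl⟩ : Submonoid.powers a)

theorem fr_mul_pow (k : ℕ) (x : P) :
    fr a k x * algebraMap P (Localization.Away a) a ^ k = algebraMap P (Localization.Away a) x := by
  rw [← map_pow]
  exact IsLocalization.mk'_spec (M := Submonoid.powers a) _ x ⟨a ^ k, k, rfl⟩

theorem eq_fr_iff {z : Localization.Away a} {k : ℕ} {x : P} :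
    z = fr a k x ↔ z * algebraMap P (Localization.Away a) a ^ k = algebraMap P (Localization.Away a) x := by
  refine ⟨fun h => h ▸ fr_mul_pow a k x, fun h => ?_⟩
  rw [← fr_mul_pow a k x] at h
  exact ((IsLocalization.Away.algebraMap_isUnit (S := Localization.Away a) a).pow k).mul_left_injective h

theorem fr_shift (k N : ℕ) (x : P) : fr a (k + N) (a ^ N * x) = fr a k x := by
  symm
  rw [eq_fr_iff, pow_add, ← mul_assoc, fr_mul_pow, map_mul, map_pow]
  ring

theorem fr_mem (k : ℕ) : ∀ x ∈ I ^ k, fr a k x ∈ BlowUp.affineAlgebra P I a := by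
  induction k with
  | zero =>
    intro x _
    have : algebraMap P (Localization.Away a) x = fr a 0 x := by rw [eq_fr_iff, pow_zero, mul_one]
    exact this ▸ Subalgebra.algebraMap_mem _ x
  | succ k ih =>
    intro x hx
    rw [pow_succ] at hx
    refine Submodule.mul_induction_on hx (fun y hy z hz => ?_) (fun y z hy hz => ?_)
    · have : fr a k y * IsLocalization.mk' (Localization.Away a) z
          (⟨a, Submonoid.mem_powers a⟩ : Submonoid.powers a) = fr a (k + 1) (y * z) := by
        rw [eq_fr_iff, pow_succ, mul_mul_mul_comm, fr_mul_pow,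
          IsLocalization.mk'_spec (M := Submonoid.powers a) _ z ⟨a, Submonoid.mem_powers a⟩, map_mul]
      exact this ▸ mul_mem (ih y hy) (Algebra.subset_adjoin ⟨z, hz, rfl⟩)
    · have : fr a (k + 1) y + fr a (k + 1) z = fr a (k + 1) (y + z) := by
        rw [eq_fr_iff, add_mul, fr_mul_pow, fr_mul_pow, map_add]
      exact this ▸ add_mem hy hz

theorem exists_fr (ha : a ∈ I) {z : Localization.Away a} (hz : z ∈ BlowUp.affineAlgebra P I a) :
    ∃ k, ∃ x ∈ I ^ k, z = fr a k x := by
  induction hz using Algebra.adjoin_induction with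
  | mem q hq =>
    obtain ⟨x, hx, rfl⟩ := hq
    refine ⟨1, x, by rwa [pow_one], ?_⟩
    rw [eq_fr_iff, pow_one]
    exact IsLocalization.mk'_spec (M := Submonoid.powers a) _ x ⟨a, Submonoid.mem_powers a⟩
  | algebraMap r => exact ⟨0, r, by simp, by rw [eq_fr_iff, pow_zero, mul_one]⟩
  | add y z _ _ hy hz =>
    obtain ⟨k, x, hx, rfl⟩ := hy
    obtain ⟨l, w, hw, rfl⟩ := hz
    refine ⟨k + l, a ^ l * x + a ^ k * w, add_mem ?_ ?_, ?_⟩
    · rw [pow_add, mul_comm (a ^ l)]; exact Ideal.mul_mem_mul hx (Ideal.pow_mem_pow ha l)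
    · rw [pow_add]; exact Ideal.mul_mem_mul (Ideal.pow_mem_pow ha k) hw
    · rw [eq_fr_iff, add_mul, map_add, map_mul, map_mul, map_pow, map_pow, pow_add]
      conv_rhs => rw [← fr_mul_pow a k x, ← fr_mul_pow a l w]
      ring
  | mul y z _ _ hy hz =>
    obtain ⟨k, x, hx, rfl⟩ := hy
    obtain ⟨l, w, hw, rfl⟩ := hz
    refine ⟨k + l, x * w, by rw [pow_add]; exact Ideal.mul_mem_mul hx hw, ?_⟩
    rw [eq_fr_iff, pow_add, mul_mul_mul_comm, fr_mul_pow, fr_mul_pow, map_mul]

theorem finiteType [IsNoetherianRing P] : Algebra.FiniteType P (BlowUp.affineAlgebra P I a) := by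
  classical
  obtain ⟨s, hs⟩ := IsNoetherian.noetherian I
  refine (Subalgebra.fg_iff_finiteType _).1 ⟨s.image (fun x => IsLocalization.mk' (Localization.Away a) x
    (⟨a, Submonoid.mem_powers a⟩ : Submonoid.powers a)), le_antisymm (Algebra.adjoin_le ?_) (Algebra.adjoin_le ?_)⟩
  · intro q hq
    obtain ⟨x, hx, rfl⟩ := Finset.mem_image.1 hq
    exact Algebra.subset_adjoin ⟨x, hs ▸ Submodule.subset_span hx, rfl⟩
  · rintro _ ⟨x, hx, rfl⟩
    rw [← hs] at hx
    induction hx using Submodule.span_induction with
    | mem y hy => exact Algebra.subset_adjoin (Finset.mem_image_of_mem _ hy)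
    | zero => rw [IsLocalization.mk'_zero]; exact zero_mem _
    | add y z _ _ hy hz => rw [IsLocalization.mk'_eq_mul_mk'_one, map_add, add_mul, ← IsLocalization.mk'_eq_mul_mk'_one, ← IsLocalization.mk'_eq_mul_mk'_one]; exact add_mem hy hz
    | smul c y _ hy => rw [smul_eq_mul, ← IsLocalization.mul_mk'_eq_mk'_of_mul]; exact mul_mem (Subalgebra.algebraMap_mem _ c) hy

end frac

section core

variable {R A P B : Type u} [CommRing R] [IsNoetherianRing R] [CommRing A] [Algebra R A] [CommRing P]
  [Algebra R P] [Algebra.FiniteType R P] [CommRing B] [Algebra A B] [Algebra P B]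
  (ψ : A ⊗[R] P ≃ₐ[A] B) (hψ : ∀ p, algebraMap P B p = ψ (1 ⊗ₜ p))

include hψ in
theorem ψ_tmul (a : A) (p : P) : ψ (a ⊗ₜ p) = algebraMap A B a * algebraMap P B p := by
  rw [hψ, ← ψ.commutes a, ← map_mul, Algebra.TensorProduct.algebraMap_apply,
    Algebra.TensorProduct.tmul_mul_tmul, one_mul, mul_one]
  simp

set_option maxHeartbeats 1000000 in
include hψ in
theorem finitePresentation_chart {I : Ideal P} (hflat : ∀ k, Module.Flat R (P ⧸ I ^ k)) (a : P) (ha : a ∈ I) :
    Algebra.FinitePresentation B (BlowUp.affineAlgebra B (I.map (algebraMap P B)) (algebraMap P B a)) := by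
  haveI : IsNoetherianRing P := Algebra.FiniteType.isNoetherianRing R P
  set b := algebraMap P B a with hb
  let C' := BlowUp.affineAlgebra P I a
  let L := Localization.Away b
  haveI : Algebra.FiniteType P C' := finiteType I a
  haveI : Algebra.FinitePresentation P C' := Algebra.FinitePresentation.of_finiteType.mp inferInstance
  have hunit : ∀ y : Submonoid.powers a, IsUnit ((Algebra.ofId P L) y.1) := by
    rintro ⟨_, k, rfl⟩
    rw [map_pow]
    refine IsUnit.pow k ?_
    show IsUnit (algebraMap P L a)
    rw [IsScalarTower.algebraMap_apply P B L]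
    exact IsLocalization.Away.algebraMap_isUnit b
  let μ : Localization.Away a →ₐ[P] L := IsLocalization.liftAlgHom (M := Submonoid.powers a) (f := Algebra.ofId P L) hunit
  have hμ : ∀ k x, μ (fr a k x) * algebraMap B L b ^ k = algebraMap B L (algebraMap P B x) := fun k x => by
    have h := congrArg μ (fr_mul_pow a k x)
    rw [map_mul, map_pow, μ.commutes, μ.commutes, IsScalarTower.algebraMap_apply P B L,
      IsScalarTower.algebraMap_apply P B L] at h
    exact h
  let θ : B ⊗[P] C' →ₐ[B] L := Algebra.TensorProduct.lift (Algebra.ofId B L) (μ.comp C'.val) fun _ _ => Commute.all _ _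
  let ι : ∀ k, ↥(I ^ k) →ₗ[R] C' := fun k =>
    { toFun := fun x => ⟨fr a k x.1, fr_mem I a k _ x.2⟩
      map_add' := fun x y => Subtype.ext (((eq_fr_iff a).2 (by
        show (fr a k x.1 + fr a k y.1) * _ = _
        rw [add_mul, fr_mul_pow, fr_mul_pow, ← map_add]
        rfl)).symm)
      map_smul' := fun c x => Subtype.ext (((eq_fr_iff a).2 (by
        show (c • fr a k x.1) * _ = _
        rw [smul_mul_assoc, fr_mul_pow, ← algebraMap_smul P c (algebraMap P (Localization.Away a) x.1),
          Algebra.smul_def, ← map_mul]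
        congr 1
        rw [← Algebra.smul_def]
        rfl)).symm) }
  let incl : ∀ k, A ⊗[R] ↥(I ^ k) →ₗ[R] A ⊗[R] P := fun k => ((I ^ k).subtype.restrictScalars R).lTensor A
  have hincl : ∀ k, Function.Injective (incl k) := fun k =>
    haveI := hflat k
    LinearMap.lTensor_injective_of_exact_of_flat ((I ^ k).mkQ.restrictScalars R) (I ^ k).mkQ_surjective
      ((I ^ k).subtype.restrictScalars R) (I ^ k).subtype_injective (LinearMap.exact_subtype_mkQ _) A
  let Φ : ∀ k, A ⊗[R] ↥(I ^ k) →+ B ⊗[P] C' := fun k => TensorProduct.liftAddHom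
    { toFun := fun c =>
        { toFun := fun x => (algebraMap A B c) ⊗ₜ[P] ι k x
          map_zero' := by rw [map_zero, tmul_zero]
          map_add' := fun x y => by rw [map_add, tmul_add] }
      map_zero' := AddMonoidHom.ext fun x => by
        show algebraMap A B 0 ⊗ₜ[P] ι k x = 0
        rw [map_zero, zero_tmul]
      map_add' := fun c d => AddMonoidHom.ext fun x => by
        show algebraMap A B (c + d) ⊗ₜ[P] ι k x = _
        rw [map_add, add_tmul]; rfl }
    (fun r c x => by
      show algebraMap A B (r • c) ⊗ₜ[P] ι k x = algebraMap A B c ⊗ₜ[P] ι k (r • x)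
      have h1 : algebraMap A B (r • c) = algebraMap R P r • algebraMap A B c := by
        rw [Algebra.smul_def r c, map_mul, Algebra.smul_def, hψ, ← ψ.commutes (algebraMap R A r)]
        congr 2
        rw [Algebra.TensorProduct.algebraMap_apply, Algebra.algebraMap_self_apply,
          Algebra.algebraMap_eq_smul_one (R := R) (A := A), Algebra.algebraMap_eq_smul_one (R := R) (A := P),
          TensorProduct.smul_tmul]
      rw [h1, TensorProduct.smul_tmul, algebraMap_smul, map_smul])
  have hΦt : ∀ k c x, Φ k (c ⊗ₜ x) = algebraMap A B c ⊗ₜ[P] ι k x := fun k c x => rfl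
  have hθΦ : ∀ k w, θ (Φ k w) * algebraMap B L b ^ k = algebraMap B L (ψ (incl k w)) := by
    intro k w
    induction w using TensorProduct.induction_on with
    | zero => rw [map_zero, map_zero, zero_mul, map_zero, map_zero, map_zero]
    | add u v hu hv => rw [map_add, map_add, add_mul, hu, hv, map_add, map_add, map_add]
    | tmul c x =>
      rw [hΦt, Algebra.TensorProduct.lift_tmul, mul_assoc]
      show algebraMap B L (algebraMap A B c) * (μ (fr a k x.1) * _) = _
      rw [hμ, ← map_mul, ← ψ_tmul ψ hψ]
      rfl
  let s : ∀ k N, ↥(I ^ k) →ₗ[R] ↥(I ^ (k + N)) := fun k N =>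
    ((LinearMap.mul R P (a ^ N)).comp ((I ^ k).subtype.restrictScalars R)).codRestrict
      ((I ^ (k + N)).restrictScalars R) fun x => by
        show a ^ N * x.1 ∈ I ^ (k + N)
        rw [mul_comm, pow_add]
        exact Ideal.mul_mem_mul x.2 (Ideal.pow_mem_pow ha N)
  have hΦs : ∀ k N w, Φ (k + N) ((s k N).lTensor A w) = Φ k w := by
    intro k N w
    induction w using TensorProduct.induction_on with
    | zero => simp only [map_zero]
    | add u v hu hv => simp only [map_add, hu, hv]
    | tmul c x =>
      rw [LinearMap.lTensor_tmul, hΦt, hΦt]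
      congr 1
      exact Subtype.ext (fr_shift a k N x.1)
  have hincls : ∀ k N w, incl (k + N) ((s k N).lTensor A w) = (1 ⊗ₜ (a ^ N)) * incl k w := by
    intro k N w
    induction w using TensorProduct.induction_on with
    | zero => simp only [map_zero, mul_zero]
    | add u v hu hv => simp only [map_add, hu, hv, mul_add]
    | tmul c x =>
      show c ⊗ₜ[R] (a ^ N * x.1) = (1 ⊗ₜ (a ^ N)) * (c ⊗ₜ[R] x.1)
      rw [Algebra.TensorProduct.tmul_mul_tmul, one_mul]
  have hsurj : ∀ z, ∃ k w, Φ k w = z := by
    intro z
    induction z using TensorProduct.induction_on with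
    | zero => exact ⟨0, 0, map_zero _⟩
    | add u v hu hv =>
      obtain ⟨k, w, rfl⟩ := hu
      obtain ⟨l, w', rfl⟩ := hv
      refine ⟨k + l, (s k l).lTensor A w +
        ((s l k).lTensor A w' |> fun t => ((Submodule.inclusion (le_of_eq (by rw [add_comm k l]) :
          I ^ (l + k) ≤ I ^ (k + l))).restrictScalars R).lTensor A t), ?_⟩
      rw [map_add, hΦs]
      congr 1
      rw [← hΦs l k w']
      generalize (s l k).lTensor A w' = t
      induction t using TensorProduct.induction_on with
      | zero => simp only [map_zero]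
      | add p q hp hq => simp only [map_add, hp, hq]
      | tmul c x =>
        simp only [LinearMap.lTensor_tmul, hΦt]
        congr 1
        exact Subtype.ext (by
          show fr a (k + l) x.1 = fr a (l + k) x.1
          rw [add_comm k l])
    | tmul y c =>
      obtain ⟨k, x, hx, hc⟩ := exists_fr I a ha c.2
      obtain ⟨t, rfl⟩ := ψ.surjective y
      induction t using TensorProduct.induction_on with
      | zero => exact ⟨0, 0, by rw [map_zero, map_zero, zero_tmul]⟩
      | add p q hp hq =>
        obtain ⟨l, w, hw⟩ := hp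
        obtain ⟨l', w', hw'⟩ := hq
        refine ⟨l + l', (s l l').lTensor A w +
          ((s l' l).lTensor A w' |> fun t => ((Submodule.inclusion (le_of_eq (by rw [add_comm l l']) :
            I ^ (l' + l) ≤ I ^ (l + l'))).restrictScalars R).lTensor A t), ?_⟩
        rw [map_add, hΦs, map_add, add_tmul, hw]
        congr 1
        rw [← hw', ← hΦs l' l w']
        generalize (s l' l).lTensor A w' = t
        induction t using TensorProduct.induction_on with
        | zero => simp only [map_zero]
        | add p q hp hq => simp only [map_add, hp, hq]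
        | tmul c x =>
          simp only [LinearMap.lTensor_tmul, hΦt]
          congr 1
          exact Subtype.ext (by
            show fr a (l + l') x.1 = fr a (l' + l) x.1
            rw [add_comm l l'])
      | tmul d p =>
        refine ⟨k, d ⊗ₜ ⟨p * x, Ideal.mul_mem_left _ p hx⟩, ?_⟩
        rw [hΦt, ψ_tmul ψ hψ, show algebraMap A B d * algebraMap P B p = p • algebraMap A B d by
          rw [Algebra.smul_def, mul_comm], TensorProduct.smul_tmul]
        congr 1
        refine Subtype.ext ?_
        show fr a k (p * x) = p • (c : Localization.Away a)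
        rw [hc]
        symm
        rw [eq_fr_iff, Algebra.smul_def, mul_assoc, fr_mul_pow, map_mul]
  have hinj : Function.Injective θ := by
    rw [injective_iff_map_eq_zero]
    intro z hz
    obtain ⟨k, w, rfl⟩ := hsurj z
    have h := hθΦ k w
    rw [hz, zero_mul] at h
    obtain ⟨⟨_, N, rfl⟩, hN⟩ := (IsLocalization.map_eq_zero_iff (Submonoid.powers b) L _).1 h.symm
    have h0 : incl (k + N) ((s k N).lTensor A w) = 0 := ψ.injective (by
      rw [hincls, map_mul, ← hψ, map_pow, map_zero]
      exact hN)
    rw [← hΦs k N w, hincl (k + N) (h0.trans (map_zero _).symm), map_zero]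
  have hrange : θ.range = BlowUp.affineAlgebra B (I.map (algebraMap P B)) b := by
    refine le_antisymm ?_ (Algebra.adjoin_le ?_)
    · rintro _ ⟨z, rfl⟩
      show θ z ∈ _
      induction z using TensorProduct.induction_on with
      | zero => rw [map_zero]; exact zero_mem _
      | add u v hu hv => rw [map_add]; exact add_mem hu hv
      | tmul y c =>
        rw [Algebra.TensorProduct.lift_tmul]
        refine mul_mem (Subalgebra.algebraMap_mem _ y) ?_
        obtain ⟨k, x, hx, hc⟩ := exists_fr I a ha c.2
        show μ (c : Localization.Away a) ∈ _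
        rw [hc, (eq_fr_iff b).2 (hμ k x)]
        exact fr_mem _ b k _ (by rw [← Ideal.map_pow]; exact Ideal.mem_map_of_mem _ hx)
    · rintro _ ⟨x, hx, rfl⟩
      induction hx using Submodule.span_induction with
      | mem y hy =>
        obtain ⟨p, hp, rfl⟩ := hy
        refine ⟨1 ⊗ₜ ⟨fr a 1 p, fr_mem I a 1 p (by rwa [pow_one])⟩, ?_⟩
        show θ _ = _
        rw [Algebra.TensorProduct.lift_tmul, map_one, one_mul, IsLocalization.eq_mk'_iff_mul_eq]
        have := hμ 1 p
        rwa [pow_one] at this
      | zero => rw [IsLocalization.mk'_zero]; exact zero_mem _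
      | add y z _ _ hy hz => rw [IsLocalization.mk'_eq_mul_mk'_one, map_add, add_mul, ← IsLocalization.mk'_eq_mul_mk'_one, ← IsLocalization.mk'_eq_mul_mk'_one]; exact add_mem hy hz
      | smul c y _ hy =>
        rw [smul_eq_mul, ← IsLocalization.mul_mk'_eq_mk'_of_mul]
        exact mul_mem (Subalgebra.algebraMap_mem _ c) hy
  exact Algebra.FinitePresentation.equiv
    ((AlgEquiv.ofInjective θ hinj).trans (Subalgebra.equivOfEq _ _ hrange))

end core

/-- Charts of the blow-up of an ideal with flat graded pieces are finitely presented. -/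
theorem finitePresentation_of_gr_flat {A B : Type u} [CommRing A] [CommRing B] [Algebra A B]
    [Algebra.FinitePresentation A B] {r : ℕ} (g : Fin r → B)
    (hgr : ∀ k : ℕ, Module.Flat A
      (↥(Ideal.span (Set.range g) ^ k • (⊤ : Submodule B B)) ⧸ Submodule.comap
        (Ideal.span (Set.range g) ^ k • (⊤ : Submodule B B)).subtype (Ideal.span (Set.range g) ^ (k + 1) • ⊤)))
    (i : Fin r) : Algebra.FinitePresentation B (BlowUp.affineAlgebra B (Ideal.span (Set.range g)) (g i)) := by
  obtain ⟨R, _, _, _, P, _, _, _, ψ, f, hf, hflat⟩ := BlowupModel.exists_flat_model g hgr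
  letI : Algebra P B := (ψ.toAlgHom.toRingHom.comp
    (Algebra.TensorProduct.includeRight (R := R) (A := A) (B := P)).toRingHom).toAlgebra
  have h := finitePresentation_chart (R := R) ψ (fun p => rfl) hflat (f i) (Ideal.subset_span ⟨i, rfl⟩)
  have h1 : (Ideal.span (Set.range f)).map (algebraMap P B) = Ideal.span (Set.range g) := by
    rw [Ideal.map_span, ← Set.range_comp]
    exact congrArg _ (congrArg _ (funext hf))
  have h2 : algebraMap P B (f i) = g i := hf i
  rw [h1, h2] at h
  exact h

end Groth.Agent.CAlgH.BlowupChartFP
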