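import Mathlib.RingTheory.Flat.EquationalCriterion
import Mathlib.RingTheory.Flat.Stability
import Mathlib.RingTheory.RingHom.Flat
import Groth.Prelude.Def_EGA4b
import Groth.Prelude.Def_BlowUp2
import Groth.Agent.CAlgH.BlowupChartFP
import Groth.Agent.EGA43.GrFlat.Krull

/-! Flatness of the exceptional divisor of the blow-up of a normally flat centre. -/

set_option autoImplicit false
set_option backward.isDefEq.respectTransparency.types false
universe u

open TensorProduct

namespace Groth.Agent.CAlgH.BlowupChartFlat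

open BlowupChartFP

variable {B : Type u} [CommRing B]

/-- The graded piece in degree `k`. -/
abbrev Gr (J : Ideal B) (k : ℕ) : Type u :=
  ↥(J ^ k • (⊤ : Submodule B B)) ⧸ (J • (⊤ : Submodule B ↥(J ^ k • (⊤ : Submodule B B))))

theorem mem_pow {J : Ideal B} {k : ℕ} (x : ↥(J ^ k • (⊤ : Submodule B B))) : (x : B) ∈ J ^ k := by
  obtain ⟨x, hx⟩ := x
  rwa [smul_eq_mul, Ideal.mul_top] at hx

theorem smul_top_eq_comap (J : Ideal B) (k : ℕ) :
    (J • (⊤ : Submodule B ↥(J ^ k • (⊤ : Submodule B B)))) =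
      Submodule.comap (J ^ k • (⊤ : Submodule B B)).subtype (J ^ (k + 1) • ⊤) := by
  apply Submodule.map_injective_of_injective (Submodule.injective_subtype _)
  rw [Submodule.map_smul'', Submodule.map_top, Submodule.range_subtype, Submodule.map_comap_subtype,
    inf_eq_right.2 (Submodule.smul_mono (Ideal.pow_le_pow_right k.le_succ) le_rfl), ← Submodule.smul_assoc,
    pow_succ']
  rfl

/-- Flatness of the graded pieces over a base from normal flatness. -/
theorem flat_gr {A : Type u} [CommRing A] [Algebra A B] (J : Ideal B) [Module.Flat A (B ⧸ J)]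
    (h : EGA4.IsNormallyFlat J B) (k : ℕ) : Module.Flat A
      (↥(J ^ k • (⊤ : Submodule B B)) ⧸ Submodule.comap (J ^ k • (⊤ : Submodule B B)).subtype (J ^ (k + 1) • ⊤)) := by
  rw [← smul_top_eq_comap]
  haveI := h k
  haveI : IsScalarTower A (B ⧸ J) (Gr J k) := IsScalarTower.of_algebraMap_smul fun r x => by
    rw [IsScalarTower.algebraMap_apply A B (B ⧸ J), algebraMap_smul, algebraMap_smul]
  exact Module.Flat.trans A (B ⧸ J) (Gr J k)

variable {J : Ideal B} {a : B}

/-- Multiplication by a power of `a` on graded pieces. -/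
theorem exists_shift (ha : a ∈ J) (k N : ℕ) :
    ∃ σ : Gr J k →ₗ[B] Gr J (k + N), ∀ (x : ↥(J ^ k • (⊤ : Submodule B B))),
      ∀ (h : a ^ N * (x : B) ∈ J ^ (k + N) • (⊤ : Submodule B B)),
        σ (Submodule.Quotient.mk x) = Submodule.Quotient.mk ⟨a ^ N * (x : B), h⟩ := by
  let m : ↥(J ^ k • (⊤ : Submodule B B)) →ₗ[B] ↥(J ^ (k + N) • (⊤ : Submodule B B)) :=
    ((LinearMap.mul B B (a ^ N)).comp (Submodule.subtype _)).codRestrict _ fun x => by
      show a ^ N * (x : B) ∈ J ^ (k + N) • (⊤ : Submodule B B)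
      rw [smul_eq_mul, Ideal.mul_top, mul_comm, pow_add]
      exact Ideal.mul_mem_mul (mem_pow x) (Ideal.pow_mem_pow ha N)
  refine ⟨Submodule.mapQ _ _ m ?_, fun x h => rfl⟩
  rw [← Submodule.map_le_iff_le_comap, Submodule.map_smul'']
  exact Submodule.smul_mono le_rfl le_top

theorem map_eq_span (ha : a ∈ J) :
    J.map (algebraMap B (BlowUp.affineAlgebra B J a)) = Ideal.span {algebraMap B (BlowUp.affineAlgebra B J a) a} := by
  refine le_antisymm (Ideal.map_le_iff_le_comap.2 fun x hx => ?_)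
    ((Ideal.span_singleton_le_iff_mem _).2 (Ideal.mem_map_of_mem _ ha))
  refine Ideal.mem_span_singleton'.2 ⟨⟨fr a 1 x, fr_mem J a 1 x (by rwa [pow_one])⟩, Subtype.ext ?_⟩
  have := fr_mul_pow a 1 x
  rwa [pow_one] at this

theorem mem_nonZeroDivisors (J : Ideal B) (a : B) :
    algebraMap B (BlowUp.affineAlgebra B J a) a ∈ nonZeroDivisors (BlowUp.affineAlgebra B J a) := by
  rw [mem_nonZeroDivisors_iff_right]
  exact fun z hz => Subtype.ext
    ((IsLocalization.Away.algebraMap_isUnit (S := Localization.Away a) a).mul_left_eq_zero.1 (congrArg Subtype.val hz))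

set_option maxHeartbeats 1000000 in
/-- The exceptional divisor in a chart is flat over the centre. -/
theorem flat_quotientMap (hn : EGA4.IsNormallyFlat J B) (ha : a ∈ J)
    (hle : J ≤ (Ideal.span {algebraMap B (BlowUp.affineAlgebra B J a) a}).comap
      (algebraMap B (BlowUp.affineAlgebra B J a))) :
    @RingHom.Flat (B ⧸ J) (_ ⧸ Ideal.span {algebraMap B (BlowUp.affineAlgebra B J a) a}) _ _
      (Ideal.quotientMap _ (algebraMap B (BlowUp.affineAlgebra B J a)) hle) := by
  let C := BlowUp.affineAlgebra B J a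
  let E := C ⧸ Ideal.span {algebraMap B C a}
  letI : CommRing E := Ideal.Quotient.commRing _
  letI : Algebra (B ⧸ J) E := RingHom.toAlgebra (Ideal.quotientMap _ (algebraMap B C) hle : B ⧸ J →+* E)
  show Module.Flat (B ⧸ J) E
  haveI : IsScalarTower B (B ⧸ J) E := IsScalarTower.of_algebraMap_eq fun r => rfl
  let π₀ : ∀ k, ↥(J ^ k • (⊤ : Submodule B B)) →ₗ[B] E := fun k => (Ideal.Quotient.mkₐ B _).toLinearMap.comp
    ({ toFun := fun x => ⟨fr a k x, fr_mem J a k _ (mem_pow x)⟩
       map_add' := fun x y => Subtype.ext (((eq_fr_iff a).2 (by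
         show (fr a k x + fr a k y) * _ = _
         rw [add_mul, fr_mul_pow, fr_mul_pow, ← map_add]
         rfl)).symm)
       map_smul' := fun c x => Subtype.ext (((eq_fr_iff a).2 (by
         show (c • fr a k (x : B)) * _ = _
         rw [smul_mul_assoc, fr_mul_pow, Algebra.smul_def, ← map_mul]
         rfl)).symm) } : ↥(J ^ k • (⊤ : Submodule B B)) →ₗ[B] C)
  have hπ₀ : ∀ k x, π₀ k x = Ideal.Quotient.mk _ (⟨fr a k x, fr_mem J a k _ (mem_pow x)⟩ : C) := fun k x => rfl
  have hker : ∀ k, (J • (⊤ : Submodule B ↥(J ^ k • (⊤ : Submodule B B)))) ≤ LinearMap.ker (π₀ k) := fun k =>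
    Submodule.smul_le.2 fun r hr x _ => by
      rw [LinearMap.mem_ker, map_smul, ← algebraMap_smul (B ⧸ J) r (π₀ k x),
        Ideal.Quotient.algebraMap_eq, Ideal.Quotient.eq_zero_iff_mem.2 hr, zero_smul]
  let π : ∀ k, Gr J k →ₗ[B] E := fun k => Submodule.liftQ _ (π₀ k) (hker k)
  have hπsmul : ∀ k (r : B ⧸ J) z, π k (r • z) = r • π k z := fun k r z => by
    obtain ⟨r, rfl⟩ := Ideal.Quotient.mk_surjective r
    rw [← Ideal.Quotient.algebraMap_eq, algebraMap_smul, algebraMap_smul, map_smul]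
  have hshift : ∀ k N (σ : Gr J k →ₗ[B] Gr J (k + N)), (∀ x h, σ (Submodule.Quotient.mk x) =
      Submodule.Quotient.mk ⟨a ^ N * (x : B), h⟩) → ∀ z, π (k + N) (σ z) = π k z := by
    intro k N σ hσ z
    obtain ⟨x, rfl⟩ := Submodule.Quotient.mk_surjective _ z
    rw [hσ x (by
      rw [smul_eq_mul, Ideal.mul_top, mul_comm, pow_add]
      exact Ideal.mul_mem_mul (mem_pow x) (Ideal.pow_mem_pow ha N))]
    show π₀ (k + N) _ = π₀ k x
    rw [hπ₀, hπ₀]
    exact congrArg _ (Subtype.ext (fr_shift a k N x))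
  have hsurj : ∀ z : E, ∃ k y, π k y = z := fun z => by
    obtain ⟨⟨c, hc⟩, rfl⟩ := Ideal.Quotient.mk_surjective z
    obtain ⟨k, x, hx, rfl⟩ := exists_fr J a ha hc
    exact ⟨k, Submodule.Quotient.mk ⟨x, by rwa [smul_eq_mul, Ideal.mul_top]⟩, rfl⟩
  have hzero : ∀ k (z : Gr J k), π k z = 0 → ∃ N, ∀ (σ : Gr J k →ₗ[B] Gr J (k + N)),
      (∀ x h, σ (Submodule.Quotient.mk x) = Submodule.Quotient.mk ⟨a ^ N * (x : B), h⟩) → σ z = 0 := by
    intro k z hz
    obtain ⟨x, rfl⟩ := Submodule.Quotient.mk_surjective _ z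
    obtain ⟨⟨c, hc⟩, hcx⟩ := Ideal.mem_span_singleton'.1 (Ideal.Quotient.eq_zero_iff_mem.1 hz)
    obtain ⟨m, y, hy, rfl⟩ := exists_fr J a ha hc
    have h1 : fr a m y * algebraMap B (Localization.Away a) a = fr a k (x : B) := congrArg Subtype.val hcx
    have h2 : algebraMap B (Localization.Away a) (a ^ m * (x : B)) =
        algebraMap B (Localization.Away a) (a ^ (k + 1) * y) := by
      rw [map_mul, map_mul, map_pow, map_pow, ← fr_mul_pow a k (x : B), ← fr_mul_pow a m y, ← h1]
      ring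
    obtain ⟨⟨_, N, rfl⟩, hN⟩ := (IsLocalization.eq_iff_exists (Submonoid.powers a) _).1 h2
    refine ⟨N + m, fun σ hσ => ?_⟩
    have hmem : a ^ (N + m) * (x : B) ∈ J ^ (k + (N + m)) • (⊤ : Submodule B B) := by
      rw [smul_eq_mul, Ideal.mul_top, mul_comm, pow_add]
      exact Ideal.mul_mem_mul (mem_pow x) (Ideal.pow_mem_pow ha _)
    rw [hσ x hmem, Submodule.Quotient.mk_eq_zero, smul_top_eq_comap]
    show a ^ (N + m) * (x : B) ∈ J ^ (k + (N + m) + 1) • (⊤ : Submodule B B)
    rw [smul_eq_mul, Ideal.mul_top, show a ^ (N + m) * (x : B) = a ^ N * (a ^ m * (x : B)) by ring,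
      show a ^ N * (a ^ m * (x : B)) = a ^ N * (a ^ (k + 1) * y) from hN,
      show a ^ N * (a ^ (k + 1) * y) = a ^ (N + (k + 1)) * y by ring,
      show k + (N + m) + 1 = (N + (k + 1)) + m by ring, pow_add J]
    exact Ideal.mul_mem_mul (Ideal.pow_mem_pow ha _) hy
  refine Module.Flat.of_forall_isTrivialRelation fun {l f x} h => ?_
  choose k y hy using fun i => hsurj (x i)
  let K := Finset.univ.sup k
  have hlift : ∀ i, ∃ y' : Gr J K, π K y' = x i := fun i => by
    obtain ⟨d, hd⟩ := Nat.exists_eq_add_of_le (Finset.le_sup (Finset.mem_univ i) : k i ≤ K)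
    obtain ⟨σ, hσ⟩ := exists_shift ha (k i) d
    have : ∀ K', k i + d = K' → ∃ y' : Gr J K', π K' y' = x i := by
      rintro _ rfl
      exact ⟨σ (y i), (hshift _ _ σ hσ _).trans (hy i)⟩
    exact this K hd.symm
  choose y' hy' using hlift
  have h0 : π K (∑ i, f i • y' i) = 0 := by
    rw [map_sum]
    simp only [hπsmul, hy', h]
  obtain ⟨N, hN⟩ := hzero K _ h0
  obtain ⟨σ, hσ⟩ := exists_shift ha K N
  have hσsmul : ∀ (r : B ⧸ J) z, σ (r • z) = r • σ z := fun r z => by
    obtain ⟨r, rfl⟩ := Ideal.Quotient.mk_surjective r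
    rw [← Ideal.Quotient.algebraMap_eq, algebraMap_smul, algebraMap_smul, map_smul]
  have h1 : ∑ i, f i • σ (y' i) = 0 := by
    rw [← hN σ hσ, map_sum]
    simp only [hσsmul]
  haveI := hn (K + N)
  obtain ⟨n, w, c, hc, hfc⟩ := Module.Flat.isTrivialRelation_of_sum_smul_eq_zero h1
  refine ⟨n, w, fun j => π (K + N) (c j), fun i => ?_, hfc⟩
  simp only at hc
  rw [← hy' i, ← hshift K N σ hσ, hc i, map_sum]
  exact Finset.sum_congr rfl fun j _ => hπsmul _ _ _

set_option maxHeartbeats 1000000 in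
/-- The chart is flat over the base along the exceptional divisor. -/
theorem flat_chart_at {A C : Type u} [CommRing A] [CommRing C] [Algebra A C] [Algebra.FinitePresentation A C]
    (t : C) (ht : t ∈ nonZeroDivisors C) [Module.Flat A (C ⧸ Ideal.span {t})]
    (q : Ideal C) [q.IsPrime] (hq : t ∈ q) : Module.Flat A (LocalizedModule q.primeCompl C) := by
  refine EGA43.GrFlat.flat_localized_of_gr_flat (Ideal.span {t}) ⟨{t}, by simp⟩ C (fun k => ?_) q
    ((Ideal.span_singleton_le_iff_mem _).2 hq)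
  set N := (Ideal.span {t}) ^ k • (⊤ : Submodule C C)
  set M' := Submodule.comap N.subtype ((Ideal.span {t}) ^ (k + 1) • (⊤ : Submodule C C))
  let φ₀ : C →ₗ[C] ↥N := (LinearMap.toSpanSingleton C C (t ^ k)).codRestrict N fun c => by
    show c • t ^ k ∈ N
    refine Submodule.smul_mem _ c ?_
    show t ^ k ∈ (Ideal.span {t}) ^ k • (⊤ : Submodule C C)
    rw [smul_eq_mul, Ideal.mul_top]
    exact Ideal.pow_mem_pow (Ideal.mem_span_singleton_self t) k
  let φ : C →ₗ[C] ↥N ⧸ M' := M'.mkQ.comp φ₀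
  have hsurj : Function.Surjective φ := fun z => by
    obtain ⟨⟨z, hz⟩, rfl⟩ := Submodule.Quotient.mk_surjective _ z
    have hz' : z ∈ (Ideal.span {t}) ^ k := by
      have := hz; rwa [show N = (Ideal.span {t}) ^ k • (⊤ : Submodule C C) from rfl, smul_eq_mul, Ideal.mul_top] at this
    rw [Ideal.span_singleton_pow, Ideal.mem_span_singleton'] at hz'
    obtain ⟨c, rfl⟩ := hz'
    exact ⟨c, rfl⟩
  have hker : LinearMap.ker φ = Ideal.span {t} := by
    ext c
    rw [LinearMap.mem_ker]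
    show Submodule.Quotient.mk (φ₀ c) = 0 ↔ _
    rw [Submodule.Quotient.mk_eq_zero]
    show c • t ^ k ∈ (Ideal.span {t}) ^ (k + 1) • (⊤ : Submodule C C) ↔ _
    rw [smul_eq_mul, smul_eq_mul, Ideal.mul_top, Ideal.span_singleton_pow, Ideal.mem_span_singleton',
      Ideal.mem_span_singleton']
    refine exists_congr fun d => ?_
    rw [pow_succ, mul_comm (t ^ k) t, ← mul_assoc]
    exact mul_cancel_right_mem_nonZeroDivisors (pow_mem ht k)
  exact Module.Flat.of_linearEquiv
    (((φ.quotKerEquivOfSurjective hsurj).symm.trans (Submodule.quotEquivOfEq _ _ hker)).restrictScalars A)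

end Groth.Agent.CAlgH.BlowupChartFlat
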