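import Mathlib.RingTheory.Flat.EquationalCriterion
import Mathlib.RingTheory.Flat.Stability
import Mathlib.LinearAlgebra.TensorProduct.RightExactness
import Mathlib.RingTheory.TensorProduct.Maps
import Groth.Agent.CAlgH.BlowupChartFlat
import Groth.Agent.S6304

/-! Blow-ups in a centre all of whose infinitesimal neighbourhoods are flat over the base: algebra. -/

set_option autoImplicit false
set_option backward.isDefEq.respectTransparency.types false
universe u

open TensorProduct

namespace Groth.Agent.CAlgH.BlowupChartFlatPowers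

open BlowupChartFP BlowupChartFlat

variable {B : Type u} [CommRing B]

/-- Graded pieces are flat if all the quotients by powers are. -/
theorem flat_gr_of_powers {A : Type u} [CommRing A] [Algebra A B] (J : Ideal B)
    (hn : ∀ n : ℕ, Module.Flat A (B ⧸ J ^ (n + 1))) (k : ℕ) : Module.Flat A (Gr J k) := by
  haveI := hn k
  haveI : Module.Flat A (B ⧸ J ^ k) := by
    cases k with
    | zero =>
      haveI : Subsingleton (B ⧸ J ^ 0) := Ideal.Quotient.subsingleton_iff.2 (by rw [pow_zero, Ideal.one_eq_top])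
      haveI := Module.Free.of_subsingleton A (B ⧸ J ^ 0)
      infer_instance
    | succ m => exact hn m
  let i₀ : Gr J k →ₗ[B] B ⧸ J ^ (k + 1) :=
    Submodule.liftQ _ ((Ideal.Quotient.mkₐ B (J ^ (k + 1))).toLinearMap.comp (Submodule.subtype _)) (by
      rw [smul_top_eq_comap]
      intro x hx
      refine Ideal.Quotient.eq_zero_iff_mem.2 ?_
      have h : (x : B) ∈ J ^ (k + 1) • (⊤ : Submodule B B) := hx
      rwa [smul_eq_mul, Ideal.mul_top] at h)
  let q₀ : (B ⧸ J ^ (k + 1)) →ₗ[B] B ⧸ J ^ k :=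
    (Ideal.Quotient.factorₐ B (Ideal.pow_le_pow_right k.le_succ)).toLinearMap
  have hi : Function.Injective i₀ := by
    rw [← LinearMap.ker_eq_bot, Submodule.ker_liftQ_eq_bot']
    rw [smul_top_eq_comap]
    ext x
    show _ ↔ (Ideal.Quotient.mk (J ^ (k + 1)) (x : B)) = 0
    rw [Ideal.Quotient.eq_zero_iff_mem]
    show (x : B) ∈ J ^ (k + 1) • (⊤ : Submodule B B) ↔ _
    rw [smul_eq_mul, Ideal.mul_top]
  refine (S6304.result (i₀.restrictScalars A) (q₀.restrictScalars A) hi ?_ ?_).2 inferInstance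
  · intro y
    obtain ⟨b, rfl⟩ := Ideal.Quotient.mk_surjective y
    refine ⟨fun h => ?_, fun h => ?_⟩
    · have hb : b ∈ J ^ k := Ideal.Quotient.eq_zero_iff_mem.1 h
      exact ⟨Submodule.Quotient.mk ⟨b, by rwa [smul_eq_mul, Ideal.mul_top]⟩, rfl⟩
    · obtain ⟨z, hz⟩ := h
      obtain ⟨x, rfl⟩ := Submodule.Quotient.mk_surjective _ z
      rw [← hz]
      exact Ideal.Quotient.eq_zero_iff_mem.2 (mem_pow x)
  · intro y
    obtain ⟨b, rfl⟩ := Ideal.Quotient.mk_surjective y
    exact ⟨Ideal.Quotient.mk _ b, rfl⟩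

variable {J : Ideal B} {a : B}

set_option maxHeartbeats 1000000 in
/-- The exceptional divisor in a chart is flat over the base if all infinitesimal neighbourhoods of the centre are. -/
theorem flat_quotient_span {A : Type u} [CommRing A] [Algebra A B] (hn : ∀ n : ℕ, Module.Flat A (B ⧸ J ^ (n + 1)))
    (ha : a ∈ J) :
    Module.Flat A (BlowUp.affineAlgebra B J a ⧸
      Ideal.span {algebraMap B (BlowUp.affineAlgebra B J a) a}) := by
  let C := BlowUp.affineAlgebra B J a
  let E := C ⧸ Ideal.span {algebraMap B C a}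
  show Module.Flat A E
  have hle : J ≤ (Ideal.span {algebraMap B C a}).comap (algebraMap B C) :=
    Ideal.map_le_iff_le_comap.mp (map_eq_span ha).le
  let π₀ : ∀ k, ↥(J ^ k • (⊤ : Submodule B B)) →ₗ[B] E := fun k => (Ideal.Quotient.mkₐ B _).toLinearMap.comp
    ({ toFun := fun x => ⟨fr a k x, fr_mem J a k _ (mem_pow x)⟩
       map_add' := fun x y => Subtype.ext (((eq_fr_iff a).2 (by
         show (fr a k x + fr a k y) * _ = _
         rw [add_mul, fr_mul_pow, fr_mul_pow, ← map_add]
         rfl)).symm)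
       map_smul' := fun c x => Subtype.ext (((eq_fr_iff a).2 (by
         show (c • fr a k (x : B)) * _ = _
         rw [smul_mul_assoc, fr_mul_pow, Algebra.smul_def, ← map_mul]
         rfl)).symm) } : ↥(J ^ k • (⊤ : Submodule B B)) →ₗ[B] C)
  have hπ₀ : ∀ k x, π₀ k x = Ideal.Quotient.mk _ (⟨fr a k x, fr_mem J a k _ (mem_pow x)⟩ : C) := fun k x => rfl
  have hker : ∀ k, (J • (⊤ : Submodule B ↥(J ^ k • (⊤ : Submodule B B)))) ≤ LinearMap.ker (π₀ k) := fun k =>
    Submodule.smul_le.2 fun r hr x _ => by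
      rw [LinearMap.mem_ker, map_smul]
      have h0 : (algebraMap B E r : E) = 0 := Ideal.Quotient.eq_zero_iff_mem.2 (hle hr)
      refine (Algebra.smul_def r (π₀ k x)).trans ?_
      exact (congrArg (· * π₀ k x) h0).trans (zero_mul _)
  let π : ∀ k, Gr J k →ₗ[B] E := fun k => Submodule.liftQ _ (π₀ k) (hker k)
  have hπsmul : ∀ k (r : A) z, π k (r • z) = r • π k z := fun k r z => (π k).map_smul_of_tower r z
  have hshift : ∀ k N (σ : Gr J k →ₗ[B] Gr J (k + N)), (∀ x h, σ (Submodule.Quotient.mk x) =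
      Submodule.Quotient.mk ⟨a ^ N * (x : B), h⟩) → ∀ z, π (k + N) (σ z) = π k z := by
    intro k N σ hσ z
    obtain ⟨x, rfl⟩ := Submodule.Quotient.mk_surjective _ z
    rw [hσ x (by
      rw [smul_eq_mul, Ideal.mul_top, mul_comm, pow_add]
      exact Ideal.mul_mem_mul (mem_pow x) (Ideal.pow_mem_pow ha N))]
    show π₀ (k + N) _ = π₀ k x
    rw [hπ₀, hπ₀]
    exact congrArg _ (Subtype.ext (fr_shift a k N x))
  have hsurj : ∀ z : E, ∃ k y, π k y = z := fun z => by
    obtain ⟨⟨c, hc⟩, rfl⟩ := Ideal.Quotient.mk_surjective z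
    obtain ⟨k, x, hx, rfl⟩ := exists_fr J a ha hc
    exact ⟨k, Submodule.Quotient.mk ⟨x, by rwa [smul_eq_mul, Ideal.mul_top]⟩, rfl⟩
  have hzero : ∀ k (z : Gr J k), π k z = 0 → ∃ N, ∀ (σ : Gr J k →ₗ[B] Gr J (k + N)),
      (∀ x h, σ (Submodule.Quotient.mk x) = Submodule.Quotient.mk ⟨a ^ N * (x : B), h⟩) → σ z = 0 := by
    intro k z hz
    obtain ⟨x, rfl⟩ := Submodule.Quotient.mk_surjective _ z
    obtain ⟨⟨c, hc⟩, hcx⟩ := Ideal.mem_span_singleton'.1 (Ideal.Quotient.eq_zero_iff_mem.1 hz)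
    obtain ⟨m, y, hy, rfl⟩ := exists_fr J a ha hc
    have h1 : fr a m y * algebraMap B (Localization.Away a) a = fr a k (x : B) := congrArg Subtype.val hcx
    have h2 : algebraMap B (Localization.Away a) (a ^ m * (x : B)) =
        algebraMap B (Localization.Away a) (a ^ (k + 1) * y) := by
      rw [map_mul, map_mul, map_pow, map_pow, ← fr_mul_pow a k (x : B), ← fr_mul_pow a m y, ← h1]
      ring
    obtain ⟨⟨_, N, rfl⟩, hN⟩ := (IsLocalization.eq_iff_exists (Submonoid.powers a) _).1 h2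
    refine ⟨N + m, fun σ hσ => ?_⟩
    have hmem : a ^ (N + m) * (x : B) ∈ J ^ (k + (N + m)) • (⊤ : Submodule B B) := by
      rw [smul_eq_mul, Ideal.mul_top, mul_comm, pow_add]
      exact Ideal.mul_mem_mul (mem_pow x) (Ideal.pow_mem_pow ha _)
    rw [hσ x hmem, Submodule.Quotient.mk_eq_zero, smul_top_eq_comap]
    show a ^ (N + m) * (x : B) ∈ J ^ (k + (N + m) + 1) • (⊤ : Submodule B B)
    rw [smul_eq_mul, Ideal.mul_top, show a ^ (N + m) * (x : B) = a ^ N * (a ^ m * (x : B)) by ring,
      show a ^ N * (a ^ m * (x : B)) = a ^ N * (a ^ (k + 1) * y) from hN,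
      show a ^ N * (a ^ (k + 1) * y) = a ^ (N + (k + 1)) * y by ring,
      show k + (N + m) + 1 = (N + (k + 1)) + m by ring, pow_add J]
    exact Ideal.mul_mem_mul (Ideal.pow_mem_pow ha _) hy
  refine Module.Flat.of_forall_isTrivialRelation fun {l f x} h => ?_
  choose k y hy using fun i => hsurj (x i)
  let K := Finset.univ.sup k
  have hlift : ∀ i, ∃ y' : Gr J K, π K y' = x i := fun i => by
    obtain ⟨d, hd⟩ := Nat.exists_eq_add_of_le (Finset.le_sup (Finset.mem_univ i) : k i ≤ K)
    obtain ⟨σ, hσ⟩ := exists_shift ha (k i) d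
    have : ∀ K', k i + d = K' → ∃ y' : Gr J K', π K' y' = x i := by
      rintro _ rfl
      exact ⟨σ (y i), (hshift _ _ σ hσ _).trans (hy i)⟩
    exact this K hd.symm
  choose y' hy' using hlift
  have h0 : π K (∑ i, f i • y' i) = 0 := by
    rw [map_sum]
    simp only [hπsmul, hy', h]
  obtain ⟨N, hN⟩ := hzero K _ h0
  obtain ⟨σ, hσ⟩ := exists_shift ha K N
  have hσsmul : ∀ (r : A) z, σ (r • z) = r • σ z := fun r z => σ.map_smul_of_tower r z
  have h1 : ∑ i, f i • σ (y' i) = 0 := by
    rw [← hN σ hσ, map_sum]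
    simp only [hσsmul]
  haveI := flat_gr_of_powers J hn (K + N)
  obtain ⟨n, w, c, hc, hfc⟩ := Module.Flat.isTrivialRelation_of_sum_smul_eq_zero h1
  refine ⟨n, w, fun j => π (K + N) (c j), fun i => ?_, hfc⟩
  simp only at hc
  rw [← hy' i, ← hshift K N σ hσ, hc i, map_sum]
  exact Finset.sum_congr rfl fun j _ => hπsmul _ _ _

/-- A relative effective Cartier divisor stays one after base change: algebra. -/
theorem mem_nonZeroDivisors_tmul {A C : Type u} [CommRing A] [CommRing C] [Algebra A C] {t : C}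
    (ht : t ∈ nonZeroDivisors C) [Module.Flat A (C ⧸ Ideal.span {t})] (A' : Type u) [CommRing A'] [Algebra A A'] :
    t ⊗ₜ[A] (1 : A') ∈ nonZeroDivisors (C ⊗[A] A') := by
  have hinj : Function.Injective (LinearMap.mulLeft A t) := fun x y h =>
    (mul_cancel_left_mem_nonZeroDivisors ht).1 h
  have hex : Function.Exact (LinearMap.mulLeft A t) (Ideal.Quotient.mkₐ A (Ideal.span {t})).toLinearMap := by
    intro y
    refine Ideal.Quotient.eq_zero_iff_mem.trans ?_
    rw [Ideal.mem_span_singleton']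
    exact ⟨fun ⟨c, hc⟩ => ⟨c, (mul_comm t c).trans hc⟩, fun ⟨c, hc⟩ => ⟨c, (mul_comm c t).trans hc⟩⟩
  have h := (LinearMap.lTensor_inj_iff_rTensor_inj A' _).1
    (LinearMap.lTensor_injective_of_exact_of_flat _ Ideal.Quotient.mk_surjective _ hinj hex A')
  rw [mem_nonZeroDivisors_iff_right]
  intro z hz
  refine h (Eq.trans ?_ (map_zero _).symm)
  rw [← hz]
  clear hz
  induction z using TensorProduct.induction_on with
  | zero => simp only [map_zero, zero_mul]
  | add u v hu hv => simp only [map_add, add_mul, hu, hv]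
  | tmul c x =>
    rw [LinearMap.rTensor_tmul, LinearMap.mulLeft_apply, Algebra.TensorProduct.tmul_mul_tmul, mul_one, mul_comm]

end Groth.Agent.CAlgH.BlowupChartFlatPowers
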