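import Mathlib.RingTheory.Flat.Localization
import Mathlib.RingTheory.Localization.AtPrime.Basic
import Mathlib.RingTheory.Localization.Ideal
import Groth.Prelude.Def_EGA4b

/-! Normal flatness is a local property. -/

set_option autoImplicit false
set_option backward.isDefEq.respectTransparency.types false
universe u

namespace Groth.Agent.CAlgH.NormallyFlatLocal

abbrev Gr {B : Type u} [CommRing B] (J : Ideal B) (k : ℕ) : Type u :=
  ↥(J ^ k • (⊤ : Submodule B B)) ⧸ (J • (⊤ : Submodule B ↥(J ^ k • (⊤ : Submodule B B))))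

set_option maxHeartbeats 1000000 in
theorem isNormallyFlat_of_local {B : Type u} [CommRing B] (J : Ideal B)
    (h : ∀ (q : Ideal B) [q.IsPrime], J ≤ q → ∃ (L : Type u) (_ : CommRing L) (_ : Algebra B L)
      (_ : IsLocalization.AtPrime L q), EGA4.IsNormallyFlat (J.map (algebraMap B L)) L) :
    EGA4.IsNormallyFlat J B := by
  intro k
  show Module.Flat (B ⧸ J) (Gr J k)
  have key : ∀ (P : Ideal (B ⧸ J)) [P.IsMaximal], ∃ (G : Type u) (_ : AddCommGroup G) (_ : Module (B ⧸ J) G)
      (f : Gr J k →ₗ[B ⧸ J] G), IsLocalizedModule.AtPrime P f ∧ Module.Flat (B ⧸ J) G := by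
    intro P _
    let q := P.comap (Ideal.Quotient.mk J)
    haveI : q.IsPrime := Ideal.IsPrime.comap _
    have hJq : J ≤ q := fun x hx => by
      show Ideal.Quotient.mk J x ∈ P
      rw [Ideal.Quotient.eq_zero_iff_mem.2 hx]; exact P.zero_mem
    obtain ⟨L, _, _, _, hn⟩ := h q hJq
    let J' := J.map (algebraMap B L)
    let G := Gr J' k
    haveI hG : Module.Flat (L ⧸ J') G := hn k
    haveI hloc : IsLocalization (Algebra.algebraMapSubmonoid (B ⧸ J) q.primeCompl) (L ⧸ J') := inferInstance
    letI : Module (B ⧸ J) G := Module.compHom G (algebraMap (B ⧸ J) (L ⧸ J'))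
    haveI : IsScalarTower (B ⧸ J) (L ⧸ J') G := IsScalarTower.of_algebraMap_smul fun _ _ => rfl
    have hflat : Module.Flat (B ⧸ J) G := by
      haveI : Module.Flat (B ⧸ J) (L ⧸ J') :=
        IsLocalization.flat (L ⧸ J') (Algebra.algebraMapSubmonoid (B ⧸ J) q.primeCompl)
      exact Module.Flat.trans (B ⧸ J) (L ⧸ J') G
    have hmem : ∀ {n : ℕ} {x : B}, x ∈ J ^ n • (⊤ : Submodule B B) →
        algebraMap B L x ∈ J' ^ n • (⊤ : Submodule L L) := by
      intro n x hx
      rw [smul_eq_mul, Ideal.mul_top] at hx ⊢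
      rw [← Ideal.map_pow]
      exact Ideal.mem_map_of_mem _ hx
    have htop : ∀ {R : Type u} [CommRing R] (I : Ideal R) (n : ℕ),
        (I • (⊤ : Submodule R ↥(I ^ n • (⊤ : Submodule R R)))) =
          Submodule.comap (I ^ n • (⊤ : Submodule R R)).subtype (I ^ (n + 1) • ⊤) := by
      intro R _ I n
      apply Submodule.map_injective_of_injective (Submodule.injective_subtype _)
      rw [Submodule.map_smul'', Submodule.map_top, Submodule.range_subtype, Submodule.map_comap_subtype,
        inf_eq_right.2 (Submodule.smul_mono (Ideal.pow_le_pow_right n.le_succ) le_rfl), ← Submodule.smul_assoc,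
        pow_succ']
      rfl
    let f₀ : ↥(J ^ k • (⊤ : Submodule B B)) →+ G :=
      { toFun := fun x => Submodule.Quotient.mk ⟨algebraMap B L x, hmem x.2⟩
        map_zero' := by
          rw [Submodule.Quotient.mk_eq_zero, htop]
          show algebraMap B L 0 ∈ J' ^ (k + 1) • (⊤ : Submodule L L)
          rw [map_zero]; exact zero_mem _
        map_add' := fun x y => by
          rw [← Submodule.Quotient.mk_add]
          exact congrArg _ (Subtype.ext (map_add _ _ _)) }
    have hf₀ : ∀ x ∈ (J • (⊤ : Submodule B ↥(J ^ k • (⊤ : Submodule B B)))), f₀ x = 0 := fun x hx => by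
      rw [htop] at hx
      show Submodule.Quotient.mk _ = 0
      rw [Submodule.Quotient.mk_eq_zero, htop]
      exact hmem hx
    let f₁ : Gr J k →+ G := QuotientAddGroup.lift _ f₀ (fun x hx => hf₀ x hx)
    have hf₁ : ∀ x : ↥(J ^ k • (⊤ : Submodule B B)),
        f₁ (Submodule.Quotient.mk x) = (Submodule.Quotient.mk ⟨algebraMap B L x, hmem x.2⟩ : G) := fun x => rfl
    have hsmulG : ∀ (b : B) (z : G), (Ideal.Quotient.mk J b) • z = (algebraMap B L b) • z := fun b z => by
      rw [← algebraMap_smul (L ⧸ J') (Ideal.Quotient.mk J b) z, ← algebraMap_smul (L ⧸ J') (algebraMap B L b) z]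
      rfl
    have hsmul₀ : ∀ (b : B) (x : ↥(J ^ k • (⊤ : Submodule B B))),
        f₁ (Submodule.Quotient.mk (b • x)) = Ideal.Quotient.mk J b • f₁ (Submodule.Quotient.mk x) := fun b x => by
      rw [hf₁, hf₁, hsmulG, ← Submodule.Quotient.mk_smul]
      exact congrArg _ (Subtype.ext (map_mul _ b x.1))
    let f : Gr J k →ₗ[B ⧸ J] G :=
      { f₁ with
        map_smul' := fun r z => by
          obtain ⟨b, rfl⟩ := Ideal.Quotient.mk_surjective r
          obtain ⟨x, rfl⟩ := Submodule.Quotient.mk_surjective _ z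
          show f₁ _ = _
          rw [← Ideal.Quotient.algebraMap_eq, algebraMap_smul, ← Submodule.Quotient.mk_smul]
          exact hsmul₀ b x }
    refine ⟨G, inferInstance, inferInstance, f, ⟨?_, ?_, ?_⟩, hflat⟩
    · rintro ⟨r, hr⟩
      obtain ⟨b, rfl⟩ := Ideal.Quotient.mk_surjective r
      have hu : IsUnit (algebraMap (B ⧸ J) (L ⧸ J') (Ideal.Quotient.mk J b)) :=
        IsLocalization.map_units _ (⟨_, b, fun hb => hr hb, rfl⟩ : Algebra.algebraMapSubmonoid (B ⧸ J) q.primeCompl)
      rw [Module.End.isUnit_iff]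
      obtain ⟨u, hu⟩ := hu
      constructor
      · intro z w hzw
        have : (u : L ⧸ J') • z = (u : L ⧸ J') • w := by rw [hu]; exact hzw
        exact u.isUnit.smul_left_cancel.1 this
      · intro z
        refine ⟨(↑u⁻¹ : L ⧸ J') • z, ?_⟩
        show (algebraMap (B ⧸ J) (L ⧸ J') (Ideal.Quotient.mk J b)) • ((↑u⁻¹ : L ⧸ J') • z) = z
        rw [← hu, smul_smul, Units.mul_inv, one_smul]
    · intro z
      obtain ⟨⟨z, hz⟩, rfl⟩ := Submodule.Quotient.mk_surjective _ z
      have hz' := hz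
      rw [smul_eq_mul, Ideal.mul_top, ← Ideal.map_pow] at hz'
      obtain ⟨⟨⟨x, hx⟩, s⟩, hxs⟩ := (IsLocalization.mem_map_algebraMap_iff q.primeCompl L).1 hz'
      refine ⟨⟨Submodule.Quotient.mk ⟨x, by rwa [smul_eq_mul, Ideal.mul_top]⟩,
        ⟨Ideal.Quotient.mk J s.1, fun hs => s.2 hs⟩⟩, ?_⟩
      refine ((hsmulG s.1 _).trans ?_).trans (hf₁ _).symm
      rw [← Submodule.Quotient.mk_smul]
      exact congrArg _ (Subtype.ext ((mul_comm _ _).trans hxs))
    · intro z₁ z₂ h12
      have h0 : ∀ z, f z = 0 → ∃ c : P.primeCompl, c • z = 0 := by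
        intro z hz
        obtain ⟨⟨x, hx⟩, rfl⟩ := Submodule.Quotient.mk_surjective _ z
        have h1 : Submodule.Quotient.mk _ = (0 : G) := hz
        rw [Submodule.Quotient.mk_eq_zero, htop] at h1
        have h2 : algebraMap B L x ∈ (J ^ (k + 1)).map (algebraMap B L) := by
          have h3 : algebraMap B L x ∈ J' ^ (k + 1) • (⊤ : Submodule L L) := h1
          rwa [smul_eq_mul, Ideal.mul_top, ← Ideal.map_pow] at h3
        rw [IsLocalization.algebraMap_mem_map_algebraMap_iff q.primeCompl L] at h2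
        obtain ⟨s, hs, hsx⟩ := h2
        refine ⟨⟨Ideal.Quotient.mk J s, fun h => hs h⟩, ?_⟩
        show (Ideal.Quotient.mk J s) • Submodule.Quotient.mk _ = (0 : Gr J k)
        rw [← Ideal.Quotient.algebraMap_eq, algebraMap_smul, ← Submodule.Quotient.mk_smul,
          Submodule.Quotient.mk_eq_zero, htop]
        show s * x ∈ J ^ (k + 1) • (⊤ : Submodule B B)
        rwa [smul_eq_mul, Ideal.mul_top]
      obtain ⟨c, hc⟩ := h0 (z₁ - z₂) (by rw [map_sub, h12, sub_self])
      exact ⟨c, sub_eq_zero.1 (by rw [← smul_sub]; exact hc)⟩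
  choose G hG₁ hG₂ f hf hflat using key
  letI := hG₁
  letI := hG₂
  haveI := hf
  exact Module.flat_of_isLocalized_maximal (R := B ⧸ J) (S := B ⧸ J) (M := Gr J k) G f hflat

end Groth.Agent.CAlgH.NormallyFlatLocal
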