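import Mathlib
import Groth.Prelude.Def_BlowUp2
import Groth.Prelude.Def_EGA4b
import Groth.Agent.BlowUpLib.Proper
import Groth.Agent.CAlgH.ExceptionalChart
import Groth.Agent.CAlgH.BlowupChartFlat
import Groth.Agent.CAlgH.NormallyFlatLocal
import Groth.Agent.CAlgH.CIImmersion
import Groth.Agent.EGA43.Limit.Basic
import Groth.Agent.EGA43.FlatDescent.SchemeOpen

/-! Blowing up a normally flat centre (EGA IV 19.4.3). -/

set_option autoImplicit false
set_option backward.isDefEq.respectTransparency.types false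
universe u

open CategoryTheory AlgebraicGeometry

namespace Groth.Agent.CAlgH.BlowupNormallyFlat

open BlowUpLib

/-- A morphism between closed subschemes is flat if it is so on affine charts of the ambient schemes. -/
theorem flat_of_quotientMap {X X' Y : Scheme.{u}} (i : Y ⟶ X) [IsClosedImmersion i] (b : X' ⟶ X)
    (E : X'.IdealSheafData) (g : E.subscheme ⟶ Y) (hg : g ≫ i = E.subschemeι ≫ b)
    (h : ∀ x : E.subscheme, ∃ (U : X.affineOpens) (V : X'.affineOpens) (_ : E.subschemeι x ∈ V.1)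
      (e : V.1 ≤ b ⁻¹ᵁ U.1) (hle : i.ker.ideal U ≤ (E.ideal V).comap (b.appLE U.1 V.1 e).hom),
      (Ideal.quotientMap (E.ideal V) (b.appLE U.1 V.1 e).hom hle).Flat) :
    Flat g := by
  choose U V hV e hle hsm using h
  let 𝒰 : E.subscheme.OpenCover :=
    { I₀ := E.subscheme
      X := fun x => Spec (.of (Γ(X', (V x).1) ⧸ E.ideal (V x)))
      f := fun x => E.subschemeCover.f (V x)
      mem₀ := by
        rw [Scheme.presieve₀_mem_precoverage_iff]
        refine ⟨fun x => ⟨x, ?_⟩, fun x => inferInstanceAs (IsOpenImmersion (E.subschemeCover.f (V x)))⟩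
        exact (E.opensRange_subschemeCover_map (V x)).ge (show x ∈ E.subschemeι ⁻¹ᵁ (V x).1 from hV x) }
  rw [IsZariskiLocalAtSource.iff_of_openCover (P := @Flat) 𝒰]
  intro x
  let q := Ideal.quotientMap (E.ideal (V x)) (b.appLE (U x).1 (V x).1 (e x)).hom (hle x)
  let m : Spec (.of (Γ(X, (U x).1) ⧸ i.ker.ideal (U x))) ⟶ Y :=
    i.ker.subschemeCover.f (U x) ≫ inv i.toImage
  have hm : m ≫ i = Spec.map (CommRingCat.ofHom (Ideal.Quotient.mk (i.ker.ideal (U x)))) ≫ (U x).2.fromSpec := by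
    have h1 : inv i.toImage ≫ i = i.imageι := by
      rw [IsIso.inv_comp_eq, Scheme.Hom.toImage_imageι]
    rw [Category.assoc, h1, ← ExceptionalChart.glueDataObjι_fromSpec]
    rfl
  have heq : 𝒰.f x ≫ g = Spec.map (CommRingCat.ofHom q) ≫ m := by
    rw [← cancel_mono i, Category.assoc, Category.assoc, hg, hm, ← Category.assoc, ← Category.assoc]
    show (E.subschemeCover.f (V x) ≫ E.subschemeι) ≫ b = _
    rw [ExceptionalChart.glueDataObjι_fromSpec]
    erw [Category.assoc, ← IsAffineOpen.SpecMap_appLE_fromSpec b (U x).2 (V x).2 (e x),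
      ← Category.assoc, ← Spec.map_comp, ← Spec.map_comp]
    congr 2
  rw [heq]
  haveI : IsOpenImmersion m := by
    haveI := i.ker.subschemeCover.map_prop (U x)
    show IsOpenImmersion (_ ≫ _)
    exact MorphismProperty.comp_mem @IsOpenImmersion _ _ this inferInstance
  have : Flat (Spec.map (CommRingCat.ofHom q)) :=
    (HasRingHomProperty.Spec_iff (P := @Flat)).mpr (hsm x)
  exact MorphismProperty.comp_mem @Flat _ _ this inferInstance

section

variable {X X' S : Scheme.{u}} (g : X ⟶ S) [LocallyOfFinitePresentation g] (𝓘 : X.IdealSheafData)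
  [LocallyOfFinitePresentation (𝓘.subschemeι ≫ g)]

include g in
theorem ideal_fg (U : X.affineOpens) : (𝓘.ideal U).FG := by
  haveI : LocallyOfFinitePresentation 𝓘.subschemeι := EGA43.Limit.locallyOfFinitePresentation_of_comp 𝓘.subschemeι g
  have h : (𝓘.subschemeι.appLE U.1 (𝓘.subschemeι ⁻¹ᵁ U.1) le_rfl).hom.FinitePresentation :=
    HasRingHomProperty.appLE @LocallyOfFinitePresentation 𝓘.subschemeι inferInstance U
      ⟨_, U.2.preimage 𝓘.subschemeι⟩ le_rfl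
  rw [Scheme.Hom.appLE_eq_app] at h
  rw [← 𝓘.ker_subschemeι_app U]
  letI := (𝓘.subschemeι.app U.1).hom.toAlgebra
  haveI : Algebra.FinitePresentation Γ(X, U.1) Γ(𝓘.subscheme, 𝓘.subschemeι ⁻¹ᵁ U.1) := h
  exact Algebra.FinitePresentation.ker_fG_of_surjective (Algebra.ofId _ _) (𝓘.subschemeι_app_surjective U)

variable [Flat (𝓘.subschemeι ≫ g)]
  (hnf : ∀ y : ↥𝓘.subscheme, EGA4.IsNormallyFlat (RingHom.ker (𝓘.subschemeι.stalkMap y).hom)
      ↑(X.presheaf.stalk (𝓘.subschemeι y)))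

include hnf in
omit g [LocallyOfFinitePresentation g] [LocallyOfFinitePresentation (𝓘.subschemeι ≫ g)] [Flat (𝓘.subschemeι ≫ g)] in
theorem isNormallyFlat_affine (V : X.affineOpens) : EGA4.IsNormallyFlat (𝓘.ideal V) Γ(X, V.1) := by
  refine NormallyFlatLocal.isNormallyFlat_of_local _ fun q _ hq => ?_
  let z : PrimeSpectrum Γ(X, V.1) := ⟨q, inferInstance⟩
  let x := V.2.fromSpec z
  have hxV : x ∈ V.1 := by
    rw [← SetLike.mem_coe, ← V.2.range_fromSpec]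
    exact ⟨z, rfl⟩
  have hxs : x ∈ (𝓘.support : Set X) := by
    have : x ∈ (𝓘.support : Set X) ∩ V.1 := by
      rw [𝓘.coe_support_inter V, ← V.2.fromSpec_image_zeroLocus]
      exact ⟨z, hq, rfl⟩
    exact this.1
  rw [← 𝓘.range_subschemeι] at hxs
  obtain ⟨y, hy⟩ := hxs
  have hyV : 𝓘.subschemeι y ∈ V.1 := hy ▸ hxV
  letI := X.presheaf.algebra_section_stalk ⟨𝓘.subschemeι y, hyV⟩
  have hz : V.2.primeIdealOf ⟨𝓘.subschemeι y, hyV⟩ = z :=
    V.2.fromSpec.isOpenEmbedding.injective ((V.2.fromSpec_primeIdealOf _).trans hy)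
  haveI : IsLocalization.AtPrime (X.presheaf.stalk (𝓘.subschemeι y)) q := by
    have := V.2.isLocalization_stalk ⟨𝓘.subschemeι y, hyV⟩
    rw [hz] at this
    exact this
  refine ⟨X.presheaf.stalk (𝓘.subschemeι y), inferInstance, inferInstance, inferInstance, ?_⟩
  have h := hnf y
  rw [CAlgH.CIImmersion.ker_stalkMap_eq 𝓘.subschemeι y V.2 hyV, 𝓘.ker_subschemeι_app] at h
  exact h

include hnf in
theorem gr_flat (U : S.affineOpens) (V : X.affineOpens) (e : V.1 ≤ g ⁻¹ᵁ U.1) :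
    letI := (g.appLE U.1 V.1 e).hom.toAlgebra
    Algebra.FinitePresentation Γ(S, U.1) Γ(X, V.1) ∧ Module.Flat Γ(S, U.1) (Γ(X, V.1) ⧸ 𝓘.ideal V) ∧
      ∀ k : ℕ, Module.Flat Γ(S, U.1) (↥(𝓘.ideal V ^ k • (⊤ : Submodule Γ(X, V.1) Γ(X, V.1))) ⧸
        Submodule.comap (𝓘.ideal V ^ k • (⊤ : Submodule Γ(X, V.1) Γ(X, V.1))).subtype (𝓘.ideal V ^ (k + 1) • ⊤)) := by
  letI := (g.appLE U.1 V.1 e).hom.toAlgebra
  have h1 : Algebra.FinitePresentation Γ(S, U.1) Γ(X, V.1) :=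
    HasRingHomProperty.appLE @LocallyOfFinitePresentation g inferInstance U V e
  have h2 : Module.Flat Γ(S, U.1) (Γ(X, V.1) ⧸ 𝓘.ideal V) := by
    have h := HasRingHomProperty.appLE @Flat (𝓘.subschemeι ≫ g) inferInstance U
      ⟨_, V.2.preimage 𝓘.subschemeι⟩ ((𝓘.subschemeι).preimage_mono e)
    rw [← Scheme.Hom.appLE_comp_appLE 𝓘.subschemeι g U.1 V.1 (𝓘.subschemeι ⁻¹ᵁ V.1) e le_rfl,
      Scheme.Hom.appLE_eq_app, CommRingCat.hom_comp] at h
    letI := ((𝓘.subschemeι.app V.1).hom.comp (g.appLE U.1 V.1 e).hom).toAlgebra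
    haveI : Module.Flat Γ(S, U.1) Γ(𝓘.subscheme, 𝓘.subschemeι ⁻¹ᵁ V.1) := h
    let ε : (Γ(X, V.1) ⧸ 𝓘.ideal V) ≃+* Γ(𝓘.subscheme, 𝓘.subschemeι ⁻¹ᵁ V.1) :=
      (Ideal.quotEquivOfEq (𝓘.ker_subschemeι_app V).symm).trans
        (RingHom.quotientKerEquivOfSurjective (𝓘.subschemeι_app_surjective V))
    let εₗ : (Γ(X, V.1) ⧸ 𝓘.ideal V) ≃ₐ[Γ(S, U.1)] Γ(𝓘.subscheme, 𝓘.subschemeι ⁻¹ᵁ V.1) :=
      AlgEquiv.ofRingEquiv (f := ε) fun r => rfl
    exact Module.Flat.of_linearEquiv εₗ.toLinearEquiv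
  exact ⟨h1, h2, fun k => BlowupChartFlat.flat_gr _ (isNormallyFlat_affine 𝓘 hnf V) k⟩

variable {b : X' ⟶ X} (hb : BlowUp.IsBlowUp b 𝓘)

include g hnf hb in
/-- A chart around a point of the blow-up, with all the properties needed. -/
theorem exists_good_chart (x' : X') :
    ∃ (U : S.affineOpens) (V : X.affineOpens) (e : V.1 ≤ g ⁻¹ᵁ U.1) (a : Γ(X, V.1)) (_ : a ∈ 𝓘.ideal V)
      (j : chart 𝓘 V a ⟶ X'), IsOpenImmersion j ∧ j ≫ b = chartMap 𝓘 V a ∧ x' ∈ Set.range j ∧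
        Algebra.FinitePresentation Γ(X, V.1) (ChartRing 𝓘 V a) := by
  obtain ⟨U, hU, hxU, -⟩ := TopologicalSpace.Opens.isBasis_iff_nbhd.mp S.isBasis_affineOpens
    (TopologicalSpace.Opens.mem_top (g (b x')))
  obtain ⟨V, hV, hxV, e⟩ := TopologicalSpace.Opens.isBasis_iff_nbhd.mp X.isBasis_affineOpens
    (show b x' ∈ g ⁻¹ᵁ U from hxU)
  obtain ⟨r, f, hf⟩ := Submodule.fg_iff_exists_fin_generating_family.1 (ideal_fg g 𝓘 ⟨V, hV⟩)
  obtain ⟨a, ⟨i, rfl⟩, j, hj, hjb, hxj⟩ := ExceptionalChart.exists_chart b hb x' ⟨V, hV⟩ hxV (Set.range f) hf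
  refine ⟨⟨U, hU⟩, ⟨V, hV⟩, e, f i, hf ▸ Ideal.subset_span ⟨i, rfl⟩, j, hj, hjb, hxj, ?_⟩
  letI := (g.appLE U V e).hom.toAlgebra
  obtain ⟨h1, -, h3⟩ := gr_flat g 𝓘 hnf ⟨U, hU⟩ ⟨V, hV⟩ e
  change Algebra.FinitePresentation Γ(X, V) ↥(BlowUp.affineAlgebra Γ(X, V) (𝓘.ideal ⟨V, hV⟩) (f i))
  rw [← hf] at h3 ⊢
  exact BlowupChartFP.finitePresentation_of_gr_flat (A := Γ(S, U)) f h3 i

theorem chartMap_le {V : X.affineOpens} {a : Γ(X, V.1)} {j : chart 𝓘 V a ⟶ X'} [IsOpenImmersion j]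
    (hjb : j ≫ b = chartMap 𝓘 V a) : j.opensRange ≤ b ⁻¹ᵁ V.1 := by
  rintro _ ⟨z, rfl⟩
  show b (j z) ∈ V.1
  rw [← Scheme.Hom.comp_apply, hjb]
  show V.2.fromSpec _ ∈ V.1
  rw [← SetLike.mem_coe, ← V.2.range_fromSpec]
  exact ⟨_, rfl⟩

omit [LocallyOfFinitePresentation g] in
theorem exists_chart_iso {V : X.affineOpens} {a : Γ(X, V.1)} (ha : a ∈ 𝓘.ideal V) {j : chart 𝓘 V a ⟶ X'}
    [IsOpenImmersion j] (hjb : j ≫ b = chartMap 𝓘 V a) (e : j.opensRange ≤ b ⁻¹ᵁ V.1) :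
    ∃ θ : Γ(X', j.opensRange) ≅ CommRingCat.of (ChartRing 𝓘 V a),
      b.appLE V.1 j.opensRange e ≫ θ.hom = CommRingCat.ofHom (algebraMap Γ(X, V.1) (ChartRing 𝓘 V a)) ∧
      (BlowUp.exceptional b 𝓘).ideal ⟨j.opensRange, isAffineOpen_opensRange j⟩ =
        (Ideal.span {algebraMap Γ(X, V.1) (ChartRing 𝓘 V a) a}).comap θ.hom.hom := by
  let R := ChartRing 𝓘 V a
  have e₀ : (⊤ : (chart 𝓘 V a).Opens) ≤ j ⁻¹ᵁ j.opensRange := fun z _ => ⟨z, rfl⟩
  let θ : Γ(X', j.opensRange) ≅ CommRingCat.of R :=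
    X'.presheaf.mapIso (eqToIso (j.image_top_eq_opensRange)).op ≪≫ j.appIso ⊤ ≪≫
      Scheme.ΓSpecIso (CommRingCat.of R)
  have hθ : (b.appLE V.1 j.opensRange e) ≫ θ.hom = CommRingCat.ofHom (algebraMap Γ(X, V.1) R) := by
    have h1 : θ.hom = j.appLE j.opensRange ⊤ e₀ ≫ (Scheme.ΓSpecIso (CommRingCat.of R)).hom := by
      simp only [θ, Iso.trans_hom, Functor.mapIso_hom, Scheme.Hom.appIso_hom', Scheme.Hom.map_appLE_assoc]
    rw [h1, ← Category.assoc, Scheme.Hom.appLE_comp_appLE]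
    have h2 : ∀ (k : chart 𝓘 V a ⟶ X) (_ : k = chartMap 𝓘 V a) (e'),
        k.appLE V.1 ⊤ e' ≫ (Scheme.ΓSpecIso (CommRingCat.of R)).hom =
          CommRingCat.ofHom (algebraMap Γ(X, V.1) R) := by
      rintro k rfl e'
      rw [chartMap_appLE e', Category.assoc, Iso.inv_hom_id, Category.comp_id]
    exact h2 _ hjb _
  refine ⟨θ, hθ, ?_⟩
  rw [ProjLib.comap_ideal_eq 𝓘 b V ⟨_, isAffineOpen_opensRange j⟩ e, ← map_ideal_eq_span ha,
    ← CommRingCat.hom_ofHom (algebraMap Γ(X, V.1) R), ← hθ, CommRingCat.hom_comp, ← Ideal.map_map]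
  exact (Ideal.comap_map_of_bijective _ (ConcreteCategory.bijective_of_isIso θ.hom)).symm

include g hnf hb in
theorem main :
    (LocallyOfFinitePresentation b ∧ QuasiCompact b ∧ QuasiSeparated b) ∧
      (∀ f : (BlowUp.exceptional b 𝓘).subscheme ⟶ 𝓘.subscheme,
          f ≫ 𝓘.subschemeι = (BlowUp.exceptional b 𝓘).subschemeι ≫ b → Flat f) ∧
      (∃ U : X.Opens, (𝓘.support : Set ↥X) ⊆ U ∧ ∀ x : ↥X, x ∈ U → (g.stalkMap x).hom.Flat) ∧
      (∃ U' : X'.Opens, ((BlowUp.exceptional b 𝓘).support : Set ↥X') ⊆ U' ∧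
          ∀ x' : ↥X', x' ∈ U' → ((b ≫ g).stalkMap x').hom.Flat) := by
  haveI := isProper_of_isBlowUp hb (ideal_fg g 𝓘)
  haveI hlfp : LocallyOfFinitePresentation b := by
    choose U V e a ha j hj hjb hxj hfp using exists_good_chart g 𝓘 hnf hb
    let 𝒰 : X'.OpenCover :=
      { I₀ := X'
        X := fun x => chart 𝓘 (V x) (a x)
        f := j
        mem₀ := by
          rw [Scheme.presieve₀_mem_precoverage_iff]
          exact ⟨fun x => ⟨x, hxj x⟩, hj⟩ }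
    rw [IsZariskiLocalAtSource.iff_of_openCover (P := @LocallyOfFinitePresentation) 𝒰]
    intro x
    show LocallyOfFinitePresentation (j x ≫ b)
    rw [hjb x]
    haveI : LocallyOfFinitePresentation
        (Spec.map (CommRingCat.ofHom (algebraMap Γ(X, (V x).1) (ChartRing 𝓘 (V x) (a x))))) :=
      HasRingHomProperty.Spec_iff.2 (RingHom.finitePresentation_algebraMap.2 (hfp x))
    show LocallyOfFinitePresentation (_ ≫ _)
    infer_instance
  refine ⟨⟨hlfp, inferInstance, inferInstance⟩, fun f hf => ?_, ?_, ?_⟩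
  · refine flat_of_quotientMap 𝓘.subschemeι b _ f hf fun x => ?_
    obtain ⟨U, V, e, a, ha, j, hj, hjb, hxj, -⟩ :=
      exists_good_chart g 𝓘 hnf hb ((BlowUp.exceptional b 𝓘).subschemeι x)
    have e' := chartMap_le 𝓘 hjb
    obtain ⟨θ, hθ, hE⟩ := exists_chart_iso 𝓘 ha hjb e'
    let R := ChartRing 𝓘 V a
    have hle : 𝓘.ideal V ≤ (Ideal.span {algebraMap Γ(X, V.1) R a}).comap (algebraMap Γ(X, V.1) R) :=
      Ideal.map_le_iff_le_comap.mp (map_ideal_eq_span ha).le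
    have hsm := BlowupChartFlat.flat_quotientMap (isNormallyFlat_affine 𝓘 hnf V) ha hle
    have hker : 𝓘.subschemeι.ker.ideal V = 𝓘.ideal V := by rw [𝓘.ker_subschemeι]
    have hleV : 𝓘.subschemeι.ker.ideal V ≤ ((BlowUp.exceptional b 𝓘).ideal ⟨j.opensRange, isAffineOpen_opensRange j⟩).comap
        (b.appLE V.1 j.opensRange e').hom := by
      rw [hker]
      exact Ideal.map_le_iff_le_comap.mp (ProjLib.comap_ideal_eq 𝓘 b V ⟨_, isAffineOpen_opensRange j⟩ e').ge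
    refine ⟨V, ⟨j.opensRange, isAffineOpen_opensRange j⟩, hxj, e', hleV, ?_⟩
    let ε := Ideal.quotientEquiv ((BlowUp.exceptional b 𝓘).ideal ⟨j.opensRange, isAffineOpen_opensRange j⟩)
      (Ideal.span {algebraMap Γ(X, V.1) R a}) θ.commRingCatIsoToRingEquiv (by
        rw [hE]
        exact (Ideal.map_comap_of_surjective _ (ConcreteCategory.bijective_of_isIso θ.hom).2 _).symm)
    have : Ideal.quotientMap ((BlowUp.exceptional b 𝓘).ideal ⟨j.opensRange, isAffineOpen_opensRange j⟩)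
        (b.appLE V.1 j.opensRange e').hom hleV =
        ε.symm.toRingHom.comp ((Ideal.quotientMap _ (algebraMap Γ(X, V.1) R) hle).comp
          (Ideal.quotEquivOfEq hker).toRingHom) := by
      refine Ideal.Quotient.ringHom_ext (RingHom.ext fun r => ε.injective ?_)
      simp only [RingHom.comp_apply, Ideal.quotientMap_mk, RingEquiv.toRingHom_eq_coe, RingHom.coe_coe,
        RingEquiv.apply_symm_apply, Ideal.quotEquivOfEq_mk]
      exact congrArg (Ideal.Quotient.mk _) (ConcreteCategory.congr_hom hθ r)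
    rw [this]
    exact ((RingHom.Flat.of_bijective (Ideal.quotEquivOfEq hker).bijective).comp hsm).comp
      (RingHom.Flat.of_bijective ε.symm.bijective)
  · refine ⟨⟨_, EGA43.FlatDescent.isOpen_flat_stalkMap g⟩, fun x hx => ?_, fun x hx => hx⟩
    obtain ⟨U, hU, hxU, -⟩ := TopologicalSpace.Opens.isBasis_iff_nbhd.mp S.isBasis_affineOpens
      (TopologicalSpace.Opens.mem_top (g x))
    obtain ⟨V, hV, hxV, e⟩ := TopologicalSpace.Opens.isBasis_iff_nbhd.mp X.isBasis_affineOpens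
      (show x ∈ g ⁻¹ᵁ U from hxU)
    letI := (g.appLE U V e).hom.toAlgebra
    obtain ⟨h1, -, h3⟩ := gr_flat g 𝓘 hnf ⟨U, hU⟩ ⟨V, hV⟩ e
    show (g.stalkMap x).hom.Flat
    rw [RingHom.Flat.respectsIso.arrow_mk_iso_iff (IsAffineOpen.arrowStalkMapIso g U hU V hV e hxV)]
    refine (EGA43.FlatDescent.flat_localRingHom_iff (R := Γ(S, U)) (S := Γ(X, V)) _ _
      congr($(IsAffineOpen.comap_primeIdealOf_appLE U hU V hV e hxV).1).symm).2 ?_
    refine EGA43.GrFlat.flat_localized_of_gr_flat (𝓘.ideal ⟨V, hV⟩) (ideal_fg g 𝓘 ⟨V, hV⟩) Γ(X, V) h3 _ ?_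
    have hx' : x ∈ (𝓘.support : Set X) ∩ V := ⟨hx, hxV⟩
    rw [𝓘.coe_support_inter ⟨V, hV⟩, ← hV.fromSpec_image_zeroLocus] at hx'
    obtain ⟨z, hz, hzx⟩ := hx'
    rw [show hV.primeIdealOf ⟨x, hxV⟩ = z from
      hV.fromSpec.isOpenEmbedding.injective ((hV.fromSpec_primeIdealOf _).trans hzx.symm)]
    exact hz
  · haveI : LocallyOfFinitePresentation (b ≫ g) := inferInstance
    refine ⟨⟨_, EGA43.FlatDescent.isOpen_flat_stalkMap (b ≫ g)⟩, fun x hx => ?_, fun x hx => hx⟩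
    obtain ⟨U, V, e, a, ha, j, hj, hjb, hxj, hfp⟩ := exists_good_chart g 𝓘 hnf hb x
    have e' := chartMap_le 𝓘 hjb
    obtain ⟨θ, hθ, hE⟩ := exists_chart_iso 𝓘 ha hjb e'
    let R := ChartRing 𝓘 V a
    let W : X'.affineOpens := ⟨j.opensRange, isAffineOpen_opensRange j⟩
    have eW : W.1 ≤ (b ≫ g) ⁻¹ᵁ U.1 := e'.trans (b.preimage_mono e)
    letI := (g.appLE U.1 V.1 e).hom.toAlgebra
    obtain ⟨h1, h2, -⟩ := gr_flat g 𝓘 hnf U V e
    let C := R
    letI : Algebra Γ(X', W.1) C := θ.hom.hom.toAlgebra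
    letI : Algebra Γ(S, U.1) C := ((algebraMap Γ(X, V.1) C).comp (g.appLE U.1 V.1 e).hom).toAlgebra
    haveI : IsScalarTower Γ(S, U.1) Γ(X, V.1) C := IsScalarTower.of_algebraMap_eq fun _ => rfl
    haveI : Algebra.FinitePresentation Γ(S, U.1) C := Algebra.FinitePresentation.trans Γ(S, U.1) Γ(X, V.1) C
    have hle : 𝓘.ideal V ≤ (Ideal.span {algebraMap Γ(X, V.1) C a}).comap (algebraMap Γ(X, V.1) C) :=
      Ideal.map_le_iff_le_comap.mp (map_ideal_eq_span ha).le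
    haveI : Module.Flat Γ(S, U.1) (C ⧸ Ideal.span {algebraMap Γ(X, V.1) C a}) := by
      letI : CommRing (C ⧸ Ideal.span {algebraMap Γ(X, V.1) C a}) := Ideal.Quotient.commRing _
      have hq := BlowupChartFlat.flat_quotientMap (isNormallyFlat_affine 𝓘 hnf V) ha hle
      letI : Algebra (Γ(X, V.1) ⧸ 𝓘.ideal V) (C ⧸ Ideal.span {algebraMap Γ(X, V.1) C a}) :=
        RingHom.toAlgebra (Ideal.quotientMap _ (algebraMap Γ(X, V.1) C) hle)
      haveI : Module.Flat (Γ(X, V.1) ⧸ 𝓘.ideal V) (C ⧸ Ideal.span {algebraMap Γ(X, V.1) C a}) := hq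
      haveI : IsScalarTower Γ(S, U.1) (Γ(X, V.1) ⧸ 𝓘.ideal V) (C ⧸ Ideal.span {algebraMap Γ(X, V.1) C a}) :=
        IsScalarTower.of_algebraMap_eq fun _ => rfl
      exact Module.Flat.trans Γ(S, U.1) (Γ(X, V.1) ⧸ 𝓘.ideal V) _
    letI : Algebra Γ(S, U.1) Γ(X', W.1) := ((b ≫ g).appLE U.1 W.1 eW).hom.toAlgebra
    have hcomm : ∀ r : Γ(S, U.1), θ.hom.hom (algebraMap Γ(S, U.1) Γ(X', W.1) r) = algebraMap Γ(S, U.1) C r := by
      intro r
      show ((b ≫ g).appLE U.1 W.1 eW ≫ θ.hom).hom r = _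
      rw [← Scheme.Hom.appLE_comp_appLE b g U.1 V.1 W.1 e e', Category.assoc, hθ]
      rfl
    let εC : Γ(X', W.1) ≃ₐ[Γ(S, U.1)] C := AlgEquiv.ofRingEquiv (f := θ.commRingCatIsoToRingEquiv) hcomm
    haveI : Algebra.FinitePresentation Γ(S, U.1) Γ(X', W.1) := Algebra.FinitePresentation.equiv εC.symm
    let t : Γ(X', W.1) := εC.symm (algebraMap Γ(X, V.1) C a)
    have hEW : (BlowUp.exceptional b 𝓘).ideal W = Ideal.span {t} := by
      refine hE.trans ?_
      refine Eq.trans (Ideal.map_symm θ.commRingCatIsoToRingEquiv).symm ?_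
      rw [Ideal.map_span, Set.image_singleton]
      rfl
    haveI : Module.Flat Γ(S, U.1) (Γ(X', W.1) ⧸ Ideal.span {t}) :=
      Module.Flat.of_linearEquiv (Ideal.quotientEquivAlg (Ideal.span {t})
        (Ideal.span {algebraMap Γ(X, V.1) C a}) εC (by
          rw [Ideal.map_span, Set.image_singleton]
          exact congrArg (fun w => Ideal.span {w}) (εC.apply_symm_apply _).symm)).toLinearEquiv
    have htn : t ∈ nonZeroDivisors Γ(X', W.1) := by
      rw [mem_nonZeroDivisors_iff_right]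
      intro w hw
      refine εC.injective ?_
      rw [map_zero]
      refine (mem_nonZeroDivisors_iff_right.1 (BlowupChartFlat.mem_nonZeroDivisors (𝓘.ideal V) a)) _ ?_
      have := congrArg εC hw
      rwa [map_mul, map_zero, εC.apply_symm_apply] at this
    show ((b ≫ g).stalkMap x).hom.Flat
    have hxW : x ∈ W.1 := hxj
    rw [RingHom.Flat.respectsIso.arrow_mk_iso_iff (IsAffineOpen.arrowStalkMapIso (b ≫ g) U.1 U.2 W.1 W.2 eW hxW)]
    refine (EGA43.FlatDescent.flat_localRingHom_iff (R := Γ(S, U.1)) (S := Γ(X', W.1)) _ _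
      congr($(IsAffineOpen.comap_primeIdealOf_appLE U.1 U.2 W.1 W.2 eW hxW).1).symm).2 ?_
    refine BlowupChartFlat.flat_chart_at t htn _ ?_
    have hx' : x ∈ ((BlowUp.exceptional b 𝓘).support : Set X') ∩ W.1 := ⟨hx, hxW⟩
    rw [(BlowUp.exceptional b 𝓘).coe_support_inter W, ← W.2.fromSpec_image_zeroLocus] at hx'
    obtain ⟨z, hz, hzx⟩ := hx'
    rw [show W.2.primeIdealOf ⟨x, hxW⟩ = z from
      W.2.fromSpec.isOpenEmbedding.injective ((W.2.fromSpec_primeIdealOf _).trans hzx.symm)]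
    exact hz (hEW.ge (Ideal.mem_span_singleton_self t))

end

end Groth.Agent.CAlgH.BlowupNormallyFlat
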