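import Mathlib
import Groth.Prelude.Def_CInt
import Groth.Agent.BlowUpLib.Proper
import Groth.Agent.ProjLib.BlowUpBasics
import Groth.Agent.SDiv28.RelDiv
import Groth.Agent.SDiv28.FlatOffDivisor
import Groth.Agent.CAlgH.BlowupNormallyFlat
import Groth.Agent.CAlgH.BlowupChartFlatPowers

/-! Blow-ups in a centre all of whose infinitesimal neighbourhoods are flat over the base. -/

set_option autoImplicit false
set_option backward.isDefEq.respectTransparency.types false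
universe u

open CategoryTheory Limits AlgebraicGeometry TensorProduct

namespace Groth.Agent.CAlgH.BlowupFlatPowers

open BlowUpLib

variable {X X' S : Scheme.{u}}

set_option maxHeartbeats 1000000 in
/-- Pull-back of a relative effective Cartier divisor. -/
theorem isEffCartier_comap {P S₁ : Scheme.{u}} (h : X' ⟶ S) (E : X'.IdealSheafData)
    (hE : BlowUp.IsEffCartierIdeal E) [Flat (E.subschemeι ≫ h)] (s : S₁ ⟶ S) {p : P ⟶ X'} {q : P ⟶ S₁}
    (H : IsPullback p q h s) : BlowUp.IsEffCartierIdeal (E.comap p) := by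
  intro x
  obtain ⟨U, hU, hxU, -⟩ := TopologicalSpace.Opens.isBasis_iff_nbhd.mp S.isBasis_affineOpens
    (TopologicalSpace.Opens.mem_top (h (p x)))
  obtain ⟨W, hxW, e, t, ht, htE⟩ := ModPairLib.exists_local hE (p x) (h ⁻¹ᵁ U) hxU
  obtain ⟨U₁, hU₁, hxU₁, e₁⟩ := TopologicalSpace.Opens.isBasis_iff_nbhd.mp S₁.isBasis_affineOpens
    (show q x ∈ s ⁻¹ᵁ U by
      show s (q x) ∈ U
      rw [← Scheme.Hom.comp_apply, ← H.w, Scheme.Hom.comp_apply]
      exact hxU)
  let Q : P.Opens := p ⁻¹ᵁ W.1 ⊓ q ⁻¹ᵁ U₁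
  have hQ : IsAffineOpen Q := by
    haveI : IsAffine _ := hU
    haveI : IsAffine _ := hU₁
    haveI : IsAffine _ := W.2
    exact .of_isIso (Scheme.Hom.isPullback_resLE H (UT := U₁) e₁ e (UY := Q) rfl).isoPullback.hom
  have hpo := (isIso_pushoutSection_iff H (UT := U₁) e₁ e (UY := Q) rfl).1
    (isIso_pushoutSection_of_isAffineOpen H e₁ e rfl hU hU₁ W.2)
  letI := (h.appLE U W.1 e).hom.toAlgebra
  letI := (s.appLE U U₁ e₁).hom.toAlgebra
  haveI : Module.Flat Γ(S, U) (Γ(X', W.1) ⧸ Ideal.span {t}) := by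
    have h1 := SDiv28.flat_quot_of_flat E h (U := ⟨U, hU⟩) (V := W) e
    rw [htE] at h1
    exact h1
  let ε := (CommRingCat.isPushout_tensorProduct Γ(S, U) Γ(X', W.1) Γ(S₁, U₁)).isoIsPushout _ _ hpo
  have hε : ε.hom.hom (t ⊗ₜ 1) = (p.appLE W.1 Q inf_le_left).hom t :=
    ConcreteCategory.congr_hom
      (IsPushout.inl_isoIsPushout_hom _ _ (CommRingCat.isPushout_tensorProduct Γ(S, U) Γ(X', W.1) Γ(S₁, U₁)) hpo) t
  refine ⟨⟨Q, hQ⟩, ⟨hxW, hxU₁⟩, (p.appLE W.1 Q inf_le_left).hom t, ?_, ?_⟩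
  · rw [← hε, mem_nonZeroDivisors_iff_right]
    intro z hz
    obtain ⟨w, rfl⟩ := ε.commRingCatIsoToRingEquiv.surjective z
    rw [show ε.hom.hom (t ⊗ₜ 1) = ε.commRingCatIsoToRingEquiv (t ⊗ₜ 1) from rfl, ← map_mul,
      ← map_zero ε.commRingCatIsoToRingEquiv] at hz
    rw [mem_nonZeroDivisors_iff_right.1 (BlowupChartFlatPowers.mem_nonZeroDivisors_tmul (A := Γ(S, U)) ht Γ(S₁, U₁)) w
      (ε.commRingCatIsoToRingEquiv.injective hz), map_zero]
  · rw [ProjLib.comap_ideal_eq E p W ⟨Q, hQ⟩ inf_le_left, htE, Ideal.map_span, Set.image_singleton]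

/-- A pull-back of a blow-up is a blow-up as soon as the inverse image ideal is effective Cartier. -/
theorem isBlowUp_of_isPullback {XT XT' : Scheme.{u}} {b : X' ⟶ X} {𝓘 : X.IdealSheafData}
    (hb : BlowUp.IsBlowUp b 𝓘) {pX : XT ⟶ X} {pX' : XT' ⟶ X'} {bT : XT' ⟶ XT}
    (H : IsPullback pX' bT b pX) (hC : BlowUp.IsEffCartierIdeal ((BlowUp.exceptional b 𝓘).comap pX')) :
    BlowUp.IsBlowUp bT (𝓘.comap pX) := by
  refine ⟨?_, fun Y k hk => ?_⟩
  · rw [← Scheme.IdealSheafData.comap_comp] at hC ⊢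
    rwa [← H.w]
  · rw [← Scheme.IdealSheafData.comap_comp] at hk
    obtain ⟨l, hl, hlu⟩ := hb.2 Y (k ≫ pX) hk
    refine ⟨H.lift l k hl, H.lift_snd _ _ _, fun m hm => H.hom_ext ?_ ?_⟩
    · rw [H.lift_fst]
      refine hlu _ ?_
      show (m ≫ pX') ≫ b = k ≫ pX
      rw [Category.assoc, H.w, ← Category.assoc]
      exact congrArg (· ≫ pX) hm
    · rw [H.lift_snd, hm]

variable (g : X ⟶ S) (𝓘 : X.IdealSheafData) (hflat : ∀ n : ℕ, Flat ((𝓘 ^ (n + 1)).subschemeι ≫ g))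

include hflat in
theorem flat_quot_pow (U : S.affineOpens) (V : X.affineOpens) (e : V.1 ≤ g ⁻¹ᵁ U.1) (n : ℕ) :
    letI := (g.appLE U.1 V.1 e).hom.toAlgebra
    Module.Flat Γ(S, U.1) (Γ(X, V.1) ⧸ 𝓘.ideal V ^ (n + 1)) := by
  letI := (g.appLE U.1 V.1 e).hom.toAlgebra
  haveI := hflat n
  have h := SDiv28.flat_quot_of_flat (𝓘 ^ (n + 1)) g e
  rw [show (𝓘 ^ (n + 1)).ideal V = 𝓘.ideal V ^ (n + 1) from rfl] at h
  exact h

variable {b : X' ⟶ X} (hb : BlowUp.IsBlowUp b 𝓘)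

set_option maxHeartbeats 1000000 in
include hflat hb in
theorem flat_exceptional : Flat ((BlowUp.exceptional b 𝓘).subschemeι ≫ b ≫ g) := by
  refine SDiv28.flat_of_local _ _ fun x => ?_
  obtain ⟨U, hU, hxU, -⟩ := TopologicalSpace.Opens.isBasis_iff_nbhd.mp S.isBasis_affineOpens
    (TopologicalSpace.Opens.mem_top (g (b x)))
  obtain ⟨V, hV, hxV, e⟩ := TopologicalSpace.Opens.isBasis_iff_nbhd.mp X.isBasis_affineOpens
    (show b x ∈ g ⁻¹ᵁ U from hxU)
  obtain ⟨a, ha, j, hj, hjb, hxj⟩ :=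
    ExceptionalChart.exists_chart b hb x ⟨V, hV⟩ hxV _ (Ideal.span_eq (𝓘.ideal ⟨V, hV⟩))
  have e' := BlowupNormallyFlat.chartMap_le 𝓘 hjb
  obtain ⟨θ, hθ, hE⟩ := BlowupNormallyFlat.exists_chart_iso 𝓘 ha hjb e'
  let W : X'.affineOpens := ⟨j.opensRange, isAffineOpen_opensRange j⟩
  have eW : W.1 ≤ (b ≫ g) ⁻¹ᵁ U := e'.trans (b.preimage_mono e)
  refine ⟨⟨U, hU⟩, W, hxj, eW, ?_⟩
  letI := (g.appLE U V e).hom.toAlgebra
  let C := BlowUp.affineAlgebra Γ(X, V) (𝓘.ideal ⟨V, hV⟩) a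
  have h : Module.Flat Γ(S, U) (C ⧸ Ideal.span {algebraMap Γ(X, V) C a}) :=
    BlowupChartFlatPowers.flat_quotient_span (fun n => flat_quot_pow g 𝓘 hflat ⟨U, hU⟩ ⟨V, hV⟩ e n) ha
  let εq := Ideal.quotientEquiv ((BlowUp.exceptional b 𝓘).ideal W) (Ideal.span {algebraMap Γ(X, V) C a})
    θ.commRingCatIsoToRingEquiv (by
      rw [hE]
      exact (Ideal.map_comap_of_surjective _ (ConcreteCategory.bijective_of_isIso θ.hom).2 _).symm)
  have : (Ideal.Quotient.mk ((BlowUp.exceptional b 𝓘).ideal W)).comp ((b ≫ g).appLE U W.1 eW).hom =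
      εq.symm.toRingHom.comp (algebraMap Γ(S, U) (C ⧸ Ideal.span {algebraMap Γ(X, V) C a})) := by
    refine RingHom.ext fun r => εq.injective ?_
    refine Eq.trans ?_ (εq.apply_symm_apply _).symm
    show Ideal.Quotient.mk _ (θ.hom.hom (((b ≫ g).appLE U W.1 eW).hom r)) = _
    rw [← Scheme.Hom.appLE_comp_appLE b g U V W.1 e e']
    exact congrArg (Ideal.Quotient.mk _) (ConcreteCategory.congr_hom hθ ((g.appLE U V e).hom r))
  rw [this]
  letI : CommRing (C ⧸ Ideal.span {algebraMap Γ(X, V) C a}) := Ideal.Quotient.commRing _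
  exact RingHom.Flat.respectsIso.1 (algebraMap Γ(S, U) (C ⧸ Ideal.span {algebraMap Γ(X, V) C a})) εq.symm
    (RingHom.flat_algebraMap_iff.2 h)

include hflat hb in
/-- The exceptional divisor stays effective Cartier after base change, so blowing up commutes with base change. -/
theorem isBlowUp_baseChange {S₁ XT XT' : Scheme.{u}} {s : S₁ ⟶ S} {pX : XT ⟶ X} {q : XT ⟶ S₁}
    (hX : IsPullback pX q g s) {pX' : XT' ⟶ X'} {bT : XT' ⟶ XT} (hX' : IsPullback pX' bT b pX) :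
    BlowUp.IsBlowUp bT (𝓘.comap pX) := by
  haveI := flat_exceptional g 𝓘 hflat hb
  exact isBlowUp_of_isPullback hb hX' (isEffCartier_comap (b ≫ g) _ hb.1 s (hX'.paste_vert hX))

include hflat hb in
theorem isBlowUp_baseChangeOver {S₁ : Scheme.{u}} (s : S₁ ⟶ S) :
    BlowUp.IsBlowUp (CInt.baseChangeOver b g s) (𝓘.comap (pullback.fst g s)) := by
  refine isBlowUp_baseChange g 𝓘 hflat hb (IsPullback.of_hasPullback g s)
    (IsPullback.of_bot (v₂₁ := pullback.snd g s) ?_ (pullback.lift_fst _ _ _).symm (IsPullback.of_hasPullback g s))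
    (pX' := pullback.fst (b ≫ g) s)
  have : CInt.baseChangeOver b g s ≫ pullback.snd g s = pullback.snd (b ≫ g) s := by
    refine (pullback.lift_snd _ _ _).trans ?_
    exact Category.comp_id _
  rw [this]
  exact IsPullback.of_hasPullback _ _

include hflat hb in
/-- The blow-up is flat over the base if the blown-up scheme is. -/
theorem flat_blowUp [Flat g] : Flat (b ≫ g) := by
  haveI := flat_exceptional g 𝓘 hflat hb
  refine SDiv28.FlatOffDivisor.flat (b ≫ g) _ hb.1 fun x hx => ?_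
  have hx' : b x ∉ (𝓘.support : Set X) := fun h => hx (by
    rw [← SetLike.mem_coe, Scheme.IdealSheafData.support_comap]
    exact h)
  let W : X.Opens := ⟨(𝓘.support : Set X)ᶜ, 𝓘.support.isClosed.isOpen_compl⟩
  haveI := ProjLib.isIso_morphismRestrict hb W disjoint_compl_right
  have hF : Flat ((b ⁻¹ᵁ W).ι ≫ b ≫ g) := by
    rw [← Category.assoc, ← morphismRestrict_ι, Category.assoc]
    exact MorphismProperty.comp_mem @Flat _ _ inferInstance (MorphismProperty.comp_mem @Flat _ _ inferInstance inferInstance)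
  rw [Flat.iff_flat_stalkMap] at hF
  have := hF ⟨x, hx'⟩
  rw [Scheme.Hom.stalkMap_comp, ← Scheme.Opens.stalkIso_inv] at this
  exact (RingHom.Flat.respectsIso.cancel_right_isIso _ _).1 this

end Groth.Agent.CAlgH.BlowupFlatPowers
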