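import Groth.Agent.EGA43.BranchCount.Main

/-!
# Branches along a strict henselization

For a local ring with finitely many minimal primes, contraction `A' ⊗ Aˢʰ → Aˢʰ` is a bijection on
minimal primes, and minimal primes and maximal ideals of `A' ⊗ Aˢʰ` correspond.
-/

set_option autoImplicit false
set_option backward.isDefEq.respectTransparency false

universe u

open TensorProduct IsLocalRing

namespace Groth.Agent.CAlgH.BranchStrict

open HenselLib CAlgSmall.UnibranchHull

variable {A : Type u} [CommRing A] [IsLocalRing A]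
  {S : Type u} [CommRing S] [IsLocalRing S] [Algebra A S] [IsLocalHom (algebraMap A S)]
  [Hensel.IsStrictHenselization A S]

/-- Contraction along a strict henselization gives a bijection of minimal primes. -/
theorem bijOn_strictHenselization (hfin : (minimalPrimes A).Finite) :
    Set.BijOn (fun P : Ideal ((CAlg2.normRed A) ⊗[A] S) =>
        P.comap (Algebra.TensorProduct.includeRight.toRingHom : S →+* (CAlg2.normRed A) ⊗[A] S))
      (minimalPrimes ((CAlg2.normRed A) ⊗[A] S))
      (minimalPrimes S) := by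
  obtain ⟨e⟩ := exists_equiv_localSH S (R := A)
  obtain ⟨_, _, _, _⟩ := hull_facts (A := A) (K := SepRes A)
  have : Module.Flat A S := Module.Flat.of_linearEquiv e.symm.toLinearEquiv
  refine bijOn (fun q q' hq hq' hle heq => ?_) hfin
  haveI := hq
  haveI := hq'
  have h := hull_eq_of_le_of_comap_eq (q := q.comap e.toRingEquiv.toRingHom)
    (q' := q'.comap e.toRingEquiv.toRingHom) (Ideal.comap_mono hle) (by
      ext a
      simp only [Ideal.mem_comap]
      show e (algebraMap A _ a) ∈ q ↔ e (algebraMap A _ a) ∈ q'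
      rw [e.commutes]
      exact SetLike.ext_iff.1 heq a)
  exact Ideal.comap_injective_of_surjective _ e.surjective h

/-- Minimal primes and maximal ideals of `A' ⊗ Aˢʰ` correspond. -/
theorem unique_minimal_maximal (hfin : (minimalPrimes A).Finite) :
    (∀ q ∈ minimalPrimes ((CAlg2.normRed A) ⊗[A] S),
        ∃! m : Ideal ((CAlg2.normRed A) ⊗[A] S), m.IsMaximal ∧ q ≤ m) ∧
      (∀ m : Ideal ((CAlg2.normRed A) ⊗[A] S), m.IsMaximal →
        ∃! q : Ideal ((CAlg2.normRed A) ⊗[A] S), q ∈ minimalPrimes ((CAlg2.normRed A) ⊗[A] S) ∧ q ≤ m) := by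
  obtain ⟨e⟩ := exists_equiv_localSH S (R := A)
  obtain ⟨_, _, _, _⟩ := hull_facts (A := A) (K := SepRes A)
  have : Module.Flat A S := Module.Flat.of_linearEquiv e.symm.toLinearEquiv
  haveI : HenselianLocalRing S := Hensel.IsStrictHenselization.henselian (R := A)
  have : Algebra.IsIntegral A (CAlg2.normRed A) := Algebra.IsIntegral.trans (CAlg2.red A)
  letI := Algebra.TensorProduct.rightAlgebra (R := A) (A := CAlg2.normRed A) (B := S)
  haveI : Algebra.IsIntegral S ((CAlg2.normRed A) ⊗[A] S) :=
    Algebra.IsIntegral.of_surjective (Algebra.TensorProduct.commRight A S (CAlg2.normRed A)).toAlgHom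
      (Algebra.TensorProduct.commRight A S (CAlg2.normRed A)).surjective
  have hstage : ∀ T : Finset S, ∃ (E : Type u) (_ : CommRing E) (_ : Algebra A E) (_ : Algebra.Etale A E)
      (g : E →ₐ[A] S), ∀ b ∈ T, b ∈ Set.range g := by
    intro T
    classical
    obtain ⟨E, i1, i2, i3, g, hg⟩ := EGA43.BranchCount.exists_stage (T.image e.symm)
    refine ⟨E, i1, i2, i3, e.toAlgHom.comp g, fun b hb => ?_⟩
    obtain ⟨x, hx⟩ := hg (e.symm b) (Finset.mem_image_of_mem _ hb)
    exact ⟨x, by rw [AlgHom.comp_apply, hx]; exact e.apply_symm_apply b⟩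
  have hN : EGA4.IsNormalRing (CAlg2.normRed A) := EGA43.Branches.isNormalRing_normRed A hfin
  refine ⟨fun q hq => ?_, fun m hm => ?_⟩
  · haveI := hq.1.1
    obtain ⟨m, hm, hqm⟩ := Ideal.exists_le_maximal q hq.1.1.ne_top
    refine ⟨m, ⟨hm, hqm⟩, fun m' h' => ?_⟩
    exact @eq_of_isMaximal_of_le S ((CAlg2.normRed A) ⊗[A] S) _ _ _ _ _ q _ m' m h'.1 hm h'.2 hqm
  · haveI := hm
    obtain ⟨q, hq, hqm⟩ := Ideal.exists_minimalPrimes_le (J := m) bot_le
    exact ⟨q, ⟨hq, hqm⟩, fun q' h' => le_antisymm
      (EGA43.BranchCount.minimal_le_of_stages hN hstage hm.isPrime h'.1 hq h'.2 hqm)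
      (EGA43.BranchCount.minimal_le_of_stages hN hstage hm.isPrime hq h'.1 hqm h'.2)⟩

end Groth.Agent.CAlgH.BranchStrict
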