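import Groth.Agent.CAlgH.StrictHenselExtended
import Groth.Agent.EGA43.BranchCount.Main
import Groth.Agent.Unibr10.Branches
import Groth.Agent.S0507
import Groth.Agent.S2135
import Mathlib

/-!
# Branches, geometric branches and extension of minimal primes to the strict henselization
-/

set_option autoImplicit false
set_option linter.style.haveILetI false
universe u

open IsLocalRing

namespace Groth.Agent.CAlgH.BranchesExtended

theorem emb_key (A : Type u) [CommRing A] [IsLocalRing A] :
    ∀ m' : MaximalSpectrum (CAlg2.normRed A), Nonempty (Brnch.Emb A m') ∧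
      (Subsingleton (Brnch.Emb A m') ↔
        ∀ x : CAlg2.normRed A ⧸ m'.asIdeal,
          ∃ n : ℕ, x ^ (ringExpChar (CAlg2.normRed A ⧸ m'.asIdeal)) ^ n ∈ (Brnch.toResidue A m').range) := by
  intro m'
  classical
  let k := IsLocalRing.ResidueField A
  let K := AlgebraicClosure k
  haveI := m'.2
  letI : Field (CAlg2.normRed A ⧸ m'.asIdeal) := Ideal.Quotient.field _
  let L := CAlg2.normRed A ⧸ m'.asIdeal
  let κ : k →+* L := Ideal.Quotient.lift _ (Brnch.toResidue A m') (fun a ha => by
    rw [← RingHom.mem_ker, Unibr10.toResidue_ker]; exact ha)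
  letI : Algebra k L := κ.toAlgebra
  have hres : κ.comp (IsLocalRing.residue A) = Brnch.toResidue A m' := Ideal.Quotient.lift_comp_mk _ _ _
  have hint : (Brnch.toResidue A m').IsIntegral := by
    refine RingHom.IsIntegral.trans _ _ ?_ (RingHom.isIntegral_of_surjective _ Ideal.Quotient.mk_surjective)
    exact (RingHom.isIntegral_of_surjective _ Ideal.Quotient.mk_surjective).trans _ _
      (algebraMap_isIntegral_iff.mpr inferInstance)
  haveI : Algebra.IsIntegral k L := by
    rw [← algebraMap_isIntegral_iff]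
    exact RingHom.IsIntegral.tower_top (IsLocalRing.residue A) κ (hres ▸ hint)
  haveI : Algebra.IsAlgebraic k L := Algebra.IsIntegral.isAlgebraic
  have hclo : (algebraMap k K).comp (IsLocalRing.residue A) = Brnch.toClosure A := rfl
  let e : Brnch.Emb A m' ≃ (L →ₐ[k] K) :=
    { toFun := fun σ => { σ.1 with
        commutes' := fun r => by
          obtain ⟨a, rfl⟩ := IsLocalRing.residue_surjective r
          show σ.1 (κ (IsLocalRing.residue A a)) = algebraMap k K (IsLocalRing.residue A a)
          rw [← RingHom.comp_apply κ, hres, ← RingHom.comp_apply, σ.2]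
          exact (RingHom.congr_fun hclo a).symm }
      invFun := fun τ => ⟨τ.toRingHom, by
        rw [← hres, ← RingHom.comp_assoc, ← hclo]
        congr 1
        exact τ.comp_algebraMap⟩
      left_inv := fun σ => rfl
      right_inv := fun τ => rfl }
  let q := ringExpChar L
  haveI : ExpChar L q := inferInstance
  haveI : ExpChar k q := κ.expChar κ.injective q
  have hr : (Brnch.toResidue A m').range = κ.range := by
    refine le_antisymm ?_ ?_
    · rintro _ ⟨a, rfl⟩; exact ⟨IsLocalRing.residue A a, RingHom.congr_fun hres a⟩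
    · rintro _ ⟨r, rfl⟩
      obtain ⟨a, rfl⟩ := IsLocalRing.residue_surjective r
      exact ⟨a, (RingHom.congr_fun hres a).symm⟩
  refine ⟨⟨e.symm (IsAlgClosed.lift (R := k) (S := L) (M := K))⟩, ?_⟩
  rw [hr]
  constructor
  · intro hs
    haveI : Subsingleton (L →ₐ[k] K) := e.symm.subsingleton
    haveI : Subsingleton (Field.Emb k L) := (Field.embEquivOfIsAlgClosed k L K).subsingleton
    have h1 : Field.finSepDegree k L = 1 := by
      rw [Field.finSepDegree, Nat.card_eq_one_iff_unique]
      exact ⟨inferInstance, ⟨Classical.arbitrary _⟩⟩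
    haveI := isPurelyInseparable_of_finSepDegree_eq_one h1
    exact fun x => IsPurelyInseparable.pow_mem k q x
  · intro h
    haveI : IsPurelyInseparable k L := (isPurelyInseparable_iff_pow_mem k q).mpr h
    exact e.subsingleton


theorem numGeomBranches_eq_iff (A : Type u) [CommRing A] [IsLocalRing A] (hfin : (minimalPrimes A).Finite)
    (hne : Brnch.numGeomBranches A ≠ ⊤) :
    Brnch.numGeomBranches A = Brnch.numBranches A ↔
      ∀ m : MaximalSpectrum (CAlg2.normRed A), ∀ x : CAlg2.normRed A ⧸ m.asIdeal,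
        ∃ n : ℕ, x ^ (ringExpChar (CAlg2.normRed A ⧸ m.asIdeal)) ^ n ∈ (Brnch.toResidue A m).range := by
  classical
  unfold Brnch.numGeomBranches Brnch.numBranches at *
  rw [if_pos hfin] at *
  rw [if_pos hfin]
  haveI hF : Finite (Σ m : MaximalSpectrum (CAlg2.normRed A), Brnch.Emb A m) := by
    by_contra h
    rw [not_finite_iff_infinite] at h
    exact hne ENat.card_eq_top_of_infinite
  let p : (Σ m : MaximalSpectrum (CAlg2.normRed A), Brnch.Emb A m) → MaximalSpectrum (CAlg2.normRed A) := Sigma.fst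
  have hp : Function.Surjective p := fun m => ⟨⟨m, (emb_key A m).1.some⟩, rfl⟩
  haveI : Finite (MaximalSpectrum (CAlg2.normRed A)) := Finite.of_surjective p hp
  constructor
  · intro h m
    refine (emb_key A m).2.1 ⟨fun a b => ?_⟩
    rw [ENat.card_eq_coe_natCard, ENat.card_eq_coe_natCard, Nat.cast_inj] at h
    have := (hp.bijective_of_nat_card_le h.le).1 (a₁ := ⟨m, a⟩) (a₂ := ⟨m, b⟩) rfl
    exact eq_of_heq (Sigma.mk.inj_iff.1 this).2
  · intro h
    refine ENat.card_congr (Equiv.ofBijective p ⟨fun x y hxy => ?_, hp⟩)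
    obtain ⟨x, a⟩ := x
    obtain ⟨y, b⟩ := y
    obtain rfl : x = y := hxy
    haveI := (emb_key A x).2.2 (h x)
    rw [Subsingleton.elim a b]

theorem normRed_condition_iff (A : Type u) [CommRing A] [IsLocalRing A] [IsReduced A] :
    (∀ m : MaximalSpectrum (CAlg2.normRed A), ∀ x : CAlg2.normRed A ⧸ m.asIdeal,
        ∃ n : ℕ, x ^ (ringExpChar (CAlg2.normRed A ⧸ m.asIdeal)) ^ n ∈ (Brnch.toResidue A m).range) ↔
      ∀ (M : Ideal (integralClosure A (FractionRing A))) [M.IsMaximal], ∀ x : (integralClosure A (FractionRing A)) ⧸ M,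
        ∃ n : ℕ, x ^ (ringExpChar ((integralClosure A (FractionRing A)) ⧸ M)) ^ n ∈
          ((Ideal.Quotient.mk M).comp (algebraMap A (integralClosure A (FractionRing A)))).range := by
  let e0 : A ≃+* CAlg2.red A := RingEquiv.ofBijective (Ideal.Quotient.mk (nilradical A))
    ⟨(injective_iff_map_eq_zero _).2 fun a ha => by
      have := Ideal.Quotient.eq_zero_iff_mem.1 ha
      rwa [nilradical_eq_zero, Ideal.zero_eq_bot, Ideal.mem_bot] at this, Ideal.Quotient.mk_surjective⟩
  let Ψ : FractionRing A ≃+* FractionRing (CAlg2.red A) := IsFractionRing.ringEquivOfRingEquiv e0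
  have hΨ : Ψ.toRingHom.comp (algebraMap A (FractionRing A)) =
      (algebraMap (CAlg2.red A) (FractionRing (CAlg2.red A))).comp e0.toRingHom :=
    RingHom.ext fun a => IsFractionRing.ringEquivOfRingEquiv_algebraMap e0 a
  have hmem : ∀ x : FractionRing A, IsIntegral A x ↔ IsIntegral (CAlg2.red A) (Ψ x) := by
    intro x
    constructor
    · rintro ⟨q, hm, h0⟩
      refine ⟨q.map e0.toRingHom, hm.map _, ?_⟩
      rw [Polynomial.eval₂_map, ← hΨ, show Ψ x = Ψ.toRingHom x from rfl, ← Polynomial.hom_eval₂, h0, map_zero]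
    · rintro ⟨q, hm, h0⟩
      obtain ⟨q', rfl, -, hm'⟩ := Polynomial.lifts_and_natDegree_eq_and_monic
        (Polynomial.mem_lifts_of_surjective (f := e0.toRingHom) e0.surjective q) hm
      refine ⟨q', hm', Ψ.injective ?_⟩
      rw [Polynomial.eval₂_map, ← hΨ, show Ψ x = Ψ.toRingHom x from rfl, ← Polynomial.hom_eval₂] at h0
      rw [map_zero]; exact h0
  let e : integralClosure A (FractionRing A) ≃+* CAlg2.normRed A :=
    { toFun := fun x => ⟨Ψ x.1, (hmem x.1).1 x.2⟩
      invFun := fun y => ⟨Ψ.symm y.1, (hmem _).2 (by rw [Ψ.apply_symm_apply]; exact y.2)⟩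
      left_inv := fun x => Subtype.ext (Ψ.symm_apply_apply x.1)
      right_inv := fun y => Subtype.ext (Ψ.apply_symm_apply y.1)
      map_mul' := fun x y => Subtype.ext (map_mul Ψ x.1 y.1)
      map_add' := fun x y => Subtype.ext (map_add Ψ x.1 y.1) }
  have he : ∀ a, e (algebraMap A _ a) = algebraMap (CAlg2.red A) (CAlg2.normRed A) (Ideal.Quotient.mk _ a) :=
    fun a => Subtype.ext (RingHom.congr_fun hΨ a)
  have key : ∀ (M : Ideal (integralClosure A (FractionRing A))) (m : MaximalSpectrum (CAlg2.normRed A)),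
      m.asIdeal = M.map e.toRingHom → M.IsMaximal →
      ((∀ x : CAlg2.normRed A ⧸ m.asIdeal,
        ∃ n : ℕ, x ^ (ringExpChar (CAlg2.normRed A ⧸ m.asIdeal)) ^ n ∈ (Brnch.toResidue A m).range) ↔
      ∀ x : (integralClosure A (FractionRing A)) ⧸ M,
        ∃ n : ℕ, x ^ (ringExpChar ((integralClosure A (FractionRing A)) ⧸ M)) ^ n ∈
          ((Ideal.Quotient.mk M).comp (algebraMap A (integralClosure A (FractionRing A)))).range) := by
    intro M m hM hMmax
    let ε := Ideal.quotientEquiv M m.asIdeal e hM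
    have hchar : ringExpChar (CAlg2.normRed A ⧸ m.asIdeal) = ringExpChar ((integralClosure A (FractionRing A)) ⧸ M) := by
      haveI := m.2
      haveI := hMmax
      letI : Field (CAlg2.normRed A ⧸ m.asIdeal) := Ideal.Quotient.field _
      letI : Field ((integralClosure A (FractionRing A)) ⧸ M) := Ideal.Quotient.field _
      haveI : ExpChar (CAlg2.normRed A ⧸ m.asIdeal) (ringExpChar ((integralClosure A (FractionRing A)) ⧸ M)) :=
        expChar_of_injective_ringHom (f := ε.toRingHom) ε.injective _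
      exact ringExpChar.eq _ _
    have hres : ∀ a, Brnch.toResidue A m a = ε (Ideal.Quotient.mk M (algebraMap A _ a)) := fun a => by
      show Ideal.Quotient.mk m.asIdeal _ = _
      rw [Ideal.quotientEquiv_mk]
      exact congrArg _ (he a).symm
    rw [hchar]
    refine ⟨fun h x => ?_, fun h x => ?_⟩
    · obtain ⟨n, a, ha⟩ := h (ε x)
      exact ⟨n, a, ε.injective (by rw [map_pow, ← ha, hres]; rfl)⟩
    · obtain ⟨n, a, ha⟩ := h (ε.symm x)
      refine ⟨n, a, ?_⟩
      rw [hres, ← ε.apply_symm_apply x, ← map_pow, ← ha]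
      rfl
  constructor
  · intro h M hM
    haveI : (M.map e.toRingHom).IsMaximal := Ideal.map_isMaximal_of_equiv e
    exact (key M ⟨_, ‹_›⟩ rfl hM).1 (h _)
  · intro h m
    haveI := m.2
    haveI hM : (m.asIdeal.comap e.toRingHom).IsMaximal := Ideal.comap_isMaximal_of_surjective _ e.surjective
    exact (key (m.asIdeal.comap e.toRingHom) m (Ideal.map_comap_of_surjective _ e.surjective _).symm hM).2 (h _)

section main

variable (A Ah Ash : Type u) [CommRing A] [IsLocalRing A]
  [CommRing Ah] [IsLocalRing Ah] [Algebra A Ah] [IsLocalHom (algebraMap A Ah)] [Hensel.IsHenselization A Ah]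
  [CommRing Ash] [IsLocalRing Ash] [Algebra A Ash] [IsLocalHom (algebraMap A Ash)]
  [Hensel.IsStrictHenselization A Ash] [Algebra Ah Ash] [IsScalarTower A Ah Ash]

include A in
theorem isLocalHom_henselization : IsLocalHom (algebraMap Ah Ash) := by
  refine ((local_hom_TFAE (algebraMap Ah Ash)).out 2 0).1 ?_
  rw [← S0507.result A Ah, Ideal.map_map, ← IsScalarTower.algebraMap_eq]
  exact IsLocalRing.map_maximalIdeal_le _

variable [IsLocalHom (algebraMap Ah Ash)]

include A in
theorem isStrictHenselization_over_henselization : Hensel.IsStrictHenselization Ah Ash := by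
  have hS := ‹Hensel.IsStrictHenselization A Ash›
  refine ⟨hS.henselian, ?_, ?_⟩
  · haveI := hS.isSepClosure
    refine ⟨IsSepClosure.sep_closed (ResidueField A), ?_⟩
    haveI : IsScalarTower (ResidueField A) (ResidueField Ah) (ResidueField Ash) :=
      IsScalarTower.of_algebraMap_eq fun x => by
        obtain ⟨r, rfl⟩ := residue_surjective x
        exact congrArg (residue Ash) (IsScalarTower.algebraMap_apply A Ah Ash r)
    haveI : Algebra.IsSeparable (ResidueField A) (ResidueField Ash) := IsSepClosure.separable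
    exact Algebra.isSeparable_tower_top_of_isSeparable (ResidueField A) (ResidueField Ah) (ResidueField Ash)
  · intro T _ _ f _ τ hτ
    haveI : IsLocalHom (f.comp (algebraMap A Ah)) := RingHom.isLocalHom_comp _ _
    have hτ' : τ.comp (ResidueField.map (algebraMap A Ash)) = ResidueField.map (f.comp (algebraMap A Ah)) := by
      refine RingHom.ext fun x => ?_
      obtain ⟨r, rfl⟩ := residue_surjective x
      rw [RingHom.comp_apply, ResidueField.map_residue, IsScalarTower.algebraMap_apply A Ah Ash]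
      exact RingHom.congr_fun hτ (residue Ah (algebraMap A Ah r))
    obtain ⟨g, ⟨hg, hgr⟩, hu⟩ := hS.universal T _ τ hτ'
    refine ⟨g, ⟨?_, hgr⟩, fun g' hg' => hu g' ⟨?_, hg'.2⟩⟩
    · exact (‹Hensel.IsHenselization A Ah›.universal T (f.comp (algebraMap A Ah)) inferInstance).unique
        (by rw [RingHom.comp_assoc, ← IsScalarTower.algebraMap_eq, hg]) rfl
    · rw [IsScalarTower.algebraMap_eq A Ah Ash, ← RingHom.comp_assoc, hg'.1]

theorem generated_iff_numBranches [IsReduced A] [IsNoetherianRing A] :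
    (∀ Q ∈ minimalPrimes Ash, Q = Ideal.map (algebraMap Ah Ash) (Q.comap (algebraMap Ah Ash))) ↔
      Brnch.numGeomBranches A = Brnch.numBranches A := by
  classical
  haveI := isStrictHenselization_over_henselization A Ah Ash
  haveI : IsReduced Ash := (S2747.result A Ash).2 inferInstance
  haveI : IsReduced Ah := (S2747.result Ah Ash).1 inferInstance
  haveI : IsNoetherianRing Ash := EssEt6.isNoetherianRing_strict (A := A) ‹_›
  haveI : Finite (minimalPrimes Ash) := (minimalPrimes.finite_of_isNoetherianRing Ash).to_subtype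
  rw [← EGA43.BranchCount.numGeomBranches_eq (A := A) Ash, ← EGA43.BranchCount.numBranches_eq (A := A) Ah,
    ← ENat.card_coe_set_eq, ← ENat.card_coe_set_eq]
  let f : minimalPrimes Ash → minimalPrimes Ah := fun Q =>
    ⟨Q.1.comap (algebraMap Ah Ash), StrictHenselExtended.comap_mem_minimalPrimes Ah Ash Q.1 Q.2⟩
  have hf : Function.Surjective f := fun p => by
    obtain ⟨Q, hQ, -, hQp⟩ := StrictHenselExtended.exists_minimalPrimes_comap_eq Ah Ash p.1 p.2
    exact ⟨⟨Q, hQ⟩, Subtype.ext hQp⟩
  haveI : Finite (minimalPrimes Ah) := Finite.of_surjective f hf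
  constructor
  · intro h
    refine ENat.card_congr (Equiv.ofBijective f ⟨fun Q Q' hQQ => Subtype.ext ?_, hf⟩)
    rw [h Q.1 Q.2, h Q'.1 Q'.2]
    exact congrArg (Ideal.map (algebraMap Ah Ash)) (congrArg Subtype.val hQQ)
  · intro h
    rw [ENat.card_eq_coe_natCard, ENat.card_eq_coe_natCard, Nat.cast_inj] at h
    have hinj := (hf.bijective_of_nat_card_le h.le).1
    refine (StrictHenselExtended.generated_iff Ah Ash).2 fun p hp hl => ?_
    haveI : p.IsPrime := hp.1.1
    obtain ⟨_, _, hloc, hSH⟩ := StrictHenselExtended.exists_strict_quotient Ah Ash p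
      (le_maximalIdeal (Ideal.IsPrime.ne_top ‹_›))
    letI := (Ideal.quotientMap (p.map (algebraMap Ah Ash)) (algebraMap Ah Ash) Ideal.le_comap_map).toAlgebra
    haveI : IsLocalHom (algebraMap (Ah ⧸ p) (Ash ⧸ p.map (algebraMap Ah Ash))) := hloc
    haveI : Hensel.IsStrictHenselization (Ah ⧸ p) (Ash ⧸ p.map (algebraMap Ah Ash)) := hSH
    haveI : IsReduced (Ash ⧸ p.map (algebraMap Ah Ash)) := (S2747.result (Ah ⧸ p) _).2 inferInstance
    obtain ⟨Q, hQ, hle, hQp⟩ := StrictHenselExtended.exists_minimalPrimes_comap_eq Ah Ash p hp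
    have hrad : (p.map (algebraMap Ah Ash)).IsRadical := (Ideal.isRadical_iff_quotient_reduced _).2 inferInstance
    have heq : p.map (algebraMap Ah Ash) = Q := by
      refine le_antisymm hle ?_
      rw [← hrad.radical, ← Ideal.sInf_minimalPrimes]
      refine le_sInf fun P hP => ?_
      haveI := hP.1.1
      obtain ⟨Q', hQ', hQ'P⟩ := Ideal.exists_minimalPrimes_le (I := (⊥ : Ideal Ash)) (J := P) bot_le
      have hPp : p ≤ P.comap (algebraMap Ah Ash) := Ideal.map_le_iff_le_comap.1 hP.1.2
      obtain ⟨Q'', hQ'', hQ''le⟩ : ∃ Q'' : Ideal Ash, Q''.IsPrime ∧ Q'' ≤ P ∧ Q''.comap (algebraMap Ah Ash) = p := by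
        haveI := EssEt6.flat_strict (A := Ah) Ash
        haveI : P.LiesOver (P.comap (algebraMap Ah Ash)) := ⟨rfl⟩
        obtain ⟨P', hP', hP'p, hP'o⟩ := Ideal.exists_ideal_le_liesOver_of_le P hPp
        exact ⟨P', hP'p, hP', hP'o.over.symm⟩
      obtain ⟨Q₁, hQ₁, hQ₁le⟩ := Ideal.exists_minimalPrimes_le (I := (⊥ : Ideal Ash)) (J := Q'') bot_le
      haveI := hQ''
      haveI : Q₁.IsPrime := hQ₁.1.1
      have h1 : Q₁.comap (algebraMap Ah Ash) = p :=
        le_antisymm ((Ideal.comap_mono hQ₁le).trans hQ''le.2.le)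
          (hp.2 ⟨inferInstance, bot_le⟩ ((Ideal.comap_mono hQ₁le).trans hQ''le.2.le))
      have h2 : (⟨Q, hQ⟩ : minimalPrimes Ash) = ⟨Q₁, hQ₁⟩ := hinj (Subtype.ext (hQp.trans h1.symm))
      exact (congrArg Subtype.val h2).le.trans (hQ₁le.trans hQ''le.1)
    rw [EGA43.FieldBranches.isGeomUnibranch_iff_numGeomBranches,
      ← EGA43.BranchCount.numGeomBranches_eq (A := Ah ⧸ p) (Ash ⧸ p.map (algebraMap Ah Ash))]
    haveI : (p.map (algebraMap Ah Ash)).IsPrime := heq ▸ hQ.1.1
    rw [IsDomain.minimalPrimes_eq_singleton_bot, Set.encard_singleton]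

end main

end Groth.Agent.CAlgH.BranchesExtended
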