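import Groth.Agent.CAlgH.CIBaseChange
import Mathlib.AlgebraicGeometry.Morphisms.LocalFlatDescent

/-!
# Complete intersection morphisms: base change, descent, composition
-/

universe u

set_option autoImplicit false
set_option backward.isDefEq.respectTransparency false

open CategoryTheory CategoryTheory.Limits AlgebraicGeometry IsLocalRing TensorProduct

namespace Groth.Agent.CAlgH.CIMorphism

variable {X Y S S' : Scheme.{u}}

theorem isNoetherianRing_stalk_fiber (f : X ⟶ S) [LocallyOfFiniteType f] (s : S) (w : ↥(f.fiber s)) :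
    IsNoetherianRing ((f.fiber s).presheaf.stalk w) := by
  have : LocallyOfFiniteType (f.fiberToSpecResidueField s) := MorphismProperty.pullback_snd _ _ ‹_›
  exact CIScheme.isNoetherianRing_stalk (f.fiberToSpecResidueField s) w

theorem ci_fiberStalk_iff (f : X ⟶ S) [LocallyOfFiniteType f] (s : S) (w : ↥(f.fiber s)) :
    Pi1.IsCompleteIntersection (CInt.fiberStalk f (f.fiberι s w)) ↔
      Pi1.IsCompleteIntersection ((f.fiber s).presheaf.stalk w) := by
  obtain ⟨e₁⟩ := CIScheme.fiberι_stalk_equiv f s w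
  obtain ⟨e₂⟩ := CIScheme.fiberStalk_equiv f (f.fiberι s w)
  have := isNoetherianRing_stalk_fiber f s w
  have := CIScheme.isNoetherianRing_fiberStalk f (f.fiberι s w)
  exact AvramovCI.isCompleteIntersection_iff_of_equiv (e₂.symm.trans e₁)

/-- Complete intersection fibres, stated fibre by fibre. -/
theorem forall_fiberStalk_iff (f : X ⟶ S) [LocallyOfFiniteType f] :
    (∀ x, Pi1.IsCompleteIntersection (CInt.fiberStalk f x)) ↔
      ∀ (s : S) (w : ↥(f.fiber s)), Pi1.IsCompleteIntersection ((f.fiber s).presheaf.stalk w) :=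
  ⟨fun h s w => (ci_fiberStalk_iff f s w).1 (h _), fun h x => h _ _⟩

theorem exists_fiber_pullback_iso (f : X ⟶ S) (g : S' ⟶ S) (s' : S') :
    letI := (g.residueFieldMap s').hom.toAlgebra
    Nonempty ((pullback.snd f g).fiber s' ≅ pullback (f.fiberToSpecResidueField (g s'))
      (Spec.map (CommRingCat.ofHom (algebraMap (S.residueField (g s')) (S'.residueField s'))))) := by
  letI := (g.residueFieldMap s').hom.toAlgebra
  refine ⟨pullbackLeftPullbackSndIso f g (S'.fromSpecResidueField s') ≪≫
    pullback.congrHom rfl ?_ ≪≫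
    (pullbackLeftPullbackSndIso f (S.fromSpecResidueField (g s')) _).symm⟩
  exact (Scheme.Hom.SpecMap_residueFieldMap_fromSpecResidueField g s').symm

/-- The fibres of a base change and the fibres of the morphism. -/
theorem forall_fiber_baseChange_iff (f : X ⟶ S) [LocallyOfFiniteType f] (g : S' ⟶ S) (s' : S') :
    (∀ w : ↥((pullback.snd f g).fiber s'),
        Pi1.IsCompleteIntersection (((pullback.snd f g).fiber s').presheaf.stalk w)) ↔
      ∀ w : ↥(f.fiber (g s')), Pi1.IsCompleteIntersection ((f.fiber (g s')).presheaf.stalk w) := by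
  letI : Algebra (S.residueField (g s')) (S'.residueField s') := (g.residueFieldMap s').hom.toAlgebra
  let h := Spec.map (CommRingCat.ofHom (algebraMap (S.residueField (g s')) (S'.residueField s')))
  obtain ⟨e⟩ := exists_fiber_pullback_iso f g s'
  let F := f.fiberToSpecResidueField (g s')
  have : LocallyOfFiniteType F := MorphismProperty.pullback_snd _ _ ‹_›
  have : LocallyOfFiniteType (pullback.snd F h) := MorphismProperty.pullback_snd _ _ this
  have : LocallyOfFiniteType (pullback.snd f g) := MorphismProperty.pullback_snd _ _ ‹_›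
  have hn : ∀ z : ↥(pullback F h), IsNoetherianRing ((pullback F h).presheaf.stalk z) :=
    fun z => CIScheme.isNoetherianRing_stalk (pullback.snd F h) z
  have hn' := isNoetherianRing_stalk_fiber (pullback.snd f g) s'
  constructor
  · intro H w
    have : Surjective h := ⟨fun p => ⟨default, Subsingleton.elim _ _⟩⟩
    have : Surjective (pullback.fst F h) := MorphismProperty.pullback_fst _ _ this
    obtain ⟨x', rfl⟩ := (pullback.fst F h).surjective w
    exact (CIBaseChange.isCompleteIntersection_iff (k := S.residueField (g s')) (k' := S'.residueField s') F x').2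
      ((CIBaseChange.ci_stalk_of_iso e.symm x' (H _)).2)
  · intro H w
    exact (CIBaseChange.ci_stalk_of_iso e w ((CIBaseChange.isCompleteIntersection_iff (k := S.residueField (g s')) (k' := S'.residueField s') F (e.hom w)).1 (H _))).2

theorem isCIMorphism_baseChange (f : X ⟶ S) (g : S' ⟶ S) (hf : CInt.IsCIMorphism f) :
    CInt.IsCIMorphism (pullback.snd f g) := by
  obtain ⟨_, _, h⟩ := hf
  have : LocallyOfFiniteType (pullback.snd f g) := MorphismProperty.pullback_snd _ _ inferInstance
  refine ⟨MorphismProperty.pullback_snd _ _ ‹_›, MorphismProperty.pullback_snd _ _ ‹_›,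
    (forall_fiberStalk_iff _).2 fun s' => (forall_fiber_baseChange_iff f g s').2 ?_⟩
  exact (forall_fiberStalk_iff f).1 h _

theorem descends_flat :
    MorphismProperty.DescendsAlong @Flat (@Surjective ⊓ @Flat ⊓ @QuasiCompact : MorphismProperty Scheme.{u}) :=
  HasRingHomProperty.descendsAlong_flat <| .mk _ RingHom.Flat.respectsIso fun R A B _ _ _ _ _ h h' => by
    rw [RingHom.flat_algebraMap_iff] at h' ⊢
    rw [RingHom.faithfullyFlat_algebraMap_iff] at h
    exact Module.Flat.of_flat_tensorProduct R B A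

theorem isCIMorphism_of_baseChange (f : X ⟶ S) (g : S' ⟶ S) [QuasiCompact g] [Flat g] [Surjective g]
    (h : CInt.IsCIMorphism (pullback.snd f g)) : CInt.IsCIMorphism f := by
  obtain ⟨h1, h2, h3⟩ := h
  have hQ : (@Surjective ⊓ @Flat ⊓ @QuasiCompact : MorphismProperty Scheme.{u}) g := ⟨⟨‹_›, ‹_›⟩, ‹_›⟩
  haveI := descends_flat.{u}
  have hflat : Flat f := MorphismProperty.of_pullback_snd_of_descendsAlong hQ h1
  have hlfp : LocallyOfFinitePresentation f := MorphismProperty.of_pullback_snd_of_descendsAlong hQ h2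
  refine ⟨hflat, hlfp, (forall_fiberStalk_iff f).2 fun s => ?_⟩
  obtain ⟨s', rfl⟩ := g.surjective s
  exact (forall_fiber_baseChange_iff f g s').1 ((forall_fiberStalk_iff _).1 h3 s')

/-- The composition step at the level of local rings. -/
theorem ci_comp_local {A B C F₁ F₂ F : Type u} [CommRing A] [CommRing B] [CommRing C] [CommRing F₁] [CommRing F₂]
    [CommRing F] [IsLocalRing A] [IsLocalRing B] [IsLocalRing C] [IsLocalRing F₁] [IsLocalRing F₂]
    [IsLocalRing F] [Algebra A B] [Algebra B C] [Algebra A C] [IsScalarTower A B C]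
    [IsLocalHom (algebraMap A B)] [IsLocalHom (algebraMap B C)] [Module.Flat B C]
    [IsNoetherianRing F₁] [IsNoetherianRing F₂] [IsNoetherianRing F]
    (e₁ : (B ⧸ (maximalIdeal A).map (algebraMap A B)) ≃+* F₁)
    (e₂ : (C ⧸ (maximalIdeal B).map (algebraMap B C)) ≃+* F₂)
    (e : (C ⧸ (maximalIdeal A).map (algebraMap A C)) ≃+* F)
    (h₁ : Pi1.IsCompleteIntersection F₁) (h₂ : Pi1.IsCompleteIntersection F₂) :
    Pi1.IsCompleteIntersection F := by
  let I : Ideal B := (maximalIdeal A).map (algebraMap A B)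
  have hI : I ≤ maximalIdeal B := IsLocalRing.map_maximalIdeal_le _
  have hJ : I.map (algebraMap B C) = (maximalIdeal A).map (algebraMap A C) := by
    rw [Ideal.map_map, ← IsScalarTower.algebraMap_eq]
  let e' : (C ⧸ I.map (algebraMap B C)) ≃+* F := (Ideal.quotEquivOfEq hJ).trans e
  have : IsNoetherianRing (B ⧸ I) := isNoetherianRing_of_ringEquiv _ e₁.symm
  have : IsLocalRing (B ⧸ I) := e₁.symm.isLocalRing
  have : IsNoetherianRing (C ⧸ I.map (algebraMap B C)) := isNoetherianRing_of_ringEquiv _ e'.symm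
  have : IsLocalRing (C ⧸ I.map (algebraMap B C)) := e'.symm.isLocalRing
  have : Module.Flat (B ⧸ I) (C ⧸ I.map (algebraMap B C)) := RelativeCI.flat_quotient
  have : IsLocalHom (algebraMap (B ⧸ I) (C ⧸ I.map (algebraMap B C))) := by
    constructor
    intro x hx
    obtain ⟨b, rfl⟩ := Ideal.Quotient.mk_surjective x
    rw [show algebraMap (B ⧸ I) (C ⧸ I.map (algebraMap B C)) (Ideal.Quotient.mk I b) =
      Ideal.Quotient.mk _ (algebraMap B C b) from rfl] at hx
    have := IsLocalHom.of_surjective (Ideal.Quotient.mk (I.map (algebraMap B C))) Ideal.Quotient.mk_surjective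
    exact ((IsUnit.of_map _ _ (IsUnit.of_map _ _ hx)).map _)
  have hm : (maximalIdeal (B ⧸ I)).map (algebraMap (B ⧸ I) (C ⧸ I.map (algebraMap B C))) =
      ((maximalIdeal B).map (algebraMap B C)).map (Ideal.Quotient.mk _) := by
    rw [← IsLocalRing.map_maximalIdeal_of_surjective (Ideal.Quotient.mk I) Ideal.Quotient.mk_surjective]
    have hc : (algebraMap (B ⧸ I) (C ⧸ I.map (algebraMap B C))).comp (Ideal.Quotient.mk I) =
        (Ideal.Quotient.mk (I.map (algebraMap B C))).comp (algebraMap B C) := rfl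
    exact (Ideal.map_map _ _).trans ((congrArg (fun φ => Ideal.map φ (maximalIdeal B)) hc).trans
      (Ideal.map_map (I := maximalIdeal B) _ _).symm)
  exact (AvramovCI.isCompleteIntersection_iff_of_equiv e').1
    ((CIFibre.avramov_of_equiv ((Ideal.quotEquivOfEq hm).trans ((DoubleQuot.quotQuotEquivQuotSup _ _).trans
      ((Ideal.quotEquivOfEq (sup_eq_right.2 (Ideal.map_mono hI))).trans e₂)))).2
        ⟨(AvramovCI.isCompleteIntersection_iff_of_equiv e₁).2 h₁, h₂⟩)

theorem isCIMorphism_comp {Z : Scheme.{u}} (f : X ⟶ Y) (g : Y ⟶ Z) (hf : CInt.IsCIMorphism f)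
    (hg : CInt.IsCIMorphism g) : CInt.IsCIMorphism (f ≫ g) := by
  obtain ⟨_, _, hf3⟩ := hf
  obtain ⟨_, _, hg3⟩ := hg
  refine ⟨inferInstance, inferInstance, fun x => ?_⟩
  letI : Algebra (Z.presheaf.stalk (g (f x))) (Y.presheaf.stalk (f x)) := (g.stalkMap (f x)).hom.toAlgebra
  letI : Algebra (Y.presheaf.stalk (f x)) (X.presheaf.stalk x) := (f.stalkMap x).hom.toAlgebra
  letI : Algebra (Z.presheaf.stalk (g (f x))) (X.presheaf.stalk x) := ((f ≫ g).stalkMap x).hom.toAlgebra
  have : IsScalarTower (Z.presheaf.stalk (g (f x))) (Y.presheaf.stalk (f x)) (X.presheaf.stalk x) :=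
    IsScalarTower.of_algebraMap_eq' (congrArg CommRingCat.Hom.hom (Scheme.Hom.stalkMap_comp f g x))
  have : IsLocalHom (algebraMap (Z.presheaf.stalk (g (f x))) (Y.presheaf.stalk (f x))) :=
    inferInstanceAs (IsLocalHom (g.stalkMap (f x)).hom)
  have : IsLocalHom (algebraMap (Y.presheaf.stalk (f x)) (X.presheaf.stalk x)) :=
    inferInstanceAs (IsLocalHom (f.stalkMap x).hom)
  have : Module.Flat (Y.presheaf.stalk (f x)) (X.presheaf.stalk x) := Flat.stalkMap f x
  have := CIScheme.isNoetherianRing_fiberStalk f x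
  have := CIScheme.isNoetherianRing_fiberStalk g (f x)
  have := CIScheme.isNoetherianRing_fiberStalk (f ≫ g) x
  obtain ⟨e₁⟩ := CIScheme.fiberStalk_equiv g (f x)
  obtain ⟨e₂⟩ := CIScheme.fiberStalk_equiv f x
  obtain ⟨e⟩ := CIScheme.fiberStalk_equiv (f ≫ g) x
  exact ci_comp_local (A := Z.presheaf.stalk (g (f x))) e₁ e₂ e (hg3 (f x)) (hf3 x)

end Groth.Agent.CAlgH.CIMorphism
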