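import Groth.Agent.CAlgH.H1FieldTower
import Groth.Agent.EGA41Lib.CartierEquality
import Mathlib

/-!
# The Cartier equality for the naive cotangent complex and commutative squares of fields
-/

set_option autoImplicit false

universe u

open scoped TensorProduct

namespace Groth.Agent.CAlgH.CartierSquare

/-- Cartier's equality: for a finitely generated extension `L/K` of fields,
`dim Ω_{L/K} - dim H₁(L_{L/K}) = trdeg_K L`. -/
theorem cartier (K L : Type u) [Field K] [Field L] [Algebra K L] [Algebra.EssFiniteType K L] :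
    Module.Finite L Ω[L⁄K] ∧ Module.Finite L (Algebra.H1Cotangent K L) ∧
      (Module.finrank L Ω[L⁄K] : ℤ) - Module.finrank L (Algebra.H1Cotangent K L) =
        Cardinal.toNat (Algebra.trdeg K L) := by
  let R := (⊥ : Subfield K)
  haveI := H1FieldTower.perfectField_bot K
  haveI : Algebra.FormallySmooth R L := formallySmooth_of_perfectField_any R L
  haveI : Subsingleton (Algebra.H1Cotangent R L) := inferInstance
  have hinj : Function.Injective (Algebra.H1Cotangent.δ R K L) := by
    rw [← LinearMap.ker_eq_bot, (Algebra.H1Cotangent.exact_map_δ R K L).linearMap_ker_eq,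
      LinearMap.range_eq_bot]
    exact Subsingleton.elim _ _
  obtain ⟨d, hd, h1, h2, -, h4⟩ := EGA41Lib.exists_indexProp R K L
  have hR : EGA41Lib.IsPowBase R K := fun p hp _ r => by
    haveI : Fact p.Prime := ⟨hp⟩
    refine ⟨algebraMap R K r, ?_⟩
    have h : (r : K) ∈ (frobenius K p).eqLocusField (RingHom.id K) :=
      (bot_le : (⊥ : Subfield K) ≤ _) r.2
    exact h
  have he : EGA41.imperfection R K L = LinearMap.range (Algebra.H1Cotangent.δ R K L) :=
    (Algebra.H1Cotangent.exact_δ_mapBaseChange R K L).linearMap_ker_eq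
  let e : Algebra.H1Cotangent K L ≃ₗ[L] EGA41.imperfection R K L :=
    (LinearEquiv.ofInjective _ hinj).trans (LinearEquiv.ofEq _ _ he.symm)
  haveI := h1
  haveI := h2
  refine ⟨h1, Module.Finite.equiv e.symm, ?_⟩
  have hcard : Cardinal.toNat (Algebra.trdeg K L) = d := by rw [hd, Cardinal.toNat_natCast]
  have h := h4 hR
  rw [e.finrank_eq, hcard]
  omega

section Square

variable {k k' K K' : Type u} [Field k] [Field k'] [Field K] [Field K'] [Algebra k k'] [Algebra k K]
  [Algebra k K'] [Algebra k' K'] [Algebra K K'] [IsScalarTower k k' K'] [IsScalarTower k K K']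

theorem h1Cotangent_map_eq_comp (x : Algebra.H1Cotangent k K) :
    Algebra.H1Cotangent.map k k' K K' x =
      Algebra.H1Cotangent.map k k' K' K' (Algebra.H1Cotangent.map k k K K' x) := by
  show Algebra.Extension.H1Cotangent.map _ x =
    Algebra.Extension.H1Cotangent.map _ (Algebra.Extension.H1Cotangent.map _ x)
  rw [← Algebra.Extension.H1Cotangent.map_comp_apply]
  exact LinearMap.congr_fun (Algebra.Extension.H1Cotangent.map_eq _ _) x

theorem kaehler_map_eq_comp (x : Ω[K⁄k]) :
    KaehlerDifferential.map k k' K K' x =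
      KaehlerDifferential.map k k' K' K' (KaehlerDifferential.map k k K K' x) := by
  have hx : x ∈ Submodule.span K (Set.range (KaehlerDifferential.D k K)) := by
    rw [KaehlerDifferential.span_range_derivation]; trivial
  induction hx using Submodule.span_induction with
  | mem y hy =>
      obtain ⟨b, rfl⟩ := hy
      simp only [KaehlerDifferential.map_D, Algebra.algebraMap_self, RingHom.id_apply]
  | zero => simp only [map_zero]
  | add a b _ _ ha hb => simp only [map_add, ha, hb]
  | smul c a _ ha =>
      rw [LinearMap.map_smul, LinearMap.map_smul, ha, ← algebraMap_smul K' c (KaehlerDifferential.map k k K K' a),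
        LinearMap.map_smul, algebraMap_smul]

theorem square [Algebra.EssFiniteType k k'] [Algebra.EssFiniteType K K'] :
    Module.Finite K' (LinearMap.ker ((KaehlerDifferential.map k k' K K').liftBaseChange K')) ∧
      Module.Finite K' (Ω[K'⁄k'] ⧸ LinearMap.range ((KaehlerDifferential.map k k' K K').liftBaseChange K')) ∧
      Module.Finite K' (LinearMap.ker ((Algebra.H1Cotangent.map k k' K K').liftBaseChange K')) ∧
      Module.Finite K' (Algebra.H1Cotangent k' K' ⧸ LinearMap.range ((Algebra.H1Cotangent.map k k' K K').liftBaseChange K')) ∧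
      ((Module.finrank K' (LinearMap.ker ((KaehlerDifferential.map k k' K K').liftBaseChange K')) : ℤ)
          - Module.finrank K' (Ω[K'⁄k'] ⧸ LinearMap.range ((KaehlerDifferential.map k k' K K').liftBaseChange K'))
          - Module.finrank K' (LinearMap.ker ((Algebra.H1Cotangent.map k k' K K').liftBaseChange K'))
          + Module.finrank K' (Algebra.H1Cotangent k' K' ⧸ LinearMap.range ((Algebra.H1Cotangent.map k k' K K').liftBaseChange K'))
        = (Cardinal.toNat (Algebra.trdeg k k') : ℤ) - Cardinal.toNat (Algebra.trdeg K K')) := by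
  obtain ⟨hΩ', hH', hχ'⟩ := cartier k k'
  obtain ⟨hΩ, hH, hχ⟩ := cartier K K'
  haveI := hΩ'; haveI := hH'; haveI := hΩ; haveI := hH
  -- the first sequence
  let a₁ := (Algebra.H1Cotangent.map k k k' K').liftBaseChange K'
  let b₁ := Algebra.H1Cotangent.map k k' K' K'
  let δ₁ := Algebra.H1Cotangent.δ k k' K'
  let c₁ := KaehlerDifferential.mapBaseChange k k' K'
  let d₁ := KaehlerDifferential.map k k' K' K'
  -- the second sequence
  let a₂ := (Algebra.H1Cotangent.map k k K K').liftBaseChange K'
  let b₂ := Algebra.H1Cotangent.map k K K' K'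
  let δ₂ := Algebra.H1Cotangent.δ k K K'
  let c₂ := KaehlerDifferential.mapBaseChange k K K'
  let d₂ := KaehlerDifferential.map k K K' K'
  have ea₁ : Function.Exact a₁ b₁ := Algebra.H1Cotangent.exact_liftBaseChange_map_of_flat k k' K'
  have eb₁ : Function.Exact b₁ δ₁ := Algebra.H1Cotangent.exact_map_δ k k' K'
  have ed₁ : Function.Exact δ₁ c₁ := Algebra.H1Cotangent.exact_δ_mapBaseChange k k' K'
  have ec₁ : Function.Exact c₁ d₁ := KaehlerDifferential.exact_mapBaseChange_map k k' K'
  have ea₂ : Function.Exact a₂ b₂ := Algebra.H1Cotangent.exact_liftBaseChange_map_of_flat k K K'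
  have eb₂ : Function.Exact b₂ δ₂ := Algebra.H1Cotangent.exact_map_δ k K K'
  have ed₂ : Function.Exact δ₂ c₂ := Algebra.H1Cotangent.exact_δ_mapBaseChange k K K'
  have ec₂ : Function.Exact c₂ d₂ := KaehlerDifferential.exact_mapBaseChange_map k K K'
  have hd₁ : Function.Surjective d₁ :=
    KaehlerDifferential.map_surjective_of_surjective k k' K' K' Function.surjective_id
  have hd₂ : Function.Surjective d₂ :=
    KaehlerDifferential.map_surjective_of_surjective k K K' K' Function.surjective_id
  have ha₁ : Function.Injective a₁ := H1FieldTower.injective_liftBaseChange_map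
  have ha₂ : Function.Injective a₂ := H1FieldTower.injective_liftBaseChange_map
  -- ranks
  haveI : Module.Finite K' (LinearMap.ker d₁) := by rw [ec₁.linearMap_ker_eq]; infer_instance
  haveI : Module.Finite K' (Ω[K'⁄k'] ⧸ LinearMap.range d₁) := by
    rw [LinearMap.range_eq_top.mpr hd₁]; infer_instance
  haveI : Module.Finite K' (LinearMap.ker c₂) := by rw [ed₂.linearMap_ker_eq]; infer_instance
  let ec : (Ω[K'⁄k] ⧸ LinearMap.range c₂) ≃ₗ[K'] Ω[K'⁄K] := ec₂.linearEquivOfSurjective hd₂
  haveI : Module.Finite K' (Ω[K'⁄k] ⧸ LinearMap.range c₂) := Module.Finite.equiv ec.symm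
  haveI : Module.Finite K' (LinearMap.ker b₁) := by rw [ea₁.linearMap_ker_eq]; infer_instance
  let eb : (Algebra.H1Cotangent k' K' ⧸ LinearMap.range b₁) ≃ₗ[K'] LinearMap.range δ₁ :=
    (Submodule.quotEquivOfEq _ _ eb₁.linearMap_ker_eq.symm).trans δ₁.quotKerEquivRange
  haveI : Module.Finite K' (Algebra.H1Cotangent k' K' ⧸ LinearMap.range b₁) :=
    Module.Finite.equiv eb.symm
  let ea : (Algebra.H1Cotangent k K' ⧸ LinearMap.range a₂) ≃ₗ[K'] LinearMap.ker δ₂ :=
    ((Submodule.quotEquivOfEq _ _ ea₂.linearMap_ker_eq.symm).trans b₂.quotKerEquivRange).trans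
      (LinearEquiv.ofEq _ _ eb₂.linearMap_ker_eq.symm)
  haveI : Module.Finite K' (Algebra.H1Cotangent k K' ⧸ LinearMap.range a₂) :=
    Module.Finite.equiv ea.symm
  haveI : Module.Finite K' (LinearMap.ker a₂) := by
    rw [LinearMap.ker_eq_bot.mpr ha₂]; infer_instance
  have hα : (KaehlerDifferential.map k k' K K').liftBaseChange K' = d₁ ∘ₗ c₂ := by
    refine LinearMap.ext fun w => ?_
    induction w using TensorProduct.induction_on with
    | zero => simp
    | add a b ha hb => simp only [map_add, ha, hb]
    | tmul c x =>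
        rw [LinearMap.liftBaseChange_tmul, LinearMap.comp_apply]
        show c • _ = d₁ (KaehlerDifferential.mapBaseChange k K K' (c ⊗ₜ x))
        rw [KaehlerDifferential.mapBaseChange_tmul, LinearMap.map_smul, kaehler_map_eq_comp]
  have hβ : (Algebra.H1Cotangent.map k k' K K').liftBaseChange K' = b₁ ∘ₗ a₂ := by
    refine LinearMap.ext fun w => ?_
    induction w using TensorProduct.induction_on with
    | zero => simp
    | add a b ha hb => simp only [map_add, ha, hb]
    | tmul c x =>
        rw [LinearMap.liftBaseChange_tmul, LinearMap.comp_apply]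
        show c • _ = b₁ ((Algebra.H1Cotangent.map k k K K').liftBaseChange K' (c ⊗ₜ x))
        rw [LinearMap.liftBaseChange_tmul, LinearMap.map_smul, h1Cotangent_map_eq_comp]
  have i₁ : (d₁ ∘ₗ c₂).index = d₁.index + c₂.index := LinearMap.index_comp d₁
  have i₂ : (b₁ ∘ₗ a₂).index = b₁.index + a₂.index := LinearMap.index_comp b₁
  have r₁ : d₁.index = Module.finrank K' (LinearMap.range c₁) := by
    rw [LinearMap.index_of_surjective hd₁, ec₁.linearMap_ker_eq]
  have r₂ : c₂.index =
      (Module.finrank K' (LinearMap.range δ₂) : ℤ) - Module.finrank K' Ω[K'⁄K] := by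
    rw [LinearMap.index_eq_finrank_sub, ed₂.linearMap_ker_eq, ec.finrank_eq]
  have r₃ : b₁.index = (Module.finrank k' (Algebra.H1Cotangent k k') : ℤ) -
      Module.finrank K' (LinearMap.range δ₁) := by
    rw [LinearMap.index_eq_finrank_sub, ea₁.linearMap_ker_eq,
      LinearMap.finrank_range_of_inj ha₁, Module.finrank_baseChange, eb.finrank_eq]
  have r₄ : a₂.index = - (Module.finrank K' (LinearMap.ker δ₂) : ℤ) := by
    rw [LinearMap.index_of_injective ha₂, ea.finrank_eq]
  have q₁ : Module.finrank K' (LinearMap.range c₁) + Module.finrank K' (LinearMap.range δ₁) =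
      Module.finrank k' Ω[k'⁄k] := by
    rw [← ed₁.linearMap_ker_eq, c₁.finrank_range_add_finrank_ker, Module.finrank_baseChange]
  have q₂ : Module.finrank K' (LinearMap.range δ₂) + Module.finrank K' (LinearMap.ker δ₂) =
      Module.finrank K' (Algebra.H1Cotangent K K') := δ₂.finrank_range_add_finrank_ker
  haveI f1 : Module.Finite K' (LinearMap.ker (d₁ ∘ₗ c₂)) := by
    rw [LinearMap.ker_comp]; infer_instance
  haveI f2 : Module.Finite K' (Ω[K'⁄k'] ⧸ LinearMap.range (d₁ ∘ₗ c₂)) := by
    rw [LinearMap.range_comp]; infer_instance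
  haveI f3 : Module.Finite K' (LinearMap.ker (b₁ ∘ₗ a₂)) := by
    rw [LinearMap.ker_comp]; infer_instance
  haveI f4 : Module.Finite K' (Algebra.H1Cotangent k' K' ⧸ LinearMap.range (b₁ ∘ₗ a₂)) := by
    rw [LinearMap.range_comp]; infer_instance
  rw [hα, hβ]
  refine ⟨f1, f2, f3, f4, ?_⟩
  rw [LinearMap.index_eq_finrank_sub] at i₁ i₂
  omega

end Square

end Groth.Agent.CAlgH.CartierSquare
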