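import Mathlib.LinearAlgebra.Charpoly.Basic
import Mathlib.LinearAlgebra.Matrix.Polynomial
import Mathlib.RingTheory.AdjoinRoot
import Mathlib.Algebra.Polynomial.Splits

/-! `det P(A)` depends only on the characteristic polynomial of `A`. -/
universe u
open Polynomial

namespace Groth.Agent.CAlgH

theorem det_aeval_eq_of_charpoly_eq {k : Type u} [CommRing k] {n : ℕ} (A B : Matrix (Fin n) (Fin n) k)
    (h : A.charpoly = B.charpoly) (P : Polynomial k) : (aeval A P).det = (aeval B P).det := by
  cases subsingleton_or_nontrivial k
  · exact Subsingleton.elim _ _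
  have split : ∀ (T : Type u) [CommRing T] (A B : Matrix (Fin n) (Fin n) T) (Q : Polynomial T),
      A.charpoly = B.charpoly → Q.Monic → Q.Splits → (aeval A Q).det = (aeval B Q).det := by
    intro T _ A B Q h hQ hs
    obtain ⟨s, hs⟩ := (splits_iff_exists_multiset'.mp hs)
    rw [hs, hQ.leadingCoeff, map_one, one_mul]
    clear hs
    induction s using Multiset.induction with
    | empty => simp
    | cons a s ih =>
      simp only [Multiset.map_cons, Multiset.prod_cons, map_mul, Matrix.det_mul, ih]
      congr 1
      have e := congrArg (Polynomial.eval (-a)) h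
      rw [Matrix.eval_charpoly, Matrix.eval_charpoly] at e
      have hh : ∀ C : Matrix (Fin n) (Fin n) T,
          aeval C (X + Polynomial.C a) = -(Matrix.scalar (Fin n) (-a) - C) := fun C => by
        simp only [map_add, aeval_X, aeval_C, neg_sub, map_neg, sub_neg_eq_add]
        rfl
      rw [hh, hh, Matrix.det_neg, Matrix.det_neg, e]
  have monic : ∀ (T : Type u) [CommRing T] [Nontrivial T] (A B : Matrix (Fin n) (Fin n) T) (Q : Polynomial T),
      A.charpoly = B.charpoly → Q.Monic → (aeval A Q).det = (aeval B Q).det := by
    intro T _ _ A B Q h hQ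
    obtain ⟨S, _, _, _, _, _, hS⟩ := hQ.exists_splits_map
    have : FaithfulSMul T S := inferInstance
    apply FaithfulSMul.algebraMap_injective T S
    have key := split S (A.map (algebraMap T S)) (B.map (algebraMap T S)) (Q.map (algebraMap T S))
      (by rw [Matrix.charpoly_map, Matrix.charpoly_map, h]) (hQ.map _) hS
    have e : ∀ C : Matrix (Fin n) (Fin n) T, algebraMap T S (aeval C Q).det
        = (aeval (C.map (algebraMap T S)) (Q.map (algebraMap T S))).det := fun C => by
      rw [RingHom.map_det, aeval_map_algebraMap]
      congr 1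
      exact (aeval_algHom_apply (Algebra.ofId T S).mapMatrix C Q).symm
    rw [e, e, key]
  let N := P.natDegree + 1
  let Q : Polynomial (Polynomial k) := X ^ N + Polynomial.C X * P.map Polynomial.C
  have hQ : Q.Monic := monic_X_pow_add (lt_of_le_of_lt (degree_mul_le _ _) (by
    refine lt_of_le_of_lt (add_le_add degree_C_le degree_map_le) ?_
    rw [zero_add]
    exact lt_of_le_of_lt degree_le_natDegree (by exact_mod_cast Nat.lt_succ_self _)))
  have key := monic (Polynomial k) (A.map Polynomial.C) (B.map Polynomial.C) Q
    (by rw [Matrix.charpoly_map, Matrix.charpoly_map, h]) hQ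
  have e : ∀ C : Matrix (Fin n) (Fin n) k, aeval (C.map Polynomial.C) Q
      = (X : Polynomial k) • (aeval C P).map Polynomial.C + (C ^ N).map Polynomial.C := fun C => by
    have e1 : aeval (C.map Polynomial.C) (P.map Polynomial.C) = (aeval C P).map Polynomial.C := by
      rw [← algebraMap_eq, aeval_map_algebraMap]
      exact (aeval_algHom_apply (Algebra.ofId k (Polynomial k)).mapMatrix C P)
    have e2 : (C ^ N).map Polynomial.C = (C.map Polynomial.C) ^ N :=
      map_pow (Polynomial.C : k →+* Polynomial k).mapMatrix C N
    simp only [Q, map_add, map_mul, aeval_X_pow, aeval_C, e1, e2]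
    rw [← Algebra.smul_def, add_comm]
  rw [← coeff_det_X_add_C_card (aeval A P) (A ^ N), ← coeff_det_X_add_C_card (aeval B P) (B ^ N),
    ← e, ← e, key]


end Groth.Agent.CAlgH
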