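import Groth.Agent.CAlgH.CohenFactor
import Groth.Agent.CAlgH3.RegularHom
import Groth.Prelude.Def_Found
import Mathlib

/-!
# Cohen presentations of local homomorphisms by power series rings over coefficient rings
-/

universe u

set_option autoImplicit false

open IsLocalRing Groth.Agent.CAlgH.CohenFactor

namespace Groth.Agent.CAlgH.CohenPresentation

/-- A power series in a disjoint union of variables as an iterated power series. -/
noncomputable def iterate {α β R : Type*} [CommSemiring R] (f : MvPowerSeries (α ⊕ β) R) :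
    MvPowerSeries α (MvPowerSeries β R) :=
  fun x y => f (Finsupp.sumFinsuppEquivProdFinsupp.symm (x, y))

theorem coeff_coeff_iterate {α β R : Type*} [CommSemiring R] (f : MvPowerSeries (α ⊕ β) R) (x : α →₀ ℕ) (y : β →₀ ℕ) :
    MvPowerSeries.coeff y (MvPowerSeries.coeff x (iterate f)) =
      MvPowerSeries.coeff (Finsupp.sumFinsuppEquivProdFinsupp.symm (x, y)) f := rfl

/-- Power series in a disjoint union of variables. -/
noncomputable def sumEquiv (α β R : Type*) [CommSemiring R] :
    MvPowerSeries (α ⊕ β) R ≃+* MvPowerSeries α (MvPowerSeries β R) where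
  toFun := iterate
  invFun F := fun z => F (Finsupp.sumFinsuppEquivProdFinsupp z).1 (Finsupp.sumFinsuppEquivProdFinsupp z).2
  left_inv f := funext fun z => congrArg f (Finsupp.sumFinsuppEquivProdFinsupp.symm_apply_apply z)
  right_inv F := funext fun x => funext fun y => by
    show F (Finsupp.sumFinsuppEquivProdFinsupp (Finsupp.sumFinsuppEquivProdFinsupp.symm (x, y))).1
      (Finsupp.sumFinsuppEquivProdFinsupp (Finsupp.sumFinsuppEquivProdFinsupp.symm (x, y))).2 = _
    rw [Equiv.apply_symm_apply]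
  map_add' _ _ := rfl
  map_mul' f g := by
    classical
    ext x y
    rw [coeff_coeff_iterate, MvPowerSeries.coeff_mul, MvPowerSeries.coeff_mul, map_sum]
    simp only [MvPowerSeries.coeff_mul, coeff_coeff_iterate]
    rw [← Finset.sum_product']
    let E := Finsupp.sumFinsuppAddEquivProdFinsupp (M := ℕ) (α := α) (β := β)
    refine Finset.sum_nbij' (fun p => (((E p.1).1, (E p.2).1), ((E p.1).2, (E p.2).2)))
      (fun q => (E.symm (q.1.1, q.2.1), E.symm (q.1.2, q.2.2))) (fun p hp => ?_) (fun q hq => ?_)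
      (fun p _ => by simp) (fun q _ => by simp) (fun p _ => ?_)
    · rw [Finset.HasAntidiagonal.mem_antidiagonal] at hp
      have h : E p.1 + E p.2 = (x, y) := by
        rw [← map_add, hp]
        exact Equiv.apply_symm_apply _ _
      simp [Finset.HasAntidiagonal.mem_antidiagonal, Prod.ext_iff] at h ⊢
      exact h
    · rw [Finset.mem_product, Finset.HasAntidiagonal.mem_antidiagonal, Finset.HasAntidiagonal.mem_antidiagonal] at hq
      rw [Finset.HasAntidiagonal.mem_antidiagonal, ← map_add, Prod.mk_add_mk, hq.1, hq.2]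
      rfl
    · show f p.1 * g p.2 = f (E.symm ((E p.1).1, (E p.1).2)) * g (E.symm ((E p.2).1, (E p.2).2))
      simp

theorem exists_presentation_of_explicit {A B Λ Λ' : Type u} [CommRing A] [CommRing B] [IsLocalRing A] [CommRing Λ] [IsLocalRing Λ]
    [CommRing Λ'] {m : ℕ} (f : A →+* B) (φ : Λ →+* A) (q : MvPowerSeries (Fin m) Λ' →+* B) (g : Λ →+* MvPowerSeries (Fin m) Λ')
    (hcl : (CharZero (ResidueField A) ∧ IsField Λ ∧ IsField Λ') ∨
        (¬ CharZero (ResidueField A) ∧ CAlg.IsCohenRing Λ ∧ CAlg.IsCohenRing Λ'))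
    (h : ∃ (n : ℕ) (σ : MvPowerSeries (Fin n) Λ →+* A) (τ : MvPowerSeries (Fin n) (MvPowerSeries (Fin m) Λ') →+* B),
      Function.Surjective σ ∧ Function.Surjective τ ∧ τ.comp (MvPowerSeries.map g) = f.comp σ ∧
      (MvPowerSeries.map (σ := Fin n) g).Flat ∧
      IsRegularLocalRing (MvPowerSeries (Fin n) (MvPowerSeries (Fin m) Λ') ⧸
        (maximalIdeal (MvPowerSeries (Fin n) Λ)).map (MvPowerSeries.map (σ := Fin n) g))) :
    ∃ (Λ Λ' : Type u) (_ : CommRing Λ) (_ : CommRing Λ') (_ : IsLocalRing Λ) (n m : ℕ)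
      (ρ : MvPowerSeries (Fin n) Λ →+* A) (σ : MvPowerSeries (Fin m) Λ' →+* B)
      (τ : MvPowerSeries (Fin n) Λ →+* MvPowerSeries (Fin m) Λ'),
      ((CharZero (IsLocalRing.ResidueField A) ∧ IsField Λ ∧ IsField Λ') ∨
        (¬ CharZero (IsLocalRing.ResidueField A) ∧ CAlg.IsCohenRing Λ ∧ CAlg.IsCohenRing Λ')) ∧
        Function.Surjective ρ ∧ Function.Surjective σ ∧ σ.comp τ = f.comp ρ ∧
        τ.Flat ∧ IsRegularRing (MvPowerSeries (Fin m) Λ' ⧸
          (IsLocalRing.maximalIdeal (MvPowerSeries (Fin n) Λ)).map τ) := by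
  obtain ⟨n, σ, τ, hσ, hτ, hcomp, hflat, hreg⟩ := h
  let E : MvPowerSeries (Fin (n + m)) Λ' ≃+* MvPowerSeries (Fin n) (MvPowerSeries (Fin m) Λ') :=
    (MvPowerSeries.renameEquiv Λ' finSumFinEquiv.symm).toRingEquiv.trans (sumEquiv (Fin n) (Fin m) Λ')
  refine ⟨Λ, Λ', inferInstance, inferInstance, inferInstance, n, n + m, σ, τ.comp E.toRingHom,
    E.symm.toRingHom.comp (MvPowerSeries.map g), hcl, hσ, hτ.comp E.surjective, ?_, ?_, ?_⟩
  · rw [RingHom.comp_assoc, ← RingHom.comp_assoc _ E.symm.toRingHom E.toRingHom, RingEquiv.toRingHom_comp_symm_toRingHom,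
      RingHom.id_comp, hcomp]
  · exact hflat.comp (RingHom.Flat.of_bijective E.symm.bijective)
  · let e := Ideal.quotientEquiv _ ((maximalIdeal (MvPowerSeries (Fin n) Λ)).map (E.symm.toRingHom.comp (MvPowerSeries.map g)))
      E.symm (Ideal.map_map (MvPowerSeries.map g) E.symm.toRingHom).symm
    haveI := IsRegularLocalRing.of_ringEquiv e
    exact CAlgH3.isRegularRing_of_isRegularLocalRing

/-- Assemble a factorization from a flat lift of coefficient rings. -/
theorem exists_factor_explicit {A B Λ T B₀ : Type u} [CommRing A] [CommRing B] [IsLocalRing A] [IsLocalRing B]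
    [IsNoetherianRing A] [IsAdicComplete (maximalIdeal A) A] [IsAdicComplete (maximalIdeal B) B]
    (f : A →+* B) [IsLocalHom f] [CommRing Λ] [IsRegularLocalRing Λ] [CommRing T] [IsRegularLocalRing T]
    [IsAdicComplete (maximalIdeal T) T] [CommRing B₀] [IsRegularLocalRing B₀]
    (φ : Λ →+* A) (hφ : Function.Surjective ((residue A).comp φ)) (q : T →+* B) (hq : Function.Surjective q)
    (g : Λ →+* T) (hg : q.comp g = f.comp φ) (π : T →+* B₀) (hπ : Function.Surjective π)
    (hker : RingHom.ker π = (maximalIdeal Λ).map g) (hdim : ringKrullDim T = ringKrullDim Λ + ringKrullDim B₀) :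
    ∃ (n : ℕ) (σ : MvPowerSeries (Fin n) Λ →+* A) (τ : MvPowerSeries (Fin n) T →+* B),
      Function.Surjective σ ∧ Function.Surjective τ ∧ τ.comp (MvPowerSeries.map g) = f.comp σ ∧
      (MvPowerSeries.map (σ := Fin n) g).Flat ∧
      IsRegularLocalRing (MvPowerSeries (Fin n) T ⧸ (maximalIdeal (MvPowerSeries (Fin n) Λ)).map (MvPowerSeries.map (σ := Fin n) g)) := by
  obtain ⟨n, a, ha⟩ := Submodule.fg_iff_exists_fin_generating_family.mp (IsNoetherian.noetherian (maximalIdeal A))
  have hI : ∀ i, a i ∈ maximalIdeal A := fun i => ha ▸ Submodule.subset_span ⟨i, rfl⟩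
  have hI' : ∀ i, f (a i) ∈ maximalIdeal B := fun i => map_nonunit f _ (hI i)
  obtain ⟨σ, hσC, hσX⟩ := CAlgH.exists_mvPowerSeries_eval φ (maximalIdeal A) a hI
  obtain ⟨τ, hτC, hτX⟩ := CAlgH.exists_mvPowerSeries_eval q (maximalIdeal B) (fun i => f (a i)) hI'
  have hσ : Function.Surjective σ := by
    refine CAlgH.surjective_mvPowerSeries_hom σ (maximalIdeal _) (fun i => (hσX i).symm ▸ hI i) ?_
    rw [show (fun i => σ (MvPowerSeries.X i)) = a from funext hσX, hσC,
      show Ideal.span (Set.range a) = maximalIdeal A from ha]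
    exact hφ
  have hτ : Function.Surjective τ := fun b => by
    obtain ⟨t, rfl⟩ := hq b
    exact ⟨MvPowerSeries.C t, RingHom.congr_fun hτC t⟩
  let k := ResidueField Λ
  letI : Algebra k B₀ := (Ideal.Quotient.lift (maximalIdeal Λ) (π.comp g) fun x hx => by
    show π (g x) = 0
    rw [← RingHom.mem_ker, hker]
    exact Ideal.mem_map_of_mem _ hx).toAlgebra
  obtain ⟨ρ₁, hreg, -, hflat, hloc, hρs, hρker, -⟩ := AdicSmooth.exists_flat_mvPowerSeries (k := k) π hπ g
    (residue Λ) (RingHom.ext fun _ => rfl) (ker_residue) hker hdim n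
  have hR := (isRegularLocalRing_mvPowerSeries Λ n).1
  refine ⟨n, σ, τ, hσ, hτ, ?_, hflat, ?_⟩
  · refine mvPowerSeries_hom_ext_hausdorff (maximalIdeal B) _ _ (fun l => ?_) (fun i => ?_) fun i => ?_
    · show τ (MvPowerSeries.map g (MvPowerSeries.C l)) = f (σ (MvPowerSeries.C l))
      rw [MvPowerSeries.map_C, show τ (MvPowerSeries.C (g l)) = q (g l) from RingHom.congr_fun hτC _,
        show σ (MvPowerSeries.C l) = φ l from RingHom.congr_fun hσC _]
      exact RingHom.congr_fun hg l
    · show τ (MvPowerSeries.map g (MvPowerSeries.X i)) = f (σ (MvPowerSeries.X i))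
      rw [MvPowerSeries.map_X, hτX, hσX]
    · show τ (MvPowerSeries.map g (MvPowerSeries.X i)) ∈ _
      rw [MvPowerSeries.map_X, hτX]
      exact hI' i
  · exact IsRegularLocalRing.of_ringEquiv
      ((RingHom.quotientKerEquivOfSurjective hρs).symm.trans (Ideal.quotEquivOfEq hρker))

/-- Cohen presentations exist. -/
theorem exists_presentation {A B : Type u} [CommRing A] [CommRing B] [IsLocalRing A] [IsLocalRing B]
    [IsNoetherianRing A] [IsNoetherianRing B] [IsAdicComplete (maximalIdeal A) A]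
    [IsAdicComplete (maximalIdeal B) B] (f : A →+* B) [IsLocalHom f] :
    ∃ (Λ Λ' : Type u) (_ : CommRing Λ) (_ : CommRing Λ') (_ : IsLocalRing Λ) (n m : ℕ)
      (ρ : MvPowerSeries (Fin n) Λ →+* A) (σ : MvPowerSeries (Fin m) Λ' →+* B)
      (τ : MvPowerSeries (Fin n) Λ →+* MvPowerSeries (Fin m) Λ'),
      ((CharZero (IsLocalRing.ResidueField A) ∧ IsField Λ ∧ IsField Λ') ∨
        (¬ CharZero (IsLocalRing.ResidueField A) ∧ CAlg.IsCohenRing Λ ∧ CAlg.IsCohenRing Λ')) ∧
        Function.Surjective ρ ∧ Function.Surjective σ ∧ σ.comp τ = f.comp ρ ∧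
        τ.Flat ∧ IsRegularRing (MvPowerSeries (Fin m) Λ' ⧸
          (IsLocalRing.maximalIdeal (MvPowerSeries (Fin n) Λ)).map τ) := by
  obtain ⟨m, b, hb⟩ := Submodule.fg_iff_exists_fin_generating_family.mp (IsNoetherian.noetherian (maximalIdeal B))
  have hbI : ∀ i, b i ∈ maximalIdeal B := fun i => hb ▸ Submodule.subset_span ⟨i, rfl⟩
  have hq' : ∀ {L : Type u} [CommRing L] (ψ : L →+* B), Function.Surjective ((residue B).comp ψ) →
      ∃ q : MvPowerSeries (Fin m) L →+* B, q.comp MvPowerSeries.C = ψ ∧ Function.Surjective q := by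
    intro L _ ψ hψ
    obtain ⟨q, hqC, hqX⟩ := exists_mvPowerSeries_eval ψ (maximalIdeal B) b hbI
    refine ⟨q, hqC, surjective_mvPowerSeries_hom q (maximalIdeal _) (fun i => (hqX i).symm ▸ hbI i) ?_⟩
    rw [show (fun i => q (MvPowerSeries.X i)) = b from funext hqX, hqC,
      show Ideal.span (Set.range b) = maximalIdeal B from hb]
    exact hψ
  have hlift : ∀ {L T : Type u} [CommRing L] [CommRing T] [IsLocalRing T] [IsNoetherianRing T]
      [IsAdicComplete (maximalIdeal T) T], LiftsStep L (maximalIdeal T) → ∀ (q : T →+* B),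
      Function.Surjective q → ∀ h : L →+* B, ∃ g : L →+* T, q.comp g = h := by
    intro L T _ _ _ _ _ hstep q hq h
    let e := RingHom.quotientKerEquivOfSurjective hq
    obtain ⟨g, hg⟩ := exists_lift_adic (maximalIdeal T) (RingHom.ker q) (le_maximalIdeal (RingHom.ker_ne_top q))
      (fun x hx => mem_of_forall_mem_sup_pow (RingHom.ker_ne_top q) hx) hstep (e.symm.toRingHom.comp h)
    refine ⟨g, RingHom.ext fun l => ?_⟩
    have := congrArg e (RingHom.congr_fun hg l)
    simpa [e] using this
  obtain ⟨p, hp⟩ := CharP.exists (ResidueField A)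
  rcases CharP.char_is_prime_or_zero (ResidueField A) p with hprime | rfl
  · have : Fact p.Prime := ⟨hprime⟩
    have hpA : (p : A) ∈ maximalIdeal A := by
      rw [← residue_eq_zero_iff, map_natCast]; exact CharP.cast_eq_zero _ p
    have hpB : (p : B) ∈ maximalIdeal B := map_natCast f p ▸ map_nonunit f _ hpA
    obtain ⟨Λ, _, _, _, φ, hcΛ, hmΛ, hφ⟩ := exists_cohen_coefficient p A hpA
    obtain ⟨ΛB, _, _, _, ψ, hcB, hmB, hψ⟩ := exists_cohen_coefficient p B hpB
    obtain ⟨q, hqC, hq⟩ := hq' ψ hψ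
    have hTreg : IsRegularLocalRing (MvPowerSeries (Fin m) ΛB) := (isRegularLocalRing_mvPowerSeries ΛB m).1
    have hTc : IsAdicComplete (maximalIdeal (MvPowerSeries (Fin m) ΛB)) (MvPowerSeries (Fin m) ΛB) :=
      isAdicComplete_maximalIdeal_mvPowerSeries
    let π : MvPowerSeries (Fin m) ΛB →+* MvPowerSeries (Fin m) (ResidueField ΛB) := MvPowerSeries.map (residue ΛB)
    have hπ : Function.Surjective π := fun x => by
      choose c hc using fun j => residue_surjective (R := ΛB) (MvPowerSeries.coeff j x)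
      obtain ⟨c', hc'⟩ : ∃ c' : MvPowerSeries (Fin m) ΛB, ∀ j, MvPowerSeries.coeff j c' = c j := ⟨c, fun _ => rfl⟩
      exact ⟨c', MvPowerSeries.ext fun j => by rw [MvPowerSeries.coeff_map, hc']; exact hc j⟩
    have hπk : RingHom.ker π = Ideal.span {(p : MvPowerSeries (Fin m) ΛB)} := by
      rw [AdicSmooth.ker_map_mvPowerSeries (residue ΛB) (p : ΛB) (by rw [ker_residue, hmB]), map_natCast]
    have hpT : (p : MvPowerSeries (Fin m) ΛB) ∈ maximalIdeal _ :=
      le_maximalIdeal (RingHom.ker_ne_top π) (hπk ▸ Ideal.mem_span_singleton_self _)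
    obtain ⟨g, hg⟩ := hlift (liftsStep_cohen p (hmΛ ▸ maximalIdeal.isMaximal Λ)
      (fun h => IsDiscreteValuationRing.not_a_field Λ (by rw [hmΛ, h, Ideal.span_singleton_zero])) hpT) q hq (f.comp φ)
    have hB₀ := (isRegularLocalRing_mvPowerSeries (ResidueField ΛB) m).1
    have hcl : ¬ CharZero (ResidueField A) := fun h => hprime.ne_zero (CharP.eq (ResidueField A) hp (CharP.ofCharZero _))
    suffices h : _ from exists_presentation_of_explicit f φ q g
      (Or.inr ⟨hcl, ⟨inferInstance, inferInstance, hcΛ, p, hprime, hmΛ⟩, ⟨inferInstance, inferInstance, hcB, p, hprime, hmB⟩⟩) h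
    refine exists_factor_explicit f φ hφ q hq g hg π hπ ?_ ?_
    · rw [hπk, hmΛ, Ideal.map_span, Set.image_singleton, map_natCast]
    · rw [AdicSmooth.ringKrullDim_mvPowerSeries_regular, AdicSmooth.ringKrullDim_mvPowerSeries_regular,
        IsDiscreteValuationRing.ringKrullDim_eq_one, IsDiscreteValuationRing.ringKrullDim_eq_one,
        ringKrullDim_eq_zero_of_field, zero_add]
  · have : CharZero (ResidueField A) := CharP.charP_to_charZero _
    have hkB : CharZero (ResidueField B) :=
      charZero_of_injective_ringHom (ResidueField.map f).injective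
    have hu : ∀ {L : Type u} [CommRing L] [IsLocalRing L], CharZero (ResidueField L) →
        ∀ z : nonZeroDivisors ℤ, IsUnit ((Int.castRingHom L) z) := by
      intro L _ _ _ z
      by_contra hz
      have h1 : residue L ((z : ℤ) : L) = 0 := Ideal.Quotient.eq_zero_iff_mem.mpr hz
      rw [map_intCast, Int.cast_eq_zero] at h1
      exact nonZeroDivisors.coe_ne_zero z h1
    letI : Algebra ℚ A := (IsLocalization.lift (M := nonZeroDivisors ℤ) (S := ℚ) (hu ‹_›)).toAlgebra
    letI : Algebra ℚ B := (IsLocalization.lift (M := nonZeroDivisors ℤ) (S := ℚ) (hu hkB)).toAlgebra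
    obtain ⟨φ, hφ⟩ := exists_coefficient_field (F := ℚ) (R := A)
    obtain ⟨ψ, hψ⟩ := exists_coefficient_field (F := ℚ) (R := B)
    obtain ⟨q, hqC, hq⟩ := hq' ψ hψ
    have hTreg : IsRegularLocalRing (MvPowerSeries (Fin m) (ResidueField B)) :=
      (isRegularLocalRing_mvPowerSeries (ResidueField B) m).1
    have hTc : IsAdicComplete (maximalIdeal (MvPowerSeries (Fin m) (ResidueField B)))
        (MvPowerSeries (Fin m) (ResidueField B)) := isAdicComplete_maximalIdeal_mvPowerSeries
    obtain ⟨g, hg⟩ := hlift (liftsStep_charZero (ResidueField A)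
      (T := MvPowerSeries (Fin m) (ResidueField B)) _) q hq (f.comp φ)
    suffices h : _ from exists_presentation_of_explicit f φ q g
      (Or.inl ⟨‹_›, Field.toIsField _, Field.toIsField _⟩) h
    refine exists_factor_explicit f φ hφ q hq g hg (RingHom.id _) Function.surjective_id ?_ ?_
    · rw [maximalIdeal_eq_bot, Ideal.map_bot]
      exact (RingHom.injective_iff_ker_eq_bot _).mp Function.injective_id
    · rw [ringKrullDim_eq_zero_of_field, zero_add]

end Groth.Agent.CAlgH.CohenPresentation
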