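import Mathlib.RingTheory.TensorProduct.Finite
import Mathlib.RingTheory.TensorProduct.Maps
import Mathlib.LinearAlgebra.DirectSum.Finsupp
import Mathlib.LinearAlgebra.TensorProduct.RightExactness
import Mathlib.RingTheory.MvPolynomial.Basic
import Mathlib.Algebra.MvPolynomial.Eval
import Mathlib.Data.Finite.Sigma

/-!
# Directed colimits of algebras, given element-wise

`ColimSys g` says that `A` is the directed colimit of the `G i` along the algebra maps compatible
with `g i : G i →ₐ[R] A`.  No coherence between the transition maps is required.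
-/

universe u v
open TensorProduct

namespace Groth.Agent.CAlgH

variable {R : Type u} [CommRing R] {ι : Type v} {G : ι → Type u} [∀ i, CommRing (G i)]
  [∀ i, Algebra R (G i)] {A : Type u} [CommRing A] [Algebra R A]

/-- Maps between stages compatible with the maps to the colimit. -/
abbrev CompatHom (g : ∀ i, G i →ₐ[R] A) (i j : ι) : Type u :=
  {h : G i →ₐ[R] G j // (g j).comp h = g i}

/-- Composite of compatible maps. -/
def CompatHom.comp {g : ∀ i, G i →ₐ[R] A} {i j k : ι} (h' : CompatHom g j k) (h : CompatHom g i j) :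
    CompatHom g i k :=
  ⟨h'.1.comp h.1, by rw [← AlgHom.comp_assoc, h'.2, h.2]⟩

/-- The identity is compatible. -/
def CompatHom.refl (g : ∀ i, G i →ₐ[R] A) (i : ι) : CompatHom g i i :=
  ⟨AlgHom.id R _, AlgHom.comp_id _⟩

/-- `A` is the directed colimit of the `G i`. -/
structure ColimSys (g : ∀ i, G i →ₐ[R] A) : Prop where
  nonempty : Nonempty ι
  dir : ∀ i j, ∃ k, Nonempty (CompatHom g i k) ∧ Nonempty (CompatHom g j k)
  surj : ∀ a : A, ∃ i, ∃ x : G i, g i x = a
  kill : ∀ i (x : G i), g i x = 0 → ∃ j, ∃ h : CompatHom g i j, h.1 x = 0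

theorem ColimSys.of_directed [Preorder ι] [IsDirected ι (· ≤ ·)] [Nonempty ι]
    (f : ∀ i j, i ≤ j → (G i →ₐ[R] G j)) (g : ∀ i, G i →ₐ[R] A)
    (hg : ∀ i j (h : i ≤ j), (g j).comp (f i j h) = g i)
    (hsurj : ∀ a : A, ∃ i, ∃ x : G i, g i x = a)
    (hker : ∀ i (x : G i), g i x = 0 → ∃ j, ∃ h : i ≤ j, f i j h x = 0) : ColimSys g where
  nonempty := inferInstance
  dir i j := by
    obtain ⟨k, hi, hj⟩ := directed_of (· ≤ ·) i j
    exact ⟨k, ⟨⟨f i k hi, hg i k hi⟩⟩, ⟨⟨f j k hj, hg j k hj⟩⟩⟩
  surj := hsurj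
  kill i x hx := by
    obtain ⟨j, h, hh⟩ := hker i x hx
    exact ⟨j, ⟨f i j h, hg i j h⟩, hh⟩

variable {g : ∀ i, G i →ₐ[R] A}

theorem CompatHom.apply {i j : ι} (h : CompatHom g i j) (x : G i) : g j (h.1 x) = g i x :=
  AlgHom.congr_fun h.2 x

/-- Finitely many elements killed in the colimit die at a common stage. -/
theorem ColimSys.kill_finite (hs : ColimSys g) {i : ι} {κ : Type*} [Finite κ] (x : κ → G i)
    (hx : ∀ k, g i (x k) = 0) : ∃ j, ∃ h : CompatHom g i j, ∀ k, h.1 (x k) = 0 := by
  classical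
  cases nonempty_fintype κ
  suffices H : ∀ s : Finset κ, ∃ j, ∃ h : CompatHom g i j, ∀ k ∈ s, h.1 (x k) = 0 by
    obtain ⟨j, h, hh⟩ := H Finset.univ
    exact ⟨j, h, fun k => hh k (Finset.mem_univ k)⟩
  intro s
  induction s using Finset.induction with
  | empty => exact ⟨i, .refl g i, by simp⟩
  | insert a s _ ih =>
    obtain ⟨j, h, hh⟩ := ih
    obtain ⟨j', h', hh'⟩ := hs.kill j (h.1 (x a)) (by rw [h.apply, hx])
    refine ⟨j', h'.comp h, fun k hk => ?_⟩
    rcases Finset.mem_insert.mp hk with rfl | hk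
    · exact hh'
    · show h'.1 (h.1 (x k)) = 0
      rw [hh k hk, map_zero]

/-- Finitely many pairs equal in the colimit become equal at a common stage. -/
theorem ColimSys.eq_finite (hs : ColimSys g) {i : ι} {κ : Type*} [Finite κ] (x y : κ → G i)
    (hxy : ∀ k, g i (x k) = g i (y k)) : ∃ j, ∃ h : CompatHom g i j, ∀ k, h.1 (x k) = h.1 (y k) := by
  obtain ⟨j, h, hh⟩ := hs.kill_finite (fun k => x k - y k) (fun k => by rw [map_sub, hxy, sub_self])
  exact ⟨j, h, fun k => sub_eq_zero.mp (by rw [← map_sub]; exact hh k)⟩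

/-- Two stages have a common successor. -/
theorem ColimSys.lift_finite (hs : ColimSys g) {κ : Type*} [Finite κ] (a : κ → A) :
    ∃ i, ∃ x : κ → G i, ∀ k, g i (x k) = a k := by
  classical
  cases nonempty_fintype κ
  suffices H : ∀ s : Finset κ, ∃ i, ∃ x : κ → G i, ∀ k ∈ s, g i (x k) = a k by
    obtain ⟨i, x, hx⟩ := H Finset.univ
    exact ⟨i, x, fun k => hx k (Finset.mem_univ k)⟩
  intro s
  induction s using Finset.induction with
  | empty => exact ⟨hs.nonempty.some, 0, by simp⟩
  | insert b s _ ih =>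
    obtain ⟨i, x, hx⟩ := ih
    obtain ⟨j, y, hy⟩ := hs.surj (a b)
    obtain ⟨k, ⟨hi⟩, ⟨hj⟩⟩ := hs.dir i j
    refine ⟨k, fun c => if c = b then hj.1 y else hi.1 (x c), fun c hc => ?_⟩
    by_cases hcb : c = b
    · subst hcb; simp [hj.apply, hy]
    · simp [hcb, hi.apply, hx c ((Finset.mem_insert.mp hc).resolve_left hcb)]

section Tensor

variable (M : Type u) [AddCommGroup M] [Module R M]

/-- Tensoring with a module commutes with the colimit: surjectivity. -/
theorem ColimSys.rTensor_surj (hs : ColimSys g) (z : A ⊗[R] M) :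
    ∃ i, ∃ y : G i ⊗[R] M, (g i).toLinearMap.rTensor M y = z := by
  induction z using TensorProduct.induction_on with
  | zero => exact ⟨hs.nonempty.some, 0, map_zero _⟩
  | tmul a m =>
    obtain ⟨i, x, rfl⟩ := hs.surj a
    exact ⟨i, x ⊗ₜ m, rfl⟩
  | add p q hp hq =>
    obtain ⟨i, x, rfl⟩ := hp
    obtain ⟨j, y, rfl⟩ := hq
    obtain ⟨k, ⟨hi⟩, ⟨hj⟩⟩ := hs.dir i j
    refine ⟨k, hi.1.toLinearMap.rTensor M x + hj.1.toLinearMap.rTensor M y, ?_⟩
    rw [map_add, ← LinearMap.rTensor_comp_apply, ← LinearMap.rTensor_comp_apply,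
      ← AlgHom.comp_toLinearMap, ← AlgHom.comp_toLinearMap, hi.2, hj.2]

theorem finsuppScalarRight_rTensor {N N' : Type u} [AddCommGroup N] [AddCommGroup N'] [Module R N]
    [Module R N'] (κ : Type u) [DecidableEq κ] (φ : N →ₗ[R] N') (y : N ⊗[R] (κ →₀ R)) (k : κ) :
    TensorProduct.finsuppScalarRight R R N' κ (φ.rTensor _ y) k
      = φ (TensorProduct.finsuppScalarRight R R N κ y k) := by
  induction y using TensorProduct.induction_on with
  | zero => simp
  | tmul n p => simp
  | add a b ha hb => simp [ha, hb]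

/-- Tensoring with a module commutes with the colimit: injectivity. -/
theorem ColimSys.rTensor_kill (hs : ColimSys g) {i : ι} (y : G i ⊗[R] M)
    (hy : (g i).toLinearMap.rTensor M y = 0) :
    ∃ j, ∃ h : CompatHom g i j, h.1.toLinearMap.rTensor M y = 0 := by
  classical
  let π : (M →₀ R) →ₗ[R] M := Finsupp.linearCombination R id
  have hπ : Function.Surjective π := Finsupp.linearCombination_id_surjective R M
  have hex : Function.Exact (LinearMap.ker π).subtype π := LinearMap.exact_subtype_ker_map π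
  obtain ⟨w, rfl⟩ := LinearMap.lTensor_surjective (G i) hπ y
  obtain ⟨n, hn⟩ := ((lTensor_exact (R := R) (M := ↥(LinearMap.ker π)) (N := M →₀ R) (P := M) (f := (LinearMap.ker π).subtype) (g := π) A hex hπ) ((g i).toLinearMap.rTensor _ w)).mp (by
    rw [← hy]; simp only [← LinearMap.comp_apply, LinearMap.lTensor_comp_rTensor, LinearMap.rTensor_comp_lTensor])
  obtain ⟨j, n', hn'⟩ := hs.rTensor_surj (LinearMap.ker π) n
  obtain ⟨k, ⟨hi⟩, ⟨hj⟩⟩ := hs.dir i j
  let d := hi.1.toLinearMap.rTensor _ w - (LinearMap.ker π).subtype.lTensor (G k) (hj.1.toLinearMap.rTensor _ n')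
  have hd : (g k).toLinearMap.rTensor _ d = 0 := by
    simp only [d, map_sub]
    have ej : (g j).toLinearMap = (g k).toLinearMap ∘ₗ hj.1.toLinearMap := by
      rw [← AlgHom.comp_toLinearMap, hj.2]
    rw [← LinearMap.rTensor_comp_apply, ← AlgHom.comp_toLinearMap, hi.2, sub_eq_zero, ← hn, ← hn', ej,
      LinearMap.rTensor_comp_apply]
    exact LinearMap.congr_fun (show ((LinearMap.ker π).subtype.lTensor A) ∘ₗ (g k).toLinearMap.rTensor _ =
      (g k).toLinearMap.rTensor _ ∘ₗ ((LinearMap.ker π).subtype.lTensor (G k)) from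
        TensorProduct.ext' fun a b => rfl) _
  let c := TensorProduct.finsuppScalarRight R R (G k) M d
  obtain ⟨l, h, hh⟩ := hs.kill_finite (fun a : c.support => c a) (fun a => by
    show (g k).toLinearMap (c a) = 0
    rw [← finsuppScalarRight_rTensor, hd]; simp)
  have hd' : h.1.toLinearMap.rTensor _ d = 0 := by
    apply (TensorProduct.finsuppScalarRight R R (G l) M).injective
    ext a
    rw [finsuppScalarRight_rTensor, map_zero]
    by_cases ha : a ∈ c.support
    · exact hh ⟨a, ha⟩
    · show h.1.toLinearMap (c a) = 0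
      rw [Finsupp.notMem_support_iff.mp ha, map_zero]
  refine ⟨l, h.comp hi, ?_⟩
  simp only [d, map_sub, sub_eq_zero] at hd'
  show (h.1.comp hi.1).toLinearMap.rTensor M (π.lTensor _ w) = 0
  have key : ∀ t : G k ⊗[R] LinearMap.ker π,
      π.lTensor (G l) (h.1.toLinearMap.rTensor _ ((LinearMap.ker π).subtype.lTensor (G k) t)) = 0 := fun t => by
    induction t using TensorProduct.induction_on with
    | zero => simp
    | tmul a b => simp [show π b.1 = 0 from b.2]
    | add a b ha hb => simp [map_add, ha, hb]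
  have nat : ∀ (φ : G i →ₗ[R] G l) (w : G i ⊗[R] (M →₀ R)),
      φ.rTensor M (π.lTensor (G i) w) = π.lTensor (G l) (φ.rTensor _ w) := fun φ w => by
    simp only [← LinearMap.comp_apply, LinearMap.lTensor_comp_rTensor, LinearMap.rTensor_comp_lTensor]
  rw [nat, AlgHom.comp_toLinearMap, LinearMap.rTensor_comp_apply, hd', key]

end Tensor

section BaseChange

variable (B : Type u) [CommRing B] [Algebra R B]

/-- Base change of the maps to the colimit. -/
noncomputable def baseChangeMap (g : ∀ i, G i →ₐ[R] A) (i : ι) : B ⊗[R] G i →ₐ[B] B ⊗[R] A :=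
  Algebra.TensorProduct.map (AlgHom.id B B) (g i)

theorem baseChangeMap_eq_comm {N N' : Type u} [CommRing N] [CommRing N'] [Algebra R N] [Algebra R N']
    (h : N →ₐ[R] N') (y : B ⊗[R] N) :
    TensorProduct.comm R B N' (Algebra.TensorProduct.map (AlgHom.id B B) h y)
      = h.toLinearMap.rTensor B (TensorProduct.comm R B N y) := by
  induction y using TensorProduct.induction_on with
  | zero => simp
  | tmul b n => simp
  | add a b ha hb => simp [map_add, ha, hb]

/-- Base change of a colimit is a colimit. -/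
theorem ColimSys.baseChange (hs : ColimSys g) : ColimSys (baseChangeMap B g) := by
  have hom : ∀ {i j}, CompatHom g i j → CompatHom (baseChangeMap B g) i j := fun {i j} h =>
    ⟨Algebra.TensorProduct.map (AlgHom.id B B) h.1, by
      apply AlgHom.ext
      intro x
      simp only [baseChangeMap, AlgHom.comp_apply]
      induction x using TensorProduct.induction_on with
      | zero => simp
      | tmul b n => simp [h.apply]
      | add a b ha hb => simp [map_add, ha, hb]⟩
  refine ⟨hs.nonempty, fun i j => ?_, fun z => ?_, fun i y hy => ?_⟩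
  · obtain ⟨k, ⟨hi⟩, ⟨hj⟩⟩ := hs.dir i j
    exact ⟨k, ⟨hom hi⟩, ⟨hom hj⟩⟩
  · obtain ⟨i, y, hy⟩ := hs.rTensor_surj B (TensorProduct.comm R B A z)
    refine ⟨i, (TensorProduct.comm R B (G i)).symm y, (TensorProduct.comm R B A).injective ?_⟩
    rw [baseChangeMap, baseChangeMap_eq_comm, LinearEquiv.apply_symm_apply, hy]
  · obtain ⟨j, h, hh⟩ := hs.rTensor_kill B (TensorProduct.comm R B (G i) y) (by
      rw [← baseChangeMap_eq_comm]
      show TensorProduct.comm R B A (baseChangeMap B g i y) = 0
      rw [hy, map_zero])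
    refine ⟨j, ⟨Algebra.TensorProduct.map (AlgHom.id B B) h.1, ?_⟩, (TensorProduct.comm R B (G j)).injective ?_⟩
    · apply AlgHom.ext
      intro x
      simp only [baseChangeMap, AlgHom.comp_apply]
      induction x using TensorProduct.induction_on with
      | zero => simp
      | tmul b n => simp [h.apply]
      | add a b ha hb => simp [map_add, ha, hb]
    · rw [baseChangeMap_eq_comm, hh, map_zero]

end BaseChange

section Poly

variable {σ : Type*}

theorem ColimSys.poly_lift (hs : ColimSys g) {κ : Type*} [Finite κ] (p : κ → MvPolynomial σ A) :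
    ∃ i, ∃ q : κ → MvPolynomial σ (G i), ∀ k, MvPolynomial.map (g i : G i →+* A) (q k) = p k := by
  classical
  obtain ⟨i, x, hx⟩ := hs.lift_finite (fun t : (Σ k : κ, ((p k).support : Finset _)) => (p t.1).coeff t.2)
  refine ⟨i, fun k => ∑ m : (p k).support, MvPolynomial.monomial m.1 (x ⟨k, m⟩), fun k => ?_⟩
  rw [map_sum]
  simp only [MvPolynomial.map_monomial, RingHom.coe_coe, hx]
  rw [Finset.sum_coe_sort (p k).support (fun m => MvPolynomial.monomial m ((p k).coeff m))]
  exact (p k).as_sum.symm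

theorem ColimSys.poly_kill (hs : ColimSys g) {i : ι} {κ : Type*} [Finite κ]
    (p : κ → MvPolynomial σ (G i)) (hp : ∀ k, MvPolynomial.map (g i : G i →+* A) (p k) = 0) :
    ∃ j, ∃ h : CompatHom g i j, ∀ k, MvPolynomial.map (h.1 : G i →+* G j) (p k) = 0 := by
  classical
  obtain ⟨j, h, hh⟩ := hs.kill_finite (fun t : (Σ k : κ, ((p k).support : Finset _)) => (p t.1).coeff t.2) (fun t => by
    have := congrArg (MvPolynomial.coeff t.2.1) (hp t.1)
    simpa [MvPolynomial.coeff_map] using this)
  refine ⟨j, h, fun k => MvPolynomial.ext _ _ fun m => ?_⟩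
  rw [MvPolynomial.coeff_map, MvPolynomial.coeff_zero]
  by_cases hm : m ∈ (p k).support
  · exact hh ⟨k, ⟨m, hm⟩⟩
  · rw [MvPolynomial.notMem_support_iff.mp hm, map_zero]

end Poly

end Groth.Agent.CAlgH
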