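import Groth.Agent.AdicRing.ComplHom
import Groth.Agent.CAlgMisc2.FlatNil
import Groth.Agent.FlatMorDeform.Algebra
import Mathlib

/-!
# Flatness of completions of modules which are flat modulo an ideal with vanishing Tor
-/

set_option autoImplicit false
universe u

open TensorProduct

namespace Groth.Agent.CAlgH.CompletionFlat

variable {S : Type u} [CommRing S] {N : Type u} [AddCommGroup N] [Module S N] (J : Ideal S)

/-- equational flatness of `N / J^n N` over `S / J^n` -/
def HasFactor (N : Type u) [AddCommGroup N] [Module S N] (n : ℕ) : Prop :=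
  ∀ (m k : ℕ) (Φ : Fin m → Fin k → S) (z : Fin k → N),
    (∀ i, (∑ j, Φ i j • z j) ∈ (J ^ n • ⊤ : Submodule S N)) →
    ∃ (l : ℕ) (q : Fin l → Fin k → S) (w : Fin l → N),
      (∀ t i, (∑ j, Φ i j * q t j) ∈ J ^ n) ∧ ∀ j, z j - ∑ t, q t j • w t ∈ (J ^ n • ⊤ : Submodule S N)

theorem exists_factor_exact [IsNoetherianRing S] (h : ∀ n, HasFactor J N n) {m k : ℕ} (Φ : Fin m → Fin k → S) :
    ∃ c, ∀ n, ∀ z : Fin k → N, (∀ i, (∑ j, Φ i j • z j) ∈ (J ^ (n + c) • ⊤ : Submodule S N)) →
      ∃ (l : ℕ) (q : Fin l → Fin k → S) (w : Fin l → N),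
        (∀ t i, (∑ j, Φ i j * q t j) = 0) ∧ ∀ j, z j - ∑ t, q t j • w t ∈ (J ^ n • ⊤ : Submodule S N) := by
  let φ : (Fin k → S) →ₗ[S] (Fin m → S) := LinearMap.pi fun i => ∑ j, Φ i j • LinearMap.proj j
  have hφ : ∀ v i, φ v i = ∑ j, Φ i j * v j := fun v i => by simp [φ]
  obtain ⟨c, hc⟩ := Ideal.exists_pow_inf_eq_pow_smul J (LinearMap.range φ)
  refine ⟨c, fun n z hz => ?_⟩
  obtain ⟨l, q, w, hq, hw⟩ := h (n + c) m k Φ z hz
  have hcor : ∀ t, ∃ r : Fin k → S, (∀ j, r j ∈ J ^ n) ∧ φ r = φ (q t) := by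
    intro t
    have h1 : φ (q t) ∈ J ^ (n + c) • (⊤ : Submodule S (Fin m → S)) ⊓ LinearMap.range φ := by
      refine ⟨?_, ⟨q t, rfl⟩⟩
      rw [pi_eq_sum_univ (φ (q t))]
      refine Submodule.sum_mem _ fun i _ => Submodule.smul_mem_smul ?_ trivial
      rw [hφ]
      exact hq t i
    rw [hc (n + c) (Nat.le_add_left c n), Nat.add_sub_cancel] at h1
    have h2 : φ (q t) ∈ J ^ n • Submodule.map φ ⊤ := by
      rw [Submodule.map_top]
      exact Submodule.smul_mono le_rfl inf_le_right h1
    rw [← Submodule.map_smul''] at h2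
    obtain ⟨r, hr, hr'⟩ := h2
    refine ⟨r, fun j => ?_, hr'⟩
    exact Submodule.smul_induction_on (p := fun x : Fin k → S => x j ∈ J ^ n) hr
      (fun a ha x _ => Ideal.mul_mem_right _ _ ha) (fun x y hx hy => add_mem hx hy)
  choose r hr hr' using hcor
  refine ⟨l, fun t j => q t j - r t j, w, fun t i => ?_, fun j => ?_⟩
  · have := congrFun (sub_eq_zero.2 (hr' t).symm) i
    rw [Pi.sub_apply, Pi.zero_apply, hφ, hφ] at this
    simpa [mul_sub, Finset.sum_sub_distrib] using this
  · rw [show z j - ∑ t, (q t j - r t j) • w t = (z j - ∑ t, q t j • w t) + ∑ t, r t j • w t by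
      simp [sub_smul, Finset.sum_sub_distrib]; abel]
    exact add_mem (Submodule.smul_mono_left (Ideal.pow_le_pow_right (Nat.le_add_right n c)) (hw j))
      (Submodule.sum_mem _ fun t _ => Submodule.smul_mem_smul (hr t j) trivial)

theorem sum_smul_sum {k l : ℕ} (a : Fin k → S) (q : Fin l → Fin k → S) (w : Fin l → N) :
    ∑ j, a j • ∑ t, q t j • w t = ∑ t, (∑ j, a j * q t j) • w t := by
  simp only [Finset.smul_sum, Finset.sum_smul, smul_smul]
  exact Finset.sum_comm

theorem exists_eq_of_forall_mod [IsNoetherianRing S] [IsAdicComplete J N] (h : ∀ n, HasFactor J N n) {k l : ℕ}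
    (Ψ : Fin k → Fin l → S) (y : Fin k → N)
    (hy : ∀ n, ∃ z : Fin l → N, ∀ j, y j - ∑ t, Ψ j t • z t ∈ (J ^ n • ⊤ : Submodule S N)) :
    ∃ z : Fin l → N, ∀ j, y j = ∑ t, Ψ j t • z t := by
  obtain ⟨c, hc⟩ := exists_factor_exact J h Ψ
  choose z hz using fun n => hy (n + c)
  have hstep : ∀ n, ∃ e : Fin l → N, (∀ t, e t ∈ (J ^ n • ⊤ : Submodule S N)) ∧
      ∀ j, ∑ t, Ψ j t • (z (n + 1) t - z n t) = ∑ t, Ψ j t • e t := by
    intro n
    obtain ⟨p, q, w, hq, hw⟩ := hc n (fun t => z (n + 1) t - z n t) fun j => by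
      have h1 := Submodule.smul_mono_left (Ideal.pow_le_pow_right (show n + c ≤ n + 1 + c by omega)) (hz (n + 1) j)
      have := sub_mem (hz n j) h1
      simpa [smul_sub, Finset.sum_sub_distrib] using this
    refine ⟨fun t => z (n + 1) t - z n t - ∑ s, q s t • w s, hw, fun j => ?_⟩
    simp only [smul_sub (Ψ j _), Finset.sum_sub_distrib]
    rw [sum_smul_sum (fun t => Ψ j t) q w]
    simp [hq]
  choose e he he' using hstep
  let Z : ℕ → Fin l → N := fun n => Nat.rec (z 0) (fun n x t => x t + e n t) n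
  have hZ : ∀ n j, ∑ t, Ψ j t • Z n t = ∑ t, Ψ j t • z n t := by
    intro n j
    induction n with
    | zero => rfl
    | succ n ih =>
      show ∑ t, Ψ j t • (Z n t + e n t) = _
      rw [Finset.sum_congr rfl fun t _ => smul_add _ _ _, Finset.sum_add_distrib, ih, ← he' n j, ← Finset.sum_add_distrib]
      simp [smul_sub]
  have hcau : ∀ t {a b : ℕ}, a ≤ b → Z a t ≡ Z b t [SMOD (J ^ a • ⊤ : Submodule S N)] := by
    intro t a b hab
    induction b, hab using Nat.le_induction with
    | base => rfl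
    | succ b hab ih =>
      refine ih.trans (SModEq.sub_mem.2 ?_)
      show Z b t - (Z b t + e b t) ∈ _
      simpa using Submodule.smul_mono_left (Ideal.pow_le_pow_right hab) (he b t)
  choose L hL using fun t => IsPrecomplete.prec (I := J) (M := N) inferInstance (f := fun n => Z n t) (hcau t)
  refine ⟨L, fun j => sub_eq_zero.1 (IsHausdorff.haus (I := J) (M := N) inferInstance _ fun n => SModEq.zero.2 ?_)⟩
  rw [show y j - ∑ t, Ψ j t • L t = (y j - ∑ t, Ψ j t • z n t) + ∑ t, Ψ j t • (Z n t - L t) by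
    simp [smul_sub, Finset.sum_sub_distrib, hZ]]
  exact add_mem (Submodule.smul_mono_left (Ideal.pow_le_pow_right (Nat.le_add_right n c)) (hz n j))
    (Submodule.sum_mem _ fun t _ => Submodule.smul_mem _ _ (SModEq.sub_mem.1 (hL t n)))

theorem flat_of_hasFactor [IsNoetherianRing S] [IsAdicComplete J N] (h : ∀ n, HasFactor J N n) : Module.Flat S N := by
  rw [Module.Flat.iff_forall_isTrivialRelation]
  intro k f x hfx
  obtain ⟨l, g, hg⟩ := Submodule.fg_iff_exists_fin_generating_family.1
    (IsNoetherian.noetherian (LinearMap.ker (∑ i, f i • (LinearMap.proj i : (Fin k → S) →ₗ[S] S))))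
  have hgker : ∀ t, ∑ i, f i * g t i = 0 := fun t => by
    have : g t ∈ LinearMap.ker (∑ i, f i • (LinearMap.proj i : (Fin k → S) →ₗ[S] S)) := hg ▸ Submodule.subset_span ⟨t, rfl⟩
    simpa [LinearMap.mem_ker] using this
  obtain ⟨c, hc⟩ := exists_factor_exact J h (m := 1) (fun _ => f)
  obtain ⟨y, hy⟩ := exists_eq_of_forall_mod J h (fun i t => g t i) x fun n => by
    obtain ⟨p, q, w, hq, hw⟩ := hc n x fun _ => by rw [hfx]; exact zero_mem _
    have hmem : ∀ s, ∃ a : Fin l → S, ∑ t, a t • g t = q s := fun s => (Submodule.mem_span_range_iff_exists_fun S).1 (by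
      rw [hg, LinearMap.mem_ker]
      simpa using hq s 0)
    choose a ha using hmem
    refine ⟨fun t => ∑ s, a s t • w s, fun i => ?_⟩
    rw [sum_smul_sum (fun t => g t i) a w]
    rw [show ∑ s, (∑ t, g t i * a s t) • w s = ∑ s, q s i • w s from Finset.sum_congr rfl fun s _ => by
      rw [← ha s]; simp [mul_comm]]
    exact hw i
  exact ⟨l, fun i t => g t i, y, hy, fun t => by simpa [mul_comm] using hgker t⟩

section completion

variable {R : Type u} [CommRing R] (I : Ideal R) (M : Type u) [AddCommGroup M] [Module R M]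

theorem exists_smul_val (n : ℕ) (s : AdicCompletion I R) :
    ∃ r : R, AdicCompletion.evalₐ I n s = Ideal.Quotient.mk (I ^ n) r ∧
      ∀ x : AdicCompletion I M, (s • x).val n = r • x.val n := by
  obtain ⟨r, hr⟩ := Submodule.Quotient.mk_surjective _ (s.val n)
  refine ⟨r, ?_, fun x => ?_⟩
  · have hle : (I ^ n • ⊤ : Ideal R) ≤ I ^ n := by simp
    rw [← AdicCompletion.factor_eval_eq_evalₐ I s hle]
    show Ideal.Quotient.factor hle (s.val n) = _
    rw [← hr]
    rfl
  · rw [AdicCompletion.smul_eval, ← hr]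
    rfl

theorem hasFactor_completion (hI : I.FG) (n : ℕ) [Module.Flat (R ⧸ I ^ n) ((R ⧸ I ^ n) ⊗[R] M)] :
    HasFactor (I.map (algebraMap R (AdicCompletion I R))) (AdicCompletion I M) n := by
  classical
  let π : AdicCompletion I M →ₗ[R] (R ⧸ I ^ n) ⊗[R] M :=
    (TensorProduct.quotTensorEquivQuotSMul M (I ^ n)).symm.toLinearMap ∘ₗ AdicCompletion.eval I M n
  have hsmul : ∀ (s : AdicCompletion I R) (x : AdicCompletion I M), π (s • x) = AdicCompletion.evalₐ I n s • π x := by
    intro s x
    obtain ⟨r, hr, hr'⟩ := exists_smul_val I M n s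
    rw [hr, ← Ideal.Quotient.algebraMap_eq, algebraMap_smul, ← map_smul π r x]
    refine congrArg (TensorProduct.quotTensorEquivQuotSMul M (I ^ n)).symm ((hr' x).trans ?_)
    rfl
  have hker : ∀ x, π x = 0 → x ∈ ((I.map (algebraMap R (AdicCompletion I R))) ^ n • ⊤ : Submodule (AdicCompletion I R) (AdicCompletion I M)) := by
    intro x hx
    have hx' : x ∈ (I ^ n • ⊤ : Submodule R (AdicCompletion I M)) := by
      rw [AdicCompletion.pow_smul_top_eq_ker_eval hI, LinearMap.mem_ker]
      exact (TensorProduct.quotTensorEquivQuotSMul M (I ^ n)).symm.injective (hx.trans (map_zero _).symm)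
    refine Submodule.smul_induction_on hx' (fun a ha z _ => ?_) (fun a b ha hb => add_mem ha hb)
    rw [← algebraMap_smul (AdicCompletion I R) a z, ← Ideal.map_pow]
    exact Submodule.smul_mem_smul (Ideal.mem_map_of_mem _ ha) trivial
  have hker0 : ∀ s : AdicCompletion I R, AdicCompletion.evalₐ I n s = 0 ↔ s ∈ (I.map (algebraMap R (AdicCompletion I R))) ^ n := by
    intro s
    rw [← Ideal.map_pow, ← Submodule.restrictScalars_mem R, ← Ideal.smul_top_eq_map,
      AdicCompletion.pow_smul_top_eq_ker_eval hI, LinearMap.mem_ker]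
    have h : (I ^ n • ⊤ : Ideal R) = I ^ n := by simp
    exact map_eq_zero_iff (Ideal.quotientEquivAlgOfEq R h) (AlgEquiv.injective _)
  have hker' : ∀ x ∈ ((I.map (algebraMap R (AdicCompletion I R))) ^ n • ⊤ : Submodule (AdicCompletion I R) (AdicCompletion I M)), π x = 0 := by
    intro x hx
    exact Submodule.smul_induction_on hx (fun a ha z _ => by rw [hsmul, (hker0 a).2 ha, zero_smul])
      (fun a b ha hb => by rw [map_add, ha, hb, add_zero])
  intro m k Φ z hz
  let x : (Fin k → R ⧸ I ^ n) →ₗ[R ⧸ I ^ n] (R ⧸ I ^ n) ⊗[R] M :=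
    ∑ j, (LinearMap.proj j : (Fin k → R ⧸ I ^ n) →ₗ[R ⧸ I ^ n] R ⧸ I ^ n).smulRight (π (z j))
  let f : (Fin m → R ⧸ I ^ n) →ₗ[R ⧸ I ^ n] (Fin k → R ⧸ I ^ n) :=
    LinearMap.pi fun j => ∑ i, AdicCompletion.evalₐ I n (Φ i j) • LinearMap.proj i
  have hxf : x ∘ₗ f = 0 := by
    refine LinearMap.pi_ext fun i a => ?_
    simp only [x, f, LinearMap.comp_apply, LinearMap.zero_apply, LinearMap.coe_sum, Finset.sum_apply,
      LinearMap.smulRight_apply, LinearMap.proj_apply, LinearMap.pi_apply, LinearMap.smul_apply, smul_eq_mul]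
    have : ∀ j, (∑ c, AdicCompletion.evalₐ I n (Φ c j) * (Pi.single i a : Fin m → R ⧸ I ^ n) c) • π (z j) =
        a • π (Φ i j • z j) := fun j => by
      rw [hsmul, Fintype.sum_eq_single i fun c hc => by simp [Pi.single_eq_of_ne hc], Pi.single_eq_same, smul_smul, mul_comm]
    simp only [this, ← Finset.smul_sum, ← map_sum, hker' _ (hz i), smul_zero]
  obtain ⟨l, a, y, hxy, haf⟩ := Module.Flat.exists_factorization_of_comp_eq_zero_of_free hxf
  choose q hq using fun (t : Fin l) (j : Fin k) => AdicCompletion.surjective_evalₐ I n (a (Pi.single j 1) t)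
  have hπs : Function.Surjective π := (TensorProduct.quotTensorEquivQuotSMul M (I ^ n)).symm.surjective.comp
    (AdicCompletion.eval_surjective I M n)
  choose w hw using fun t => hπs (y (Finsupp.single t 1))
  refine ⟨l, q, w, fun t i => (hker0 _).1 ?_, fun j => hker _ ?_⟩
  · have h1 := Finsupp.ext_iff.1 (LinearMap.congr_fun haf (Pi.single i 1)) t
    rw [LinearMap.comp_apply, pi_eq_sum_univ' (f (Pi.single i 1)), map_sum, Finsupp.finsetSum_apply] at h1
    simp only [map_smul, Finsupp.smul_apply, LinearMap.zero_apply, Finsupp.coe_zero, Pi.zero_apply] at h1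
    rw [map_sum, ← h1]
    refine Finset.sum_congr rfl fun j _ => ?_
    rw [map_mul, hq, smul_eq_mul]
    congr 1
    simp [f, Pi.single_apply]
  · have h2 : x (Pi.single j 1) = π (z j) := by simp [x, Pi.single_apply, ite_smul]
    have h1 : π (z j) = y (a (Pi.single j 1)) := h2.symm.trans (LinearMap.congr_fun hxy (Pi.single j 1))
    rw [← Finsupp.univ_sum_single (a (Pi.single j 1)), map_sum] at h1
    rw [map_sub, map_sum, h1, sub_eq_zero]
    refine Finset.sum_congr rfl fun t _ => ?_
    rw [hsmul, hw, hq, ← map_smul y, Finsupp.smul_single, smul_eq_mul, mul_one]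

theorem flat_adicCompletion (hI : I.FG) [IsNoetherianRing (R ⧸ I)] [Module.Flat (R ⧸ I) (M ⧸ (I • ⊤ : Submodule R M))]
    (hT : Function.Injective (TensorProduct.lift ((LinearMap.lsmul R M).comp (Submodule.subtype I)))) :
    Module.Flat (AdicCompletion I R) (AdicCompletion I M) := by
  haveI : Module.Flat (R ⧸ I) ((R ⧸ I) ⊗[R] M) := by
    let e := TensorProduct.quotTensorEquivQuotSMul M I
    exact Module.Flat.of_linearEquiv (e.extendScalarsOfSurjective (S := R ⧸ I) Ideal.Quotient.mk_surjective)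
  have h1 : Function.Injective (I.subtype.rTensor M) := by
    refine Function.Injective.of_comp (f := TensorProduct.lid R M) ?_
    rw [show (TensorProduct.lid R M : R ⊗[R] M → M) ∘ (I.subtype.rTensor M) =
      TensorProduct.lift ((LinearMap.lsmul R M).comp (Submodule.subtype I)) from
        funext fun t => LinearMap.congr_fun (show (TensorProduct.lid R M).toLinearMap ∘ₗ I.subtype.rTensor M =
          TensorProduct.lift ((LinearMap.lsmul R M).comp (Submodule.subtype I)) from TensorProduct.ext' fun a b => by simp) t]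
    exact hT
  haveI := AdicRing.isNoetherianRing_completion (K := I) hI
  haveI : IsAdicComplete (I.map (algebraMap R (AdicCompletion I R))) (AdicCompletion I M) :=
    (IsAdicComplete.map_algebraMap_iff _ _).mpr (AdicCompletion.isAdicComplete hI)
  refine flat_of_hasFactor (I.map (algebraMap R (AdicCompletion I R))) fun n => ?_
  haveI := CAlgMisc2.flat_quotient_of_quotFlat (I ^ n)
    (FlatCrit.quotFlat_pow h1 (FlatMorDeform.quotFlat_of_flat_quotient I) n)
  exact hasFactor_completion I M hI n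

end completion

end Groth.Agent.CAlgH.CompletionFlat
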