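import Groth.Agent.DVRDom.Basic
import Groth.Agent.HenselLib.Local
import Mathlib

/-!
# Constants in the residue fields of a local algebra over a henselian discrete valuation ring
-/

set_option autoImplicit false
set_option linter.style.haveILetI false
universe u

open IsLocalRing

namespace Groth.Agent.CAlgH.ConstantFieldBound

variable (V : Type u) [CommRing V] [IsDomain V] [IsDiscreteValuationRing V] [HenselianLocalRing V]
  [IsAlgClosed (ResidueField V)]

theorem isLocalRing_of_finite (C : Type u) [CommRing C] [IsDomain C] [Algebra V C] [Module.Finite V C] :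
    IsLocalRing C := by
  classical
  obtain ⟨ι, _, F, _, hF, ⟨e⟩⟩ := HenselLib.isPiLocal_of_henselian V C
  haveI : Subsingleton ι := ⟨fun i j => by
    by_contra hij
    haveI := hF i
    haveI := hF j
    have h : e.symm (Pi.single i 1) * e.symm (Pi.single j 1) = 0 := by
      rw [← map_mul, show (Pi.single i 1 : Π k, F k) * Pi.single j 1 = 0 from funext fun k => by
        by_cases hk : k = i
        · subst hk; simp [hij]
        · simp [hk], map_zero]
    rcases mul_eq_zero.1 h with h0 | h0
    all_goals
      rw [map_eq_zero_iff _ e.symm.injective] at h0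
      first
        | exact one_ne_zero (α := F i) (by simpa using congrFun h0 i)
        | exact one_ne_zero (α := F j) (by simpa using congrFun h0 j)⟩
  haveI : Nonempty ι := by
    by_contra hn
    rw [not_nonempty_iff] at hn
    exact one_ne_zero (e.injective (Subsingleton.elim (e 1) (e 0)))
  obtain ⟨i⟩ := ‹Nonempty ι›
  haveI : Unique ι := uniqueOfSubsingleton i
  haveI := hF (default : ι)
  exact (e.trans (RingEquiv.piUnique F)).symm.isLocalRing

/-- A finite extension of the constants is totally ramified, hence its degree is bounded. -/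
theorem mem_pow_finrank [CharZero V] (K' : Type u) [Field K'] [Algebra V K'] [Algebra (FractionRing V) K']
    [IsScalarTower V (FractionRing V) K'] [FiniteDimensional (FractionRing V) K']
    (R : Type u) [CommRing R] [IsDomain R] [IsDiscreteValuationRing R] (σ : V →+* R) [IsLocalHom σ]
    (τ : K' →+* FractionRing R)
    (hτ : τ.comp (algebraMap V K') = (algebraMap R (FractionRing R)).comp σ) (ϖ₀ : V) (hϖ₀ : Irreducible ϖ₀) :
    σ ϖ₀ ∈ maximalIdeal R ^ Module.finrank (FractionRing V) K' := by
  let K := FractionRing V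
  haveI : CharZero K := charZero_of_injective_algebraMap (IsFractionRing.injective V K)
  haveI : Algebra.IsSeparable K K' := inferInstance
  haveI : Module.IsTorsionFree V K' := by
    rw [Module.isTorsionFree_iff_algebraMap_injective, IsScalarTower.algebraMap_eq V K K']
    exact (algebraMap K K').injective.comp (IsFractionRing.injective V K)
  let C := integralClosure V K'
  haveI : Module.Finite V C := IsIntegralClosure.finite V K K' C
  haveI : IsLocalRing C := isLocalRing_of_finite V C
  haveI : IsDedekindDomain C := IsIntegralClosure.isDedekindDomain V K K' C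
  haveI : IsFractionRing C K' := IsIntegralClosure.isFractionRing_of_finite_extension V K K' C
  have hinjC : Function.Injective (algebraMap V C) := fun a b h =>
    (Module.isTorsionFree_iff_algebraMap_injective (R := V) (A := K')).1 inferInstance (congrArg Subtype.val h)
  haveI hlocC : IsLocalHom (algebraMap V C) :=
    RingHom.IsIntegral.isLocalHom (algebraMap_isIntegral_iff.2 inferInstance) hinjC
  have hnf : ¬ IsField C := fun h => by
    have hu : IsUnit (algebraMap V C ϖ₀) := by
      letI := h.toField
      exact isUnit_iff_ne_zero.2 fun h0 => hϖ₀.ne_zero (hinjC (h0.trans (map_zero _).symm))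
    exact hϖ₀.not_isUnit (isUnit_of_map_unit _ _ hu)
  haveI : IsDiscreteValuationRing C := ((IsDiscreteValuationRing.TFAE C hnf).out 0 2).2 ‹IsDedekindDomain C›
  obtain ⟨ϖ, hϖ⟩ := IsDiscreteValuationRing.exists_irreducible C
  have hne : algebraMap V C ϖ₀ ≠ 0 := fun h0 => hϖ₀.ne_zero (hinjC (h0.trans (map_zero _).symm))
  obtain ⟨e, u, hu⟩ := IsDiscreteValuationRing.eq_unit_mul_pow_irreducible hne hϖ
  -- the residue field does not grow
  haveI : Algebra.IsIntegral (ResidueField V) (ResidueField C) := Algebra.IsIntegral.tower_top V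
  have hres : ∀ x : C, ∃ a : V, x - algebraMap V C a ∈ maximalIdeal C := fun x => by
    obtain ⟨r, hr⟩ :=
      (IsAlgClosed.algebraMap_bijective_of_isIntegral (k := ResidueField V) (K := ResidueField C)).2 (residue C x)
    obtain ⟨a, rfl⟩ := residue_surjective r
    exact ⟨a, (residue_eq_zero_iff _).1 (by rw [map_sub, sub_eq_zero]; exact hr.symm)⟩
  -- the powers of a uniformizer generate
  let N : Submodule V C := Submodule.span V (Set.range fun i : Fin e => ϖ ^ (i : ℕ))
  have happ : ∀ j, j ≤ e → ∀ x : C, ∃ y ∈ N, ϖ ^ j ∣ x - y := by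
    intro j
    induction j with
    | zero => exact fun _ x => ⟨0, N.zero_mem, by rw [pow_zero]; exact one_dvd _⟩
    | succ j ih =>
      intro hj x
      obtain ⟨y, hy, z, hz⟩ := ih (Nat.le_of_succ_le hj) x
      obtain ⟨a, ha⟩ := hres z
      rw [hϖ.maximalIdeal_eq, Ideal.mem_span_singleton'] at ha
      obtain ⟨w, hw⟩ := ha
      refine ⟨y + a • ϖ ^ j, add_mem hy (Submodule.smul_mem _ _ (Submodule.subset_span ⟨⟨j, hj⟩, rfl⟩)), w, ?_⟩
      rw [Algebra.smul_def, pow_succ]
      linear_combination hz - (ϖ ^ j) * hw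
  have htop : (⊤ : Submodule V C) ≤ N := by
    refine Submodule.le_of_le_smul_of_le_jacobson_bot Module.Finite.fg_top
      (IsLocalRing.maximalIdeal_le_jacobson ⊥) fun x _ => ?_
    obtain ⟨y, hy, w, hw⟩ := happ e le_rfl x
    have h1 : x - y = ϖ₀ • ((↑u⁻¹ : C) * w) := by
      rw [Algebra.smul_def, hu, hw, show (u : C) * ϖ ^ e * ((↑u⁻¹ : C) * w) = ((u : C) * ↑u⁻¹) * (ϖ ^ e * w) by ring,
        Units.mul_inv, one_mul]
    rw [← add_sub_cancel y x, h1]
    refine add_mem (Submodule.mem_sup_left hy) (Submodule.mem_sup_right (Submodule.smul_mem_smul ?_ trivial))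
    exact (mem_maximalIdeal _).2 hϖ₀.not_isUnit
  have hle : Module.finrank K K' ≤ e := by
    rw [← IsIntegralClosure.rank (A := V) (K := K) (L := K') C]
    refine finrank_le_of_span_eq_top (v := fun i : Fin e => ϖ ^ (i : ℕ)) (le_antisymm le_top htop) |>.trans ?_
    simp
  -- transport
  have hmemR : ∀ c : C, ∃ r : R, algebraMap R (FractionRing R) r = τ c := fun c => by
    obtain ⟨q, hm, h0⟩ := c.2
    refine IsIntegrallyClosed.isIntegral_iff.1 ⟨q.map σ, hm.map _, ?_⟩
    rw [Polynomial.eval₂_map, ← hτ, ← Polynomial.hom_eval₂, h0, map_zero]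
  choose r hr using hmemR
  have hinjR := IsFractionRing.injective R (FractionRing R)
  have hσ : σ ϖ₀ = r (↑u : C) * r ϖ ^ e := hinjR (by
    rw [← RingHom.comp_apply (algebraMap R _), ← hτ, RingHom.comp_apply, map_mul, map_pow, hr, hr, ← map_pow, ← map_mul]
    exact congrArg τ (congrArg Subtype.val hu))
  have hϖR : r ϖ ∈ maximalIdeal R := by
    rw [mem_maximalIdeal, mem_nonunits_iff]
    intro hunit
    have huR : IsUnit (r (↑u : C)) := by
      refine IsUnit.of_mul_eq_one (r (↑u⁻¹ : C)) (hinjR ?_)
      rw [map_mul, hr, hr, ← map_mul, map_one, ← Subalgebra.coe_mul, Units.mul_inv, Subalgebra.coe_one, map_one]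
    exact hϖ₀.not_isUnit (isUnit_of_map_unit σ _ (hσ ▸ huR.mul (hunit.pow e)))
  rw [hσ]
  exact Ideal.mul_mem_left _ _ (Ideal.pow_le_pow_right hle (Ideal.pow_mem_pow hϖR e))

/-- The constants in the fraction field of a Noetherian local domain dominating `V` form a finite
extension. -/
theorem exists_finrank_bound [CharZero V] (D : Type u) [CommRing D] [IsDomain D] [IsNoetherianRing D]
    [IsLocalRing D] (g : V →+* D) [IsLocalHom g] (hg : Function.Injective g) :
    ∃ n : ℕ, ∀ (K' : Type u) [Field K'] [Algebra V K'] [Algebra (FractionRing V) K']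
      [IsScalarTower V (FractionRing V) K'] [FiniteDimensional (FractionRing V) K'] (τ : K' →+* FractionRing D),
      τ.comp (algebraMap V K') = (algebraMap D (FractionRing D)).comp g →
        Module.finrank (FractionRing V) K' < n := by
  obtain ⟨ϖ₀, hϖ₀⟩ := IsDiscreteValuationRing.exists_irreducible V
  have hnf : ¬ IsField D := fun h => by
    letI := h.toField
    have hu : IsUnit (g ϖ₀) := isUnit_iff_ne_zero.2 fun h0 => hϖ₀.ne_zero (hg (h0.trans (map_zero g).symm))
    exact hϖ₀.not_isUnit (isUnit_of_map_unit g _ hu)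
  obtain ⟨R, _, _, _, f, hf, hfl⟩ := DVRDom.exists_dvr D hnf
  haveI := hfl
  let σ := f.comp g
  haveI : IsLocalHom σ := RingHom.isLocalHom_comp _ _
  have hσ0 : σ ϖ₀ ≠ 0 := fun h0 => hϖ₀.ne_zero ((hf.comp hg) (h0.trans (map_zero σ).symm))
  obtain ⟨n, hn⟩ : ∃ n, σ ϖ₀ ∉ maximalIdeal R ^ n := by
    by_contra hc
    push_neg at hc
    exact hσ0 ((Submodule.mem_bot R).1 ((Ideal.iInf_pow_eq_bot_of_isLocalRing (maximalIdeal R)
      (maximalIdeal.isMaximal R).ne_top).le (Submodule.mem_iInf _ |>.2 hc)))
  refine ⟨n, fun K' _ _ _ _ _ τ hτ => ?_⟩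
  let ψ : FractionRing D →+* FractionRing R := IsFractionRing.lift (A := D)
    (g := (algebraMap R (FractionRing R)).comp f) ((IsFractionRing.injective R _).comp hf)
  have h := mem_pow_finrank V K' R σ (ψ.comp τ) (by
    rw [RingHom.comp_assoc, hτ]
    exact RingHom.ext fun v => IsLocalization.lift_eq _ (g v)) ϖ₀ hϖ₀
  by_contra hlt
  exact hn (Ideal.pow_le_pow_right (not_lt.1 hlt) h)

end Groth.Agent.CAlgH.ConstantFieldBound
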