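import Mathlib

/-!
# Primes of a tensor product with an algebraically closed algebraic extension
-/

set_option autoImplicit false
set_option linter.style.haveILetI false
universe u

open TensorProduct Polynomial

namespace Groth.Agent.CAlgH.ConstantTensor

variable (K F L : Type u) [Field K] [CharZero K] [Field F] [Field L] [Algebra K F] [Algebra K L] [IsAlgClosed L]
  [Algebra.IsAlgebraic K L]

omit [Algebra.IsAlgebraic K L] [CharZero K] [IsAlgClosed L] in
theorem irreducible_map {θ : L} (s : algebraicClosure K F →ₐ[K] L)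
    (hint : letI := s.toRingHom.toAlgebra; IsIntegral (algebraicClosure K F) θ) :
    letI := s.toRingHom.toAlgebra
    Irreducible ((minpoly (algebraicClosure K F) θ).map (algebraMap (algebraicClosure K F) F)) := by
  classical
  letI := s.toRingHom.toAlgebra
  let k' := algebraicClosure K F
  let m := minpoly k' θ
  have hm : m.Monic := minpoly.monic hint
  have hdeg : 0 < (m.map (algebraMap k' F)).natDegree := by
    rw [natDegree_map]; exact minpoly.natDegree_pos hint
  obtain ⟨g, hg, hgd⟩ := exists_irreducible_of_natDegree_pos hdeg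
  have hlifts := integralClosure.mem_lifts_of_monic_of_dvd_map F hm (g := normalize g)
    (monic_normalize hg.ne_zero) ((normalize_associated g).dvd.trans hgd)
  have hrange : ∀ x : integralClosure k' F, ∃ a : k', algebraMap k' F a = x := fun x => by
    haveI : Algebra.IsIntegral K k' := Algebra.IsAlgebraic.isIntegral
    exact ⟨⟨x, mem_algebraicClosure_iff'.2 (isIntegral_trans (x : F) x.2)⟩, rfl⟩
  obtain ⟨g1, hg1⟩ := hlifts
  have hg0 : normalize g ∈ lifts (algebraMap k' F) := by
    rw [lifts_iff_coeff_lifts]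
    intro n
    obtain ⟨a, ha⟩ := hrange (g1.coeff n)
    refine ⟨a, ?_⟩
    rw [ha, ← hg1]
    simp
  obtain ⟨g0, hg0⟩ := hg0
  rw [coe_mapRingHom] at hg0
  have hd0 : g0 ∣ m := by
    rw [← map_dvd_map' (algebraMap k' F), hg0]
    exact (normalize_associated g).dvd.trans hgd
  rcases ((minpoly.irreducible hint).dvd_iff.1 hd0) with hu | hassoc
  · have : IsUnit (normalize g) := hg0 ▸ hu.map (mapRingHom (algebraMap k' F))
    exact absurd ((normalize_associated g).isUnit this) hg.not_isUnit
  · have h1 : Associated (m.map (algebraMap k' F)) g := by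
      refine Associated.trans ?_ (normalize_associated g)
      rw [← hg0]
      exact (hassoc.map (mapRingHom (algebraMap k' F)))
    exact h1.symm.irreducible hg

/-- Only finitely many primes when the constants form a finite extension. -/
theorem finite_primeSpectrum [FiniteDimensional K (algebraicClosure K F)] :
    Finite (PrimeSpectrum (F ⊗[K] L)) := by
  classical
  let k' := algebraicClosure K F
  let iF : ∀ P : PrimeSpectrum (F ⊗[K] L), F →ₐ[K] (F ⊗[K] L) ⧸ P.asIdeal := fun P =>
    (Ideal.Quotient.mkₐ K P.asIdeal).comp Algebra.TensorProduct.includeLeft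
  let iL : ∀ P : PrimeSpectrum (F ⊗[K] L), L →ₐ[K] (F ⊗[K] L) ⧸ P.asIdeal := fun P =>
    (Ideal.Quotient.mkₐ K P.asIdeal).comp Algebra.TensorProduct.includeRight
  have hex : ∀ (P : PrimeSpectrum (F ⊗[K] L)) (x : k'), ∃ l : L, iL P l = iF P x := fun P x => by
    haveI : Algebra.IsIntegral K k' := Algebra.IsAlgebraic.isIntegral
    have hx : IsIntegral K x := Algebra.IsIntegral.isIntegral x
    refine (IsAlgClosed.splits ((minpoly K x).map (algebraMap K L))).mem_range_of_isRoot
      (Polynomial.map_ne_zero (minpoly.ne_zero hx)) (i := (iL P).toRingHom) ?_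
    rw [IsRoot.def, eval_map, eval₂_map, show (iL P).toRingHom.comp (algebraMap K L) = algebraMap K _ from (iL P).comp_algebraMap,
      ← aeval_def, show iF P x = ((iF P).comp k'.val) x from rfl, aeval_algHom_apply, minpoly.aeval, map_zero]
  choose σf hσ using hex
  have hinj : ∀ P, Function.Injective (iL P) := fun P => (iL P).toRingHom.injective
  let σ : PrimeSpectrum (F ⊗[K] L) → (k' →ₐ[K] L) := fun P =>
    { toFun := σf P
      map_one' := hinj P (by simp [hσ])
      map_mul' := fun x y => hinj P (by simp [hσ])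
      map_zero' := hinj P (by simp [hσ])
      map_add' := fun x y => hinj P (by simp [hσ])
      commutes' := fun r => hinj P (by rw [hσ, AlgHom.commutes]; exact (iF P).commutes r) }
  suffices key : ∀ P P', σ P = σ P' → ∀ x : F ⊗[K] L, x ∈ P.asIdeal → x ∈ P'.asIdeal by
    exact Finite.of_injective σ fun P P' h =>
      PrimeSpectrum.ext (le_antisymm (key P P' h) (key P' P h.symm))
  intro P P' hPP x hx
  let s := σ P
  letI : Algebra k' L := s.toRingHom.toAlgebra
  haveI : IsScalarTower K k' L := IsScalarTower.of_algebraMap_eq fun r => (s.commutes r).symm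
  haveI : Algebra.IsAlgebraic k' L := Algebra.IsAlgebraic.tower_top (K := K) k'
  haveI : CharZero k' := charZero_of_injective_algebraMap (algebraMap K k').injective
  obtain ⟨S, rfl⟩ := TensorProduct.exists_finset x
  let M : IntermediateField k' L := IntermediateField.adjoin k' ((S.image Prod.snd : Finset L) : Set L)
  haveI : FiniteDimensional k' M :=
    IntermediateField.finiteDimensional_adjoin fun l _ => Algebra.IsIntegral.isIntegral l
  obtain ⟨θ, hθ⟩ := Field.exists_primitive_element k' M
  have hθi : IsIntegral k' (θ : L) := Algebra.IsIntegral.isIntegral _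
  have hpoly : ∀ l ∈ S.image Prod.snd, ∃ p : k'[X], aeval (θ : L) p = l := by
    intro l hl
    have hy : (⟨l, IntermediateField.subset_adjoin k' _ hl⟩ : M) ∈ Algebra.adjoin k' ({θ} : Set M) := by
      rw [← IntermediateField.adjoin_simple_toSubalgebra_of_isAlgebraic (Algebra.IsAlgebraic.isAlgebraic θ), hθ,
        IntermediateField.top_toSubalgebra]
      trivial
    rw [Algebra.adjoin_singleton_eq_range_aeval] at hy
    obtain ⟨p, hp⟩ := hy
    exact ⟨p, (aeval_algHom_apply M.val θ p).trans (congrArg Subtype.val hp)⟩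
  choose! p hp using hpoly
  let q : F[X] := ∑ i ∈ S, C i.1 * (p i.2).map (algebraMap k' F)
  have hval : ∀ Q : PrimeSpectrum (F ⊗[K] L), σ Q = s →
      Ideal.Quotient.mk Q.asIdeal (∑ i ∈ S, i.1 ⊗ₜ[K] i.2) = q.eval₂ (iF Q).toRingHom (iL Q θ) ∧
      ((minpoly k' (θ : L)).map (algebraMap k' F)).eval₂ (iF Q).toRingHom (iL Q θ) = 0 := by
    intro Q hQ
    have hc : (iF Q).toRingHom.comp (algebraMap k' F) = (iL Q).toRingHom.comp (algebraMap k' L) :=
      RingHom.ext fun a => by
        show iF Q (a : F) = iL Q (s a)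
        rw [← hQ]
        exact (hσ Q a).symm
    have hev : ∀ r : k'[X], (r.map (algebraMap k' F)).eval₂ (iF Q).toRingHom (iL Q θ) = iL Q (aeval (θ : L) r) := by
      intro r
      rw [eval₂_map, hc, aeval_def]
      exact (hom_eval₂ r (algebraMap k' L) (iL Q).toRingHom (θ : L)).symm
    refine ⟨?_, by rw [hev, minpoly.aeval, map_zero]⟩
    rw [map_sum, eval₂_finsetSum]
    refine Finset.sum_congr rfl fun i hi => ?_
    rw [eval₂_mul, eval₂_C, hev, hp i.2 (Finset.mem_image_of_mem _ hi)]
    show _ = iF Q i.1 * iL Q i.2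
    simp only [iF, iL, AlgHom.comp_apply, Ideal.Quotient.mkₐ_eq_mk, ← map_mul,
      Algebra.TensorProduct.includeLeft_apply, Algebra.TensorProduct.includeRight_apply,
      Algebra.TensorProduct.tmul_mul_tmul, one_mul, mul_one]
  obtain ⟨hP1, hP2⟩ := hval P rfl
  obtain ⟨hP'1, hP'2⟩ := hval P' hPP.symm
  have hdvd : (minpoly k' (θ : L)).map (algebraMap k' F) ∣ q := by
    refine by_contra fun hnd => ?_
    have hcop := (irreducible_map K F L s hθi).coprime_iff_not_dvd.2 hnd
    obtain ⟨a, b, hab⟩ := hcop
    have h1 := congrArg (eval₂ (iF P).toRingHom (iL P θ)) hab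
    rw [eval₂_add, eval₂_mul, eval₂_mul, hP2, ← hP1, Ideal.Quotient.eq_zero_iff_mem.2 hx, mul_zero, mul_zero,
      add_zero, eval₂_one] at h1
    exact zero_ne_one h1
  obtain ⟨c, hc⟩ := hdvd
  rw [← Ideal.Quotient.eq_zero_iff_mem, hP'1, hc, eval₂_mul, hP'2, zero_mul]

end Groth.Agent.CAlgH.ConstantTensor
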