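import Groth.Agent.S9161
import Mathlib.RingTheory.Extension.Cotangent.Basic
import Mathlib.RingTheory.Extension.Generators

/-! Homotopy equivalence of naive cotangent complexes of two presentations. -/
universe u
open TensorProduct Algebra

namespace Groth.Agent.CAlgH

section
variable {R S T : Type u} [CommRing R] [CommRing S] [CommRing T] [Algebra R S] [Algebra R T] [Algebra S T]
  [IsScalarTower R S T]

theorem homotopy_prod_equiv {A₁ A₀ B₁ B₀ : Type u} [AddCommGroup A₁] [Module R A₁] [AddCommGroup A₀] [Module R A₀]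
    [AddCommGroup B₁] [Module R B₁] [AddCommGroup B₀] [Module R B₀]
    (dA : A₁ →ₗ[R] A₀) (dB : B₁ →ₗ[R] B₀) (φ₁ : A₁ →ₗ[R] B₁) (φ₀ : A₀ →ₗ[R] B₀)
    (ψ₁ : B₁ →ₗ[R] A₁) (ψ₀ : B₀ →ₗ[R] A₀) (hφ : dB ∘ₗ φ₁ = φ₀ ∘ₗ dA) (hψ : dA ∘ₗ ψ₁ = ψ₀ ∘ₗ dB)
    (h : A₀ →ₗ[R] A₁) (hh₁ : LinearMap.id - ψ₁ ∘ₗ φ₁ = h ∘ₗ dA) (hh₀ : LinearMap.id - ψ₀ ∘ₗ φ₀ = dA ∘ₗ h)
    (h' : B₀ →ₗ[R] B₁) (hh'₁ : LinearMap.id - φ₁ ∘ₗ ψ₁ = h' ∘ₗ dB)
    (hh'₀ : LinearMap.id - φ₀ ∘ₗ ψ₀ = dB ∘ₗ h') :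
    Nonempty ((A₁ × B₀) ≃ₗ[R] (B₁ × A₀)) :=
  Groth.Agent.S9161.result R A₁ A₀ B₁ B₀ dA dB φ₁ φ₀ ψ₁ ψ₀ hφ hψ h hh₁ hh₀ h' hh'₁ hh'₀

theorem retract_prod_equiv {A₁ A₀ D₁ D₀ B₁ B₀ : Type u} [AddCommGroup A₁] [Module R A₁] [AddCommGroup A₀] [Module R A₀]
    [AddCommGroup B₁] [Module R B₁] [AddCommGroup B₀] [Module R B₀]
    [AddCommGroup D₁] [Module R D₁] [AddCommGroup D₀] [Module R D₀]
    (dA : A₁ →ₗ[R] A₀) (dD : D₁ →ₗ[R] D₀) (dB : B₁ →ₗ[R] B₀) (φ₁ : D₁ →ₗ[R] B₁) (φ₀ : D₀ →ₗ[R] B₀)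
    (ψ₁ : B₁ →ₗ[R] D₁) (ψ₀ : B₀ →ₗ[R] D₀) (hφ : dB ∘ₗ φ₁ = φ₀ ∘ₗ dD) (hψ : dD ∘ₗ ψ₁ = ψ₀ ∘ₗ dB)
    (h : D₀ →ₗ[R] D₁) (hh₁ : LinearMap.id - ψ₁ ∘ₗ φ₁ = h ∘ₗ dD) (hh₀ : LinearMap.id - ψ₀ ∘ₗ φ₀ = dD ∘ₗ h)
    (h' : B₀ →ₗ[R] B₁) (hh'₁ : LinearMap.id - φ₁ ∘ₗ ψ₁ = h' ∘ₗ dB)
    (hh'₀ : LinearMap.id - φ₀ ∘ₗ ψ₀ = dB ∘ₗ h')
    (i₁ : A₁ →ₗ[R] D₁) (i₀ : A₀ →ₗ[R] D₀) (p₁ : D₁ →ₗ[R] A₁) (p₀ : D₀ →ₗ[R] A₀) (k : D₀ →ₗ[R] D₁)
    (hi : ∀ a, dD (i₁ a) = i₀ (dA a)) (hp : ∀ y, dA (p₁ y) = p₀ (dD y))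
    (hpi₁ : ∀ a, p₁ (i₁ a) = a) (hpi₀ : ∀ a, p₀ (i₀ a) = a)
    (hk₁ : ∀ y, y - i₁ (p₁ y) = k (dD y)) (hk₀ : ∀ z, z - i₀ (p₀ z) = dD (k z)) :
    Nonempty ((A₁ × B₀) ≃ₗ[R] (B₁ × A₀)) := by
  have e1 := fun y => LinearMap.congr_fun hφ y
  have e2 := fun y => LinearMap.congr_fun hψ y
  have e3 := fun y => LinearMap.congr_fun hh₁ y
  have e4 := fun y => LinearMap.congr_fun hh₀ y
  have e5 := fun y => LinearMap.congr_fun hh'₁ y
  have e6 := fun y => LinearMap.congr_fun hh'₀ y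
  simp only [LinearMap.comp_apply, LinearMap.sub_apply, LinearMap.id_apply] at e1 e2 e3 e4 e5 e6
  refine homotopy_prod_equiv dA dB (φ₁ ∘ₗ i₁) (φ₀ ∘ₗ i₀) (p₁ ∘ₗ ψ₁) (p₀ ∘ₗ ψ₀) ?_ ?_ (p₁ ∘ₗ h ∘ₗ i₀) ?_ ?_
    (h' + φ₁ ∘ₗ k ∘ₗ ψ₀) ?_ ?_ <;> ext y <;>
    simp only [LinearMap.comp_apply, LinearMap.sub_apply, LinearMap.id_apply, LinearMap.add_apply]
  · rw [e1, hi]
  · rw [hp, e2]
  · rw [← hi, ← e3, map_sub, hpi₁]
  · rw [hp, ← e4, map_sub, hpi₀]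
  · rw [← e5, ← e2, ← hk₁, map_sub]; abel
  · rw [map_add, e1, ← hk₀, ← e6, map_sub]; abel

theorem homotopy_data {σ τ : Type} (P : Generators R S σ) (P' : Generators R S τ) :
    ∃ (φ₁ : P.toExtension.Cotangent →ₗ[S] P'.toExtension.Cotangent)
      (φ₀ : P.toExtension.CotangentSpace →ₗ[S] P'.toExtension.CotangentSpace)
      (ψ₁ : P'.toExtension.Cotangent →ₗ[S] P.toExtension.Cotangent)
      (ψ₀ : P'.toExtension.CotangentSpace →ₗ[S] P.toExtension.CotangentSpace)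
      (h : P.toExtension.CotangentSpace →ₗ[S] P.toExtension.Cotangent)
      (h' : P'.toExtension.CotangentSpace →ₗ[S] P'.toExtension.Cotangent),
      P'.toExtension.cotangentComplex ∘ₗ φ₁ = φ₀ ∘ₗ P.toExtension.cotangentComplex ∧
      P.toExtension.cotangentComplex ∘ₗ ψ₁ = ψ₀ ∘ₗ P'.toExtension.cotangentComplex ∧
      LinearMap.id - ψ₁ ∘ₗ φ₁ = h ∘ₗ P.toExtension.cotangentComplex ∧
      LinearMap.id - ψ₀ ∘ₗ φ₀ = P.toExtension.cotangentComplex ∘ₗ h ∧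
      LinearMap.id - φ₁ ∘ₗ ψ₁ = h' ∘ₗ P'.toExtension.cotangentComplex ∧
      LinearMap.id - φ₀ ∘ₗ ψ₀ = P'.toExtension.cotangentComplex ∘ₗ h' := by
  let f := (Generators.defaultHom P P').toExtensionHom
  let g := (Generators.defaultHom P' P).toExtensionHom
  refine ⟨Extension.Cotangent.map f, Extension.CotangentSpace.map f, Extension.Cotangent.map g,
    Extension.CotangentSpace.map g, Extension.Hom.sub (Extension.Hom.id _) (g.comp f),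
    Extension.Hom.sub (Extension.Hom.id _) (f.comp g), ?_, ?_, ?_, ?_, ?_, ?_⟩
  · ext x; exact (Extension.CotangentSpace.map_cotangentComplex f x).symm
  · ext x; exact (Extension.CotangentSpace.map_cotangentComplex g x).symm
  · rw [← Extension.Cotangent.map_sub_map, Extension.Cotangent.map_id, Extension.Cotangent.map_comp]; rfl
  · have := Extension.CotangentSpace.map_sub_map (Extension.Hom.id P.toExtension) (g.comp f)
    rw [Extension.CotangentSpace.map_id, Extension.CotangentSpace.map_comp] at this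
    exact this
  · rw [← Extension.Cotangent.map_sub_map, Extension.Cotangent.map_id, Extension.Cotangent.map_comp]; rfl
  · have := Extension.CotangentSpace.map_sub_map (Extension.Hom.id P'.toExtension) (f.comp g)
    rw [Extension.CotangentSpace.map_id, Extension.CotangentSpace.map_comp] at this
    exact this

theorem cotangent_ofSurjective_equiv {n : ℕ} (α : MvPolynomial (Fin n) R →ₐ[R] S) (hα : Function.Surjective α) :
    ∃ P : Generators R S (Fin n),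
      Nonempty ((Algebra.Extension.ofSurjective α hα).Cotangent ≃ₗ[S] P.toExtension.Cotangent) := by
  have hval : MvPolynomial.aeval (R := R) (fun i => α (MvPolynomial.X i)) = α :=
    MvPolynomial.algHom_ext fun i => by simp
  let P : Generators R S (Fin n) := Generators.ofSurjective (fun i => α (MvPolynomial.X i)) (by rw [hval]; exact hα)
  refine ⟨P, ?_⟩
  let f : Extension.Hom (Extension.ofSurjective α hα) P.toExtension :=
    ⟨RingHom.id _, fun x => rfl, fun x => by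
      show MvPolynomial.aeval (fun i => α (MvPolynomial.X i)) x = α x
      rw [hval]⟩
  let g : Extension.Hom P.toExtension (Extension.ofSurjective α hα) :=
    ⟨RingHom.id _, fun x => rfl, fun x => by
      show α x = MvPolynomial.aeval (fun i => α (MvPolynomial.X i)) x
      rw [hval]⟩
  refine ⟨LinearEquiv.ofLinear (Extension.Cotangent.map f) (Extension.Cotangent.map g) ?_ ?_⟩
  · have : f.comp g = Extension.Hom.id _ := rfl
    have h2 := Extension.Cotangent.map_comp (f := g) (g := f)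
    rw [this, Extension.Cotangent.map_id] at h2
    exact h2.symm
  · have : g.comp f = Extension.Hom.id _ := rfl
    have h2 := Extension.Cotangent.map_comp (f := f) (g := g)
    rw [this, Extension.Cotangent.map_id] at h2
    exact h2.symm
end


end Groth.Agent.CAlgH
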