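import Groth.Agent.CAlgH.DecompositionCompletion
import Mathlib

/-!
# The decomposition group on the completion at a prime of a Galois extension of normal domains
-/

set_option autoImplicit false
universe u

open IsLocalRing Pointwise

namespace Groth.Agent.CAlgH.DecompositionApply

variable (R S G : Type u) [CommRing R] [CommRing S] [IsDomain R] [IsDomain S] [Algebra R S] [FaithfulSMul R S]
  [Group G] [MulSemiringAction G S] [SMulCommClass G R S] (P : Ideal R) [P.IsPrime]

abbrev BLoc : Type u := Localization (Algebra.algebraMapSubmonoid S P.primeCompl)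

noncomputable def sigma (g : G) : BLoc R S P →+* BLoc R S P :=
  IsLocalization.map (M := Algebra.algebraMapSubmonoid S P.primeCompl) (T := Algebra.algebraMapSubmonoid S P.primeCompl)
    _ (MulSemiringAction.toRingHom G S g) (by
      rintro _ ⟨r, hr, rfl⟩
      exact ⟨r, hr, (smul_algebraMap g r).symm⟩)

theorem sigma_algebraMap (g : G) (s : S) :
    sigma R S G P g (algebraMap S (BLoc R S P) s) = algebraMap S (BLoc R S P) (g • s) :=
  IsLocalization.map_eq _ s

/-- The action on the localization. -/
@[implicit_reducible]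
noncomputable def action : MulSemiringAction G (BLoc R S P) where
  smul g b := sigma R S G P g b
  one_smul b := RingHom.congr_fun (IsLocalization.ringHom_ext (Algebra.algebraMapSubmonoid S P.primeCompl)
    (j := sigma R S G P 1) (k := RingHom.id _) (RingHom.ext fun s => by simp [sigma_algebraMap])) b
  mul_smul g h b := RingHom.congr_fun (IsLocalization.ringHom_ext (Algebra.algebraMapSubmonoid S P.primeCompl)
    (j := sigma R S G P (g * h)) (k := (sigma R S G P g).comp (sigma R S G P h))
    (RingHom.ext fun s => by simp [sigma_algebraMap, mul_smul])) b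
  smul_zero g := map_zero (sigma R S G P g)
  smul_add g := map_add (sigma R S G P g)
  smul_one g := map_one (sigma R S G P g)
  smul_mul g := map_mul (sigma R S G P g)

theorem exists_mk (b : BLoc R S P) : ∃ (s : S) (u : R), u ∉ P ∧
    b * algebraMap S (BLoc R S P) (algebraMap R S u) = algebraMap S (BLoc R S P) s := by
  obtain ⟨⟨s, ⟨_, u, hu, rfl⟩⟩, h⟩ := IsLocalization.surj (Algebra.algebraMapSubmonoid S P.primeCompl) b
  exact ⟨s, u, hu, h⟩

section galois

variable [IsNoetherianRing R] [IsIntegrallyClosed R] [IsIntegrallyClosed S] [Finite G] [IsGaloisGroup G R S]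

include G in
theorem finite : Module.Finite R S := by
  let K := FractionRing R
  let L := FractionRing S
  letI := FractionRing.liftAlgebra R L
  haveI := FractionRing.isScalarTower_liftAlgebra R L
  letI := IsFractionRing.mulSemiringAction G S L
  haveI : IsGaloisGroup G K L := IsGaloisGroup.toFractionRing G R S
  haveI : FiniteDimensional K L := IsGaloisGroup.finiteDimensional G K L
  haveI := IsGaloisGroup.isGalois G K L
  haveI : Algebra.IsIntegral R S := Algebra.IsInvariant.isIntegral R S G
  haveI : IsIntegralClosure S R L := IsIntegralClosure.of_isIntegrallyClosed S R L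
  exact IsIntegralClosure.finite R K L S

theorem isGaloisGroup (Q : Ideal S) [Q.IsPrime] [Q.LiesOver P]
    [MulSemiringAction (MulAction.stabilizer G Q) (EGA4.Cpl (Localization.AtPrime Q))]
    (hact : ∀ (g : MulAction.stabilizer G Q) (s : S),
      g • algebraMap (Localization.AtPrime Q) (EGA4.Cpl (Localization.AtPrime Q)) (algebraMap S (Localization.AtPrime Q) s) =
        algebraMap (Localization.AtPrime Q) (EGA4.Cpl (Localization.AtPrime Q)) (algebraMap S (Localization.AtPrime Q) (g • s)))
    [Algebra (EGA4.Cpl (Localization.AtPrime P)) (EGA4.Cpl (Localization.AtPrime Q))]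
    (halg : ∀ r : R,
      algebraMap (EGA4.Cpl (Localization.AtPrime P)) (EGA4.Cpl (Localization.AtPrime Q)) (algebraMap (Localization.AtPrime P) (EGA4.Cpl (Localization.AtPrime P)) (algebraMap R (Localization.AtPrime P) r)) =
        algebraMap (Localization.AtPrime Q) (EGA4.Cpl (Localization.AtPrime Q)) (algebraMap S (Localization.AtPrime Q) (algebraMap R S r))) :
    IsGaloisGroup (MulAction.stabilizer G Q) (EGA4.Cpl (Localization.AtPrime P)) (EGA4.Cpl (Localization.AtPrime Q)) := by
  classical
  haveI hfin : Module.Finite R S := finite R S G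
  haveI : IsNoetherianRing S := IsNoetherianRing.of_finite R S
  haveI : IsNoetherianRing (Localization.AtPrime Q) := IsLocalization.isNoetherianRing Q.primeCompl _ inferInstance
  haveI : IsNoetherianRing (Localization.AtPrime P) := IsLocalization.isNoetherianRing P.primeCompl _ inferInstance
  let M := Algebra.algebraMapSubmonoid S P.primeCompl
  let A := Localization.AtPrime P
  let B := BLoc R S P
  let SQ := Localization.AtPrime Q
  letI := action R S G P
  haveI : Module.Finite A B := by
    haveI : IsLocalizedModule P.primeCompl (IsScalarTower.toAlgHom R S B).toLinearMap :=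
      isLocalizedModule_iff_isLocalization.mpr inferInstance
    exact Module.Finite.of_isLocalizedModule P.primeCompl (IsScalarTower.toAlgHom R S B).toLinearMap
  have hunit : ∀ u : R, u ∉ P → IsUnit (algebraMap S B (algebraMap R S u)) := fun u hu =>
    IsLocalization.map_units (M := M) B ⟨_, u, hu, rfl⟩
  have hAB : ∀ r : R, algebraMap A B (algebraMap R A r) = algebraMap S B (algebraMap R S r) := fun r => by
    rw [← IsScalarTower.algebraMap_apply R A B, ← IsScalarTower.algebraMap_apply R S B]
  haveI : SMulCommClass G A B := ⟨fun g a b => by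
    rw [Algebra.smul_def, Algebra.smul_def, MulSemiringAction.smul_mul]
    congr 1
    obtain ⟨⟨r, u⟩, h⟩ := IsLocalization.surj P.primeCompl a
    have h' : algebraMap A B a * algebraMap S B (algebraMap R S u) = algebraMap S B (algebraMap R S r) := by
      rw [← hAB, ← map_mul, h, hAB]
    refine (hunit u u.2).mul_right_cancel ?_
    have h2 := congrArg (sigma R S G P g) h'
    rw [map_mul, sigma_algebraMap, sigma_algebraMap, smul_algebraMap, smul_algebraMap] at h2
    exact h2.trans h'.symm⟩
  have hSB : Function.Injective (algebraMap S B) := IsLocalization.injective B (M := M) (by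
    rintro _ ⟨r, hr, rfl⟩
    refine mem_nonZeroDivisors_of_ne_zero fun h => hr ?_
    rw [(FaithfulSMul.algebraMap_injective R S) (h.trans (map_zero _).symm)]
    exact P.zero_mem)
  have hinj : Function.Injective (algebraMap A B) := (injective_iff_map_eq_zero _).2 fun a ha => by
    obtain ⟨⟨r, u⟩, h⟩ := IsLocalization.surj P.primeCompl a
    have h' : algebraMap S B (algebraMap R S r) = 0 := by rw [← hAB, ← h, map_mul, ha, zero_mul]
    have hr : r = 0 := FaithfulSMul.algebraMap_injective R S ((hSB (h'.trans (map_zero _).symm)).trans (map_zero _).symm)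
    rw [hr, map_zero] at h
    exact (IsLocalization.map_units A u).mul_left_eq_zero.1 h
  haveI : Algebra.IsInvariant A B G := ⟨fun b hb => by
    obtain ⟨s, u, hu, h⟩ := exists_mk R S P b
    obtain ⟨r, hr⟩ := Algebra.IsInvariant.isInvariant (A := R) (G := G) s fun g => hSB (by
      rw [← sigma_algebraMap R S G P g s, ← h, map_mul, sigma_algebraMap, smul_algebraMap,
        show sigma R S G P g b = b from hb g])
    refine ⟨IsLocalization.mk' A r (⟨u, hu⟩ : P.primeCompl), (hunit u hu).mul_right_cancel ?_⟩
    rw [h, ← hr, ← hAB u, ← map_mul, IsLocalization.mk'_spec, hAB]⟩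
  -- the maximal ideal over `Q`
  have hdisj : Disjoint (M : Set S) Q := by
    rw [Set.disjoint_left]
    rintro _ ⟨r, hr, rfl⟩ hrQ
    exact hr ((Ideal.over_def Q P).symm ▸ (hrQ : r ∈ Q.under R))
  let n : Ideal B := Q.map (algebraMap S B)
  have hnQ : n.comap (algebraMap S B) = Q :=
    IsLocalization.under_map_of_isPrime_disjoint M B ‹_› hdisj
  haveI : n.IsPrime := IsLocalization.isPrime_of_isPrime_disjoint M B Q ‹_› hdisj
  haveI : n.IsMaximal := by
    haveI : Algebra.IsIntegral A B := Algebra.IsIntegral.of_finite A B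
    refine Ideal.isMaximal_of_isIntegral_of_isMaximal_comap (R := A) n ?_
    suffices h : n.comap (algebraMap A B) = maximalIdeal A by rw [h]; infer_instance
    ext a
    obtain ⟨⟨r, u⟩, h⟩ := IsLocalization.surj P.primeCompl a
    rw [Ideal.mem_comap, ← Ideal.mul_unit_mem_iff_mem (maximalIdeal A) (IsLocalization.map_units A u), h,
      ← Ideal.mul_unit_mem_iff_mem n ((IsLocalization.map_units A u).map (algebraMap A B)), ← map_mul, h, hAB,
      IsLocalization.AtPrime.to_map_mem_maximal_iff A P]
    rw [← Ideal.mem_comap (f := algebraMap S B), hnQ]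
    exact (Ideal.mem_of_liesOver Q P r).symm
  have hstab : ∀ g : G, g • Q = Q → g • n = n := fun g hg => by
    show Ideal.map (sigma R S G P g) (Q.map (algebraMap S B)) = Q.map (algebraMap S B)
    rw [Ideal.map_map, show (sigma R S G P g).comp (algebraMap S B) = (algebraMap S B).comp (MulSemiringAction.toRingHom G S g) from
      RingHom.ext fun s => sigma_algebraMap R S G P g s, ← Ideal.map_map]
    exact congrArg (Ideal.map (algebraMap S B)) hg
  have hstab' : ∀ g : G, g • n = n → g ∈ MulAction.stabilizer G Q := fun g hg => by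
    have hle : ∀ h : G, h • n = n → h • Q ≤ Q := fun h hh => by
      rw [Ideal.pointwise_smul_def]
      refine Ideal.map_le_iff_le_comap.2 fun s hs => ?_
      rw [Ideal.mem_comap, ← hnQ, Ideal.mem_comap]
      show algebraMap S B (h • s) ∈ n
      rw [← sigma_algebraMap, ← hh]
      exact Ideal.smul_mem_pointwise_smul h _ _ (Ideal.mem_map_of_mem _ hs)
    rw [MulAction.mem_stabilizer_iff]
    refine le_antisymm (hle g hg) ?_
    calc Q = g • g⁻¹ • Q := (smul_inv_smul g Q).symm
      _ ≤ g • Q := by
        rw [Ideal.pointwise_smul_def, Ideal.pointwise_smul_def (a := g)]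
        exact Ideal.map_mono ((Ideal.pointwise_smul_def _).ge.trans (hle g⁻¹ (by rw [inv_smul_eq_iff, hg])))
  -- the map to the completion
  let C := EGA4.Cpl SQ
  haveI : IsAdicComplete (maximalIdeal C) C := inferInstance
  let lam : B →+* SQ := IsLocalization.lift (M := M) (g := algebraMap S SQ) fun y =>
    IsLocalization.map_units SQ (⟨y.1, fun h => Set.disjoint_left.1 hdisj y.2 h⟩ : Q.primeCompl)
  have hlam : ∀ s, lam (algebraMap S B s) = algebraMap S SQ s := fun s => IsLocalization.lift_eq _ s
  let ι : B →+* C := (algebraMap SQ C).comp lam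
  have hι : ∀ s, ι (algebraMap S B s) = algebraMap SQ C (algebraMap S SQ s) := fun s => congrArg (algebraMap SQ C) (hlam s)
  have hNc : maximalIdeal C = (maximalIdeal SQ).map (algebraMap SQ C) := AdicCompletion.maximalIdeal_eq_map
  have hn : n ≤ (maximalIdeal C).comap ι := by
    refine Ideal.map_le_iff_le_comap.2 fun s hs => ?_
    rw [Ideal.mem_comap, Ideal.mem_comap, hι, hNc]
    exact Ideal.mem_map_of_mem _ ((IsLocalization.AtPrime.to_map_mem_maximal_iff SQ Q s).2 hs)
  have hcomapC : ∀ (k : ℕ) (z : SQ), algebraMap SQ C z ∈ maximalIdeal C ^ k → z ∈ maximalIdeal SQ ^ k := fun k z hz => by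
    rw [hNc, ← Ideal.map_pow, ← Submodule.restrictScalars_mem SQ, ← Ideal.smul_top_eq_map,
      AdicCompletion.pow_smul_top_eq_ker_eval (maximalIdeal SQ).fg_of_isNoetherianRing, LinearMap.mem_ker,
      AdicCompletion.algebraMap_apply, Algebra.algebraMap_self, RingHom.id_apply] at hz
    simpa using (Submodule.Quotient.mk_eq_zero _).1 hz
  have hinv : ∀ (k : ℕ) (t : B), t ∉ n → ∃ v, 1 - v * t ∈ n ^ k := fun k t ht => by
    have hcop : IsCoprime (Ideal.span {t}) (n ^ k) :=
      (Ideal.isCoprime_iff_exists.2 (by
        obtain ⟨y, i, hi, hyi⟩ := Ideal.IsMaximal.exists_inv ‹n.IsMaximal› ht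
        exact ⟨y * t, Ideal.mem_span_singleton'.2 ⟨y, rfl⟩, i, hi, hyi⟩)).pow_right
    obtain ⟨i, hi, y, hy, hiy⟩ := Ideal.isCoprime_iff_exists.1 hcop
    obtain ⟨v, rfl⟩ := Ideal.mem_span_singleton'.1 hi
    exact ⟨v, by rw [← hiy, add_sub_cancel_left]; exact hy⟩
  have hQn : ∀ t : S, t ∉ Q → algebraMap S B t ∉ n := fun t ht h => ht (hnQ ▸ h)
  have hct : ∀ k, (maximalIdeal C ^ k).comap ι ≤ n ^ k := fun k b hb => by
    obtain ⟨s, u, hu, h⟩ := exists_mk R S P b
    have h1 : algebraMap S SQ s ∈ maximalIdeal SQ ^ k := hcomapC k _ (by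
      rw [← hι, ← h, map_mul]; exact Ideal.mul_mem_right _ _ hb)
    rw [← IsLocalization.AtPrime.map_eq_maximalIdeal Q SQ, ← Ideal.map_pow,
      IsLocalization.mem_map_algebraMap_iff Q.primeCompl] at h1
    obtain ⟨⟨⟨q, hq⟩, t⟩, ht⟩ := h1
    have h2 : algebraMap S B s * algebraMap S B t ∈ n ^ k := by
      rw [← map_mul, ← Ideal.map_pow]
      refine Ideal.mem_map_of_mem _ ?_
      rw [← map_mul, IsLocalization.eq_iff_exists Q.primeCompl] at ht
      obtain ⟨w, hw⟩ := ht
      rw [mul_left_cancel₀ (fun h0 : (w : S) = 0 => w.2 (show (w : S) ∈ Q from h0 ▸ Q.zero_mem)) hw]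
      exact hq
    obtain ⟨v, hv⟩ := hinv k _ (hQn t t.2)
    have h3 : algebraMap S B s ∈ n ^ k := by
      rw [show algebraMap S B s = (1 - v * algebraMap S B t) * algebraMap S B s + v * (algebraMap S B s * algebraMap S B t) by ring]
      exact add_mem (Ideal.mul_mem_right _ _ hv) (Ideal.mul_mem_left _ v h2)
    rw [← h] at h3
    exact (Ideal.mul_unit_mem_iff_mem _ (hunit u hu)).1 h3
  have happ : ∀ k (x : C), ∃ b, x - ι b ∈ maximalIdeal C ^ k := fun k x => by
    obtain ⟨z, hz⟩ := Submodule.Quotient.mk_surjective _ (x.val k)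
    have h1 : x - algebraMap SQ C z ∈ maximalIdeal C ^ k := by
      rw [hNc, ← Ideal.map_pow, ← Submodule.restrictScalars_mem SQ, ← Ideal.smul_top_eq_map,
        AdicCompletion.pow_smul_top_eq_ker_eval (maximalIdeal SQ).fg_of_isNoetherianRing, LinearMap.mem_ker, map_sub,
        sub_eq_zero]
      exact hz.symm
    obtain ⟨⟨s, t⟩, hst⟩ := IsLocalization.surj Q.primeCompl z
    obtain ⟨v, hv⟩ := hinv k _ (hQn t t.2)
    refine ⟨algebraMap S B s * v, ?_⟩
    have h2 : algebraMap SQ C z - ι (algebraMap S B s * v) = algebraMap SQ C z * ι (1 - v * algebraMap S B t) := by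
      rw [map_sub, map_one, map_mul, map_mul, hι, hι, ← hst, map_mul]; ring
    have h3 : ι (1 - v * algebraMap S B t) ∈ maximalIdeal C ^ k :=
      Ideal.le_comap_pow ι k (Ideal.pow_right_mono hn k hv)
    rw [show x - ι (algebraMap S B s * v) = (x - algebraMap SQ C z) + (algebraMap SQ C z - ι (algebraMap S B s * v)) by ring, h2]
    exact add_mem h1 (Ideal.mul_mem_left _ _ h3)
  -- the completed base
  let Ah := EGA4.Cpl A
  let j : Ah →+* C := algebraMap Ah C
  have hj : j.comp (algebraMap A Ah) = ι.comp (algebraMap A B) := IsLocalization.ringHom_ext P.primeCompl (RingHom.ext fun r => by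
    simp only [RingHom.comp_apply]
    rw [hAB, hι]
    exact halg r)
  have hmh : (maximalIdeal A).map (algebraMap A Ah) = maximalIdeal Ah := AdicCompletion.maximalIdeal_eq_map.symm
  have hapA : ∀ k (r : Ah), ∃ a, r - algebraMap A Ah a ∈ maximalIdeal Ah ^ k := fun k r => by
    obtain ⟨a, ha⟩ := Submodule.Quotient.mk_surjective _ (r.val k)
    refine ⟨a, ?_⟩
    rw [← hmh, ← Ideal.map_pow, ← Submodule.restrictScalars_mem A, ← Ideal.smul_top_eq_map,
      AdicCompletion.pow_smul_top_eq_ker_eval (maximalIdeal A).fg_of_isNoetherianRing, LinearMap.mem_ker, map_sub, sub_eq_zero]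
    exact ha.symm
  let δ : {g : G // g • n = n} → C →+* C := fun g => MulSemiringAction.toRingHom (MulAction.stabilizer G Q) C ⟨g.1, hstab' g.1 g.2⟩
  have hδ : ∀ g b, δ g (ι b) = ι (g.1 • b) := fun g b => by
    have h0 : (δ g).comp ι = ι.comp (sigma R S G P g.1) := IsLocalization.ringHom_ext M (RingHom.ext fun s => by
      simp only [RingHom.comp_apply]
      rw [sigma_algebraMap, hι, hι]
      exact hact ⟨g.1, hstab' g.1 g.2⟩ s)
    exact RingHom.congr_fun h0 b
  have hδN : ∀ g, (maximalIdeal C).map (δ g) ≤ maximalIdeal C := fun g => by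
    refine Ideal.map_le_iff_le_comap.2 fun z hz => ?_
    rw [Ideal.mem_comap, mem_maximalIdeal]
    rw [mem_maximalIdeal] at hz
    intro hu
    refine hz ?_
    have h := hu.map (MulSemiringAction.toRingHom (MulAction.stabilizer G Q) C ⟨g.1, hstab' g.1 g.2⟩⁻¹)
    simpa [δ] using h
  have hfix : ∀ (g : MulAction.stabilizer G Q) (r : Ah), g • j r = j r := fun g r =>
    DecompositionCompletion.fixed_of_range A B G n (maximalIdeal C) ι (maximalIdeal Ah) (algebraMap A Ah) j
      hn hmh hj hapA δ hδ hδN ⟨g.1, hstab g.1 g.2⟩ r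
  refine ⟨⟨fun {g h} hgh => Subtype.ext ?_⟩, ⟨fun g r x => ?_⟩, ⟨fun x hx => ?_⟩⟩
  · have hιS : Function.Injective fun s : S => algebraMap SQ C (algebraMap S SQ s) := by
      have h1 : Function.Injective (algebraMap SQ C) := (injective_iff_map_eq_zero _).2 fun z hz => by
        refine IsHausdorff.haus (I := maximalIdeal SQ) (M := SQ) inferInstance z fun k => ?_
        rw [SModEq.zero, smul_eq_mul, Ideal.mul_top]
        exact hcomapC k z (by rw [hz]; exact zero_mem _)
      exact h1.comp (IsLocalization.injective SQ Q.primeCompl_le_nonZeroDivisors)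
    haveI := IsGaloisGroup.faithful (G := G) (A := R) (B := S)
    refine FaithfulSMul.eq_of_smul_eq_smul (α := S) fun s => hιS ?_
    exact ((hact g s).symm.trans (hgh (algebraMap SQ C (algebraMap S SQ s)))).trans (hact h s)
  · rw [Algebra.smul_def, Algebra.smul_def, MulSemiringAction.smul_mul, hfix g r]
  · exact DecompositionCompletion.mem_range_of_fixed A B G n (maximalIdeal C) ι (maximalIdeal Ah) (algebraMap A Ah) j
      hinj hn hct happ hmh hj δ hδ hδN x fun g => hx ⟨g.1, hstab' g.1 g.2⟩

end galois

end Groth.Agent.CAlgH.DecompositionApply
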