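import Groth.Agent.CAlgH.FiniteJacobsonCompletion
import Mathlib

/-!
# Invariants of the decomposition group on a completed local ring
-/

set_option autoImplicit false
universe u

open IsLocalRing Pointwise

namespace Groth.Agent.CAlgH.DecompositionCompletion

section semilocal

variable (A B G : Type u) [CommRing A] [IsLocalRing A] [IsNoetherianRing A] [CommRing B] [Algebra A B]
  [Module.Finite A B] [Group G] [Finite G] [MulSemiringAction G B] [SMulCommClass G A B]
  [Algebra.IsInvariant A B G] (n : Ideal B) [n.IsMaximal]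

theorem exists_pow_le_map :
    ∃ d, ∀ (k : ℕ) (x : B), (∀ g : G, x ∈ (g • n) ^ (d * k)) → x ∈ (maximalIdeal A ^ k).map (algebraMap A B) := by
  classical
  haveI := Fintype.ofFinite G
  obtain ⟨d, hd⟩ := exists_jacobson_pow_le A B
  refine ⟨d + 1, fun k x hx => ?_⟩
  haveI hint : Algebra.IsIntegral A B := Algebra.IsIntegral.of_finite A B
  have hmax : ∀ g : G, (g • n).IsMaximal := fun g => by
    rw [Ideal.pointwise_smul_def]
    exact Ideal.map_isMaximal_of_equiv (MulSemiringAction.toRingEquiv G B g)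
  let T : Finset (Ideal B) := Finset.univ.image fun g : G => g • n
  have hT : ∀ M : Ideal B, M.IsMaximal → M ∈ T := fun M hM => by
    haveI := hM
    obtain ⟨g, hg⟩ := Algebra.IsInvariant.exists_smul_of_under_eq A B G n M
      ((eq_maximalIdeal (Ideal.isMaximal_comap_of_isIntegral_of_isMaximal (R := A) n)).trans
        (eq_maximalIdeal (Ideal.isMaximal_comap_of_isIntegral_of_isMaximal (R := A) M)).symm)
    exact Finset.mem_image.2 ⟨g, Finset.mem_univ g, hg.symm⟩
  have hTmax : ∀ M ∈ T, M.IsMaximal := fun M hM => by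
    obtain ⟨g, -, rfl⟩ := Finset.mem_image.1 hM
    exact hmax g
  have h1 : x ∈ (∏ M ∈ T, M) ^ ((d + 1) * k) := by
    rw [← Finset.prod_pow, Ideal.prod_eq_iInf_of_pairwise_isCoprime]
    · simp only [Submodule.mem_iInf]
      intro M hM
      obtain ⟨g, -, rfl⟩ := Finset.mem_image.1 hM
      exact hx g
    · intro M hM M' hM' hne
      haveI := hTmax M hM
      haveI := hTmax M' hM'
      exact (Ideal.isCoprime_of_isMaximal hne).pow
  have h2 : (∏ M ∈ T, M) ≤ (⊥ : Ideal B).jacobson :=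
    le_sInf fun M hM => Ideal.prod_le_inf.trans (Finset.inf_le (hT M hM.2))
  have h3 := Ideal.pow_right_mono (Ideal.pow_right_mono h2 (d + 1)) k
  have h4 := Ideal.pow_right_mono hd k
  rw [← pow_mul] at h3
  rw [Ideal.map_pow]
  exact h4 (h3 h1)

include G in
theorem exists_contract (hinj : Function.Injective (algebraMap A B)) (N : ℕ) :
    ∃ k, (n ^ k).comap (algebraMap A B) ≤ maximalIdeal A ^ N := by
  obtain ⟨d, hd⟩ := exists_pow_le_map A B G n
  obtain ⟨c, hc⟩ := Ideal.exists_pow_inf_eq_pow_smul (maximalIdeal A) (LinearMap.range (Algebra.linearMap A B))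
  refine ⟨d * (N + c), fun a ha => ?_⟩
  have h1 := hd (N + c) (algebraMap A B a) fun g => by
    have := Ideal.smul_mem_pointwise_smul g _ _ (Ideal.mem_comap.1 ha)
    rwa [smul_algebraMap, Ideal.pointwise_smul_def, Ideal.map_pow, ← Ideal.pointwise_smul_def] at this
  rw [← Submodule.restrictScalars_mem A, ← Ideal.smul_top_eq_map] at h1
  have h2 : algebraMap A B a ∈ maximalIdeal A ^ N • LinearMap.range (Algebra.linearMap A B) := by
    refine Submodule.smul_mono le_rfl (inf_le_right (a := maximalIdeal A ^ c • (⊤ : Submodule A B))) ?_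
    have h3 : algebraMap A B a ∈ maximalIdeal A ^ (N + c) • (⊤ : Submodule A B) ⊓ LinearMap.range (Algebra.linearMap A B) :=
      ⟨h1, ⟨a, rfl⟩⟩
    rwa [hc (N + c) (Nat.le_add_left c N), Nat.add_sub_cancel] at h3
  rw [LinearMap.range_eq_map, ← Submodule.map_smul''] at h2
  obtain ⟨r, hr, hra⟩ := h2
  rw [← hinj hra]
  simpa using hr

theorem exists_approx_invariant (N : ℕ) :
    ∃ k, N ≤ k ∧ ∀ b : B, (∀ g : G, g • n = n → g • b - b ∈ n ^ k) → ∃ a, b - algebraMap A B a ∈ n ^ N := by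
  classical
  haveI := Fintype.ofFinite G
  obtain ⟨d, hd⟩ := exists_pow_le_map A B G n
  let f : B →ₗ[A] (G → B) := LinearMap.pi fun g => DistribSMul.toLinearMap A B g - LinearMap.id
  have hf : ∀ b g, f b g = g • b - b := fun b g => rfl
  obtain ⟨c, hc⟩ := Ideal.exists_pow_inf_eq_pow_smul (maximalIdeal A) (LinearMap.range f)
  refine ⟨(d + 1) * (N + c), (Nat.le_add_right N c).trans (Nat.le_mul_of_pos_left _ d.succ_pos), fun b hb => ?_⟩
  set k := (d + 1) * (N + c)
  let T := {M : Ideal B // ∃ g : G, g • n = M}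
  have hmax : ∀ M : T, M.1.IsMaximal := fun M => by
    obtain ⟨g, hg⟩ := M.2
    rw [← hg, Ideal.pointwise_smul_def]
    exact Ideal.map_isMaximal_of_equiv (MulSemiringAction.toRingEquiv G B g)
  haveI : Finite T := Finite.of_surjective (fun g : G => (⟨g • n, g, rfl⟩ : T)) fun M => by
    obtain ⟨g, hg⟩ := M.2
    exact ⟨g, Subtype.ext hg⟩
  choose γ hγ using fun M : T => M.2
  obtain ⟨s, hs⟩ := Ideal.exists_forall_sub_mem_ideal (I := fun M : T => M.1 ^ k) (fun M M' hne => by
    haveI := hmax M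
    haveI := hmax M'
    exact (Ideal.isCoprime_of_isMaximal fun h => hne (Subtype.ext h)).pow) (fun M => γ M • b)
  have hpow : ∀ (g : G) (J : Ideal B) (x : B), x ∈ J ^ k → g • x ∈ (g • J) ^ k := fun g J x hx => by
    have := Ideal.smul_mem_pointwise_smul g _ _ hx
    rwa [Ideal.pointwise_smul_def, Ideal.map_pow, ← Ideal.pointwise_smul_def] at this
  have hinvk : ∀ (g : G) (M : T), g • s - s ∈ M.1 ^ k := by
    intro g M
    obtain ⟨gM, hgM⟩ : ∃ gM : T, gM.1 = g⁻¹ • M.1 := ⟨⟨_, g⁻¹ * γ M, by rw [mul_smul, hγ]⟩, rfl⟩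
    have h1 : g • s - g • γ gM • b ∈ M.1 ^ k := by
      have := hpow g _ _ (hs gM)
      rwa [smul_sub, hgM, smul_inv_smul] at this
    have hstab : ((γ M)⁻¹ * g * γ gM) • n = n := by
      rw [mul_smul, mul_smul, hγ gM, hgM, smul_inv_smul, inv_smul_eq_iff, hγ M]
    have h2 := hpow (γ M) _ _ (hb _ hstab)
    rw [hγ M, smul_sub, smul_smul, mul_assoc, mul_inv_cancel_left, mul_smul] at h2
    rw [show g • s - s = (g • s - g • γ gM • b) + (g • γ gM • b - γ M • b) - (s - γ M • b) by ring]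
    exact sub_mem (add_mem h1 h2) (hs M)
  have hfs : f s ∈ maximalIdeal A ^ (N + c) • (⊤ : Submodule A (G → B)) := by
    rw [← Finset.univ_sum_single (f s)]
    refine Submodule.sum_mem _ fun g _ => ?_
    have hg : f s g ∈ maximalIdeal A ^ (N + c) • (⊤ : Submodule A B) := by
      rw [Ideal.smul_top_eq_map, Submodule.restrictScalars_mem]
      refine hd (N + c) _ fun g' => ?_
      exact Ideal.pow_le_pow_right (Nat.mul_le_mul_right _ d.le_succ) (hinvk g ⟨g' • n, g', rfl⟩)
    have := Submodule.mem_map_of_mem (f := LinearMap.single A (fun _ : G => B) g) hg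
    rw [Submodule.map_smul''] at this
    exact Submodule.smul_mono le_rfl le_top this
  have h3 : f s ∈ maximalIdeal A ^ N • LinearMap.range f := by
    refine Submodule.smul_mono le_rfl (inf_le_right (a := maximalIdeal A ^ c • (⊤ : Submodule A (G → B)))) ?_
    have h3 : f s ∈ maximalIdeal A ^ (N + c) • (⊤ : Submodule A (G → B)) ⊓ LinearMap.range f := ⟨hfs, ⟨s, rfl⟩⟩
    rwa [hc (N + c) (Nat.le_add_left c N), Nat.add_sub_cancel] at h3
  rw [LinearMap.range_eq_map, ← Submodule.map_smul''] at h3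
  obtain ⟨t, ht, hts⟩ := h3
  obtain ⟨a, ha⟩ := Algebra.IsInvariant.isInvariant (A := A) (G := G) (s - t) fun g => by
    have := congrFun hts g
    rw [hf, hf] at this
    rw [← sub_eq_zero, smul_sub, show g • s - g • t - (s - t) = (g • s - s) - (g • t - t) by ring, this, sub_self]
  refine ⟨a, ?_⟩
  have hmn : (maximalIdeal A).map (algebraMap A B) ≤ n :=
    (map_maximal_le_jacobson_of_finite A B).trans (sInf_le ⟨bot_le, inferInstance⟩)
  have ht' : t ∈ n ^ N := by
    rw [Ideal.smul_top_eq_map, SetLike.mem_coe, Submodule.restrictScalars_mem, Ideal.map_pow] at ht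
    exact Ideal.pow_right_mono hmn N ht
  obtain ⟨M₀, hM₀⟩ : ∃ M₀ : T, M₀.1 = n := ⟨⟨n, 1, one_smul G n⟩, rfl⟩
  have hbs : b - s ∈ n ^ k := by
    have h1 := hs M₀
    rw [hM₀] at h1
    have h2 := hb (γ M₀) (by rw [hγ, hM₀])
    rw [show b - s = -(s - γ M₀ • b) - (γ M₀ • b - b) by ring]
    exact sub_mem (neg_mem h1) h2
  rw [show b - algebraMap A B a = (b - s) + t by rw [ha]; ring]
  exact add_mem (Ideal.pow_le_pow_right ((Nat.le_add_right N c).trans (Nat.le_mul_of_pos_left _ d.succ_pos)) hbs) ht'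

variable {C Ah : Type u} [CommRing C] (Nc : Ideal C) [IsAdicComplete Nc C] (ι : B →+* C)
  [CommRing Ah] (mh : Ideal Ah) [IsAdicComplete mh Ah] (iA : A →+* Ah) (j : Ah →+* C)

theorem map_pow_le (hmh : (maximalIdeal A).map iA = mh) (hj : j.comp iA = ι.comp (algebraMap A B))
    (hn : n ≤ Nc.comap ι) (k : ℕ) (r : Ah) (hr : r ∈ mh ^ k) : j r ∈ Nc ^ k := by
  have h : (mh ^ k).map j ≤ Nc ^ k := by
    rw [Ideal.map_pow]
    refine Ideal.pow_right_mono ?_ k
    rw [← hmh, Ideal.map_map, hj, ← Ideal.map_map, Ideal.map_le_iff_le_comap]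
    exact ((map_maximal_le_jacobson_of_finite A B).trans (sInf_le ⟨bot_le, inferInstance⟩)).trans hn
  exact h (Ideal.mem_map_of_mem _ hr)

theorem mem_range_of_fixed (hinj : Function.Injective (algebraMap A B))
    (hn : n ≤ Nc.comap ι) (hct : ∀ k, (Nc ^ k).comap ι ≤ n ^ k) (hap : ∀ k x, ∃ b, x - ι b ∈ Nc ^ k)
    (hmh : (maximalIdeal A).map iA = mh) (hj : j.comp iA = ι.comp (algebraMap A B))
    (δ : {g : G // g • n = n} → C →+* C) (hδ : ∀ g b, δ g (ι b) = ι (g.1 • b)) (hδN : ∀ g, Nc.map (δ g) ≤ Nc)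
    (x : C) (hx : ∀ g, δ g x = x) : ∃ r : Ah, j r = x := by
  have hnk : ∀ k, n ^ k ≤ (Nc ^ k).comap ι := fun k =>
    (Ideal.pow_right_mono hn k).trans (Ideal.le_comap_pow ι k)
  have hA : ∀ N, ∃ a : A, x - ι (algebraMap A B a) ∈ Nc ^ N := by
    intro N
    obtain ⟨k, hk, happ⟩ := exists_approx_invariant A B G n N
    obtain ⟨b, hb⟩ := hap k x
    obtain ⟨a, ha⟩ := happ b fun g hg => hct k (by
      rw [Ideal.mem_comap, map_sub, ← hδ ⟨g, hg⟩, show δ ⟨g, hg⟩ (ι b) - ι b = (x - ι b) - δ ⟨g, hg⟩ (x - ι b) by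
        rw [map_sub, hx]; ring]
      refine sub_mem hb ?_
      have := Ideal.mem_map_of_mem (δ ⟨g, hg⟩) hb
      rw [Ideal.map_pow] at this
      exact Ideal.pow_right_mono (hδN _) k this)
    refine ⟨a, ?_⟩
    rw [show x - ι (algebraMap A B a) = (x - ι b) + ι (b - algebraMap A B a) by rw [map_sub]; ring]
    exact add_mem (Ideal.pow_le_pow_right hk hb) (hnk N ha)
  choose a ha using hA
  choose κ hκ using exists_contract A B G n hinj
  let K : ℕ → ℕ := fun i => i + ∑ l ∈ Finset.range (i + 1), κ l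
  have hK : ∀ i, κ i ≤ K i := fun i =>
    (Finset.single_le_sum (fun l _ => Nat.zero_le (κ l)) (Finset.self_mem_range_succ i)).trans (Nat.le_add_left _ _)
  have hKmono : Monotone K := fun p q h => Nat.add_le_add h (Finset.sum_le_sum_of_subset (Finset.range_mono (Nat.succ_le_succ h)))
  obtain ⟨r, hr⟩ := IsPrecomplete.prec (I := mh) (M := Ah) inferInstance (f := fun i => iA (a (K i))) (fun {p q} hpq => by
    rw [SModEq.sub_mem, smul_eq_mul, Ideal.mul_top, ← map_sub, ← hmh, ← Ideal.map_pow]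
    refine Ideal.mem_map_of_mem _ (hκ p ?_)
    rw [Ideal.mem_comap]
    refine hct _ ?_
    rw [Ideal.mem_comap, map_sub, map_sub,
      show ι (algebraMap A B (a (K p))) - ι (algebraMap A B (a (K q))) = (x - ι (algebraMap A B (a (K q)))) - (x - ι (algebraMap A B (a (K p)))) by ring]
    exact sub_mem (Ideal.pow_le_pow_right ((hK p).trans (hKmono hpq)) (ha _)) (Ideal.pow_le_pow_right (hK p) (ha _)))
  refine ⟨r, (sub_eq_zero.1 (IsHausdorff.haus (I := Nc) (M := C) inferInstance _ fun i => ?_)).symm⟩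
  rw [SModEq.zero, smul_eq_mul, Ideal.mul_top,
    show x - j r = (x - ι (algebraMap A B (a (K i)))) + j (iA (a (K i)) - r) by
      rw [map_sub, ← RingHom.comp_apply j iA, hj]; simp]
  refine add_mem (Ideal.pow_le_pow_right (Nat.le_add_right i _) (ha _)) (map_pow_le A B n Nc ι mh iA j hmh hj hn i _ ?_)
  have := hr i
  rwa [SModEq.sub_mem, smul_eq_mul, Ideal.mul_top] at this

theorem fixed_of_range (hn : n ≤ Nc.comap ι) (hmh : (maximalIdeal A).map iA = mh) (hj : j.comp iA = ι.comp (algebraMap A B))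
    (hapA : ∀ k r, ∃ a, r - iA a ∈ mh ^ k)
    (δ : {g : G // g • n = n} → C →+* C) (hδ : ∀ g b, δ g (ι b) = ι (g.1 • b)) (hδN : ∀ g, Nc.map (δ g) ≤ Nc)
    (g : {g : G // g • n = n}) (r : Ah) : δ g (j r) = j r := by
  refine sub_eq_zero.1 (IsHausdorff.haus (I := Nc) (M := C) inferInstance _ fun k => ?_)
  obtain ⟨a, ha⟩ := hapA k r
  have h1 := map_pow_le A B n Nc ι mh iA j hmh hj hn k _ ha
  have h2 := Ideal.mem_map_of_mem (δ g) h1
  rw [Ideal.map_pow] at h2
  have h3 := Ideal.pow_right_mono (hδN g) k h2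
  have hfix : δ g (j (iA a)) = j (iA a) := by
    rw [← RingHom.comp_apply j iA, hj, RingHom.comp_apply, hδ, smul_algebraMap]
  rw [SModEq.zero, smul_eq_mul, Ideal.mul_top,
    show δ g (j r) - j r = δ g (j (r - iA a)) - j (r - iA a) by rw [map_sub, map_sub, hfix]; ring]
  exact sub_mem h3 h1

end semilocal

end Groth.Agent.CAlgH.DecompositionCompletion
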