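import Groth.Prelude.Def_Smoothing
import Groth.Agent.CAlgH.StrictlyStandardSmooth
import Mathlib

/-! Néron's desingularization lemma. -/

universe u

open MvPolynomial
open scoped TensorProduct

namespace Groth.Agent.CAlgH.Desingularize

theorem exists_matrix_mul_eq_smul {S : Type u} [CommRing S] {c n : ℕ} (J : Fin c → Fin n → S) (a : S)
    (h : a ∈ Ideal.span (Set.range fun cols : Fin c → Fin n => (Matrix.of fun j k => J j (cols k)).det)) :
    ∃ W : Matrix (Fin n) (Fin c) S, Matrix.of J * W = a • 1 := by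
  classical
  obtain ⟨t, ht⟩ := Ideal.mem_span_range_iff_exists_fun.1 h
  let E : (Fin c → Fin n) → Matrix (Fin n) (Fin c) S := fun cols =>
    Matrix.of fun i k => if cols k = i then 1 else 0
  have hE : ∀ cols, Matrix.of J * E cols = Matrix.of fun j k => J j (cols k) := by
    intro cols
    ext j k
    simp [Matrix.mul_apply, E]
  refine ⟨∑ cols, t cols • (E cols * (Matrix.of fun j k => J j (cols k)).adjugate), ?_⟩
  simp only [Matrix.mul_sum, Matrix.mul_smul, ← Matrix.mul_assoc, hE, Matrix.mul_adjugate, smul_smul,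
    ← Finset.sum_smul, ht]

theorem taylor {R P : Type*} [CommRing R] [CommRing P] [Algebra R P] {σ : Type*} [Fintype σ]
    (v z : σ → P) (ε : P) (f : MvPolynomial σ R) :
    ∃ q : P, aeval (fun i => v i + ε * z i) f = aeval v f + ε * ∑ i, aeval v (pderiv i f) * z i + ε ^ 2 * q := by
  classical
  induction f using MvPolynomial.induction_on with
  | C r => exact ⟨0, by simp⟩
  | add p q hp hq =>
    obtain ⟨a, ha⟩ := hp
    obtain ⟨b, hb⟩ := hq
    refine ⟨a + b, ?_⟩
    simp only [map_add, add_mul, Finset.sum_add_distrib, ha, hb]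
    ring
  | mul_X p i hp =>
    obtain ⟨a, ha⟩ := hp
    refine ⟨(∑ k, aeval v (pderiv k p) * z k) * z i + a * (v i + ε * z i), ?_⟩
    have e : ∀ k, aeval v (pderiv k (p * X i)) * z k =
        aeval v (pderiv k p) * z k * v i + if k = i then aeval v p * z i else 0 := fun k => by
      rw [pderiv_mul, map_add, map_mul, map_mul, aeval_X]
      split_ifs with h
      · subst h; rw [pderiv_X_self, map_one]; ring
      · rw [pderiv_X_of_ne (Ne.symm h), map_zero]; ring
    rw [map_mul, aeval_X, ha, Finset.sum_congr rfl fun k _ => e k, Finset.sum_add_distrib, ← Finset.sum_mul,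
      Finset.sum_ite_eq', if_pos (Finset.mem_univ i), map_mul, aeval_X]
    ring

theorem mul_aeval_eq_of_mul_eq {R P : Type*} [CommRing R] [CommRing P] [Algebra R P] {σ : Type*}
    (v v' : σ → P) (a : P) (h : ∀ i, a * v i = a * v' i) (p : MvPolynomial σ R) :
    a * aeval v p = a * aeval v' p := by
  induction p using MvPolynomial.induction_on with
  | C r => simp
  | add p q hp hq => rw [map_add, map_add, mul_add, mul_add, hp, hq]
  | mul_X p i hp =>
    rw [map_mul, map_mul, aeval_X, aeval_X, ← mul_assoc, hp, mul_right_comm, h, mul_right_comm, mul_assoc]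

/-- Torsion in flat algebras. -/
theorem torsion_flat {R C : Type u} [CommRing R] [CommRing C] [Algebra R C] [Module.Flat R C] (π r : R)
    (hr : ∀ x : R, π ^ 2 * x = 0 → π * (r * x) = 0) (y : C) (hy : algebraMap R C π ^ 2 * y = 0) :
    algebraMap R C r * (algebraMap R C π * y) = 0 := by
  let f : R →ₗ[R] R := LinearMap.lsmul R R (π ^ 2)
  let μ : C ⊗[R] R ≃ₗ[R] C := TensorProduct.rid R C
  have hex := Module.Flat.lTensor_exact C (LinearMap.exact_subtype_ker_map f)
  have hμ : ∀ z, μ (f.lTensor C z) = (π ^ 2) • μ z := by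
    intro z
    induction z using TensorProduct.induction_on with
    | zero => simp
    | tmul c x => simp [μ, f, smul_smul]
    | add a b ha hb => simp only [map_add, ha, hb, smul_add]
  have h0 : f.lTensor C (μ.symm y) = 0 := μ.injective (by
    rw [hμ, μ.apply_symm_apply, map_zero, Algebra.smul_def, map_pow, hy])
  obtain ⟨z, hz⟩ := (hex _).1 h0
  have key : ∀ z, algebraMap R C r * (algebraMap R C π * μ ((LinearMap.ker f).subtype.lTensor C z)) = 0 := by
    intro z
    induction z using TensorProduct.induction_on with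
    | zero => simp
    | tmul c x =>
      have hx : π ^ 2 * (x : R) = 0 := x.2
      rw [LinearMap.lTensor_tmul, Submodule.subtype_apply, show μ (c ⊗ₜ[R] (x : R)) = (x : R) • c from TensorProduct.rid_tmul c _,
        Algebra.smul_def, ← mul_assoc, ← mul_assoc, ← map_mul, ← map_mul,
        show r * π * (x : R) = π * (r * x) by ring, hr _ hx, map_zero, zero_mul]
    | add a b ha hb => rw [map_add, map_add, mul_add, mul_add, ha, hb, add_zero]
  have := key z
  rwa [hz, μ.apply_symm_apply] at this

/-- The central computation near `π`: relations with `π F ∈ (F)^2`, `F ⊆ π^3` vanish. -/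
theorem eq_zero_of_nakayama {C : Type u} [CommRing C] [IsLocalRing C] (π : C) (hπ : π ∈ IsLocalRing.maximalIdeal C)
    (htors : ∀ y : C, π ^ 2 * y = 0 → π * y = 0) (F : Ideal C) (hfg : F.FG)
    (hdiv : F ≤ Ideal.span {π ^ 3}) (hsq : ∀ x ∈ F, π * x ∈ F ^ 2) : F = ⊥ := by
  let N : Ideal C := Ideal.span {π} * F
  have hN : N ≤ Ideal.span {π} • N := by
    refine Ideal.mul_le.2 fun a ha x hx => ?_
    obtain ⟨b, rfl⟩ := Ideal.mem_span_singleton'.1 ha
    have h1 : π * x ∈ Ideal.span {π ^ 3} * F := Ideal.mul_mono_left hdiv (by rw [← sq]; exact hsq x hx)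
    have h2 : Ideal.span {π ^ 3} * F ≤ Ideal.span {π} • N := by
      rw [smul_eq_mul, ← mul_assoc, Ideal.span_singleton_mul_span_singleton]
      refine Ideal.mul_mono_left (Ideal.span_singleton_le_span_singleton.2 ⟨π, by ring⟩)
    rw [mul_assoc]
    exact Ideal.mul_mem_left _ b (h2 h1)
  have hN0 : N = ⊥ := Submodule.eq_bot_of_le_smul_of_le_jacobson_bot _ N
    (Submodule.FG.mul (Submodule.fg_span_singleton π) hfg) hN
    ((Ideal.span_singleton_le_iff_mem _).2 hπ |>.trans (IsLocalRing.maximalIdeal_le_jacobson ⊥))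
  rw [eq_bot_iff]
  intro x hx
  obtain ⟨y, rfl⟩ := Ideal.mem_span_singleton'.1 (hdiv hx)
  have h1 : π * (y * π ^ 3) = 0 := by
    have : π * (y * π ^ 3) ∈ N := Ideal.mul_mem_mul (Ideal.mem_span_singleton_self π) hx
    rwa [hN0, Submodule.mem_bot] at this
  have h2 : π ^ 2 * (π ^ 2 * y) = 0 := by rw [← h1]; ring
  have h3 : π ^ 3 * y = 0 := by rw [show π ^ 3 * y = π * (π ^ 2 * y) by ring]; exact htors _ h2
  rw [Submodule.mem_bot, mul_comm]
  exact h3

theorem eval_mem_pow {R A : Type u} [CommRing R] [CommRing A] [Algebra R A] {σ : Type*}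
    (φ : MvPolynomial σ R →ₐ[R] A) {K : Ideal R} (ρ : A →ₐ[R] R ⧸ K) (a : σ → R)
    (ha : ∀ i, Ideal.Quotient.mk K (a i) = ρ (φ (X i))) (p : MvPolynomial σ R) (hp : φ p = 0) :
    aeval a p ∈ K := by
  have h : (Ideal.Quotient.mkₐ R K).comp (aeval a) = ρ.comp φ :=
    MvPolynomial.algHom_ext fun i => by
      show Ideal.Quotient.mk K (aeval a (X i)) = _
      rw [aeval_X]; exact ha i
  refine Ideal.Quotient.eq_zero_iff_mem.1 ((DFunLike.congr_fun h p).trans ?_)
  show ρ (φ p) = 0
  rw [hp, map_zero]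

/-- A localisation which is a retract of a formally smooth algebra. -/
theorem formallySmooth_of_retract {R B C Bq : Type u} [CommRing R] [CommRing B] [Algebra R B] [CommRing C]
    [Algebra R C] [Algebra.FormallySmooth R C] [CommRing Bq] [Algebra B Bq] [Algebra R Bq] [IsScalarTower R B Bq]
    (M : Submonoid B) [IsLocalization M Bq] (χ : B →ₐ[R] C) (hχ : ∀ z : M, IsUnit (χ z))
    (e : C →ₐ[R] Bq) (he : ∀ b, e (χ b) = algebraMap B Bq b) : Algebra.FormallySmooth R Bq := by
  let e₁ : Bq →ₐ[R] C := IsLocalization.liftAlgHom (M := M) (f := χ) hχ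
  have h : e.comp e₁ = AlgHom.id R Bq := by
    refine AlgHom.coe_ringHom_injective (IsLocalization.ringHom_ext M (RingHom.ext fun b => ?_))
    show e (e₁ (algebraMap B Bq b)) = algebraMap B Bq b
    rw [show e₁ (algebraMap B Bq b) = χ b from IsLocalization.lift_eq _ _, he]
  rw [Algebra.FormallySmooth.iff_comp_surjective]
  intro T _ _ J hJ g
  obtain ⟨g', hg'⟩ := Algebra.FormallySmooth.comp_surjective R C J hJ (g.comp e)
  exact ⟨g'.comp e₁, by rw [← AlgHom.comp_assoc, hg', AlgHom.comp_assoc, h, AlgHom.comp_id]⟩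

/-- Extra relations vanish in a flat local algebra. -/
theorem relations_vanish {R P C : Type u} [CommRing R] [CommRing P] [Algebra R P] [CommRing C] [IsLocalRing C]
    [Algebra R C] [Module.Flat R C] (π r : R) (hr : ∀ x : R, π ^ 2 * x = 0 → π * (r * x) = 0) (χ : P →ₐ[R] C)
    (hru : IsUnit (algebraMap R C r)) (hπ : algebraMap R C π ∈ IsLocalRing.maximalIdeal C) {ι : Type} [Finite ι]
    (K : Ideal P) (hK : ∀ x ∈ K, χ x = 0) (F : ι → P)
    (hdiv : ∀ l, F l ∈ K ⊔ Ideal.span {algebraMap R P π ^ 3})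
    (hsq : ∀ l, algebraMap R P π * F l ∈ K ⊔ Ideal.span (Set.range F) ^ 2) :
    ∀ x ∈ K ⊔ Ideal.span (Set.range F), χ x = 0 := by
  have hF0 : Ideal.span (Set.range (χ ∘ F)) = ⊥ := by
    refine eq_zero_of_nakayama (algebraMap R C π) hπ
      (fun y hy => hru.mul_right_eq_zero.1 (torsion_flat π r hr y hy)) _
      (Submodule.fg_span (Set.finite_range _)) (Ideal.span_le.2 ?_) ?_
    · rintro _ ⟨l, rfl⟩
      obtain ⟨x, hx, y, hy, hxy⟩ := Submodule.mem_sup.1 (hdiv l)
      obtain ⟨z, rfl⟩ := Ideal.mem_span_singleton'.1 hy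
      rw [SetLike.mem_coe, Function.comp_apply, ← hxy, map_add, hK x hx, zero_add, map_mul, map_pow, AlgHom.commutes]
      exact Ideal.mul_mem_left _ _ (Ideal.mem_span_singleton_self _)
    · intro x hx
      refine Submodule.span_induction (fun y hy => ?_) (by simp) (fun y z _ _ hy hz => by rw [mul_add]; exact add_mem hy hz)
        (fun a y _ hy => by rw [smul_eq_mul, mul_left_comm]; exact Ideal.mul_mem_left _ a hy) hx
      obtain ⟨l, rfl⟩ := hy
      obtain ⟨x, hx, y, hy, hxy⟩ := Submodule.mem_sup.1 (hsq l)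
      have hm := Ideal.mem_map_of_mem χ hy
      rw [Ideal.map_pow, Ideal.map_span, ← Set.range_comp] at hm
      rw [Function.comp_apply, ← χ.commutes, ← map_mul, ← hxy, map_add, hK x hx, zero_add]
      exact hm
  intro x hx
  refine (sup_le (fun y hy => RingHom.mem_ker.2 (hK y hy)) (Ideal.span_le.2 ?_) : K ⊔ Ideal.span (Set.range F) ≤ RingHom.ker χ) hx
  rintro _ ⟨l, rfl⟩
  have : χ (F l) ∈ Ideal.span (Set.range (χ ∘ F)) := Ideal.subset_span ⟨l, rfl⟩
  rwa [hF0, Submodule.mem_bot] at this

set_option maxHeartbeats 2000000 in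
/-- Smoothness at a prime containing `π`. -/
theorem formallySmooth_stalk {R : Type u} [CommRing R] [IsNoetherianRing R] {n c : ℕ} {ι : Type}
    [Finite ι] (π r : R) (hr : ∀ x : R, π ^ 2 * x = 0 → π * (r * x) = 0)
    (G : Fin c → MvPolynomial (Fin (n + c)) R) (F : ι → MvPolynomial (Fin (n + c)) R)
    (hdet : ∀ j k, pderiv (Fin.natAdd n k) (G j) - (if j = k then 1 else 0) ∈ Ideal.span {C π})
    (hdiv : ∀ l, F l ∈ Ideal.span (Set.range G) ⊔ Ideal.span {C π ^ 3})
    (hsq : ∀ l, C π * F l ∈ Ideal.span (Set.range G) ⊔ Ideal.span (Set.range F) ^ 2)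
    (Q : Ideal (MvPolynomial (Fin (n + c)) R ⧸ (Ideal.span (Set.range G) ⊔ Ideal.span (Set.range F)))) [Q.IsPrime]
    (hπQ : algebraMap R _ π ∈ Q) (hrQ : algebraMap R _ r ∉ Q) :
    Algebra.IsSmoothAt R Q := by
  classical
  let P := MvPolynomial (Fin (n + c)) R
  let I : Ideal P := Ideal.span (Set.range G) ⊔ Ideal.span (Set.range F)
  let B := P ⧸ I
  let Qt : Ideal P := Q.comap (Ideal.Quotient.mk I)
  let Pl := Localization.AtPrime Qt
  let ι' := algebraMap P Pl
  let K : Ideal Pl := Ideal.span (Set.range fun j => ι' (G j))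
  haveI : Algebra.FormallyEtale P Pl := Algebra.FormallyEtale.of_isLocalization Qt.primeCompl
  haveI : Algebra.FormallySmooth R Pl := Algebra.FormallySmooth.comp R P Pl
  haveI : Module.Flat P Pl := IsLocalization.flat Pl Qt.primeCompl
  haveI : Module.Flat R Pl := Module.Flat.trans R P Pl
  haveI : IsNoetherianRing Pl := IsLocalization.isNoetherianRing Qt.primeCompl Pl inferInstance
  have hCmax : ι' (C π) ∈ IsLocalRing.maximalIdeal Pl :=
    (IsLocalization.AtPrime.to_map_mem_maximal_iff Pl Qt _).2 hπQ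
  -- right inverse
  let M : Matrix (Fin c) (Fin c) Pl := Matrix.of fun j k => ι' (pderiv (Fin.natAdd n k) (G j))
  have hM : IsUnit M.det := by
    refine isUnit_of_map_unit (IsLocalRing.residue Pl) _ ?_
    rw [RingHom.map_det]
    have : (IsLocalRing.residue Pl).mapMatrix M = 1 := by
      refine Matrix.ext fun j k => ?_
      obtain ⟨z, hz⟩ := Ideal.mem_span_singleton'.1 (hdet j k)
      have h1 : M j k = ι' (if j = k then 1 else 0) + ι' z * ι' (C π) := by
        rw [← map_mul, ← map_add, hz, add_sub_cancel]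
        rfl
      have h2 : IsLocalRing.residue Pl (ι' (C π)) = 0 := (IsLocalRing.residue_eq_zero_iff _).2 hCmax
      rw [RingHom.mapMatrix_apply, Matrix.map_apply, h1, map_add, map_mul, h2, mul_zero, add_zero, Matrix.one_apply]
      split_ifs <;> simp
    rw [this, Matrix.det_one]
    exact isUnit_one
  let W : Matrix (Fin (n + c)) (Fin c) Pl := Matrix.of fun i => Fin.append (fun _ => (0 : Fin c → Pl)) (fun k => M⁻¹ k) i
  haveI hsm : Algebra.FormallySmooth R (Pl ⧸ K) := by
    refine StrictlyStandardSmooth.formallySmooth_polynomial_quotient G W fun j k => ?_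
    have : ∑ i, ι' (pderiv i (G j)) * W i k = (M * M⁻¹) j k := by
      rw [Fin.sum_univ_add, Matrix.mul_apply]
      simp [W, M]
    show ∑ i, ι' (pderiv i (G j)) * W i k - _ ∈ _
    rw [this, Matrix.mul_nonsing_inv M hM, Matrix.one_apply, sub_self]
    exact Ideal.zero_mem _
  haveI : Nontrivial (Pl ⧸ K) := by
    refine Ideal.Quotient.nontrivial_iff.2 (ne_top_of_le_ne_top (IsLocalRing.maximalIdeal.isMaximal Pl).ne_top ?_)
    rw [Ideal.span_le]
    rintro _ ⟨j, rfl⟩
    refine (IsLocalization.AtPrime.to_map_mem_maximal_iff Pl Qt _).2 ?_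
    show Ideal.Quotient.mk I (G j) ∈ Q
    have h0 : G j ∈ Ideal.span (Set.range G) := Ideal.subset_span ⟨j, rfl⟩
    rw [(Ideal.Quotient.eq_zero_iff_mem (I := I)).2 (Ideal.mem_sup_left h0)]
    exact Q.zero_mem
  haveI : IsLocalRing (Pl ⧸ K) := .of_surjective' (Ideal.Quotient.mk K) Ideal.Quotient.mk_surjective
  haveI := Algebra.FormallySmooth.flat_of_algHom_of_isNoetherianRing (R := R) (A := Pl ⧸ K) (S := Pl) (Ideal.Quotient.mkₐ R K)
    (Ideal.Quotient.mkₐ_surjective R K)
  -- the extra relations vanish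
  let χ : P →ₐ[R] Pl ⧸ K := (Ideal.Quotient.mkₐ R K).comp (IsScalarTower.toAlgHom R P Pl)
  have hG0 : ∀ x ∈ Ideal.span (Set.range G), χ x = 0 := fun x hx =>
    (Ideal.span_le (I := RingHom.ker χ)).2 (by
      rintro _ ⟨j, rfl⟩
      exact Ideal.Quotient.eq_zero_iff_mem.2 (Ideal.subset_span ⟨j, rfl⟩)) hx
  have hru : IsUnit (algebraMap R (Pl ⧸ K) r) := by
    rw [← χ.commutes]
    exact (IsLocalization.map_units Pl (⟨algebraMap R P r, hrQ⟩ : Qt.primeCompl)).map (Ideal.Quotient.mk K)
  have hKmax : K ≤ IsLocalRing.maximalIdeal Pl :=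
    IsLocalRing.le_maximalIdeal (Ideal.Quotient.nontrivial_iff.1 inferInstance)
  have hπm : algebraMap R (Pl ⧸ K) π ∈ IsLocalRing.maximalIdeal (Pl ⧸ K) := by
    rw [← χ.commutes]
    intro hu
    obtain ⟨v, hv⟩ := hu.exists_right_inv
    obtain ⟨v, rfl⟩ := Ideal.Quotient.mk_surjective v
    have h1 : ι' (C π) * v - 1 ∈ K := Ideal.Quotient.eq.1 hv
    have h2 := sub_mem (Ideal.mul_mem_right v _ hCmax) (hKmax h1)
    rw [sub_sub_cancel] at h2
    exact (IsLocalRing.maximalIdeal.isMaximal Pl).ne_top ((Ideal.eq_top_iff_one _).2 h2)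
  have hI0 : ∀ x ∈ I, χ x = 0 :=
    relations_vanish (C := Pl ⧸ K) (P := P) π r hr χ hru hπm (Ideal.span (Set.range G)) hG0 F hdiv hsq
  let Bq := Localization.AtPrime Q
  let χB : B →ₐ[R] Pl ⧸ K := Ideal.Quotient.liftₐ I χ hI0
  let νB : P →ₐ[R] Bq := (IsScalarTower.toAlgHom R B Bq).comp (Ideal.Quotient.mkₐ R I)
  have hν : ∀ z : Qt.primeCompl, IsUnit (νB z) := fun z =>
    IsLocalization.map_units Bq (⟨Ideal.Quotient.mk I z, z.2⟩ : Q.primeCompl)
  let e' : Pl →ₐ[R] Bq := IsLocalization.liftAlgHom (M := Qt.primeCompl) (f := νB) hν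
  have he' : ∀ x, e' (ι' x) = νB x := fun x => IsLocalization.lift_eq _ x
  have hK : ∀ x ∈ K, e' x = 0 := fun x hx =>
    (Ideal.span_le (I := RingHom.ker e')).2 (by
      rintro _ ⟨j, rfl⟩
      show e' (ι' (G j)) = 0
      rw [he']
      show algebraMap B Bq (Ideal.Quotient.mk I (G j)) = 0
      have h0 : G j ∈ Ideal.span (Set.range G) := Ideal.subset_span ⟨j, rfl⟩
      rw [(Ideal.Quotient.eq_zero_iff_mem (I := I)).2 (Ideal.mem_sup_left h0), map_zero]) hx
  refine formallySmooth_of_retract (C := Pl ⧸ K) Q.primeCompl χB ?_ (Ideal.Quotient.liftₐ K e' hK) ?_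
  · rintro ⟨z, hz⟩
    obtain ⟨p, rfl⟩ := Ideal.Quotient.mk_surjective z
    exact (IsLocalization.map_units Pl (⟨p, hz⟩ : Qt.primeCompl)).map (Ideal.Quotient.mk K)
  · intro b
    obtain ⟨p, rfl⟩ := Ideal.Quotient.mk_surjective b
    exact he' p

/-- Smoothness away from `π`. -/
theorem formallySmooth_away {R A B Bl : Type u} [CommRing R] [CommRing A] [Algebra R A] [CommRing B] [Algebra R B]
    [CommRing Bl] [Algebra B Bl] [Algebra R Bl] [IsScalarTower R B Bl] (π : R)
    [IsLocalization.Away (algebraMap R B π) Bl] [Algebra.Smooth R (Localization.Away (algebraMap R A π))] (α : A →ₐ[R] B)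
    (hlift : ∀ (T : Type u) [CommRing T] [Algebra R T] (J : Ideal T), J ^ 2 = ⊥ → IsUnit (algebraMap R T π) →
      ∀ h : B →ₐ[R] T ⧸ J, ∀ k : A →ₐ[R] T, (Ideal.Quotient.mkₐ R J).comp k = h.comp α →
        ∃ g : B →ₐ[R] T, (Ideal.Quotient.mkₐ R J).comp g = h) :
    Algebra.FormallySmooth R Bl := by
  rw [Algebra.FormallySmooth.iff_comp_surjective]
  intro T _ _ J hJ h₀
  let h : B →ₐ[R] T ⧸ J := h₀.comp (IsScalarTower.toAlgHom R B Bl)
  have hnil : IsNilpotent (RingHom.ker (Ideal.Quotient.mkₐ R J).toRingHom) := by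
    refine ⟨2, ?_⟩
    show RingHom.ker (Ideal.Quotient.mk J) ^ 2 = 0
    rw [Ideal.mk_ker, hJ]; rfl
  have huB : IsUnit (algebraMap R Bl π) := by
    rw [IsScalarTower.algebraMap_apply R B Bl]
    exact IsLocalization.Away.algebraMap_isUnit _
  have hπ : IsUnit (algebraMap R T π) := by
    haveI : IsLocalHom (Ideal.Quotient.mk J) := isLocalHom_of_le_jacobson_bot J fun x hx => by
      refine Ideal.mem_jacobson_bot.2 fun y => ?_
      have h0 : x * y * (x * y) = 0 := by
        have : x * y * (x * y) ∈ J ^ 2 := by rw [sq]; exact Ideal.mul_mem_mul (J.mul_mem_right _ hx) (J.mul_mem_right _ hx)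
        rwa [hJ, Submodule.mem_bot] at this
      exact IsUnit.of_mul_eq_one (1 - x * y) (by linear_combination (-1 : T) * h0)
    refine isUnit_of_map_unit (Ideal.Quotient.mk J) _ ?_
    have := huB.map h₀
    rwa [AlgHom.commutes] at this
  let Aa := Localization.Away (algebraMap R A π)
  have hua : ∀ z : Submonoid.powers (algebraMap R A π), IsUnit ((h.comp α) z) := by
    rintro ⟨_, m, rfl⟩
    show IsUnit (h (α (algebraMap R A π ^ m)))
    rw [map_pow, map_pow, AlgHom.commutes, AlgHom.commutes]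
    exact ((hπ.map (Ideal.Quotient.mk J))).pow m
  let ha : Aa →ₐ[R] T ⧸ J := IsLocalization.liftAlgHom (M := Submonoid.powers (algebraMap R A π)) (f := h.comp α) hua
  let ka : Aa →ₐ[R] T := Algebra.FormallySmooth.liftOfSurjective ha (Ideal.Quotient.mkₐ R J) Ideal.Quotient.mk_surjective hnil
  obtain ⟨g, hg⟩ := hlift T J hJ hπ h (ka.comp (IsScalarTower.toAlgHom R A Aa)) (by
    refine AlgHom.ext fun x => ?_
    show Ideal.Quotient.mkₐ R J (ka (algebraMap A Aa x)) = _
    exact (Algebra.FormallySmooth.liftOfSurjective_apply ha (Ideal.Quotient.mkₐ R J) Ideal.Quotient.mk_surjective hnil _).trans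
      (IsLocalization.lift_eq _ _))
  have hug : ∀ z : Submonoid.powers (algebraMap R B π), IsUnit (g z) := by
    rintro ⟨_, m, rfl⟩
    show IsUnit (g (algebraMap R B π ^ m))
    rw [map_pow, AlgHom.commutes]
    exact hπ.pow m
  refine ⟨IsLocalization.liftAlgHom (M := Submonoid.powers (algebraMap R B π)) (f := g) hug, ?_⟩
  refine AlgHom.coe_ringHom_injective (IsLocalization.ringHom_ext (Submonoid.powers (algebraMap R B π)) (RingHom.ext fun b => ?_))
  show Ideal.Quotient.mk J (IsLocalization.lift _ (algebraMap B Bl b)) = h₀ (algebraMap B Bl b)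
  rw [IsLocalization.lift_eq]
  exact DFunLike.congr_fun hg b

set_option maxHeartbeats 800000 in
theorem exists_desingularization {R Λ A : Type u} [CommRing R] [IsNoetherianRing R] [CommRing Λ]
    [Algebra R Λ] (π : R) (hΛ : ∀ x : Λ, π ^ 2 • x = 0 → π • x = 0) [CommRing A] [Algebra R A]
    (φ : A →ₐ[R] Λ)
    (hπ : Smoothing.IsStrictlyStandard R A (algebraMap R A π))
    (ρ : A →ₐ[R] R ⧸ Ideal.span {π ^ 4})
    (hρ : ∀ (a : A) (r : R), Ideal.Quotient.mk (Ideal.span {π ^ 4}) r = ρ a →
      algebraMap R Λ r - φ a ∈ Ideal.span {algebraMap R Λ (π ^ 4)}) :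
    ∃ (B : Type u) (_ : CommRing B) (_ : Algebra R B), Algebra.FinitePresentation R B ∧
      ∃ (α : A →ₐ[R] B) (β : B →ₐ[R] Λ), β.comp α = φ ∧
        ∀ r : R, (∀ x : R, π ^ 2 * x = 0 → π * (r * x) = 0) →
          algebraMap R B r ∈ Smoothing.singularIdeal R B := by
  classical
  haveI := (StrictlyStandardSmooth.smooth_and_stablyFree _ hπ).1
  obtain ⟨⟨n, m, c, hcn, hcm, rel, hom, surj, ker_eq⟩, hmin, hkill⟩ := hπ
  dsimp only [Smoothing.KillsTail] at hmin hkill
  let lead : Fin c → Fin m := Fin.castLE hcm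
  have hrel0 : ∀ j, hom (rel j) = 0 := fun j =>
    (ker_eq.ge (Ideal.subset_span ⟨j, rfl⟩) : rel j ∈ RingHom.ker hom.toRingHom)
  choose a ha using fun i => Ideal.Quotient.mk_surjective (ρ (hom (X i)))
  have hev : ∀ p, hom p = 0 → ∃ e, aeval a p = π ^ 4 * e := fun p hp => by
    obtain ⟨e, he⟩ := Ideal.mem_span_singleton'.1 (eval_mem_pow hom ρ a ha p hp)
    exact ⟨e, by rw [← he, mul_comm]⟩
  choose e he using fun j => hev _ (hrel0 j)
  obtain ⟨WA, hWA⟩ := exists_matrix_mul_eq_smul (fun j i => hom (pderiv i (rel (lead j)))) (algebraMap R A π) (by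
    refine SetLike.le_def.1 (Ideal.span_mono ?_) hmin
    rintro _ ⟨cols, rfl⟩
    refine ⟨cols, ?_⟩
    simp only [Smoothing.jacobianMinor, AlgHom.map_det]
    rfl)
  choose W' hW' using fun i k => surj (WA i k)
  let J : Fin m → Fin n → R := fun j i => aeval a (pderiv i (rel j))
  let W : Fin n → Fin c → R := fun i k => aeval a (W' i k)
  have hJW : ∀ j k, ∃ M, ∑ i, J (lead j) i * W i k = π * ((if j = k then 1 else 0) + π ^ 3 * M) := by
    intro j k
    obtain ⟨M, hM⟩ := hev (∑ i, pderiv i (rel (lead j)) * W' i k - C π * if j = k then 1 else 0) (by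
      have h := congrFun (congrFun hWA j) k
      rw [Matrix.mul_apply, Matrix.smul_apply, Matrix.one_apply] at h
      rw [map_sub, map_sum, map_mul, ← MvPolynomial.algebraMap_eq, AlgHom.commutes]
      simp only [map_mul, hW']
      rw [sub_eq_zero]
      refine h.trans ?_
      split_ifs <;> simp)
    refine ⟨M, ?_⟩
    have hM' : ∑ i, J (lead j) i * W i k - π * (if j = k then 1 else 0) = π ^ 4 * M := by
      rw [← hM]
      simp only [map_sub, map_sum, map_mul, aeval_C, Algebra.algebraMap_self, RingHom.id_apply, J, W]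
      split_ifs <;> simp
    linear_combination hM'
  choose M hM using hJW
  let S : Fin n → (MvPolynomial (Fin (n + c)) R) := fun i => X (Fin.castAdd c i)
  let T : Fin c → (MvPolynomial (Fin (n + c)) R) := fun k => X (Fin.natAdd n k)
  let z : Fin n → (MvPolynomial (Fin (n + c)) R) := fun i => C π * S i + ∑ k, C (W i k) * T k
  let xv : Fin n → (MvPolynomial (Fin (n + c)) R) := fun i => C (a i) + C π ^ 3 * z i
  let F : Fin m → (MvPolynomial (Fin (n + c)) R) := fun j => aeval xv (rel j)
  have hF : ∀ j, ∃ q : (MvPolynomial (Fin (n + c)) R), F j = C π ^ 4 * C (e j) + C π ^ 3 * ∑ i, C (J j i) * z i + C π ^ 6 * q := by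
    intro j
    obtain ⟨q, hq⟩ := taylor (fun i => (C (a i) : (MvPolynomial (Fin (n + c)) R))) z (C π ^ 3) (rel j)
    refine ⟨q, ?_⟩
    have hC : ∀ p : MvPolynomial (Fin n) R, aeval (fun i => (C (a i) : (MvPolynomial (Fin (n + c)) R))) p = C (aeval a p) := fun p => by
      exact (comp_aeval_apply a (Algebra.ofId R (MvPolynomial (Fin (n + c)) R)) p).symm
    simp only [F, xv, hq, hC, he, map_mul, map_pow, J, ← pow_mul]
  choose q hq using hF
  let G : Fin c → (MvPolynomial (Fin (n + c)) R) := fun j => C (e (lead j)) + ∑ i, C (J (lead j) i) * S i +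
    ∑ k, C ((if j = k then 1 else 0) + π ^ 3 * M j k) * T k + C π ^ 2 * q (lead j)
  have hFG : ∀ j, F (lead j) = C π ^ 4 * G j := by
    intro j
    have e1 : ∑ i, C (J (lead j) i) * z i = C π * ∑ i, C (J (lead j) i) * S i +
        C π * ∑ k, C ((if j = k then 1 else 0) + π ^ 3 * M j k) * T k := by
      simp only [z, mul_add, Finset.mul_sum, Finset.sum_add_distrib]
      congr 1
      · exact Finset.sum_congr rfl fun i _ => by ring
      · rw [Finset.sum_comm]
        refine Finset.sum_congr rfl fun k _ => ?_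
        simp only [← mul_assoc, ← map_mul, ← Finset.sum_mul, ← map_sum]
        rw [hM]
    rw [hq, e1]
    simp only [G]
    ring
  let I : Ideal (MvPolynomial (Fin (n + c)) R) := Ideal.span (Set.range G) ⊔ Ideal.span (Set.range F)
  let B := (MvPolynomial (Fin (n + c)) R) ⧸ I
  haveI hfp : Algebra.FinitePresentation R B := Algebra.FinitePresentation.of_surjective (f := Ideal.Quotient.mkₐ R I)
    Ideal.Quotient.mk_surjective (by
      rw [show RingHom.ker (Ideal.Quotient.mkₐ R I).toRingHom = I from Ideal.mk_ker]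
      exact Submodule.FG.sup (Submodule.fg_span (Set.finite_range _)) (Submodule.fg_span (Set.finite_range _)))
  let α' : MvPolynomial (Fin n) R →ₐ[R] B := (Ideal.Quotient.mkₐ R I).comp (aeval xv)
  have hα' : ∀ p ∈ RingHom.ker hom.toRingHom, α' p = 0 := by
    intro p hp
    rw [ker_eq] at hp
    refine (Ideal.span_le (I := RingHom.ker α')).2 ?_ hp
    rintro _ ⟨j, rfl⟩
    exact Ideal.Quotient.eq_zero_iff_mem.2 (Ideal.mem_sup_right (Ideal.subset_span ⟨j, rfl⟩))
  let α : A →ₐ[R] B := AlgHom.liftOfSurjective hom surj α' hα'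
  have hα : ∀ p, α (hom p) = α' p := fun p => AlgHom.liftOfSurjective_apply hom surj α' hα' p
  -- the map to `Λ`
  choose μ hμ' using fun i => Ideal.mem_span_singleton'.1 (hρ (hom (X i)) (a i) (ha i))
  let π' : Λ := algebraMap R Λ π
  have hΛ' : ∀ x, π' ^ 2 * x = 0 → π' * x = 0 := fun x h => by
    rw [← Algebra.smul_def]; exact hΛ x (by rw [Algebra.smul_def, map_pow]; exact h)
  have hμ : ∀ i, algebraMap R Λ (a i) + π' ^ 4 * (-μ i) = φ (hom (X i)) := fun i => by
    have h := hμ' i
    rw [map_pow] at h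
    linear_combination -h
  let w₀ : Fin (n + c) → Λ := Fin.append (fun i => -μ i) 0
  let η : Fin c → Λ := fun j => aeval w₀ (G j)
  let w : Fin (n + c) → Λ := Fin.append (fun i => -μ i) (fun j => -η j)
  have hwF : ∀ (t : Fin c → Λ), (∀ k, π' ^ 3 * t k = 0) → ∀ j,
      aeval (Fin.append (fun i => -μ i) t) (F j) = 0 := by
    intro t ht j
    have : (aeval (Fin.append (fun i => -μ i) t) : (MvPolynomial (Fin (n + c)) R) →ₐ[R] Λ).comp (aeval xv) = φ.comp hom := by
      refine MvPolynomial.algHom_ext fun i => ?_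
      show aeval _ (aeval xv (X i)) = φ (hom (X i))
      rw [aeval_X, ← hμ i]
      simp only [xv, z, S, T, map_add, map_mul, map_pow, map_sum, aeval_C, aeval_X, Fin.append_left, Fin.append_right]
      rw [mul_add, Finset.mul_sum, Finset.sum_eq_zero fun k _ => by rw [mul_left_comm, ht, mul_zero], add_zero,
        ← mul_assoc, ← pow_succ]
    have := DFunLike.congr_fun this (rel j)
    exact this.trans (by rw [AlgHom.comp_apply, hrel0, map_zero])
  have hη : ∀ j, π' * η j = 0 := by
    intro j
    have h := hwF 0 (fun k => mul_zero _) (lead j)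
    rw [hFG, map_mul, map_pow, aeval_C] at h
    have h2 : π' ^ 2 * (π' ^ 2 * η j) = 0 := by rw [← mul_assoc, ← pow_add]; exact h
    have h3 : π' ^ 2 * (π' * η j) = 0 := by rw [← hΛ' _ h2]; ring
    have h4 : π' ^ 2 * η j = 0 := by rw [← hΛ' _ h3]; ring
    exact hΛ' _ h4
  have hG0 : ∀ j, aeval w (G j) = 0 := by
    intro j
    have hq' : π' ^ 2 * aeval w (q (lead j)) = π' ^ 2 * aeval w₀ (q (lead j)) := by
      refine mul_aeval_eq_of_mul_eq w w₀ (π' ^ 2) (fun i => ?_) _
      induction i using Fin.addCases with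
      | left i => simp [w, w₀]
      | right k => simp [w, w₀, sq, mul_assoc, hη]
    have h0 : η j = aeval w₀ (G j) := rfl
    simp only [G, T, S, map_add, map_mul, map_pow, map_sum, aeval_C, aeval_X, w, w₀, Fin.append_left,
      Fin.append_right, Pi.zero_apply, mul_zero, Finset.sum_const_zero, add_zero] at h0 hq' ⊢
    rw [hq']
    have hsum : ∑ k, (algebraMap R Λ (if j = k then 1 else 0) + π' ^ 3 * algebraMap R Λ (M j k)) * -η k = -η j := by
      rw [Finset.sum_congr rfl fun k _ => show _ = if j = k then -η k else 0 by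
        rw [add_mul, show π' ^ 3 * algebraMap R Λ (M j k) * -η k = -(π' ^ 2 * algebraMap R Λ (M j k)) * (π' * η k) by ring,
          hη, mul_zero, add_zero]
        split_ifs <;> simp]
      simp
    rw [hsum, h0]
    ring
  have hIw : ∀ x ∈ I, aeval w x = 0 := fun x hx =>
    (sup_le ((Ideal.span_le (I := RingHom.ker (aeval w : (MvPolynomial (Fin (n + c)) R) →ₐ[R] Λ))).2 (by rintro _ ⟨j, rfl⟩; exact hG0 j))
      (Ideal.span_le.2 (by
        rintro _ ⟨j, rfl⟩
        exact hwF _ (fun k => by rw [mul_neg, pow_succ, mul_assoc, hη, mul_zero, neg_zero]) j)) : I ≤ _) hx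
  let β : B →ₐ[R] Λ := Ideal.Quotient.liftₐ I (aeval w) hIw
  refine ⟨B, inferInstance, inferInstance, hfp, α, β, ?_, fun r hr => ?_⟩
  · refine AlgHom.ext fun x => ?_
    obtain ⟨p, rfl⟩ := surj x
    show β (α (hom p)) = φ (hom p)
    rw [hα]
    show aeval w (aeval xv p) = φ (hom p)
    have : (aeval w : (MvPolynomial (Fin (n + c)) R) →ₐ[R] Λ).comp (aeval xv) = φ.comp hom := by
      refine MvPolynomial.algHom_ext fun i => ?_
      show aeval w (aeval xv (X i)) = φ (hom (X i))
      rw [aeval_X, ← hμ i]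
      simp only [xv, z, S, T, w, map_add, map_mul, map_pow, map_sum, aeval_C, aeval_X, Fin.append_left, Fin.append_right]
      rw [mul_add, Finset.mul_sum, Finset.sum_eq_zero fun k _ => by rw [mul_left_comm, pow_succ, mul_neg, mul_assoc, hη]; simp, add_zero,
        ← mul_assoc, ← pow_succ]
    exact DFunLike.congr_fun this p
  refine (PrimeSpectrum.mem_vanishingIdeal _ _).2 fun Q hQ => ?_
  haveI := Q.2
  by_contra hrQ
  refine hQ ?_
  by_cases hπQ : algebraMap R B π ∈ Q.asIdeal
  · refine formallySmooth_stalk π r hr G F (fun j k => ?_) (fun l => ?_) (fun l => ?_) Q.asIdeal hπQ hrQ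
    · rw [Ideal.mem_span_singleton]
      have h1 : ∀ i : Fin n, pderiv (Fin.natAdd n k) (X (Fin.castAdd c i) : MvPolynomial (Fin (n + c)) R) = 0 := fun i =>
        pderiv_X_of_ne (by intro h; have := congrArg Fin.val h; simp at this; omega)
      have h2 : ∀ k' : Fin c, pderiv (Fin.natAdd n k) (X (Fin.natAdd n k') : MvPolynomial (Fin (n + c)) R) =
          if k' = k then 1 else 0 := fun k' => by
        rw [pderiv_X]
        by_cases h : k' = k
        · subst h; simp
        · rw [Pi.single_eq_of_ne (by intro h'; exact h (Fin.natAdd_injective c n h')), if_neg h]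
      have hGd : pderiv (Fin.natAdd n k) (G j) = C ((if j = k then 1 else 0) + π ^ 3 * M j k) +
          C π ^ 2 * pderiv (Fin.natAdd n k) (q (lead j)) := by
        simp only [G, S, T]
        rw [map_add, map_add, map_add, map_sum, map_sum, pderiv_C]
        simp only [← map_pow, pderiv_C_mul, h1, h2, mul_zero, Finset.sum_const_zero, zero_add, mul_ite, mul_one,
          Finset.sum_ite_eq', Finset.mem_univ, if_true]
      rw [hGd]
      refine ⟨C π ^ 2 * C (M j k) + C π * pderiv (Fin.natAdd n k) (q (lead j)), ?_⟩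
      rw [map_add, map_mul, map_pow]
      split_ifs <;> simp <;> ring
    · refine Ideal.mem_sup_right (Ideal.mem_span_singleton.2 ⟨C π * C (e l) + ∑ i, C (J l i) * z i + C π ^ 3 * q l, ?_⟩)
      rw [hq]; ring
    · let ev : MvPolynomial (Fin n) R →ₐ[R] (MvPolynomial (Fin (n + c)) R) := aeval xv
      have hlead : ∀ j, F (lead j) ∈ Ideal.span (Set.range G) := fun j => by
        rw [hFG]; exact Ideal.mul_mem_left _ _ (Ideal.subset_span ⟨j, rfl⟩)
      by_cases hl : (l : ℕ) < c
      · refine Ideal.mem_sup_left (Ideal.mul_mem_left _ _ ?_)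
        rw [show l = lead ⟨l, hl⟩ from Fin.ext rfl]
        exact hlead _
      · have h := Ideal.mem_map_of_mem ev (hkill (C π) (hom.commutes π) l (not_lt.1 hl))
        rw [map_mul, show ev (C π) = C π from aeval_C _ _, Ideal.map_sup, Ideal.map_pow, Ideal.map_span, Ideal.map_span,
          ← Set.range_comp] at h
        refine SetLike.le_def.1 (sup_le_sup_right (Ideal.span_le.2 ?_) _) h
        rintro _ ⟨_, ⟨j, hj, rfl⟩, rfl⟩
        rw [show j = lead ⟨j, hj⟩ from Fin.ext rfl]
        exact hlead _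
  · have hfs : Algebra.FormallySmooth R (Localization.Away (algebraMap R B π)) := by
      refine formallySmooth_away π α fun U _ _ K _ hu h k hk => ?_
      let u : U := ↑hu.unit⁻¹
      have huu : algebraMap R U π * u = 1 := hu.mul_val_inv
      choose t ht using fun j => Ideal.Quotient.mk_surjective (h (Ideal.Quotient.mk I (T j)))
      let s : Fin n → U := fun i =>
        u ^ 4 * (k (hom (X i)) - algebraMap R U (a i) - algebraMap R U π ^ 3 * ∑ j, algebraMap R U (W i j) * t j)
      let g' : (MvPolynomial (Fin (n + c)) R) →ₐ[R] U := aeval (Fin.append s t)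
      have hx : g'.comp (aeval xv) = k.comp hom := by
        refine MvPolynomial.algHom_ext fun i => ?_
        show g' (aeval xv (X i)) = k (hom (X i))
        rw [aeval_X]
        simp only [g', xv, z, S, T, map_add, map_mul, map_pow, map_sum, aeval_C, aeval_X, Fin.append_left, Fin.append_right, s]
        have h4 : algebraMap R U π ^ 4 * u ^ 4 = 1 := by rw [← mul_pow, huu, one_pow]
        linear_combination (k (hom (X i)) - algebraMap R U (a i) - algebraMap R U π ^ 3 * ∑ j, algebraMap R U (W i j) * t j) * h4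
      have hF' : ∀ j, g' (F j) = 0 := fun j => by
        show g'.comp (aeval xv) (rel j) = 0
        rw [hx, AlgHom.comp_apply, hrel0, map_zero]
      have hI' : ∀ x ∈ I, g' x = 0 := fun x hx =>
        (sup_le ((Ideal.span_le (I := RingHom.ker g')).2 (by
            rintro _ ⟨j, rfl⟩
            have h' := hF' (lead j)
            rw [hFG, map_mul, map_pow, show g' (C π) = algebraMap R U π from aeval_C _ _] at h'
            exact (hu.pow 4).mul_right_eq_zero.1 h'))
          (Ideal.span_le.2 (by rintro _ ⟨j, rfl⟩; exact hF' j)) : I ≤ _) hx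
      refine ⟨Ideal.Quotient.liftₐ I g' hI', ?_⟩
      refine AlgHom.coe_ringHom_injective (Ideal.Quotient.ringHom_ext (MvPolynomial.ringHom_ext (fun r' => ?_) fun i => ?_))
      · show Ideal.Quotient.mk K (g' (algebraMap R (MvPolynomial (Fin (n + c)) R) r')) = h (Ideal.Quotient.mk I (algebraMap R (MvPolynomial (Fin (n + c)) R) r'))
        rw [AlgHom.commutes]
        exact (h.commutes r').symm
      show Ideal.Quotient.mk K (g' (X i)) = h (Ideal.Quotient.mk I (X i))
      induction i using Fin.addCases with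
      | right j => simp only [g', aeval_X, Fin.append_right]; exact ht j
      | left i =>
        have hk' : Ideal.Quotient.mk K (k (hom (X i))) = h (Ideal.Quotient.mk I (xv i)) := by
          have := DFunLike.congr_fun hk (hom (X i))
          refine this.trans ?_
          show h (α (hom (X i))) = _
          rw [hα]
          show h (Ideal.Quotient.mk I (aeval xv (X i))) = _
          rw [aeval_X]
        simp only [g', aeval_X, Fin.append_left, s, map_mul, map_sub, map_pow, map_sum, ht]
        rw [hk']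
        simp only [xv, z, map_add, map_mul, map_pow, map_sum]
        have hCC : ∀ r' : R, h (Ideal.Quotient.mk I (C r')) = Ideal.Quotient.mk K (algebraMap R U r') := fun r' =>
          h.commutes r'
        have h4 : Ideal.Quotient.mk K u ^ 4 * Ideal.Quotient.mk K (algebraMap R U π) ^ 4 = 1 := by
          rw [← mul_pow, ← map_mul, mul_comm, huu, map_one, one_pow]
        simp only [hCC]
        linear_combination h (Ideal.Quotient.mk I (S i)) * h4
    haveI := hfs
    haveI : Algebra.FinitePresentation R (Localization.Away (algebraMap R B π)) :=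
      Algebra.FinitePresentation.trans R B _
    haveI : Algebra.Smooth R (Localization.Away (algebraMap R B π)) := ⟨inferInstance, inferInstance⟩
    exact (Algebra.basicOpen_subset_smoothLocus_iff_smooth.2 inferInstance) hπQ

end Groth.Agent.CAlgH.Desingularize
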