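import Groth.Agent.CAlgH.Desingularize
import Groth.Agent.CAlgH.StandardBaseChange
import Mathlib

/-! Desingularization over an auxiliary algebra. -/

universe u

open scoped TensorProduct

namespace Groth.Agent.CAlgH.DesingularizeOver

/-- Formal smoothness at primes composes. -/
theorem isSmoothAt_comp {R D B : Type u} [CommRing R] [CommRing D] [Algebra R D] [CommRing B] [Algebra R B]
    [Algebra D B] [IsScalarTower R D B] (Q : Ideal B) [Q.IsPrime]
    [hD : Algebra.IsSmoothAt R (Q.comap (algebraMap D B))] [hB : Algebra.IsSmoothAt D Q] :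
    Algebra.IsSmoothAt R Q := by
  let Dp := Localization.AtPrime (Q.comap (algebraMap D B))
  let BQ := Localization.AtPrime Q
  letI : Algebra Dp BQ := (Localization.localRingHom _ Q (algebraMap D B) rfl).toAlgebra
  haveI : IsScalarTower D Dp BQ := IsScalarTower.of_algebraMap_eq fun x => by
    rw [RingHom.algebraMap_toAlgebra, Localization.localRingHom_to_map, ← IsScalarTower.algebraMap_apply]
  haveI : IsScalarTower R Dp BQ := IsScalarTower.of_algebraMap_eq fun r => by
    rw [IsScalarTower.algebraMap_apply R D Dp, ← IsScalarTower.algebraMap_apply D Dp BQ,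
      IsScalarTower.algebraMap_apply R D BQ]
  haveI : Algebra.FormallySmooth Dp BQ := Algebra.FormallySmooth.localization_base (Q.comap (algebraMap D B)).primeCompl
  haveI : Algebra.FormallySmooth R Dp := hD
  show Algebra.FormallySmooth R BQ
  exact Algebra.FormallySmooth.comp R Dp BQ

/-- Near a smooth point the torsion condition lifts from the base. -/
theorem exists_notMem_torsion {R D : Type u} [CommRing R] [IsNoetherianRing R] [CommRing D] [Algebra R D]
    [Algebra.FinitePresentation R D] (π : R) (hR : ∀ r : R, π ^ 2 * r = 0 → π * r = 0) (p : Ideal D) [p.IsPrime]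
    [Algebra.IsSmoothAt R p] :
    ∃ r : D, r ∉ p ∧ ∀ x : D, algebraMap R D π ^ 2 * x = 0 → algebraMap R D π * (r * x) = 0 := by
  classical
  haveI : IsNoetherianRing D := Algebra.FiniteType.isNoetherianRing R D
  obtain ⟨h, hp, hsm⟩ := Algebra.IsSmoothAt.exists_notMem_smooth R p
  let Dh := Localization.Away h
  haveI : Module.Flat R Dh := Algebra.Smooth.flat R Dh
  have key : ∀ x : D, algebraMap R D π ^ 2 * x = 0 → ∃ k : ℕ, h ^ k * (algebraMap R D π * x) = 0 := by
    intro x hx
    have h1 : algebraMap R Dh π ^ 2 * algebraMap D Dh x = 0 := by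
      rw [IsScalarTower.algebraMap_apply R D Dh, ← map_pow, ← map_mul, hx, map_zero]
    have h2 := Desingularize.torsion_flat π 1 (fun y hy => by rw [one_mul]; exact hR y hy) _ h1
    rw [map_one, one_mul, IsScalarTower.algebraMap_apply R D Dh, ← map_mul] at h2
    obtain ⟨⟨_, k, rfl⟩, hk⟩ := (IsLocalization.map_eq_zero_iff (Submonoid.powers h) Dh _).1 h2
    exact ⟨k, hk⟩
  let T : Ideal D := LinearMap.ker (LinearMap.lsmul D D (algebraMap R D π ^ 2))
  obtain ⟨g, hg⟩ := (IsNoetherian.noetherian T : T.FG)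
  choose! k hk using fun x (hx : x ∈ g) => key x (show x ∈ T from hg.le (Submodule.subset_span hx))
  refine ⟨h ^ g.sup k, fun hh => hp (‹p.IsPrime›.mem_of_pow_mem _ hh), fun x hx => ?_⟩
  have hx' : x ∈ Submodule.span D (g : Set D) := hg.ge (show x ∈ T from hx)
  refine Submodule.span_induction (p := fun x _ => algebraMap R D π * (h ^ g.sup k * x) = 0) (fun y hy => ?_) (by simp)
    (fun y z _ _ hy hz => by rw [mul_add, mul_add, hy, hz, add_zero])
    (fun r y _ hy => by rw [smul_eq_mul, mul_left_comm (h ^ g.sup k), mul_left_comm, hy, mul_zero]) hx'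
  obtain ⟨d, hd⟩ := Nat.exists_eq_add_of_le (Finset.le_sup (f := k) hy)
  rw [hd, pow_add, show algebraMap R D π * (h ^ k y * h ^ d * y) = h ^ d * (h ^ k y * (algebraMap R D π * y)) by ring,
    hk y hy, mul_zero]

theorem exists_strictly_standard {R Λ A D : Type u} [CommRing R] [IsNoetherianRing R]
    [CommRing Λ] [Algebra R Λ] (π : R) (hR : ∀ r : R, π ^ 2 * r = 0 → π * r = 0)
    (hΛ : ∀ x : Λ, π ^ 2 • x = 0 → π • x = 0) [CommRing A] [Algebra R A]
    [Algebra.FinitePresentation R A] [CommRing D] [Algebra R D] [Algebra.FinitePresentation R D]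
    (φ : A →ₐ[R] Λ) (δ : D →ₐ[R] Λ) (hπ : Smoothing.IsStrictlyStandard R A (algebraMap R A π))
    (ψ : A →ₐ[R] D ⧸ Ideal.span {algebraMap R D (π ^ 4)})
    (hψ : ∀ (a : A) (d : D), Ideal.Quotient.mk (Ideal.span {algebraMap R D (π ^ 4)}) d = ψ a →
      δ d - φ a ∈ Ideal.span {algebraMap R Λ (π ^ 4)}) :
    ∃ (B : Type u) (_ : CommRing B) (_ : Algebra R B) (_ : Algebra D B) (_ : IsScalarTower R D B),
      Algebra.FinitePresentation R B ∧
      ∃ (α : A →ₐ[R] B) (β : B →ₐ[R] Λ), β.comp α = φ ∧
        β.comp (IsScalarTower.toAlgHom R D B) = δ ∧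
        (Smoothing.singularIdeal R D).map (algebraMap D B) ≤ Smoothing.singularIdeal D B ∧
        (Smoothing.singularIdeal R D).map (algebraMap D B) ≤ Smoothing.singularIdeal R B := by
  haveI : IsNoetherianRing D := Algebra.FiniteType.isNoetherianRing R D
  letI : Algebra D Λ := δ.toRingHom.toAlgebra
  haveI : IsScalarTower R D Λ := IsScalarTower.of_algebraMap_eq fun r => (δ.commutes r).symm
  let π' := algebraMap R D π
  have hsm : ∀ x : Λ, π' • x = π • x := fun x => algebraMap_smul D π x
  have hπ' : Smoothing.IsStrictlyStandard D (D ⊗[R] A) (algebraMap D (D ⊗[R] A) π') := by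
    have h := (StandardBaseChange.isStandard_baseChange D (algebraMap R A π)).2 hπ
    rwa [Algebra.TensorProduct.algebraMap_apply, Algebra.algebraMap_self, RingHom.id_apply,
      show π' ⊗ₜ[R] (1 : A) = (1 : D) ⊗ₜ[R] algebraMap R A π by
        rw [show π' = π • (1 : D) from Algebra.algebraMap_eq_smul_one π, Algebra.algebraMap_eq_smul_one π,
          TensorProduct.smul_tmul]]
  have hI : Ideal.span {π' ^ 4} = Ideal.span {algebraMap R D (π ^ 4)} := by rw [map_pow]
  let e : D ⧸ Ideal.span {algebraMap R D (π ^ 4)} →ₐ[R] D ⧸ Ideal.span {π' ^ 4} := (Ideal.quotientEquivAlgOfEq R hI.symm).toAlgHom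
  let φ' : D ⊗[R] A →ₐ[D] Λ := Algebra.TensorProduct.lift (Algebra.ofId D Λ) φ fun _ _ => Commute.all _ _
  let ρ : D ⊗[R] A →ₐ[D] D ⧸ Ideal.span {π' ^ 4} :=
    Algebra.TensorProduct.lift (Algebra.ofId D _) (e.comp ψ) fun _ _ => Commute.all _ _
  obtain ⟨B, _, _, hfp, α, β, hβα, hsing⟩ := Desingularize.exists_desingularization (R := D) (Λ := Λ) π'
    (fun x hx => by
      rw [hsm] at *
      refine hΛ x ?_
      rw [pow_two, mul_smul] at hx ⊢
      rwa [hsm, hsm] at hx)
    φ' hπ' ρ (by
      intro z r hr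
      have hDK : ∀ x, x ∈ Ideal.span {algebraMap R Λ (π ^ 4)} → x ∈ Ideal.span {algebraMap D Λ (π' ^ 4)} := fun x hx => by
        rwa [show algebraMap D Λ (π' ^ 4) = algebraMap R Λ (π ^ 4) by
          rw [← map_pow, ← IsScalarTower.algebraMap_apply]]
      refine hDK _ ?_
      induction z using TensorProduct.induction_on generalizing r with
      | zero =>
        rw [map_zero, Ideal.Quotient.eq_zero_iff_mem, hI] at hr
        rw [map_zero, sub_zero]
        obtain ⟨w, rfl⟩ := Ideal.mem_span_singleton'.1 hr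
        rw [map_mul, ← IsScalarTower.algebraMap_apply]
        exact Ideal.mul_mem_left _ _ (Ideal.mem_span_singleton_self _)
      | tmul d a =>
        obtain ⟨d', hd'⟩ := Ideal.Quotient.mk_surjective (ψ a)
        have h1 : r - d * d' ∈ Ideal.span {π' ^ 4} := by
          rw [← Ideal.Quotient.eq_zero_iff_mem, map_sub, map_mul, hr, sub_eq_zero]
          show ρ (d ⊗ₜ a) = _
          simp only [ρ, Algebra.TensorProduct.lift_tmul, AlgHom.comp_apply, ← hd']
          rfl
        rw [hI] at h1
        obtain ⟨w, hw⟩ := Ideal.mem_span_singleton'.1 h1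
        have h2 := hψ a d' hd'
        have e1 : algebraMap D Λ r - φ' (d ⊗ₜ a) =
            algebraMap D Λ w * algebraMap R Λ (π ^ 4) + algebraMap D Λ d * (δ d' - φ a) := by
          rw [show r = w * algebraMap R D (π ^ 4) + d * d' by linear_combination -hw, map_add, map_mul, map_mul,
            ← IsScalarTower.algebraMap_apply]
          simp only [φ', Algebra.TensorProduct.lift_tmul, Algebra.ofId_apply]
          show _ + algebraMap D Λ d * δ d' - _ = _
          ring
        rw [e1]
        exact add_mem (Ideal.mul_mem_left _ _ (Ideal.mem_span_singleton_self _)) (Ideal.mul_mem_left _ _ h2)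
      | add x y hx hy =>
        obtain ⟨r₁, h₁⟩ := Ideal.Quotient.mk_surjective (ρ x)
        have h₂ : Ideal.Quotient.mk (Ideal.span {π' ^ 4}) (r - r₁) = ρ y := by
          rw [map_sub, hr, h₁, map_add, add_sub_cancel_left]
        have := add_mem (hx r₁ h₁) (hy (r - r₁) h₂)
        rw [map_sub] at this
        rw [map_add]
        convert this using 1
        ring)
  letI : Algebra R B := ((algebraMap D B).comp (algebraMap R D)).toAlgebra
  haveI : IsScalarTower R D B := IsScalarTower.of_algebraMap_eq' rfl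
  haveI : Algebra.FinitePresentation R B := Algebra.FinitePresentation.trans R D B
  refine ⟨B, inferInstance, inferInstance, inferInstance, inferInstance, inferInstance,
    (α.restrictScalars R).comp Algebra.TensorProduct.includeRight, β.restrictScalars R, ?_, ?_, ?_⟩
  · refine AlgHom.ext fun a => ?_
    show β (α (1 ⊗ₜ a)) = φ a
    rw [← AlgHom.comp_apply, hβα]
    simp [φ']
  · exact AlgHom.ext fun d => β.commutes d
  have hDB : ∀ (Q : Ideal B) [Q.IsPrime], Algebra.IsSmoothAt R (Q.comap (algebraMap D B)) → Algebra.IsSmoothAt D Q := by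
    intro Q _ hs
    obtain ⟨r, hr, hr'⟩ := exists_notMem_torsion π hR (Q.comap (algebraMap D B))
    by_contra hns
    exact hr ((PrimeSpectrum.mem_vanishingIdeal _ _).1 (hsing r hr') ⟨Q, inferInstance⟩ hns)
  constructor
  · rw [Ideal.map_le_iff_le_comap]
    intro h hh
    refine (PrimeSpectrum.mem_vanishingIdeal _ _).2 fun Q hQ => ?_
    haveI := Q.2
    by_contra hhQ
    refine hQ (hDB Q.asIdeal ?_)
    by_contra hns
    exact hhQ ((PrimeSpectrum.mem_vanishingIdeal _ _).1 hh ⟨Q.asIdeal.comap (algebraMap D B), inferInstance⟩ hns)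
  · rw [Ideal.map_le_iff_le_comap]
    intro h hh
    refine (PrimeSpectrum.mem_vanishingIdeal _ _).2 fun Q hQ => ?_
    haveI := Q.2
    by_contra hhQ
    refine hQ ?_
    haveI hD : Algebra.IsSmoothAt R (Q.asIdeal.comap (algebraMap D B)) := by
      by_contra hns
      exact hhQ ((PrimeSpectrum.mem_vanishingIdeal _ _).1 hh ⟨Q.asIdeal.comap (algebraMap D B), inferInstance⟩ hns)
    haveI := hDB Q.asIdeal hD
    exact isSmoothAt_comp (D := D) Q.asIdeal

end Groth.Agent.CAlgH.DesingularizeOver
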