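import Groth.Agent.CAlgH.DiagonalSmooth

/-!
# Local algebras with perfect diagonal are localizations of smooth algebras
-/

universe u

set_option autoImplicit false

open TensorProduct

namespace Groth.Agent.CAlgH.DiagonalSmooth

/-- A local essentially finite type flat algebra with perfect diagonal is a localization of a smooth
algebra. -/
theorem exists_smooth_model (A B : Type u) [CommRing A] [CommRing B] [Algebra A B]
    [IsNoetherianRing A] [IsLocalRing B] [Module.Flat A B] [Algebra.EssFiniteType A B]
    [Algebra (B ⊗[A] B) B] (hmul : ∀ x y : B, algebraMap (B ⊗[A] B) B (x ⊗ₜ[A] y) = x * y)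
    (h : DRing.HasFiniteTorDim (B ⊗[A] B) B) :
    ∃ (C : Type u) (_ : CommRing C) (_ : Algebra A C) (_ : Algebra C B) (_ : IsScalarTower A C B)
      (q : Ideal C) (_ : q.IsPrime), Algebra.Smooth A C ∧ IsLocalization.AtPrime B q := by
  let C := Algebra.EssFiniteType.subalgebra A B
  have : Algebra.FinitePresentation A C := Algebra.FinitePresentation.of_finiteType.1 inferInstance
  let q : Ideal C := (IsLocalRing.maximalIdeal B).comap (algebraMap C B)
  have hM : Algebra.EssFiniteType.submonoid A B = q.primeCompl := by
    ext x
    show IsUnit (algebraMap C B x) ↔ algebraMap C B x ∉ IsLocalRing.maximalIdeal B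
    rw [IsLocalRing.mem_maximalIdeal, mem_nonunits_iff, not_not]
  have hloc : IsLocalization q.primeCompl B := hM ▸ Algebra.EssFiniteType.isLocalization A B
  have := isSmoothAt hmul h q.primeCompl q le_rfl
  obtain ⟨f, hf, hsm⟩ := Algebra.IsSmoothAt.exists_notMem_smooth A q
  let _ : Algebra (Localization.Away f) B := IsLocalization.localizationAlgebraOfSubmonoidLe
    (Localization.Away f) B (Submonoid.powers f) q.primeCompl (Submonoid.powers_le.2 hf)
  have := IsLocalization.localization_isScalarTower_of_submonoid_le (Localization.Away f) B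
    (Submonoid.powers f) q.primeCompl (Submonoid.powers_le.2 hf)
  have : IsScalarTower A (Localization.Away f) B := .to₁₃₄ A C (Localization.Away f) B
  have hloc' := IsLocalization.isLocalization_of_submonoid_le (Localization.Away f) B
    (Submonoid.powers f) q.primeCompl (Submonoid.powers_le.2 hf)
  let q' : Ideal (Localization.Away f) :=
    (IsLocalRing.maximalIdeal B).comap (algebraMap (Localization.Away f) B)
  refine ⟨Localization.Away f, inferInstance, inferInstance, inferInstance, inferInstance, q',
    inferInstance, hsm, ?_⟩
  refine @IsLocalization.isLocalization_of_is_exists_mul_mem _ _ B _ _ _ q'.primeCompl hloc' ?_ ?_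
  · rintro _ ⟨c, hc, rfl⟩
    show algebraMap (Localization.Away f) B (algebraMap C _ c) ∉ IsLocalRing.maximalIdeal B
    rw [← IsScalarTower.algebraMap_apply]
    exact hc
  · rintro ⟨z, hz⟩
    obtain ⟨c, ⟨s, hs⟩, rfl⟩ := IsLocalization.exists_mk'_eq (Submonoid.powers f) z
    refine ⟨algebraMap C _ s, c, ?_, ((mul_comm _ _).trans (IsLocalization.mk'_spec _ c ⟨s, hs⟩)).symm⟩
    show c ∉ q
    intro hc
    apply hz
    show algebraMap (Localization.Away f) B _ ∈ IsLocalRing.maximalIdeal B
    have : IsUnit (algebraMap C (Localization.Away f) s) := IsLocalization.map_units _ ⟨s, hs⟩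
    rw [← Ideal.mul_unit_mem_iff_mem _ (this.map (algebraMap (Localization.Away f) B)), ← map_mul,
      show IsLocalization.mk' (Localization.Away f) c ⟨s, hs⟩ * algebraMap C _ s = algebraMap C _ c from
        IsLocalization.mk'_spec _ _ _, ← IsScalarTower.algebraMap_apply]
    exact hc

end Groth.Agent.CAlgH.DiagonalSmooth
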