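import Groth.Agent.CAlgH.FlatDimension
import Mathlib.RingTheory.RingHom.Flat

/-!
# Perfect diagonal implies regular geometric fibres
-/

universe u

set_option autoImplicit false

open TensorProduct Function

namespace Groth.Agent.CAlgH.DiagonalRegular

open FlatDimension

section Tensor

variable {A C B M : Type u} [CommRing A] [CommRing C] [Algebra A C] [CommRing B] [Algebra A B]
  [CommRing M] [Algebra A M] [Algebra B M] [IsScalarTower A B M]

attribute [local instance] Algebra.TensorProduct.rightAlgebra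

theorem flat_right [Module.Flat A C] : Module.Flat B (C ⊗[A] B) := by
  have h := RingHom.Flat.comp (f := (Algebra.TensorProduct.lid A B).symm.toRingEquiv.toRingHom)
    (g := (Algebra.TensorProduct.map (Algebra.ofId A C) (AlgHom.id A B)).toRingHom)
    (.of_bijective (AlgEquiv.bijective _))
    (RingHom.Flat.tensorProductMap (RingHom.flat_algebraMap_iff.2 ‹_›) (RingHom.Flat.id B))
  rw [← RingHom.flat_algebraMap_iff]
  convert h using 1
  ext b
  simp [RingHom.algebraMap_toAlgebra]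

theorem flatDimLE_tensor [Module.Flat A C] [Algebra (C ⊗[A] B) (C ⊗[A] M)]
    (hmap : ∀ c b, algebraMap (C ⊗[A] B) (C ⊗[A] M) (c ⊗ₜ b) = c ⊗ₜ algebraMap B M b)
    {n : ℕ} {X : Type u} [AddCommGroup X] [Module (C ⊗[A] B) X] [Module B X]
    (hX : ∀ (b : B) (x : X), ((1 : C) ⊗ₜ[A] b) • x = b • x) [Module.Flat B X]
    (h : FlatDimLE (C ⊗[A] B) n X) :
    FlatDimLE (C ⊗[A] M) n ((C ⊗[A] M) ⊗[C ⊗[A] B] X) := by
  let _ : Algebra B (C ⊗[A] M) := ((algebraMap M (C ⊗[A] M)).comp (algebraMap B M)).toAlgebra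
  have : IsScalarTower B M (C ⊗[A] M) := .of_algebraMap_eq fun _ => rfl
  have : IsScalarTower B (C ⊗[A] B) (C ⊗[A] M) := .of_algebraMap_eq fun b => by
    show (1 : C) ⊗ₜ[A] algebraMap B M b = algebraMap (C ⊗[A] B) (C ⊗[A] M) ((1 : C) ⊗ₜ[A] b)
    rw [hmap]
  have : IsScalarTower B (C ⊗[A] B) X := .of_algebraMap_smul fun b x => hX b x
  have : IsScalarTower C (C ⊗[A] B) (C ⊗[A] M) := .of_algebraMap_eq fun c => by
    show c ⊗ₜ[A] (1 : M) = algebraMap (C ⊗[A] B) (C ⊗[A] M) (c ⊗ₜ[A] (1 : B))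
    rw [hmap, map_one]
  have : IsScalarTower A (C ⊗[A] B) (C ⊗[A] M) := .of_algebraMap_eq fun a => by
    show algebraMap A C a ⊗ₜ[A] (1 : M) =
      algebraMap (C ⊗[A] B) (C ⊗[A] M) (algebraMap A C a ⊗ₜ[A] (1 : B))
    rw [hmap, map_one]
  have h₁ : Algebra.IsPushout A B C (C ⊗[A] B) := inferInstance
  have h₂ : Algebra.IsPushout A M C (C ⊗[A] M) := inferInstance
  have : Algebra.IsPushout B M (C ⊗[A] B) (C ⊗[A] M) :=
    (Algebra.IsPushout.comp_iff (R := A) (S := B) (R' := C) (S' := C ⊗[A] B)).1 h₂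
  have : Module.Flat B (C ⊗[A] B) := flat_right
  exact h.baseChange_pushout (B := B) (k := M)

end Tensor

variable {A B : Type u} [CommRing A] [CommRing B] [Algebra A B]

section Collapse

variable {M : Type u} [CommRing M] [Algebra A M] [Algebra B M] [IsScalarTower A B M]

/-- The multiplication `B ⊗ M → M`. -/
noncomputable def mulHom (A B M : Type u) [CommRing A] [CommRing B] [Algebra A B] [CommRing M]
    [Algebra A M] [Algebra B M] [IsScalarTower A B M] : B ⊗[A] M →ₐ[A] M :=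
  Algebra.TensorProduct.lift (IsScalarTower.toAlgHom A B M) (AlgHom.id A M) fun _ _ => Commute.all _ _

theorem mulHom_tmul (b : B) (m : M) : mulHom A B M (b ⊗ₜ m) = algebraMap B M b * m := by
  simp [mulHom]

/-- `(B ⊗ M) ⊗_{B ⊗ B} B ≅ M`. -/
theorem exists_collapse [Algebra (B ⊗[A] B) (B ⊗[A] M)]
    (hmap : ∀ c b, algebraMap (B ⊗[A] B) (B ⊗[A] M) (c ⊗ₜ b) = c ⊗ₜ algebraMap B M b)
    {X : Type u} [AddCommGroup X] [Module (B ⊗[A] B) X] (e : X ≃+ B)
    (μ : B ⊗[A] B →+* B) (hmul : ∀ x y : B, μ (x ⊗ₜ[A] y) = x * y)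
    (he : ∀ t x, e (t • x) = μ t * e x)
    [Module (B ⊗[A] M) M] (hM : ∀ z (m : M), z • m = mulHom A B M z * m) :
    Nonempty ((B ⊗[A] M) ⊗[B ⊗[A] B] X ≃ₗ[B ⊗[A] M] M) := by
  let _ : Module (B ⊗[A] B) M := Module.compHom M ((algebraMap B M).comp μ)
  have hDM : ∀ t (m : M), t • m = algebraMap B M (μ t) * m := fun _ _ => rfl
  have key : ∀ t, mulHom A B M (algebraMap (B ⊗[A] B) (B ⊗[A] M) t) = algebraMap B M (μ t) :=
    fun t => by
      induction t using TensorProduct.induction_on with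
      | zero => simp
      | add u v hu hv => simp only [map_add, hu, hv]
      | tmul c b => rw [hmap, mulHom_tmul, hmul, map_mul]
  have : IsScalarTower (B ⊗[A] B) (B ⊗[A] M) M := .of_algebraMap_smul fun t m => by
    rw [hM, key, hDM]
  let f₀ : X →ₗ[B ⊗[A] B] M :=
    { toFun := fun x => algebraMap B M (e x)
      map_add' := fun x y => by simp
      map_smul' := fun t x => by simp [hDM, he] }
  let f : (B ⊗[A] M) ⊗[B ⊗[A] B] X →ₗ[B ⊗[A] M] M := f₀.liftBaseChange _
  let g : M →+ (B ⊗[A] M) ⊗[B ⊗[A] B] X :=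
    { toFun := fun m => ((1 : B) ⊗ₜ[A] m) ⊗ₜ[B ⊗[A] B] e.symm 1
      map_zero' := by simp
      map_add' := fun x y => by simp [tmul_add, add_tmul] }
  have hrep : ∀ (t : B ⊗[A] B) (y : B), μ t = y → e.symm y = t • e.symm 1 := fun t y hy =>
    e.injective (by rw [he, AddEquiv.apply_symm_apply, AddEquiv.apply_symm_apply, mul_one, hy])
  have move : ∀ (t : B ⊗[A] B) (w : B ⊗[A] M) (x : X), w ⊗ₜ[B ⊗[A] B] (t • x) =
      (algebraMap (B ⊗[A] B) (B ⊗[A] M) t * w) ⊗ₜ[B ⊗[A] B] x := fun t w x => by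
    rw [← smul_tmul, Algebra.smul_def]
  have hgf : ∀ z, g (f z) = z := fun z => by
    induction z using TensorProduct.induction_on with
    | zero => simp
    | add u v hu hv => simp only [map_add, hu, hv]
    | tmul w x =>
      induction w using TensorProduct.induction_on with
      | zero => simp
      | add u v hu hv => simp only [add_tmul, map_add, hu, hv]
      | tmul b m =>
        obtain ⟨x, rfl⟩ := e.symm.surjective x
        have hf : f ((b ⊗ₜ[A] m) ⊗ₜ e.symm x) = algebraMap B M (b * x) * m := by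
          show (b ⊗ₜ[A] m) • algebraMap B M (e (e.symm x)) = _
          rw [hM, mulHom_tmul, map_mul, AddEquiv.apply_symm_apply]
          ring
        rw [hf]
        show ((1 : B) ⊗ₜ[A] (algebraMap B M (b * x) * m)) ⊗ₜ[B ⊗[A] B] e.symm 1 = _
        calc ((1 : B) ⊗ₜ[A] (algebraMap B M (b * x) * m)) ⊗ₜ[B ⊗[A] B] e.symm 1
            = ((1 : B) ⊗ₜ[A] m) ⊗ₜ[B ⊗[A] B] (((1 : B) ⊗ₜ[A] (b * x)) • e.symm 1) := by
              rw [move, hmap, Algebra.TensorProduct.tmul_mul_tmul, mul_one]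
          _ = ((1 : B) ⊗ₜ[A] m) ⊗ₜ[B ⊗[A] B] ((b ⊗ₜ[A] (1 : B)) • e.symm x) := by
              congr 1
              refine e.injective ?_
              simp [he, hmul]
          _ = _ := by rw [move, hmap]; simp
  have hfg : ∀ m, f (g m) = m := fun m => by
    show ((1 : B) ⊗ₜ[A] m) • algebraMap B M (e (e.symm 1)) = m
    rw [hM, mulHom_tmul, AddEquiv.apply_symm_apply, map_one, one_mul, mul_one]
  exact ⟨{ f with invFun := g, left_inv := hgf, right_inv := hfg }⟩

end Collapse

/-- A flat algebra with diagonal of finite flat dimension has finite flat dimension of fields over it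
after base change. -/
theorem flatDimLE_of_field [Module.Flat A B] [Algebra (B ⊗[A] B) B]
    (hmul : ∀ x y : B, algebraMap (B ⊗[A] B) B (x ⊗ₜ[A] y) = x * y) {n : ℕ}
    (h : FlatDimLE (B ⊗[A] B) n B) (K M : Type u) [Field K] [Algebra A K] [CommRing M] [Algebra A M]
    [Algebra K M] [IsScalarTower A K M] [Algebra (K ⊗[A] B) M] [IsScalarTower K (K ⊗[A] B) M] :
    FlatDimLE (K ⊗[A] B) n M := by
  let gB : B →ₐ[A] M :=
    (IsScalarTower.toAlgHom K (K ⊗[A] B) M).restrictScalars A |>.comp Algebra.TensorProduct.includeRight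
  let _ : Algebra B M := gB.toRingHom.toAlgebra
  have : IsScalarTower A B M := .of_algebraMap_eq fun a => (gB.commutes a).symm
  let _ : Algebra (B ⊗[A] B) (B ⊗[A] M) :=
    (Algebra.TensorProduct.map (AlgHom.id A B) gB).toRingHom.toAlgebra
  have hmap : ∀ c b, algebraMap (B ⊗[A] B) (B ⊗[A] M) (c ⊗ₜ b) = c ⊗ₜ algebraMap B M b :=
    fun c b => rfl
  have hD := flatDimLE_tensor hmap (fun b x => by simp [Algebra.smul_def, hmul]) h
  let _ : Module (B ⊗[A] M) M := Module.compHom M (mulHom A B M).toRingHom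
  obtain ⟨e⟩ := exists_collapse (A := A) (M := M) hmap (AddEquiv.refl B)
    (algebraMap (B ⊗[A] B) B) hmul (fun t x => Algebra.smul_def t x) (fun z m => rfl)
  have hM := hD.congr e
  let ψ : K ⊗[A] B →ₐ[A] B ⊗[A] M :=
    (Algebra.TensorProduct.map (AlgHom.id A B) (IsScalarTower.toAlgHom A K M)).comp
      (Algebra.TensorProduct.comm A K B).toAlgHom
  let _ : Algebra (K ⊗[A] B) (B ⊗[A] M) := ψ.toRingHom.toAlgebra
  have hKM : (IsScalarTower.toAlgHom A K M).Flat :=
    RingHom.flat_algebraMap_iff.2 (inferInstance : Module.Flat K M)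
  have : Module.Flat (K ⊗[A] B) (B ⊗[A] M) :=
    RingHom.Flat.comp (f := (Algebra.TensorProduct.comm A K B).toAlgHom.toRingHom)
      (g := (Algebra.TensorProduct.map (AlgHom.id A B) (IsScalarTower.toAlgHom A K M)).toRingHom)
      (.of_bijective (AlgEquiv.bijective _)) (RingHom.Flat.tensorProductMap (RingHom.Flat.id B) hKM)
  have : IsScalarTower (K ⊗[A] B) (B ⊗[A] M) M := .of_algebraMap_smul fun t m => by
    show mulHom A B M (ψ t) * m = t • m
    rw [Algebra.smul_def]
    congr 1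
    induction t using TensorProduct.induction_on with
    | zero => simp
    | add u v hu hv => simp only [map_add, hu, hv]
    | tmul c b =>
      show mulHom A B M (b ⊗ₜ algebraMap K M c) = _
      rw [mulHom_tmul, show (c ⊗ₜ[A] b : K ⊗[A] B) = algebraMap K _ c * ((1 : K) ⊗ₜ b) by simp,
        map_mul, ← IsScalarTower.algebraMap_apply, mul_comm]
      rfl
  exact hM.restrictScalars

/-- A flat algebra with diagonal of finite Tor dimension has regular base changes to fields. -/
theorem isRegularLocalRing_baseChange [Module.Flat A B] [Algebra (B ⊗[A] B) B]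
    (hmul : ∀ x y : B, algebraMap (B ⊗[A] B) B (x ⊗ₜ[A] y) = x * y)
    (h : DRing.HasFiniteTorDim (B ⊗[A] B) B) (K : Type u) [Field K] [Algebra A K]
    (Q : Ideal (K ⊗[A] B)) [Q.IsPrime] (R : Type u) [CommRing R] [Algebra (K ⊗[A] B) R]
    [IsLocalization.AtPrime R Q] [IsNoetherianRing R] :
    haveI : IsLocalRing R := IsLocalization.AtPrime.isLocalRing R Q
    IsRegularLocalRing R := by
  have : IsLocalRing R := IsLocalization.AtPrime.isLocalRing R Q
  obtain ⟨n, hn⟩ := h
  let _ : Algebra K (R ⧸ IsLocalRing.maximalIdeal R) :=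
    ((algebraMap (K ⊗[A] B) (R ⧸ IsLocalRing.maximalIdeal R)).comp (algebraMap K (K ⊗[A] B))).toAlgebra
  have : IsScalarTower K (K ⊗[A] B) (R ⧸ IsLocalRing.maximalIdeal R) := .of_algebraMap_eq fun _ => rfl
  let _ : Algebra A (R ⧸ IsLocalRing.maximalIdeal R) :=
    ((algebraMap K (R ⧸ IsLocalRing.maximalIdeal R)).comp (algebraMap A K)).toAlgebra
  have : IsScalarTower A K (R ⧸ IsLocalRing.maximalIdeal R) := .of_algebraMap_eq fun _ => rfl
  have hk : FlatDimLE (K ⊗[A] B) (n + 1) (R ⧸ IsLocalRing.maximalIdeal R) :=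
    flatDimLE_of_field hmul (flatDimLE_of_hasTorDimLE hn) K _
  have : Module.Flat (K ⊗[A] B) R := IsLocalization.flat R Q.primeCompl
  have hbc : IsBaseChange R (LinearMap.id : (R ⧸ IsLocalRing.maximalIdeal R) →ₗ[K ⊗[A] B] _) :=
    have := isLocalizedModule_id Q.primeCompl (R ⧸ IsLocalRing.maximalIdeal R) R
    IsLocalizedModule.isBaseChange Q.primeCompl R _
  exact isRegularLocalRing_of_flatDimLE ((hk.baseChange (S := R)).congr hbc.equiv)

end Groth.Agent.CAlgH.DiagonalRegular
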