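import Groth.Agent.CAlgH.DiagonalRegular
import Groth.Agent.SmoothLib.AtPoint
import Groth.Agent.S9442

/-!
# A perfect diagonal implies smoothness
-/

universe u

set_option autoImplicit false

open TensorProduct Function

namespace Groth.Agent.CAlgH.DiagonalSmooth

theorem isGeometricallyReduced_of_isAlgClosed (K L : Type u) [Field K] [IsAlgClosed K] [CommRing L]
    [Algebra K L] [IsReduced L] : Algebra.IsGeometricallyReduced K L := by
  have hbij : Bijective (Algebra.ofId K (AlgebraicClosure K)) :=
    IsAlgClosed.algebraMap_bijective_of_isIntegral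
  let e : AlgebraicClosure K ⊗[K] L ≃ₐ[K] L :=
    (Algebra.TensorProduct.congr (AlgEquiv.ofBijective _ hbij).symm AlgEquiv.refl).trans
      (Algebra.TensorProduct.lid K L)
  exact (Algebra.isGeometricallyReduced_field_iff K L).2 (isReduced_of_injective e.toRingEquiv.toRingHom e.injective)

variable {A C B : Type u} [CommRing A] [CommRing C] [Algebra A C] [Algebra.FinitePresentation A C]
  [CommRing B] [Algebra A B] [Algebra C B] [IsScalarTower A C B] [Module.Flat A B]
  [Algebra (B ⊗[A] B) B]

theorem isSmoothAt_field (hmul : ∀ x y : B, algebraMap (B ⊗[A] B) B (x ⊗ₜ[A] y) = x * y)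
    (h : DRing.HasFiniteTorDim (B ⊗[A] B) B) (M : Submonoid C) [IsLocalization M B]
    (K : Type u) [Field K] [IsAlgClosed K] [Algebra A K] (Q : Ideal (K ⊗[A] C)) [Q.IsPrime]
    (hQ : ∀ m ∈ M, (1 : K) ⊗ₜ[A] m ∉ Q) : Algebra.IsSmoothAt K Q := by
  let _ : Algebra (K ⊗[A] C) (K ⊗[A] B) :=
    (Algebra.TensorProduct.map (AlgHom.id K K) (IsScalarTower.toAlgHom A C B)).toRingHom.toAlgebra
  have : IsScalarTower K (K ⊗[A] C) (K ⊗[A] B) := .of_algebraMap_eq fun c => by
    simp [RingHom.algebraMap_toAlgebra]
  have hloc : IsLocalization (M.map (Algebra.TensorProduct.includeRight (R := A) (A := K)))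
      (K ⊗[A] B) := IsLocalization.tensorProduct_tensorProduct_right A K M B
    (RingHom.ext fun x => by simp [RingHom.algebraMap_toAlgebra])
  let M' := M.map (Algebra.TensorProduct.includeRight (R := A) (A := K) (B := C))
  have hdisj : Disjoint (M' : Set (K ⊗[A] C)) (Q : Set (K ⊗[A] C)) := by
    rw [Set.disjoint_left]
    rintro _ ⟨m, hm, rfl⟩
    exact hQ m hm
  let Q' : Ideal (K ⊗[A] B) := Q.map (algebraMap (K ⊗[A] C) (K ⊗[A] B))
  have : Q'.IsPrime := IsLocalization.isPrime_of_isPrime_disjoint M' _ Q ‹_› hdisj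
  have hcomap : Q'.comap (algebraMap (K ⊗[A] C) (K ⊗[A] B)) = Q :=
    IsLocalization.under_map_of_isPrime_disjoint M' (K ⊗[A] B) ‹_› hdisj
  have : IsLocalization.AtPrime (Localization.AtPrime Q') Q := by
    have h0 : IsLocalization.AtPrime (Localization.AtPrime Q')
        (Q'.comap (algebraMap (K ⊗[A] C) (K ⊗[A] B))) :=
      IsLocalization.isLocalization_isLocalization_atPrime_isLocalization M' _ Q'
    have hc : (Q'.comap (algebraMap (K ⊗[A] C) (K ⊗[A] B))).primeCompl = Q.primeCompl := by
      ext z; simp [Ideal.primeCompl, hcomap]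
    show IsLocalization Q.primeCompl _
    rw [← hc]; exact h0
  have hft : Algebra.FiniteType K (K ⊗[A] C) := Algebra.FiniteType.baseChange (A := C) K
  have : IsNoetherianRing (K ⊗[A] C) := Algebra.FiniteType.isNoetherianRing K _
  have : IsNoetherianRing (Localization.AtPrime Q') :=
    IsLocalization.isNoetherianRing Q.primeCompl _ inferInstance
  have hreg := DiagonalRegular.isRegularLocalRing_baseChange hmul h K Q' (Localization.AtPrime Q')
  have : IsRegularLocalRing (Localization.AtPrime Q) :=
    IsRegularLocalRing.of_ringEquiv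
      (IsLocalization.algEquiv Q.primeCompl (Localization.AtPrime Q') (Localization.AtPrime Q)).toRingEquiv
  have := isGeometricallyReduced_of_isAlgClosed K Q.ResidueField
  exact (S9442.result K (K ⊗[A] C) Q).2 ‹_›

section Geometric

variable {A C : Type u} [CommRing A] [CommRing C] [Algebra A C] [Algebra.FinitePresentation A C]

omit [Algebra.FinitePresentation A C] in
theorem fibre_point (p : Ideal A) [p.IsPrime] (K : Type u) [Field K] [Algebra A K]
    [Algebra p.ResidueField K] [IsScalarTower A p.ResidueField K] (c : C) :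
    Algebra.TensorProduct.cancelBaseChange A p.ResidueField K K C
        ((1 : K) ⊗ₜ[p.ResidueField] ((1 : p.ResidueField) ⊗ₜ[A] c)) = (1 : K) ⊗ₜ[A] c := by
  rw [Algebra.TensorProduct.cancelBaseChange_tmul, one_smul]

omit [Algebra.FinitePresentation A C] in
theorem isSmoothAt_comap_of_algEquiv {k K F T : Type u} [Field k] [Field K] [Algebra k K]
    [CommRing F] [Algebra k F] [Algebra.FiniteType k F] [CommRing T] [Algebra K T]
    [Algebra.FinitePresentation K T] (e : K ⊗[k] F ≃ₐ[K] T) (Q : Ideal T) [Q.IsPrime]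
    [Algebra.IsSmoothAt K Q] :
    Algebra.IsSmoothAt k ((Q.comap e.toAlgHom.toRingHom).comap
      (Algebra.TensorProduct.includeRight : F →ₐ[k] K ⊗[k] F).toRingHom) := by
  have : Algebra.IsSmoothAt K (Q.comap e.toAlgHom.toRingHom) :=
    SmoothLib.isSmoothAt_of_algEquiv e.symm (Q.comap e.toAlgHom.toRingHom) Q (by
      ext x
      show e (e.symm x) ∈ Q ↔ x ∈ Q
      rw [AlgEquiv.apply_symm_apply])
  exact SmoothLib.isSmoothAt_of_fieldExtension k K F (Q.comap e.toAlgHom.toRingHom) _ rfl

/-- Flat and geometrically smooth at a point implies smooth at the point. -/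
theorem isSmoothAt_of_geometric (p : Ideal A) (q : Ideal C) [p.IsPrime] [q.IsPrime]
    [Module.Flat A (Localization.AtPrime q)] (K : Type u) [Field K] [Algebra A K]
    [Algebra p.ResidueField K] [IsScalarTower A p.ResidueField K] (Q : Ideal (K ⊗[A] C)) [Q.IsPrime]
    (hQ : ∀ c : C, (1 : K) ⊗ₜ[A] c ∈ Q ↔ c ∈ q) [Algebra.IsSmoothAt K Q] :
    Algebra.IsSmoothAt A q := by
  have : Algebra.FiniteType p.ResidueField (p.Fiber C) :=
    Algebra.FiniteType.baseChange (A := C) p.ResidueField
  have hP : ((Q.comap (Algebra.TensorProduct.cancelBaseChange A p.ResidueField K K C).toAlgHom.toRingHom).comap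
      (Algebra.TensorProduct.includeRight : p.Fiber C →ₐ[p.ResidueField] K ⊗[p.ResidueField] p.Fiber C).toRingHom).comap
      (Algebra.TensorProduct.includeRight : C →ₐ[A] p.Fiber C).toRingHom = q :=
    Ideal.ext fun c => ((congrArg (· ∈ Q) (fibre_point p K c)).to_iff).trans (hQ c)
  have hs := isSmoothAt_comap_of_algEquiv (Algebra.TensorProduct.cancelBaseChange A p.ResidueField K K C) Q
  exact SmoothLib.isSmoothAt_of_fibre p q _ hP

end Geometric

theorem isSmoothAt (hmul : ∀ x y : B, algebraMap (B ⊗[A] B) B (x ⊗ₜ[A] y) = x * y)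
    (h : DRing.HasFiniteTorDim (B ⊗[A] B) B) (M : Submonoid C) [IsLocalization M B]
    (q : Ideal C) [q.IsPrime] (hq : M ≤ q.primeCompl) : Algebra.IsSmoothAt A q := by
  let _ : Algebra B (Localization.AtPrime q) :=
    IsLocalization.localizationAlgebraOfSubmonoidLe B (Localization.AtPrime q) M q.primeCompl hq
  have := IsLocalization.localization_isScalarTower_of_submonoid_le B (Localization.AtPrime q) M
    q.primeCompl hq
  have : IsScalarTower A B (Localization.AtPrime q) := .to₁₃₄ A C B _
  have : IsLocalization (q.primeCompl.map (algebraMap C B)) (Localization.AtPrime q) :=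
    IsLocalization.isLocalization_of_submonoid_le B (Localization.AtPrime q) M q.primeCompl hq
  have : Module.Flat B (Localization.AtPrime q) :=
    IsLocalization.flat _ (q.primeCompl.map (algebraMap C B))
  have : Module.Flat A (Localization.AtPrime q) := Module.Flat.trans A B _
  let gp : (q.comap (algebraMap A C)).ResidueField →ₐ[A] q.ResidueField :=
    Ideal.ResidueField.mapₐ _ q (Algebra.ofId A C) rfl
  let K := AlgebraicClosure q.ResidueField
  let _ : Algebra (q.comap (algebraMap A C)).ResidueField K :=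
    ((algebraMap q.ResidueField K).comp gp.toRingHom).toAlgebra
  have : IsScalarTower A (q.comap (algebraMap A C)).ResidueField K := .of_algebraMap_eq fun a => by
    show algebraMap A K a = algebraMap q.ResidueField K (gp (algebraMap A _ a))
    rw [gp.commutes, ← IsScalarTower.algebraMap_apply]
  let gC : C →ₐ[A] K :=
    (IsScalarTower.toAlgHom A q.ResidueField K).comp (IsScalarTower.toAlgHom A C q.ResidueField)
  let Ψ : K ⊗[A] C →ₐ[K] K := Algebra.TensorProduct.lift (AlgHom.id K K) gC fun _ _ => Commute.all _ _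
  have hgC : ∀ c : C, gC c = 0 ↔ c ∈ q := fun c => by
    simp [gC, Ideal.algebraMap_residueField_eq_zero]
  have : (RingHom.ker Ψ.toRingHom).IsPrime := RingHom.ker_isPrime _
  have hΨ : ∀ c : C, (1 : K) ⊗ₜ[A] c ∈ RingHom.ker Ψ.toRingHom ↔ c ∈ q := fun c => by
    show Ψ ((1 : K) ⊗ₜ[A] c) = 0 ↔ _
    rw [← hgC c]
    simp [Ψ]
  have hQs : Algebra.IsSmoothAt K (RingHom.ker Ψ.toRingHom) :=
    isSmoothAt_field hmul h M K _ fun m hm h' => hq hm ((hΨ m).1 h')
  exact isSmoothAt_of_geometric (q.comap (algebraMap A C)) q K (RingHom.ker Ψ.toRingHom) hΨ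

/-- Flat finitely presented algebras with perfect diagonal are smooth. -/
theorem smooth_of_diagonal (R S : Type u) [CommRing R] [CommRing S] [Algebra R S]
    [Algebra.FinitePresentation R S] [Module.Flat R S] [Algebra (S ⊗[R] S) S]
    (hmul : ∀ x y : S, algebraMap (S ⊗[R] S) S (x ⊗ₜ[R] y) = x * y)
    (h : DRing.HasFiniteTorDim (S ⊗[R] S) S) : Algebra.Smooth R S := by
  have : IsLocalization (⊥ : Submonoid S) S := IsLocalization.self (by simp)
  exact ⟨(Algebra.smoothLocus_eq_univ_iff).1 (Set.eq_univ_of_forall fun q =>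
    isSmoothAt hmul h ⊥ q.asIdeal (fun x hx => by
      rw [Submonoid.mem_bot] at hx
      subst hx
      exact (Ideal.ne_top_iff_one _).1 q.isPrime.ne_top)), inferInstance⟩

end Groth.Agent.CAlgH.DiagonalSmooth
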