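import Mathlib

/-! A Noetherian local domain that is not a field is dominated by a one-dimensional Noetherian
local ring which is essentially of finite type over it. -/

universe u

open IsLocalRing

namespace Groth.Agent.CAlgH.DominatingDimOne

variable {R : Type u} [CommRing R] [IsDomain R] [IsNoetherianRing R] [IsLocalRing R]

theorem sup_pow_le {I J M : Ideal R} {a b : ℕ} (hI : I ≤ M) (hJ : J ≤ M)
    (ha : I ^ a ≤ M ^ (a + 1)) (hb : J ^ b ≤ M ^ (b + 1)) :
    (I ⊔ J) ^ (a + b) ≤ M ^ (a + b + 1) := by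
  rw [← Submodule.add_eq_sup, add_pow, Ideal.sum_eq_sup, Finset.sup_le_iff]
  intro i hi
  rw [Finset.mem_range] at hi
  refine Ideal.mul_le_left.trans ?_
  rcases le_or_gt a i with h | h
  · obtain ⟨c, rfl⟩ := Nat.exists_eq_add_of_le h
    calc I ^ (a + c) * J ^ (a + b - (a + c))
        = I ^ a * (I ^ c * J ^ (b - c)) := by rw [pow_add, mul_assoc, show a + b - (a + c) = b - c by omega]
      _ ≤ M ^ (a + 1) * (M ^ c * M ^ (b - c)) :=
          mul_le_mul' ha (mul_le_mul' (Ideal.pow_right_mono hI c) (Ideal.pow_right_mono hJ _))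
      _ = M ^ (a + b + 1) := by rw [← pow_add, ← pow_add]; congr 1; omega
  · obtain ⟨c, hc⟩ := Nat.exists_eq_add_of_le (show b ≤ a + b - i by omega)
    calc I ^ i * J ^ (a + b - i) = J ^ b * (I ^ i * J ^ c) := by rw [hc, pow_add]; ring
      _ ≤ M ^ (b + 1) * (M ^ i * M ^ c) :=
          mul_le_mul' hb (mul_le_mul' (Ideal.pow_right_mono hI i) (Ideal.pow_right_mono hJ c))
      _ = M ^ (a + b + 1) := by rw [← pow_add, ← pow_add]; congr 1; omega

theorem exists_pow_notMem (hR : ¬ IsField R) :
    ∃ x ∈ maximalIdeal R, ∀ n : ℕ, x ^ n ∉ maximalIdeal R ^ (n + 1) := by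
  classical
  by_contra H
  push Not at H
  obtain ⟨G, hG⟩ := (isNoetherianRing_iff_ideal_fg R).1 ‹_› (maximalIdeal R)
  have hG' : ∀ g ∈ G, g ∈ maximalIdeal R := fun g hg => hG.le (Ideal.subset_span hg)
  have key : ∀ S : Finset R, S ⊆ G →
      ∃ e, Ideal.span (S : Set R) ^ e ≤ maximalIdeal R ^ (e + 1) := by
    intro S
    induction S using Finset.induction_on with
    | empty => exact fun _ => ⟨1, by simp⟩
    | insert g S _ ih =>
      intro hS
      obtain ⟨b, hb⟩ := ih ((Finset.subset_insert g S).trans hS)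
      have hgm := hG' g (hS (Finset.mem_insert_self g S))
      obtain ⟨a, ha⟩ := H g hgm
      refine ⟨a + b, ?_⟩
      rw [Finset.coe_insert, Ideal.span_insert]
      refine sup_pow_le ((Ideal.span_singleton_le_iff_mem _).2 hgm)
        (Ideal.span_le.2 fun y hy => hG' y (hS (Finset.mem_insert_of_mem hy))) ?_ hb
      rw [Ideal.span_singleton_pow]
      exact (Ideal.span_singleton_le_iff_mem _).2 ha
  obtain ⟨e, he⟩ := key G subset_rfl
  rw [show Ideal.span (G : Set R) = maximalIdeal R from hG] at he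
  have hbot : maximalIdeal R ^ e = ⊥ := by
    refine Submodule.eq_bot_of_le_smul_of_le_jacobson_bot (maximalIdeal R) _
      (IsNoetherian.noetherian _) ?_ (IsLocalRing.maximalIdeal_le_jacobson _)
    rw [Ideal.smul_eq_mul, ← pow_succ']
    exact he
  exact hR (IsLocalRing.isField_iff_maximalIdeal_eq.2 (eq_bot_iff.2 fun y hy =>
    Submodule.mem_bot R |>.2 (pow_eq_zero_iff'.1 (Ideal.mem_bot.1
      (hbot.le (Ideal.pow_mem_pow hy e)))).1))

theorem exists_dominating (hR : ¬ IsField R) :
    ∃ R' : Subalgebra R (FractionRing R), ∃ _ : IsLocalRing R',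
      IsNoetherianRing R' ∧ ringKrullDim R' = 1 ∧ IsLocalHom (algebraMap R R') ∧
        Algebra.EssFiniteType R R' := by
  classical
  let K := FractionRing R
  let φ : R → K := algebraMap R K
  obtain ⟨x, hxm, hx⟩ := exists_pow_notMem hR
  have hx0 : x ≠ 0 := fun h => hx 1 (by simp [h])
  have hφx : algebraMap R K x ≠ 0 :=
    (map_ne_zero_iff _ (IsFractionRing.injective R K)).2 hx0
  obtain ⟨G, hG⟩ := (isNoetherianRing_iff_ideal_fg R).1 ‹_› (maximalIdeal R)
  let T : Finset K := G.image fun g => algebraMap R K g * (algebraMap R K x)⁻¹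
  let B : Subalgebra R K := Algebra.adjoin R (T : Set K)
  have : Algebra.FiniteType R B := B.fg_iff_finiteType.1 ⟨T, rfl⟩
  have : IsNoetherianRing B := Algebra.FiniteType.isNoetherianRing R B
  have : IsFractionRing B K := inferInstance
  -- every element of `B` is `y / x ^ n` with `y ∈ m ^ n`
  have hprop : ∀ z ∈ B, ∃ n : ℕ, ∃ y ∈ maximalIdeal R ^ n,
      z * algebraMap R K x ^ n = algebraMap R K y := by
    intro z hz
    induction hz using Algebra.adjoin_induction with
    | mem z hz =>
      obtain ⟨g, hg, rfl⟩ := Finset.mem_image.1 hz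
      exact ⟨1, g, by simpa using hG.le (Ideal.subset_span hg),
        by rw [pow_one, mul_assoc, inv_mul_cancel₀ hφx, mul_one]⟩
    | algebraMap r => exact ⟨0, r, by simp, by simp⟩
    | add z w _ _ h1 h2 =>
      obtain ⟨n, y, hy, e1⟩ := h1
      obtain ⟨l, y', hy', e2⟩ := h2
      refine ⟨n + l, y * x ^ l + x ^ n * y', add_mem ?_ ?_, ?_⟩
      · rw [pow_add]; exact Ideal.mul_mem_mul hy (Ideal.pow_mem_pow hxm l)
      · rw [pow_add]; exact Ideal.mul_mem_mul (Ideal.pow_mem_pow hxm n) hy'
      · rw [map_add, map_mul, map_mul, map_pow, map_pow, ← e1, ← e2]; ring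
    | mul z w _ _ h1 h2 =>
      obtain ⟨n, y, hy, e1⟩ := h1
      obtain ⟨l, y', hy', e2⟩ := h2
      refine ⟨n + l, y * y', by rw [pow_add]; exact Ideal.mul_mem_mul hy hy', ?_⟩
      rw [map_mul, ← e1, ← e2]; ring
  let xB : B := algebraMap R B x
  have hnu : ¬ IsUnit xB := by
    intro hu
    obtain ⟨c, hc⟩ := hu.exists_left_inv
    obtain ⟨n, y, hy, e⟩ := hprop c.1 c.2
    have hc' : (c : K) * algebraMap R K x = 1 := by simpa [xB] using congrArg Subtype.val hc
    have h2 : algebraMap R K (x * y) = algebraMap R K (x ^ n) := by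
      rw [map_mul, ← e, map_pow]
      linear_combination (algebraMap R K x ^ n) * hc'
    refine hx n ?_
    rw [← IsFractionRing.injective R K h2, pow_succ']
    exact Ideal.mul_mem_mul hxm hy
  obtain ⟨P, hP⟩ := (Ideal.span {xB}).nonempty_minimalPrimes (by simpa using hnu)
  haveI := hP.isPrime
  have hxP : xB ∈ P := hP.1.2 (Ideal.mem_span_singleton_self _)
  have hmP : ∀ r ∈ maximalIdeal R, algebraMap R B r ∈ P := by
    intro r hr
    rw [← hG] at hr
    induction hr using Submodule.span_induction with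
    | mem g hg =>
      have : algebraMap R B g = ⟨algebraMap R K g * (algebraMap R K x)⁻¹,
          Algebra.subset_adjoin (Finset.mem_image_of_mem _ hg)⟩ * xB := by
        ext; simp [xB, mul_assoc, inv_mul_cancel₀ hφx]
      rw [this]; exact P.mul_mem_left _ hxP
    | zero => simp
    | add a b _ _ ha hb => rw [map_add]; exact P.add_mem ha hb
    | smul a b _ hb => rw [smul_eq_mul, map_mul]; exact P.mul_mem_left _ hb
  let R₁ : Subalgebra B K := Localization.subalgebra.ofField K P.primeCompl P.primeCompl_le_nonZeroDivisors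
  have : IsLocalization.AtPrime R₁ P :=
    Localization.subalgebra.isLocalization_ofField K P.primeCompl P.primeCompl_le_nonZeroDivisors
  have : IsLocalRing R₁ := IsLocalization.AtPrime.isLocalRing R₁ P
  have hN : IsNoetherianRing R₁ := IsLocalization.isNoetherianRing P.primeCompl R₁ inferInstance
  refine ⟨R₁.restrictScalars R, ‹IsLocalRing R₁›, hN, ?_, ?_, ?_⟩
  · show ringKrullDim R₁ = 1
    rw [IsLocalization.AtPrime.ringKrullDim_eq_height P R₁]
    have h1 : P.height = 1 := by
      refine le_antisymm (Ideal.height_le_one_of_isPrincipal_of_mem_minimalPrimes _ P hP) ?_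
      rw [Order.one_le_iff_ne_zero]
      intro h0
      rw [Ideal.height_eq_zero_iff, IsDomain.minimalPrimes_eq_singleton_bot] at h0
      rw [h0, Ideal.mem_bot] at hxP
      exact hx0 ((map_eq_zero_iff _ (FaithfulSMul.algebraMap_injective R B)).1 hxP)
    rw [h1]; rfl
  · refine ⟨fun r hr => ?_⟩
    by_contra hru
    have hu : IsUnit (algebraMap B R₁ (algebraMap R B r)) := hr
    exact ((IsLocalization.AtPrime.isUnit_to_map_iff R₁ P _).1 hu)
      (hmP r ((IsLocalRing.mem_maximalIdeal r).2 hru))
  · have : Algebra.EssFiniteType B R₁ := Algebra.EssFiniteType.of_isLocalization R₁ P.primeCompl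
    exact Algebra.EssFiniteType.comp R B R₁

end Groth.Agent.CAlgH.DominatingDimOne
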