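import Groth.Agent.FlatMor12.StdEtaleFinite
import Mathlib

/-! Finite free covers dominating etale algebras. -/

set_option backward.isDefEq.respectTransparency false

universe u

namespace Groth.Agent.CAlgH.EtaleFiniteCover

open Polynomial TensorProduct
open Groth.Agent.FlatMor12 (exists_splitting_free)

attribute [local instance] Localization.AtPrime.algebraOfLiesOver

set_option synthInstance.maxHeartbeats 200000 in
/-- One finite free algebra dominates a standard etale algebra at all of its primes. -/
theorem exists_dominating {A : Type u} [CommRing A] (P : StandardEtalePair A) :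
    ∃ (T : Type u) (_ : CommRing T) (_ : Algebra A T), Module.Free A T ∧ Module.Finite A T ∧
      Function.Injective (algebraMap A T) ∧
      ∀ (Q : Ideal P.Ring) [Q.IsPrime] (t : Ideal T) [t.IsPrime],
        t.comap (algebraMap A T) = Q.comap (algebraMap A P.Ring) →
        ∃ w : T, w ∉ t ∧ ∃ σ : P.Ring →ₐ[A] Localization.Away w,
          ∀ t' : Ideal (Localization.Away w), t'.IsPrime →
            t'.comap (algebraMap T (Localization.Away w)) = t → t'.comap σ.toRingHom = Q := by
  rcases subsingleton_or_nontrivial A with hA | hA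
  · refine ⟨A, inferInstance, Algebra.id A, inferInstance, inferInstance, Function.injective_id,
      fun Q _ t _ _ => absurd ((Ideal.eq_top_iff_one t).2 ?_) (Ideal.IsPrime.ne_top inferInstance)⟩
    rw [Subsingleton.elim (1 : A) 0]; exact t.zero_mem
  obtain ⟨T, _, _, a, hfree, hfin, hinj, hfT⟩ := exists_splitting_free _ A P.f P.monic_f rfl
  refine ⟨T, inferInstance, inferInstance, hfree, hfin, hinj, fun Q _ t _ ht => ?_⟩
  let p := Q.comap (algebraMap A P.Ring)
  have : t.LiesOver p := ⟨ht.symm⟩
  have : Q.LiesOver p := ⟨rfl⟩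
  let K := AlgebraicClosure t.ResidueField
  let e : Q.ResidueField →ₐ[p.ResidueField] K := IsAlgClosed.lift
  let φ : P.Ring →ₐ[A] K :=
    (e.restrictScalars A).comp (IsScalarTower.toAlgHom A P.Ring Q.ResidueField)
  have hker : RingHom.ker φ.toRingHom = Q := by
    ext x
    change e (algebraMap P.Ring Q.ResidueField x) = 0 ↔ _
    rw [map_eq_zero_iff e e.injective, Ideal.algebraMap_residueField_eq_zero]
  have hφ := P.hasMap_X.map φ
  have h0 : ∏ i, (φ P.X - algebraMap T K (a i)) = 0 := by
    have h : aeval (φ P.X) (P.f.map (algebraMap A T)) = 0 := by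
      rw [aeval_map_algebraMap]; exact hφ.1
    simpa [hfT, map_prod] using h
  obtain ⟨i, -, hi⟩ := Finset.prod_eq_zero_iff.1 h0
  rw [sub_eq_zero] at hi
  let w := aeval (a i) P.g
  have hw : algebraMap T K w ≠ 0 := by
    rw [← aeval_algebraMap_apply, ← hi]
    exact hφ.2.ne_zero
  have hwt : w ∉ t := fun h => hw (by
    rw [IsScalarTower.algebraMap_apply T t.ResidueField K,
      Ideal.algebraMap_residueField_eq_zero.2 h, map_zero])
  have hm : P.HasMap (algebraMap T (Localization.Away w) (a i)) := by
    refine ⟨?_, ?_⟩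
    · rw [aeval_algebraMap_apply, ← aeval_map_algebraMap T]
      rw [hfT, map_prod, Finset.prod_eq_zero (Finset.mem_univ i) (by simp), map_zero]
    · rw [aeval_algebraMap_apply]
      exact IsLocalization.Away.algebraMap_isUnit w
  refine ⟨w, hwt, P.lift _ hm, fun t' _ ht' => ?_⟩
  let τ : Localization.Away w →ₐ[A] K :=
    IsLocalization.liftAlgHom (M := Submonoid.powers w) (f := IsScalarTower.toAlgHom A T K) (by
      rintro ⟨_, k, rfl⟩
      change IsUnit (algebraMap T K (w ^ k))
      rw [map_pow]
      exact (isUnit_iff_ne_zero.2 hw).pow k)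
  have hτσ : τ.comp (P.lift _ hm) = φ := P.hom_ext (by simp [τ, hi])
  have hτ : RingHom.ker τ.toRingHom = t' := by
    have hτp : (RingHom.ker τ.toRingHom).IsPrime := RingHom.ker_isPrime _
    refine congr($(PrimeSpectrum.localization_comap_injective (R := T) (Localization.Away w)
      (.powers w) (a₁ := ⟨_, hτp⟩) (a₂ := ⟨t', ‹_›⟩) (PrimeSpectrum.ext ?_)).1)
    refine Eq.trans ?_ ht'.symm
    ext x
    change τ (algebraMap T _ x) = 0 ↔ _
    simp only [τ, IsLocalization.liftAlgHom_apply, IsLocalization.lift_eq]
    change algebraMap T K x = 0 ↔ _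
    rw [IsScalarTower.algebraMap_apply T t.ResidueField K,
      map_eq_zero_iff _ (algebraMap t.ResidueField K).injective,
      Ideal.algebraMap_residueField_eq_zero]
  rw [← hτ, RingHom.comap_ker]
  exact (congrArg (fun ψ : P.Ring →ₐ[A] K => RingHom.ker ψ.toRingHom) hτσ).trans hker


/-- Standard etale algebra version, with an abstract presentation. -/
theorem exists_dominating' (A S : Type u) [CommRing A] [CommRing S] [Algebra A S] [Algebra.IsStandardEtale A S] :
    ∃ (T : Type u) (_ : CommRing T) (_ : Algebra A T), Module.Free A T ∧ Module.Finite A T ∧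
      Function.Injective (algebraMap A T) ∧
      ∀ (q : Ideal S) [q.IsPrime] (t : Ideal T) [t.IsPrime], t.under A = q.under A →
        ∃ w : T, w ∉ t ∧ ∃ σ : S →ₐ[A] Localization.Away w,
          (t.map (algebraMap T (Localization.Away w))).comap σ = q := by
  obtain ⟨P⟩ := (‹Algebra.IsStandardEtale A S›).nonempty_standardEtalePresentation
  obtain ⟨T, _, _, hfree, hfin, hinj, hT⟩ := exists_dominating P.P
  refine ⟨T, inferInstance, inferInstance, hfree, hfin, hinj, fun q _ t _ hqt => ?_⟩
  let Q : Ideal P.P.Ring := q.comap P.equivRing.symm.toAlgHom.toRingHom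
  obtain ⟨w, hw, σ, hσ⟩ := hT Q t (by
    rw [Ideal.comap_comap]
    refine hqt.trans ?_
    exact congrArg (fun f : A →+* S => Ideal.comap f q) (RingHom.ext fun a => (P.equivRing.symm.commutes a).symm))
  refine ⟨w, hw, σ.comp P.equivRing.toAlgHom, ?_⟩
  have hdis : Disjoint (Submonoid.powers w : Set T) (t : Set T) := by
    rw [Set.disjoint_left]
    rintro _ ⟨N, rfl⟩ h
    exact hw ((inferInstance : t.IsPrime).mem_of_pow_mem N h)
  have hprime := IsLocalization.isPrime_of_isPrime_disjoint _ (Localization.Away w) t inferInstance hdis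
  have := hσ _ hprime (IsLocalization.comap_map_of_isPrime_disjoint _ _ inferInstance hdis)
  ext x
  have hx := Ideal.ext_iff.1 this (P.equivRing x)
  exact hx.trans (by simp [Q])

/-- Local version: the localisation maps to the localisations of the cover. -/
theorem exists_algHom_atPrime (A S : Type u) [CommRing A] [CommRing S] [Algebra A S] (q : Ideal S) [q.IsPrime]
    (L : Type u) [CommRing L] [Algebra S L] [IsLocalization.AtPrime L q] [Algebra A L] [IsScalarTower A S L]
    (T : Type u) [CommRing T] [Algebra A T] (t : Ideal T) [t.IsPrime] (w : T) (hw : w ∉ t)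
    (σ : S →ₐ[A] Localization.Away w) (hσ : (t.map (algebraMap T (Localization.Away w))).comap σ = q) :
    Nonempty (L →ₐ[A] Localization.AtPrime t) := by
  have hdis : Disjoint (Submonoid.powers w : Set T) (t : Set T) := by
    rw [Set.disjoint_left]
    rintro _ ⟨N, rfl⟩ h
    exact hw ((inferInstance : t.IsPrime).mem_of_pow_mem N h)
  let j : Localization.Away w →ₐ[T] Localization.AtPrime t :=
    IsLocalization.Away.liftAlgHom w (f := Algebra.ofId T (Localization.AtPrime t))
      (IsLocalization.map_units (Localization.AtPrime t) (⟨w, hw⟩ : t.primeCompl))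
  have hu : ∀ y : q.primeCompl, IsUnit ((j.restrictScalars A).comp σ y) := by
    rintro ⟨y, hy⟩
    obtain ⟨⟨a, _, N, rfl⟩, ha⟩ := IsLocalization.surj (Submonoid.powers w) (σ y)
    have hat : a ∉ t := fun h => hy (by
      rw [← hσ]
      show σ y ∈ t.map (algebraMap T (Localization.Away w))
      have hu := IsLocalization.map_units (Localization.Away w) (⟨_, N, rfl⟩ : Submonoid.powers w)
      rw [← Ideal.mul_unit_mem_iff_mem _ hu, ha]
      exact Ideal.mem_map_of_mem _ h)
    have h1 := congrArg j ha
    rw [map_mul, AlgHom.commutes, AlgHom.commutes] at h1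
    have h2 : IsUnit (algebraMap T (Localization.AtPrime t) a) :=
      IsLocalization.map_units (Localization.AtPrime t) (⟨a, hat⟩ : t.primeCompl)
    rw [← h1] at h2
    exact isUnit_of_mul_isUnit_left h2
  exact ⟨IsLocalization.liftAlgHom hu⟩

end Groth.Agent.CAlgH.EtaleFiniteCover

namespace Groth.Agent.CAlgH.EtaleFiniteCover

open TensorProduct

theorem faithfullyFlat_of_free {A T : Type u} [CommRing A] [CommRing T] [Algebra A T]
    [Module.Free A T] [Module.Finite A T] (hinj : Function.Injective (algebraMap A T)) :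
    Module.FaithfullyFlat A T := by
  refine Module.FaithfullyFlat.of_comap_surjective ?_
  exact RingHom.IsIntegral.comap_surjective
    (RingHom.Finite.to_isIntegral (RingHom.finite_algebraMap.2 inferInstance : (algebraMap A T).Finite)) hinj

theorem finitePresentation_of_free (A T : Type u) [CommRing A] [CommRing T] [Algebra A T]
    [Module.Free A T] [Module.Finite A T] : Algebra.FinitePresentation A T :=
  have := Module.finitePresentation_of_projective A T
  Algebra.FinitePresentation.of_finitePresentation A T

/-- Covering finitely many standard etale pieces. -/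
theorem exists_cover_finset (R S : Type u) [CommRing R] [CommRing S] [Algebra R S]
    (F : Finset {f : S // Algebra.IsStandardEtale R (Localization.Away f)}) :
    ∃ (T : Type u) (_ : CommRing T) (_ : Algebra R T), Module.Free R T ∧ Module.Finite R T ∧
      Module.FaithfullyFlat R T ∧
      ∀ (t : Ideal T) [t.IsPrime], (∃ f ∈ F, ∃ (Q : Ideal (Localization.Away f.1)), Q.IsPrime ∧
          t.under R = Q.under R) →
        ∃ (w : T) (_ : w ∉ t), Nonempty (S →ₐ[R] Localization.Away w) := by
  classical
  induction F using Finset.induction with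
  | empty =>
    exact ⟨R, inferInstance, Algebra.id R, inferInstance, inferInstance, inferInstance,
      fun t _ ⟨f, hf, _⟩ => absurd hf (Finset.notMem_empty f)⟩
  | insert f F _ ih =>
    obtain ⟨T, _, _, _, _, _, hT⟩ := ih
    haveI := f.2
    obtain ⟨T', _, _, _, _, hinj, hT'⟩ := exists_dominating' R (Localization.Away f.1)
    haveI := faithfullyFlat_of_free (A := R) (T := T') hinj
    refine ⟨T' ⊗[R] T, inferInstance, inferInstance, inferInstance, inferInstance,
      Module.FaithfullyFlat.trans R T' _, fun t _ ht => ?_⟩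
    obtain ⟨g, hg, Q, hQ, hQt⟩ := ht
    rcases Finset.mem_insert.1 hg with rfl | hg
    · let incl : T' →ₐ[R] T' ⊗[R] T := Algebra.TensorProduct.includeLeft
      have hu : (t.comap incl.toRingHom).under R = Q.under R := by
        rw [← hQt, Ideal.under_def, Ideal.under_def, Ideal.comap_comap]
        exact congrArg (fun φ : R →+* _ => Ideal.comap φ t) (RingHom.ext fun a => incl.commutes a)
      obtain ⟨w, hw, σ, -⟩ := hT' Q (t.comap incl.toRingHom) hu
      exact ⟨incl w, hw, ⟨((Localization.awayMapₐ incl w).comp σ).comp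
        (IsScalarTower.toAlgHom R S (Localization.Away g.1))⟩⟩
    · let incl : T →ₐ[R] T' ⊗[R] T := Algebra.TensorProduct.includeRight
      have hu : (t.comap incl.toRingHom).under R = t.under R := by
        rw [Ideal.under_def, Ideal.under_def, Ideal.comap_comap]
        exact congrArg (fun φ : R →+* _ => Ideal.comap φ t) (RingHom.ext fun a => incl.commutes a)
      obtain ⟨w, hw, ⟨σ⟩⟩ := hT (t.comap incl.toRingHom) ⟨g, hg, Q, hQ, hu.trans hQt⟩
      exact ⟨incl w, hw, ⟨(Localization.awayMapₐ incl w).comp σ⟩⟩

theorem exists_cover (R S : Type u) [CommRing R] [CommRing S] [Algebra R S] [Algebra.Etale R S]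
    (hs : Function.Surjective (PrimeSpectrum.comap (algebraMap R S))) :
    ∃ (T : Type u) (_ : CommRing T) (_ : Algebra R T), Module.Free R T ∧ Module.Finite R T ∧
      Module.FaithfullyFlat R T ∧
      ∀ (t : Ideal T) [t.IsPrime], ∃ (w : T) (_ : w ∉ t), Nonempty (S →ₐ[R] Localization.Away w) := by
  classical
  choose q hq using hs
  have hex : ∀ p, ∃ f : {f : S // Algebra.IsStandardEtale R (Localization.Away f)}, f.1 ∉ (q p).asIdeal := by
    intro p
    obtain ⟨f, hf, hstd⟩ := Algebra.IsEtaleAt.exists_isStandardEtale (R := R) (q p).asIdeal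
    exact ⟨⟨f, hstd⟩, hf⟩
  choose f hf using hex
  let U : PrimeSpectrum R → Set (PrimeSpectrum R) := fun p =>
    PrimeSpectrum.comap (algebraMap R S) '' (PrimeSpectrum.basicOpen (f p).1 : Set (PrimeSpectrum S))
  haveI : Algebra.HasGoingDown R S := inferInstance
  have hU : ∀ p, IsOpen (U p) := fun p =>
    PrimeSpectrum.isOpenMap_comap_of_hasGoingDown_of_finitePresentation _ (PrimeSpectrum.basicOpen (f p).1).2
  obtain ⟨s, hs'⟩ := isCompact_univ.elim_finite_subcover U hU
    fun p _ => Set.mem_iUnion.2 ⟨p, q p, hf p, hq p⟩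
  obtain ⟨T, _, _, hfree, hfin, hff, hT⟩ := exists_cover_finset R S (s.image f)
  refine ⟨T, inferInstance, inferInstance, hfree, hfin, hff, fun t _ => hT t ?_⟩
  obtain ⟨p, hp, x, hx, hxt⟩ := Set.mem_iUnion₂.1 (hs' (Set.mem_univ ⟨t.under R, inferInstance⟩))
  have hdis : Disjoint (Submonoid.powers (f p).1 : Set S) (x.asIdeal : Set S) := by
    rw [Set.disjoint_left]
    rintro _ ⟨N, rfl⟩ h
    exact hx (x.2.mem_of_pow_mem N h)
  refine ⟨f p, Finset.mem_image_of_mem f hp, x.asIdeal.map (algebraMap S (Localization.Away (f p).1)),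
    IsLocalization.isPrime_of_isPrime_disjoint _ _ _ x.2 hdis, ?_⟩
  rw [show t.under R = x.asIdeal.comap (algebraMap R S) from (congrArg PrimeSpectrum.asIdeal hxt).symm,
    Ideal.under_def, IsScalarTower.algebraMap_eq R S (Localization.Away (f p).1), ← Ideal.comap_comap]
  exact congrArg (Ideal.comap (algebraMap R S))
    (IsLocalization.comap_map_of_isPrime_disjoint _ _ x.2 hdis).symm

end Groth.Agent.CAlgH.EtaleFiniteCover
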