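import Mathlib

/-!
# Algebra for gluing étale lifts

* `tmul_one_bijective_of_torsion`, `descend`: descent of torsion cohomology along a flat map which
  is bijective modulo an ideal.
* `sqMul`: the multiplication map `E₀ ⊗ J → E` of a square zero thickening.
-/

set_option autoImplicit false

open scoped TensorProduct

namespace Groth.Agent.CAlgH.EtaleGlue

universe u v

section Torsion

variable {R : Type*} [CommRing R] {S : Type*} [CommRing S] [Algebra R S] (I : Ideal R)

/-- A map which is surjective modulo `I` is surjective modulo every power of `I`. -/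
theorem exists_sub_mem_pow
    (hs : ∀ c : S, ∃ b : R, algebraMap R S b - c ∈ I.map (algebraMap R S)) (k : ℕ) :
    ∀ c : S, ∃ b : R, c - algebraMap R S b ∈ (I ^ k).map (algebraMap R S) := by
  induction k with
  | zero =>
      intro c
      refine ⟨0, ?_⟩
      rw [pow_zero, Ideal.one_eq_top, Ideal.map_top]
      exact trivial
  | succ k ih =>
      intro c
      obtain ⟨b, hb⟩ := ih c
      have key : ∀ x ∈ (I ^ k).map (algebraMap R S),
          ∃ b' ∈ I ^ k, x - algebraMap R S b' ∈ (I ^ (k + 1)).map (algebraMap R S) := by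
        intro x hx
        induction hx using Submodule.span_induction with
        | mem x hx =>
            obtain ⟨i, hi, rfl⟩ := hx
            exact ⟨i, hi, by simp⟩
        | zero => exact ⟨0, zero_mem _, by simp⟩
        | add x y _ _ hx hy =>
            obtain ⟨b₁, h₁, h₁'⟩ := hx
            obtain ⟨b₂, h₂, h₂'⟩ := hy
            refine ⟨b₁ + b₂, add_mem h₁ h₂, ?_⟩
            have := add_mem h₁' h₂'
            rwa [map_add, add_sub_add_comm]
        | smul r x hx hx' =>
            obtain ⟨b₁, h₁, h₁'⟩ := hx'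
            obtain ⟨br, hbr⟩ := hs r
            refine ⟨br * b₁, Ideal.mul_mem_left _ _ h₁, ?_⟩
            have he : (r - algebraMap R S br) * x ∈ (I ^ (k + 1)).map (algebraMap R S) := by
              rw [pow_succ', Ideal.map_mul]
              refine Ideal.mul_mem_mul ?_ hx
              simpa using neg_mem hbr
            have := add_mem he (Ideal.mul_mem_left _ (algebraMap R S br) h₁')
            convert this using 1
            rw [map_mul, smul_eq_mul]
            ring
      obtain ⟨b', -, hb'⟩ := key _ hb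
      exact ⟨b + b', by rw [map_add]; convert hb' using 1; ring⟩

variable {M : Type*} [AddCommGroup M] [Module R M]

theorem tmul_eq_zero_of_mem (J : Ideal R) (m : M) (hJ : ∀ i ∈ J, i • m = 0) (x : S)
    (hx : x ∈ J.map (algebraMap R S)) : x ⊗ₜ[R] m = 0 := by
  induction hx using Submodule.span_induction with
  | mem x hx =>
      obtain ⟨i, hi, rfl⟩ := hx
      rw [Algebra.algebraMap_eq_smul_one, TensorProduct.smul_tmul, hJ i hi, TensorProduct.tmul_zero]
  | zero => rw [TensorProduct.zero_tmul]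
  | add x y _ _ hx hy => rw [TensorProduct.add_tmul, hx, hy, add_zero]
  | smul r x _ hx => rw [← TensorProduct.smul_tmul', hx, smul_zero]

/-- On `I`-power torsion modules, tensoring with a flat algebra which agrees modulo `I` does
nothing. -/
theorem tmul_one_bijective_of_torsion [Module.Flat R S]
    (hs : ∀ c : S, ∃ b : R, algebraMap R S b - c ∈ I.map (algebraMap R S))
    (hi : ∀ b : R, algebraMap R S b ∈ I.map (algebraMap R S) → b ∈ I)
    (htor : ∀ m : M, ∃ k : ℕ, ∀ i ∈ I ^ k, i • m = 0) :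
    Function.Bijective (fun m : M => (1 : S) ⊗ₜ[R] m) := by
  refine ⟨fun m₁ m₂ h => ?_, fun w => ?_⟩
  · rw [← sub_eq_zero]
    obtain ⟨k, hk⟩ := htor (m₁ - m₂)
    have h0 : (1 : S) ⊗ₜ[R] (m₁ - m₂) = 0 := by
      rw [TensorProduct.tmul_sub, sub_eq_zero]; exact h
    generalize m₁ - m₂ = m at hk h0
    set f := LinearMap.toSpanSingleton R M m
    let a : Ideal R := LinearMap.ker f
    have hinj : Function.Injective ((Submodule.liftQ a f le_rfl).lTensor S) :=
      Module.Flat.lTensor_preserves_injective_linearMap _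
        (LinearMap.ker_eq_bot.mp (Submodule.ker_liftQ_eq_bot _ _ _ le_rfl))
    have h1 : (1 : S) ⊗ₜ[R] (1 : R ⧸ a) = 0 := by
      apply hinj
      rw [LinearMap.lTensor_tmul, map_zero]
      show (1 : S) ⊗ₜ[R] (Submodule.liftQ a f le_rfl) (Submodule.Quotient.mk (1 : R)) = 0
      rw [Submodule.liftQ_apply]
      simpa [f] using h0
    have h2 : (1 : S ⧸ a.map (algebraMap R S)) = 0 := by
      let g : S ⊗[R] (R ⧸ a) →ₐ[R] S ⧸ a.map (algebraMap R S) :=
        Algebra.TensorProduct.lift (Ideal.Quotient.mkₐ R _)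
          (Ideal.Quotient.liftₐ a (Algebra.ofId R (S ⧸ a.map (algebraMap R S))) fun r hr => by
            show algebraMap R (S ⧸ a.map (algebraMap R S)) r = 0
            rw [IsScalarTower.algebraMap_apply R S (S ⧸ a.map (algebraMap R S))]
            exact Ideal.Quotient.eq_zero_iff_mem.mpr (Ideal.mem_map_of_mem _ hr))
          (fun _ _ => Commute.all _ _)
      have := congrArg g h1
      rwa [Algebra.TensorProduct.lift_tmul, map_one, map_one, mul_one, map_zero] at this
    have key : ∀ x ∈ a.map (algebraMap R S),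
        ∃ b ∈ a, x - algebraMap R S b ∈ I.map (algebraMap R S) := by
      intro x hx
      induction hx using Submodule.span_induction with
      | mem x hx =>
          obtain ⟨b, hb, rfl⟩ := hx
          exact ⟨b, hb, by simp⟩
      | zero => exact ⟨0, zero_mem _, by simp⟩
      | add x y _ _ hx hy =>
          obtain ⟨b₁, h₁, h₁'⟩ := hx
          obtain ⟨b₂, h₂, h₂'⟩ := hy
          refine ⟨b₁ + b₂, add_mem h₁ h₂, ?_⟩
          have := add_mem h₁' h₂'
          rwa [map_add, add_sub_add_comm]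
      | smul r x _ hx =>
          obtain ⟨b₁, h₁, h₁'⟩ := hx
          obtain ⟨br, hbr⟩ := hs r
          refine ⟨br * b₁, Ideal.mul_mem_left _ _ h₁, ?_⟩
          have := sub_mem (Ideal.mul_mem_left _ (algebraMap R S br) h₁')
            (Ideal.mul_mem_right x _ hbr)
          convert this using 1
          rw [map_mul, smul_eq_mul]
          ring
    obtain ⟨b, hb, hb'⟩ := key 1 (Ideal.Quotient.eq_zero_iff_mem.mp h2)
    have hbI : 1 - b ∈ I := hi _ (by simpa using hb')
    have htop : a ⊔ I ^ k = ⊤ := Ideal.sup_pow_eq_top <| by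
      rw [Ideal.eq_top_iff_one, show (1 : R) = b + (1 - b) by ring]
      exact add_mem (Ideal.mem_sup_left hb) (Ideal.mem_sup_right hbI)
    have : a = ⊤ := by
      rw [← htop, left_eq_sup]
      intro i hi'
      simpa [a, f] using hk i hi'
    have h1 : (1 : R) ∈ a := this ▸ Submodule.mem_top
    simpa [a, f] using h1
  · induction w using TensorProduct.induction_on with
    | zero => exact ⟨0, TensorProduct.tmul_zero _ _⟩
    | add x y hx hy =>
        obtain ⟨m₁, rfl⟩ := hx
        obtain ⟨m₂, rfl⟩ := hy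
        exact ⟨m₁ + m₂, TensorProduct.tmul_add _ _ _⟩
    | tmul c m =>
        obtain ⟨k, hk⟩ := htor m
        obtain ⟨b, hb⟩ := exists_sub_mem_pow I hs k c
        refine ⟨b • m, ?_⟩
        show (1 : S) ⊗ₜ[R] (b • m) = _
        rw [← TensorProduct.smul_tmul, ← Algebra.algebraMap_eq_smul_one, eq_comm, ← sub_eq_zero,
          ← TensorProduct.sub_tmul]
        exact tmul_eq_zero_of_mem _ m hk _ hb

theorem range_lTensor_le {N P Q : Type*} [AddCommGroup N] [Module R N] [AddCommGroup P] [Module R P]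
    [AddCommGroup Q] [Module R Q] (f : N →ₗ[R] Q) (g : P →ₗ[R] Q)
    (h : ∀ n, f n ∈ LinearMap.range g) (w : S ⊗[R] N) :
    f.lTensor S w ∈ LinearMap.range (g.lTensor S) := by
  induction w using TensorProduct.induction_on with
  | zero => simp
  | add x y hx hy => rw [map_add]; exact add_mem hx hy
  | tmul c n =>
      obtain ⟨p, hp⟩ := h n
      exact ⟨c ⊗ₜ p, by simp [hp]⟩

variable {X₀ X₁ X₂ : Type*} [AddCommGroup X₀] [Module R X₀] [AddCommGroup X₁] [Module R X₁]
  [AddCommGroup X₂] [Module R X₂] {ι : Type*} [Finite ι] (x : ι → R)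

/-- Powers of generators detect power torsion. -/
theorem exists_pow_smul_mem (N : Submodule R M) (m : M)
    (h : ∀ i, ∃ n : ℕ, x i ^ n • m ∈ N) :
    ∃ k : ℕ, ∀ r ∈ Ideal.span (Set.range x) ^ k, r • m ∈ N := by
  obtain ⟨k, hk⟩ := Ideal.exists_pow_le_of_le_radical_of_fg
    (J := N.comap (LinearMap.toSpanSingleton R M m)) (I := Ideal.span (Set.range x))
    (Ideal.span_le.mpr (by
      rintro _ ⟨i, rfl⟩
      obtain ⟨n, hn⟩ := h i
      exact ⟨n, by simpa using hn⟩))
    (Submodule.fg_span (Set.finite_range x))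
  exact ⟨k, fun r hr => by simpa using hk hr⟩

/-- **Descent of cohomology classes**: if the cohomology of `X₀ → X₁ → X₂` is `I`-power torsion
and `S` is flat and agrees with `R` modulo `I`, then a class of `X₂` which dies over `S` dies
over `R`, with the given primitive up to coboundaries. -/
theorem descend [Module.Flat R S]
    (hs : ∀ c : S, ∃ b : R, algebraMap R S b - c ∈
      (Ideal.span (Set.range x)).map (algebraMap R S))
    (hi : ∀ b : R, algebraMap R S b ∈ (Ideal.span (Set.range x)).map (algebraMap R S) →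
      b ∈ Ideal.span (Set.range x))
    (d₀ : X₀ →ₗ[R] X₁) (d₁ : X₁ →ₗ[R] X₂)
    (h₁ : ∀ z, d₁ z = 0 → ∀ i, ∃ n : ℕ, x i ^ n • z ∈ LinearMap.range d₀)
    (ε : X₂) (h₂ : ∀ i, ∃ n : ℕ, x i ^ n • ε ∈ LinearMap.range d₁)
    (δ : S ⊗[R] X₁) (hδ : d₁.lTensor S δ = 1 ⊗ₜ ε) :
    ∃ (z : X₁) (w : S ⊗[R] X₀), d₁ z = ε ∧ δ = 1 ⊗ₜ z + d₀.lTensor S w := by
  set I := Ideal.span (Set.range x)
  -- the class of `ε`
  let Q := X₂ ⧸ LinearMap.range d₁
  let T : Submodule R Q := Submodule.span R {Submodule.Quotient.mk ε}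
  have hTtor : ∀ m : T, ∃ k : ℕ, ∀ i ∈ I ^ k, i • m = 0 := fun m => by
    obtain ⟨k, hk⟩ := exists_pow_smul_mem x (LinearMap.range d₁) ε h₂
    obtain ⟨r, hr⟩ := Submodule.mem_span_singleton.mp m.2
    refine ⟨k, fun i hi => Subtype.ext ?_⟩
    show i • (m : Q) = 0
    rw [← hr, smul_comm, ← Submodule.Quotient.mk_smul,
      (Submodule.Quotient.mk_eq_zero _).mpr (hk i hi), smul_zero]
  have hε : (Submodule.Quotient.mk ε : Q) = 0 := by
    have h0 : (1 : S) ⊗ₜ[R] (⟨_, Submodule.mem_span_singleton_self _⟩ : T) = 0 := by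
      apply Module.Flat.lTensor_preserves_injective_linearMap T.subtype T.injective_subtype
      rw [LinearMap.lTensor_tmul, map_zero, Submodule.subtype_apply]
      show (1 : S) ⊗ₜ[R] (LinearMap.range d₁).mkQ ε = 0
      rw [← LinearMap.lTensor_tmul, ← hδ, ← LinearMap.comp_apply, ← LinearMap.lTensor_comp,
        LinearMap.range_mkQ_comp, LinearMap.lTensor_zero, LinearMap.zero_apply]
    have := (tmul_one_bijective_of_torsion I hs hi hTtor).1
      (h0.trans (TensorProduct.tmul_zero _ _).symm)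
    exact congrArg Subtype.val this
  obtain ⟨z₀, hz₀⟩ := (Submodule.Quotient.mk_eq_zero _).mp hε
  -- the difference is a cocycle
  let Z := LinearMap.ker d₁
  have hex : Function.Exact (Z.subtype.lTensor S) (d₁.lTensor S) :=
    Module.Flat.lTensor_exact S (LinearMap.exact_subtype_ker_map d₁)
  obtain ⟨w, hw⟩ := (hex (δ - 1 ⊗ₜ z₀)).mp (by
    rw [map_sub, hδ, LinearMap.lTensor_tmul, hz₀, sub_self])
  let D : Submodule R Z := (LinearMap.range d₀).comap Z.subtype
  have hDtor : ∀ m : Z ⧸ D, ∃ k : ℕ, ∀ i ∈ I ^ k, i • m = 0 := fun m => by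
    obtain ⟨z, rfl⟩ := Submodule.Quotient.mk_surjective _ m
    obtain ⟨k, hk⟩ := exists_pow_smul_mem x (LinearMap.range d₀) (z : X₁) (h₁ _ z.2)
    refine ⟨k, fun i hi => ?_⟩
    rw [← Submodule.Quotient.mk_smul, Submodule.Quotient.mk_eq_zero]
    exact hk i hi
  obtain ⟨m, hm⟩ := (tmul_one_bijective_of_torsion I hs hi hDtor).2 (D.mkQ.lTensor S w)
  obtain ⟨z, rfl⟩ := Submodule.Quotient.mk_surjective _ m
  have hex' : Function.Exact (D.subtype.lTensor S) (D.mkQ.lTensor S) :=
    lTensor_exact S (LinearMap.exact_subtype_mkQ D) D.mkQ_surjective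
  obtain ⟨v, hv⟩ := (hex' (w - 1 ⊗ₜ z)).mp (by
    rw [map_sub, LinearMap.lTensor_tmul, ← hm]
    exact sub_self _)
  obtain ⟨w₀, hw₀⟩ := range_lTensor_le (Z.subtype.comp D.subtype) d₀ (fun d => d.2) v
  refine ⟨z₀ + z, w₀, ?_, ?_⟩
  · rw [map_add, hz₀, LinearMap.mem_ker.mp z.2, add_zero]
  · rw [hw₀, LinearMap.lTensor_comp, LinearMap.comp_apply, hv, map_sub, hw, LinearMap.lTensor_tmul,
      TensorProduct.tmul_add, Submodule.subtype_apply]
    abel

end Torsion

section SqMul

variable {A : Type*} [CommRing A] {J : Ideal A}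
  {E E₀ : Type*} [CommRing E] [Algebra A E] [CommRing E₀] [Algebra A E₀] (π : E →ₐ[A] E₀)

/-- Multiplication `E ⊗ J → E`. -/
noncomputable def mulJ (J : Ideal A) (E : Type*) [CommRing E] [Algebra A E] : E ⊗[A] J →ₗ[A] E :=
  (TensorProduct.rid A E).toLinearMap ∘ₗ (Submodule.subtype J).lTensor E

@[simp] theorem mulJ_tmul (e : E) (j : J) : mulJ J E (e ⊗ₜ j) = e * algebraMap A E j := by
  simp [mulJ, Algebra.smul_def, mul_comm]

theorem range_mulJ : Set.range (mulJ J E) = (J.map (algebraMap A E) : Set E) := by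
  ext y
  constructor
  · rintro ⟨w, rfl⟩
    induction w using TensorProduct.induction_on with
    | zero => simp
    | add x y hx hy =>
        rw [map_add, SetLike.mem_coe]
        exact add_mem (SetLike.mem_coe.mp hx) (SetLike.mem_coe.mp hy)
    | tmul e j =>
        rw [mulJ_tmul]
        exact Ideal.mul_mem_left _ _ (Ideal.mem_map_of_mem _ j.2)
  · intro hy
    induction hy using Submodule.span_induction with
    | mem y hy =>
        obtain ⟨j, hj, rfl⟩ := hy
        exact ⟨1 ⊗ₜ ⟨j, hj⟩, by simp⟩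
    | zero => exact ⟨0, map_zero _⟩
    | add x y _ _ hx hy =>
        obtain ⟨a, rfl⟩ := hx
        obtain ⟨b, rfl⟩ := hy
        exact ⟨a + b, map_add _ _ _⟩
    | smul r y hmem hy =>
        obtain ⟨w, rfl⟩ := hy
        refine ⟨r • w, ?_⟩
        clear hmem
        induction w using TensorProduct.induction_on with
        | zero => simp
        | add x y hx hy => rw [smul_add, map_add, hx, hy, map_add, smul_add]
        | tmul e j =>
            rw [TensorProduct.smul_tmul', mulJ_tmul, mulJ_tmul, smul_eq_mul, smul_eq_mul, mul_assoc]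

variable (hπ : Function.Surjective π) (hker : ∀ e, π e = 0 → ∀ j ∈ J, e * algebraMap A E j = 0)

/-- Multiplication `E₀ ⊗ J → E` for a thickening whose kernel is killed by `J`. -/
noncomputable def sqMul : E₀ ⊗[A] J →ₗ[A] E :=
  (Submodule.liftQ (LinearMap.ker (π.toLinearMap.rTensor J)) (mulJ J E) (by
      intro w hw
      obtain ⟨v, rfl⟩ := (rTensor_exact (Q := J) (LinearMap.exact_subtype_ker_map π.toLinearMap)
        hπ w).mp hw
      rw [LinearMap.mem_ker, ← LinearMap.comp_apply]
      have : (mulJ J E).comp ((LinearMap.ker π.toLinearMap).subtype.rTensor J) = 0 :=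
        TensorProduct.ext' fun e j => by simpa using hker e e.2 j j.2
      rw [this, LinearMap.zero_apply])).comp
    ((π.toLinearMap.rTensor J).quotKerEquivOfSurjective
      (LinearMap.rTensor_surjective _ (g := π.toLinearMap) hπ)).symm.toLinearMap

theorem sqMul_rTensor (w : E ⊗[A] J) :
    sqMul π hπ hker (π.toLinearMap.rTensor J w) = mulJ J E w := by
  rw [sqMul, LinearMap.comp_apply, LinearEquiv.coe_toLinearMap]
  have : ((π.toLinearMap.rTensor J).quotKerEquivOfSurjective
      (LinearMap.rTensor_surjective _ (g := π.toLinearMap) hπ)).symm (π.toLinearMap.rTensor J w) =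
      Submodule.Quotient.mk w := by
    rw [LinearEquiv.symm_apply_eq, LinearMap.quotKerEquivOfSurjective_apply_mk]
  rw [this, Submodule.liftQ_apply]

@[simp] theorem sqMul_tmul (e : E) (j : J) :
    sqMul π hπ hker (π e ⊗ₜ j) = e * algebraMap A E j := by
  have := sqMul_rTensor π hπ hker (e ⊗ₜ j)
  simpa using this

theorem exists_sqMul_eq {y : E} (hy : y ∈ J.map (algebraMap A E)) :
    ∃ w, sqMul π hπ hker w = y := by
  rw [← SetLike.mem_coe, ← range_mulJ] at hy
  obtain ⟨w, rfl⟩ := hy
  exact ⟨_, sqMul_rTensor π hπ hker w⟩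

theorem sqMul_mem (w : E₀ ⊗[A] J) : sqMul π hπ hker w ∈ J.map (algebraMap A E) := by
  obtain ⟨v, rfl⟩ := LinearMap.rTensor_surjective J (g := π.toLinearMap) hπ w
  rw [sqMul_rTensor, ← SetLike.mem_coe, ← range_mulJ]
  exact ⟨v, rfl⟩

theorem sqMul_injective [Module.Flat A E] : Function.Injective (sqMul π hπ hker) := by
  intro a b h
  obtain ⟨a, rfl⟩ := LinearMap.rTensor_surjective J (g := π.toLinearMap) hπ a
  obtain ⟨b, rfl⟩ := LinearMap.rTensor_surjective J (g := π.toLinearMap) hπ b
  rw [sqMul_rTensor, sqMul_rTensor] at h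
  have : Function.Injective (mulJ J E) :=
    (TensorProduct.rid A E).injective.comp
      (Module.Flat.lTensor_preserves_injective_linearMap _ (Submodule.injective_subtype J))
  rw [this h]

theorem sqMul_natural {E' E₀' : Type*} [CommRing E'] [Algebra A E'] [CommRing E₀'] [Algebra A E₀']
    (π' : E' →ₐ[A] E₀') (hπ' : Function.Surjective π')
    (hker' : ∀ e, π' e = 0 → ∀ j ∈ J, e * algebraMap A E' j = 0)
    (g : E →ₐ[A] E') (g₀ : E₀ →ₐ[A] E₀') (h : ∀ e, π' (g e) = g₀ (π e)) (w : E₀ ⊗[A] J) :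
    sqMul π' hπ' hker' (g₀.toLinearMap.rTensor J w) = g (sqMul π hπ hker w) := by
  obtain ⟨v, rfl⟩ := LinearMap.rTensor_surjective J (g := π.toLinearMap) hπ w
  induction v using TensorProduct.induction_on with
  | zero => simp
  | add x y hx hy => simp only [map_add, hx, hy]
  | tmul e j =>
      simp only [LinearMap.rTensor_tmul, AlgHom.toLinearMap_apply]
      rw [← h, sqMul_tmul, sqMul_tmul, map_mul, AlgHom.commutes]

theorem sqMul_smul (e : E) (w : E₀ ⊗[A] J) :
    sqMul π hπ hker (π e • w) = e * sqMul π hπ hker w := by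
  obtain ⟨v, rfl⟩ := LinearMap.rTensor_surjective J (g := π.toLinearMap) hπ w
  induction v using TensorProduct.induction_on with
  | zero => simp
  | add x y hx hy => simp only [map_add, smul_add, hx, hy, mul_add]
  | tmul x j =>
      rw [LinearMap.rTensor_tmul, AlgHom.toLinearMap_apply, TensorProduct.smul_tmul', smul_eq_mul,
        ← map_mul, sqMul_tmul, sqMul_tmul, mul_assoc]

end SqMul

section Lift

variable {A : Type*} [CommRing A] {J : Ideal A} {E E' E₀' : Type u} [CommRing E] [Algebra A E]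
  [CommRing E'] [Algebra A E'] [CommRing E₀'] [Algebra A E₀']

theorem isNilpotent_ker (hJ : IsNilpotent J) (q : E' →ₐ[A] E₀')
    (hq : ∀ e, q e = 0 → e ∈ J.map (algebraMap A E')) : IsNilpotent (RingHom.ker (q : E' →+* E₀')) := by
  obtain ⟨n, hn⟩ := hJ
  refine ⟨n, le_bot_iff.mp ((Ideal.pow_right_mono (fun e he => hq e he) n).trans ?_)⟩
  rw [← Ideal.map_pow, hn, Ideal.zero_eq_bot, Ideal.map_bot]

theorem exists_hom_lift [Algebra.FormallySmooth A E] (hJ : IsNilpotent J) (q : E' →ₐ[A] E₀')
    (hqs : Function.Surjective q) (hq : ∀ e, q e = 0 → e ∈ J.map (algebraMap A E'))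
    (g : E →ₐ[A] E₀') : ∃ h : E →ₐ[A] E', ∀ e, q (h e) = g e :=
  ⟨Algebra.FormallySmooth.liftOfSurjective g q hqs (isNilpotent_ker hJ q hq),
    Algebra.FormallySmooth.liftOfSurjective_apply g q hqs _⟩

theorem hom_ext [Algebra.FormallyUnramified A E] (hJ : IsNilpotent J) (q : E' →ₐ[A] E₀')
    (hq : ∀ e, q e = 0 → e ∈ J.map (algebraMap A E')) {h₁ h₂ : E →ₐ[A] E'}
    (h : ∀ e, q (h₁ e) = q (h₂ e)) : h₁ = h₂ :=
  Algebra.FormallyUnramified.ext' (q : E' →+* E₀') (isNilpotent_ker hJ q hq) h₁ h₂ h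

end Lift

end Groth.Agent.CAlgH.EtaleGlue
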