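import Groth.Agent.CAlgH.EtaleGlueAlg
import Mathlib

/-!
# Gluing modules along a flat map and a Zariski cover of the complement

For `R` an `A`-algebra, `x : ι → A` and a flat `R`-algebra `S` agreeing with `R` modulo `(x)`:
exactness in degrees `0` and `1` of the Mayer-Vietoris complex of `R ⊗ V` for the cover
`S`, `R[1/x i]`.
-/

set_option autoImplicit false

open scoped TensorProduct

namespace Groth.Agent.CAlgH.EtaleGlue

variable (A : Type*) [CommRing A] (R : Type*) [CommRing R] [Algebra A R]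
  (V : Type*) [AddCommGroup V] [Module A V]

/-- `R[1/a]` for `a : A`. -/
abbrev Loc (a : A) : Type _ := Localization.Away (algebraMap A R a)

variable {A}

theorem isUnit_loc {a b : A} (h : a ∣ b) :
    IsUnit (algebraMap R (Loc A R b) (algebraMap A R a)) := by
  have := IsLocalization.Away.algebraMap_isUnit (S := Loc A R b) (algebraMap A R b)
  exact isUnit_of_dvd_unit (map_dvd _ (map_dvd _ h)) this

/-- Restriction `R[1/a] → R[1/b]` for `a ∣ b`. -/
noncomputable def res {a b : A} (h : a ∣ b) : Loc A R a →ₐ[R] Loc A R b :=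
  IsLocalization.Away.liftAlgHom (algebraMap A R a) (f := Algebra.ofId R (Loc A R b))
    (isUnit_loc R h)

theorem res_ext {a b : A} (f g : Loc A R a →ₐ[R] Loc A R b) : f = g :=
  Subsingleton.elim (h := IsLocalization.algHom_subsingleton
    (Submonoid.powers (algebraMap A R a))) _ _

theorem res_comp {a b c : A} (h : a ∣ b) (h' : b ∣ c) :
    (res R h').comp (res R h) = res R (h.trans h') := res_ext R _ _

/-- Localisation `R ⊗ V → R[1/a] ⊗ V`. -/
noncomputable def toLocV (a : A) : R ⊗[A] V →ₗ[R] Loc A R a ⊗[A] V :=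
  TensorProduct.AlgebraTensorModule.map (Algebra.linearMap R (Loc A R a)) LinearMap.id

/-- Restriction `R[1/a] ⊗ V → R[1/b] ⊗ V`. -/
noncomputable def resV {a b : A} (h : a ∣ b) : Loc A R a ⊗[A] V →ₗ[R] Loc A R b ⊗[A] V :=
  TensorProduct.AlgebraTensorModule.map (res R h).toLinearMap LinearMap.id

@[simp] theorem resV_tmul {a b : A} (h : a ∣ b) (l : Loc A R a) (v : V) :
    resV R V h (l ⊗ₜ v) = res R h l ⊗ₜ v := rfl

@[simp] theorem toLocV_tmul (a : A) (r : R) (v : V) :
    toLocV R V a (r ⊗ₜ v) = algebraMap R (Loc A R a) r ⊗ₜ v := rfl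

theorem resV_resV {a b c : A} (h : a ∣ b) (h' : b ∣ c) (m : Loc A R a ⊗[A] V) :
    resV R V h' (resV R V h m) = resV R V (h.trans h') m := by
  induction m using TensorProduct.induction_on with
  | zero => simp only [map_zero]
  | add x y hx hy => simp only [map_add, hx, hy]
  | tmul l v => rw [resV_tmul, resV_tmul, resV_tmul, ← res_comp R h h', AlgHom.comp_apply]

theorem resV_toLocV {a b : A} (h : a ∣ b) (m : R ⊗[A] V) :
    resV R V h (toLocV R V a m) = toLocV R V b m := by
  induction m using TensorProduct.induction_on with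
  | zero => simp only [map_zero]
  | add x y hx hy => simp only [map_add, hx, hy]
  | tmul l v => rw [toLocV_tmul, toLocV_tmul, resV_tmul, AlgHom.commutes]

instance isLocalizedModule_toLocV (a : A) :
    IsLocalizedModule (Submonoid.powers (algebraMap A R a)) (toLocV R V a) := by
  rw [isLocalizedModule_iff_isBaseChange (Submonoid.powers (algebraMap A R a)) (Loc A R a)]
  refine IsBaseChange.of_equiv
    (TensorProduct.AlgebraTensorModule.cancelBaseChange A R (Loc A R a) (Loc A R a) V) fun m => ?_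
  induction m using TensorProduct.induction_on with
  | zero => simp
  | add x y hx hy => rw [TensorProduct.tmul_add, map_add, hx, hy, map_add]
  | tmul r v =>
      rw [TensorProduct.AlgebraTensorModule.cancelBaseChange_tmul, toLocV_tmul,
        ← Algebra.algebraMap_eq_smul_one]

theorem smul_bijective {a b : A} (h : a ∣ b) (n : ℕ) :
    Function.Bijective (fun m : Loc A R b ⊗[A] V => algebraMap A R a ^ n • m) := by
  have hu := ((isUnit_loc R h).pow n)
  rw [← map_pow] at hu
  obtain ⟨u, hu⟩ := hu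
  have : (fun m : Loc A R b ⊗[A] V => algebraMap A R a ^ n • m) = fun m => (u : Loc A R b) • m := by
    funext m
    rw [hu, algebraMap_smul]
  rw [this]
  exact (MulAction.bijective u)

theorem exists_pow_smul_eq (a : A) (m : Loc A R a ⊗[A] V) :
    ∃ (n : ℕ) (m₀ : R ⊗[A] V), algebraMap A R a ^ n • m = toLocV R V a m₀ := by
  obtain ⟨⟨m₀, s⟩, hs⟩ := IsLocalizedModule.surj (Submonoid.powers (algebraMap A R a))
    (toLocV R V a) m
  obtain ⟨n, hn⟩ := s.2
  exact ⟨n, m₀, by rw [← hs]; simp only [Submonoid.smul_def, ← hn]⟩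

theorem exists_pow_smul_eq_zero (a : A) (m : R ⊗[A] V) (h : toLocV R V a m = 0) :
    ∃ n : ℕ, algebraMap A R a ^ n • m = 0 := by
  obtain ⟨s, hs⟩ := IsLocalizedModule.exists_of_eq (S := Submonoid.powers (algebraMap A R a))
    (f := toLocV R V a) (x₁ := m) (x₂ := 0) (by rw [h, map_zero])
  obtain ⟨n, hn⟩ := s.2
  refine ⟨n, ?_⟩
  simpa [Submonoid.smul_def, ← hn] using hs

/-- The kernel of `R[1/a] ⊗ V → R[1/(a b)] ⊗ V` is `b`-power torsion. -/
theorem exists_pow_smul_eq_zero_res {a b c : A} (hc : c = a * b) (h : a ∣ c)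
    (m : Loc A R a ⊗[A] V) (hm : resV R V h m = 0) : ∃ n : ℕ, algebraMap A R b ^ n • m = 0 := by
  obtain ⟨n, m₀, hn⟩ := exists_pow_smul_eq R V a m
  obtain ⟨t, ht⟩ := exists_pow_smul_eq_zero R V c m₀ (by
    rw [← resV_toLocV R V h, ← hn, map_smul, hm, smul_zero])
  refine ⟨t, (smul_bijective R V (dvd_refl a) (t + n)).injective ?_⟩
  show algebraMap A R a ^ (t + n) • algebraMap A R b ^ t • m = algebraMap A R a ^ (t + n) • (0 : _)
  rw [smul_zero, smul_smul, show algebraMap A R a ^ (t + n) * algebraMap A R b ^ t =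
    algebraMap A R c ^ t * algebraMap A R a ^ n by rw [hc, map_mul, mul_pow, pow_add]; ring,
    mul_smul, hn, ← map_smul, ht, map_zero]

/-- Up to powers of `b`, sections over `a b` extend to `a`. -/
theorem exists_res_eq {a b c : A} (hc : c = a * b) (h : a ∣ c) (m : Loc A R c ⊗[A] V) :
    ∃ n : ℕ, ∀ n', n ≤ n' → ∃ m' : Loc A R a ⊗[A] V,
      resV R V h m' = algebraMap A R b ^ n' • m := by
  obtain ⟨n, m₀, hn⟩ := exists_pow_smul_eq R V c m
  refine ⟨n, fun n' hn' => ?_⟩
  obtain ⟨y, hy⟩ := (smul_bijective R V (dvd_refl a) n).surjective (toLocV R V a m₀)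
  refine ⟨algebraMap A R b ^ (n' - n) • y, (smul_bijective R V h n).injective ?_⟩
  show algebraMap A R a ^ n • resV R V h (algebraMap A R b ^ (n' - n) • y) =
    algebraMap A R a ^ n • algebraMap A R b ^ n' • m
  have hy' : algebraMap A R a ^ n • y = toLocV R V a m₀ := hy
  rw [map_smul, smul_comm, ← map_smul (resV R V h), hy', resV_toLocV, ← hn, smul_smul, smul_smul]
  congr 1
  rw [hc, map_mul, mul_pow]
  conv_rhs => rw [show n' = (n' - n) + n by omega, pow_add]
  ring

variable {ι : Type*} [Fintype ι] (x : ι → A)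

/-- `R ⊗ V → ∏ R[1/x i] ⊗ V`. -/
noncomputable def cech₀ : R ⊗[A] V →ₗ[R] ((i : ι) → Loc A R (x i) ⊗[A] V) :=
  LinearMap.pi fun i => toLocV R V (x i)

/-- `∏ R[1/x i] ⊗ V → ∏ R[1/(x i x j)] ⊗ V`. -/
noncomputable def cech₁ : ((i : ι) → Loc A R (x i) ⊗[A] V) →ₗ[R]
    ((p : ι × ι) → Loc A R (x p.1 * x p.2) ⊗[A] V) :=
  LinearMap.pi fun p => (resV R V (dvd_mul_left (x p.2) (x p.1))).comp (LinearMap.proj p.2) -
    (resV R V (dvd_mul_right (x p.1) (x p.2))).comp (LinearMap.proj p.1)

theorem cech₁_apply (f : (i : ι) → Loc A R (x i) ⊗[A] V) (p : ι × ι) :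
    cech₁ R V x f p = resV R V (dvd_mul_left (x p.2) (x p.1)) (f p.2) -
      resV R V (dvd_mul_right (x p.1) (x p.2)) (f p.1) := rfl

theorem cech₁_cech₀ (m : R ⊗[A] V) : cech₁ R V x (cech₀ R V x m) = 0 := by
  funext p
  simp [cech₁_apply, cech₀, resV_toLocV]

theorem torsion₁ (f : (i : ι) → Loc A R (x i) ⊗[A] V) (hf : cech₁ R V x f = 0) (k : ι) :
    ∃ n : ℕ, algebraMap A R (x k) ^ n • f ∈ LinearMap.range (cech₀ R V x) := by
  obtain ⟨n, m₀, hn⟩ := exists_pow_smul_eq R V (x k) (f k)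
  have : ∀ i, ∃ t, ∀ t', t ≤ t' →
      algebraMap A R (x k) ^ t' • (algebraMap A R (x k) ^ n • f i - toLocV R V (x i) m₀) = 0 := by
    intro i
    obtain ⟨t, ht⟩ := exists_pow_smul_eq_zero_res R V rfl (dvd_mul_right (x i) (x k))
      (algebraMap A R (x k) ^ n • f i - toLocV R V (x i) m₀) (by
        have h0 := congrFun hf (i, k)
        rw [cech₁_apply, Pi.zero_apply, sub_eq_zero] at h0
        rw [map_sub, map_smul, ← h0, ← map_smul, hn, resV_toLocV, resV_toLocV, sub_self])
    exact ⟨t, fun t' ht' => by rw [← Nat.sub_add_cancel ht', pow_add, mul_smul, ht, smul_zero]⟩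
  choose t ht using this
  obtain ⟨T, hT⟩ := Finite.exists_le t
  refine ⟨T + n, algebraMap A R (x k) ^ T • m₀, ?_⟩
  funext i
  have h0 := ht i T (hT i)
  rw [smul_sub, sub_eq_zero] at h0
  simp [cech₀, pow_add, mul_smul, h0]

theorem torsion₂ (ε : (p : ι × ι) → Loc A R (x p.1 * x p.2) ⊗[A] V)
    (hε : ∀ i j k, resV R V (dvd_mul_right (x i * x j) (x k)) (ε (i, j)) =
      resV R V ⟨x i, by ring⟩ (ε (k, j)) -
      resV R V (b := x i * x j * x k) ⟨x j, by ring⟩ (ε (k, i))) (k : ι) :
    ∃ n : ℕ, algebraMap A R (x k) ^ n • ε ∈ LinearMap.range (cech₁ R V x) := by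
  choose n hn using fun i => exists_res_eq R V (mul_comm (x k) (x i))
    (dvd_mul_left (x i) (x k)) (ε (k, i))
  obtain ⟨N, hN⟩ := Finite.exists_le n
  choose y hy using fun i => hn i N (hN i)
  have : ∀ p : ι × ι, ∃ t, ∀ t', t ≤ t' → algebraMap A R (x k) ^ t' •
      (algebraMap A R (x k) ^ N • ε p - cech₁ R V x y p) = 0 := by
    rintro ⟨i, j⟩
    have h1 : x k * x i ∣ x i * x j * x k := ⟨x j, by ring⟩
    have h2 : x k * x j ∣ x i * x j * x k := ⟨x i, by ring⟩
    obtain ⟨t, ht⟩ := exists_pow_smul_eq_zero_res R V rfl (dvd_mul_right (x i * x j) (x k))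
      (algebraMap A R (x k) ^ N • ε (i, j) - cech₁ R V x y (i, j)) (by
        rw [map_sub, map_smul, hε, cech₁_apply, map_sub, resV_resV, resV_resV,
          ← resV_resV R V (dvd_mul_left (x j) (x k)) h2,
          ← resV_resV R V (dvd_mul_left (x i) (x k)) h1, hy, hy, map_smul, map_smul, smul_sub,
          sub_self])
    exact ⟨t, fun t' ht' => by rw [← Nat.sub_add_cancel ht', pow_add, mul_smul, ht, smul_zero]⟩
  choose t ht using this
  obtain ⟨T, hT⟩ := Finite.exists_le t
  refine ⟨T + N, algebraMap A R (x k) ^ T • y, ?_⟩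
  funext p
  have h0 := ht p T (hT p)
  rw [smul_sub, sub_eq_zero] at h0
  rw [map_smul, Pi.smul_apply, Pi.smul_apply, ← h0, pow_add, mul_smul]

section Glue

variable {S : Type*} [CommRing S] [Algebra R S] [Module.Flat R S]
  (hs : ∀ c : S, ∃ b : R, algebraMap R S b - c ∈
    (Ideal.span (Set.range fun i => algebraMap A R (x i))).map (algebraMap R S))
  (hi : ∀ b : R, algebraMap R S b ∈
    (Ideal.span (Set.range fun i => algebraMap A R (x i))).map (algebraMap R S) →
    b ∈ Ideal.span (Set.range fun i => algebraMap A R (x i)))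

omit [Module.Flat R S] in
theorem piRight_lTensor {κ : Type*} [Fintype κ] [DecidableEq κ] {M : κ → Type*}
    [∀ i, AddCommGroup (M i)] [∀ i, Module R (M i)] {N : Type*} [AddCommGroup N] [Module R N]
    (f : N →ₗ[R] ((i : κ) → M i)) (w : S ⊗[R] N) (i : κ) :
    TensorProduct.piRight R R S M (f.lTensor S w) i = ((LinearMap.proj i).comp f).lTensor S w := by
  induction w using TensorProduct.induction_on with
  | zero => simp
  | add x y hx hy => simp only [map_add, Pi.add_apply, hx, hy]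
  | tmul c n => simp

include hs hi in
/-- Uniqueness in gluing. -/
theorem glue_unique (m : R ⊗[A] V) (h1 : (1 : S) ⊗ₜ[R] m = 0)
    (h2 : ∀ i, toLocV R V (x i) m = 0) : m = 0 := by
  have htor : ∀ z : LinearMap.ker (cech₀ R V x),
      ∃ k : ℕ, ∀ r ∈ Ideal.span (Set.range fun i => algebraMap A R (x i)) ^ k, r • z = 0 := by
    intro z
    obtain ⟨k, hk⟩ := exists_pow_smul_mem (fun i => algebraMap A R (x i))
      (⊥ : Submodule R (R ⊗[A] V)) (z : R ⊗[A] V) fun i => by
        obtain ⟨n, hn⟩ := exists_pow_smul_eq_zero R V (x i) (z : R ⊗[A] V)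
          (congrFun (LinearMap.mem_ker.mp z.2) i)
        exact ⟨n, (Submodule.mem_bot R).mpr hn⟩
    exact ⟨k, fun r hr => Subtype.ext ((Submodule.mem_bot R).mp (hk r hr))⟩
  have hm : m ∈ LinearMap.ker (cech₀ R V x) := LinearMap.mem_ker.mpr (funext h2)
  have := (tmul_one_bijective_of_torsion (M := LinearMap.ker (cech₀ R V x)) _ hs hi htor).1
    (a₁ := ⟨m, hm⟩) (a₂ := 0) (by
      apply Module.Flat.lTensor_preserves_injective_linearMap _
        (LinearMap.ker (cech₀ R V x)).injective_subtype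
      simpa using h1)
  exact congrArg Subtype.val this

include hs hi in
/-- Gluing in degree `0`. -/
theorem glue₀ (f : (i : ι) → Loc A R (x i) ⊗[A] V) (hf : cech₁ R V x f = 0) (w : S ⊗[R] (R ⊗[A] V))
    (hw : ∀ i, (toLocV R V (x i)).lTensor S w = 1 ⊗ₜ f i) :
    ∃ m : R ⊗[A] V, w = 1 ⊗ₜ m ∧ ∀ i, toLocV R V (x i) m = f i := by
  classical
  obtain ⟨z, v, hz, hv⟩ := descend (fun i => algebraMap A R (x i)) hs hi
    (0 : R ⊗[A] V →ₗ[R] R ⊗[A] V) (cech₀ R V x)
    (fun z hz i => by
      obtain ⟨n, hn⟩ := exists_pow_smul_eq_zero R V (x i) z (congrFun hz i)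
      exact ⟨n, 0, by rw [LinearMap.zero_apply]; exact hn.symm⟩)
    f (torsion₁ R V x f hf) w (by
      apply (TensorProduct.piRight R R S _).injective
      funext i
      rw [piRight_lTensor, TensorProduct.piRight_apply, TensorProduct.piRightHom_tmul]
      exact hw i)
  refine ⟨z, ?_, fun i => congrFun hz i⟩
  rw [hv, LinearMap.lTensor_zero, LinearMap.zero_apply, add_zero]

include hs hi in
/-- Gluing in degree `1`. -/
theorem glue₁ (ε : (p : ι × ι) → Loc A R (x p.1 * x p.2) ⊗[A] V)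
    (hε : ∀ i j k, resV R V (dvd_mul_right (x i * x j) (x k)) (ε (i, j)) =
      resV R V ⟨x i, by ring⟩ (ε (k, j)) -
      resV R V (b := x i * x j * x k) ⟨x j, by ring⟩ (ε (k, i)))
    (δ : (i : ι) → S ⊗[R] (Loc A R (x i) ⊗[A] V))
    (hδ : ∀ p : ι × ι, (resV R V (dvd_mul_left (x p.2) (x p.1))).lTensor S (δ p.2) -
      (resV R V (dvd_mul_right (x p.1) (x p.2))).lTensor S (δ p.1) = 1 ⊗ₜ ε p) :
    ∃ (f : (i : ι) → Loc A R (x i) ⊗[A] V) (w : S ⊗[R] (R ⊗[A] V)),
      cech₁ R V x f = ε ∧ ∀ i, δ i = 1 ⊗ₜ f i + (toLocV R V (x i)).lTensor S w := by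
  classical
  set e := TensorProduct.piRight R R S (fun i => Loc A R (x i) ⊗[A] V)
  have hproj : ∀ i, (LinearMap.proj i :
      ((i : ι) → Loc A R (x i) ⊗[A] V) →ₗ[R] _).lTensor S (e.symm δ) = δ i := fun i => by
    have := piRight_lTensor (R := R) (S := S) LinearMap.id (e.symm δ) i
    rw [LinearMap.lTensor_id, LinearMap.id_apply, LinearMap.comp_id] at this
    rw [← this]
    exact congrFun (e.apply_symm_apply δ) i
  obtain ⟨z, v, hz, hv⟩ := descend (fun i => algebraMap A R (x i)) hs hi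
    (cech₀ R V x) (cech₁ R V x) (torsion₁ R V x) ε (torsion₂ R V x ε hε) (e.symm δ) (by
      apply (TensorProduct.piRight R R S _).injective
      funext p
      rw [piRight_lTensor, TensorProduct.piRight_apply, TensorProduct.piRightHom_tmul]
      refine Eq.trans ?_ (hδ p)
      rw [cech₁, LinearMap.proj_pi, LinearMap.lTensor_sub, LinearMap.lTensor_comp,
        LinearMap.lTensor_comp, LinearMap.sub_apply, LinearMap.comp_apply, LinearMap.comp_apply,
        hproj, hproj])
  refine ⟨z, v, hz, fun i => ?_⟩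
  rw [← hproj i, hv, map_add, LinearMap.lTensor_tmul, LinearMap.proj_apply, ← LinearMap.comp_apply,
    ← LinearMap.lTensor_comp, cech₀, LinearMap.proj_pi]

end Glue

end Groth.Agent.CAlgH.EtaleGlue
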