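import Groth.Agent.CAlgH.EtaleGlueStep
import Mathlib

/-!
# Lifting algebras étale away from an ideal along nilpotent thickenings
-/

set_option autoImplicit false

open scoped TensorProduct

namespace Groth.Agent.CAlgH.EtaleGlue

universe u

variable {A : Type u} [CommRing A]

/-- The square zero step. -/
theorem step [IsNoetherianRing A] {I J : Ideal A} (hJ2 : J * J = ⊥)
    {C C₀ B₀ : Type u} [CommRing C] [Algebra A C] [CommRing C₀] [Algebra A C₀]
    [CommRing B₀] [Algebra A B₀] [Algebra B₀ C₀] [IsScalarTower A B₀ C₀] [Algebra.Etale B₀ C₀]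
    [Algebra.FiniteType A B₀]
    (hC : ∀ a ∈ I, Algebra.Etale A (Loc A C a))
    (π : C →ₐ[A] C₀) (hπ : Function.Surjective π)
    (hπk : ∀ c, π c = 0 → c ∈ J.map (algebraMap A C))
    (hB₀J : ∀ j ∈ J, algebraMap A B₀ j = 0)
    (hB₀ : ∀ a ∈ I, ∃ g : A ⧸ J →+* Loc A B₀ a,
      g.comp (Ideal.Quotient.mk J) = algebraMap A (Loc A B₀ a) ∧ g.Etale)
    (hs : ∀ c : C₀, ∃ b : B₀, algebraMap B₀ C₀ b - c ∈ I.map (algebraMap A C₀))
    (hi : ∀ b : B₀, algebraMap B₀ C₀ b ∈ I.map (algebraMap A C₀) → b ∈ I.map (algebraMap A B₀)) :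
    ∃ (B : Type u) (_ : CommRing B) (_ : Algebra A B) (β : B →ₐ[A] B₀) (g : B →ₐ[A] C),
      Algebra.FiniteType A B ∧ g.toRingHom.Etale ∧
      (∀ a ∈ I, Algebra.Etale A (Loc A B a)) ∧ Function.Surjective β ∧
      RingHom.ker β = J.map (algebraMap A B) ∧ ∀ b, algebraMap B₀ C₀ (β b) = π (g b) := by
  classical
  obtain ⟨s, hsI⟩ := IsNoetherian.noetherian I
  let x : (↥s : Type u) → A := fun i => i.1
  have hspan : Ideal.span (Set.range x) = I := by
    rw [← hsI]; congr 1; ext; simp [x]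
  have hxI : ∀ i, x i ∈ I := fun i => hspan ▸ Ideal.subset_span (Set.mem_range_self i)
  have hspanB : Ideal.span (Set.range fun i => algebraMap A B₀ (x i)) = I.map (algebraMap A B₀) := by
    rw [← hspan, Ideal.map_span, ← Set.range_comp]; rfl
  have hspanC : (Ideal.span (Set.range fun i => algebraMap A B₀ (x i))).map (algebraMap B₀ C₀) =
      I.map (algebraMap A C₀) := by
    rw [hspanB, Ideal.map_map, ← IsScalarTower.algebraMap_eq]
  have hlift : ∀ a : A, ∃ (E : Type u) (_ : CommRing E) (_ : Algebra A E) (p : E →ₐ[A] Loc A B₀ a),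
      Function.Surjective p ∧ (∀ e, p e = 0 → e ∈ J.map (algebraMap A E)) ∧
        (a ∈ I → Algebra.Etale A E) := by
    intro a
    by_cases ha : a ∈ I
    · obtain ⟨g, hg, hge⟩ := hB₀ a ha
      letI := g.toAlgebra
      haveI : Algebra.Etale (A ⧸ J) (Loc A B₀ a) := hge
      obtain ⟨E, _, _, hE, θ, hθs, hθk, hθa⟩ := HenselLib.exists_etale_lift A J (Loc A B₀ a)
      refine ⟨E, inferInstance, inferInstance,
        { θ with commutes' := fun c => (hθa c).trans (RingHom.congr_fun hg c) }, hθs,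
        fun e he => hθk.le he, fun _ => hE⟩
    · exact ⟨Loc A B₀ a, inferInstance, inferInstance, AlgHom.id A _, fun y => ⟨y, rfl⟩,
        fun e he => by rw [show e = 0 from he]; exact zero_mem _, fun h => absurd h ha⟩
  choose L _ _ p hps hpk hLe using hlift
  have hJ : IsNilpotent J := ⟨2, by rw [pow_two]; exact hJ2⟩
  have hrex : ∀ a, a ∈ I → ∃ r : L a →ₐ[A] Loc A C a,
      ∀ e, qL B₀ π a (r e) = incR C₀ (B₀ := B₀) a (p a e) := fun a ha => by
    have := hLe a ha
    exact exists_hom_lift hJ (qL B₀ π a) (qL_surjective_ker π hπ hπk a).1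
      (qL_surjective_ker π hπ hπk a).2 ((incR C₀ (B₀ := B₀) a).comp (p a))
  choose r hr using hrex
  have hρex : ∀ a b, a ∈ I → (h : a ∣ b) → ∃ ρ : L a →ₐ[A] L b,
      ∀ e, p b (ρ e) = res B₀ h (p a e) := fun a b ha h => by
    have := hLe a ha
    exact exists_hom_lift hJ (p b) (hps b) (hpk b) (((res B₀ h).restrictScalars A).comp (p a))
  choose ρ hρ using hρex
  have hs' : ∀ c : C₀, ∃ b : B₀, algebraMap B₀ C₀ b - c ∈
      (Ideal.span (Set.range fun i => algebraMap A B₀ (x i))).map (algebraMap B₀ C₀) := fun c => by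
    obtain ⟨b, hb⟩ := hs c
    exact ⟨b, by rw [hspanC]; exact hb⟩
  have hi' : ∀ b : B₀, algebraMap B₀ C₀ b ∈
      (Ideal.span (Set.range fun i => algebraMap A B₀ (x i))).map (algebraMap B₀ C₀) →
      b ∈ Ideal.span (Set.range fun i => algebraMap A B₀ (x i)) := fun b hb => by
    rw [hspanC] at hb; rw [hspanB]; exact hi b hb
  obtain ⟨β, hβs, hβC, hβL⟩ :=
    exists_toBase hJ2 π hπ hπk x hxI p hps hpk hLe hC r hr ρ hρ hs' hi' hB₀J
  exact ⟨gB x hxI r ρ, inferInstance, inferInstance, β, gToC x hxI r ρ,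
    finiteType hJ2 π hπ hπk x hxI p hps hpk hLe hC r hr ρ hρ hs' hi' hB₀J β hβs hβC hβL,
    etale_toC hJ2 π hπ hπk x hxI p hps hpk hLe hC r hr ρ hρ hs' hi' hB₀J β hβs hβC hβL,
    fun a ha => etale_away hJ2 π hπ hπk x hxI p hps hpk hLe hC r hr ρ hρ hs' hi' hB₀J β hβs hβC
      hβL a (hspan.symm ▸ ha),
    hβs, ker_toBase hJ2 π hπ hπk x hxI p hps hpk hLe hC r hr ρ hρ hs' hi' hB₀J β hβs hβC hβL,
    hβC⟩

/-- An étale map which is bijective modulo `I` and a nilpotent ideal is bijective modulo `I`. -/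
theorem bijective_mod_of_nilpotent {B C B₀ C₀ : Type u} [CommRing B] [CommRing C] [CommRing B₀]
    [CommRing C₀] [Algebra B C] [Algebra.Etale B C] [Algebra B₀ C₀]
    (I : Ideal B) (β : B →+* B₀) (hN : IsNilpotent (RingHom.ker β)) (hβ : Function.Surjective β)
    (π : C →+* C₀) (hπ : Function.Surjective π)
    (hπk : RingHom.ker π ≤ (RingHom.ker β).map (algebraMap B C))
    (hcomm : ∀ b, algebraMap B₀ C₀ (β b) = π (algebraMap B C b))
    (hs : ∀ c : C₀, ∃ b : B₀, algebraMap B₀ C₀ b - c ∈ (I.map β).map (algebraMap B₀ C₀))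
    (hi : ∀ b : B₀, algebraMap B₀ C₀ b ∈ (I.map β).map (algebraMap B₀ C₀) → b ∈ I.map β) :
    (∀ c : C, ∃ b : B, algebraMap B C b - c ∈ I.map (algebraMap B C)) ∧
      ∀ b : B, algebraMap B C b ∈ I.map (algebraMap B C) → b ∈ I := by
  have hIC : (I.map β).map (algebraMap B₀ C₀) = (I.map (algebraMap B C)).map π := by
    rw [Ideal.map_map, Ideal.map_map]
    exact congrArg (Ideal.map · I) (RingHom.ext hcomm)
  set N := RingHom.ker β with hNdef
  set K := (I ⊔ N).map (algebraMap B C) with hK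
  have hNC : ∀ z ∈ N.map (algebraMap B C), π z = 0 := fun z hz => by
    refine (show N.map (algebraMap B C) ≤ RingHom.ker π from ?_) hz
    exact Ideal.map_le_iff_le_comap.mpr fun n hn => by
      rw [Ideal.mem_comap, RingHom.mem_ker, ← hcomm, RingHom.mem_ker.mp hn, map_zero]
  have ha : ∀ c : C, ∃ b : B, algebraMap B C b - c ∈ K := fun c => by
    obtain ⟨b₀, hb⟩ := hs (π c)
    obtain ⟨b, rfl⟩ := hβ b₀
    rw [hcomm, hIC, ← map_sub] at hb
    have := Ideal.mem_comap.mpr hb
    rw [Ideal.comap_map_of_surjective π hπ] at this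
    refine ⟨b, ?_⟩
    rw [hK, Ideal.map_sup]
    exact sup_le_sup_left hπk _ this
  have hb : ∀ b : B, algebraMap B C b ∈ K → b ∈ I ⊔ N := fun b hb => by
    rw [hK, Ideal.map_sup] at hb
    obtain ⟨y, hy, z, hz, hyz⟩ := Submodule.mem_sup.mp hb
    have h1 : algebraMap B₀ C₀ (β b) ∈ (I.map β).map (algebraMap B₀ C₀) := by
      rw [hcomm, ← hyz, map_add, hNC z hz, add_zero, hIC]
      exact Ideal.mem_map_of_mem π hy
    have h2 := Ideal.mem_comap.mpr (hi _ h1)
    rw [Ideal.comap_map_of_surjective β hβ] at h2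
    exact h2
  -- invert modulo `I ⊔ N`
  let e : (B ⧸ (I ⊔ N)) →ₐ[B] C ⧸ K := Ideal.quotientMapₐ K (Algebra.ofId B C) Ideal.le_comap_map
  have he : Function.Bijective e := by
    refine ⟨(injective_iff_map_eq_zero e).mpr fun q hq => ?_, fun q => ?_⟩
    · obtain ⟨b, rfl⟩ := Ideal.Quotient.mk_surjective q
      exact Ideal.Quotient.eq_zero_iff_mem.mpr (hb b (Ideal.Quotient.eq_zero_iff_mem.mp hq))
    · obtain ⟨c, rfl⟩ := Ideal.Quotient.mk_surjective q
      obtain ⟨b, hbc⟩ := ha c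
      exact ⟨Ideal.Quotient.mk _ b, Ideal.Quotient.eq.mpr hbc⟩
  let ψ₀ : C →ₐ[B] B ⧸ (I ⊔ N) := (AlgEquiv.ofBijective e he).symm.toAlgHom.comp (Ideal.Quotient.mkₐ B K)
  let q : (B ⧸ I) →ₐ[B] B ⧸ (I ⊔ N) := Ideal.Quotient.factorₐ B le_sup_left
  have hq : ∀ y, q y = 0 → y ∈ N.map (algebraMap B (B ⧸ I)) := fun y hy => by
    obtain ⟨b, rfl⟩ := Ideal.Quotient.mk_surjective y
    obtain ⟨i, hi', n, hn, rfl⟩ := Submodule.mem_sup.mp (Ideal.Quotient.eq_zero_iff_mem.mp hy)
    rw [map_add, Ideal.Quotient.eq_zero_iff_mem.mpr hi', zero_add]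
    exact Ideal.mem_map_of_mem _ hn
  obtain ⟨ψ, hψ⟩ := exists_hom_lift (E := C) hN q (Ideal.Quotient.factor_surjective le_sup_left) hq ψ₀
  let e' : (B ⧸ I) →ₐ[B] C ⧸ I.map (algebraMap B C) :=
    Ideal.quotientMapₐ _ (Algebra.ofId B C) Ideal.le_comap_map
  let q' : (C ⧸ I.map (algebraMap B C)) →ₐ[B] C ⧸ K :=
    Ideal.Quotient.factorₐ B (by rw [hK, Ideal.map_sup]; exact le_sup_left)
  have hq' : ∀ y, q' y = 0 → y ∈ N.map (algebraMap B (C ⧸ I.map (algebraMap B C))) := fun y hy => by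
    obtain ⟨c, rfl⟩ := Ideal.Quotient.mk_surjective y
    have hc : c ∈ K := Ideal.Quotient.eq_zero_iff_mem.mp hy
    rw [hK, Ideal.map_sup] at hc
    obtain ⟨i, hi', n, hn, rfl⟩ := Submodule.mem_sup.mp hc
    rw [map_add, Ideal.Quotient.eq_zero_iff_mem.mpr hi', zero_add,
      IsScalarTower.algebraMap_eq B C (C ⧸ I.map (algebraMap B C)), ← Ideal.map_map]
    exact Ideal.mem_map_of_mem _ hn
  have key : e'.comp ψ = Ideal.Quotient.mkₐ B (I.map (algebraMap B C)) := by
    refine hom_ext hN q' hq' fun c => ?_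
    have h1 : ∀ y, q' (e' y) = e (q y) := fun y => by
      obtain ⟨b, rfl⟩ := Ideal.Quotient.mk_surjective y
      rfl
    show q' (e' (ψ c)) = _
    rw [h1, hψ]
    show e ((AlgEquiv.ofBijective e he).symm (Ideal.Quotient.mk K c)) = Ideal.Quotient.mk K c
    exact (AlgEquiv.ofBijective e he).apply_symm_apply _
  refine ⟨fun c => ?_, fun b hb' => ?_⟩
  · obtain ⟨b, hbc⟩ := Ideal.Quotient.mk_surjective (ψ c)
    refine ⟨b, Ideal.Quotient.eq.mp ?_⟩
    have := AlgHom.congr_fun key c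
    rw [AlgHom.comp_apply, ← hbc] at this
    exact this
  · have h0 : ψ (algebraMap B C b) = 0 := by
      refine (show I.map (algebraMap B C) ≤ RingHom.ker (ψ : C →+* B ⧸ I) from ?_) hb'
      exact Ideal.map_le_iff_le_comap.mpr fun i hi' =>
        (ψ.commutes i).trans (Ideal.Quotient.eq_zero_iff_mem.mpr hi')
    rw [AlgHom.commutes] at h0
    exact Ideal.Quotient.eq_zero_iff_mem.mp h0

/-- A quotient of an étale algebra by the extension of an ideal is étale over the quotient. -/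
theorem etale_quot {J : Ideal A} {E E₁ : Type u} [CommRing E] [Algebra A E] [Algebra.Etale A E]
    [CommRing E₁] [Algebra A E₁] [Algebra (A ⧸ J) E₁] [IsScalarTower A (A ⧸ J) E₁]
    (q : E →ₐ[A] E₁) (hq : Function.Surjective q)
    (hqk : ∀ e, q e = 0 → e ∈ J.map (algebraMap A E)) : Algebra.Etale (A ⧸ J) E₁ := by
  let f : (A ⧸ J) ⊗[A] E →ₐ[A ⧸ J] E₁ :=
    Algebra.TensorProduct.lift (Algebra.ofId (A ⧸ J) E₁) q fun _ _ => Commute.all _ _
  have hf : ∀ e, f (1 ⊗ₜ e) = q e := fun e => by simp [f]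
  have htens : ∀ w : (A ⧸ J) ⊗[A] E, ∃ e, w = 1 ⊗ₜ e := fun w => by
    induction w using TensorProduct.induction_on with
    | zero => exact ⟨0, (TensorProduct.tmul_zero _ _).symm⟩
    | add a b ha hb =>
        obtain ⟨e₁, rfl⟩ := ha
        obtain ⟨e₂, rfl⟩ := hb
        exact ⟨e₁ + e₂, (TensorProduct.tmul_add _ _ _).symm⟩
    | tmul c e =>
        obtain ⟨a, rfl⟩ := Ideal.Quotient.mk_surjective c
        refine ⟨a • e, ?_⟩
        rw [TensorProduct.tmul_smul, TensorProduct.smul_tmul', Algebra.smul_def, mul_one]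
        rfl
  refine Algebra.Etale.of_equiv (AlgEquiv.ofBijective f
    ⟨(injective_iff_map_eq_zero f).mpr fun w hw => ?_, fun y => ?_⟩)
  · obtain ⟨e, rfl⟩ := htens w
    rw [hf] at hw
    have h0 : J.map (algebraMap A E) ≤
        RingHom.ker (Algebra.TensorProduct.includeRight (R := A) (A := A ⧸ J) (B := E)).toRingHom := by
      refine Ideal.map_le_iff_le_comap.mpr fun j hj => ?_
      show (1 : A ⧸ J) ⊗ₜ[A] algebraMap A E j = 0
      rw [Algebra.algebraMap_eq_smul_one, TensorProduct.tmul_smul, TensorProduct.smul_tmul',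
        Algebra.smul_def, mul_one, show algebraMap A (A ⧸ J) j = 0 from
          Ideal.Quotient.eq_zero_iff_mem.mpr hj, TensorProduct.zero_tmul]
    exact h0 (hqk e hw)
  · obtain ⟨e, rfl⟩ := hq y
    exact ⟨1 ⊗ₜ e, hf e⟩

/-- Lifting along a nilpotent ideal. -/
theorem main (n : ℕ) : ∀ {A : Type u} [CommRing A] [IsNoetherianRing A] {I J : Ideal A}
    (_ : J ^ (n + 1) = ⊥) {C C₀ B₀ : Type u} [CommRing C] [Algebra A C] [CommRing C₀] [Algebra A C₀]
    [CommRing B₀] [Algebra A B₀] [Algebra B₀ C₀] [IsScalarTower A B₀ C₀] [Algebra.Etale B₀ C₀]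
    [Algebra.FiniteType A B₀]
    (_ : ∀ a ∈ I, Algebra.Etale A (Loc A C a))
    (π : C →ₐ[A] C₀) (_ : Function.Surjective π)
    (_ : ∀ c, π c = 0 → c ∈ J.map (algebraMap A C))
    (_ : ∀ j ∈ J, algebraMap A B₀ j = 0)
    (_ : ∀ a ∈ I, ∃ g : A ⧸ J →+* Loc A B₀ a,
      g.comp (Ideal.Quotient.mk J) = algebraMap A (Loc A B₀ a) ∧ g.Etale)
    (_ : ∀ c : C₀, ∃ b : B₀, algebraMap B₀ C₀ b - c ∈ I.map (algebraMap A C₀))
    (_ : ∀ b : B₀, algebraMap B₀ C₀ b ∈ I.map (algebraMap A C₀) → b ∈ I.map (algebraMap A B₀)),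
    ∃ (B : Type u) (_ : CommRing B) (_ : Algebra A B) (β : B →ₐ[A] B₀) (g : B →ₐ[A] C),
      Algebra.FiniteType A B ∧ g.toRingHom.Etale ∧
      (∀ a ∈ I, Algebra.Etale A (Loc A B a)) ∧ Function.Surjective β ∧
      RingHom.ker β = J.map (algebraMap A B) ∧ ∀ b, algebraMap B₀ C₀ (β b) = π (g b) := by
  induction n with
  | zero =>
      intro A _ _ I J hJ C C₀ B₀ _ _ _ _ _ _ _ _ _ _ hC π hπ hπk hB₀J hB₀ hs hi
      rw [zero_add, pow_one] at hJ
      exact step (by rw [hJ, Ideal.bot_mul]) hC π hπ hπk hB₀J hB₀ hs hi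
  | succ n ih =>
      intro A _ _ I J hJ C C₀ B₀ _ _ _ _ _ _ _ _ _ _ hC π hπ hπk hB₀J hB₀ hs hi
      set J' := J ^ (n + 1) with hJ'
      have hle : J' ≤ J := Ideal.pow_le_self (Nat.succ_ne_zero n)
      let qA : A →+* A ⧸ J' := Ideal.Quotient.mk J'
      have hqA : Function.Surjective qA := Ideal.Quotient.mk_surjective
      -- structures over `A ⧸ J'`
      letI : Algebra (A ⧸ J') B₀ := (Ideal.Quotient.lift J' (algebraMap A B₀)
        fun j hj => hB₀J j (hle hj)).toAlgebra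
      letI : Algebra (A ⧸ J') C₀ := ((algebraMap B₀ C₀).comp (algebraMap (A ⧸ J') B₀)).toAlgebra
      haveI : IsScalarTower (A ⧸ J') B₀ C₀ := IsScalarTower.of_algebraMap_eq fun _ => rfl
      haveI : IsScalarTower A (A ⧸ J') B₀ := IsScalarTower.of_algebraMap_eq fun _ => rfl
      haveI : Algebra.FiniteType (A ⧸ J') B₀ := Algebra.FiniteType.of_restrictScalars_finiteType A _ _
      have hAC₀ : ∀ a : A, algebraMap (A ⧸ J') C₀ (qA a) = algebraMap A C₀ a := fun a =>
        (IsScalarTower.algebraMap_apply A B₀ C₀ a).symm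
      have hA' : (algebraMap (A ⧸ J') C₀).comp qA = algebraMap A C₀ := RingHom.ext hAC₀
      let C₁ := C ⧸ J'.map (algebraMap A C)
      letI : Algebra (A ⧸ J') C₁ := Ideal.Quotient.algebraQuotientMapQuotient
      haveI : IsScalarTower A (A ⧸ J') C₁ := IsScalarTower.of_algebraMap_eq fun _ => rfl
      let qC : C →ₐ[A] C₁ := Ideal.Quotient.mkₐ A _
      have hqC : Function.Surjective qC := Ideal.Quotient.mk_surjective
      have hqCk : ∀ c, qC c = 0 → c ∈ J'.map (algebraMap A C) := fun c hc =>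
        Ideal.Quotient.eq_zero_iff_mem.mp hc
      let π₁r : C₁ →+* C₀ := Ideal.Quotient.lift _ π.toRingHom fun c hc => by
        have : J'.map (algebraMap A C) ≤ RingHom.ker π.toRingHom :=
          Ideal.map_le_iff_le_comap.mpr fun j hj => (π.commutes j).trans (by
            rw [IsScalarTower.algebraMap_apply A B₀ C₀, hB₀J j (hle hj), map_zero])
        exact this hc
      have hπ₁ : ∀ a, π₁r (algebraMap (A ⧸ J') C₁ a) = algebraMap (A ⧸ J') C₀ a := fun a => by
        obtain ⟨a, rfl⟩ := hqA a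
        exact (π.commutes a).trans (hAC₀ a).symm
      let π₁ : C₁ →ₐ[A ⧸ J'] C₀ := { π₁r with commutes' := hπ₁ }
      have hmapC₁ : ∀ M : Ideal A, (M.map qA).map (algebraMap (A ⧸ J') C₁) =
          (M.map (algebraMap A C)).map qC.toRingHom := fun M => by
        rw [Ideal.map_map, Ideal.map_map]; rfl
      have hJ1 : (J.map qA) ^ (n + 1) = ⊥ := by
        rw [← Ideal.map_pow, ← hJ', Ideal.map_quotient_self]
      have hC₁ : ∀ a ∈ I.map qA, Algebra.Etale (A ⧸ J') (Loc (A ⧸ J') C₁ a) := by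
        intro a ha
        obtain ⟨a, haI, rfl⟩ := (Ideal.mem_map_iff_of_surjective qA hqA).mp ha
        haveI := hC a haI
        haveI : IsLocalization.Away (algebraMap A C₁ a) (Loc (A ⧸ J') C₁ (qA a)) := by
          rw [show algebraMap A C₁ a = algebraMap (A ⧸ J') C₁ (qA a) from rfl]; infer_instance
        let f : Loc A C a →ₐ[A] Loc (A ⧸ J') C₁ (qA a) :=
          IsLocalization.Away.liftAlgHom (algebraMap A C a)
            (f := (IsScalarTower.toAlgHom A C₁ (Loc (A ⧸ J') C₁ (qA a))).comp qC) (by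
              rw [AlgHom.commutes, IsScalarTower.algebraMap_apply A C₁]
              exact IsLocalization.Away.algebraMap_isUnit _)
        have := away_quot (T₀ := Loc (A ⧸ J') C₁ (qA a)) qC hqC hqCk a f (fun c => by simp [f])
        exact etale_quot f this.1 this.2
      have hB₁ : ∀ a ∈ I.map qA, ∃ g : (A ⧸ J') ⧸ J.map qA →+* Loc (A ⧸ J') B₀ a,
          g.comp (Ideal.Quotient.mk _) = algebraMap (A ⧸ J') (Loc (A ⧸ J') B₀ a) ∧ g.Etale := by
        intro a ha
        obtain ⟨a, haI, rfl⟩ := (Ideal.mem_map_iff_of_surjective qA hqA).mp ha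
        obtain ⟨g, hg, hge⟩ := hB₀ a haI
        let e := DoubleQuot.quotQuotEquivQuotOfLE hle
        refine ⟨g.comp e.toRingHom, RingHom.ext fun b => ?_, ?_⟩
        · obtain ⟨b, rfl⟩ := hqA b
          exact RingHom.congr_fun hg b
        · exact RingHom.Etale.stableUnderComposition _ _ (RingHom.Etale.of_bijective e.bijective) hge
      obtain ⟨B₁, _, _, β₁, g₁, hB₁ft, hg₁, hB₁a, hβ₁s, hβ₁k, hcomm₁⟩ :=
        ih (A := A ⧸ J') (I := I.map qA) (J := J.map qA) hJ1 hC₁ π₁
          (fun y => by obtain ⟨c, rfl⟩ := hπ y; exact ⟨qC c, rfl⟩)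
          (fun c hc => by
            obtain ⟨c, rfl⟩ := hqC c
            rw [hmapC₁]; exact Ideal.mem_map_of_mem _ (hπk c hc))
          (fun j hj => by
            obtain ⟨j, hj', rfl⟩ := (Ideal.mem_map_iff_of_surjective qA hqA).mp hj
            exact hB₀J j hj')
          hB₁
          (fun c => by
            obtain ⟨b, hb⟩ := hs c
            exact ⟨b, by rw [Ideal.map_map, hA']; exact hb⟩)
          (fun b hb => by
            rw [Ideal.map_map, hA'] at hb
            rw [Ideal.map_map]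
            exact hi b hb)
      -- lift from `A ⧸ J'` to `A`
      letI : Algebra A B₁ := ((algebraMap (A ⧸ J') B₁).comp qA).toAlgebra
      haveI : IsScalarTower A (A ⧸ J') B₁ := IsScalarTower.of_algebraMap_eq fun _ => rfl
      letI : Algebra B₁ C₁ := g₁.toRingHom.toAlgebra
      haveI : Algebra.Etale B₁ C₁ := hg₁
      haveI : IsScalarTower A B₁ C₁ :=
        IsScalarTower.of_algebraMap_eq fun a => (g₁.commutes (qA a)).symm
      haveI : Algebra.FiniteType A (A ⧸ J') :=
        Algebra.FiniteType.of_surjective (Ideal.Quotient.mkₐ A J') hqA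
      haveI : Algebra.FiniteType A B₁ := Algebra.FiniteType.trans (S := A ⧸ J') inferInstance hB₁ft
      have hker₁ : RingHom.ker β₁ = J.map (algebraMap A B₁) := by
        rw [hβ₁k, Ideal.map_map]; rfl
      have hIeq : (I.map (algebraMap A B₁)).map (β₁ : B₁ →+* B₀) = I.map (algebraMap A B₀) := by
        rw [Ideal.map_map]
        exact congrArg (Ideal.map · I) (RingHom.ext fun a => β₁.commutes (qA a))
      have hIeqC : (I.map (algebraMap A B₁)).map (algebraMap B₁ C₁) = I.map (algebraMap A C₁) := by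
        rw [Ideal.map_map, ← IsScalarTower.algebraMap_eq]
      obtain ⟨hs₁, hi₁⟩ := bijective_mod_of_nilpotent (B := B₁) (C := C₁) (C₀ := C₀)
        (I.map (algebraMap A B₁)) (β₁ : B₁ →+* B₀)
        ⟨n + 2, by rw [show RingHom.ker (β₁ : B₁ →+* B₀) = _ from hker₁, ← Ideal.map_pow, hJ,
          Ideal.map_bot, Ideal.zero_eq_bot]⟩ hβ₁s
        π₁r (fun y => by obtain ⟨c, rfl⟩ := hπ y; exact ⟨qC c, rfl⟩)
        (fun c hc => by
          obtain ⟨c, rfl⟩ := hqC c
          rw [show RingHom.ker (β₁ : B₁ →+* B₀) = _ from hker₁, Ideal.map_map,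
            ← IsScalarTower.algebraMap_eq]
          have := Ideal.mem_map_of_mem qC.toRingHom (hπk c hc)
          rw [← hmapC₁ J, Ideal.map_map] at this
          exact this)
        hcomm₁
        (fun c => by
          rw [hIeq, Ideal.map_map, ← IsScalarTower.algebraMap_eq]; exact hs c)
        (fun b hb => by
          rw [hIeq, Ideal.map_map, ← IsScalarTower.algebraMap_eq] at hb
          rw [hIeq]; exact hi b hb)
      obtain ⟨B, _, _, β₂, g₂, hBft, hg₂, hBa, hβ₂s, hβ₂k, hcomm₂⟩ :=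
        step (J := J') (B₀ := B₁) (C₀ := C₁) (by
            rw [← pow_add]
            exact le_bot_iff.mp (hJ ▸ Ideal.pow_le_pow_right (by omega)))
          hC qC hqC hqCk
          (fun j hj => by
            show algebraMap (A ⧸ J') B₁ (qA j) = 0
            rw [show qA j = 0 from Ideal.Quotient.eq_zero_iff_mem.mpr hj, map_zero])
          (fun a haI => by
            haveI := hB₁a (qA a) (Ideal.mem_map_of_mem qA haI)
            exact ⟨algebraMap (A ⧸ J') (Loc (A ⧸ J') B₁ (qA a)), rfl,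
              RingHom.etale_algebraMap.mpr inferInstance⟩)
          (fun c => by rw [← hIeqC]; exact hs₁ c)
          (fun b hb => by rw [← hIeqC] at hb; exact hi₁ b hb)
      have hβc : ∀ a, β₁ (β₂ (algebraMap A B a)) = algebraMap A B₀ a := fun a => by
        rw [β₂.commutes]
        exact β₁.commutes (qA a)
      let β : B →ₐ[A] B₀ :=
        { (β₁ : B₁ →+* B₀).comp (β₂ : B →+* B₁) with commutes' := hβc }
      refine ⟨B, inferInstance, inferInstance, β, g₂, hBft, hg₂, hBa,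
        fun y => ?_, le_antisymm (fun b hb => ?_) (fun b hb => map_eq_zero_of_mem β hB₀J hb), fun b => ?_⟩
      · obtain ⟨y, rfl⟩ := hβ₁s y
        obtain ⟨b, rfl⟩ := hβ₂s y
        exact ⟨b, rfl⟩
      · have h1 : β₂ b ∈ J.map (algebraMap A B₁) := hker₁ ▸ (show β₁ (β₂ b) = 0 from hb)
        have h2 : J.map (algebraMap A B₁) = (J.map (algebraMap A B)).map (β₂ : B →+* B₁) := by
          rw [Ideal.map_map]
          exact congrArg (Ideal.map · J) (RingHom.ext fun a => (β₂.commutes a).symm)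
        rw [h2] at h1
        obtain ⟨b', hb', hbb⟩ := (Ideal.mem_map_iff_of_surjective _ hβ₂s).mp h1
        have h3 : b - b' ∈ J'.map (algebraMap A B) := by
          rw [← hβ₂k, RingHom.mem_ker, map_sub, sub_eq_zero]; exact hbb.symm
        have := add_mem (Ideal.map_mono hle h3) hb'
        rwa [sub_add_cancel] at this
      · show algebraMap B₀ C₀ (β₁ (β₂ b)) = _
        rw [hcomm₁]
        show π₁r (algebraMap B₁ C₁ (β₂ b)) = _
        rw [hcomm₂]
        rfl

end Groth.Agent.CAlgH.EtaleGlue
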