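import Groth.Agent.CAlgH.EtaleGlueCech
import Mathlib

/-!
# The comparison maps for gluing étale lifts
-/

set_option autoImplicit false

open scoped TensorProduct

namespace Groth.Agent.CAlgH.EtaleGlue

universe u

variable {A : Type u} [CommRing A] {J : Ideal A}

theorem mul_algebraMap_eq_zero (hJ2 : J * J = ⊥) {E : Type u} [CommRing E] [Algebra A E] {e : E}
    (he : e ∈ J.map (algebraMap A E)) (j : A) (hj : j ∈ J) : e * algebraMap A E j = 0 := by
  have h := Ideal.mul_mem_mul he (Ideal.mem_map_of_mem (algebraMap A E) hj)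
  rwa [← Ideal.map_mul, hJ2, Ideal.map_bot, Ideal.mem_bot] at h

theorem map_eq_zero_of_mem {E E₀ : Type u} [CommRing E] [Algebra A E] [CommRing E₀] [Algebra A E₀]
    (f : E →ₐ[A] E₀) (h : ∀ j ∈ J, algebraMap A E₀ j = 0) {e : E}
    (he : e ∈ J.map (algebraMap A E)) : f e = 0 := by
  have : J.map (algebraMap A E) ≤ RingHom.ker (f : E →+* E₀) :=
    Ideal.map_le_iff_le_comap.mpr fun j hj => (f.commutes j).trans (h j hj)
  exact this he

theorem isUnit_of_isUnit_map (hJ2 : J * J = ⊥) {E E₀ : Type u} [CommRing E] [Algebra A E]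
    [CommRing E₀] [Algebra A E₀] (q : E →ₐ[A] E₀) (hqs : Function.Surjective q)
    (hq : ∀ e, q e = 0 → e ∈ J.map (algebraMap A E)) {e : E} (he : IsUnit (q e)) : IsUnit e := by
  obtain ⟨v, hv⟩ := he.exists_right_inv
  obtain ⟨v, rfl⟩ := hqs v
  have h1 : 1 - e * v ∈ J.map (algebraMap A E) := hq _ (by rw [map_sub, map_one, map_mul, hv, sub_self])
  have h2 : (1 - e * v) * (1 - e * v) = 0 := by
    have := Ideal.mul_mem_mul h1 h1
    rwa [← Ideal.map_mul, hJ2, Ideal.map_bot, Ideal.mem_bot] at this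
  exact IsUnit.of_mul_eq_one (v * (2 - e * v)) (by linear_combination -h2)

theorem away_quot {C C₀ T T₀ : Type u} [CommRing C] [Algebra A C] [CommRing C₀] [Algebra A C₀]
    [CommRing T] [Algebra A T] [Algebra C T] [IsScalarTower A C T]
    [CommRing T₀] [Algebra A T₀] [Algebra C₀ T₀] [IsScalarTower A C₀ T₀]
    (π : C →ₐ[A] C₀) (hπ : Function.Surjective π)
    (hπk : ∀ c, π c = 0 → c ∈ J.map (algebraMap A C)) (a : A)
    [IsLocalization.Away (algebraMap A C a) T] [IsLocalization.Away (algebraMap A C₀ a) T₀]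
    (f : T →ₐ[A] T₀) (hf : ∀ c, f (algebraMap C T c) = algebraMap C₀ T₀ (π c)) :
    Function.Surjective f ∧ ∀ t, f t = 0 → t ∈ J.map (algebraMap A T) := by
  have hu : IsUnit (algebraMap A T a) := by
    rw [IsScalarTower.algebraMap_apply A C T]
    exact IsLocalization.Away.algebraMap_isUnit _
  constructor
  · intro y
    obtain ⟨n, c₀, hy⟩ := IsLocalization.Away.surj (algebraMap A C₀ a) y
    obtain ⟨c, rfl⟩ := hπ c₀
    rw [← IsScalarTower.algebraMap_apply] at hy
    obtain ⟨u, hu'⟩ := hu.pow n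
    refine ⟨algebraMap C T c * ↑(u⁻¹), ((hu.map f).pow n).mul_left_injective ?_⟩
    show f (algebraMap C T c * ↑(u⁻¹)) * f (algebraMap A T a) ^ n =
      y * f (algebraMap A T a) ^ n
    rw [← map_pow, ← map_mul, mul_assoc, ← hu', Units.inv_mul, mul_one, hf, ← hy, hu', map_pow,
      AlgHom.commutes]
  · intro t ht
    obtain ⟨n, c, hc⟩ := IsLocalization.Away.surj (algebraMap A C a) t
    have h0 : algebraMap C₀ T₀ (π c) = algebraMap C₀ T₀ 0 := by
      rw [← hf, ← hc, map_mul, ht, zero_mul, map_zero]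
    obtain ⟨m, hm⟩ := IsLocalization.Away.exists_of_eq (algebraMap A C₀ a) h0
    have hmem : algebraMap A C a ^ m * c ∈ J.map (algebraMap A C) := hπk _ (by
      rw [map_mul, map_pow, AlgHom.commutes, hm, mul_zero])
    have h1 := Ideal.mem_map_of_mem (algebraMap C T) hmem
    rw [Ideal.map_map, ← IsScalarTower.algebraMap_eq, map_mul, map_pow, ← hc,
      ← IsScalarTower.algebraMap_apply, mul_left_comm, ← pow_add] at h1
    exact (Ideal.mul_unit_mem_iff_mem _ (hu.pow (m + n))).mp h1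

section Maps

variable {C C₀ B₀ : Type u} [CommRing C] [Algebra A C] [CommRing C₀] [Algebra A C₀]
  [CommRing B₀] [Algebra A B₀] [Algebra B₀ C₀] [IsScalarTower A B₀ C₀]

variable (C₀) (B₀) in
/-- `C₀ ⊗_{B₀} B₀[1/a]`. -/
abbrev CL₀ (a : A) : Type u := C₀ ⊗[B₀] Loc A B₀ a

variable (C₀) in
instance isLocalization_CL₀ (a : A) : IsLocalization.Away (algebraMap A C₀ a) (CL₀ C₀ B₀ a) := by
  rw [IsScalarTower.algebraMap_apply A B₀ C₀]
  infer_instance

variable (C₀) in
/-- `B₀[1/a] → C₀ ⊗ B₀[1/a]`. -/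
noncomputable def incR (a : A) : Loc A B₀ a →ₐ[A] CL₀ C₀ B₀ a :=
  (Algebra.TensorProduct.includeRight (R := B₀) (A := C₀)).restrictScalars A

variable (C₀) in
/-- `C₀ → C₀ ⊗ B₀[1/a]`. -/
noncomputable def incL (a : A) : C₀ →ₐ[A] CL₀ C₀ B₀ a :=
  (Algebra.TensorProduct.includeLeft (R := B₀) (S := B₀) (A := C₀) (B := Loc A B₀ a)).restrictScalars A

variable (B₀) in
/-- `C[1/a] → C₀ ⊗ B₀[1/a]`. -/
noncomputable def qL (π : C →ₐ[A] C₀) (a : A) : Loc A C a →ₐ[A] CL₀ C₀ B₀ a :=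
  IsLocalization.Away.liftAlgHom (algebraMap A C a) (f := (incL C₀ (B₀ := B₀) a).comp π) (by
    rw [AlgHom.commutes, IsScalarTower.algebraMap_apply A C₀ (CL₀ C₀ B₀ a)]
    exact IsLocalization.Away.algebraMap_isUnit _)

theorem qL_algebraMap (π : C →ₐ[A] C₀) (a : A) (c : C) :
    qL B₀ π a (algebraMap C (Loc A C a) c) = π c ⊗ₜ 1 := by
  simp [qL, incL]

variable (π : C →ₐ[A] C₀) (hπ : Function.Surjective π)
  (hπk : ∀ c, π c = 0 → c ∈ J.map (algebraMap A C))

include hπ hπk in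
theorem qL_surjective_ker (a : A) : Function.Surjective (qL B₀ π a) ∧
    ∀ t, qL B₀ π a t = 0 → t ∈ J.map (algebraMap A (Loc A C a)) :=
  away_quot π hπ hπk a (qL B₀ π a) (qL_algebraMap π a)

/-- Restriction `C[1/a] → C[1/b]`, over `A`. -/
noncomputable def resC {a b : A} (h : a ∣ b) : Loc A C a →ₐ[A] Loc A C b :=
  (res C h).restrictScalars A

theorem resC_algebraMap {a b : A} (h : a ∣ b) (c : C) :
    resC h (algebraMap C (Loc A C a) c) = algebraMap C (Loc A C b) c :=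
  (res C h).commutes c

variable (C₀) (B₀) in
/-- Restriction `C₀ ⊗ B₀[1/a] → C₀ ⊗ B₀[1/b]`. -/
noncomputable def res₀ {a b : A} (h : a ∣ b) : CL₀ C₀ B₀ a →ₐ[A] CL₀ C₀ B₀ b :=
  (Algebra.TensorProduct.map (AlgHom.id B₀ C₀) (res B₀ h)).restrictScalars A

theorem qL_resC {a b : A} (h : a ∣ b) (t : Loc A C a) :
    qL B₀ π b (resC h t) = res₀ C₀ B₀ h (qL B₀ π a t) := by
  refine RingHom.congr_fun (f := ((qL B₀ π b).comp (resC h)).toRingHom)
    (g := ((res₀ C₀ B₀ h).comp (qL B₀ π a)).toRingHom) ?_ t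
  refine IsLocalization.ringHom_ext (Submonoid.powers (algebraMap A C a)) (RingHom.ext fun c => ?_)
  simp [resC_algebraMap, qL_algebraMap, res₀]

variable (hJ2 : J * J = ⊥)

/-- `C₀ ⊗ (B₀[1/a] ⊗ J) → C[1/a]`. -/
noncomputable def Φ (a : A) : C₀ ⊗[B₀] (Loc A B₀ a ⊗[A] J) →ₗ[A] Loc A C a :=
  (sqMul (qL B₀ π a) (qL_surjective_ker π hπ hπk a).1
    (fun _ he => mul_algebraMap_eq_zero hJ2 ((qL_surjective_ker π hπ hπk a).2 _ he))).comp
    ((TensorProduct.AlgebraTensorModule.assoc A B₀ C₀ C₀ (Loc A B₀ a) J).symm.toLinearMap.restrictScalars A)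

/-- `C₀ ⊗ (B₀ ⊗ J) → C`. -/
noncomputable def Φ₀ : C₀ ⊗[B₀] (B₀ ⊗[A] J) →ₗ[A] C :=
  (sqMul π hπ (fun _ he => mul_algebraMap_eq_zero hJ2 (hπk _ he))).comp
    ((TensorProduct.AlgebraTensorModule.cancelBaseChange A B₀ C₀ C₀ J).toLinearMap.restrictScalars A)

theorem Φ_injective (a : A) [Module.Flat A (Loc A C a)] :
    Function.Injective (Φ (B₀ := B₀) π hπ hπk hJ2 a) :=
  (sqMul_injective (qL B₀ π a) (qL_surjective_ker π hπ hπk a).1
    (fun _ he => mul_algebraMap_eq_zero hJ2 ((qL_surjective_ker π hπ hπk a).2 _ he))).comp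
    (TensorProduct.AlgebraTensorModule.assoc A B₀ C₀ C₀ (Loc A B₀ a) J).symm.injective

theorem Φ_resV {a b : A} (h : a ∣ b) (w : C₀ ⊗[B₀] (Loc A B₀ a ⊗[A] J)) :
    Φ π hπ hπk hJ2 b ((resV B₀ J h).lTensor C₀ w) = resC h (Φ π hπ hπk hJ2 a w) := by
  have key : (TensorProduct.AlgebraTensorModule.assoc A B₀ C₀ C₀ (Loc A B₀ b) J).symm
      ((resV B₀ J h).lTensor C₀ w) = (res₀ C₀ B₀ h).toLinearMap.rTensor J
        ((TensorProduct.AlgebraTensorModule.assoc A B₀ C₀ C₀ (Loc A B₀ a) J).symm w) := by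
    induction w using TensorProduct.induction_on with
    | zero => simp only [map_zero]
    | add x y hx hy => simp only [map_add, hx, hy]
    | tmul c m =>
        induction m using TensorProduct.induction_on with
        | zero => simp only [TensorProduct.tmul_zero, map_zero]
        | add x y hx hy => simp only [TensorProduct.tmul_add, map_add, hx, hy]
        | tmul l j => simp [res₀]
  simp only [Φ, LinearMap.comp_apply, LinearMap.restrictScalars_apply, LinearEquiv.coe_toLinearMap]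
  rw [key]
  exact sqMul_natural (qL B₀ π a) _ _ (qL B₀ π b) _ _ (resC h) (res₀ C₀ B₀ h) (qL_resC π h) _

theorem Φ_toLocV (a : A) (w : C₀ ⊗[B₀] (B₀ ⊗[A] J)) :
    Φ π hπ hπk hJ2 a ((toLocV B₀ J a).lTensor C₀ w) =
      algebraMap C (Loc A C a) (Φ₀ π hπ hπk hJ2 w) := by
  have key : (TensorProduct.AlgebraTensorModule.assoc A B₀ C₀ C₀ (Loc A B₀ a) J).symm
      ((toLocV B₀ J a).lTensor C₀ w) = (incL C₀ (B₀ := B₀) a).toLinearMap.rTensor J
        (TensorProduct.AlgebraTensorModule.cancelBaseChange A B₀ C₀ C₀ J w) := by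
    induction w using TensorProduct.induction_on with
    | zero => simp only [map_zero]
    | add x y hx hy => simp only [map_add, hx, hy]
    | tmul c m =>
        induction m using TensorProduct.induction_on with
        | zero => simp only [TensorProduct.tmul_zero, map_zero]
        | add x y hx hy => simp only [TensorProduct.tmul_add, map_add, hx, hy]
        | tmul b j =>
            rw [TensorProduct.AlgebraTensorModule.cancelBaseChange_tmul, LinearMap.lTensor_tmul,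
              toLocV_tmul, TensorProduct.AlgebraTensorModule.assoc_symm_tmul, LinearMap.rTensor_tmul]
            congr 1
            show c ⊗ₜ[B₀] algebraMap B₀ (Loc A B₀ a) b = (b • c) ⊗ₜ[B₀] (1 : Loc A B₀ a)
            rw [TensorProduct.smul_tmul]
            exact congrArg (c ⊗ₜ[B₀] ·) (Algebra.algebraMap_eq_smul_one b)
  simp only [Φ, Φ₀, LinearMap.comp_apply, LinearMap.restrictScalars_apply,
    LinearEquiv.coe_toLinearMap]
  rw [key]
  exact sqMul_natural π hπ _ (qL B₀ π a) _ _ (IsScalarTower.toAlgHom A C (Loc A C a)) (incL C₀ (B₀ := B₀) a)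
    (fun c => qL_algebraMap π a c) _

theorem Φ_one_tmul (a : A) {E : Type u} [CommRing E] [Algebra A E] (p : E →ₐ[A] Loc A B₀ a)
    (hp : Function.Surjective p) (hpk : ∀ e, p e = 0 → ∀ j ∈ J, e * algebraMap A E j = 0)
    (r : E →ₐ[A] Loc A C a) (hr : ∀ e, qL B₀ π a (r e) = incR C₀ (B₀ := B₀) a (p e))
    (m : Loc A B₀ a ⊗[A] J) :
    Φ π hπ hπk hJ2 a (1 ⊗ₜ m) = r (sqMul p hp hpk m) := by
  have key : (TensorProduct.AlgebraTensorModule.assoc A B₀ C₀ C₀ (Loc A B₀ a) J).symm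
      ((1 : C₀) ⊗ₜ[B₀] m) = (incR C₀ (B₀ := B₀) a).toLinearMap.rTensor J m := by
    induction m using TensorProduct.induction_on with
    | zero => simp only [TensorProduct.tmul_zero, map_zero]
    | add x y hx hy => simp only [TensorProduct.tmul_add, map_add, hx, hy]
    | tmul l j => simp [incR]
  simp only [Φ, LinearMap.comp_apply, LinearMap.restrictScalars_apply, LinearEquiv.coe_toLinearMap]
  rw [key]
  exact sqMul_natural p hp hpk (qL B₀ π a) _ _ r (incR C₀ (B₀ := B₀) a) hr _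

theorem exists_Φ₀_eq {c : C} (hc : c ∈ J.map (algebraMap A C)) :
    ∃ w : C₀ ⊗[B₀] (B₀ ⊗[A] J), Φ₀ π hπ hπk hJ2 w = c := by
  obtain ⟨w, hw⟩ := exists_sqMul_eq π hπ
    (fun _ he => mul_algebraMap_eq_zero hJ2 (hπk _ he)) hc
  obtain ⟨v, rfl⟩ :=
    (TensorProduct.AlgebraTensorModule.cancelBaseChange A B₀ C₀ C₀ J).surjective w
  exact ⟨v, hw⟩

theorem Φ₀_mem (w : C₀ ⊗[B₀] (B₀ ⊗[A] J)) :
    Φ₀ π hπ hπk hJ2 w ∈ J.map (algebraMap A C) :=
  sqMul_mem π hπ (fun _ he => mul_algebraMap_eq_zero hJ2 (hπk _ he)) _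

end Maps

end Groth.Agent.CAlgH.EtaleGlue
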