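import Groth.Agent.CAlgH.EtaleGlueMaps
import Groth.Agent.HenselLib.EtaleLift
import Mathlib

/-!
# Gluing étale lifts: the square zero step

The glued algebra `gB` = (`C`, étale lifts of `B₀[1/x i]`) along the overlaps, and its properties.
-/

set_option autoImplicit false

open scoped TensorProduct

namespace Groth.Agent.CAlgH.EtaleGlue

universe u

variable {A : Type u} [CommRing A] {I J : Ideal A} (hJ2 : J * J = ⊥)
  {C C₀ B₀ : Type u} [CommRing C] [Algebra A C] [CommRing C₀] [Algebra A C₀]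
  [CommRing B₀] [Algebra A B₀] [Algebra B₀ C₀] [IsScalarTower A B₀ C₀]
  (π : C →ₐ[A] C₀) (hπ : Function.Surjective π)
  (hπk : ∀ c, π c = 0 → c ∈ J.map (algebraMap A C))
  {ι : Type u} [Fintype ι] (x : ι → A) (hxI : ∀ i, x i ∈ I)
  {L : A → Type u} [∀ a, CommRing (L a)] [∀ a, Algebra A (L a)]
  (p : ∀ a, L a →ₐ[A] Loc A B₀ a) (hps : ∀ a, Function.Surjective (p a))
  (hpk : ∀ a e, p a e = 0 → e ∈ J.map (algebraMap A (L a)))
  (hLe : ∀ a ∈ I, Algebra.Etale A (L a))
  (hCe : ∀ a ∈ I, Algebra.Etale A (Loc A C a))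
  (r : ∀ a, a ∈ I → L a →ₐ[A] Loc A C a)
  (hr : ∀ a (ha : a ∈ I) e, qL B₀ π a (r a ha e) = incR C₀ (B₀ := B₀) a (p a e))
  (ρ : ∀ a b, a ∈ I → a ∣ b → L a →ₐ[A] L b)
  (hρ : ∀ a b (ha : a ∈ I) (h : a ∣ b) e, p b (ρ a b ha h e) = res B₀ h (p a e))

omit [Fintype ι] in
include hJ2 hπ hπk hpk hLe hr hρ in
theorem r_ρ {a b : A} (ha : a ∈ I) (hb : b ∈ I) (h : a ∣ b) (e : L a) :
    resC h (r a ha e) = r b hb (ρ a b ha h e) := by
  have := hLe a ha
  refine AlgHom.congr_fun (φ₁ := (resC h).comp (r a ha)) (φ₂ := (r b hb).comp (ρ a b ha h)) ?_ e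
  refine hom_ext ⟨2, by rw [pow_two]; exact hJ2⟩ (qL B₀ π b)
    (qL_surjective_ker π hπ hπk b).2 fun e => ?_
  simp [qL_resC, hr, hρ, res₀, incR]

include hJ2 hpk hLe hρ in
theorem ρ_ρ {a b c : A} (ha : a ∈ I) (hb : b ∈ I) (h : a ∣ b) (h' : b ∣ c) (e : L a) :
    ρ b c hb h' (ρ a b ha h e) = ρ a c ha (h.trans h') e := by
  have := hLe a ha
  refine AlgHom.congr_fun (φ₁ := (ρ b c hb h').comp (ρ a b ha h)) (φ₂ := ρ a c ha (h.trans h')) ?_ e
  refine hom_ext ⟨2, by rw [pow_two]; exact hJ2⟩ (p c) (hpk c) fun e => ?_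
  rw [AlgHom.comp_apply, hρ, hρ, hρ, ← res_comp B₀ h h', AlgHom.comp_apply]

/-- Multiplication `B₀[1/a] ⊗ J → L a`. -/
noncomputable def μL (a : A) : Loc A B₀ a ⊗[A] J →ₗ[A] L a :=
  sqMul (p a) (hps a) fun _ he => mul_algebraMap_eq_zero hJ2 (hpk a _ he)

include hLe in
theorem μL_injective {a : A} (ha : a ∈ I) : Function.Injective (μL hJ2 p hps hpk a) := by
  have := hLe a ha
  exact sqMul_injective _ _ _

include hρ in
theorem μL_resV {a b : A} (ha : a ∈ I) (h : a ∣ b) (m : Loc A B₀ a ⊗[A] J) :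
    μL hJ2 p hps hpk b (resV B₀ J h m) = ρ a b ha h (μL hJ2 p hps hpk a m) := by
  have key : resV B₀ J h m = ((res B₀ h).restrictScalars A).toLinearMap.rTensor J m := by
    induction m using TensorProduct.induction_on with
    | zero => simp only [map_zero]
    | add x y hx hy => simp only [map_add, hx, hy]
    | tmul l j => simp
  rw [key]
  exact sqMul_natural (p a) _ _ (p b) _ _ (ρ a b ha h) ((res B₀ h).restrictScalars A)
    (hρ a b ha h) m

include hr in
theorem Φ_μL {a : A} (ha : a ∈ I) (m : Loc A B₀ a ⊗[A] J) :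
    Φ π hπ hπk hJ2 a (1 ⊗ₜ m) = r a ha (μL hJ2 p hps hpk a m) :=
  Φ_one_tmul π hπ hπk hJ2 a (p a) (hps a) _ (r a ha) (hr a ha) m

/-- The glued algebra. -/
def gB : Subalgebra A (C × ((i : ι) → L (x i))) where
  carrier := {z | (∀ i, r (x i) (hxI i) (z.2 i) = algebraMap C (Loc A C (x i)) z.1) ∧
    ∀ q : ι × ι, ρ (x q.1) (x q.1 * x q.2) (hxI q.1) (dvd_mul_right _ _) (z.2 q.1) =
      ρ (x q.2) (x q.1 * x q.2) (hxI q.2) (dvd_mul_left _ _) (z.2 q.2)}
  mul_mem' {z w} hz hw := ⟨fun i => by simp [hz.1 i, hw.1 i], fun q => by simp [hz.2 q, hw.2 q]⟩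
  one_mem' := ⟨fun i => by simp, fun q => by simp⟩
  add_mem' {z w} hz hw := ⟨fun i => by simp [hz.1 i, hw.1 i], fun q => by simp [hz.2 q, hw.2 q]⟩
  zero_mem' := ⟨fun i => by simp, fun q => by simp⟩
  algebraMap_mem' a := ⟨fun i => by
    show r (x i) (hxI i) (algebraMap A (L (x i)) a) = algebraMap C (Loc A C (x i)) (algebraMap A C a)
    rw [AlgHom.commutes, ← IsScalarTower.algebraMap_apply], fun q => by simp⟩

/-- The projection to `C`. -/
noncomputable def gToC : gB x hxI r ρ →ₐ[A] C :=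
  (AlgHom.fst A C ((i : ι) → L (x i))).comp (gB x hxI r ρ).val

/-- The projection to `L (x i)`. -/
noncomputable def gToL (i : ι) : gB x hxI r ρ →ₐ[A] L (x i) :=
  (Pi.evalAlgHom A (fun i => L (x i)) i).comp
    ((AlgHom.snd A C ((i : ι) → L (x i))).comp (gB x hxI r ρ).val)

omit [Fintype ι] in
theorem g_ext {z w : gB x hxI r ρ} (h1 : gToC x hxI r ρ z = gToC x hxI r ρ w)
    (h2 : ∀ i, gToL x hxI r ρ i z = gToL x hxI r ρ i w) : z = w :=
  Subtype.ext (Prod.ext h1 (funext h2))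

variable (hs : ∀ c : C₀, ∃ b : B₀, algebraMap B₀ C₀ b - c ∈
    (Ideal.span (Set.range fun i => algebraMap A B₀ (x i))).map (algebraMap B₀ C₀))
  (hi : ∀ b : B₀, algebraMap B₀ C₀ b ∈
    (Ideal.span (Set.range fun i => algebraMap A B₀ (x i))).map (algebraMap B₀ C₀) →
    b ∈ Ideal.span (Set.range fun i => algebraMap A B₀ (x i)))
  [Algebra.Etale B₀ C₀] (hB₀J : ∀ j ∈ J, algebraMap A B₀ j = 0)

include hs hi in
theorem base_unique {b b' : B₀} (h1 : algebraMap B₀ C₀ b = algebraMap B₀ C₀ b')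
    (h2 : ∀ i, algebraMap B₀ (Loc A B₀ (x i)) b = algebraMap B₀ (Loc A B₀ (x i)) b') : b = b' := by
  have h0 : (b - b') ⊗ₜ[A] (1 : A) = 0 := by
    refine glue_unique B₀ A x hs hi _ ?_ fun i => ?_
    · have : (b - b') ⊗ₜ[A] (1 : A) = (b - b') • ((1 : B₀) ⊗ₜ[A] (1 : A)) := by
        rw [TensorProduct.smul_tmul', smul_eq_mul, mul_one]
      rw [this, ← TensorProduct.smul_tmul, ← Algebra.algebraMap_eq_smul_one, map_sub, h1, sub_self,
        TensorProduct.zero_tmul]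
    · rw [toLocV_tmul, map_sub, h2, sub_self, TensorProduct.zero_tmul]
  have := congrArg (TensorProduct.rid A B₀) h0
  simpa [sub_eq_zero] using this

include hs hi hr hρ in
theorem exists_base (z : gB x hxI r ρ) :
    ∃ b : B₀, algebraMap B₀ C₀ b = π (gToC x hxI r ρ z) ∧
      ∀ i, algebraMap B₀ (Loc A B₀ (x i)) b = p (x i) (gToL x hxI r ρ i z) := by
  obtain ⟨m, hm, hm'⟩ := glue₀ B₀ A x hs hi
    (fun i => (p (x i) (gToL x hxI r ρ i z)) ⊗ₜ (1 : A)) (by
      funext q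
      rw [cech₁_apply, resV_tmul, resV_tmul, ← hρ _ _ (hxI q.2), ← hρ _ _ (hxI q.1),
        Pi.zero_apply, sub_eq_zero]
      exact congrArg (fun e => p _ e ⊗ₜ[A] (1 : A)) (z.2.2 q).symm)
    (π (gToC x hxI r ρ z) ⊗ₜ ((1 : B₀) ⊗ₜ (1 : A))) (fun i => by
      have h0 : π (gToC x hxI r ρ z) ⊗ₜ[B₀] (1 : Loc A B₀ (x i)) =
          (1 : C₀) ⊗ₜ[B₀] p (x i) (gToL x hxI r ρ i z) := by
        rw [← qL_algebraMap (B₀ := B₀) π (x i)]
        have := hr (x i) (hxI i) (gToL x hxI r ρ i z)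
        have hz : r (x i) (hxI i) (gToL x hxI r ρ i z) =
            algebraMap C (Loc A C (x i)) (gToC x hxI r ρ z) := z.2.1 i
        rw [hz] at this
        rw [this]
        rfl
      have := congrArg ((TensorProduct.AlgebraTensorModule.rid A B₀ (Loc A B₀ (x i))).symm.toLinearMap.lTensor C₀) h0
      simpa [LinearMap.lTensor_tmul] using this)
  refine ⟨TensorProduct.rid A B₀ m, ?_, fun i => ?_⟩
  · have hm0 : m = TensorProduct.rid A B₀ m ⊗ₜ[A] (1 : A) := ((TensorProduct.rid A B₀).symm_apply_apply m).symm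
    rw [hm0] at hm
    have := congrArg (fun w => TensorProduct.rid A C₀
      (TensorProduct.AlgebraTensorModule.cancelBaseChange A B₀ C₀ C₀ A w)) hm
    simp only [TensorProduct.AlgebraTensorModule.cancelBaseChange_tmul, TensorProduct.rid_tmul,
      one_smul] at this
    rw [this, ← Algebra.algebraMap_eq_smul_one]
  · have hm0 : m = TensorProduct.rid A B₀ m ⊗ₜ[A] (1 : A) := ((TensorProduct.rid A B₀).symm_apply_apply m).symm
    have h := hm' i
    rw [hm0, toLocV_tmul] at h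
    simpa using congrArg (TensorProduct.rid A (Loc A B₀ (x i))) h

include hJ2 hπ hπk hps hpk hLe hCe hr hρ hs hi hB₀J in
/-- Every element of `B₀` lifts to the glued algebra. -/
theorem exists_lift (b₀ : B₀) : ∃ z : gB x hxI r ρ,
    π (gToC x hxI r ρ z) = algebraMap B₀ C₀ b₀ ∧
      ∀ i, p (x i) (gToL x hxI r ρ i z) = algebraMap B₀ (Loc A B₀ (x i)) b₀ := by
  classical
  have hflat : ∀ a ∈ I, Module.Flat A (Loc A C a) := fun a ha => by have := hCe a ha; infer_instance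
  have hI2 : ∀ i j, x i * x j ∈ I := fun i j => I.mul_mem_right _ (hxI i)
  have hI3 : ∀ i j k, x i * x j * x k ∈ I := fun i j k => I.mul_mem_right _ (hI2 i j)
  have hJ0 : ∀ j ∈ J, algebraMap A C₀ j = 0 := fun j hj => by
    rw [IsScalarTower.algebraMap_apply A B₀ C₀, hB₀J j hj, map_zero]
  obtain ⟨c, hc⟩ := hπ (algebraMap B₀ C₀ b₀)
  choose bl hbl using fun i => hps (x i) (algebraMap B₀ (Loc A B₀ (x i)) b₀)
  -- the obstruction
  have hεex : ∀ q : ι × ι, ∃ m : Loc A B₀ (x q.1 * x q.2) ⊗[A] J, μL hJ2 p hps hpk _ m =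
      ρ (x q.2) (x q.1 * x q.2) (hxI q.2) (dvd_mul_left _ _) (bl q.2) -
      ρ (x q.1) (x q.1 * x q.2) (hxI q.1) (dvd_mul_right _ _) (bl q.1) := fun q =>
    exists_sqMul_eq _ _ _ (hpk _ _ (by
      rw [map_sub, hρ, hρ, hbl, hbl, AlgHom.commutes, AlgHom.commutes, sub_self]))
  choose ε hε using hεex
  have hδex : ∀ i, ∃ w : C₀ ⊗[B₀] (Loc A B₀ (x i) ⊗[A] J), Φ π hπ hπk hJ2 (x i) w =
      r (x i) (hxI i) (bl i) - algebraMap C (Loc A C (x i)) c := fun i => by
    obtain ⟨v, hv⟩ := exists_sqMul_eq (qL B₀ π (x i)) (qL_surjective_ker π hπ hπk (x i)).1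
      (fun _ he => mul_algebraMap_eq_zero hJ2 ((qL_surjective_ker π hπ hπk (x i)).2 _ he))
      ((qL_surjective_ker (B₀ := B₀) π hπ hπk (x i)).2 _ (show qL B₀ π (x i)
        (r (x i) (hxI i) (bl i) - algebraMap C (Loc A C (x i)) c) = 0 by
        rw [map_sub, hr, hbl, qL_algebraMap, hc, sub_eq_zero]
        show (1 : C₀) ⊗ₜ[B₀] algebraMap B₀ (Loc A B₀ (x i)) b₀ = algebraMap B₀ C₀ b₀ ⊗ₜ[B₀] 1
        rw [Algebra.algebraMap_eq_smul_one (A := C₀) b₀, TensorProduct.smul_tmul]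
        exact congrArg _ (Algebra.algebraMap_eq_smul_one b₀)))
    exact ⟨TensorProduct.AlgebraTensorModule.assoc A B₀ C₀ C₀ (Loc A B₀ (x i)) J v, by
      simpa [Φ] using hv⟩
  choose δ hδ using hδex
  have hcoc : ∀ i j k, resV B₀ J (dvd_mul_right (x i * x j) (x k)) (ε (i, j)) =
      resV B₀ J ⟨x i, by ring⟩ (ε (k, j)) -
      resV B₀ J (b := x i * x j * x k) ⟨x j, by ring⟩ (ε (k, i)) := fun i j k => by
    apply μL_injective hJ2 p hps hpk hLe (hI3 i j k)
    rw [map_sub, μL_resV hJ2 p hps hpk ρ hρ (hI2 i j), μL_resV hJ2 p hps hpk ρ hρ (hI2 k j),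
      μL_resV hJ2 p hps hpk ρ hρ (hI2 k i),
      show μL hJ2 p hps hpk (x i * x j) (ε (i, j)) = _ from hε (i, j),
      show μL hJ2 p hps hpk (x k * x j) (ε (k, j)) = _ from hε (k, j),
      show μL hJ2 p hps hpk (x k * x i) (ε (k, i)) = _ from hε (k, i), map_sub, map_sub, map_sub,
      ρ_ρ hJ2 p hpk hLe ρ hρ, ρ_ρ hJ2 p hpk hLe ρ hρ, ρ_ρ hJ2 p hpk hLe ρ hρ,
      ρ_ρ hJ2 p hpk hLe ρ hρ, ρ_ρ hJ2 p hpk hLe ρ hρ, ρ_ρ hJ2 p hpk hLe ρ hρ]
    abel
  have hδε : ∀ q : ι × ι, (resV B₀ J (dvd_mul_left (x q.2) (x q.1))).lTensor C₀ (δ q.2) -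
      (resV B₀ J (dvd_mul_right (x q.1) (x q.2))).lTensor C₀ (δ q.1) = 1 ⊗ₜ ε q := fun q => by
    have := hflat _ (hI2 q.1 q.2)
    apply Φ_injective π hπ hπk hJ2 (x q.1 * x q.2)
    rw [map_sub, Φ_resV, Φ_resV, hδ, hδ, map_sub, map_sub, resC_algebraMap, resC_algebraMap,
      r_ρ hJ2 π hπ hπk p hpk hLe r hr ρ hρ _ (hI2 q.1 q.2),
      r_ρ hJ2 π hπ hπk p hpk hLe r hr ρ hρ _ (hI2 q.1 q.2),
      Φ_μL hJ2 π hπ hπk p hps hpk r hr (hI2 q.1 q.2), hε, map_sub]
    abel
  obtain ⟨n, w, hn, hw⟩ := glue₁ B₀ J x hs hi ε hcoc δ hδε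
  let z₂ : (i : ι) → L (x i) := fun i => bl i - μL hJ2 p hps hpk (x i) (n i)
  refine ⟨⟨(c + Φ₀ π hπ hπk hJ2 w, z₂), ⟨fun i => ?_, fun q => ?_⟩⟩, ?_, fun i => ?_⟩
  · show r (x i) (hxI i) (bl i - μL hJ2 p hps hpk (x i) (n i)) = _
    rw [map_sub, ← Φ_μL hJ2 π hπ hπk p hps hpk r hr (hxI i), map_add, ← Φ_toLocV,
      sub_eq_iff_eq_add, add_assoc, ← map_add, add_comm _ (1 ⊗ₜ n i), ← hw i, hδ]
    abel
  · show ρ _ _ _ _ (bl q.1 - μL hJ2 p hps hpk (x q.1) (n q.1)) =
      ρ _ _ _ _ (bl q.2 - μL hJ2 p hps hpk (x q.2) (n q.2))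
    have h := congrFun hn q
    rw [cech₁_apply] at h
    have h' := congrArg (μL hJ2 p hps hpk _) h
    rw [map_sub, μL_resV hJ2 p hps hpk ρ hρ (hxI q.1), μL_resV hJ2 p hps hpk ρ hρ (hxI q.2),
      hε] at h'
    rw [map_sub, map_sub]
    linear_combination h'
  · show π (c + Φ₀ π hπ hπk hJ2 w) = _
    rw [map_add, hc, map_eq_zero_of_mem π hJ0 (Φ₀_mem π hπ hπk hJ2 w), add_zero]
  · show p (x i) (bl i - μL hJ2 p hps hpk (x i) (n i)) = _
    rw [map_sub, hbl, sub_eq_self]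
    exact map_eq_zero_of_mem (p (x i))
      (fun j hj => by rw [IsScalarTower.algebraMap_apply A B₀, hB₀J j hj, map_zero])
      (sqMul_mem _ _ _ (n i))

omit [Fintype ι] [Algebra.Etale B₀ C₀] in
include hJ2 hπ hπk hpk hB₀J in
/-- Elements of the glued algebra lying over `0` are killed by `J`. -/
theorem mul_eq_zero_of_base (z : gB x hxI r ρ) (h1 : π (gToC x hxI r ρ z) = 0)
    (h2 : ∀ i, p (x i) (gToL x hxI r ρ i z) = 0) (j : A) (hj : j ∈ J) :
    z * algebraMap A (gB x hxI r ρ) j = 0 := by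
  refine g_ext x hxI r ρ ?_ fun i => ?_
  · rw [map_mul, map_zero, AlgHom.commutes]
    exact mul_algebraMap_eq_zero hJ2 (hπk _ h1) j hj
  · rw [map_mul, map_zero, AlgHom.commutes]
    exact mul_algebraMap_eq_zero hJ2 (hpk _ _ (h2 i)) j hj

include hJ2 hπ hπk hps hpk hLe hCe hr hρ hs hi hB₀J in
/-- The glued algebra, as an `A`-algebra over `B₀`. -/
theorem exists_toBase :
    ∃ β : gB x hxI r ρ →ₐ[A] B₀, Function.Surjective β ∧
      (∀ z, algebraMap B₀ C₀ (β z) = π (gToC x hxI r ρ z)) ∧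
      (∀ z i, algebraMap B₀ (Loc A B₀ (x i)) (β z) = p (x i) (gToL x hxI r ρ i z)) := by
  choose b hb1 hb2 using exists_base π x hxI p r hr ρ hρ hs hi
  have huniq : ∀ z b', algebraMap B₀ C₀ b' = π (gToC x hxI r ρ z) →
      (∀ i, algebraMap B₀ (Loc A B₀ (x i)) b' = p (x i) (gToL x hxI r ρ i z)) → b z = b' :=
    fun z b' h1 h2 => base_unique x hs hi ((hb1 z).trans h1.symm)
      fun i => (hb2 z i).trans (h2 i).symm
  let β : gB x hxI r ρ →ₐ[A] B₀ :=
    { toFun := b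
      map_one' := huniq _ _ (by simp) (by simp)
      map_mul' := fun z w => huniq _ _ (by simp [hb1]) fun i => by simp [hb2]
      map_zero' := huniq _ _ (by simp) (by simp)
      map_add' := fun z w => huniq _ _ (by simp [hb1]) fun i => by simp [hb2]
      commutes' := fun a => huniq _ _ (by
          rw [AlgHom.commutes, AlgHom.commutes, ← IsScalarTower.algebraMap_apply])
        fun i => by rw [AlgHom.commutes, AlgHom.commutes, ← IsScalarTower.algebraMap_apply] }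
  refine ⟨β, fun b₀ => ?_, hb1, hb2⟩
  obtain ⟨z, h1, h2⟩ := exists_lift hJ2 π hπ hπk x hxI p hps hpk hLe hCe r hr ρ hρ hs hi hB₀J b₀
  exact ⟨z, huniq z b₀ h1.symm fun i => (h2 i).symm⟩

variable (β : gB x hxI r ρ →ₐ[A] B₀) (hβs : Function.Surjective β)
  (hβC : ∀ z, algebraMap B₀ C₀ (β z) = π (gToC x hxI r ρ z))
  (hβL : ∀ z i, algebraMap B₀ (Loc A B₀ (x i)) (β z) = p (x i) (gToL x hxI r ρ i z))

include hJ2 hπ hπk hpk hB₀J hβC hβL in
omit [Fintype ι] [Algebra.Etale B₀ C₀] in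
theorem mul_eq_zero_of_ker (z : gB x hxI r ρ) (hz : β z = 0) (j : A) (hj : j ∈ J) :
    z * algebraMap A (gB x hxI r ρ) j = 0 :=
  mul_eq_zero_of_base hJ2 π hπ hπk x hxI p hpk r ρ hB₀J z (by rw [← hβC, hz, map_zero])
    (fun i => by rw [← hβL, hz, map_zero]) j hj

/-- Multiplication `B₀ ⊗ J → B`. -/
noncomputable def μB : B₀ ⊗[A] J →ₗ[A] gB x hxI r ρ :=
  sqMul β hβs (mul_eq_zero_of_ker hJ2 π hπ hπk x hxI p hpk r ρ hB₀J β hβC hβL)

omit [Fintype ι] [Algebra.Etale B₀ C₀] in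
theorem gToC_μB (m : B₀ ⊗[A] J) :
    gToC x hxI r ρ (μB hJ2 π hπ hπk x hxI p hpk r ρ hB₀J β hβs hβC hβL m) =
      Φ₀ π hπ hπk hJ2 (1 ⊗ₜ m) := by
  have key : TensorProduct.AlgebraTensorModule.cancelBaseChange A B₀ C₀ C₀ J ((1 : C₀) ⊗ₜ[B₀] m) =
      (IsScalarTower.toAlgHom A B₀ C₀).toLinearMap.rTensor J m := by
    induction m using TensorProduct.induction_on with
    | zero => simp only [TensorProduct.tmul_zero, map_zero]
    | add a b ha hb => simp only [TensorProduct.tmul_add, map_add, ha, hb]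
    | tmul b j =>
        rw [TensorProduct.AlgebraTensorModule.cancelBaseChange_tmul,
          ← Algebra.algebraMap_eq_smul_one]
        rfl
  simp only [Φ₀, LinearMap.comp_apply, LinearMap.restrictScalars_apply, LinearEquiv.coe_toLinearMap]
  rw [key]
  exact (sqMul_natural β hβs _ π hπ _ (gToC x hxI r ρ) (IsScalarTower.toAlgHom A B₀ C₀)
    (fun z => (hβC z).symm) m).symm

omit [Fintype ι] [Algebra.Etale B₀ C₀] in
theorem gToL_μB (i : ι) (m : B₀ ⊗[A] J) :
    gToL x hxI r ρ i (μB hJ2 π hπ hπk x hxI p hpk r ρ hB₀J β hβs hβC hβL m) =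
      μL hJ2 p hps hpk (x i) (toLocV B₀ J (x i) m) := by
  have key : toLocV B₀ J (x i) m =
      (IsScalarTower.toAlgHom A B₀ (Loc A B₀ (x i))).toLinearMap.rTensor J m := by
    induction m using TensorProduct.induction_on with
    | zero => simp only [map_zero]
    | add a b ha hb => simp only [map_add, ha, hb]
    | tmul b j => rfl
  rw [key]
  exact (sqMul_natural β hβs _ (p (x i)) _ _ (gToL x hxI r ρ i)
    (IsScalarTower.toAlgHom A B₀ (Loc A B₀ (x i))) (fun z => (hβL z i).symm) m).symm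

include hJ2 hπ hπk hps hpk hLe hCe hr hρ hs hi hB₀J hβs hβC hβL in
theorem exists_μB_eq (z : gB x hxI r ρ) (hz : β z = 0) :
    ∃ m, μB hJ2 π hπ hπk x hxI p hpk r ρ hB₀J β hβs hβC hβL m = z := by
  have hI2 : ∀ i j, x i * x j ∈ I := fun i j => I.mul_mem_right _ (hxI i)
  obtain ⟨w, hw⟩ := exists_Φ₀_eq (B₀ := B₀) π hπ hπk hJ2
    (hπk (gToC x hxI r ρ z) (by rw [← hβC, hz, map_zero]))
  have hnex : ∀ i, ∃ n, μL hJ2 p hps hpk (x i) n = gToL x hxI r ρ i z := fun i =>
    exists_sqMul_eq _ _ _ (hpk _ _ (by rw [← hβL, hz, map_zero]))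
  choose n hn using hnex
  obtain ⟨m, hm, hm'⟩ := glue₀ B₀ J x hs hi n (by
      funext q
      apply μL_injective hJ2 p hps hpk hLe (hI2 q.1 q.2)
      rw [cech₁_apply, Pi.zero_apply, map_zero, map_sub, μL_resV hJ2 p hps hpk ρ hρ (hxI q.1),
        μL_resV hJ2 p hps hpk ρ hρ (hxI q.2), hn, hn, sub_eq_zero]
      exact (z.2.2 q).symm)
    w (fun i => by
      have := hCe _ (hxI i)
      apply Φ_injective π hπ hπk hJ2 (x i)
      rw [Φ_toLocV, hw, Φ_μL hJ2 π hπ hπk p hps hpk r hr (hxI i), hn]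
      exact (z.2.1 i).symm)
  refine ⟨m, g_ext x hxI r ρ ?_ fun i => ?_⟩
  · rw [gToC_μB, ← hm, hw]
  · rw [gToL_μB hJ2 π hπ hπk x hxI p hps hpk r ρ hB₀J β hβs hβC hβL, hm', hn]

include hJ2 hπ hπk hps hpk hLe hCe hr hρ hs hi hB₀J hβs hβC hβL in
theorem ker_toBase : RingHom.ker β = J.map (algebraMap A (gB x hxI r ρ)) := by
  refine le_antisymm (fun z hz => ?_) (fun z hz => map_eq_zero_of_mem β hB₀J hz)
  obtain ⟨m, rfl⟩ := exists_μB_eq hJ2 π hπ hπk x hxI p hps hpk hLe hCe r hr ρ hρ hs hi hB₀J β hβs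
    hβC hβL z hz
  exact sqMul_mem _ _ _ m

include hJ2 hπ hπk hps hpk hLe hCe hr hρ hs hi hB₀J hβs hβC hβL in
theorem finiteType [Algebra.FiniteType A B₀] : Algebra.FiniteType A (gB x hxI r ρ) := by
  obtain ⟨k, f, hf⟩ := Algebra.FiniteType.iff_quotient_mvPolynomial''.mp ‹Algebra.FiniteType A B₀›
  choose g hg using fun i => hβs (f (MvPolynomial.X i))
  let φ := MvPolynomial.aeval (R := A) g
  refine Algebra.FiniteType.iff_quotient_mvPolynomial''.mpr ⟨k, φ, fun z => ?_⟩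
  have hcomp : β.comp φ = f := MvPolynomial.algHom_ext fun i => by simp [φ, hg]
  obtain ⟨P, hP⟩ := hf (β z)
  suffices z - φ P ∈ φ.range by
    obtain ⟨Q, hQ⟩ := this
    exact ⟨P + Q, by rw [map_add]; exact (congrArg (φ P + ·) hQ).trans (add_sub_cancel _ _)⟩
  have hmem : z - φ P ∈ J.map (algebraMap A (gB x hxI r ρ)) := by
    rw [← ker_toBase hJ2 π hπ hπk x hxI p hps hpk hLe hCe r hr ρ hρ hs hi hB₀J β hβs hβC hβL,
      RingHom.mem_ker, map_sub, ← hP, ← hcomp, AlgHom.comp_apply, sub_self]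
  obtain ⟨m, hm⟩ := exists_sqMul_eq β hβs
    (mul_eq_zero_of_ker hJ2 π hπ hπk x hxI p hpk r ρ hB₀J β hβC hβL) hmem
  rw [← hm]
  clear hm
  induction m using TensorProduct.induction_on with
  | zero => rw [map_zero]; exact zero_mem _
  | add a b ha hb => rw [map_add]; exact add_mem ha hb
  | tmul b j =>
      obtain ⟨Q, rfl⟩ := hf b
      rw [show f Q = β (φ Q) by rw [← hcomp]; rfl, sqMul_tmul]
      exact mul_mem ⟨Q, rfl⟩ (φ.range.algebraMap_mem _)

include hJ2 hπ hπk hps hpk hLe hCe hr hρ hs hi hB₀J hβs hβC hβL in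
/-- Away from `(x)` the glued algebra is the given étale lift. -/
theorem isLocalization_gToL (i : ι) :
    letI := (gToL x hxI r ρ i).toRingHom.toAlgebra
    IsLocalization.Away (algebraMap A (gB x hxI r ρ) (x i)) (L (x i)) := by
  letI := (gToL x hxI r ρ i).toRingHom.toAlgebra
  have hu : IsUnit (algebraMap A (L (x i)) (x i)) :=
    isUnit_of_isUnit_map hJ2 (p (x i)) (hps _) (hpk _) (by
      rw [AlgHom.commutes, IsScalarTower.algebraMap_apply A B₀ (Loc A B₀ (x i))]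
      exact IsLocalization.Away.algebraMap_isUnit _)
  refine IsLocalization.Away.mk _ ?_ (fun y => ?_) (fun z w hzw => ?_)
  · show IsUnit (gToL x hxI r ρ i (algebraMap A (gB x hxI r ρ) (x i)))
    rw [AlgHom.commutes]; exact hu
  · obtain ⟨k, b₀, hb₀⟩ := IsLocalization.Away.surj (algebraMap A B₀ (x i)) (p (x i) y)
    obtain ⟨z, rfl⟩ := hβs b₀
    obtain ⟨m, hm⟩ := exists_sqMul_eq (p (x i)) (hps _)
      (fun _ he => mul_algebraMap_eq_zero hJ2 (hpk _ _ he))
      (hpk _ (y * algebraMap A (L (x i)) (x i) ^ k - gToL x hxI r ρ i z) (by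
        rw [map_sub, map_mul, map_pow, AlgHom.commutes,
          IsScalarTower.algebraMap_apply A B₀ (Loc A B₀ (x i)), hb₀,
          hβL, sub_self]))
    obtain ⟨t, m₀, hm₀⟩ := exists_pow_smul_eq B₀ J (x i) m
    refine ⟨t + k, algebraMap A _ (x i) ^ t * z +
      μB hJ2 π hπ hπk x hxI p hpk r ρ hB₀J β hβs hβC hβL m₀, ?_⟩
    show y * gToL x hxI r ρ i (algebraMap A _ (x i)) ^ (t + k) = gToL x hxI r ρ i _
    rw [map_add, gToL_μB hJ2 π hπ hπk x hxI p hps hpk r ρ hB₀J β hβs hβC hβL, ← hm₀,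
      ← map_pow (algebraMap A B₀), algebraMap_smul, map_smul, map_mul, map_pow, AlgHom.commutes,
      show μL hJ2 p hps hpk (x i) m = _ from hm, Algebra.smul_def, map_pow, pow_add]
    ring
  · have hzero : gToL x hxI r ρ i (z - w) = 0 := by rw [map_sub, sub_eq_zero]; exact hzw
    obtain ⟨k, hk⟩ := IsLocalization.Away.exists_of_eq (S := Loc A B₀ (x i))
      (algebraMap A B₀ (x i)) (a := β (z - w)) (b := 0) (by rw [hβL, hzero, map_zero, map_zero])
    obtain ⟨m, hm⟩ := exists_μB_eq hJ2 π hπ hπk x hxI p hps hpk hLe hCe r hr ρ hρ hs hi hB₀J β hβs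
      hβC hβL (algebraMap A _ (x i) ^ k * (z - w)) (by
        rw [map_mul, map_pow, AlgHom.commutes, hk, mul_zero])
    have h0 : toLocV B₀ J (x i) m = 0 := μL_injective hJ2 p hps hpk hLe (hxI i) (by
      rw [← gToL_μB hJ2 π hπ hπk x hxI p hps hpk r ρ hB₀J β hβs hβC hβL, hm, map_mul, hzero,
        mul_zero, map_zero])
    obtain ⟨t, ht⟩ := exists_pow_smul_eq_zero B₀ J (x i) m h0
    refine ⟨t + k, sub_eq_zero.mp ?_⟩
    rw [← map_pow, algebraMap_smul] at ht
    have := congrArg (μB hJ2 π hπ hπk x hxI p hpk r ρ hB₀J β hβs hβC hβL) ht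
    rw [map_smul, hm, map_zero, Algebra.smul_def, map_pow, ← mul_assoc, ← pow_add, mul_sub] at this
    exact this

include hJ2 hπ hπk hps hpk hLe hCe hr hρ hs hi hB₀J hβs hβC hβL in
/-- The glued algebra is étale over `A` away from the ideal. -/
theorem etale_away (a : A) (ha : a ∈ Ideal.span (Set.range x)) :
    Algebra.Etale A (Localization.Away (algebraMap A (gB x hxI r ρ) a)) := by
  set T := Localization.Away (algebraMap A (gB x hxI r ρ) a)
  rw [← RingHom.etale_algebraMap]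
  refine RingHom.Etale.ofLocalizationSpanTarget (algebraMap A T)
    (Set.range fun i => algebraMap A T (x i)) ?_ ?_
  · rw [Ideal.eq_top_iff_one]
    have h1 : (Ideal.span (Set.range x)).map (algebraMap A T) =
        Ideal.span (Set.range fun i => algebraMap A T (x i)) := by
      rw [Ideal.map_span, ← Set.range_comp]; rfl
    have hu : IsUnit (algebraMap A T a) := by
      rw [IsScalarTower.algebraMap_apply A (gB x hxI r ρ) T]
      exact IsLocalization.Away.algebraMap_isUnit _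
    exact Ideal.eq_top_of_isUnit_mem _ (h1 ▸ Ideal.mem_map_of_mem _ ha) hu ▸ Submodule.mem_top
  · rintro ⟨_, i, rfl⟩
    letI := (gToL x hxI r ρ i).toRingHom.toAlgebra
    have : IsScalarTower A (gB x hxI r ρ) (L (x i)) :=
      IsScalarTower.of_algebraMap_eq fun s => ((gToL x hxI r ρ i).commutes s).symm
    haveI h1 : IsLocalization.Away (algebraMap A (gB x hxI r ρ) (x i)) (L (x i)) :=
      isLocalization_gToL hJ2 π hπ hπk x hxI p hps hpk hLe hCe r hr ρ hρ hs hi hB₀J β hβs hβC hβL i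
    haveI := hLe _ (hxI i)
    let U := Localization.Away (algebraMap A T (x i))
    let U' := Localization.Away (algebraMap A (L (x i)) a)
    haveI hU : IsLocalization.Away (algebraMap A (gB x hxI r ρ) a * algebraMap A (gB x hxI r ρ) (x i)) U := by
      haveI : IsLocalization.Away (algebraMap (gB x hxI r ρ) T (algebraMap A (gB x hxI r ρ) (x i))) U := by
        rw [← IsScalarTower.algebraMap_apply A (gB x hxI r ρ) T]; infer_instance
      exact IsLocalization.Away.mul' T U _ _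
    haveI hU' : IsLocalization.Away (algebraMap A (gB x hxI r ρ) a * algebraMap A (gB x hxI r ρ) (x i)) U' := by
      haveI : IsLocalization.Away (algebraMap (gB x hxI r ρ) (L (x i)) (algebraMap A (gB x hxI r ρ) a)) U' := by
        rw [← IsScalarTower.algebraMap_apply A (gB x hxI r ρ) (L (x i))]; infer_instance
      exact IsLocalization.Away.mul (L (x i)) U' _ _
    haveI : Algebra.Etale A U := Algebra.Etale.of_equiv
      ((IsLocalization.algEquiv (Submonoid.powers (algebraMap A (gB x hxI r ρ) a * algebraMap A (gB x hxI r ρ) (x i)))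
        U' U).restrictScalars A)
    rw [← IsScalarTower.algebraMap_eq, RingHom.etale_algebraMap]
    infer_instance

include hJ2 hπ hπk hps hpk hLe hCe hr hρ hs hi hB₀J hβs hβC hβL in
/-- The glued algebra maps étale to `C`. -/
theorem etale_toC : (gToC x hxI r ρ).toRingHom.Etale := by
  have hker := ker_toBase hJ2 π hπ hπk x hxI p hps hpk hLe hCe r hr ρ hρ hs hi hB₀J β hβs hβC hβL
  letI : Algebra ((gB x hxI r ρ) ⧸ RingHom.ker β) C₀ :=
    ((algebraMap B₀ C₀).comp (RingHom.kerLift (β : (gB x hxI r ρ) →+* B₀))).toAlgebra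
  haveI : Algebra.Etale ((gB x hxI r ρ) ⧸ RingHom.ker β) C₀ := by
    rw [← RingHom.etale_algebraMap]
    refine RingHom.Etale.stableUnderComposition _ _ (RingHom.Etale.of_bijective
      ⟨RingHom.kerLift_injective _, fun b => ?_⟩) (RingHom.etale_algebraMap.mpr inferInstance)
    obtain ⟨z, rfl⟩ := hβs b
    exact ⟨Ideal.Quotient.mk _ z, RingHom.kerLift_mk _ _⟩
  obtain ⟨C', _, _, hC', θ, hθs, hθk, hθa⟩ := HenselLib.exists_etale_lift (gB x hxI r ρ) (RingHom.ker β) C₀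
  have hθB : ∀ z : (gB x hxI r ρ), θ (algebraMap (gB x hxI r ρ) C' z) = π (gToC x hxI r ρ z) := fun z => by
    rw [hθa]
    show algebraMap B₀ C₀ (RingHom.kerLift (β : (gB x hxI r ρ) →+* B₀) (Ideal.Quotient.mk _ z)) = _
    rw [RingHom.kerLift_mk]
    exact hβC z
  -- the lift of `θ`
  letI : Algebra (gB x hxI r ρ) C := (gToC x hxI r ρ).toRingHom.toAlgebra
  letI : Algebra (gB x hxI r ρ) C₀ := (π.toRingHom.comp (gToC x hxI r ρ).toRingHom).toAlgebra
  let θ' : C' →ₐ[(gB x hxI r ρ)] C₀ := { θ with commutes' := hθB }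
  let π' : C →ₐ[(gB x hxI r ρ)] C₀ := { π.toRingHom with commutes' := fun _ => rfl }
  have hmap : J.map (algebraMap A C) ≤ (RingHom.ker β).map (algebraMap (gB x hxI r ρ) C) := by
    rw [hker, Ideal.map_map]
    refine le_of_eq (congrArg (J.map ·) (RingHom.ext fun a => ?_))
    exact ((gToC x hxI r ρ).commutes a).symm
  have hkB : IsNilpotent (RingHom.ker β) :=
    ⟨2, by rw [hker, ← Ideal.map_pow, pow_two, hJ2, Ideal.map_bot, Ideal.zero_eq_bot]⟩
  obtain ⟨f, hf⟩ := exists_hom_lift (E := C') hkB π' hπ (fun e he => hmap (hπk e he)) θ'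
  have hJC : ∀ c ∈ J.map (algebraMap A C), ∃ y, f y = c := by
    intro c hc
    obtain ⟨w, rfl⟩ := exists_sqMul_eq π hπ
      (fun _ he => mul_algebraMap_eq_zero hJ2 (hπk _ he)) hc
    induction w using TensorProduct.induction_on with
    | zero => exact ⟨0, by rw [map_zero, map_zero]⟩
    | add a b ha hb =>
        obtain ⟨y₁, h₁⟩ := ha (sqMul_mem _ _ _ _)
        obtain ⟨y₂, h₂⟩ := hb (sqMul_mem _ _ _ _)
        exact ⟨y₁ + y₂, by rw [map_add, map_add, h₁, h₂]⟩
    | tmul e j =>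
        obtain ⟨y, rfl⟩ := hθs e
        refine ⟨y * algebraMap (gB x hxI r ρ) C' (algebraMap A (gB x hxI r ρ) j), ?_⟩
        rw [show θ y = π (f y) from (hf y).symm, sqMul_tmul, map_mul, AlgHom.commutes]
        exact congrArg _ ((gToC x hxI r ρ).commutes j)
  have hfs : Function.Surjective f := fun c => by
    obtain ⟨y, hy⟩ := hθs (π c)
    obtain ⟨y', hy'⟩ := hJC (c - f y) (hπk _ (by
      rw [map_sub, show π (f y) = θ y from hf y, hy, sub_self]))
    exact ⟨y + y', by rw [map_add, hy', add_sub_cancel]⟩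
  have hfi : Function.Injective f := by
    letI : Algebra A C' := ((algebraMap (gB x hxI r ρ) C').comp (algebraMap A (gB x hxI r ρ))).toAlgebra
    let θA : C' →ₐ[A] C₀ := { θ with commutes' := fun a =>
      (hθB (algebraMap A (gB x hxI r ρ) a)).trans (by rw [AlgHom.commutes, AlgHom.commutes]) }
    let fA : C' →ₐ[A] C := { f.toRingHom with commutes' := fun a =>
                               (f.commutes (algebraMap A (gB x hxI r ρ) a)).trans ((gToC x hxI r ρ).commutes a) }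
    have hθAk : ∀ e, θA e = 0 → e ∈ J.map (algebraMap A C') := fun e he => by
      have h := hθk.le (show e ∈ RingHom.ker θ from he)
      rw [hker, Ideal.map_map] at h
      exact h
    rw [injective_iff_map_eq_zero]
    intro e he
    obtain ⟨w, hw⟩ := exists_sqMul_eq θA hθs
      (fun _ he => mul_algebraMap_eq_zero hJ2 (hθAk _ he))
      (hθAk e (by show θ e = 0; rw [← show π (f e) = θ e from hf e, he, map_zero]))
    -- `w` comes from `B₀ ⊗ J`
    obtain ⟨v, rfl⟩ :=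
      (TensorProduct.AlgebraTensorModule.cancelBaseChange A B₀ C₀ C₀ J).surjective w
    have hv : Φ₀ π hπ hπk hJ2 v = 0 := by
      have := sqMul_natural θA hθs (fun _ he => mul_algebraMap_eq_zero hJ2 (hθAk _ he)) π hπ
        (fun _ he => mul_algebraMap_eq_zero hJ2 (hπk _ he)) fA (AlgHom.id A C₀) (fun y => hf y)
        (TensorProduct.AlgebraTensorModule.cancelBaseChange A B₀ C₀ C₀ J v)
      rw [hw] at this
      simpa [Φ₀] using this.trans he
    obtain ⟨m, hm, hm'⟩ := glue₀ B₀ J x hs hi (fun _ => 0) (map_zero _) v (fun i => by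
      have := hCe _ (hxI i)
      apply Φ_injective π hπ hπk hJ2 (x i)
      rw [Φ_toLocV, hv, map_zero, TensorProduct.tmul_zero, map_zero])
    have hμ : μB hJ2 π hπ hπk x hxI p hpk r ρ hB₀J β hβs hβC hβL m = 0 :=
      g_ext x hxI r ρ (by rw [gToC_μB, ← hm, hv, map_zero]) fun i => by
        rw [gToL_μB hJ2 π hπ hπk x hxI p hps hpk r ρ hB₀J β hβs hβC hβL, hm', map_zero, map_zero]
    rw [← hw, hm]
    let gA : (gB x hxI r ρ) →ₐ[A] C' := { algebraMap (gB x hxI r ρ) C' with commutes' := fun _ => rfl }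
    have key : TensorProduct.AlgebraTensorModule.cancelBaseChange A B₀ C₀ C₀ J
        ((1 : C₀) ⊗ₜ[B₀] m) = (IsScalarTower.toAlgHom A B₀ C₀).toLinearMap.rTensor J m := by
      clear hm hm' hμ
      induction m using TensorProduct.induction_on with
      | zero => simp only [TensorProduct.tmul_zero, map_zero]
      | add a b ha hb => simp only [TensorProduct.tmul_add, map_add, ha, hb]
      | tmul b j =>
          rw [TensorProduct.AlgebraTensorModule.cancelBaseChange_tmul,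
            ← Algebra.algebraMap_eq_smul_one]
          rfl
    rw [key, sqMul_natural β hβs
      (mul_eq_zero_of_ker hJ2 π hπ hπk x hxI p hpk r ρ hB₀J β hβC hβL) θA hθs _ gA
      (IsScalarTower.toAlgHom A B₀ C₀) (fun z => (hθB z).trans (hβC z).symm) m,
      show sqMul β hβs _ m = 0 from hμ, map_zero]
  have : Algebra.Etale (gB x hxI r ρ) C := Algebra.Etale.of_equiv (AlgEquiv.ofBijective f ⟨hfi, hfs⟩)
  exact this

end Groth.Agent.CAlgH.EtaleGlue
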