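import Groth.Agent.CAlgH.StrictHenselExtended
import Groth.Agent.S0540
import Mathlib

/-!
# The union of the finite etale stages inside a subalgebra of a strict henselization
-/

set_option autoImplicit false
set_option linter.style.haveILetI false
universe u

open IsLocalRing TensorProduct

namespace Groth.Agent.CAlgH.EtaleHull

variable {A S : Type u} [CommRing A] [HenselianLocalRing A] [CommRing S] [IsLocalRing S]
  [Algebra A S] [IsLocalHom (algebraMap A S)] [Hensel.IsStrictHenselization A S]

variable (A S) in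
/-- The strict henselization of a henselian local ring is integral. -/
theorem isIntegral_strict : Algebra.IsIntegral A S := ⟨fun x => by
  obtain ⟨E, hE, _, -, -, hfin, -⟩ := EssEt6.exists_normal_stage A S {x}
  haveI := hfin
  exact ((Algebra.IsIntegral.isIntegral (R := A) (⟨x, hE (Finset.mem_singleton_self x)⟩ : E)).map E.val :)⟩

/-- Intermediate rings are local. -/
theorem isLocalHom_sub (B : Subalgebra A S) : IsLocalHom (algebraMap B S) := by
  haveI := isIntegral_strict A S
  haveI : Algebra.IsIntegral B S := Algebra.IsIntegral.tower_top A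
  exact RingHom.IsIntegral.isLocalHom (algebraMap_isIntegral_iff.2 inferInstance) Subtype.val_injective

/-- A finite etale stage. -/
def IsStage (E : Subalgebra A S) : Prop :=
  Module.Finite A E ∧ Algebra.FormallyUnramified A E

theorem IsStage.essEtale {E : Subalgebra A S} (h : IsStage E) :
    ∃ _ : IsLocalRing E, EGA4loc.IsEssentiallyEtale A E := by
  haveI := h.1
  haveI := h.2
  haveI := isLocalHom_sub E
  haveI : IsLocalRing E := EssEt6.isLocalRing_of_isLocalHom _
  haveI := EssEt6.isLocalHom_algebraMap (A := A) E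
  haveI := EssEt6.flat_strict (A := A) S
  haveI : IsLocalHom E.val.toRingHom := isLocalHom_sub E
  exact ⟨‹_›, EssEt6.of_unramified E.val Subtype.val_injective⟩

theorem IsStage.range {C : Type u} [CommRing C] [Algebra A C] [Module.Finite A C] [Algebra.FormallyUnramified A C]
    (f : C →ₐ[A] S) : IsStage f.range :=
  ⟨Module.Finite.of_surjective f.rangeRestrict.toLinearMap f.rangeRestrict_surjective,
    Algebra.FormallyUnramified.of_surjective f.rangeRestrict f.rangeRestrict_surjective⟩

theorem IsStage.exists_sup {E E' : Subalgebra A S} (h : IsStage E) (h' : IsStage E') {D : Subalgebra A S}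
    (hD : E ≤ D) (hD' : E' ≤ D) : ∃ E'' : Subalgebra A S, IsStage E'' ∧ E'' ≤ D ∧ E ≤ E'' ∧ E' ≤ E'' := by
  haveI := h.1
  haveI := h.2
  haveI := h'.1
  haveI := h'.2
  haveI : Module.Finite A (E ⊗[A] E') := Module.Finite.tensorProduct A E E'
  haveI : Algebra.FormallyUnramified A (E ⊗[A] E') := Algebra.FormallyUnramified.comp A E _
  let Φ : E ⊗[A] E' →ₐ[A] S := Algebra.TensorProduct.productMap E.val E'.val
  refine ⟨Φ.range, IsStage.range Φ, ?_, fun x hx => ⟨(⟨x, hx⟩ : E) ⊗ₜ 1, ?_⟩, fun x hx => ⟨1 ⊗ₜ (⟨x, hx⟩ : E'), ?_⟩⟩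
  · rw [Algebra.TensorProduct.productMap_range, Subalgebra.range_val, Subalgebra.range_val]
    exact sup_le hD hD'
  · simp [Φ]
  · simp [Φ]

variable [IsNoetherianRing A]

/-- A finite subalgebra contains a stage with the same residue field. -/
theorem exists_stage_residue (D : Subalgebra A S) [Module.Finite A D] :
    ∃ E : Subalgebra A S, E ≤ D ∧ IsStage E ∧ ∀ d ∈ D, ∃ e ∈ E, d - e ∈ maximalIdeal S := by
  classical
  haveI hlhD := isLocalHom_sub D
  haveI : IsLocalRing D := EssEt6.isLocalRing_of_isLocalHom _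
  haveI : HenselianLocalRing D := HenselLib.henselianLocalRing_of_isIntegral A D
  haveI := EssEt6.isLocalHom_algebraMap (A := A) D
  have hfinD : (Subalgebra.toSubmodule D).FG := Module.Finite.iff_fg.1 ‹Module.Finite A D›
  obtain ⟨gen, hgen⟩ := hfinD
  obtain ⟨E, hsE, _, -, hE, -, -⟩ := EssEt6.exists_normal_stage A S gen
  have hDE : D ≤ E := fun x hx => by
    have : x ∈ Submodule.span A (gen : Set S) := hgen.ge hx
    exact Submodule.span_le.2 (show (gen : Set S) ⊆ Subalgebra.toSubmodule E from hsE) this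
  haveI hsepD := EssEt6.isSeparable_of_le hDE hE
  obtain ⟨E1, _, _, _, _, hfin1, het1, ⟨ε⟩⟩ := S16430.result A (ResidueField D)
  haveI : Module.Flat A E1 := Algebra.Smooth.flat A E1
  obtain ⟨ψ, ⟨-, hψ, hψr⟩, -⟩ := HenselLib.EssEtMaps.existsUnique_lift (EssEt6.of_flat (A := A) (B := E1)) D
    (algebraMap A D) ε.toRingHom (RingHom.ext fun x => ε.commutes x)
  let ψ' : E1 →ₐ[A] D := { ψ with commutes' := RingHom.congr_fun hψ }
  refine ⟨(D.val.comp ψ').range, ?_, IsStage.range _, fun d hd => ?_⟩
  · rintro _ ⟨e, rfl⟩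
    exact (ψ' e).2
  · obtain ⟨z, hz⟩ := ε.surjective (residue D ⟨d, hd⟩)
    obtain ⟨e1, rfl⟩ := residue_surjective z
    refine ⟨_, ⟨e1, rfl⟩, ?_⟩
    have h1 : (⟨d, hd⟩ : D) - ψ' e1 ∈ maximalIdeal D := by
      rw [← residue_eq_zero_iff, map_sub, sub_eq_zero, ← hz]
      exact (hψr e1).symm
    rw [mem_maximalIdeal, mem_nonunits_iff] at h1 ⊢
    exact fun h => h1 (IsUnit.of_map (algebraMap D S) _ h)

/-- The union of the stages inside an intermediate ring. -/
theorem exists_hull (D : Subalgebra A S) :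
    ∃ (B : Subalgebra A S) (_ : IsLocalRing B) (_ : IsLocalHom (algebraMap B S)) (_ : HenselianLocalRing B),
      B ≤ D ∧ Hensel.IsStrictHenselization B S ∧ IsNoetherianRing B ∧
      ∀ d ∈ D, ∃ b ∈ B, d - b ∈ maximalIdeal S := by
  classical
  have hint := isIntegral_strict A S
  let B : Subalgebra A S :=
    { carrier := {x | ∃ E, IsStage E ∧ E ≤ D ∧ x ∈ E}
      mul_mem' := by
        rintro x y ⟨E, hE, hED, hx⟩ ⟨E', hE', hED', hy⟩
        obtain ⟨E'', hE'', hD, h1, h2⟩ := hE.exists_sup hE' hED hED'
        exact ⟨E'', hE'', hD, mul_mem (h1 hx) (h2 hy)⟩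
      add_mem' := by
        rintro x y ⟨E, hE, hED, hx⟩ ⟨E', hE', hED', hy⟩
        obtain ⟨E'', hE'', hD, h1, h2⟩ := hE.exists_sup hE' hED hED'
        exact ⟨E'', hE'', hD, add_mem (h1 hx) (h2 hy)⟩
      algebraMap_mem' := fun a => ⟨(Algebra.ofId A S).range, IsStage.range _,
        by rintro _ ⟨c, rfl⟩; exact D.algebraMap_mem c, ⟨a, rfl⟩⟩ }
  have hBD : B ≤ D := fun x ⟨E, _, hED, hx⟩ => hED hx
  haveI hlh := isLocalHom_sub B
  haveI : IsLocalRing B := EssEt6.isLocalRing_of_isLocalHom _
  haveI : Algebra.IsIntegral A B := ⟨fun x =>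
    (isIntegral_algHom_iff B.val Subtype.val_injective).1 (hint.isIntegral (x : S))⟩
  have hhens : HenselianLocalRing B := HenselLib.henselianLocalRing_of_isIntegral A B
  have hS := ‹Hensel.IsStrictHenselization A S›
  haveI : IsLocalHom (algebraMap A B) := EssEt6.isLocalHom_algebraMap B
  haveI hSH : Hensel.IsStrictHenselization B S := by
    refine ⟨hS.henselian, ?_, ?_⟩
    · haveI := hS.isSepClosure
      refine ⟨IsSepClosure.sep_closed (ResidueField A), ?_⟩
      haveI : IsScalarTower (ResidueField A) (ResidueField B) (ResidueField S) :=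
        IsScalarTower.of_algebraMap_eq fun x => by
          obtain ⟨r, rfl⟩ := residue_surjective x
          exact congrArg (residue S) (IsScalarTower.algebraMap_apply A B S r)
      haveI : Algebra.IsSeparable (ResidueField A) (ResidueField S) := IsSepClosure.separable
      exact Algebra.isSeparable_tower_top_of_isSeparable (ResidueField A) (ResidueField B) (ResidueField S)
    · intro T _ _ f _ τ hτ
      haveI : IsLocalHom (f.comp (algebraMap A B)) := RingHom.isLocalHom_comp _ _
      have hτ' : τ.comp (ResidueField.map (algebraMap A S)) = ResidueField.map (f.comp (algebraMap A B)) := by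
        refine RingHom.ext fun x => ?_
        obtain ⟨r, rfl⟩ := residue_surjective x
        rw [RingHom.comp_apply, ResidueField.map_residue, IsScalarTower.algebraMap_apply A B S]
        exact RingHom.congr_fun hτ (residue B (algebraMap A B r))
      obtain ⟨g, ⟨hg, hgr⟩, hu⟩ := hS.universal T _ τ hτ'
      refine ⟨g, ⟨RingHom.ext fun b => ?_, hgr⟩, fun g' hg' => hu g' ⟨?_, hg'.2⟩⟩
      · obtain ⟨E, hEs, hED, hbE⟩ := b.2
        obtain ⟨_, hEe⟩ := hEs.essEtale
        have hEB : E ≤ B := fun x hx => ⟨E, hEs, hED, hx⟩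
        letI : Algebra A T := (f.comp (algebraMap A B)).toAlgebra
        let u : E →ₐ[A] T := { g.comp (algebraMap E S) with
          commutes' := fun r => RingHom.congr_fun hg r }
        let v : E →ₐ[A] T := { f.comp (Subalgebra.inclusion hEB).toRingHom with commutes' := fun r => rfl }
        have huv : u = v := EssEt6.eq_of_residue_eq hEe u v fun e =>
          (hgr (algebraMap E S e)).trans (RingHom.congr_fun hτ (residue B (Subalgebra.inclusion hEB e)))
        exact DFunLike.congr_fun huv ⟨b, hbE⟩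
      · rw [IsScalarTower.algebraMap_eq A B S, ← RingHom.comp_assoc, hg'.1]
  refine ⟨B, ‹_›, hlh, hhens, hBD, hSH, (S0540.result B S).2 (EssEt6.isNoetherianRing_strict (A := A) ‹_›),
    fun d hd => ?_⟩
  haveI : Module.Finite A (Algebra.adjoin A ({d} : Set S)) :=
    Module.Finite.iff_fg.2 (hint.isIntegral d).fg_adjoin_singleton
  obtain ⟨E, hEle, hEs, hE⟩ := exists_stage_residue (Algebra.adjoin A ({d} : Set S))
  obtain ⟨e, he, hde⟩ := hE d (Algebra.subset_adjoin rfl)
  exact ⟨e, ⟨E, hEs, hEle.trans (Algebra.adjoin_le (by simpa using hd)), he⟩, hde⟩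

end Groth.Agent.CAlgH.EtaleHull
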