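import Groth.Agent.CAlgH.EtaleToAffine
import Groth.Agent.HenselLib.EtaleLift

/-!
# Finite etale algebras over quotients of affine space in characteristic `p` lift
-/

set_option autoImplicit false
universe u

open Polynomial

namespace Groth.Agent.CAlgH.EtaleLiftCharP

variable {k : Type u} [Field k] {n : ℕ}

theorem exists_finite_etale_lift_quotient (p : ℕ) [Fact p.Prime] [CharP k p] (I : Ideal (MvPolynomial (Fin n) k))
    (B : Type u) [CommRing B] [Algebra (MvPolynomial (Fin n) k ⧸ I) B] [Module.Finite (MvPolynomial (Fin n) k ⧸ I) B]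
    [Algebra.Etale (MvPolynomial (Fin n) k ⧸ I) B] :
    ∃ (C : Type u) (_ : CommRing C) (_ : Algebra (MvPolynomial (Fin n) k) C),
      Module.Finite (MvPolynomial (Fin n) k) C ∧ Algebra.Etale (MvPolynomial (Fin n) k) C ∧
      ∃ θ : C →+* B, Function.Surjective θ ∧
        ∀ q, θ (algebraMap (MvPolynomial (Fin n) k) C q) = algebraMap _ B (Ideal.Quotient.mk I q) := by
  classical
  obtain ⟨C, _, _, _, θ, hθ, -, hθa⟩ := HenselLib.exists_etale_lift _ I B
  letI : Algebra k C := ((algebraMap (MvPolynomial (Fin n) k) C).comp (algebraMap k _)).toAlgebra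
  haveI : IsScalarTower k (MvPolynomial (Fin n) k) C := IsScalarTower.of_algebraMap_eq fun _ => rfl
  haveI : Algebra.Smooth k (MvPolynomial (Fin n) k) := ⟨inferInstance, inferInstance⟩
  haveI : Algebra.Smooth k C := Algebra.Smooth.comp k (MvPolynomial (Fin n) k) C
  obtain ⟨s, hs⟩ := (inferInstance : Algebra.FiniteType k C).out
  haveI : Algebra.IsIntegral (MvPolynomial (Fin n) k ⧸ I) B := Algebra.IsIntegral.of_finite _ _
  have key : ∀ t : Finset C, ∃ φ : MvPolynomial (Fin n) k →ₐ[k] C, φ.toRingHom.Etale ∧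
      (∀ q, θ (φ q) = algebraMap _ B (Ideal.Quotient.mk I q)) ∧ ∀ x ∈ t, φ.toRingHom.IsIntegralElem x := by
    intro t
    induction t using Finset.induction_on with
    | empty => exact ⟨IsScalarTower.toAlgHom k _ C, RingHom.etale_algebraMap.2 inferInstance, hθa, by simp⟩
    | insert b t _ ih =>
      obtain ⟨φ, hφ, hφθ, ht⟩ := ih
      obtain ⟨P, hPm, hP⟩ := Algebra.IsIntegral.isIntegral (R := MvPolynomial (Fin n) k ⧸ I) (θ b)
      obtain ⟨Q, hQ, -, hQm⟩ := lifts_and_natDegree_eq_and_monic
        ((Polynomial.lifts_iff_coeff_lifts P).mpr fun i => Ideal.Quotient.mk_surjective _ :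
          P ∈ Polynomial.lifts (Ideal.Quotient.mk I)) hPm
      let Q' := Q * Polynomial.X
      have hQ'm : Q'.Monic := hQm.mul Polynomial.monic_X
      have hθh : θ (Q'.eval₂ φ.toRingHom b) = 0 := by
        rw [Polynomial.hom_eval₂, show θ.comp φ.toRingHom = (algebraMap _ B).comp (Ideal.Quotient.mk I) from RingHom.ext hφθ,
          ← Polynomial.eval₂_map, Polynomial.map_mul, hQ, Polynomial.eval₂_mul, hP, zero_mul]
      set h := Q'.eval₂ φ.toRingHom b with hh
      obtain ⟨φ', hφ', hmono, hint, hsub⟩ := EtaleToAffine.step p φ hφ h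
      have hspan : Ideal.span {h} ≤ RingHom.ker θ := by
        rw [Ideal.span_le, Set.singleton_subset_iff]
        exact hθh
      have hφ'θ : θ.comp φ'.toRingHom = θ.comp φ.toRingHom := by
        refine MvPolynomial.ringHom_ext (fun c => ?_) fun i => ?_
        · show θ (φ' (MvPolynomial.C c)) = θ (φ (MvPolynomial.C c))
          rw [← MvPolynomial.algebraMap_eq, φ'.commutes, φ.commutes]
        · exact sub_eq_zero.mp ((map_sub θ _ _).symm.trans (RingHom.mem_ker.mp (hspan (hsub i))))
      refine ⟨φ', hφ', fun q => (RingHom.congr_fun hφ'θ q).trans (hφθ q), fun x hx => ?_⟩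
      refine (Finset.mem_insert.1 hx).elim (fun hxb => ?_) fun hxt => hmono x (ht x hxt)
      subst hxb
      letI := φ'.toRingHom.toAlgebra
      let D := integralClosure (MvPolynomial (Fin n) k) C
      have hφD : ∀ q, φ q ∈ D := fun q => hmono _ (RingHom.isIntegralElem_map _)
      let d : D := ⟨h, hint⟩
      have hdeg : 0 < (Q'.map (φ.toRingHom.codRestrict D.toSubring hφD)).degree ∨ Subsingleton D := by
        rcases subsingleton_or_nontrivial D with hD | hD
        · exact Or.inr hD
        · left
          rw [hQ'm.degree_map, ← Polynomial.natDegree_pos_iff_degree_pos, hQm.natDegree_mul Polynomial.monic_X,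
            Polynomial.natDegree_X]
          exact Nat.succ_pos _
      refine isIntegral_trans (A := D) x
        ⟨Q'.map (φ.toRingHom.codRestrict D.toSubring hφD) - Polynomial.C d, ?_, ?_⟩
      · rcases hdeg with hdeg | hD
        · exact (hQ'm.map _).sub_of_left (lt_of_le_of_lt Polynomial.degree_C_le hdeg)
        · exact Subsingleton.elim _ _
      · rw [Polynomial.eval₂_sub, Polynomial.eval₂_map, Polynomial.eval₂_C]
        exact sub_eq_zero.mpr rfl
  obtain ⟨φ, hφ, hφθ, hint⟩ := key s
  letI := φ.toRingHom.toAlgebra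
  haveI : IsScalarTower k (MvPolynomial (Fin n) k) C := IsScalarTower.of_algebraMap_eq fun c => (φ.commutes c).symm
  haveI : Algebra.FiniteType (MvPolynomial (Fin n) k) C := Algebra.FiniteType.of_restrictScalars_finiteType k _ _
  haveI : Algebra.IsIntegral (MvPolynomial (Fin n) k) C := by
    have hle : (⊤ : Subalgebra k C) ≤ (integralClosure (MvPolynomial (Fin n) k) C).restrictScalars k :=
      hs ▸ Algebra.adjoin_le fun x hx => hint x hx
    exact ⟨fun x => hle Algebra.mem_top⟩
  exact ⟨C, inferInstance, φ.toRingHom.toAlgebra, Algebra.IsIntegral.finite, hφ, θ, hθ, hφθ⟩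

theorem exists_finite_etale_lift (p : ℕ) [Fact p.Prime] [CharP k p] {A : Type u} [CommRing A]
    (π : MvPolynomial (Fin n) k →+* A) (hπ : Function.Surjective π)
    (B : Type u) [CommRing B] [Algebra A B] [Module.Finite A B] [Algebra.Etale A B] :
    ∃ (C : Type u) (_ : CommRing C) (_ : Algebra (MvPolynomial (Fin n) k) C),
      Module.Finite (MvPolynomial (Fin n) k) C ∧ Algebra.Etale (MvPolynomial (Fin n) k) C ∧
      ∃ θ : C →+* B, Function.Surjective θ ∧
        ∀ q, θ (algebraMap (MvPolynomial (Fin n) k) C q) = algebraMap A B (π q) := by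
  let e := RingHom.quotientKerEquivOfSurjective hπ
  let j : (MvPolynomial (Fin n) k ⧸ RingHom.ker π) →+* B := (algebraMap A B).comp e.toRingHom
  letI := j.toAlgebra
  haveI : Module.Finite (MvPolynomial (Fin n) k ⧸ RingHom.ker π) B :=
    RingHom.finite_algebraMap.1 (RingHom.Finite.comp (RingHom.finite_algebraMap.2 inferInstance)
      (RingHom.Finite.of_surjective e.toRingHom e.surjective))
  haveI : Algebra.Etale (MvPolynomial (Fin n) k ⧸ RingHom.ker π) B :=
    RingHom.etale_algebraMap.1 (RingHom.Etale.stableUnderComposition _ _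
      (RingHom.Etale.of_bijective e.bijective) (RingHom.etale_algebraMap.2 inferInstance))
  obtain ⟨C, _, _, hCf, hCe, θ, hθ, hθa⟩ := exists_finite_etale_lift_quotient p (RingHom.ker π) B
  refine ⟨C, inferInstance, inferInstance, hCf, hCe, θ, hθ, fun q => (hθa q).trans ?_⟩
  show algebraMap A B (e (Ideal.Quotient.mk _ q)) = _
  rw [show e (Ideal.Quotient.mk _ q) = π q from RingHom.kerLift_mk π q]

end Groth.Agent.CAlgH.EtaleLiftCharP
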