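import Groth.Agent.CAlgH.GRingMaximal
import Groth.Agent.CAlgH.Approximation
import Mathlib.RingTheory.Unramified.LocalRing
import Mathlib

/-! A map of local rings approximating an isomorphism of completions is flat and unramified. -/

set_option autoImplicit false
set_option linter.style.haveILetI false
universe u

open IsLocalRing

namespace Groth.Agent.CAlgH.EtaleOfCompletionIso

/-- A surjective endomorphism of a Noetherian ring is injective. -/
theorem injective_of_surjective {R : Type u} [CommRing R] [IsNoetherianRing R] (f : R →+* R)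
    (hf : Function.Surjective f) : Function.Injective f := by
  let K : ℕ → Ideal R := fun n => Nat.rec ⊥ (fun _ I => I.comap f) n
  have hmono : Monotone K := monotone_nat_of_le_succ fun n => by
    induction n with
    | zero => exact bot_le
    | succ n ih => exact Ideal.comap_mono ih
  obtain ⟨n, hn⟩ := monotone_stabilizes_iff_noetherian.2 (inferInstanceAs (IsNoetherian R R)) ⟨K, hmono⟩
  have h1 : ∀ m, K (m + 1) ≤ K m → K 1 ≤ K 0 := by
    intro m
    induction m with
    | zero => exact id
    | succ m ih =>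
      intro hm
      refine ih fun x hx => ?_
      obtain ⟨y, rfl⟩ := hf x
      exact hm (show y ∈ K (m + 1 + 1) from hx)
  rw [injective_iff_map_eq_zero]
  intro x hx
  exact h1 n (hn (n + 1) (Nat.le_succ n)).ge (show f x ∈ (⊥ : Ideal R) from hx)

variable {A B C : Type u} [CommRing A] [IsLocalRing A] [IsNoetherianRing A] [CommRing B] [IsLocalRing B]
  [IsNoetherianRing B] [CommRing C] [IsLocalRing C] [IsNoetherianRing C]

omit [IsNoetherianRing A] in
/-- The quotient map modulo powers of maximal ideals. -/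
theorem quotientMap_bijective (ι : A →+* C) (hmap : (maximalIdeal A).map ι = maximalIdeal C)
    (hres : ∀ z : C, ∃ a, z - ι a ∈ maximalIdeal C) (j : ℕ)
    (hker : (maximalIdeal C ^ j).comap ι = maximalIdeal A ^ j) :
    Function.Bijective (Ideal.quotientMap (maximalIdeal C ^ j) ι hker.ge) :=
  ⟨Ideal.quotientMap_injective' hker.le, fun y => by
    obtain ⟨y, rfl⟩ := Ideal.Quotient.mk_surjective y
    obtain ⟨r, hr⟩ := exists_sub_mem_pow ι hmap hres j y
    exact ⟨Ideal.Quotient.mk _ r, (Ideal.Quotient.eq.mpr hr).symm⟩⟩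

/-- A map `g : B → C` congruent modulo `m^2` to an isomorphism of completions, read through
a flat unramified `ι : A → C` with trivial residue extension, is flat and unramified. -/
theorem flat_and_unramified (ι : A →+* C) [IsLocalHom ι] (hflat : ι.Flat)
    (hιm : (maximalIdeal A).map ι = maximalIdeal C) (hιres : ∀ z : C, ∃ a, z - ι a ∈ maximalIdeal C)
    (g : B →+* C) [IsLocalHom g] (φ : EGA4.Cpl B ≃+* EGA4.Cpl A) {N : ℕ} (hN : 2 ≤ N)
    (happ : ∀ (b : B) (a : A), AdicCompletion.evalₐ (maximalIdeal A) N (φ (algebraMap B (EGA4.Cpl B) b)) =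
      Ideal.Quotient.mk (maximalIdeal A ^ N) a → g b - ι a ∈ maximalIdeal C ^ N) :
    g.Flat ∧ (∀ z : C, ∃ b, z - g b ∈ maximalIdeal C) ∧ (maximalIdeal B).map g = maximalIdeal C := by
  have hφpow : ∀ j (y : EGA4.Cpl A), y ∈ maximalIdeal (EGA4.Cpl A) ^ j →
      φ.symm y ∈ maximalIdeal (EGA4.Cpl B) ^ j := by
    intro j y hy
    have h1 := Ideal.mem_map_of_mem φ.symm.toRingHom hy
    rw [Ideal.map_pow, IsLocalRing.map_maximalIdeal_of_surjective _ φ.symm.surjective] at h1
    exact h1
  have hφpow' : ∀ j (y : EGA4.Cpl B), y ∈ maximalIdeal (EGA4.Cpl B) ^ j →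
      φ y ∈ maximalIdeal (EGA4.Cpl A) ^ j := by
    intro j y hy
    have h1 := Ideal.mem_map_of_mem φ.toRingHom hy
    rw [Ideal.map_pow, IsLocalRing.map_maximalIdeal_of_surjective _ φ.surjective] at h1
    exact h1
  have hev : ∀ {R : Type u} [CommRing R] [IsLocalRing R] [IsNoetherianRing R] (j : ℕ) (y : EGA4.Cpl R),
      y ∈ maximalIdeal (EGA4.Cpl R) ^ j ↔ AdicCompletion.evalₐ (maximalIdeal R) j y = 0 := by
    intro R _ _ _ j y
    rw [AdicCompletion.maximalIdeal_eq_map, ← Ideal.map_pow]
    exact ⟨Approximation.evalₐ_eq_zero, Approximation.mem_map_pow (maximalIdeal R).fg_of_isNoetherianRing⟩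
  -- every element of `A` comes from `B` modulo `m^N`
  have hlift : ∀ a : A, ∃ b : B, AdicCompletion.evalₐ (maximalIdeal A) N (φ (algebraMap B (EGA4.Cpl B) b)) =
      Ideal.Quotient.mk (maximalIdeal A ^ N) a := by
    intro a
    obtain ⟨b, hb⟩ := EtaleApprox.exists_sub_mem B N (φ.symm (algebraMap A (EGA4.Cpl A) a))
    refine ⟨b, ?_⟩
    have h1 := (hev N _).1 (hφpow' N _ hb)
    rw [map_sub, φ.apply_symm_apply, map_sub, AlgHom.commutes, sub_eq_zero] at h1
    exact h1.symm
  have hres : ∀ z : C, ∃ b, z - g b ∈ maximalIdeal C := by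
    intro z
    obtain ⟨a, ha⟩ := hιres z
    obtain ⟨b, hb⟩ := hlift a
    refine ⟨b, ?_⟩
    rw [show z - g b = (z - ι a) - (g b - ι a) by ring]
    exact sub_mem ha (Ideal.pow_le_self (by omega) (happ b a hb))
  have hmap : (maximalIdeal B).map g = maximalIdeal C := by
    refine le_antisymm (IsLocalRing.map_maximalIdeal_le g) ?_
    refine Submodule.le_of_le_smul_of_le_jacobson_bot (IsNoetherian.noetherian _)
      (IsLocalRing.maximalIdeal_le_jacobson _) ?_
    conv_lhs => rw [← hιm]
    rw [Ideal.map_le_iff_le_comap]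
    intro a ha
    obtain ⟨b, hb⟩ := hlift a
    have hbm : b ∈ maximalIdeal B := by
      by_contra hu
      rw [mem_maximalIdeal, mem_nonunits_iff, not_not] at hu
      have h2 : IsUnit (Ideal.Quotient.mk (maximalIdeal A ^ N) a) := by
        rw [← hb]
        exact (((hu.map (algebraMap B (EGA4.Cpl B))).map φ).map _)
      haveI : Nontrivial (A ⧸ maximalIdeal A ^ N) := Ideal.Quotient.nontrivial_iff.2 fun h =>
        (IsLocalRing.maximalIdeal.isMaximal A).ne_top (top_le_iff.1 (h ▸ Ideal.pow_le_self (by omega)))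
      haveI : IsLocalHom (Ideal.Quotient.mk (maximalIdeal A ^ N)) :=
        IsLocalHom.of_surjective _ Ideal.Quotient.mk_surjective
      exact (mem_maximalIdeal a).1 ha (IsUnit.of_map _ _ h2)
    show ι a ∈ (maximalIdeal B).map g ⊔ maximalIdeal C • maximalIdeal C
    rw [show ι a = g b - (g b - ι a) by ring, smul_eq_mul, ← pow_two]
    exact sub_mem (Submodule.mem_sup_left (Ideal.mem_map_of_mem g hbm))
      (Submodule.mem_sup_right (Ideal.pow_le_pow_right hN (happ b a hb)))
  have hker : ∀ j, (maximalIdeal C ^ j).comap g = maximalIdeal B ^ j := by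
    intro j
    have hle : maximalIdeal B ^ j ≤ (maximalIdeal C ^ j).comap g := by
      rw [← Ideal.map_le_iff_le_comap, Ideal.map_pow, hmap]
    have hι := comap_pow_eq_of_flat ι hflat hιm j
    let gj := Ideal.quotientMap (maximalIdeal C ^ j) g hle
    have hgj : Function.Surjective gj := fun y => by
      obtain ⟨y, rfl⟩ := Ideal.Quotient.mk_surjective y
      obtain ⟨r, hr⟩ := exists_sub_mem_pow g hmap hres j y
      exact ⟨Ideal.Quotient.mk _ r, (Ideal.Quotient.eq.mpr hr).symm⟩
    let η : A →+* B ⧸ maximalIdeal B ^ j :=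
      ((AdicCompletion.evalₐ (maximalIdeal B) j).toRingHom.comp φ.symm.toRingHom).comp (algebraMap A (EGA4.Cpl A))
    let η' : A ⧸ maximalIdeal A ^ j →+* B ⧸ maximalIdeal B ^ j := Ideal.Quotient.lift _ η fun a ha => by
      refine (hev j _).1 (hφpow j _ ?_)
      rw [AdicCompletion.maximalIdeal_eq_map, ← Ideal.map_pow]
      exact Ideal.mem_map_of_mem _ ha
    have hη' : Function.Surjective η' := fun y => by
      obtain ⟨y, rfl⟩ := Ideal.Quotient.mk_surjective y
      obtain ⟨a, ha⟩ := EtaleApprox.exists_sub_mem A j (φ (algebraMap B (EGA4.Cpl B) y))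
      refine ⟨Ideal.Quotient.mk _ a, ?_⟩
      have h1 := (hev j _).1 (hφpow j _ ha)
      rw [map_sub, φ.symm_apply_apply, map_sub, AlgHom.commutes, sub_eq_zero] at h1
      exact h1.symm
    let θ := RingEquiv.ofBijective _ (quotientMap_bijective ι hιm hιres j hι)
    have hE : Function.Surjective ((η'.comp θ.symm.toRingHom).comp gj) :=
      (hη'.comp θ.symm.surjective).comp hgj
    have hinj : Function.Injective ((η'.comp θ.symm.toRingHom).comp gj) := injective_of_surjective _ hE
    refine le_antisymm (fun b hb => ?_) hle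
    refine Ideal.Quotient.eq_zero_iff_mem.1 (hinj ?_)
    rw [map_zero]
    show η' (θ.symm (gj (Ideal.Quotient.mk _ b))) = 0
    rw [show gj (Ideal.Quotient.mk _ b) = 0 from (Ideal.quotientMap_mk (H := hle)).trans
      (Ideal.Quotient.eq_zero_iff_mem.2 hb), map_zero, map_zero]
  refine ⟨?_, hres, hmap⟩
  letI := g.toAlgebra
  haveI := isLocalHom_algebraMap_cpl C
  haveI : IsLocalHom (algebraMap B C) := ‹IsLocalHom g›
  haveI := EtaleApprox.isAdicComplete_cpl C
  have hmT : (maximalIdeal C).map (algebraMap C (EGA4.Cpl C)) = maximalIdeal (EGA4.Cpl C) :=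
    AdicCompletion.maximalIdeal_eq_map.symm
  have hCflat : (algebraMap C (EGA4.Cpl C)).Flat :=
    RingHom.flat_algebraMap_iff.2 (AdicCompletion.flat_of_isNoetherian _)
  obtain ⟨e, he⟩ := completion_equiv_of_quotients (maximalIdeal B) (maximalIdeal (EGA4.Cpl C))
    (algebraMap B (EGA4.Cpl C))
    (fun j => by
      rw [IsScalarTower.algebraMap_eq B C (EGA4.Cpl C), ← Ideal.comap_comap,
        comap_pow_eq_of_flat _ hCflat hmT j]
      exact hker j)
    (fun j y => by
      obtain ⟨c, hc⟩ := EtaleApprox.exists_sub_mem C j y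
      obtain ⟨b, hb⟩ := exists_sub_mem_pow g hmap hres j c
      refine ⟨b, ?_⟩
      have h2 := Ideal.mem_map_of_mem (algebraMap C (EGA4.Cpl C)) hb
      rw [Ideal.map_pow, hmT, map_sub] at h2
      rw [IsScalarTower.algebraMap_apply B C (EGA4.Cpl C),
        show y - algebraMap C (EGA4.Cpl C) (algebraMap B C b) =
          (y - algebraMap C (EGA4.Cpl C) c) + (algebraMap C (EGA4.Cpl C) c - algebraMap C (EGA4.Cpl C) (g b)) by
          rw [show algebraMap B C b = g b from rfl]; ring]
      exact add_mem hc h2)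
  haveI : Module.Flat B (EGA4.Cpl B) := AdicCompletion.flat_of_isNoetherian _
  haveI : Module.Flat B (EGA4.Cpl C) :=
    Module.Flat.of_linearEquiv ({ e with commutes' := he } : EGA4.Cpl B ≃ₐ[B] EGA4.Cpl C).symm.toLinearEquiv
  haveI : Module.FaithfullyFlat C (EGA4.Cpl C) :=
    haveI : Module.Flat C (EGA4.Cpl C) := AdicCompletion.flat_of_isNoetherian _
    Module.FaithfullyFlat.of_flat_of_isLocalHom
  exact RingHom.flat_algebraMap_iff.2 (flat_of_comp_faithfullyFlat B C (EGA4.Cpl C))

omit [IsNoetherianRing B] [IsNoetherianRing C] in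
/-- Unramifiedness from trivial residue extension and `m_B C = m_C`. -/
theorem formallyUnramified_of (g : B →+* C) [IsLocalHom g] (hg : g.EssFiniteType)
    (hres : ∀ z : C, ∃ b, z - g b ∈ maximalIdeal C) (hmap : (maximalIdeal B).map g = maximalIdeal C) :
    g.FormallyUnramified := by
  letI := g.toAlgebra
  haveI : Algebra.EssFiniteType B C := hg
  haveI : IsLocalHom (algebraMap B C) := ‹IsLocalHom g›
  haveI : Algebra.IsSeparable (ResidueField B) (ResidueField C) := ⟨fun z => by
    obtain ⟨z, rfl⟩ := residue_surjective z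
    obtain ⟨b, hb⟩ := hres z
    rw [show residue C z = algebraMap (ResidueField B) (ResidueField C) (residue B b) from Ideal.Quotient.eq.2 hb]
    exact isSeparable_algebraMap _⟩
  exact Algebra.FormallyUnramified.of_map_maximalIdeal hmap

end Groth.Agent.CAlgH.EtaleOfCompletionIso
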