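import Mathlib.RingTheory.Etale.QuasiFinite
import Mathlib.RingTheory.TensorProduct.Pi
import Mathlib.RingTheory.Spectrum.Prime.Noetherian
import Mathlib.RingTheory.Ideal.MinimalPrime.Noetherian
import Mathlib.RingTheory.FiniteType
import Mathlib.FieldTheory.Finite.Basic
import Mathlib.RingTheory.RingHom.Etale

/-! Etale localization of a finite type algebra at a prime of the base (Stacks 02LO). -/

set_option autoImplicit false
set_option maxHeartbeats 800000
universe u

open TensorProduct

namespace Groth.Agent.CAlgH.EtaleQFDecomp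

theorem finite_isMin (R S : Type u) [CommRing R] [CommRing S] [Algebra R S] [Algebra.FiniteType R S]
    (p : Ideal R) [p.IsPrime] : {x : p.primesOver S | IsMin x}.Finite := by
  haveI : IsNoetherianRing (p.Fiber S) := Algebra.FiniteType.isNoetherianRing p.ResidueField _
  let o := PrimeSpectrum.primesOverOrderIsoFiber R S p
  refine Set.Finite.of_finite_image (f := fun x => (o x).asIdeal) ?_ fun x _ y _ h => o.injective (PrimeSpectrum.ext h)
  refine (minimalPrimes.finite_of_isNoetherianRing (p.Fiber S)).subset ?_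
  rintro _ ⟨x, hx, rfl⟩
  exact PrimeSpectrum.isMin_iff.1 (o.isMin_apply.2 hx)

theorem mem_of_le {T : Type u} [CommRing T] {e : T} (he : IsIdempotentElem e) {P Q : Ideal T} [P.IsPrime] [Q.IsPrime]
    (h : P ≤ Q) (hQ : e ∈ Q) : e ∈ P := by
  refine ((Ideal.IsPrime.mem_or_mem ‹_› (show e * (1 - e) ∈ P by
    rw [he.mul_one_sub_self]; exact zero_mem _))).resolve_right fun h' => ?_
  exact ‹Q.IsPrime›.one_notMem (by simpa using add_mem hQ (h h'))

variable {R R' S : Type u} [CommRing R] [CommRing R'] [CommRing S] [Algebra R R'] [Algebra R S] [Algebra.FiniteType R S]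
  {p : Ideal R} {P : Ideal R'} [p.IsPrime] [P.IsPrime] [P.LiesOver p]

theorem ncard_lt (H : Function.Bijective (Ideal.ResidueField.mapₐ p P (Algebra.ofId _ _) (P.over_def p)))
    (q : Ideal S) [q.IsPrime] [q.LiesOver p] [Algebra.QuasiFiniteAt R q]
    {e : R' ⊗[R] S} (he : IsIdempotentElem e) (P' : Ideal (R' ⊗[R] S)) [P'.IsPrime]
    (hP'q : P'.comap Algebra.TensorProduct.includeRight.toRingHom = q) [P'.LiesOver P] (heP' : e ∉ P') :
    {x : P.primesOver ((R' ⊗[R] S) ⧸ Ideal.span {e}) | IsMin x}.ncard < {x : p.primesOver S | IsMin x}.ncard := by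
  let π := Ideal.Quotient.mk (Ideal.span {e})
  let c : P.primesOver ((R' ⊗[R] S) ⧸ Ideal.span {e}) → P.primesOver (R' ⊗[R] S) := fun x =>
    ⟨x.1.comap π, x.2.1.comap π, ⟨x.2.2.1⟩⟩
  let F := Ideal.fiberIsoOfBijectiveResidueField (S := S) H
  have hc : ∀ x, e ∈ (c x).1 := fun x => by
    show π e ∈ x.1
    rw [Ideal.Quotient.eq_zero_iff_mem.2 (Ideal.mem_span_singleton_self e)]; exact zero_mem _
  have hle : ∀ x y, (c x ≤ c y ↔ x ≤ y) := fun x y =>
    ⟨fun h => by
      intro z hz
      obtain ⟨z, rfl⟩ := Ideal.Quotient.mk_surjective z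
      exact h hz, fun h z hz => h hz⟩
  let qq : p.primesOver S := ⟨q, ‹_›, ‹_›⟩
  have hq : IsMin qq := fun y hy => by
    haveI := y.2.1
    exact ((Algebra.QuasiFiniteAt.eq_of_le_of_under_eq (R := R) (P := y.1) (Q := q) hy
      (y.2.2.1.symm.trans (q.over_def p))) ▸ le_rfl : q ≤ y.1)
  calc _ ≤ ({x : p.primesOver S | IsMin x} \ {qq}).ncard := by
        refine Set.ncard_le_ncard_of_injOn (fun x => F (c x)) (fun x hx => ⟨?_, ?_⟩) ?_ ((finite_isMin R S p).sdiff)
        · refine F.isMin_apply.2 fun y hy => ?_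
          haveI := y.2.1; haveI := (c x).2.1
          have hey : e ∈ y.1 := mem_of_le he hy (hc x)
          haveI hyp : (y.1.map π).IsPrime := Ideal.map_isPrime_of_surjective Ideal.Quotient.mk_surjective (by
            rw [Ideal.mk_ker]; exact (Ideal.span_singleton_le_iff_mem _).2 hey)
          have hyc : (y.1.map π).comap π = y.1 := by
            rw [Ideal.comap_map_of_surjective _ Ideal.Quotient.mk_surjective, sup_eq_left, ← RingHom.ker_eq_comap_bot,
              Ideal.mk_ker]
            exact (Ideal.span_singleton_le_iff_mem _).2 hey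
          let y' : P.primesOver ((R' ⊗[R] S) ⧸ Ideal.span {e}) := ⟨y.1.map π, hyp, ⟨by
            show P = (y.1.map π).comap (algebraMap R' ((R' ⊗[R] S) ⧸ Ideal.span {e}))
            rw [show algebraMap R' ((R' ⊗[R] S) ⧸ Ideal.span {e}) = π.comp (algebraMap R' (R' ⊗[R] S)) from rfl,
              ← Ideal.comap_comap, hyc]
            exact y.2.2.1⟩⟩
          have hcy : c y' = y := Subtype.ext hyc
          rw [← hcy] at hy ⊢
          exact (hle _ _).2 (hx ((hle _ _).1 hy))
        · intro h
          have h' := congrArg Subtype.val (Set.mem_singleton_iff.1 h)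
          rw [Ideal.comap_fiberIsoOfBijectiveResidueField_apply] at h'
          haveI := (c x).2.1; haveI := (c x).2.2
          exact heP' (Ideal.eq_of_comap_eq_comap_of_bijective_residueFieldMap H (c x).1 P' (h'.trans hP'q.symm) ▸ hc x)
        · intro x _ y _ h
          have := F.injective h
          exact le_antisymm ((hle _ _).1 this.le) ((hle _ _).1 this.ge)
    _ < _ := Set.ncard_sdiff_singleton_lt_of_mem hq (finite_isMin R S p)

section cons

variable {K : Type u} [CommRing K] {m : ℕ} (A₀ : Type u) (A : Fin m → Type u)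

/-- The family `A₀, A`. -/
def consTy : Fin (m + 1) → Type u := Fin.cases A₀ A

/-- Ring structures on `A₀, A`. -/
@[reducible] def consRing [iA₀ : CommRing A₀] [iA : ∀ i, CommRing (A i)] : ∀ i, CommRing (consTy A₀ A i) :=
  Fin.cases iA₀ iA

attribute [local instance] consRing

/-- Algebra structures on `A₀, A`. -/
@[reducible] def consAlg [CommRing A₀] [∀ i, CommRing (A i)] [i₀ : Algebra K A₀] [i : ∀ i, Algebra K (A i)] :
    ∀ i, Algebra K (consTy A₀ A i) := Fin.cases i₀ i

theorem exists_cons [CommRing A₀] [∀ i, CommRing (A i)] [Algebra K A₀] [∀ i, Algebra K (A i)] (B : Type u)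
    [CommRing B] [Algebra K B] (Q : Ideal K)
    (h₀ : Module.Finite K A₀ ∧ ∃! r : Ideal A₀, r.IsPrime ∧ r.comap (algebraMap K A₀) = Q)
    (h : ∀ i, Module.Finite K (A i) ∧ ∃! r : Ideal (A i), r.IsPrime ∧ r.comap (algebraMap K (A i)) = Q) :
    ∃ (A' : Fin (m + 1) → Type u) (_ : ∀ i, CommRing (A' i)) (_ : ∀ i, Algebra K (A' i)),
      Nonempty ((A₀ × ((∀ i, A i) × B)) ≃ₐ[K] ((∀ i, A' i) × B)) ∧
      ∀ i, Module.Finite K (A' i) ∧ ∃! r : Ideal (A' i), r.IsPrime ∧ r.comap (algebraMap K (A' i)) = Q := by
  refine ⟨consTy A₀ A, consRing A₀ A, consAlg A₀ A, ⟨?_⟩, Fin.cases h₀ h⟩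
  letI := consAlg (K := K) A₀ A
  exact AlgEquiv.ofRingEquiv (f :=
    { toFun := fun x => (Fin.cases (motive := consTy A₀ A) x.1 x.2.1, x.2.2)
      invFun := fun y => (y.1 0, (fun i => y.1 i.succ, y.2))
      left_inv := fun _ => rfl
      right_inv := fun y => Prod.ext (funext (Fin.cases rfl fun i => rfl)) rfl
      map_mul' := fun x y => Prod.ext (funext (Fin.cases rfl fun i => rfl)) rfl
      map_add' := fun x y => Prod.ext (funext (Fin.cases rfl fun i => rfl)) rfl })
    (fun r => Prod.ext (funext (Fin.cases rfl fun i => rfl)) rfl)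

end cons

theorem exists_decomp (R S : Type u) [CommRing R] [CommRing S] [Algebra R S] [Algebra.FiniteType R S]
    (p : Ideal R) [p.IsPrime] :
    ∃ (R' : Type u) (_ : CommRing R') (_ : Algebra R R') (_ : Algebra.Etale R R') (p' : Ideal R')
      (_ : p'.IsPrime) (_ : p'.LiesOver p) (n : ℕ) (A : Fin n → Type u) (_ : ∀ i, CommRing (A i))
      (_ : ∀ i, Algebra R' (A i)) (B : Type u) (_ : CommRing B) (_ : Algebra R' B),
      Function.Bijective (Ideal.ResidueField.mapₐ p p' (Algebra.ofId _ _) (p'.over_def p)) ∧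
      Nonempty ((R' ⊗[R] S) ≃ₐ[R'] ((∀ i, A i) × B)) ∧
        (∀ i, Module.Finite R' (A i) ∧
          ∃! r : Ideal (A i), r.IsPrime ∧ r.comap (algebraMap R' (A i)) = p') ∧
        ∀ (q : Ideal B) [q.IsPrime], q.comap (algebraMap R' B) = p' →
          ¬ Algebra.QuasiFiniteAt R' q := by
  induction h : {x : p.primesOver S | IsMin x}.ncard using Nat.strong_induction_on generalizing R S with
  | h k IH =>
    subst h
    by_cases hqf : ∃ (q : Ideal S) (_ : q.IsPrime), q.comap (algebraMap R S) = p ∧ Algebra.QuasiFiniteAt R q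
    · obtain ⟨q, _, hqp, hqq⟩ := hqf
      haveI : q.LiesOver p := ⟨hqp.symm⟩
      obtain ⟨R', _, _, _, P, _, _, e, he, P', _, _, hP'q, heP', hpP, hfin, huniq⟩ :=
        Algebra.exists_etale_isIdempotentElem_forall_liesOver_eq p q
      let S₁ := (R' ⊗[R] S) ⧸ Ideal.span {e}
      let S₀ := (R' ⊗[R] S) ⧸ Ideal.span {1 - e}
      obtain ⟨R'', _, _, _, Q, _, _, m, A, _, _, B, _, _, hPQ, ⟨ε⟩, hA, hB⟩ :=
        IH _ (ncard_lt hpP q he P' hP'q heP') R' S₁ P rfl
      letI : Algebra R R'' := .compHom _ (algebraMap R R')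
      haveI : IsScalarTower R R' R'' := .of_algebraMap_eq' rfl
      haveI : Algebra.Etale R R'' := Algebra.Etale.comp R R' R''
      haveI : Q.LiesOver p := .trans _ P _
      haveI : IsLocalization.Away e S₀ := IsLocalization.away_of_isIdempotentElem he Ideal.mk_ker Ideal.Quotient.mk_surjective
      haveI : Module.Finite R' S₀ := Module.Finite.equiv
        ((IsLocalization.algEquiv (Submonoid.powers e) (Localization.Away e) S₀).restrictScalars R').toLinearEquiv
      have hA₀ : ∃! r : Ideal (R'' ⊗[R'] S₀), r.IsPrime ∧ r.comap (algebraMap R'' (R'' ⊗[R'] S₀)) = Q := by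
        let G := Ideal.fiberIsoOfBijectiveResidueField (S := S₀) hPQ
        let π := Ideal.Quotient.mk (Ideal.span {1 - e})
        have h1 : (1 - e) ∈ P' := ((Ideal.IsPrime.mem_or_mem ‹_› (show e * (1 - e) ∈ P' by
          rw [he.mul_one_sub_self]; exact zero_mem _))).resolve_left heP'
        haveI : (P'.map π).IsPrime := Ideal.map_isPrime_of_surjective Ideal.Quotient.mk_surjective (by
          rw [Ideal.mk_ker]; exact (Ideal.span_singleton_le_iff_mem _).2 h1)
        have hc : (P'.map π).comap π = P' := by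
          rw [Ideal.comap_map_of_surjective _ Ideal.Quotient.mk_surjective, sup_eq_left, ← RingHom.ker_eq_comap_bot,
            Ideal.mk_ker]
          exact (Ideal.span_singleton_le_iff_mem _).2 h1
        have hkey : ∀ r : P.primesOver S₀, r.1 = P'.map π := fun r => by
          haveI := r.2.1
          haveI : (r.1.comap π).LiesOver P := ⟨r.2.2.1⟩
          have hr : e ∉ r.1.comap π := fun h => r.2.1.one_notMem (by
            have := add_mem (show π e ∈ r.1 from h) (show π (1 - e) ∈ r.1 by
              rw [Ideal.Quotient.eq_zero_iff_mem.2 (Ideal.mem_span_singleton_self _)]; exact zero_mem _)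
            rwa [← map_add, add_sub_cancel, map_one] at this)
          rw [← huniq _ inferInstance inferInstance hr, Ideal.map_comap_of_surjective _ Ideal.Quotient.mk_surjective]
        let r₀ : P.primesOver S₀ := ⟨P'.map π, inferInstance, ⟨by
          show P = ((P'.map π).comap (algebraMap R' S₀))
          rw [show algebraMap R' S₀ = π.comp (algebraMap R' (R' ⊗[R] S)) from rfl, ← Ideal.comap_comap, hc]
          exact P'.over_def P⟩⟩
        refine ⟨(G.symm r₀).1, ⟨(G.symm r₀).2.1, (G.symm r₀).2.2.1.symm⟩, ?_⟩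
        rintro r ⟨hr, hrQ⟩
        have : (⟨r, hr, ⟨hrQ.symm⟩⟩ : Q.primesOver (R'' ⊗[R'] S₀)) = G.symm r₀ := by
          refine G.injective ?_
          rw [OrderIso.apply_symm_apply]
          exact Subtype.ext (hkey _)
        exact congrArg Subtype.val this
      obtain ⟨A', iC, iA, ⟨εA⟩, hA'⟩ := exists_cons (R'' ⊗[R'] S₀) A B Q ⟨inferInstance, hA₀⟩ hA
      refine ⟨R'', inferInstance, inferInstance, inferInstance, Q, inferInstance, inferInstance, m + 1, A', iC, iA,
        B, inferInstance, inferInstance, ?_, ⟨?_⟩, hA', hB⟩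
      · have : ∀ x, Ideal.ResidueField.mapₐ p Q (Algebra.ofId R R'') (Q.over_def p) x =
            Ideal.ResidueField.mapₐ P Q (Algebra.ofId R' R'') (Q.over_def P)
              (Ideal.ResidueField.mapₐ p P (Algebra.ofId R R') (P.over_def p) x) := by
          refine fun x => RingHom.congr_fun (f := (Ideal.ResidueField.mapₐ p Q (Algebra.ofId R R'') (Q.over_def p)).toRingHom)
            (g := ((Ideal.ResidueField.mapₐ P Q (Algebra.ofId R' R'') (Q.over_def P)).toRingHom.comp
              (Ideal.ResidueField.mapₐ p P (Algebra.ofId R R') (P.over_def p)).toRingHom)) (Ideal.ResidueField.ringHom_ext ?_) x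
          ext a
          simp [IsScalarTower.algebraMap_apply R R' R'']
        rw [funext this]
        exact hPQ.comp hpP
      · let s : (R' ⊗[R] S) ≃ₐ[R'] S₀ × S₁ :=
          AlgEquiv.ofBijective ((Ideal.Quotient.mkₐ R' _).prod (Ideal.Quotient.mkₐ R' _)) (by
            have hcop : IsCoprime (Ideal.span {1 - e}) (Ideal.span {e}) := by
              rw [Ideal.isCoprime_span_singleton_iff]; exact ⟨1, 1, by ring⟩
            refine ⟨(injective_iff_map_eq_zero _).2 fun z hz => ?_, fun w => ?_⟩
            · have h1 := Ideal.Quotient.eq_zero_iff_mem.1 (congrArg Prod.fst hz)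
              have h2 := Ideal.Quotient.eq_zero_iff_mem.1 (congrArg Prod.snd hz)
              obtain ⟨a, rfl⟩ := Ideal.mem_span_singleton'.1 h1
              obtain ⟨b, hb⟩ := Ideal.mem_span_singleton'.1 h2
              calc a * (1 - e) = a * (1 - e) * (1 - e) := by rw [mul_assoc, he.one_sub.eq]
                _ = b * (e * (1 - e)) := by rw [← hb, mul_assoc]
                _ = 0 := by rw [he.mul_one_sub_self, mul_zero]
            · obtain ⟨a, ha⟩ := Ideal.Quotient.mk_surjective w.1
              obtain ⟨b, hb⟩ := Ideal.Quotient.mk_surjective w.2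
              refine ⟨a * e + b * (1 - e), Prod.ext ?_ ?_⟩
              · refine Eq.trans ?_ ha
                exact Ideal.Quotient.eq.2 (Ideal.mem_span_singleton'.2 ⟨b - a, by ring⟩)
              · refine Eq.trans ?_ hb
                exact Ideal.Quotient.eq.2 (Ideal.mem_span_singleton'.2 ⟨a - b, by ring⟩))
        exact (((Algebra.TensorProduct.cancelBaseChange R R' R'' R'' S).symm.trans
          (Algebra.TensorProduct.congr AlgEquiv.refl s)).trans (Algebra.TensorProduct.prodRight R' R'' R'' S₀ S₁)).trans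
          ((AlgEquiv.refl.prodCongr ε).trans εA)
    · push Not at hqf
      refine ⟨R, inferInstance, inferInstance, inferInstance, p, inferInstance, ⟨rfl⟩, 0,
        fun _ => PUnit, fun i => i.elim0, fun i => i.elim0, R ⊗[R] S, inferInstance, inferInstance, ?_,
        ⟨(AlgEquiv.ofBijective (AlgHom.snd R (∀ _ : Fin 0, PUnit.{u + 1}) (R ⊗[R] S))
          ⟨fun a b h => Prod.ext (funext fun i => i.elim0) h, fun b => ⟨(fun i => i.elim0, b), rfl⟩⟩).symm⟩,
        fun i => i.elim0, fun r _ hr hrq => ?_⟩
      · rw! [Algebra.ofId_self, Ideal.ResidueField.mapₐ_id]; exact Function.bijective_id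
      · let l := Algebra.TensorProduct.lid R S
        haveI := hrq
        haveI : (r.comap l.symm.toRingHom).IsPrime := inferInstance
        exact hqf (r.comap l.symm.toRingHom) inferInstance (by
          rw [Ideal.comap_comap, show l.symm.toRingHom.comp (algebraMap R S) = algebraMap R (R ⊗[R] S) from l.symm.toAlgHom.comp_algebraMap]
          exact hr) inferInstance

theorem closure_eq_top {R R' : Type u} [CommRing R] [CommRing R'] [Algebra R R'] (p : Ideal R) [p.IsPrime]
    (P : Ideal R') [P.IsPrime] [P.LiesOver p]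
    (H : Function.Bijective (Ideal.ResidueField.mapₐ p P (Algebra.ofId _ _) (P.over_def p))) :
    Subfield.closure (Set.range (algebraMap R P.ResidueField)) = ⊤ := by
  refine top_le_iff.1 fun x _ => ?_
  obtain ⟨x, rfl⟩ := H.2 x
  obtain ⟨a, b, -, rfl⟩ := IsFractionRing.div_surjective (R ⧸ p) x
  obtain ⟨a, rfl⟩ := Ideal.Quotient.mk_surjective a
  obtain ⟨b, rfl⟩ := Ideal.Quotient.mk_surjective b
  rw [map_div₀]
  refine div_mem (Subfield.subset_closure ⟨a, ?_⟩) (Subfield.subset_closure ⟨b, ?_⟩) <;>
    rw [← Ideal.Quotient.algebraMap_eq, ← IsScalarTower.algebraMap_apply, AlgHom.commutes]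

theorem main (R : Type u) [CommRing R]
    (S : Type u) [CommRing S] [Algebra R S] [Algebra.FiniteType R S] (p : Ideal R) [p.IsPrime] :
    ∃ (R' : Type u) (_ : CommRing R') (_ : Algebra R R') (_ : Algebra.Etale R R') (p' : Ideal R')
      (_ : p'.IsPrime) (_ : p'.LiesOver p) (n : ℕ) (A : Fin n → Type u) (_ : ∀ i, CommRing (A i))
      (_ : ∀ i, Algebra R' (A i)) (B : Type u) (_ : CommRing B) (_ : Algebra R' B),
      Subfield.closure (Set.range (algebraMap R p'.ResidueField)) = ⊤ ∧
      Nonempty ((R' ⊗[R] S) ≃ₐ[R'] ((∀ i, A i) × B)) ∧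
        (∀ i, Module.Finite R' (A i) ∧
          ∃! r : Ideal (A i), r.IsPrime ∧ r.comap (algebraMap R' (A i)) = p') ∧
        ∀ (q : Ideal B) [q.IsPrime], q.comap (algebraMap R' B) = p' →
          ¬ Algebra.QuasiFiniteAt R' q := by
  obtain ⟨R', _, _, _, P, _, _, n, A, _, _, B, _, _, h1, h2, h3, h4⟩ := exists_decomp R S p
  exact ⟨R', inferInstance, inferInstance, inferInstance, P, inferInstance, inferInstance, n, A, inferInstance,
    inferInstance, B, inferInstance, inferInstance, closure_eq_top p P h1, h2, h3, h4⟩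

end Groth.Agent.CAlgH.EtaleQFDecomp
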