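import Mathlib.RingTheory.Unramified.LocalStructure
import Mathlib.RingTheory.Smooth.Flat
import Mathlib.RingTheory.Flat.Localization
import Mathlib.RingTheory.LocalRing.ResidueField.Basic
import Mathlib.Algebra.Polynomial.Identities
import Mathlib.RingTheory.RingHom.Flat
import Mathlib.RingTheory.Flat.FaithfullyFlat.Algebra

/-! An étale local extension with trivial residue extension is trivial modulo powers of one element. -/

set_option autoImplicit false
universe u

open Polynomial IsLocalRing

namespace Groth.Agent.CAlgH.EtaleResidueTrivial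

variable {R : Type u} [CommRing R] [IsLocalRing R] {T : Type u} [CommRing T] [Algebra R T] [Algebra.Etale R T]
  (q : Ideal T) [q.IsPrime] (S : Type u) [CommRing S] [IsLocalRing S] [Algebra T S] [IsLocalization.AtPrime S q]
  [Algebra R S] [IsScalarTower R T S] [IsLocalHom (algebraMap R S)]

include q in
theorem exists_surjective (hres : Function.Surjective (IsLocalRing.ResidueField.map (algebraMap R S))) :
    ∃ t ∈ maximalIdeal R, ∀ y : S, ∃ r : R, y - algebraMap R S r ∈ Ideal.span {algebraMap R S t} := by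
  obtain ⟨f, hf, ⟨⟨P⟩⟩⟩ := Algebra.IsEtaleAt.exists_isStandardEtale (R := R) q
  let ψ : Localization.Away f →ₐ[R] S :=
    IsLocalization.liftAlgHom (M := Submonoid.powers f) (f := IsScalarTower.toAlgHom R T S) (by
      rintro ⟨_, n, rfl⟩
      rw [map_pow]
      exact (IsLocalization.map_units (M := q.primeCompl) S ⟨f, hf⟩).pow n)
  have hψ : ∀ c, ψ (algebraMap T _ c) = algebraMap T S c := fun c => IsLocalization.lift_eq _ c
  set x := ψ P.x with hx
  have hm : P.P.HasMap x := P.hasMap.map ψ
  obtain ⟨ā, ha⟩ := hres (residue S x)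
  obtain ⟨a, rfl⟩ := IsLocalRing.residue_surjective ā
  rw [IsLocalRing.ResidueField.map_residue] at ha
  have hxa : algebraMap R S a - x ∈ maximalIdeal S := Ideal.Quotient.eq.1 ha
  set t := P.f.eval a with ht
  obtain ⟨k, hk⟩ := Polynomial.binomExpansion (P.f.map (algebraMap R S)) x (algebraMap R S a - x)
  rw [add_sub_cancel, eval_map_algebraMap, eval_map_algebraMap, derivative_map, eval_map_algebraMap, hm.1,
    zero_add, aeval_algebraMap_apply_eq_algebraMap_eval, ← ht] at hk
  have hu : IsUnit (aeval x (derivative P.f) + k * (algebraMap R S a - x)) := by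
    by_contra h
    have h1 : aeval x (derivative P.f) ∈ maximalIdeal S := by
      have := sub_mem (show _ ∈ maximalIdeal S from h) (Ideal.mul_mem_left _ k hxa)
      rwa [add_sub_cancel_right] at this
    exact h1 (StandardEtalePair.HasMap.isUnit_derivative_f _ hm)
  have hk' : algebraMap R S t = (algebraMap R S a - x) * (aeval x (derivative P.f) + k * (algebraMap R S a - x)) := by
    rw [hk]; ring
  have htm : t ∈ maximalIdeal R := fun h => by
    have h' : algebraMap R S t ∈ maximalIdeal S := hk' ▸ Ideal.mul_mem_right _ _ hxa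
    exact h' (h.map _)
  set I := Ideal.span {algebraMap R S t}
  have hI : I ≤ maximalIdeal S := (Ideal.span_singleton_le_iff_mem _).2 (hk' ▸ Ideal.mul_mem_right _ _ hxa)
  let B := S ⧸ I
  let φ : R →+* B := (Ideal.Quotient.mk I).comp (algebraMap R S)
  have hloc : ∀ r, IsUnit (φ r) → IsUnit r := fun r hr => by
    by_contra h
    obtain ⟨b, hb⟩ := hr.exists_right_inv
    obtain ⟨b, rfl⟩ := Ideal.Quotient.mk_surjective b
    have hb' : algebraMap R S r * b - 1 ∈ maximalIdeal S := hI (Ideal.Quotient.eq.1 hb)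
    have hr' : algebraMap R S r ∈ maximalIdeal S := fun hu => h (isUnit_of_map_unit (algebraMap R S) r hu)
    have := sub_mem (Ideal.mul_mem_right b _ hr') hb'
    rw [sub_sub_cancel] at this
    exact this isUnit_one
  have hxB : Ideal.Quotient.mkₐ R I x = algebraMap R B a :=
    (Ideal.Quotient.eq.2 (Ideal.mem_span_singleton'.2 ⟨↑hu.unit⁻¹, by
      rw [hk', mul_comm, mul_assoc, IsUnit.mul_val_inv, mul_one]⟩)).symm
  have hpol : ∀ p : R[X], Ideal.Quotient.mkₐ R I (aeval x p) = φ (p.eval a) := fun p => by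
    rw [← aeval_algHom_apply, hxB, aeval_algebraMap_apply_eq_algebraMap_eval]
    rfl
  have hga : IsUnit (P.g.eval a) := hloc _ (by rw [← hpol]; exact hm.2.map _)
  have hT : ∀ z : Localization.Away f, ∃ r : R, Ideal.Quotient.mk I (ψ z) = φ r := fun z => by
    obtain ⟨p, n, hp⟩ := P.exists_mul_aeval_x_g_pow_eq_aeval_x z
    have h := congrArg (fun w => Ideal.Quotient.mkₐ R I w) (congrArg ψ hp)
    rw [map_mul, map_pow, ← aeval_algHom_apply, ← aeval_algHom_apply, ← hx] at h
    rw [map_mul, map_pow, hpol, hpol] at h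
    refine ⟨↑(hga.unit⁻¹) ^ n * p.eval a, ?_⟩
    refine ((hga.map φ).pow n).mul_left_injective ?_
    show _ * φ (eval a P.g) ^ n = _ * φ (eval a P.g) ^ n
    refine h.trans ?_
    rw [map_mul, map_pow, mul_right_comm, ← mul_pow, ← map_mul, IsUnit.val_inv_mul, map_one, one_pow, one_mul]
  refine ⟨t, htm, fun y => ?_⟩
  obtain ⟨⟨c, s⟩, hy⟩ := IsLocalization.surj q.primeCompl y
  obtain ⟨r₁, h₁⟩ := hT (algebraMap T _ c)
  obtain ⟨r₂, h₂⟩ := hT (algebraMap T _ (s : T))
  rw [hψ] at h₁ h₂
  have hr₂ : IsUnit r₂ := hloc _ (h₂ ▸ (IsLocalization.map_units S s).map _)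
  refine ⟨r₁ * ↑hr₂.unit⁻¹, Ideal.Quotient.eq.1 ?_⟩
  refine (hr₂.map φ).mul_left_injective ?_
  show Ideal.Quotient.mk I y * φ r₂ = φ (r₁ * ↑hr₂.unit⁻¹) * φ r₂
  rw [← map_mul φ, mul_assoc, IsUnit.val_inv_mul, mul_one, ← h₁, ← h₂, ← map_mul, hy]

include q in
theorem main (hres : Function.Surjective (IsLocalRing.ResidueField.map (algebraMap R S))) :
    ∃ t ∈ maximalIdeal R, ∀ n : ℕ, 1 ≤ n →
      Function.Bijective (Ideal.quotientMap ((Ideal.span {t ^ n}).map (algebraMap R S))
        (algebraMap R S) Ideal.le_comap_map) := by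
  obtain ⟨t, ht, hs⟩ := exists_surjective q S hres
  refine ⟨t, ht, fun n _ => ⟨Ideal.quotientMap_injective' ?_, fun z => ?_⟩⟩
  · haveI : Module.Flat T S := IsLocalization.flat S q.primeCompl
    haveI : Module.Flat R T := Algebra.Smooth.flat R T
    haveI : Module.Flat R S := Module.Flat.trans R T S
    haveI : Module.FaithfullyFlat R S := Module.FaithfullyFlat.of_flat_of_isLocalHom
    rw [Ideal.comap_map_eq_self_of_faithfullyFlat]
  · have key : ∀ (m : ℕ) (y : S), ∃ r : R, y - algebraMap R S r ∈ Ideal.span {algebraMap R S t ^ m} := by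
      intro m
      induction m with
      | zero => exact fun y => ⟨0, by rw [pow_zero, Ideal.span_singleton_one]; exact Submodule.mem_top⟩
      | succ m ih =>
        intro y
        obtain ⟨r, hr⟩ := hs y
        obtain ⟨w, hw⟩ := Ideal.mem_span_singleton'.1 hr
        obtain ⟨r', hr'⟩ := ih w
        obtain ⟨w', hw'⟩ := Ideal.mem_span_singleton'.1 hr'
        refine ⟨r + r' * t, Ideal.mem_span_singleton'.2 ⟨w', ?_⟩⟩
        rw [pow_succ, ← mul_assoc, hw', sub_mul, hw, map_add, map_mul]
        ring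
    obtain ⟨y, rfl⟩ := Ideal.Quotient.mk_surjective z
    obtain ⟨r, hr⟩ := key n y
    refine ⟨Ideal.Quotient.mk _ r, ?_⟩
    rw [Ideal.quotientMap_mk]
    refine (Ideal.Quotient.eq.2 ?_).symm
    rwa [Ideal.map_span, Set.image_singleton, map_pow]

end Groth.Agent.CAlgH.EtaleResidueTrivial
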