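import Groth.Agent.CAlgH.FibreRegularLocus
import Groth.Agent.EGA43.FibDepth.Loci
import Groth.Agent.CAlgH3.CMPolynomial
import Mathlib.RingTheory.Idempotents

/-!
# Decomposition of a flat family of Cohen-Macaulay rings by fibre dimension
-/

set_option autoImplicit false
set_option backward.isDefEq.respectTransparency false

universe u

open IsLocalRing TensorProduct PrimeSpectrum

namespace Groth.Agent.CAlgH.FibreDimPieces

open EGA43.FibDepth

attribute [local instance] Algebra.TensorProduct.rightAlgebra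

theorem cm_localized_quotient {C : Type u} [CommRing C] (I : Ideal C)
    [_root_.LocCoh.IsCohenMacaulayRing (C ⧸ I)] (Q : Ideal C) [Q.IsPrime] (hI : I ≤ Q) :
    _root_.LocCoh.IsCohenMacaulayLocalRing
      (Localization.AtPrime Q ⧸ I.map (algebraMap C (Localization.AtPrime Q))) := by
  have key : ∀ (qb : Ideal (C ⧸ I)) [qb.IsPrime] (Q' : Ideal C) [Q'.IsPrime],
      Q' = qb.comap (Ideal.Quotient.mk I) → _root_.LocCoh.IsCohenMacaulayLocalRing
        (Localization.AtPrime Q' ⧸ I.map (algebraMap C (Localization.AtPrime Q'))) := by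
    rintro qb _ Q' _ rfl
    obtain ⟨e, -⟩ := CAlgH3.exists_quotientLocalEquiv I qb
    haveI := _root_.LocCoh.IsCohenMacaulayRing.isCohenMacaulayLocalRing_localization (R := C ⧸ I) qb
    exact CAlgH3.isCohenMacaulayLocalRing_of_ringEquiv e.symm
  haveI : (Q.map (Ideal.Quotient.mk I)).IsPrime :=
    Ideal.map_isPrime_of_surjective Ideal.Quotient.mk_surjective (by rw [Ideal.mk_ker]; exact hI)
  refine key (Q.map (Ideal.Quotient.mk I)) Q ?_
  rw [Ideal.comap_map_of_surjective' _ Ideal.Quotient.mk_surjective, Ideal.mk_ker, sup_eq_left.2 hI]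

theorem supportDim_tensor_le_depth {P C : Type u} [CommRing P] [CommRing C] [Algebra P C] [IsNoetherianRing C]
    (J : Ideal P) [_root_.LocCoh.IsCohenMacaulayRing (C ⧸ J.map (algebraMap P C))]
    (Q : Ideal C) [Q.IsPrime] (hJ : J.map (algebraMap P C) ≤ Q) :
    Module.supportDim (Localization.AtPrime Q) (Localization.AtPrime Q ⊗[P] (P ⧸ J)) ≤
      ((_root_.LocCoh.depth (Localization.AtPrime Q) (Localization.AtPrime Q ⊗[P] (P ⧸ J)) : ℕ∞) : WithBot ℕ∞) := by
  let L := Localization.AtPrime Q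
  haveI : IsNoetherianRing L := IsLocalization.isNoetherianRing Q.primeCompl L inferInstance
  let K := (J.map (algebraMap P C)).map (algebraMap C L)
  haveI : IsLocalRing (L ⧸ K) :=
    CAlgH3.isLocalRing_quotient ((Ideal.map_mono hJ).trans
      (IsLocalization.AtPrime.map_eq_maximalIdeal Q L).le)
  haveI : _root_.LocCoh.IsCohenMacaulayLocalRing (L ⧸ K) := cm_localized_quotient _ Q hJ
  have hmap : J.map (algebraMap P L) = K := by
    simp only [K, Ideal.map_map, ← IsScalarTower.algebraMap_eq]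
  let e : L ⊗[P] (P ⧸ J) ≃ₗ[L] L ⧸ K :=
    (Algebra.TensorProduct.quotIdealMapEquivTensorQuot L J).symm.toLinearEquiv.trans
      (Submodule.quotEquivOfEq _ _ hmap)
  rw [Module.supportDim_eq_of_equiv e, CAlgH3.depth_congr e]
  exact ((CAlgH3.isCohenMacaulayLocalRing_quotient_iff _).1 inferInstance).le

theorem cm_quotient_idem {C : Type u} [CommRing C] [IsNoetherianRing C] [_root_.LocCoh.IsCohenMacaulayRing C]
    (e : C) (he : IsIdempotentElem e) : _root_.LocCoh.IsCohenMacaulayRing (C ⧸ Ideal.span {e}) where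
  isCohenMacaulayLocalRing_localization qb _ := by
    let q := qb.comap (Ideal.Quotient.mk (Ideal.span {e}))
    obtain ⟨e', -⟩ := CAlgH3.exists_quotientLocalEquiv (Ideal.span {e}) qb
    haveI := _root_.LocCoh.IsCohenMacaulayRing.isCohenMacaulayLocalRing_localization (R := C) q
    let L := Localization.AtPrime q
    have heq : e ∈ q := by
      show Ideal.Quotient.mk _ e ∈ qb
      rw [Ideal.Quotient.eq_zero_iff_mem.2 (Ideal.mem_span_singleton_self e)]
      exact zero_mem _
    have hu : IsUnit (algebraMap C L (1 - e)) := by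
      refine IsLocalization.map_units L (⟨1 - e, fun h => ?_⟩ : q.primeCompl)
      exact (inferInstance : q.IsPrime).ne_top ((Ideal.eq_top_iff_one q).2 (by
        simpa using q.add_mem h heq))
    have h0 : algebraMap C L e = 0 := by
      refine hu.mul_right_eq_zero.1 ?_
      rw [← map_mul, sub_mul, one_mul, he.eq, sub_self, map_zero]
    haveI : _root_.LocCoh.IsCohenMacaulayLocalRing (L ⧸ (Ideal.span {e}).map (algebraMap C L)) :=
      CAlgH3.isCohenMacaulayLocalRing_of_ringEquiv ((RingEquiv.quotientBot L).symm.trans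
        (Ideal.quotEquivOfEq (by rw [Ideal.map_span, Set.image_singleton, h0, Ideal.span_singleton_zero])))
    exact CAlgH3.isCohenMacaulayLocalRing_of_ringEquiv e'

/-- The fibre of a closed subscheme. -/
theorem fiber_quotient {A P : Type u} [CommRing A] [CommRing P] [Algebra A P] (J : Ideal P)
    (p : Ideal A) [p.IsPrime] :
    Nonempty ((p.Fiber P ⧸ J.map (algebraMap P (p.Fiber P))) ≃+* p.Fiber (P ⧸ J)) := by
  let f := Ideal.Quotient.mkₐ A J
  let φ : p.Fiber P →ₐ[A] p.Fiber (P ⧸ J) :=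
    Algebra.TensorProduct.map (AlgHom.id A p.ResidueField) f
  have hsurj : Function.Surjective φ :=
    TensorProduct.map_surjective Function.surjective_id Ideal.Quotient.mk_surjective
  have hinc : J.map (algebraMap P (p.Fiber P)) =
      J.map (Algebra.TensorProduct.includeRight : P →ₐ[A] p.Fiber P) := rfl
  have hker : RingHom.ker φ = J.map (algebraMap P (p.Fiber P)) := by
    rw [hinc]
    have hf : RingHom.ker f = J := Ideal.mk_ker
    conv_rhs => rw [← hf]
    exact Algebra.TensorProduct.lTensor_ker f Ideal.Quotient.mk_surjective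
  exact ⟨(Ideal.quotEquivOfEq hker.symm).trans (RingHom.quotientKerEquivOfSurjective hsurj)⟩

/-- Through a Cohen-Macaulay point all components have the same dimension. -/
theorem ringKrullDim_quotient_eq {k C : Type u} [Field k] [CommRing C] [Algebra k C] [Algebra.FiniteType k C]
    (Q : PrimeSpectrum C) [_root_.LocCoh.IsCohenMacaulayLocalRing (Localization.AtPrime Q.asIdeal)]
    (P : Ideal C) (hP : P ∈ minimalPrimes C) (hle : P ≤ Q.asIdeal) :
    ringKrullDim (C ⧸ P) = (Q.asIdeal.height : WithBot ℕ∞) + ringKrullDim (C ⧸ Q.asIdeal) := by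
  haveI := hP.1.1
  have key : ∀ (qb : Ideal (C ⧸ P)) [qb.IsPrime] (Q' : Ideal C) [Q'.IsPrime],
      Q' = qb.comap (Ideal.Quotient.mk P) → _root_.LocCoh.IsCohenMacaulayLocalRing (Localization.AtPrime Q') →
        ringKrullDim (C ⧸ P) = (Q'.height : WithBot ℕ∞) + ringKrullDim ((C ⧸ P) ⧸ qb) := by
    rintro qb _ Q' _ rfl hcm
    let q := qb.comap (Ideal.Quotient.mk P)
    let L := Localization.AtPrime q
    have hPq : P ≤ q := fun x hx => by
      show Ideal.Quotient.mk P x ∈ qb
      rw [Ideal.Quotient.eq_zero_iff_mem.2 hx]; exact zero_mem _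
    have hdisj : Disjoint (q.primeCompl : Set C) (P : Set C) :=
      Set.disjoint_left.2 fun a ha ha' => ha (hPq ha')
    haveI : (P.map (algebraMap C L)).IsPrime :=
      IsLocalization.isPrime_of_isPrime_disjoint q.primeCompl L P inferInstance hdisj
    obtain ⟨e, -⟩ := CAlgH3.exists_quotientLocalEquiv P qb
    have h0 : (P.map (algebraMap C L)).height = 0 := by
      rw [IsLocalization.height_map_of_disjoint q.primeCompl P hdisj]
      exact Ideal.height_eq_zero_iff.2 hP
    have h := CAlgH3.height_add_ringKrullDim_quotient (R := L) (P.map (algebraMap C L))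
    rw [h0, WithBot.coe_zero, zero_add, ringKrullDim_eq_of_ringEquiv e,
      IsLocalization.AtPrime.ringKrullDim_eq_height qb (Localization.AtPrime qb),
      IsLocalization.AtPrime.ringKrullDim_eq_height q L] at h
    rw [← DimLib.height_add_ringKrullDim_quotient (k := k) qb, h]
  haveI : (Q.asIdeal.map (Ideal.Quotient.mk P)).IsPrime :=
    Ideal.map_isPrime_of_surjective Ideal.Quotient.mk_surjective (by rw [Ideal.mk_ker]; exact hle)
  rw [key (Q.asIdeal.map (Ideal.Quotient.mk P)) Q.asIdeal ?_ inferInstance,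
    ringKrullDim_eq_of_ringEquiv (DoubleQuot.quotQuotEquivQuotOfLE hle)]
  rw [Ideal.comap_map_of_surjective' _ Ideal.Quotient.mk_surjective, Ideal.mk_ker, sup_eq_left.2 hle]

variable {A : Type u} [CommRing A]

section Poly

variable {P : Type u} [CommRing P] [Algebra A P] [Algebra.FinitePresentation A P] [Module.Flat A P]
  {N : ℕ} (hP : HasAffineSpaceFibres A P N) (J : Ideal P)

theorem mem_support_iff (q : PrimeSpectrum P) :
    q ∈ Module.support P (P ⧸ J) ↔ J ≤ q.asIdeal := by
  rw [Module.support_eq_zeroLocus, Ideal.annihilator_quotient]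
  exact Iff.rfl

include hP in
/-- In a Cohen-Macaulay fibre the associated points are minimal. -/
theorem minimal_of_mem_assSet (hJ : J.FG) [Module.Flat A (P ⧸ J)]
    (hCM : ∀ p : PrimeSpectrum A, _root_.LocCoh.IsCohenMacaulayRing (p.asIdeal.Fiber (P ⧸ J)))
    {w : PrimeSpectrum P} (hw : w ∈ assSet A (P ⧸ J)) :
    ∀ q', FibGen A q' w → q' ∈ Module.support P (P ⧸ J) → q' = w := by
  intro q' hgen hq'
  by_contra hne
  haveI : Module.FinitePresentation P (P ⧸ J) :=
    Module.finitePresentation_of_surjective J.mkQ J.mkQ_surjective (by rwa [Submodule.ker_mkQ])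
  let p := w.asIdeal.comap (algebraMap A P)
  haveI := isRegularRing_fiber hP p
  obtain ⟨Q, hQ⟩ := exists_prime_over (A := A) (p := p) (p.Fiber P) w rfl
  let L := Localization.AtPrime Q.asIdeal
  let I := J.map (algebraMap P (p.Fiber P))
  have hIQ : I ≤ Q.asIdeal := Ideal.map_le_iff_le_comap.2 fun x hx =>
    (congrArg PrimeSpectrum.asIdeal hQ).ge ((mem_support_iff J w).1 hw.1 hx)
  haveI := hCM ⟨p, inferInstance⟩
  haveI : _root_.LocCoh.IsCohenMacaulayRing (p.Fiber P ⧸ I) := by
    obtain ⟨e⟩ := fiber_quotient J p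
    exact CAlgH3.isCohenMacaulayRing_of_ringEquiv e.symm
  have hle := supportDim_tensor_le_depth (C := p.Fiber P) J Q.asIdeal hIQ
  have := (supportDim_le_depth_iff (p := p) hP (heightFormula_fiber hP p) (M := P ⧸ J) (Q := Q)
    (by rw [hQ]; exact hw.1)).1 hle q' (by rw [hQ]; exact hgen) hq'
  rw [hQ, hw.2, Nat.cast_le] at this
  have := hgen.trd_lt hP hne
  omega

/-- Two minimal points of a Cohen-Macaulay fibre below one point have equal dimension. -/
theorem trd_eq_of_minimal (hCM : ∀ p : PrimeSpectrum A, _root_.LocCoh.IsCohenMacaulayRing (p.asIdeal.Fiber (P ⧸ J)))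
    {x w w' : PrimeSpectrum P} (hw : FibGen A w x) (hw' : FibGen A w' x)
    (hws : w ∈ Module.support P (P ⧸ J)) (hws' : w' ∈ Module.support P (P ⧸ J))
    (hmin : ∀ q', FibGen A q' w → q' ∈ Module.support P (P ⧸ J) → q' = w)
    (hmin' : ∀ q', FibGen A q' w' → q' ∈ Module.support P (P ⧸ J) → q' = w') :
    trd A w = trd A w' := by
  let mk := Ideal.Quotient.mk J
  let p := x.asIdeal.comap (algebraMap A P)
  let D := p.Fiber (P ⧸ J)
  haveI : Algebra.FiniteType A (P ⧸ J) :=
    Algebra.FiniteType.of_surjective (Ideal.Quotient.mkₐ A J) Ideal.Quotient.mk_surjective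
  haveI : Algebra.FiniteType p.ResidueField D := finiteType_fibre (A := A) (R := P ⧸ J) p D
  have lift : ∀ z : PrimeSpectrum P, FibGen A z x → z ∈ Module.support P (P ⧸ J) →
      ∃ Z : PrimeSpectrum D, (comap (algebraMap (P ⧸ J) D) Z).comap mk = z := by
    intro z hz hzs
    rw [mem_support_iff] at hzs
    haveI : (z.asIdeal.map mk).IsPrime :=
      Ideal.map_isPrime_of_surjective Ideal.Quotient.mk_surjective (by rw [Ideal.mk_ker]; exact hzs)
    have hc : (z.asIdeal.map mk).comap mk = z.asIdeal := by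
      rw [Ideal.comap_map_of_surjective' _ Ideal.Quotient.mk_surjective, Ideal.mk_ker, sup_eq_left.2 hzs]
    obtain ⟨Z, hZ⟩ := exists_prime_over (A := A) (p := p) D
      (⟨z.asIdeal.map mk, inferInstance⟩ : PrimeSpectrum (P ⧸ J)) (by
        show p = ((z.asIdeal.map mk).comap mk).comap (algebraMap A P)
        rw [hc]; exact hz.2.symm)
    exact ⟨Z, by rw [hZ]; exact PrimeSpectrum.ext hc⟩
  have htrd : ∀ Z : PrimeSpectrum D,
      ringKrullDim (D ⧸ Z.asIdeal) = (trd A ((comap (algebraMap (P ⧸ J) D) Z).comap mk) : WithBot ℕ∞) := by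
    intro Z
    rw [ringKrullDim_quotient_eq_trd (R := P ⧸ J) p Z]
    congr 1
    exact (trd_comap_of_surjectiveOnStalks (Ideal.Quotient.mkₐ A J)
      (RingHom.surjectiveOnStalks_of_surjective Ideal.Quotient.mk_surjective) _).symm
  obtain ⟨X, hX⟩ := lift x (FibGen.refl x) (Module.mem_support_mono hw.1 hws)
  have hmem : ∀ Z : PrimeSpectrum D, (comap (algebraMap (P ⧸ J) D) Z).comap mk ∈ Module.support P (P ⧸ J) :=
    fun Z => (mem_support_iff J _).2 fun a ha => by
      show algebraMap (P ⧸ J) D (mk a) ∈ Z.asIdeal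
      rw [show mk a = 0 from Ideal.Quotient.eq_zero_iff_mem.2 ha, map_zero]
      exact zero_mem _
  have hmk : ∀ {a b : PrimeSpectrum (P ⧸ J)}, (a.comap mk).asIdeal ≤ (b.comap mk).asIdeal → a.asIdeal ≤ b.asIdeal :=
    fun {a b} h => by
      rw [← Ideal.map_comap_of_surjective mk Ideal.Quotient.mk_surjective a.asIdeal,
        ← Ideal.map_comap_of_surjective mk Ideal.Quotient.mk_surjective b.asIdeal]
      exact Ideal.map_mono h
  have hcomp : ∀ (z : PrimeSpectrum P) (Z : PrimeSpectrum D), FibGen A z x →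
      (comap (algebraMap (P ⧸ J) D) Z).comap mk = z → Z.asIdeal ≤ X.asIdeal := fun z Z hz hZ =>
    le_of_comap_le (R := P ⧸ J) p (hmk (by rw [hZ, hX]; exact hz.1))
  have hminimal : ∀ (z : PrimeSpectrum P) (Z : PrimeSpectrum D), FibGen A z x →
      (comap (algebraMap (P ⧸ J) D) Z).comap mk = z →
      (∀ q', FibGen A q' z → q' ∈ Module.support P (P ⧸ J) → q' = z) → Z.asIdeal ∈ minimalPrimes D := by
    intro z Z hz hZ hm
    refine ⟨⟨Z.isPrime, bot_le⟩, fun y hy hyZ => ?_⟩
    let Y : PrimeSpectrum D := ⟨y, hy.1⟩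
    have h := hm _ ⟨?_, ?_⟩ (hmem Y)
    · exact le_of_comap_le (R := P ⧸ J) (Q' := Z) (Q := Y) p (hmk (by rw [hZ, h]))
    · rw [← hZ]
      exact Ideal.comap_mono (Ideal.comap_mono hyZ)
    · rw [← hZ]
      exact ((comap_algebraMap_eq (R := P ⧸ J) p Y).symm).trans (comap_algebraMap_eq (R := P ⧸ J) p Z)
  obtain ⟨W, hW⟩ := lift w hw hws
  obtain ⟨W', hW'⟩ := lift w' hw' hws'
  haveI := hCM ⟨p, inferInstance⟩
  haveI : _root_.LocCoh.IsCohenMacaulayLocalRing (Localization.AtPrime X.asIdeal) :=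
    _root_.LocCoh.IsCohenMacaulayRing.isCohenMacaulayLocalRing_localization (R := D) X.asIdeal
  have h1 := ringKrullDim_quotient_eq (k := p.ResidueField) X _ (hminimal w W hw hW hmin) (hcomp w W hw hW)
  have h2 := ringKrullDim_quotient_eq (k := p.ResidueField) X _ (hminimal w' W' hw' hW' hmin') (hcomp w' W' hw' hW')
  rw [← h2, htrd, htrd, hW, hW'] at h1
  exact_mod_cast h1

end Poly

/-- Idempotents cutting out the pieces. -/
theorem exists_idempotents {R : Type u} [CommRing R] [Algebra A R] [Algebra.FinitePresentation A R]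
    [Module.Flat A R] {N : ℕ} (hP : HasAffineSpaceFibres A R N) (J : Ideal R) (hJ : J.FG)
    [Module.Flat A (R ⧸ J)]
    (hCM : ∀ p : PrimeSpectrum A, _root_.LocCoh.IsCohenMacaulayRing (p.asIdeal.Fiber (R ⧸ J))) :
    ∃ e : Fin (N + 1) → R ⧸ J, CompleteOrthogonalIdempotents e ∧
      ∀ (d : Fin (N + 1)) (z : PrimeSpectrum (R ⧸ J)), e d ∉ z.asIdeal →
        (∀ y, FibGen A y z → y = z) → trd A z = (d : ℕ) := by
  classical
  haveI : Module.FinitePresentation R (R ⧸ J) :=
    Module.finitePresentation_of_surjective J.mkQ J.mkQ_surjective (by rwa [Submodule.ker_mkQ])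
  let T := R ⧸ J
  let mk := Ideal.Quotient.mk J
  let W : Fin (N + 1) → Set (PrimeSpectrum T) := fun d =>
    PrimeSpectrum.comap mk ⁻¹' assLocus A T {(d : ℕ)}
  have hWopen : ∀ d, IsOpen (W d) := fun d =>
    (isOpen_assLocus (M := T) hP {(d : ℕ)}).preimage (PrimeSpectrum.continuous_comap mk)
  have hsupp : ∀ q : PrimeSpectrum T, q.comap mk ∈ Module.support R T := fun q =>
    (mem_support_iff J _).2 fun a ha => by
      show mk a ∈ q.asIdeal
      rw [show mk a = 0 from Ideal.Quotient.eq_zero_iff_mem.2 ha]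
      exact zero_mem _
  have hex : ∀ q : PrimeSpectrum T, ∃ d, q ∈ W d := by
    intro q
    obtain ⟨w, hwq, hws, hwmin⟩ := exists_minimal_fibGen hP (hsupp q)
    obtain ⟨r, -, h1, h2⟩ := exists_rect_eq hP hws
    refine ⟨⟨trd A w, by omega⟩, fun w' hw'q hass => ?_⟩
    exact trd_eq_of_minimal J hCM hw'q hwq hass.1 hws (minimal_of_mem_assSet hP J hJ hCM hass) hwmin
  have huniq : ∀ q d d', q ∈ W d → q ∈ W d' → d = d' := by
    intro q d d' h h'
    obtain ⟨w, hwq, hws, hwmin⟩ := exists_minimal_fibGen hP (hsupp q)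
    have hass := mem_assSet_of_minimal hP hws hwmin
    exact Fin.ext ((h w hwq hass).symm.trans (h' w hwq hass))
  have hclopen : ∀ d, IsClopen (W d) := by
    intro d
    refine ⟨?_, hWopen d⟩
    rw [← isOpen_compl_iff]
    have : (W d)ᶜ = ⋃ d' ∈ {d' : Fin (N + 1) | d' ≠ d}, W d' := by
      ext q
      simp only [Set.mem_compl_iff, Set.mem_iUnion, Set.mem_ofPred_eq, exists_prop]
      refine ⟨fun h => ?_, fun ⟨d', hne, h'⟩ h => hne (huniq q d' d h' h)⟩
      obtain ⟨d', h'⟩ := hex q
      exact ⟨d', fun e => h (e ▸ h'), h'⟩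
    rw [this]
    exact isOpen_biUnion fun d' _ => hWopen d'
  choose e he heW using fun d => PrimeSpectrum.isClopen_iff.1 (hclopen d)
  have hmem : ∀ d (q : PrimeSpectrum T), q ∈ W d ↔ e d ∉ q.asIdeal := fun d q => by rw [heW d]; rfl
  have horth : OrthogonalIdempotents e := ⟨he, fun i j hij => by
    have hnil : IsNilpotent (e i * e j) := by
      rw [nilpotent_iff_mem_prime]
      intro q hq
      by_contra hn
      exact hij (huniq ⟨q, hq⟩ i j ((hmem i ⟨q, hq⟩).2 fun h => hn (q.mul_mem_right _ h))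
        ((hmem j ⟨q, hq⟩).2 fun h => hn (q.mul_mem_left _ h)))
    exact (IsIdempotentElem.mul (he i) (he j)).eq_zero_of_isNilpotent hnil⟩
  refine ⟨e, CompleteOrthogonalIdempotents.of_prod_one_sub horth ?_, fun d z hz hmin => ?_⟩
  · have hidem : IsIdempotentElem (∏ i, (1 - e i)) := by
      rw [IsIdempotentElem, ← Finset.prod_mul_distrib]
      exact Finset.prod_congr rfl fun i _ => (he i).one_sub.eq
    refine hidem.eq_zero_of_isNilpotent ?_
    rw [nilpotent_iff_mem_prime]
    intro q hq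
    obtain ⟨d, hd⟩ := hex ⟨q, hq⟩
    refine Ideal.mem_of_dvd q (Finset.dvd_prod_of_mem _ (Finset.mem_univ d)) ?_
    exact (hq.mem_or_mem (show e d * (1 - e d) ∈ q by
      rw [mul_sub, mul_one, (he d).eq, sub_self]; exact zero_mem _)).resolve_left ((hmem d ⟨q, hq⟩).1 hd)
  · have hmin' : ∀ q', FibGen A q' (z.comap mk) → q' ∈ Module.support R T → q' = z.comap mk := by
      intro q' hq' hq's
      rw [mem_support_iff] at hq's
      haveI : (q'.asIdeal.map mk).IsPrime :=
        Ideal.map_isPrime_of_surjective Ideal.Quotient.mk_surjective (by rw [Ideal.mk_ker]; exact hq's)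
      have hy : (⟨q'.asIdeal.map mk, inferInstance⟩ : PrimeSpectrum T).comap mk = q' := PrimeSpectrum.ext (by
        show Ideal.comap _ (Ideal.map _ _) = _
        rw [Ideal.comap_map_of_surjective' _ Ideal.Quotient.mk_surjective, Ideal.mk_ker, sup_eq_left.2 hq's])
      have := hmin ⟨q'.asIdeal.map mk, inferInstance⟩ ⟨Ideal.map_le_iff_le_comap.2 hq'.1, by
        have h := hq'.2
        rw [← hy] at h
        exact h⟩
      rw [← hy, this]
    exact (trd_comap_of_surjectiveOnStalks (Ideal.Quotient.mkₐ A J)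
      (RingHom.surjectiveOnStalks_of_surjective Ideal.Quotient.mk_surjective) z).symm.trans
      ((hmem d z).2 hz _ (FibGen.refl _) (mem_assSet_of_minimal hP (hsupp z) hmin'))

/-- The properties of a piece. -/
theorem piece {T : Type u} [CommRing T] [Algebra A T] [Module.Flat A T] [Algebra.FinitePresentation A T]
    (hCM : ∀ p : PrimeSpectrum A, _root_.LocCoh.IsCohenMacaulayRing (p.asIdeal.Fiber T))
    (e : T) (he : IsIdempotentElem e) (d : ℕ)
    (hd : ∀ z : PrimeSpectrum T, e ∉ z.asIdeal → (∀ y, FibGen A y z → y = z) → trd A z = d) :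
    Module.Flat A (T ⧸ Ideal.span {1 - e}) ∧ Algebra.FinitePresentation A (T ⧸ Ideal.span {1 - e}) ∧
      (∀ p : PrimeSpectrum A, _root_.LocCoh.IsCohenMacaulayRing (p.asIdeal.Fiber (T ⧸ Ideal.span {1 - e}))) ∧
      ∀ (p : PrimeSpectrum A), ∀ P ∈ minimalPrimes (p.asIdeal.Fiber (T ⧸ Ideal.span {1 - e})),
        ringKrullDim (p.asIdeal.Fiber (T ⧸ Ideal.span {1 - e}) ⧸ P) = (d : WithBot ℕ∞) := by
  let Td := T ⧸ Ideal.span {1 - e}
  haveI : IsLocalization.Away e Td := IsLocalization.away_of_isIdempotentElem he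
    Ideal.mk_ker Ideal.Quotient.mk_surjective
  haveI : Module.Flat T Td := IsLocalization.flat Td (Submonoid.powers e)
  refine ⟨Module.Flat.trans A T Td, Algebra.FinitePresentation.quotient ⟨{1 - e}, by simp⟩,
    fun p => ?_, fun p P hPmin => ?_⟩
  · haveI := hCM p
    haveI : Algebra.FiniteType p.asIdeal.ResidueField (p.asIdeal.Fiber T) :=
      finiteType_fibre (A := A) (R := T) p.asIdeal (p.asIdeal.Fiber T)
    haveI := Algebra.FiniteType.isNoetherianRing p.asIdeal.ResidueField (p.asIdeal.Fiber T)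
    obtain ⟨eq⟩ := fiber_quotient (A := A) (Ideal.span {1 - e}) p.asIdeal
    haveI := cm_quotient_idem _ (he.one_sub.map (algebraMap T (p.asIdeal.Fiber T)))
    haveI : _root_.LocCoh.IsCohenMacaulayRing
        (p.asIdeal.Fiber T ⧸ (Ideal.span {1 - e}).map (algebraMap T (p.asIdeal.Fiber T))) :=
      CAlgH3.isCohenMacaulayRing_of_ringEquiv
        (R := p.asIdeal.Fiber T ⧸ Ideal.span {algebraMap T (p.asIdeal.Fiber T) (1 - e)})
        (Ideal.quotEquivOfEq (by rw [Ideal.map_span, Set.image_singleton]))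
    exact CAlgH3.isCohenMacaulayRing_of_ringEquiv (R := p.asIdeal.Fiber T ⧸ (Ideal.span {1 - e}).map (algebraMap T (p.asIdeal.Fiber T)))
      (S := p.asIdeal.Fiber (T ⧸ Ideal.span {1 - e})) eq
  · let D := p.asIdeal.Fiber Td
    let Z : PrimeSpectrum D := ⟨P, hPmin.1.1⟩
    let z := comap (algebraMap Td D) Z
    let zT := z.comap (Ideal.Quotient.mk (Ideal.span {1 - e}))
    have hzT : e ∉ zT.asIdeal := fun h => zT.isPrime.ne_top ((Ideal.eq_top_iff_one _).2 (by
      have h1 : 1 - e ∈ zT.asIdeal := by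
        show Ideal.Quotient.mk _ _ ∈ z.asIdeal
        rw [Ideal.Quotient.eq_zero_iff_mem.2 (Ideal.mem_span_singleton_self _)]
        exact zero_mem _
      simpa using zT.asIdeal.add_mem h h1))
    have hmin : ∀ y, FibGen A y zT → y = zT := by
      intro y hy
      have h1e : Ideal.span {1 - e} ≤ y.asIdeal := by
        refine (Ideal.span_singleton_le_iff_mem _).2 ((y.isPrime.mem_or_mem (show e * (1 - e) ∈ y.asIdeal by
          rw [mul_sub, mul_one, he.eq, sub_self]; exact zero_mem _)).resolve_left fun h => hzT (hy.1 h))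
      haveI : (y.asIdeal.map (Ideal.Quotient.mk (Ideal.span {1 - e}))).IsPrime :=
        Ideal.map_isPrime_of_surjective Ideal.Quotient.mk_surjective (by rw [Ideal.mk_ker]; exact h1e)
      let y' : PrimeSpectrum Td := ⟨y.asIdeal.map (Ideal.Quotient.mk _), inferInstance⟩
      have hy' : y'.comap (Ideal.Quotient.mk (Ideal.span {1 - e})) = y := PrimeSpectrum.ext (by
        show Ideal.comap _ (Ideal.map _ _) = _
        rw [Ideal.comap_map_of_surjective' _ Ideal.Quotient.mk_surjective, Ideal.mk_ker, sup_eq_left.2 h1e])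
      have hp : p.asIdeal = y'.asIdeal.comap (algebraMap A Td) := by
        have h := hy.2
        rw [← hy'] at h
        exact (comap_algebraMap_eq (R := Td) p.asIdeal Z).trans h.symm
      obtain ⟨Y, hY⟩ := exists_prime_over (A := A) (p := p.asIdeal) D y' hp
      have hYZ : Y.asIdeal ≤ Z.asIdeal := le_of_comap_le (R := Td) p.asIdeal (by
        rw [hY]
        exact Ideal.map_le_iff_le_comap.2 hy.1)
      have : Y = Z := PrimeSpectrum.ext (le_antisymm hYZ (hPmin.2 ⟨Y.isPrime, bot_le⟩ hYZ))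
      rw [← hy', ← hY, this]
    rw [show P = Z.asIdeal from rfl, ringKrullDim_quotient_eq_trd (R := Td) p.asIdeal Z, ← hd zT hzT hmin]
    exact_mod_cast (trd_comap_of_surjectiveOnStalks (Ideal.Quotient.mkₐ A (Ideal.span {1 - e}))
      (RingHom.surjectiveOnStalks_of_surjective Ideal.Quotient.mk_surjective) z).symm

/-- The decomposition. -/
theorem exists_decomposition (S : Type u) [CommRing S] [Algebra A S] [Module.Flat A S]
    [Algebra.FinitePresentation A S]
    (hCM : ∀ p : PrimeSpectrum A, _root_.LocCoh.IsCohenMacaulayRing (p.asIdeal.Fiber S)) :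
    ∃ (N : ℕ) (T : Fin (N + 1) → Type u) (_ : ∀ d, CommRing (T d)) (_ : ∀ d, Algebra A (T d)),
      Nonempty (S ≃ₐ[A] ((d : Fin (N + 1)) → T d)) ∧
        ∀ d : Fin (N + 1), Module.Flat A (T d) ∧ Algebra.FinitePresentation A (T d) ∧
          (∀ p : PrimeSpectrum A, _root_.LocCoh.IsCohenMacaulayRing (p.asIdeal.Fiber (T d))) ∧
          ∀ (p : PrimeSpectrum A), ∀ P ∈ minimalPrimes (p.asIdeal.Fiber (T d)),
            ringKrullDim (p.asIdeal.Fiber (T d) ⧸ P) = ((d : ℕ) : WithBot ℕ∞) := by
  obtain ⟨N, f, hf, hker⟩ := Algebra.FinitePresentation.out (R := A) (A := S)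
  let ψ : (MvPolynomial (Fin N) A ⧸ RingHom.ker f) ≃ₐ[A] S := Ideal.quotientKerAlgEquivOfSurjective hf
  haveI : Module.Flat A (MvPolynomial (Fin N) A ⧸ RingHom.ker f) := Module.Flat.of_linearEquiv ψ.toLinearEquiv
  have hCM' : ∀ p : PrimeSpectrum A,
      _root_.LocCoh.IsCohenMacaulayRing (p.asIdeal.Fiber (MvPolynomial (Fin N) A ⧸ RingHom.ker f)) := fun p => by
    haveI := hCM p
    exact CAlgH3.isCohenMacaulayRing_of_ringEquiv (R := p.asIdeal.Fiber S)
      (Algebra.TensorProduct.congr (AlgEquiv.refl : p.asIdeal.ResidueField ≃ₐ[A] p.asIdeal.ResidueField)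
        ψ.symm).toRingEquiv
  obtain ⟨e, he, hed⟩ := exists_idempotents (hasAffineSpaceFibres_mvPolynomial A N) (RingHom.ker f) hker hCM'
  let e' : Fin (N + 1) → S := fun d => ψ (e d)
  have he' : CompleteOrthogonalIdempotents e' := he.map ψ.toRingEquiv.toRingHom
  let g : S →ₐ[A] ((d : Fin (N + 1)) → S ⧸ Ideal.span {1 - e' d}) :=
    Pi.algHom A _ fun d => Ideal.Quotient.mkₐ A _
  refine ⟨N, fun d => S ⧸ Ideal.span {1 - e' d}, inferInstance, inferInstance,
    ⟨AlgEquiv.ofBijective g he'.bijective_pi⟩, fun d => piece hCM (e' d) (he'.idem d) d fun z hz hmin => ?_⟩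
  let z' := z.comap ψ.toAlgHom.toRingHom
  have hp : ∀ y : PrimeSpectrum S, (y.comap ψ.toAlgHom.toRingHom).asIdeal.comap
      (algebraMap A (MvPolynomial (Fin N) A ⧸ RingHom.ker f)) = y.asIdeal.comap (algebraMap A S) := fun y => by
    show Ideal.comap _ (Ideal.comap _ _) = _
    rw [Ideal.comap_comap, AlgHom.toRingHom_eq_coe, AlgHom.comp_algebraMap]
  have hval := hed d z' hz fun y hy => ?_
  · rw [← hval]
    exact (trd_comap_of_surjectiveOnStalks ψ.toAlgHom
      (RingHom.surjectiveOnStalks_of_surjective ψ.surjective) z).symm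
  · have hinv : (y.comap ψ.symm.toAlgHom.toRingHom).comap ψ.toAlgHom.toRingHom = y :=
      PrimeSpectrum.ext (Ideal.ext fun a => by
        show ψ.symm (ψ a) ∈ y.asIdeal ↔ _
        rw [ψ.symm_apply_apply])
    rw [← hinv] at hy ⊢
    rw [hmin (y.comap ψ.symm.toAlgHom.toRingHom) ⟨fun a ha => ?_, by rw [← hp, ← hp]; exact hy.2⟩]
    have := hy.1 (show ψ.symm a ∈ ((y.comap ψ.symm.toAlgHom.toRingHom).comap ψ.toAlgHom.toRingHom).asIdeal by
      show ψ.symm (ψ (ψ.symm a)) ∈ y.asIdeal
      rw [ψ.symm_apply_apply]; exact ha)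
    show a ∈ z.asIdeal
    have h' : ψ (ψ.symm a) ∈ z.asIdeal := this
    rwa [ψ.apply_symm_apply] at h'

end Groth.Agent.CAlgH.FibreDimPieces
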