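import Groth.Agent.CAlgMisc2.ExactModMax
import Groth.Agent.EGA43.FlatOpen
import Groth.Prelude.Def_EGA4b
import Mathlib

/-!
# Openness of fibrewise exactness of a complex of free modules
-/

set_option autoImplicit false
set_option backward.isDefEq.respectTransparency false

universe u

open IsLocalRing Function

namespace Groth.Agent.CAlgH.FibreExactLocus

/-- A submodule with flat quotient is pure. -/
theorem mem_smul_of_flat_quotient {R D : Type u} [CommRing R] [AddCommGroup D] [Module R D] (I : Ideal R)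
    (N : Submodule R D) [Module.Flat R (D ⧸ N)] (x : D) (hx : x ∈ I • (⊤ : Submodule R D)) (hxN : x ∈ N) :
    x ∈ I • N := by
  classical
  obtain ⟨k, r, hr, d, hxd⟩ : ∃ (k : ℕ) (r : Fin k → R), (∀ j, r j ∈ I) ∧ ∃ d : Fin k → D,
      ∑ j, r j • d j = x := by
    clear hxN
    induction hx using Submodule.smul_induction_on' with
    | smul a ha b _ => exact ⟨1, fun _ => a, fun _ => ha, fun _ => b, by simp⟩
    | add a _ b _ iha ihb =>
      obtain ⟨k, r, hr, d, rfl⟩ := iha
      obtain ⟨l, s, hs, c, rfl⟩ := ihb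
      refine ⟨k + l, Fin.append r s, fun j => ?_, Fin.append d c, by simp [Fin.sum_univ_add]⟩
      induction j using Fin.addCases with
      | left j => simpa using hr j
      | right j => simpa using hs j
  subst hxd
  have h0 : ∑ j, r j • (N.mkQ (d j)) = 0 := by
    have : N.mkQ (∑ j, r j • d j) = 0 := (Submodule.Quotient.mk_eq_zero _).2 hxN
    simpa only [map_sum, map_smul] using this
  obtain ⟨l, a, y, hy, ha⟩ := Module.Flat.isTrivialRelation_of_sum_smul_eq_zero h0
  choose Y hY using fun t => N.mkQ_surjective (y t)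
  have heq : ∑ j, r j • d j = ∑ j, r j • (d j - ∑ t, a j t • Y t) := by
    simp only [smul_sub, Finset.sum_sub_distrib, Finset.smul_sum, smul_smul]
    rw [Finset.sum_comm (f := fun j t => (r j * a j t) • Y t)]
    simp only [← Finset.sum_smul, ha, zero_smul, Finset.sum_const_zero, sub_zero]
  rw [heq]
  refine Submodule.sum_mem _ fun j _ => Submodule.smul_mem_smul (hr j) ?_
  rw [← Submodule.Quotient.mk_eq_zero, ← Submodule.mkQ_apply, map_sub, map_sum]
  simp only [map_smul, hY, hy j, sub_self]

theorem mem_smul_top_iff {L : Type u} [CommRing L] (P : Ideal L) {n : ℕ} (x : Fin n → L) :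
    x ∈ P • (⊤ : Submodule L (Fin n → L)) ↔ ∀ k, x k ∈ P := by
  classical
  constructor
  · intro hx k
    induction hx using Submodule.smul_induction_on' with
    | smul a ha b _ => exact P.mul_mem_right _ ha
    | add a _ b _ iha ihb => exact P.add_mem iha ihb
  · intro h
    rw [← Finset.univ_sum_single x]
    refine Submodule.sum_mem _ fun k _ => ?_
    rw [show (Pi.single k (x k) : Fin n → L) = x k • Pi.single k 1 by rw [← Pi.single_smul, smul_eq_mul, mul_one]]
    exact Submodule.smul_mem_smul (h k) Submodule.mem_top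

/-- Exactness modulo `P` in matrix language. -/
theorem ker_eq_range_mk_iff {L : Type u} [CommRing L] (P : Ideal L) {a b c : ℕ}
    (M : Matrix (Fin a) (Fin b) L) (N : Matrix (Fin b) (Fin c) L) (hMN : M * N = 0) :
    LinearMap.ker (Matrix.mulVecLin (M.map (Ideal.Quotient.mk P))) =
        LinearMap.range (Matrix.mulVecLin (N.map (Ideal.Quotient.mk P))) ↔
      ∀ x : Fin b → L, M.mulVecLin x ∈ P • (⊤ : Submodule L (Fin a → L)) →
        x ∈ LinearMap.range N.mulVecLin ⊔ P • (⊤ : Submodule L (Fin b → L)) := by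
  let π := Ideal.Quotient.mk P
  have hcomm : ∀ {m n : ℕ} (X : Matrix (Fin m) (Fin n) L) (v : Fin n → L),
      (X.map π).mulVecLin (π ∘ v) = π ∘ X.mulVecLin v := fun X v => funext fun k => by
    simp only [Matrix.mulVecLin_apply, Function.comp_apply, RingHom.map_mulVec]
  have hker : ∀ {n : ℕ} (v : Fin n → L), π ∘ v = 0 ↔ v ∈ P • (⊤ : Submodule L (Fin n → L)) := fun v => by
    rw [mem_smul_top_iff, funext_iff]
    exact forall_congr' fun k => Ideal.Quotient.eq_zero_iff_mem
  have hlift : ∀ {n : ℕ} (z : Fin n → L ⧸ P), ∃ v : Fin n → L, π ∘ v = z := fun z => by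
    choose v hv using fun k => Ideal.Quotient.mk_surjective (z k)
    exact ⟨v, funext hv⟩
  constructor
  · intro h x hx
    obtain ⟨z, hz⟩ : π ∘ x ∈ LinearMap.range (Matrix.mulVecLin (N.map π)) := by
      rw [← h, LinearMap.mem_ker, hcomm, hker]
      exact hx
    obtain ⟨v, rfl⟩ := hlift z
    rw [hcomm] at hz
    refine Submodule.mem_sup.2 ⟨_, LinearMap.mem_range_self _ v, x - N.mulVecLin v, ?_, add_sub_cancel _ _⟩
    rw [← hker]
    funext k
    have := congrFun hz k
    simp only [Function.comp_apply, Pi.sub_apply, map_sub, Pi.zero_apply] at this ⊢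
    rw [this, sub_self]
  · intro h
    refine le_antisymm (fun z hz => ?_) ?_
    · obtain ⟨x, rfl⟩ := hlift z
      rw [LinearMap.mem_ker, hcomm, hker] at hz
      obtain ⟨_, ⟨v, rfl⟩, y, hy, hxy⟩ := Submodule.mem_sup.1 (h x hz)
      refine ⟨π ∘ v, ?_⟩
      rw [hcomm, ← hxy]
      funext k
      have := congrFun ((hker y).2 hy) k
      simp only [Function.comp_apply, Pi.add_apply, map_add, Pi.zero_apply] at this ⊢
      rw [this, add_zero]
    · rintro _ ⟨z, rfl⟩
      obtain ⟨v, rfl⟩ := hlift z
      rw [LinearMap.mem_ker, hcomm, hcomm]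
      have : M.mulVecLin (N.mulVecLin v) = 0 := by
        rw [← LinearMap.comp_apply, ← Matrix.mulVecLin_mul, hMN, Matrix.mulVecLin_zero, LinearMap.zero_apply]
      rw [this]
      funext k
      simp

section Local

variable {Rp L : Type u} [CommRing Rp] [CommRing L] [IsLocalRing Rp] [IsLocalRing L] [IsNoetherianRing L]
  [Algebra Rp L] [IsLocalHom (algebraMap Rp L)] [Module.Flat Rp L]

/-- Exact modulo `m` iff exact with flat cokernel. -/
theorem local_iff {a b c : ℕ} (M : Matrix (Fin a) (Fin b) L) (N : Matrix (Fin b) (Fin c) L) (hMN : M * N = 0) :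
    (∀ x : Fin b → L, M.mulVecLin x ∈ (maximalIdeal Rp).map (algebraMap Rp L) • (⊤ : Submodule L (Fin a → L)) →
        x ∈ LinearMap.range N.mulVecLin ⊔ (maximalIdeal Rp).map (algebraMap Rp L) • (⊤ : Submodule L (Fin b → L))) ↔
      LinearMap.ker M.mulVecLin ≤ LinearMap.range N.mulVecLin ∧
        Module.Flat Rp ((Fin a → L) ⧸ LinearMap.range M.mulVecLin) := by
  haveI : Module.Flat Rp (Fin a → L) := Module.Flat.trans Rp L _
  have hres : ∀ (n : ℕ), ((maximalIdeal Rp).map (algebraMap Rp L) • (⊤ : Submodule L (Fin n → L))).restrictScalars Rp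
      = maximalIdeal Rp • (⊤ : Submodule Rp (Fin n → L)) := fun n => by
    rw [Ideal.smul_restrictScalars, Submodule.restrictScalars_top]
  have hcomp : ∀ v, M.mulVecLin (N.mulVecLin v) = 0 := fun v => by
    rw [← LinearMap.comp_apply, ← Matrix.mulVecLin_mul, hMN, Matrix.mulVecLin_zero, LinearMap.zero_apply]
  constructor
  · intro h
    obtain ⟨h1, h2⟩ := CAlgMisc2.exact_and_flat_of_exact_mod_max (R := Rp) N.mulVecLin M.mulVecLin hcomp h
    exact ⟨fun x hx => (h1 x).1 hx, h2⟩
  · rintro ⟨hex, hflat⟩ x hx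
    haveI : Module.Flat Rp ((Fin a → L) ⧸ (LinearMap.range M.mulVecLin).restrictScalars Rp) :=
      Module.Flat.of_linearEquiv (Submodule.Quotient.restrictScalarsEquiv Rp (LinearMap.range M.mulVecLin))
    have h1 : M.mulVecLin x ∈ maximalIdeal Rp • (⊤ : Submodule Rp (Fin a → L)) := by
      rw [← hres, Submodule.restrictScalars_mem]
      exact hx
    have h2 := mem_smul_of_flat_quotient (maximalIdeal Rp) ((LinearMap.range M.mulVecLin).restrictScalars Rp)
      _ h1 (LinearMap.mem_range_self _ x)
    rw [show (LinearMap.range M.mulVecLin).restrictScalars Rp = LinearMap.range (M.mulVecLin.restrictScalars Rp) from rfl,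
      ← Submodule.map_top, ← Submodule.map_smul''] at h2
    obtain ⟨y, hy, hyx⟩ := h2
    rw [SetLike.mem_coe, ← hres, Submodule.restrictScalars_mem] at hy
    refine Submodule.mem_sup.2 ⟨x - y, hex ?_, y, hy, sub_add_cancel _ _⟩
    rw [LinearMap.mem_ker, map_sub, sub_eq_zero]
    exact hyx.symm

end Local

variable {R S : Type u} [CommRing R] [IsNoetherianRing R] [CommRing S] [Algebra R S] [Algebra.FiniteType R S]
  [Module.Flat R S]

/-- The fibrewise exactness locus of a pair of matrices is open. -/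
theorem isOpen_exact {a b c : ℕ} (M : Matrix (Fin a) (Fin b) S) (N : Matrix (Fin b) (Fin c) S) (hMN : M * N = 0) :
    IsOpen {q : PrimeSpectrum S |
      LinearMap.ker (Matrix.mulVecLin (M.map (algebraMap S (EGA4.FibLocRing R S q.asIdeal)))) =
        LinearMap.range (Matrix.mulVecLin (N.map (algebraMap S (EGA4.FibLocRing R S q.asIdeal))))} := by
  haveI : IsNoetherianRing S := Algebra.FiniteType.isNoetherianRing R S
  let H := ↥(LinearMap.ker M.mulVecLin) ⧸
    (LinearMap.range N.mulVecLin).comap (LinearMap.ker M.mulVecLin).subtype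
  let Q := (Fin a → S) ⧸ LinearMap.range M.mulVecLin
  suffices h : ∀ q : PrimeSpectrum S,
      (LinearMap.ker (Matrix.mulVecLin (M.map (algebraMap S (EGA4.FibLocRing R S q.asIdeal)))) =
        LinearMap.range (Matrix.mulVecLin (N.map (algebraMap S (EGA4.FibLocRing R S q.asIdeal))))) ↔
      q ∉ Module.support S H ∧ Module.Flat R (LocalizedModule q.asIdeal.primeCompl Q) by
    convert (Module.isClosed_support (R := S) (M := H)).isOpen_compl.inter
      (EGA43.FlatOpen.isOpen_flatLocus (R := R) (S := S) (M := Q)) using 1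
    ext q
    exact h q
  intro q
  let T := q.asIdeal.primeCompl
  let L := Localization.AtPrime q.asIdeal
  let p := q.asIdeal.comap (algebraMap R S)
  haveI : q.asIdeal.LiesOver p := ⟨rfl⟩
  letI := Localization.AtPrime.algebraOfLiesOver p q.asIdeal
  let Rp := Localization.AtPrime p
  haveI : IsLocalHom (algebraMap Rp L) :=
    Localization.isLocalHom_localRingHom p q.asIdeal (algebraMap R S) Ideal.LiesOver.over
  haveI : IsNoetherianRing L := IsLocalization.isNoetherianRing T L inferInstance
  haveI : Module.Flat S L := IsLocalization.flat L T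
  haveI : Module.Flat R L := Module.Flat.trans R S L
  haveI : Module.Flat Rp L := (Module.flat_iff_of_isLocalization Rp p.primeCompl L).2 inferInstance
  have hP : (maximalIdeal Rp).map (algebraMap Rp L) = p.map (algebraMap R L) := by
    rw [← Localization.AtPrime.map_eq_maximalIdeal, Ideal.map_map, ← IsScalarTower.algebraMap_eq]
  let M' := M.map (algebraMap S L)
  let N' := N.map (algebraMap S L)
  have hMN' : M' * N' = 0 := by
    rw [← Matrix.map_mul, hMN, Matrix.map_zero _ (map_zero _)]
  have e1 : ∀ {m n : ℕ} (X : Matrix (Fin m) (Fin n) S), X.map (algebraMap S (EGA4.FibLocRing R S q.asIdeal)) =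
      (X.map (algebraMap S L)).map (Ideal.Quotient.mk (p.map (algebraMap R L))) := fun X => rfl
  rw [e1, e1, ker_eq_range_mk_iff _ M' N' hMN', ← hP, local_iff (Rp := Rp) M' N' hMN']
  let f : ∀ n : ℕ, (Fin n → S) →ₗ[S] (Fin n → L) := fun n => (Algebra.linearMap S L).compLeft (Fin n)
  haveI hf : ∀ n, IsLocalizedModule T (f n) := fun n => by
    have : f n = LinearMap.pi fun k => (Algebra.linearMap S L).comp (LinearMap.proj k) := rfl
    rw [this]
    infer_instance
  have hcomm : ∀ {m n : ℕ} (X : Matrix (Fin m) (Fin n) S) (v : Fin n → S),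
      (X.map (algebraMap S L)).mulVecLin (f n v) = f m (X.mulVecLin v) := fun X v => funext fun k => by
    rw [Matrix.mulVecLin_apply, Matrix.mulVecLin_apply]
    show _ = algebraMap S L (X.mulVec v k)
    rw [RingHom.map_mulVec]
    rfl
  have hnum : ∀ {n : ℕ} (z : Fin n → L), ∃ (v : Fin n → S) (s : T), (s : S) • z = f n v := fun {n} z => by
    obtain ⟨⟨v, s⟩, hv⟩ := IsLocalizedModule.surj T (f n) z
    exact ⟨v, s, by rw [← Submonoid.smul_def]; exact hv⟩
  have hunit : ∀ {n : ℕ} (s : T) (K : Submodule L (Fin n → L)) (z : Fin n → L), (s : S) • z ∈ K → z ∈ K := by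
    intro n s K z hz
    rw [← IsScalarTower.algebraMap_smul L (s : S) z] at hz
    exact (K.smul_mem_iff_of_isUnit (IsLocalization.map_units L s)).1 hz
  refine and_congr ⟨fun h => ?_, fun h => ?_⟩ ?_
  · rw [Module.notMem_support_iff']
    intro z
    obtain ⟨x, rfl⟩ := Submodule.Quotient.mk_surjective _ z
    have hx : f b x.1 ∈ LinearMap.ker M'.mulVecLin := by
      rw [LinearMap.mem_ker, hcomm, x.2, map_zero]
    obtain ⟨z, hz⟩ := h hx
    obtain ⟨v, s, hv⟩ := hnum z
    have h3 : f b ((s : S) • x.1) = f b (N.mulVecLin v) := by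
      rw [map_smul, ← hcomm, ← hv]
      change _ = N'.mulVecLin ((s : S) • z)
      rw [LinearMap.map_smul_of_tower, hz]
    obtain ⟨t, ht⟩ := (IsLocalizedModule.eq_iff_exists T (f b)).1 h3
    refine ⟨(t : S) * s, T.mul_mem t.2 s.2, ?_⟩
    rw [← Submodule.Quotient.mk_smul, Submodule.Quotient.mk_eq_zero]
    refine ⟨(t : S) • v, ?_⟩
    rw [map_smul]
    simp only [Submonoid.smul_def] at ht
    rw [← ht, ← mul_smul]
    rfl
  · intro z hz
    obtain ⟨v, s, hv⟩ := hnum z
    refine hunit s _ z ?_
    rw [hv]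
    have hMv : f a (M.mulVecLin v) = f a 0 := by
      rw [map_zero, ← hcomm, ← hv]
      change M'.mulVecLin ((s : S) • z) = 0
      rw [LinearMap.map_smul_of_tower, LinearMap.mem_ker.1 hz, smul_zero]
    obtain ⟨t, ht⟩ := (IsLocalizedModule.eq_iff_exists T (f a)).1 hMv
    have htv : (t : S) • v ∈ LinearMap.ker M.mulVecLin := by
      rw [LinearMap.mem_ker, map_smul]
      simpa [Submonoid.smul_def] using ht
    obtain ⟨r, hr, hr'⟩ := Module.notMem_support_iff'.1 h (Submodule.Quotient.mk ⟨_, htv⟩)
    rw [← Submodule.Quotient.mk_smul, Submodule.Quotient.mk_eq_zero] at hr'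
    obtain ⟨w, hw⟩ := hr'
    refine hunit ⟨r * t, T.mul_mem hr t.2⟩ _ _ ⟨f c w, ?_⟩
    rw [hcomm, hw, ← map_smul, mul_smul]
    rfl
  · have hrange : LinearMap.range M'.mulVecLin = (LinearMap.range M.mulVecLin).localized' L T (f a) := by
      refine le_antisymm ?_ ?_
      · rintro _ ⟨z, rfl⟩
        obtain ⟨v, s, hv⟩ := hnum z
        refine hunit s _ _ ?_
        rw [← LinearMap.map_smul_of_tower, hv, hcomm]
        exact ⟨_, LinearMap.mem_range_self _ v, 1, by simp⟩
      · rintro z ⟨_, ⟨v, rfl⟩, s, rfl⟩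
        refine hunit s _ _ ?_
        rw [← Submonoid.smul_def, IsLocalizedModule.mk'_cancel', ← hcomm]
        exact LinearMap.mem_range_self _ _
    rw [Module.flat_iff_of_isLocalization Rp p.primeCompl]
    let g := (LinearMap.range M.mulVecLin).toLocalizedQuotient' L T (f a)
    let e : LocalizedModule T Q ≃ₗ[S] (Fin a → L) ⧸ LinearMap.range M'.mulVecLin :=
      (IsLocalizedModule.linearEquiv T (LocalizedModule.mkLinearMap T Q) g).trans
        ((Submodule.quotEquivOfEq _ _ hrange.symm).restrictScalars S)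
    exact (Module.Flat.equiv_iff (e.restrictScalars R)).symm

/-- The fibrewise exactness locus of a complex of free modules is open. -/
theorem isOpen_complex (e : ℕ) (n : ℕ → ℕ) (φ : (i : ℕ) → Matrix (Fin (n i)) (Fin (n (i + 1))) S)
    (hφ : ∀ i, i + 2 ≤ e → φ i * φ (i + 1) = 0) :
    IsOpen {q : PrimeSpectrum S |
      (∀ i, i + 2 ≤ e →
        LinearMap.ker (Matrix.mulVecLin ((φ i).map (algebraMap S (EGA4.FibLocRing R S q.asIdeal)))) =
          LinearMap.range (Matrix.mulVecLin ((φ (i + 1)).map (algebraMap S (EGA4.FibLocRing R S q.asIdeal))))) ∧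
      (1 ≤ e → Function.Injective
        (Matrix.mulVecLin ((φ (e - 1)).map (algebraMap S (EGA4.FibLocRing R S q.asIdeal)))))} := by
  refine IsOpen.inter ?_ ?_
  · have : ∀ i, IsOpen {q : PrimeSpectrum S | i + 2 ≤ e →
        LinearMap.ker (Matrix.mulVecLin ((φ i).map (algebraMap S (EGA4.FibLocRing R S q.asIdeal)))) =
          LinearMap.range (Matrix.mulVecLin ((φ (i + 1)).map (algebraMap S (EGA4.FibLocRing R S q.asIdeal))))} := by
      intro i
      by_cases hi : i + 2 ≤ e
      · simpa [hi] using isOpen_exact (R := R) (φ i) (φ (i + 1)) (hφ i hi)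
      · simp [hi]
    convert (Finset.range e).finite_toSet.isOpen_biInter fun i _ => this i using 1
    ext q
    simp only [Set.mem_iInter]
    exact ⟨fun h i _ => h i, fun h i hi => h i (Finset.mem_range.2 (by omega)) hi⟩
  · cases e with
    | zero =>
      convert isOpen_univ using 1
      exact Set.eq_univ_of_forall fun q h => absurd h (by omega)
    | succ m =>
      convert isOpen_exact (R := R) (φ m) (0 : Matrix (Fin (n (m + 1))) (Fin 0) S) (Matrix.mul_zero _) using 1
      ext q
      simp only [Matrix.map_zero _ (map_zero _), Matrix.mulVecLin_zero, LinearMap.range_zero, LinearMap.ker_eq_bot]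
      exact ⟨fun h => h (by omega), fun h _ => h⟩

end Groth.Agent.CAlgH.FibreExactLocus
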