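import Groth.Agent.CAlgH.FlatDimension
import Groth.Agent.EGA43.PdFlat.Tor
import Groth.Prelude.Def_DRing2

/-!
# Projective dimension of flat modules is bounded by that of the closed fibre
-/

universe u

set_option autoImplicit false

open TensorProduct Function IsLocalRing CategoryTheory

namespace Groth.Agent.CAlgH.FibrePd

variable {A k T D : Type u} [CommRing A] [CommRing k] [CommRing T] [CommRing D] [Algebra A k]
  [Algebra A T] [Algebra A D] [Algebra T D] [Algebra k D] [IsScalarTower A T D] [IsScalarTower A k D]
  [hpo : Algebra.IsPushout A k T D]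

include hpo

/-- Base change to the fibre keeps exactness on the left for `A`-flat quotients. -/
theorem injective_baseChange {X Y Z : Type u} [AddCommGroup X] [Module T X] [Module A X]
    [IsScalarTower A T X] [AddCommGroup Y] [Module T Y] [Module A Y] [IsScalarTower A T Y]
    [AddCommGroup Z] [Module T Z] [Module A Z] [IsScalarTower A T Z] [Module.Flat A Z]
    (i : X →ₗ[T] Y) (p : Y →ₗ[T] Z) (hip : Exact i p) (hp : Surjective p) (hi : Injective i) :
    Injective (i.baseChange D) := by
  have hinj : Injective ((i.restrictScalars A).lTensor k) :=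
    LinearMap.lTensor_injective_of_exact_of_flat (p.restrictScalars A) hp (i.restrictScalars A) hi hip k
  let eX := Algebra.IsPushout.cancelBaseChange A k T D X
  let eY := Algebra.IsPushout.cancelBaseChange A k T D Y
  have hcomm : ∀ z, i.baseChange D (eX.symm z) = eY.symm ((i.restrictScalars A).lTensor k z) :=
    fun z => by
      induction z using TensorProduct.induction_on with
      | zero => simp
      | add u v hu hv => simp only [map_add, hu, hv]
      | tmul c l => simp [eX, eY]
  intro x y hxy
  obtain ⟨x, rfl⟩ := eX.symm.surjective x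
  obtain ⟨y, rfl⟩ := eX.symm.surjective y
  rw [hcomm, hcomm] at hxy
  rw [hinj (eY.symm.injective hxy)]

variable [IsLocalRing T] [IsNoetherianRing T] [IsLocalRing D] [Module.Flat A T]

omit hpo in
theorem flat_ker {M P : Type u} [AddCommGroup M] [Module T M] [Module A M] [IsScalarTower A T M]
    [AddCommGroup P] [Module T P] [Module A P] [IsScalarTower A T P] [Module.Flat A P]
    [Module.Flat A M] (f : P →ₗ[T] M) (hf : Surjective f) : Module.Flat A (LinearMap.ker f) :=
  EGA43.PdFlat.flat_of_submodule_of_flat_quotient f hf

theorem free_of_fibre_projective (hTD : Surjective (algebraMap T D)) {M : Type u} [AddCommGroup M]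
    [Module T M] [Module A M] [IsScalarTower A T M] [Module.Finite T M] [Module.Flat A M]
    [Module.Projective D (D ⊗[T] M)] : Module.Projective T M := by
  classical
  have : IsLocalHom (algebraMap T D) := .of_surjective _ hTD
  obtain ⟨r, f, hf, hker⟩ := CAlgH3.exists_minimal_presentation (R := T) M
  let fD := f.baseChange D
  have hfD : Surjective fD := LinearMap.lTensor_surjective D hf
  obtain ⟨s, hs⟩ := Module.projective_lifting_property fD LinearMap.id hfD
  have hsec : ∀ x, fD (s x) = x := fun x => LinearMap.congr_fun hs x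
  have hex : Exact ((LinearMap.ker f).subtype.baseChange D) fD :=
    lTensor_exact D (LinearMap.exact_subtype_ker_map f) hf
  have hmD : (maximalIdeal T).map (algebraMap T D) ≤ maximalIdeal D :=
    ((local_hom_TFAE (algebraMap T D)).out 0 2).1 ‹_›
  have hrange : LinearMap.range ((LinearMap.ker f).subtype.baseChange D) ≤
      maximalIdeal D • (⊤ : Submodule D (D ⊗[T] (Fin r → T))) := by
    rintro _ ⟨z, rfl⟩
    induction z using TensorProduct.induction_on with
    | zero => simp
    | add u v hu hv => rw [map_add]; exact add_mem hu hv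
    | tmul d x =>
      rw [LinearMap.baseChange_tmul]
      refine Submodule.smul_induction_on (p := fun y => d ⊗ₜ[T] y ∈ maximalIdeal D •
        (⊤ : Submodule D (D ⊗[T] (Fin r → T)))) (hker x.2) (fun c hc y _ => ?_)
        (fun y y' hy hy' => by rw [tmul_add]; exact add_mem hy hy')
      rw [← smul_tmul, Algebra.smul_def, ← smul_eq_mul, ← TensorProduct.smul_tmul']
      exact Submodule.smul_mem_smul (hmD (Ideal.mem_map_of_mem _ hc)) Submodule.mem_top
  have hkerD : LinearMap.ker fD = ⊥ := by
    rw [hex.linearMap_ker_eq]
    refine Submodule.eq_bot_of_le_smul_of_le_jacobson_bot (maximalIdeal D) _ ?_ ?_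
      (maximalIdeal_le_jacobson _)
    · have : IsNoetherianRing D := isNoetherianRing_of_surjective T D _ hTD
      exact IsNoetherian.noetherian _
    · rintro _ ⟨z, rfl⟩
      let π : D ⊗[T] (Fin r → T) →ₗ[D] D ⊗[T] (Fin r → T) := LinearMap.id - s ∘ₗ fD
      have hπ : ∀ y, π y ∈ LinearMap.range ((LinearMap.ker f).subtype.baseChange D) := fun y => by
        rw [← hex.linearMap_ker_eq, LinearMap.mem_ker]
        simp [π, hsec]
      have hz : fD ((LinearMap.ker f).subtype.baseChange D z) = 0 := hex.apply_apply_eq_zero z
      have h := Submodule.mem_map_of_mem (f := π) (hrange (LinearMap.mem_range_self _ z))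
      rw [Submodule.map_smul'', show π ((LinearMap.ker f).subtype.baseChange D z) =
        (LinearMap.ker f).subtype.baseChange D z by simp [π, hz]] at h
      exact smul_mono_right (maximalIdeal D) (show Submodule.map π ⊤ ≤ _ by rintro _ ⟨y, -, rfl⟩; exact hπ y) h
  have : Module.Flat A (Fin r → T) := Module.Flat.trans A T _
  have hK : Module.Flat A (LinearMap.ker f) := flat_ker f hf
  have hinj : Injective ((LinearMap.ker f).subtype.baseChange D) :=
    injective_baseChange (A := A) (k := k) _ f (LinearMap.exact_subtype_ker_map f) hf Subtype.val_injective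
  have hsub : Subsingleton (D ⊗[T] LinearMap.ker f) := by
    refine subsingleton_of_forall_eq 0 fun z => hinj ?_
    rw [map_zero]
    have : (LinearMap.ker f).subtype.baseChange D z ∈ LinearMap.ker fD :=
      hex.linearMap_ker_eq ▸ LinearMap.mem_range_self _ z
    rwa [hkerD, Submodule.mem_bot] at this
  have hbot : LinearMap.ker f = ⊥ := by
    refine Submodule.eq_bot_of_le_smul_of_le_jacobson_bot (RingHom.ker (algebraMap T D)) _
      (IsNoetherian.noetherian _) ?_ ((le_maximalIdeal (RingHom.ker_ne_top _)).trans (maximalIdeal_le_jacobson _))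
    let K := LinearMap.ker f
    let J := RingHom.ker (algebraMap T D)
    let e : (T ⧸ J) ≃ₐ[T] D := Ideal.quotientKerAlgEquivOfSurjective (f := Algebra.ofId T D) hTD
    have : Subsingleton (K ⧸ (J • (⊤ : Submodule T K))) :=
      ((TensorProduct.quotTensorEquivQuotSMul K J).symm ≪≫ₗ
        TensorProduct.congr e.toLinearEquiv (LinearEquiv.refl T K)).toEquiv.subsingleton
    have htop := congrArg (Submodule.map K.subtype) (Submodule.Quotient.subsingleton_iff.1 this)
    rw [Submodule.map_smul'', Submodule.map_top, Submodule.range_subtype] at htop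
    exact htop.ge
  exact Module.Projective.of_equiv (LinearEquiv.ofBijective f ⟨LinearMap.ker_eq_bot.1 hbot, hf⟩)

/-- Projective dimension of an `A`-flat finite module is bounded by that of its fibre. -/
theorem pd_of_fibre (hTD : Surjective (algebraMap T D)) : ∀ (n : ℕ) (M : Type u) [AddCommGroup M]
    [Module T M] [Module A M] [IsScalarTower A T M] [Module.Finite T M] [Module.Flat A M],
    CAlgH3.PD D (n + 1) (D ⊗[T] M) → CAlgH3.PD T (n + 1) M
  | 0, M, _, _, _, _, _, _, h =>
    haveI := CAlgH3.pd_one_iff.1 h
    CAlgH3.pd_one_iff.2 (free_of_fibre_projective (A := A) (k := k) hTD)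
  | n + 1, M, _, _, _, _, _, _, h => by
    obtain ⟨r, f, hf⟩ := Module.Finite.exists_fin' T M
    have : Module.Flat A (Fin r → T) := Module.Flat.trans A T _
    have hK : Module.Flat A (LinearMap.ker f) := flat_ker f hf
    refine (CAlgH3.pd_ker_iff hf n).2 (pd_of_fibre hTD n _ ?_)
    have h2 := (CAlgH3.pd_ker_iff (f := f.baseChange D) (LinearMap.lTensor_surjective D hf) n).1 h
    have hex : Exact ((LinearMap.ker f).subtype.baseChange D) (f.baseChange D) :=
      lTensor_exact D (LinearMap.exact_subtype_ker_map f) hf
    have hinj : Injective ((LinearMap.ker f).subtype.baseChange D) :=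
      injective_baseChange (A := A) (k := k) _ f (LinearMap.exact_subtype_ker_map f) hf Subtype.val_injective
    exact (CAlgH3.pd_congr ((LinearEquiv.ofInjective _ hinj).trans
      (LinearEquiv.ofEq _ _ hex.linearMap_ker_eq.symm))).2 h2

omit hpo in
theorem hasFiniteTorDim_of_pd {R : Type u} [CommRing R] {n : ℕ} {M : Type u} [AddCommGroup M]
    [Module R M] (h : CAlgH3.PD R (n + 1) M) : DRing.HasFiniteTorDim R M := by
  refine ⟨n, fun N _ _ p hp => ?_⟩
  obtain ⟨q, rfl⟩ : ∃ q, p = q + 1 := ⟨p - 1, by omega⟩
  have h' : CommAlg6.PdLE R M q := CAlgH3.pd_mono (show n + 1 ≤ q + 1 by omega) h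
  exact ModuleCat.subsingleton_of_isZero (EGA43.PdFlat.isZero_tor_of_pdLE h' N)

end Groth.Agent.CAlgH.FibrePd
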