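import Groth.Agent.EGA43.FibDepth.FibreDim
import Groth.Agent.DimLib.Algebra
import Groth.Agent.CommAlg6.FibreLocal
import Groth.Agent.CommAlg6.CodepthOpen
import Groth.Agent.CAlgH3.QuotientLocal
import Groth.Agent.EGA41Lib.CMParameters

/-!
# The locus where a sequence is regular in the fibres of a Cohen-Macaulay family
-/

set_option autoImplicit false
set_option backward.isDefEq.respectTransparency false

universe u

open IsLocalRing TensorProduct

namespace Groth.Agent.CAlgH.FibreRegularLocus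

open EGA43.FibDepth

attribute [local instance] Algebra.TensorProduct.rightAlgebra CommAlg6.isLocalRing_fibLocRing

/-- In an algebra of finite type over a field, `ht Q + dim C/Q ≤ n` iff all generisations of `Q`
have dimension at most `n`. -/
theorem height_add_le_iff {k C : Type u} [Field k] [CommRing C] [Algebra k C] [Algebra.FiniteType k C]
    (Q : PrimeSpectrum C) (n : WithBot ℕ∞) :
    (Q.asIdeal.height : WithBot ℕ∞) + ringKrullDim (C ⧸ Q.asIdeal) ≤ n ↔
      ∀ Q' : PrimeSpectrum C, Q'.asIdeal ≤ Q.asIdeal → ringKrullDim (C ⧸ Q'.asIdeal) ≤ n := by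
  haveI : IsNoetherianRing C := Algebra.FiniteType.isNoetherianRing k C
  have key : ∀ P : PrimeSpectrum C, P.asIdeal ≤ Q.asIdeal →
      ∃ Qb : PrimeSpectrum (C ⧸ P.asIdeal), Qb.comap (Ideal.Quotient.mk P.asIdeal) = Q ∧
        ringKrullDim (C ⧸ P.asIdeal) =
          (Order.height Qb : WithBot ℕ∞) + ringKrullDim (C ⧸ Q.asIdeal) := by
    intro P hP
    haveI : (Q.asIdeal.map (Ideal.Quotient.mk P.asIdeal)).IsPrime :=
      Ideal.map_isPrime_of_surjective Ideal.Quotient.mk_surjective (by rw [Ideal.mk_ker]; exact hP)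
    refine ⟨⟨Q.asIdeal.map (Ideal.Quotient.mk P.asIdeal), inferInstance⟩, PrimeSpectrum.ext ?_, ?_⟩
    · show Ideal.comap _ _ = _
      rw [Ideal.comap_map_of_surjective' _ Ideal.Quotient.mk_surjective, Ideal.mk_ker, sup_eq_left.2 hP]
    · rw [← DimLib.height_add_ringKrullDim_quotient (k := k) (Q.asIdeal.map (Ideal.Quotient.mk P.asIdeal)),
        ringKrullDim_eq_of_ringEquiv (DoubleQuot.quotQuotEquivQuotOfLE hP),
        ← PrimeSpectrum.height_eq_orderHeight]
  have hmono : ∀ P : PrimeSpectrum C, StrictMono (PrimeSpectrum.comap (Ideal.Quotient.mk P.asIdeal)) :=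
    fun P a b hab => lt_of_le_of_ne (Ideal.comap_mono hab.le) fun e => hab.ne
      (PrimeSpectrum.comap_injective_of_surjective _ Ideal.Quotient.mk_surjective e)
  constructor
  · intro h P hP
    obtain ⟨Qb, hQb, hdim⟩ := key P hP
    have hle : Order.height Qb ≤ Q.asIdeal.height := by
      rw [Q.height_eq_orderHeight, ← hQb]
      exact Order.height_le_height_apply_of_strictMono _ (hmono P) Qb
    rw [hdim]
    exact le_trans (add_le_add (WithBot.coe_le_coe.2 hle) le_rfl) h
  · intro h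
    obtain ⟨l, hl, hlen⟩ := Q.asIdeal.exists_ltSeries_length_eq_height
    have hlast : l.last = Q := hl
    let P := l.head
    have hP : P.asIdeal ≤ Q.asIdeal := hlast ▸ (l.monotone (Fin.le_last 0) : l.head ≤ l.last)
    obtain ⟨Qb, hQb, hdim⟩ := key P hP
    refine le_trans ?_ (h P hP)
    rw [hdim]
    refine add_le_add (WithBot.coe_le_coe.2 ?_) le_rfl
    have hge : ∀ i, P.asIdeal ≤ (l i).asIdeal := fun i => l.monotone (Fin.zero_le i)
    let f : Fin (l.length + 1) → PrimeSpectrum (C ⧸ P.asIdeal) := fun i =>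
      ⟨(l i).asIdeal.map (Ideal.Quotient.mk P.asIdeal),
        Ideal.map_isPrime_of_surjective Ideal.Quotient.mk_surjective (by rw [Ideal.mk_ker]; exact hge i)⟩
    have hf : ∀ i, (f i).comap (Ideal.Quotient.mk P.asIdeal) = l i := fun i => PrimeSpectrum.ext (by
      show Ideal.comap _ (Ideal.map _ _) = _
      rw [Ideal.comap_map_of_surjective' _ Ideal.Quotient.mk_surjective, Ideal.mk_ker,
        sup_eq_left.2 (hge i)])
    have hfm : ∀ i : Fin l.length, f i.castSucc < f i.succ := fun i =>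
      lt_of_le_of_ne (Ideal.map_mono (show l i.castSucc < l i.succ from l.step i).le) fun e =>
        (show l i.castSucc < l i.succ from l.step i).ne (by
        rw [← hf, ← hf i.succ, e])
    let l' : LTSeries (PrimeSpectrum (C ⧸ P.asIdeal)) := ⟨l.length, f, hfm⟩
    have hl' : l'.last = Qb := PrimeSpectrum.comap_injective_of_surjective _ Ideal.Quotient.mk_surjective
      ((hf _).trans (hlast.trans hQb.symm))
    rw [← hlen, ← hl']
    exact Order.length_le_height_last (p := l')

variable {R T : Type u} [CommRing R] [CommRing T] [Algebra R T] [Algebra.FiniteType R T]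

/-- The local ring of the fibre: dimension, and its generisations. -/
theorem fibLocRing_data (q : PrimeSpectrum T) :
    ∃ Q : PrimeSpectrum ((q.asIdeal.comap (algebraMap R T)).Fiber T),
      Nonempty (Localization.AtPrime Q.asIdeal ≃+* EGA4.FibLocRing R T q.asIdeal) ∧
      PrimeSpectrum.comap (algebraMap T ((q.asIdeal.comap (algebraMap R T)).Fiber T)) Q = q := by
  obtain ⟨Q, hQ⟩ := exists_prime_over (A := R) (p := q.asIdeal.comap (algebraMap R T))
    ((q.asIdeal.comap (algebraMap R T)).Fiber T) q rfl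
  obtain ⟨-, ⟨e⟩⟩ := CommAlg6.fiber_localization_equiv (A := R) (B := T)
    (q.asIdeal.comap (algebraMap R T)) Q.asIdeal
  obtain ⟨e'⟩ := CommAlg6.fibLocRing_congr (A := R)
    (Q.asIdeal.comap (Algebra.TensorProduct.includeRight : T →ₐ[R] _)) q.asIdeal
    (congrArg PrimeSpectrum.asIdeal hQ)
  exact ⟨Q, ⟨e.trans e'⟩, hQ⟩

theorem ringKrullDim_add_trd_le_iff (q : PrimeSpectrum T) (n : ℕ) :
    ringKrullDim (EGA4.FibLocRing R T q.asIdeal) + (trd R q : WithBot ℕ∞) ≤ (n : WithBot ℕ∞) ↔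
      ∀ q' : PrimeSpectrum T, q'.asIdeal ≤ q.asIdeal →
        q'.asIdeal.comap (algebraMap R T) = q.asIdeal.comap (algebraMap R T) → trd R q' ≤ n := by
  obtain ⟨Q, ⟨e⟩, hQ⟩ := fibLocRing_data (R := R) q
  let p := q.asIdeal.comap (algebraMap R T)
  haveI : Algebra.FiniteType p.ResidueField (p.Fiber T) := finiteType_fibre (A := R) (R := T) p (p.Fiber T)
  rw [← ringKrullDim_eq_of_ringEquiv e, IsLocalization.AtPrime.ringKrullDim_eq_height Q.asIdeal (Localization.AtPrime Q.asIdeal),
    ← show ringKrullDim (p.Fiber T ⧸ Q.asIdeal) = (trd R q : WithBot ℕ∞) by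
      rw [ringKrullDim_quotient_eq_trd (R := T) p Q, hQ],
    height_add_le_iff (k := p.ResidueField) Q]
  constructor
  · intro h q' hle hp
    obtain ⟨Q', hQ'⟩ := exists_prime_over (A := R) (p := p) (p.Fiber T) q' hp.symm
    have hle' : Q'.asIdeal ≤ Q.asIdeal := le_of_comap_le (R := T) p (by rw [hQ', hQ]; exact hle)
    have := h Q' hle'
    rw [ringKrullDim_quotient_eq_trd (R := T) p Q', hQ'] at this
    exact_mod_cast this
  · intro h Q' hle
    rw [ringKrullDim_quotient_eq_trd (R := T) p Q']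
    have hle' : (PrimeSpectrum.comap (algebraMap T (p.Fiber T)) Q').asIdeal ≤ q.asIdeal := by
      exact (Ideal.comap_mono hle).trans_eq (congrArg PrimeSpectrum.asIdeal hQ)
    exact_mod_cast h _ hle' (comap_algebraMap_eq p Q').symm

/-- With equidimensional fibres. -/
theorem ringKrullDim_add_trd_eq (d : ℕ)
    (heq : ∀ p : PrimeSpectrum R, ∀ P ∈ minimalPrimes (p.asIdeal.Fiber T),
      ringKrullDim (p.asIdeal.Fiber T ⧸ P) = (d : WithBot ℕ∞))
    (q : PrimeSpectrum T) :
    ringKrullDim (EGA4.FibLocRing R T q.asIdeal) + (trd R q : WithBot ℕ∞) = (d : WithBot ℕ∞) := by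
  obtain ⟨Q, ⟨e⟩, hQ⟩ := fibLocRing_data (R := R) q
  let p := q.asIdeal.comap (algebraMap R T)
  haveI : Algebra.FiniteType p.ResidueField (p.Fiber T) := finiteType_fibre (A := R) (R := T) p (p.Fiber T)
  rw [← ringKrullDim_eq_of_ringEquiv e, IsLocalization.AtPrime.ringKrullDim_eq_height Q.asIdeal (Localization.AtPrime Q.asIdeal),
    ← show ringKrullDim (p.Fiber T ⧸ Q.asIdeal) = (trd R q : WithBot ℕ∞) by
      rw [ringKrullDim_quotient_eq_trd (R := T) p Q, hQ]]
  refine le_antisymm ((height_add_le_iff (k := p.ResidueField) Q _).2 fun Q' _ => ?_) ?_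
  · obtain ⟨P, hP, hle⟩ := Ideal.exists_minimalPrimes_le (bot_le : ⊥ ≤ Q'.asIdeal)
    rw [← heq ⟨p, inferInstance⟩ P hP]
    exact ringKrullDim_le_of_surjective _ (Ideal.Quotient.factor_surjective hle)
  · obtain ⟨P, hP, hle⟩ := Ideal.exists_minimalPrimes_le (bot_le : ⊥ ≤ Q.asIdeal)
    rw [← heq ⟨p, inferInstance⟩ P hP]
    exact (height_add_le_iff (k := p.ResidueField) Q _).1 le_rfl ⟨P, hP.1.1⟩ hle

/-- The fibre local rings of a closed subscheme. -/
theorem fibLocRing_quotient (J : Ideal T) (qb : Ideal (T ⧸ J)) [qb.IsPrime] :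
    Nonempty ((EGA4.FibLocRing R T (qb.comap (Ideal.Quotient.mk J)) ⧸
      J.map (algebraMap T (EGA4.FibLocRing R T (qb.comap (Ideal.Quotient.mk J))))) ≃+*
        EGA4.FibLocRing R (T ⧸ J) qb) := by
  let q := qb.comap (Ideal.Quotient.mk J)
  let Tq := Localization.AtPrime q
  let p := q.comap (algebraMap R T)
  haveI := CAlgH3.isLocalization_atPrime_quotient J qb
  let B := Tq ⧸ J.map (algebraMap T Tq)
  let e : B ≃ₐ[T ⧸ J] Localization.AtPrime qb := IsLocalization.algEquiv qb.primeCompl _ _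
  have hp : qb.comap (algebraMap R (T ⧸ J)) = p := rfl
  have hcompat : (e : B →+* Localization.AtPrime qb).comp
      ((Ideal.Quotient.mk (J.map (algebraMap T Tq))).comp (algebraMap R Tq)) =
      algebraMap R (Localization.AtPrime qb) := by
    refine RingHom.ext fun r => ?_
    show e (Ideal.Quotient.mk _ (algebraMap R Tq r)) = _
    rw [IsScalarTower.algebraMap_apply R (T ⧸ J) (Localization.AtPrime qb), ← e.commutes,
      IsScalarTower.algebraMap_apply R T Tq]
    rfl
  have h1 : (EGA4.FibLocRing R T q ⧸ J.map (algebraMap T (EGA4.FibLocRing R T q))) ≃+*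
      Tq ⧸ (p.map (algebraMap R Tq) ⊔ J.map (algebraMap T Tq)) :=
    (Ideal.quotEquivOfEq (by rw [Ideal.map_map]; rfl)).trans
      (DoubleQuot.quotQuotEquivQuotSup (p.map (algebraMap R Tq)) (J.map (algebraMap T Tq)))
  have h2 : (B ⧸ (p.map (algebraMap R Tq)).map (Ideal.Quotient.mk (J.map (algebraMap T Tq)))) ≃+*
      Tq ⧸ (p.map (algebraMap R Tq) ⊔ J.map (algebraMap T Tq)) :=
    (DoubleQuot.quotQuotEquivQuotSup _ _).trans (Ideal.quotEquivOfEq (sup_comm _ _))
  refine ⟨(h1.trans h2.symm).trans (Ideal.quotientEquiv _ _ e.toRingEquiv ?_)⟩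
  rw [hp, Ideal.map_map, Ideal.map_map, ← hcompat]
  rfl

/-- The locus in `V(f)` where `f` is regular on the fibres is open. -/
theorem exists_isOpen (d : ℕ)
    (hCM : ∀ p : PrimeSpectrum R, _root_.LocCoh.IsCohenMacaulayRing (p.asIdeal.Fiber T))
    (heq : ∀ p : PrimeSpectrum R, ∀ P ∈ minimalPrimes (p.asIdeal.Fiber T),
      ringKrullDim (p.asIdeal.Fiber T ⧸ P) = (d : WithBot ℕ∞))
    (f : List T) :
    ∃ U : Set (PrimeSpectrum T), IsOpen U ∧ ∀ q : PrimeSpectrum T, Ideal.ofList f ≤ q.asIdeal →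
      (q ∈ U ↔ RingTheory.Sequence.IsRegular (EGA4.FibLocRing R T q.asIdeal)
        (f.map (algebraMap T (EGA4.FibLocRing R T q.asIdeal)))) := by
  let J := Ideal.ofList f
  let mk := Ideal.Quotient.mk J
  haveI : Algebra.FiniteType R (T ⧸ J) :=
    Algebra.FiniteType.of_surjective (Ideal.Quotient.mkₐ R J) Ideal.Quotient.mk_surjective
  let i := f.length
  let V : Set (PrimeSpectrum (T ⧸ J)) := {qb | i ≤ d ∧ ∀ q' : PrimeSpectrum (T ⧸ J), q'.asIdeal ≤ qb.asIdeal →
      q'.asIdeal.comap (algebraMap R (T ⧸ J)) = qb.asIdeal.comap (algebraMap R (T ⧸ J)) → trd R q' ≤ d - i}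
  have hV : IsOpen V := by
    by_cases hi : i ≤ d
    · simpa [V, hi] using isOpen_trd_le (A := R) (R := T ⧸ J) (d - i)
    · simp [V, hi]
  obtain ⟨U, hU, hUV⟩ :=
    (PrimeSpectrum.isClosedEmbedding_comap_of_surjective _ mk Ideal.Quotient.mk_surjective).isInducing.isOpen_iff.1 hV
  refine ⟨U, hU, fun q hq => ?_⟩
  obtain ⟨qb, rfl⟩ : ∃ qb : PrimeSpectrum (T ⧸ J), qb.comap mk = q := by
    refine ⟨⟨q.asIdeal.map mk, Ideal.map_isPrime_of_surjective Ideal.Quotient.mk_surjective
      (by rw [Ideal.mk_ker]; exact hq)⟩, PrimeSpectrum.ext ?_⟩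
    show Ideal.comap _ (Ideal.map _ _) = _
    rw [Ideal.comap_map_of_surjective' _ Ideal.Quotient.mk_surjective, Ideal.mk_ker, sup_eq_left.2 hq]
  have hmemU : qb.comap mk ∈ U ↔ qb ∈ V := by rw [← hUV]; rfl
  rw [hmemU]
  let q := qb.comap mk
  let F := EGA4.FibLocRing R T q.asIdeal
  obtain ⟨Q, ⟨eQ⟩, -⟩ := fibLocRing_data (R := R) q
  haveI := hCM ⟨q.asIdeal.comap (algebraMap R T), inferInstance⟩
  haveI : _root_.LocCoh.IsCohenMacaulayLocalRing (Localization.AtPrime Q.asIdeal) :=
    _root_.LocCoh.IsCohenMacaulayRing.isCohenMacaulayLocalRing_localization Q.asIdeal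
  haveI hF : _root_.LocCoh.IsCohenMacaulayLocalRing F := CAlgH3.isCohenMacaulayLocalRing_of_ringEquiv (R := Localization.AtPrime Q.asIdeal) (S := F) eQ
  let xs := f.map (algebraMap T F)
  have hK : Ideal.ofList xs = J.map (algebraMap T F) := (Ideal.map_ofList _ f).symm
  have hmem : ∀ x ∈ xs, x ∈ maximalIdeal F := by
    intro x hx
    obtain ⟨t, ht, rfl⟩ := List.mem_map.1 hx
    have htq : t ∈ q.asIdeal := hq (Ideal.subset_span ht)
    have h0 : algebraMap T (Localization.AtPrime q.asIdeal) t ∈ maximalIdeal (Localization.AtPrime q.asIdeal) :=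
      (IsLocalization.AtPrime.to_map_mem_maximal_iff (Localization.AtPrime q.asIdeal) q.asIdeal t).2 htq
    have h1 := Ideal.mem_map_of_mem (Ideal.Quotient.mk ((q.asIdeal.comap (algebraMap R T)).map
      (algebraMap R (Localization.AtPrime q.asIdeal)))) h0
    rw [map_maximalIdeal_of_surjective _ Ideal.Quotient.mk_surjective] at h1
    exact h1
  have hreg := EGA41Lib.cm_regular_sequence xs F ((CAlgH3.isCohenMacaulayLocalRing_iff F).1 hF) hmem
  have hiff : RingTheory.Sequence.IsRegular F xs ↔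
      ringKrullDim (EGA4.FibLocRing R (T ⧸ J) qb.asIdeal) + (i : WithBot ℕ∞) ≤ ringKrullDim F := by
    obtain ⟨e⟩ := fibLocRing_quotient (R := R) J qb.asIdeal
    have hd : Module.supportDim F (F ⧸ (Ideal.ofList xs • (⊤ : Submodule F F))) =
        ringKrullDim (EGA4.FibLocRing R (T ⧸ J) qb.asIdeal) := by
      rw [Module.supportDim_eq_of_equiv (Submodule.quotEquivOfEq _ (Ideal.ofList xs)
        (by rw [smul_eq_mul, Ideal.mul_top])), Module.supportDim_quotient_eq_ringKrullDim]
      exact (ringKrullDim_eq_of_ringEquiv (Ideal.quotEquivOfEq hK)).trans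
        (ringKrullDim_eq_of_ringEquiv (R := F ⧸ J.map (algebraMap T F)) e)
    have hlen : xs.length = i := List.length_map ..
    rw [Module.supportDim_self_eq_ringKrullDim, hd, hlen] at hreg
    constructor
    · exact fun h => (hreg.1 h.toIsWeaklyRegular).1.le
    · intro h
      refine ⟨hreg.2 h, fun h' => ?_⟩
      refine (maximalIdeal.isMaximal F).ne_top (top_le_iff.1 ?_)
      rw [h', smul_eq_mul, Ideal.mul_top]
      exact Ideal.span_le.2 hmem
  rw [hiff]
  have hF' := ringKrullDim_add_trd_eq d heq q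
  have htrd : trd R q = trd R qb :=
    trd_comap_of_surjectiveOnStalks (Ideal.Quotient.mkₐ R J)
      (RingHom.surjectiveOnStalks_of_surjective Ideal.Quotient.mk_surjective) qb
  obtain ⟨Q', ⟨eQ'⟩, -⟩ := fibLocRing_data (R := R) qb
  haveI : IsNoetherianRing (Localization.AtPrime Q'.asIdeal) := by
    haveI : Algebra.FiniteType (qb.asIdeal.comap (algebraMap R (T ⧸ J))).ResidueField
        ((qb.asIdeal.comap (algebraMap R (T ⧸ J))).Fiber (T ⧸ J)) :=
      finiteType_fibre (A := R) (R := T ⧸ J) _ _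
    haveI := Algebra.FiniteType.isNoetherianRing (qb.asIdeal.comap (algebraMap R (T ⧸ J))).ResidueField
      ((qb.asIdeal.comap (algebraMap R (T ⧸ J))).Fiber (T ⧸ J))
    exact IsLocalization.isNoetherianRing Q'.asIdeal.primeCompl _ inferInstance
  haveI : IsNoetherianRing (EGA4.FibLocRing R (T ⧸ J) qb.asIdeal) := isNoetherianRing_of_ringEquiv _ eQ'
  obtain ⟨a, ha⟩ := CommAlg6.exists_nat_ringKrullDim_eq (EGA4.FibLocRing R (T ⧸ J) qb.asIdeal)
  obtain ⟨b, hb⟩ := CommAlg6.exists_nat_ringKrullDim_eq F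
  rw [hb, htrd] at hF'
  rw [ha, hb]
  have hF'' : b + trd R qb = d := by exact_mod_cast hF'
  have hiff' := ringKrullDim_add_trd_le_iff (R := R) qb (d - i)
  rw [ha] at hiff'
  show (i ≤ d ∧ _) ↔ _
  rw [← hiff']
  have hc : ∀ x y : ℕ, ((x : ℕ) : WithBot ℕ∞) ≤ (y : WithBot ℕ∞) ↔ x ≤ y := fun x y => Nat.cast_le
  simp only [show ∀ x : ℕ, ((x : ℕ∞) : WithBot ℕ∞) = (x : WithBot ℕ∞) from fun _ => rfl, ← Nat.cast_add, hc]
  constructor
  · rintro ⟨h1, h2⟩
    omega
  · intro h
    omega

end Groth.Agent.CAlgH.FibreRegularLocus
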