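import Groth.Agent.EGA43.FibDepth.TensorTrd
import Groth.Agent.EGA43.FibDepth.Points
import Groth.Agent.DimLib.Algebra
import Groth.Agent.CommAlg6.FibreLocal
import Groth.Prelude.Def_EGA4b

/-!
# Fibre dimensions of `S → S ⊗ K`

For a finite type algebra `S` over a field and a field extension `K`, the fibre over a prime `q` is
equidimensional of dimension `trdeg κ(q)`.
-/

set_option autoImplicit false
set_option backward.isDefEq.respectTransparency false

universe u

open TensorProduct IsLocalRing EGA4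

namespace Groth.Agent.CAlgH.FieldExtFibreDim

theorem trd_field {k R : Type u} [Field k] [CommRing R] [Algebra k R] (Q : PrimeSpectrum R) :
    EGA43.FibDepth.trd k Q = (Algebra.trdeg k Q.asIdeal.ResidueField).toNat := by
  have hp : (⊥ : Ideal k) = Q.asIdeal.comap (algebraMap k R) :=
    ((Ideal.eq_bot_or_top _).resolve_right (Ideal.IsPrime.comap (hK := Q.isPrime) _).ne_top).symm
  rw [EGA43.FibDepth.trd_eq_trdegHom Q hp, ← DimLib.trdegHom_algebraMap]
  have hb : Function.Bijective (algebraMap k (⊥ : Ideal k).ResidueField) := by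
    refine ⟨(algebraMap k _).injective, fun z => ?_⟩
    obtain ⟨a, b, -, rfl⟩ := IsFractionRing.div_surjective (A := k ⧸ (⊥ : Ideal k)) z
    obtain ⟨a, rfl⟩ := Ideal.Quotient.mk_surjective a
    obtain ⟨b, rfl⟩ := Ideal.Quotient.mk_surjective b
    exact ⟨a / b, map_div₀ _ a b⟩
  rw [← EGA43.FibDepth.trdegHom_ringEquiv_comp (RingEquiv.ofBijective _ hb)]
  congr 1
  exact RingHom.ext fun a => (Ideal.ResidueField.map_algebraMap _ _ _ _ a).trans
    (IsScalarTower.algebraMap_apply k R Q.asIdeal.ResidueField a).symm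

theorem dim_quotient_eq_trdeg {k R : Type u} [Field k] [CommRing R] [Algebra k R]
    [Algebra.FiniteType k R] (Q : Ideal R) [Q.IsPrime] :
    ringKrullDim (R ⧸ Q) = ((Algebra.trdeg k Q.ResidueField).toNat : WithBot ℕ∞) := by
  rw [DimLib.ringKrullDim_eq_trdeg (k := k)]
  have h0 : Algebra.trdeg (R ⧸ Q) Q.ResidueField = 0 := by
    have : Algebra.IsAlgebraic (R ⧸ Q) Q.ResidueField :=
      IsLocalization.isAlgebraic _ (nonZeroDivisors (R ⧸ Q))
    exact trdeg_eq_zero
  have := trdeg_add_eq k (R ⧸ Q) (A := Q.ResidueField)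
  rw [h0, add_zero] at this
  rw [this]

/-- Every prime minimal in the fibre over `q` has quotient of dimension `trdeg κ(q)`. -/
theorem dim_quotient_of_minimal {k S K : Type u} [Field k] [CommRing S] [Algebra k S]
    [Algebra.FiniteType k S] [Field K] [Algebra k K] (q : PrimeSpectrum S) (Q : PrimeSpectrum (K ⊗[k] S))
    (hQ : PrimeSpectrum.comap (Algebra.TensorProduct.includeRight (R := k) (A := K) (B := S)).toRingHom Q = q)
    (hmin : ∀ Q' : PrimeSpectrum (K ⊗[k] S),
      PrimeSpectrum.comap (Algebra.TensorProduct.includeRight (R := k) (A := K) (B := S)).toRingHom Q' = q →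
      Q'.asIdeal ≤ Q.asIdeal → Q' = Q) :
    ringKrullDim ((K ⊗[k] S) ⧸ Q.asIdeal) =
      ((Algebra.trdeg k q.asIdeal.ResidueField).toNat : WithBot ℕ∞) := by
  rw [dim_quotient_eq_trdeg (k := K), ← trd_field, ← trd_field]
  congr 1
  subst hQ
  refine le_antisymm (EGA43.FibDepth.trd_tensor_le Q) ?_
  obtain ⟨r', hle, -, hr, htrd⟩ := EGA43.FibDepth.exists_lift_trd Q _ le_rfl rfl
  rwa [hmin r' hr hle] at htrd

/-- The height of a prime from the heights over the minimal primes below it. -/
theorem height_eq_of_minimal {C : Type u} [CommRing C] (P : Ideal C) [P.IsPrime] (c : ℕ∞)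
    (h : ∀ Q ∈ minimalPrimes C, Q ≤ P → (P.map (Ideal.Quotient.mk Q)).height = c) : P.height = c := by
  let P₀ : PrimeSpectrum C := ⟨P, inferInstance⟩
  have key : ∀ (Q : Ideal C) (hQ : Q.IsPrime) (a : PrimeSpectrum C) (hQa : Q ≤ a.asIdeal),
      ∃ b : PrimeSpectrum (C ⧸ Q), b.asIdeal = a.asIdeal.map (Ideal.Quotient.mk Q) :=
    fun Q hQ a hQa => ⟨⟨_, Ideal.map_isPrime_of_surjective Ideal.Quotient.mk_surjective
      (by rw [Ideal.mk_ker]; exact hQa)⟩, rfl⟩
  refine le_antisymm ?_ ?_
  · show P₀.asIdeal.height ≤ c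
    rw [P₀.height_eq_orderHeight]
    refine Order.height_le fun p hp => ?_
    haveI := p.head.isPrime
    obtain ⟨Q, hQ, hle⟩ := Ideal.exists_minimalPrimes_le (J := p.head.asIdeal) bot_le
    haveI := hQ.1.1
    have hge : ∀ i, Q ≤ (p i).asIdeal := fun i =>
      hle.trans (PrimeSpectrum.asIdeal_le_asIdeal _ _ |>.2 (p.monotone (Fin.zero_le i)))
    have hQP : Q ≤ P := by
      have := hge (Fin.last _)
      rwa [show p (Fin.last _) = P₀ from hp] at this
    choose f hf using fun i => key Q hQ.1.1 (p i) (hge i)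
    have hc : ∀ i, (f i).asIdeal.comap (Ideal.Quotient.mk Q) = (p i).asIdeal := fun i => by
      rw [hf, Ideal.comap_map_of_surjective _ Ideal.Quotient.mk_surjective, ← RingHom.ker_eq_comap_bot,
        Ideal.mk_ker, sup_eq_left.2 (hge i)]
    let p' : LTSeries (PrimeSpectrum (C ⧸ Q)) := LTSeries.mk p.length f (by
      intro i j hij
      refine lt_of_le_of_ne ?_ fun e => (p.strictMono hij).ne (PrimeSpectrum.ext ?_)
      · rw [← PrimeSpectrum.asIdeal_le_asIdeal, hf, hf]
        exact Ideal.map_mono (PrimeSpectrum.asIdeal_le_asIdeal _ _ |>.2 (p.monotone hij.le))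
      · rw [← hc i, ← hc j, e])
    haveI : (P.map (Ideal.Quotient.mk Q)).IsPrime :=
      Ideal.map_isPrime_of_surjective Ideal.Quotient.mk_surjective (by rwa [Ideal.mk_ker])
    have hlast : f (Fin.last _) = ⟨P.map (Ideal.Quotient.mk Q), inferInstance⟩ := by
      refine PrimeSpectrum.ext ?_
      rw [hf, show p (Fin.last _) = P₀ from hp]
    rw [← h Q hQ hQP, (PrimeSpectrum.mk (P.map (Ideal.Quotient.mk Q)) inferInstance).height_eq_orderHeight]
    exact Order.length_le_height (p := p') (le_of_eq hlast)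
  · obtain ⟨Q, hQ, hle⟩ := Ideal.exists_minimalPrimes_le (J := P) bot_le
    haveI := hQ.1.1
    haveI : (P.map (Ideal.Quotient.mk Q)).IsPrime :=
      Ideal.map_isPrime_of_surjective Ideal.Quotient.mk_surjective (by rwa [Ideal.mk_ker])
    let b : PrimeSpectrum (C ⧸ Q) := ⟨P.map (Ideal.Quotient.mk Q), inferInstance⟩
    rw [← h Q hQ hle]
    show b.asIdeal.height ≤ P₀.asIdeal.height
    rw [b.height_eq_orderHeight, P₀.height_eq_orderHeight]
    have hb : PrimeSpectrum.comap (Ideal.Quotient.mk Q) b = P₀ := PrimeSpectrum.ext (by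
      show (P.map (Ideal.Quotient.mk Q)).comap (Ideal.Quotient.mk Q) = P
      rw [Ideal.comap_map_of_surjective _ Ideal.Quotient.mk_surjective, ← RingHom.ker_eq_comap_bot,
        Ideal.mk_ker, sup_eq_left.2 hle])
    rw [← hb]
    have hmono : Monotone (PrimeSpectrum.comap (Ideal.Quotient.mk Q)) := fun _ _ hac => Ideal.comap_mono hac
    exact Order.height_le_height_apply_of_strictMono _ (hmono.strictMono_of_injective
      (PrimeSpectrum.comap_injective_of_surjective _ Ideal.Quotient.mk_surjective)) _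

/-- `dim (B/I)_P + dim B/P = r` when every minimal prime of `I` below `P` has coheight `r`. -/
theorem dim_add_eq {K B : Type u} [Field K] [CommRing B] [Algebra K B] [Algebra.FiniteType K B]
    (I : Ideal B) (P : Ideal B) [P.IsPrime] (hIP : I ≤ P) (r : ℕ)
    (h : ∀ Q ∈ I.minimalPrimes, Q ≤ P → ringKrullDim (B ⧸ Q) = r) :
    ringKrullDim (Localization.AtPrime P ⧸ I.map (algebraMap B (Localization.AtPrime P))) +
      ringKrullDim (B ⧸ P) = r := by
  let C := B ⧸ I
  let P' : Ideal C := P.map (Ideal.Quotient.mk I)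
  haveI : P'.IsPrime := Ideal.map_isPrime_of_surjective Ideal.Quotient.mk_surjective (by rwa [Ideal.mk_ker])
  have hc : P'.comap (Ideal.Quotient.mk I) = P := by
    rw [Ideal.comap_map_of_surjective _ Ideal.Quotient.mk_surjective, ← RingHom.ker_eq_comap_bot,
      Ideal.mk_ker, sup_eq_left.2 hIP]
  have hM : P.primeCompl.map (Ideal.Quotient.mk I) = P'.primeCompl := by
    ext x
    constructor
    · rintro ⟨y, hy, rfl⟩ hx
      exact hy (hc.le hx)
    · intro hx
      obtain ⟨y, rfl⟩ := Ideal.Quotient.mk_surjective x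
      exact ⟨y, fun hy => hx (Ideal.mem_map_of_mem _ hy), rfl⟩
  haveI : IsLocalization.AtPrime (Localization.AtPrime P ⧸ I.map (algebraMap B (Localization.AtPrime P))) P' := by
    show IsLocalization P'.primeCompl _
    rw [← hM]
    exact inferInstanceAs (IsLocalization (Algebra.algebraMapSubmonoid (B ⧸ I) P.primeCompl) _)
  rw [IsLocalization.AtPrime.ringKrullDim_eq_height P']
  obtain ⟨d, hd⟩ := DimLib.exists_nat_ringKrullDim (k := K) (A := B ⧸ P)
  have hdr : d ≤ r := by
    obtain ⟨Q, hQ, hle⟩ := Ideal.exists_minimalPrimes_le (J := P) hIP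
    have h1 := ringKrullDim_le_of_surjective (Ideal.Quotient.factor hle) (Ideal.Quotient.factor_surjective hle)
    rw [h Q hQ hle, hd] at h1
    exact_mod_cast h1
  have : P'.height = ((r - d : ℕ) : ℕ∞) := by
    refine height_eq_of_minimal P' _ fun Q hQ hle => ?_
    haveI := hQ.1.1
    haveI : (P'.map (Ideal.Quotient.mk Q)).IsPrime :=
      Ideal.map_isPrime_of_surjective Ideal.Quotient.mk_surjective (by rwa [Ideal.mk_ker])
    have hdim := DimLib.height_add_ringKrullDim_quotient (k := K) (A := C ⧸ Q) (P'.map (Ideal.Quotient.mk Q))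
    have e1 : ringKrullDim ((C ⧸ Q) ⧸ P'.map (Ideal.Quotient.mk Q)) = d := by
      rw [ringKrullDim_eq_of_ringEquiv (DoubleQuot.quotQuotEquivQuotOfLE hle),
        ringKrullDim_eq_of_ringEquiv (DoubleQuot.quotQuotEquivQuotOfLE hIP), hd]
    have e2 : ringKrullDim (C ⧸ Q) = r := by
      have hQ' : Q.comap (Ideal.Quotient.mk I) ∈ I.minimalPrimes := by
        have := Ideal.comap_minimalPrimes_eq_of_surjective (f := Ideal.Quotient.mk I)
          Ideal.Quotient.mk_surjective (I := (⊥ : Ideal C))
        rw [← RingHom.ker_eq_comap_bot, Ideal.mk_ker] at this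
        rw [this]
        exact ⟨Q, hQ, rfl⟩
      have hIQ : I ≤ Q.comap (Ideal.Quotient.mk I) := hQ'.1.2
      rw [← h _ hQ' ((Ideal.comap_mono hle).trans hc.le),
        ← ringKrullDim_eq_of_ringEquiv (DoubleQuot.quotQuotEquivQuotOfLE hIQ)]
      exact ringKrullDim_eq_of_ringEquiv (Ideal.quotEquivOfEq
        (Ideal.map_comap_of_surjective _ Ideal.Quotient.mk_surjective Q).symm)
    rw [e1, e2] at hdim
    generalize (P'.map (Ideal.Quotient.mk Q)).height = a at hdim ⊢
    induction a using ENat.recTopCoe with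
    | top =>
      exfalso
      change ((⊤ : ℕ∞) : WithBot ℕ∞) + ((d : ℕ∞) : WithBot ℕ∞) = ((r : ℕ∞) : WithBot ℕ∞) at hdim
      rw [← WithBot.coe_add, top_add, WithBot.coe_eq_coe] at hdim
      exact ENat.top_ne_coe r hdim
    | coe n =>
      norm_cast at hdim
      exact congrArg _ (by omega)
  rw [this, hd]
  norm_cast
  omega

end Groth.Agent.CAlgH.FieldExtFibreDim
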