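import Groth.Agent.CAlgH.Approximation
import Groth.Agent.HenselLib.FPColim
import Mathlib

/-!
# Finitary functors on `CommAlgCat` and henselian pairs with regular completion map
-/

set_option autoImplicit false
set_option linter.style.haveILetI false
universe u

open CategoryTheory

namespace Groth.Agent.CAlgH.FinitaryApprox

open HenselLib FPColim

variable {A : Type u} [CommRing A] (B : Type u) [CommRing B] [Algebra A B]

/-- Finitely presented algebras over `B`, as a diagram of algebras. -/
noncomputable def diag : Obj A B ⥤ CommAlgCat.{u} A where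
  obj j := CommAlgCat.of A j.R
  map f := CommAlgCat.ofHom f.1

/-- The cocone with point `B`. -/
noncomputable def cone : Limits.Cocone (diag (A := A) B) where
  pt := CommAlgCat.of A B
  ι :=
    { app := fun j => CommAlgCat.ofHom j.ev
      naturality := fun i j f => by
        refine CommAlgCat.hom_ext (AlgHom.ext fun x => ?_)
        exact Obj.hom_ev f x }

/-- `B` is the colimit. -/
theorem exists_isColimit : Nonempty (Limits.IsColimit (cone (A := A) B)) := by
  obtain ⟨hc⟩ := FPColim.exists_isColimit (A := A) (B := B)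
  exact ⟨Limits.isColimitOfReflects (commAlgCatEquivUnder (CommRingCat.of A)).functor hc⟩

variable (F : CommAlgCat.{u} A ⥤ Type u) [Limits.PreservesFilteredColimitsOfSize.{u, u} F]

/-- An element over `B` comes from a finitely presented algebra. -/
theorem exists_descend (ξ : F.obj (CommAlgCat.of A B)) :
    ∃ (j : Obj A B) (x : F.obj (CommAlgCat.of A j.R)), F.map (CommAlgCat.ofHom j.ev) x = ξ := by
  haveI := FPColim.isFiltered (A := A) (B := B)
  obtain ⟨hc⟩ := exists_isColimit (A := A) B
  obtain ⟨j, x, hx⟩ := Limits.Types.jointly_surjective_of_isColimit (Limits.isColimitOfPreserves F hc) ξ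
  exact ⟨j, x, hx⟩

/-- Elements over the base with equal images over `B` agree over a finitely presented algebra. -/
theorem exists_descend_eq (x y : F.obj (CommAlgCat.of A A))
    (h : F.map (CommAlgCat.ofHom (Algebra.ofId A B)) x = F.map (CommAlgCat.ofHom (Algebra.ofId A B)) y) :
    ∃ k : Obj A B, F.map (CommAlgCat.ofHom (Algebra.ofId A k.R)) x =
      F.map (CommAlgCat.ofHom (Algebra.ofId A k.R)) y := by
  haveI := FPColim.isFiltered (A := A) (B := B)
  obtain ⟨hc⟩ := exists_isColimit (A := A) B
  obtain ⟨j, -⟩ := exists_obj_base (A := A) (B := B)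
  have hB : CommAlgCat.ofHom (Algebra.ofId A B) =
      CommAlgCat.ofHom (Algebra.ofId A j.R) ≫ CommAlgCat.ofHom j.ev :=
    CommAlgCat.hom_ext (Subsingleton.elim _ _)
  rw [hB, Functor.map_comp_apply, Functor.map_comp_apply] at h
  obtain ⟨k, f, g, hfg⟩ := (Limits.Types.FilteredColimit.isColimit_eq_iff (diag B ⋙ F)
    (Limits.isColimitOfPreserves F hc)).1 h
  refine ⟨k, ?_⟩
  have hkey : ∀ (f : j ⟶ k) (z : F.obj (CommAlgCat.of A A)),
      F.map (CommAlgCat.ofHom (Algebra.ofId A k.R)) z =
        F.map (CommAlgCat.ofHom f.1) (F.map (CommAlgCat.ofHom (Algebra.ofId A j.R)) z) := fun f z => by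
    rw [← Functor.map_comp_apply]
    exact congr($(congrArg F.map (CommAlgCat.hom_ext (Subsingleton.elim _ _) :
      CommAlgCat.ofHom (Algebra.ofId A k.R) =
        CommAlgCat.ofHom (Algebra.ofId A j.R) ≫ CommAlgCat.ofHom f.1)) z)
  exact (hkey f x).trans (hfg.trans (hkey g y).symm)

variable [IsNoetherianRing A] (I : Ideal A) [HenselianRing A I]

/-- The two conclusions of Artin approximation for finitary functors. -/
theorem injective_and_lifts (hreg : CAlg.IsRegularHom A (AdicCompletion I A)) :
    Function.Injective (F.map (CommAlgCat.ofHom (Algebra.ofId A (AdicCompletion I A)))) ∧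
    ∀ xbar : F.obj (CommAlgCat.of A (A ⧸ I)),
      (∃ x : F.obj (CommAlgCat.of A A), F.map (CommAlgCat.ofHom (Ideal.Quotient.mkₐ A I)) x = xbar) ↔
      (∃ y : F.obj (CommAlgCat.of A (AdicCompletion I A)),
        F.map (CommAlgCat.ofHom (AdicCompletion.evalOneₐ I)) y = xbar) := by
  haveI : IsNoetherianRing (AdicCompletion I A) := Matlis6.isNoetherianRing_adicCompletion _
  have key : ∀ j : Obj A (AdicCompletion I A), ∃ σ : j.R →ₐ[A] A,
      (Ideal.Quotient.mkₐ A I).comp σ = (AdicCompletion.evalOneₐ I).comp j.ev := by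
    intro j
    haveI : Algebra.FinitePresentation A j.R := Algebra.FinitePresentation.quotient j.fg
    obtain ⟨σ, hσ⟩ := Approximation.exists_point hreg I 0
      ((Ideal.Quotient.factorₐ A (show I ≤ I ^ (0 + 1) by simp)).comp (AdicCompletion.evalOneₐ I)) j.R j.ev
    refine ⟨σ, AlgHom.ext fun x => ?_⟩
    have h1 := congr($hσ x)
    apply_fun Ideal.Quotient.factor (show I ^ (0 + 1) ≤ I by simp) at h1
    obtain ⟨w, hw⟩ := Ideal.Quotient.mk_surjective (AdicCompletion.evalOneₐ I (j.ev x))
    show Ideal.Quotient.mk I (σ x) = AdicCompletion.evalOneₐ I (j.ev x)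
    rw [← hw]
    simp only [AlgHom.comp_apply, Ideal.Quotient.mkₐ_eq_mk, Ideal.Quotient.factor_mk] at h1
    rw [h1, ← hw]
    rfl
  refine ⟨fun x y h => ?_, fun xbar => ⟨?_, ?_⟩⟩
  · obtain ⟨k, hk⟩ := exists_descend_eq (AdicCompletion I A) F x y h
    obtain ⟨σ, -⟩ := key k
    have hid : CommAlgCat.ofHom (Algebra.ofId A k.R) ≫ CommAlgCat.ofHom σ = 𝟙 (CommAlgCat.of A A) :=
      CommAlgCat.hom_ext (Subsingleton.elim _ _)
    have h2 := congrArg (F.map (CommAlgCat.ofHom σ)) hk
    rwa [← Functor.map_comp_apply, ← Functor.map_comp_apply, hid, Functor.map_id_apply,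
      Functor.map_id_apply] at h2
  · rintro ⟨x, rfl⟩
    refine ⟨F.map (CommAlgCat.ofHom (Algebra.ofId A (AdicCompletion I A))) x, ?_⟩
    rw [← Functor.map_comp_apply]
    exact congr($(congrArg F.map (CommAlgCat.hom_ext (Subsingleton.elim _ _) :
      CommAlgCat.ofHom (Algebra.ofId A (AdicCompletion I A)) ≫ CommAlgCat.ofHom (AdicCompletion.evalOneₐ I) =
        CommAlgCat.ofHom (Ideal.Quotient.mkₐ A I))) x)
  · rintro ⟨y, rfl⟩
    obtain ⟨j, x, rfl⟩ := exists_descend (AdicCompletion I A) F y
    obtain ⟨σ, hσ⟩ := key j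
    refine ⟨F.map (CommAlgCat.ofHom σ) x, ?_⟩
    rw [← Functor.map_comp_apply, ← Functor.map_comp_apply]
    exact congr($(congrArg F.map (CommAlgCat.hom_ext hσ :
      CommAlgCat.ofHom σ ≫ CommAlgCat.ofHom (Ideal.Quotient.mkₐ A I) =
        CommAlgCat.ofHom j.ev ≫ CommAlgCat.ofHom (AdicCompletion.evalOneₐ I))) x)

end Groth.Agent.CAlgH.FinitaryApprox
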