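import Groth.Agent.AbSchLib.StageLemmas
import Mathlib.RingTheory.Smooth.NoetherianDescent
import Mathlib.RingTheory.Etale.Basic
import Mathlib

/-!
# Finite etale algebras descend to finite type subrings
-/

set_option autoImplicit false
universe u

open TensorProduct Polynomial

namespace Groth.Agent.CAlgH.FiniteEtaleDescent

theorem map_aeval_tmul {R T T' N : Type u} [CommRing R] [CommRing T] [CommRing T'] [CommRing N] [Algebra R T]
    [Algebra R T'] [Algebra R N] (f : T →ₐ[R] T') (x : N) (Q : T[X]) :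
    Algebra.TensorProduct.map f (AlgHom.id R N) (Polynomial.aeval ((1 : T) ⊗ₜ[R] x) Q) =
      Polynomial.aeval ((1 : T') ⊗ₜ[R] x) (Q.map f.toRingHom) := by
  induction Q using Polynomial.induction_on' with
  | add p q hp hq => simp only [map_add, Polynomial.map_add, hp, hq]
  | monomial i a =>
    simp [Polynomial.aeval_monomial, Algebra.TensorProduct.algebraMap_apply]

theorem isIntegral_of_generators {R T N : Type u} [CommRing R] [CommRing T] [CommRing N] [Algebra R T] [Algebra R N]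
    (s : Set N) (hs : Algebra.adjoin R s = ⊤) (h : ∀ x ∈ s, IsIntegral T ((1 : T) ⊗ₜ[R] x)) :
    Algebra.IsIntegral T (T ⊗[R] N) := by
  have hle : Algebra.adjoin R s ≤
      ((integralClosure T (T ⊗[R] N)).restrictScalars R).comap Algebra.TensorProduct.includeRight :=
    Algebra.adjoin_le h
  refine ⟨fun w => ?_⟩
  induction w using TensorProduct.induction_on with
  | zero => exact isIntegral_zero
  | add a b ha hb => exact ha.add hb
  | tmul a b =>
    rw [show a ⊗ₜ[R] b = algebraMap T (T ⊗[R] N) a * (1 ⊗ₜ b) by simp [Algebra.TensorProduct.algebraMap_apply]]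
    exact isIntegral_algebraMap.mul (hle (hs ▸ Algebra.mem_top : b ∈ Algebra.adjoin R s))

theorem exists_stage_finite (R A N : Type u) [CommRing R] [CommRing A] [CommRing N] [Algebra R A] [Algebra R N]
    [Algebra.FiniteType R N] [Algebra.IsIntegral A (A ⊗[R] N)] :
    ∃ A₁ : Subalgebra R A, A₁.FG ∧ Module.Finite A₁ (A₁ ⊗[R] N) := by
  classical
  obtain ⟨s, hs⟩ := (inferInstance : Algebra.FiniteType R N).out
  choose P hPm hP using fun x : N => Algebra.IsIntegral.isIntegral (R := A) ((1 : A) ⊗ₜ[R] x)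
  let A₁ : Subalgebra R A := Algebra.adjoin R ((s.biUnion fun x => (P x).coeffs : Finset A) : Set A)
  have hA₁ : A₁.FG := Subalgebra.fg_adjoin_finset _
  have hlift : ∀ x ∈ s, ∃ Q : A₁[X], Q.map A₁.val.toRingHom = P x ∧ Q.Monic := by
    intro x hx
    obtain ⟨Q, hQ, -, hQm⟩ := lifts_and_natDegree_eq_and_monic ((Polynomial.lifts_iff_coeff_lifts (P x)).mpr fun i => by
      by_cases hi : (P x).coeff i = 0
      · exact ⟨0, by rw [map_zero, hi]⟩
      · exact ⟨⟨_, Algebra.subset_adjoin (Finset.mem_biUnion.2 ⟨x, hx, Polynomial.coeff_mem_coeffs hi⟩)⟩, rfl⟩ :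
        P x ∈ Polynomial.lifts A₁.val.toRingHom) (hPm x)
    exact ⟨Q, hQ, hQm⟩
  choose Q hQ hQm using hlift
  let z : N → A₁ ⊗[R] N := fun x => if hx : x ∈ s then Polynomial.aeval ((1 : A₁) ⊗ₜ[R] x) (Q x hx) else 0
  have hz : ∀ x ∈ s, AbSchLib.stageVal N A₁ (z x) = AbSchLib.stageVal N A₁ ((fun _ => 0) x) := by
    intro x hx
    rw [map_zero]
    simp only [z, dif_pos hx]
    rw [map_aeval_tmul, hQ x hx]
    exact hP x
  obtain ⟨A₂, hle, hA₂, hz2⟩ := AbSchLib.exists_stage_eq s hA₁ z (fun _ => 0) hz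
  refine ⟨A₂, hA₂, ?_⟩
  haveI : Algebra.IsIntegral A₂ (A₂ ⊗[R] N) := isIntegral_of_generators (s : Set N) hs fun x hx => by
    refine ⟨(Q x hx).map (Subalgebra.inclusion hle).toRingHom, (hQm x hx).map _, ?_⟩
    have h2 := hz2 x hx
    simp only [z, map_zero] at h2
    rw [dif_pos (Finset.mem_coe.mp hx)] at h2
    rw [map_aeval_tmul] at h2
    exact h2
  exact Algebra.IsIntegral.finite

theorem exists_finite_etale_model (k A B : Type u) [CommRing k] [CommRing A] [CommRing B] [Algebra k A]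
    [Algebra A B] [Module.Finite A B] [Algebra.Etale A B] :
    ∃ (A₁ : Type u) (_ : CommRing A₁) (_ : Algebra k A₁) (_ : Algebra.FiniteType k A₁) (φ : A₁ →ₐ[k] A)
      (B₁ : Type u) (_ : CommRing B₁) (_ : Algebra A₁ B₁),
      Module.Finite A₁ B₁ ∧ Algebra.Etale A₁ B₁ ∧ ∃ θ : B₁ →+* B,
        (∀ a, θ (algebraMap A₁ B₁ a) = algebraMap A B (φ a)) ∧
        ∀ S : Subalgebra A B, Set.range θ ⊆ S → S = ⊤ := by
  obtain ⟨A₀, B₀, _, _, hA₀, _, ⟨e⟩⟩ := Algebra.Etale.exists_subalgebra_fg k A B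
  haveI : Module.Finite A (A ⊗[A₀] B₀) := Module.Finite.equiv e.toLinearEquiv
  haveI : Algebra.IsIntegral A (A ⊗[A₀] B₀) := Algebra.IsIntegral.of_finite _ _
  obtain ⟨A₂, hA₂, hfin⟩ := exists_stage_finite A₀ A B₀
  haveI : Algebra.FiniteType k A₀ := (Subalgebra.fg_iff_finiteType A₀).mp hA₀
  haveI : Algebra.FiniteType A₀ A₂ := (Subalgebra.fg_iff_finiteType A₂).mp hA₂
  haveI : Algebra.FiniteType k A₂ := Algebra.FiniteType.trans (S := A₀) inferInstance inferInstance
  refine ⟨A₂, inferInstance, inferInstance, inferInstance, A₂.val.restrictScalars k, A₂ ⊗[A₀] B₀, inferInstance,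
    inferInstance, hfin, inferInstance,
    e.symm.toRingEquiv.toRingHom.comp (AbSchLib.stageVal B₀ A₂).toRingHom, fun a => ?_, fun S hS => ?_⟩
  · show e.symm (AbSchLib.stageVal B₀ A₂ (algebraMap A₂ (A₂ ⊗[A₀] B₀) a)) = _
    rw [show AbSchLib.stageVal B₀ A₂ (algebraMap A₂ (A₂ ⊗[A₀] B₀) a) = algebraMap A (A ⊗[A₀] B₀) (a : A) by
      simp [Algebra.TensorProduct.algebraMap_apply]]
    exact e.symm.commutes _
  · rw [eq_top_iff]
    intro b _
    suffices h : ∀ w : A ⊗[A₀] B₀, e.symm w ∈ S by simpa using h (e b)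
    intro w
    induction w using TensorProduct.induction_on with
    | zero => simp
    | add x y hx hy => rw [map_add]; exact add_mem hx hy
    | tmul a y =>
      rw [show a ⊗ₜ[A₀] y = algebraMap A (A ⊗[A₀] B₀) a * ((1 : A) ⊗ₜ y) by simp [Algebra.TensorProduct.algebraMap_apply],
        map_mul, e.symm.commutes]
      refine mul_mem (Subalgebra.algebraMap_mem _ a) (hS ⟨(1 : A₂) ⊗ₜ y, ?_⟩)
      simp

end Groth.Agent.CAlgH.FiniteEtaleDescent
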