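import Groth.Agent.EGA43.PdFlat.Tor
import Groth.Agent.CAlgH3.TorBridge
import Mathlib.RingTheory.Localization.BaseChange
import Mathlib.RingTheory.LocalRing.ResidueField.Ideal

/-!
# Tor dimension is detected by the residue fields
-/

universe u

set_option autoImplicit false

open TensorProduct CategoryTheory CategoryTheory.Limits Function

namespace Groth.Agent.CAlgH.TorFibres

variable {R : Type u} [CommRing R]

theorem isLocalizedModule_residueField (p : Ideal R) [p.IsPrime] :
    IsLocalizedModule p.primeCompl
      (IsScalarTower.toAlgHom R (R ⧸ p) p.ResidueField).toLinearMap := by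
  rw [isLocalizedModule_iff_isLocalization]
  have h : Algebra.algebraMapSubmonoid (R ⧸ p) p.primeCompl = nonZeroDivisors (R ⧸ p) := by
    ext x
    obtain ⟨x, rfl⟩ := Ideal.Quotient.mk_surjective x
    rw [mem_nonZeroDivisors_iff_ne_zero, Ne, Ideal.Quotient.eq_zero_iff_mem]
    constructor
    · rintro ⟨y, hy, hxy⟩ hx
      exact hy (Ideal.Quotient.eq_zero_iff_mem.1 (hxy.trans (Ideal.Quotient.eq_zero_iff_mem.2 hx)))
    · exact fun hx => ⟨x, hx, rfl⟩
  rw [h]
  exact (inferInstance : IsFractionRing (R ⧸ p) p.ResidueField)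

/-- `(R/p) ⊗ L → k(p) ⊗ L` is injective when all elements outside `p` act injectively. -/
theorem injective_toResidueField {L : Type u} [AddCommGroup L] [Module R L] (p : Ideal R) [p.IsPrime]
    (h : ∀ f ∉ p, Injective fun z : (R ⧸ p) ⊗[R] L => f • z) :
    Injective ((IsScalarTower.toAlgHom R (R ⧸ p) p.ResidueField).toLinearMap.rTensor L) := by
  have := isLocalizedModule_residueField p
  have hloc : IsLocalizedModule p.primeCompl
      ((IsScalarTower.toAlgHom R (R ⧸ p) p.ResidueField).toLinearMap.rTensor L) :=
    inferInstanceAs (IsLocalizedModule p.primeCompl (AlgebraTensorModule.rTensor R L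
      (IsScalarTower.toAlgHom R (R ⧸ p) p.ResidueField).toLinearMap))
  intro x y hxy
  obtain ⟨⟨f, hf⟩, hc⟩ := (IsLocalizedModule.eq_iff_exists p.primeCompl _).1 hxy
  exact h f hf hc

/-- The prime step: `Tor₁(R/p, L) = 0`. -/
theorem torVanish_prime {L K F : Type u} [AddCommGroup L] [Module R L] [AddCommGroup K] [Module R K]
    [AddCommGroup F] [Module R F] [Module.Flat R F] (i : K →ₗ[R] F) (q : F →ₗ[R] L)
    (hiq : Exact i q) (hq : Surjective q) (hi : Injective i) (p : Ideal R) [p.IsPrime]
    (hL : FlatCrit.TorVanish R L p.ResidueField)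
    (hK : ∀ J : Ideal R, p < J → FlatCrit.TorVanish R K (R ⧸ J)) :
    FlatCrit.TorVanish R L (R ⧸ p) := by
  let ι := (IsScalarTower.toAlgHom R (R ⧸ p) p.ResidueField).toLinearMap
  have htf : ∀ f ∉ p, Injective fun z : (R ⧸ p) ⊗[R] K => f • z := fun f hf => by
    have hlt : p < p ⊔ Ideal.span {f} := by
      refine lt_of_le_of_ne le_sup_left fun h => hf ?_
      rw [h]
      exact Ideal.mem_sup_right (Ideal.mem_span_singleton_self f)
    let m : (R ⧸ p) →ₗ[R] (R ⧸ p) := f • LinearMap.id
    have hex : Exact m (Submodule.factor (le_sup_left : p ≤ p ⊔ Ideal.span {f})) := by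
      intro x
      obtain ⟨x, rfl⟩ := Submodule.Quotient.mk_surjective p x
      rw [← Submodule.mkQ_apply, Submodule.factor_mk, Submodule.mkQ_apply,
        Submodule.Quotient.mk_eq_zero]
      constructor
      · intro hx
        obtain ⟨a, ha, b, hb, rfl⟩ := Submodule.mem_sup.1 hx
        obtain ⟨c, rfl⟩ := Ideal.mem_span_singleton'.1 hb
        refine ⟨Submodule.Quotient.mk c, ?_⟩
        show f • Submodule.Quotient.mk c = (Submodule.Quotient.mk (a + c * f) : R ⧸ p)
        rw [← Submodule.Quotient.mk_smul, Submodule.Quotient.eq, smul_eq_mul]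
        simpa [mul_comm] using p.neg_mem ha
      · rintro ⟨y, hy⟩
        obtain ⟨y, rfl⟩ := Submodule.Quotient.mk_surjective p y
        have h2 : f • Submodule.Quotient.mk y = (Submodule.Quotient.mk x : R ⧸ p) := hy
        rw [← Submodule.Quotient.mk_smul, Submodule.Quotient.eq] at h2
        have : x = f * y - (f • y - x) := by simp
        rw [this]
        exact sub_mem (Ideal.mem_sup_right (Ideal.mul_mem_right _ _ (Ideal.mem_span_singleton_self f)))
          (Ideal.mem_sup_left h2)
    have hm : Injective m := fun x y hxy => by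
      obtain ⟨x, rfl⟩ := Submodule.Quotient.mk_surjective p x
      obtain ⟨y, rfl⟩ := Submodule.Quotient.mk_surjective p y
      have h2 : f • Submodule.Quotient.mk x = f • (Submodule.Quotient.mk y : R ⧸ p) := hxy
      rw [← Submodule.Quotient.mk_smul, ← Submodule.Quotient.mk_smul, Submodule.Quotient.eq] at h2
      rw [Submodule.Quotient.eq]
      exact ((‹p.IsPrime›.mem_or_mem (by simpa [mul_sub] using h2)).resolve_left hf)
    have h := hK _ hlt m _ hex (Submodule.factor_surjective _) hm
    have heq : ∀ z : (R ⧸ p) ⊗[R] K, m.rTensor K z = f • z := fun z => by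
      simp [m, LinearMap.rTensor_smul]
    intro x y hxy
    exact h (by rw [heq, heq]; exact hxy)
  have h1 : Injective (i.rTensor p.ResidueField) := Tor15.torVanish_symm hL i q hiq hq hi
  have h2 : Injective (i.lTensor p.ResidueField ∘ ι.rTensor K) :=
    ((LinearMap.lTensor_inj_iff_rTensor_inj _ i).2 h1).comp (injective_toResidueField p htf)
  rw [← LinearMap.coe_comp, LinearMap.lTensor_comp_rTensor, ← LinearMap.rTensor_comp_lTensor,
    LinearMap.coe_comp] at h2
  exact Tor15.torVanish_symm (FlatCrit.TorVanish.of_presentation i q hiq hq Tor15.torVanish_of_flat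
    ((LinearMap.lTensor_inj_iff_rTensor_inj _ i).1 h2.of_comp))

/-- A family of syzygies with vanishing `Tor₁` against all residue fields consists of flat modules. -/
theorem flat_of_residueFields [IsNoetherianRing R] (L F : ℕ → Type u) [∀ j, AddCommGroup (L j)]
    [∀ j, Module R (L j)] [∀ j, AddCommGroup (F j)] [∀ j, Module R (F j)] [∀ j, Module.Flat R (F j)]
    (i : ∀ j, L (j + 1) →ₗ[R] F j) (q : ∀ j, F j →ₗ[R] L j) (hiq : ∀ j, Exact (i j) (q j))
    (hq : ∀ j, Surjective (q j)) (hi : ∀ j, Injective (i j))
    (h : ∀ j (x : Ideal R) [x.IsPrime], FlatCrit.TorVanish R (L j) x.ResidueField) :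
    ∀ j, Module.Flat R (L j) := by
  have key : ∀ I : Ideal R, ∀ j, FlatCrit.TorVanish R (L j) (R ⧸ I) := by
    intro I
    induction I using WellFoundedGT.induction with
    | ind I ih =>
      intro j
      by_cases htop : I = ⊤
      · subst htop
        intro A B _ _ _ _ a b hab hb ha
        have hz : ∀ y : B, b y = 0 := fun y => Subsingleton.elim _ _
        have hsurj : Surjective a := fun y => (hab y).1 (hz y)
        exact ((LinearEquiv.ofBijective a ⟨ha, hsurj⟩).rTensor (L j)).injective
      by_cases hp : I.IsPrime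
      · exact torVanish_prime (i j) (q j) (hiq j) (hq j) (hi j) I (h j I) fun J hJ => ih J hJ (j + 1)
      obtain ⟨a, ha, b, hb, hab⟩ := (Ideal.not_isPrime_iff.1 hp).resolve_left htop
      let J : Ideal R := I.colon {a}
      have hJ : I < J := lt_of_le_of_ne
        (fun x hx => Submodule.mem_colon_singleton.2 (I.mul_mem_right a hx)) fun e => hb (by
          rw [e]; exact Submodule.mem_colon_singleton.2 (by rwa [smul_eq_mul, mul_comm]))
      have hJ' : I < I ⊔ Ideal.span {a} := lt_of_le_of_ne le_sup_left fun e =>
        ha (e ▸ Ideal.mem_sup_right (Ideal.mem_span_singleton_self a))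
      let N' : Submodule R (R ⧸ I) := Submodule.map I.mkQ (I ⊔ Ideal.span {a})
      let φ : R →ₗ[R] (R ⧸ I) := I.mkQ ∘ₗ LinearMap.toSpanSingleton R R a
      have hker : LinearMap.ker φ = J := by
        ext x
        simp [φ, J, Submodule.mem_colon_singleton, Submodule.Quotient.mk_eq_zero,
          LinearMap.toSpanSingleton_apply, mul_comm, ← map_mul, Ideal.Quotient.eq_zero_iff_mem]
      have hrange : LinearMap.range φ = N' := by
        rw [LinearMap.range_comp, LinearMap.range_toSpanSingleton]
        show _ = Submodule.map I.mkQ (I ⊔ Ideal.span {a})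
        rw [Submodule.map_sup, Submodule.mkQ_map_self, bot_sup_eq]
      refine FlatCrit.TorVanish.extension N'
        ((ih J hJ j).of_linearEquiv ?_) ((ih _ hJ' j).of_linearEquiv ?_)
      · exact (Submodule.quotEquivOfEq _ _ hker.symm).trans
          (φ.quotKerEquivRange.trans (LinearEquiv.ofEq _ _ hrange))
      · exact (Submodule.quotientQuotientEquivQuotient _ _ le_sup_left).symm
  intro j
  rw [Module.Flat.iff_rTensor_injective']
  intro I
  exact key I j I.subtype I.mkQ (LinearMap.exact_subtype_mkQ I) I.mkQ_surjective I.injective_subtype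

theorem torDimLE_of_residueFields [IsNoetherianRing R] (M : ModuleCat.{u} R) (n : ℕ)
    (h : ∀ (x : Ideal R) [x.IsPrime] (i : ℕ), n < i →
      IsZero (((Tor (ModuleCat.{u} R) i).obj (ModuleCat.of R x.ResidueField)).obj M))
    (N : ModuleCat.{u} R) (i : ℕ) (hi : n < i) :
    IsZero (((Tor (ModuleCat.{u} R) i).obj N).obj M) := by
  let Pr := projectiveResolution M
  let d : ∀ m, Pr.complex.X (m + 1) →ₗ[R] Pr.complex.X m := fun m => (Pr.complex.d (m + 1) m).hom
  let q₀ : Pr.complex.X 0 →ₗ[R] M := (Pr.π.f 0).hom
  have hflat : ∀ m, Module.Flat R (Pr.complex.X m) := fun m => by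
    have : Module.Projective R (Pr.complex.X m) := (IsProjective.iff_projective _).2 (Pr.projective m)
    infer_instance
  have hq₀ : Surjective q₀ := (ModuleCat.epi_iff_surjective (Pr.π.f 0)).1 inferInstance
  have hd₀ : LinearMap.range (d 0) = LinearMap.ker q₀ :=
    (ShortComplex.exact_of_g_is_cokernel (ShortComplex.mk _ _ Pr.complex_d_comp_π_f_zero)
      Pr.isColimitCokernelCofork).moduleCat_range_eq_ker
  have hd : ∀ m, LinearMap.range (d (m + 1)) = LinearMap.ker (d m) := fun m =>
    (Pr.exact_succ m).moduleCat_range_eq_ker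
  have hT : ∀ (X : ModuleCat.{u} R) (k : ℕ),
      IsZero (((Tor (ModuleCat.{u} R) (k + 2)).obj X).obj M) ↔
        FlatCrit.TorVanish R (LinearMap.range (d k)) X := by
    intro X k
    let F₁ := (MonoidalCategory.tensoringLeft (ModuleCat.{u} R)).obj X
    have e := Pr.isoLeftDerivedObj F₁ (k + 2)
    rw [show ((Tor (ModuleCat.{u} R) (k + 2)).obj X).obj M = (F₁.leftDerived (k + 2)).obj M from rfl,
      Iso.isZero_iff e, HomologicalComplex.homologyFunctor_obj,
      ← HomologicalComplex.exactAt_iff_isZero_homology,
      HomologicalComplex.exactAt_iff' _ (k + 3) (k + 2) (k + 1) (by simp) (by simp),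
      ShortComplex.moduleCat_exact_iff_range_eq_ker]
    exact ((EGA43.PdFlat.torVanish_iff_exact (M := X) (d (k + 2)) (d (k + 1)) (d k) (hd (k + 1))
      (hd k)).symm).trans ⟨Tor15.torVanish_symm, Tor15.torVanish_symm⟩
  have hseq : ∀ m, Exact (LinearMap.range (d (m + 1))).subtype (d m).rangeRestrict := fun m => by
    rw [LinearMap.exact_iff, LinearMap.ker_rangeRestrict, Submodule.range_subtype, hd]
  obtain ⟨k, rfl⟩ : ∃ k, i = k + 1 := ⟨i - 1, by omega⟩
  rcases n with - | n
  · let L : ℕ → ModuleCat.{u} R := fun j => match j with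
      | 0 => M
      | j + 1 => ModuleCat.of R (LinearMap.range (d j))
    let im : ∀ j, L (j + 1) →ₗ[R] Pr.complex.X j := fun j => (LinearMap.range (d j)).subtype
    let qm : ∀ j, Pr.complex.X j →ₗ[R] L j := fun j => match j with
      | 0 => q₀
      | j + 1 => (d j).rangeRestrict
    have hM : Module.Flat R M := by
      refine flat_of_residueFields (fun j => L j) (fun j => Pr.complex.X j) im qm (fun j => ?_)
        (fun j => ?_) (fun j => Submodule.injective_subtype _) (fun j x _ => ?_) 0
      · rcases j with - | j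
        · show Exact (LinearMap.range (d 0)).subtype q₀
          rw [LinearMap.exact_iff, Submodule.range_subtype, hd₀]
        · exact hseq j
      · rcases j with - | j
        · exact hq₀
        · exact LinearMap.surjective_rangeRestrict _
      · rcases j with - | j
        · exact (CAlgH3.isZero_tor_one_iff _ M).1 (h x 1 (by omega))
        · exact (hT _ _).1 (h x _ (by omega))
    rcases k with - | k
    · exact (CAlgH3.isZero_tor_one_iff N M).2 (Tor15.torVanish_symm Tor15.torVanish_of_flat)
    · refine (hT N k).2 ?_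
      have := flat_of_residueFields (fun j => LinearMap.range (d (k + j)))
        (fun j => Pr.complex.X (k + j + 1)) (fun j => (LinearMap.range (d (k + j + 1))).subtype)
        (fun j => (d (k + j)).rangeRestrict) (fun j => hseq _)
        (fun j => LinearMap.surjective_rangeRestrict _) (fun j => Submodule.injective_subtype _)
        (fun j x _ => (hT _ _).1 (h x _ (by omega))) 0
      exact Tor15.torVanish_symm Tor15.torVanish_of_flat
  · obtain ⟨k, rfl⟩ : ∃ k', k = k' + 1 := ⟨k - 1, by omega⟩
    refine (hT N k).2 ?_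
    have := flat_of_residueFields (fun j => LinearMap.range (d (k + j)))
      (fun j => Pr.complex.X (k + j + 1)) (fun j => (LinearMap.range (d (k + j + 1))).subtype)
      (fun j => (d (k + j)).rangeRestrict) (fun j => hseq _)
      (fun j => LinearMap.surjective_rangeRestrict _) (fun j => Submodule.injective_subtype _)
      (fun j x _ => (hT _ _).1 (h x _ (by omega))) 0
    exact Tor15.torVanish_symm Tor15.torVanish_of_flat

end Groth.Agent.CAlgH.TorFibres
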