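import Mathlib
import Groth.Agent.CAlgH.TorFibres

/-! A complex of flat modules over a Noetherian ring is exact when it is exact at all residue fields. -/

universe u
set_option autoImplicit false
open TensorProduct Function

namespace Groth.Agent.CAlgH.FlatComplexFibres

variable {R : Type u} [CommRing R] (F : ℕ → ModuleCat.{u} R) (d : ∀ n, F (n + 1) →ₗ[R] F n)

/-- exactness in all degrees `≥ 1` after tensoring with `X` -/
def ExactWith (X : Type u) [AddCommGroup X] [Module R X] : Prop :=
  ∀ n, ∀ z : X ⊗[R] F (n + 1), (d n).lTensor X z = 0 → z ∈ LinearMap.range ((d (n + 1)).lTensor X)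

variable {F d}

theorem exactWith_congr {X Y : Type u} [AddCommGroup X] [Module R X] [AddCommGroup Y] [Module R Y]
    (e : X ≃ₗ[R] Y) (h : ExactWith F d X) : ExactWith F d Y := by
  intro n z hz
  have hc : ∀ m, ∀ w : Y ⊗[R] F (m + 1),
      (d m).lTensor X (e.symm.toLinearMap.rTensor _ w) = e.symm.toLinearMap.rTensor _ ((d m).lTensor Y w) := by
    intro m w
    rw [← LinearMap.comp_apply, LinearMap.lTensor_comp_rTensor, ← LinearMap.rTensor_comp_lTensor,
      LinearMap.comp_apply]
  obtain ⟨w, hw⟩ := h n (e.symm.toLinearMap.rTensor _ z) (by rw [hc, hz, map_zero])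
  refine ⟨e.toLinearMap.rTensor _ w, ?_⟩
  rw [← LinearMap.comp_apply, LinearMap.lTensor_comp_rTensor, ← LinearMap.rTensor_comp_lTensor,
    LinearMap.comp_apply, hw, ← LinearMap.comp_apply, ← LinearMap.rTensor_comp]
  simp

variable (hdd : ∀ n, (d n).comp (d (n + 1)) = 0)
include hdd

theorem exactWith_extension [∀ n, Module.Flat R (F n)] {X' X X'' : Type u} [AddCommGroup X'] [Module R X']
    [AddCommGroup X] [Module R X] [AddCommGroup X''] [Module R X''] (i : X' →ₗ[R] X) (q : X →ₗ[R] X'')
    (hi : Injective i) (hiq : Exact i q) (hq : Surjective q)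
    (h' : ExactWith F d X') (h'' : ExactWith F d X'') : ExactWith F d X := by
  intro n z hz
  obtain ⟨w'', hw''⟩ := h'' n (q.rTensor _ z) (by
    rw [← LinearMap.comp_apply, LinearMap.lTensor_comp_rTensor, ← LinearMap.rTensor_comp_lTensor,
      LinearMap.comp_apply, hz, map_zero])
  obtain ⟨w, rfl⟩ := LinearMap.rTensor_surjective (F (n + 1 + 1)) hq w''
  have h1 : q.rTensor (F (n + 1)) (z - (d (n + 1)).lTensor X w) = 0 := by
    rw [map_sub, sub_eq_zero, ← LinearMap.comp_apply (q.rTensor _), LinearMap.rTensor_comp_lTensor,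
      ← LinearMap.lTensor_comp_rTensor, LinearMap.comp_apply, hw'']
  obtain ⟨z', hz'⟩ := (rTensor_exact (F (n + 1)) hiq hq _).1 h1
  have h2 : (d n).lTensor X' z' = 0 := by
    apply Module.Flat.rTensor_preserves_injective_linearMap (M := F n) i hi
    rw [map_zero, ← LinearMap.comp_apply, LinearMap.rTensor_comp_lTensor, ← LinearMap.lTensor_comp_rTensor,
      LinearMap.comp_apply, hz', map_sub, hz, ← LinearMap.comp_apply, ← LinearMap.lTensor_comp, hdd n,
      LinearMap.lTensor_zero, LinearMap.zero_apply, sub_zero]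
  obtain ⟨w', hw'⟩ := h' n z' h2
  refine ⟨w + i.rTensor _ w', ?_⟩
  rw [map_add, ← LinearMap.comp_apply ((d (n + 1)).lTensor X), LinearMap.lTensor_comp_rTensor,
    ← LinearMap.rTensor_comp_lTensor, LinearMap.comp_apply, hw', hz', add_sub_cancel]

theorem exactWith_prime [∀ n, Module.Flat R (F n)] (p : Ideal R) [p.IsPrime]
    (hk : ExactWith F d p.ResidueField) (hJ : ∀ J : Ideal R, p < J → ExactWith F d (R ⧸ J)) :
    ExactWith F d (R ⧸ p) := by
  have htors : ∀ f ∉ p, ∀ n, ∀ z : (R ⧸ p) ⊗[R] F (n + 1), (d n).lTensor (R ⧸ p) z = 0 →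
      f • z ∈ LinearMap.range ((d (n + 1)).lTensor (R ⧸ p)) →
      z ∈ LinearMap.range ((d (n + 1)).lTensor (R ⧸ p)) := by
    intro f hf n z hz hfz
    obtain ⟨w, hw⟩ := hfz
    have hlt : p < p ⊔ Ideal.span {f} := lt_of_le_of_ne le_sup_left fun h => hf (by
      rw [h]; exact Ideal.mem_sup_right (Ideal.mem_span_singleton_self f))
    let m : (R ⧸ p) →ₗ[R] (R ⧸ p) := f • LinearMap.id
    have hm : Injective m := fun x y hxy => by
      obtain ⟨x, rfl⟩ := Submodule.Quotient.mk_surjective p x
      obtain ⟨y, rfl⟩ := Submodule.Quotient.mk_surjective p y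
      have h2 : f • Submodule.Quotient.mk x = f • (Submodule.Quotient.mk y : R ⧸ p) := hxy
      rw [← Submodule.Quotient.mk_smul, ← Submodule.Quotient.mk_smul, Submodule.Quotient.eq] at h2
      rw [Submodule.Quotient.eq]
      exact ((‹p.IsPrime›.mem_or_mem (by simpa [mul_sub] using h2)).resolve_left hf)
    let q := Submodule.factor (le_sup_left : p ≤ p ⊔ Ideal.span {f})
    have hex : Exact m q := by
      intro x
      obtain ⟨x, rfl⟩ := Submodule.Quotient.mk_surjective p x
      rw [← Submodule.mkQ_apply, Submodule.factor_mk, Submodule.mkQ_apply, Submodule.Quotient.mk_eq_zero]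
      constructor
      · intro hx
        obtain ⟨a, ha, b, hb, rfl⟩ := Submodule.mem_sup.1 hx
        obtain ⟨c, rfl⟩ := Ideal.mem_span_singleton'.1 hb
        refine ⟨Submodule.Quotient.mk c, ?_⟩
        show f • Submodule.Quotient.mk c = (Submodule.Quotient.mk (a + c * f) : R ⧸ p)
        rw [← Submodule.Quotient.mk_smul, Submodule.Quotient.eq, smul_eq_mul]
        simpa [mul_comm] using p.neg_mem ha
      · rintro ⟨y, hy⟩
        obtain ⟨y, rfl⟩ := Submodule.Quotient.mk_surjective p y
        have h2 : f • Submodule.Quotient.mk y = (Submodule.Quotient.mk x : R ⧸ p) := hy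
        rw [← Submodule.Quotient.mk_smul, Submodule.Quotient.eq] at h2
        have : x = f * y - (f • y - x) := by simp
        rw [this]
        exact sub_mem (Ideal.mem_sup_right (Ideal.mul_mem_right _ _ (Ideal.mem_span_singleton_self f)))
          (Ideal.mem_sup_left h2)
    have hq : Surjective q := Submodule.factor_surjective _
    have hsm : ∀ k, ∀ v : (R ⧸ p) ⊗[R] F k, m.rTensor (F k) v = f • v := fun k v => by
      simp [m, LinearMap.rTensor_smul]
    have hq0 : ∀ k, ∀ v : (R ⧸ p) ⊗[R] F k, q.rTensor (F k) (f • v) = 0 := fun k v =>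
      (rTensor_exact (F k) hex hq _).2 ⟨v, hsm k v⟩
    obtain ⟨v', hv'⟩ := hJ _ hlt (n + 1) (q.rTensor _ w) (by
      rw [← LinearMap.comp_apply, LinearMap.lTensor_comp_rTensor, ← LinearMap.rTensor_comp_lTensor,
        LinearMap.comp_apply, hw, hq0])
    obtain ⟨v, rfl⟩ := LinearMap.rTensor_surjective (F (n + 1 + 1 + 1)) hq v'
    have h1 : q.rTensor (F (n + 1 + 1)) (w - (d (n + 1 + 1)).lTensor (R ⧸ p) v) = 0 := by
      rw [map_sub, sub_eq_zero, ← LinearMap.comp_apply (q.rTensor _), LinearMap.rTensor_comp_lTensor,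
        ← LinearMap.lTensor_comp_rTensor, LinearMap.comp_apply, hv']
    obtain ⟨w', hw'⟩ := (rTensor_exact _ hex hq _).1 h1
    refine ⟨w', ?_⟩
    apply Module.Flat.rTensor_preserves_injective_linearMap (M := F (n + 1)) m hm
    rw [hsm, hsm, ← map_smul, ← hsm, hw', map_sub, hw, ← LinearMap.comp_apply, ← LinearMap.lTensor_comp,
      hdd, LinearMap.lTensor_zero, LinearMap.zero_apply, sub_zero]
  intro n z hz
  let ι := (IsScalarTower.toAlgHom R (R ⧸ p) p.ResidueField).toLinearMap
  have := TorFibres.isLocalizedModule_residueField p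
  have hloc : ∀ k, IsLocalizedModule p.primeCompl (ι.rTensor (F k)) := fun k =>
    inferInstanceAs (IsLocalizedModule p.primeCompl (AlgebraTensorModule.rTensor R (F k) ι))
  obtain ⟨w, hw⟩ := hk n (ι.rTensor _ z) (by
    rw [← LinearMap.comp_apply, LinearMap.lTensor_comp_rTensor, ← LinearMap.rTensor_comp_lTensor,
      LinearMap.comp_apply, hz, map_zero])
  obtain ⟨⟨w', ⟨g, hg⟩⟩, hw'⟩ := (hloc (n + 1 + 1)).surj w
  have h1 : ι.rTensor (F (n + 1)) ((d (n + 1)).lTensor _ w') = ι.rTensor (F (n + 1)) (g • z) := by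
    rw [map_smul, ← hw, ← LinearMap.comp_apply (ι.rTensor _), LinearMap.rTensor_comp_lTensor,
      ← LinearMap.lTensor_comp_rTensor, LinearMap.comp_apply]
    show (d (n + 1)).lTensor _ (ι.rTensor _ w') = _
    rw [← hw', ← map_smul]
    rfl
  obtain ⟨⟨h, hh⟩, hc⟩ := ((hloc (n + 1)).eq_iff_exists (S := p.primeCompl)).1 h1
  refine htors (h * g) (‹p.IsPrime›.mul_notMem hh hg) n z hz ⟨h • w', ?_⟩
  rw [map_smul, mul_smul]
  exact hc

/-- A complex of flat modules, exact after `⊗ k(x)` for all primes `x`, is exact. -/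
theorem exact_of_residueFields [IsNoetherianRing R] [∀ n, Module.Flat R (F n)]
    (h : ∀ (x : Ideal R) [x.IsPrime], ExactWith F d x.ResidueField) (n : ℕ) :
    Exact (d (n + 1)) (d n) := by
  have key : ∀ I : Ideal R, ExactWith F d (R ⧸ I) := by
    intro I
    induction I using WellFoundedGT.induction with
    | ind I ih =>
      by_cases htop : I = ⊤
      · subst htop
        intro n z _
        haveI : Subsingleton ((R ⧸ (⊤ : Ideal R)) ⊗[R] F (n + 1)) := inferInstance
        exact ⟨0, Subsingleton.elim _ _⟩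
      by_cases hp : I.IsPrime
      · exact exactWith_prime hdd I (h I) ih
      obtain ⟨a, ha, b, hb, hab⟩ := (Ideal.not_isPrime_iff.1 hp).resolve_left htop
      let J : Ideal R := I.colon {a}
      have hJ : I < J := lt_of_le_of_ne
        (fun x hx => Submodule.mem_colon_singleton.2 (I.mul_mem_right a hx)) fun e => hb (by
          rw [e]; exact Submodule.mem_colon_singleton.2 (by rwa [smul_eq_mul, mul_comm]))
      have hJ' : I < I ⊔ Ideal.span {a} := lt_of_le_of_ne le_sup_left fun e =>
        ha (e ▸ Ideal.mem_sup_right (Ideal.mem_span_singleton_self a))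
      let N' : Submodule R (R ⧸ I) := Submodule.map I.mkQ (I ⊔ Ideal.span {a})
      let φ : R →ₗ[R] (R ⧸ I) := I.mkQ ∘ₗ LinearMap.toSpanSingleton R R a
      have hker : LinearMap.ker φ = J := by
        ext x
        simp [φ, J, Submodule.mem_colon_singleton, Submodule.Quotient.mk_eq_zero,
          LinearMap.toSpanSingleton_apply, mul_comm, ← map_mul, Ideal.Quotient.eq_zero_iff_mem]
      have hrange : LinearMap.range φ = N' := by
        rw [LinearMap.range_comp, LinearMap.range_toSpanSingleton]
        show _ = Submodule.map I.mkQ (I ⊔ Ideal.span {a})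
        rw [Submodule.map_sup, Submodule.mkQ_map_self, bot_sup_eq]
      refine exactWith_extension hdd N'.subtype N'.mkQ N'.injective_subtype
        (LinearMap.exact_subtype_mkQ N') N'.mkQ_surjective
        (exactWith_congr ?_ (ih J hJ)) (exactWith_congr ?_ (ih _ hJ'))
      · exact (Submodule.quotEquivOfEq _ _ hker.symm).trans
          (φ.quotKerEquivRange.trans (LinearEquiv.ofEq _ _ hrange))
      · exact (Submodule.quotientQuotientEquivQuotient _ _ le_sup_left).symm
  have hR : ExactWith F d R := exactWith_congr (Submodule.quotEquivOfEqBot (⊥ : Ideal R) rfl) (key ⊥)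
  intro z
  constructor
  · intro hz
    obtain ⟨w, hw⟩ := hR n ((1 : R) ⊗ₜ z) (by rw [LinearMap.lTensor_tmul, hz, tmul_zero])
    refine ⟨TensorProduct.lid R _ w, ?_⟩
    have hnat : ∀ v, TensorProduct.lid R (F (n + 1)) ((d (n + 1)).lTensor R v) =
        d (n + 1) (TensorProduct.lid R _ v) := fun v => by
      induction v using TensorProduct.induction_on with
      | zero => simp
      | tmul a b => simp
      | add a b ha hb => simp only [map_add, ha, hb]
    rw [← hnat, hw, TensorProduct.lid_tmul, one_smul]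
  · rintro ⟨w, rfl⟩
    exact LinearMap.congr_fun (hdd n) w

end Groth.Agent.CAlgH.FlatComplexFibres
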