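import Mathlib

/-! A surjection onto a flat algebra which is an iso mod `I` is an iso near the prime. -/

universe u
set_option autoImplicit false

namespace Groth.Agent.CAlgH.FlatKernelModI

/-- `I`-divisible elements of the kernel of a surjection onto a locally flat module lie in `I ·` kernel -/
theorem exists_smul_mem {R S M : Type u} [CommRing R] [CommRing S] [Algebra R S] [AddCommGroup M]
    [Module R M] [Module S M] [IsScalarTower R S M] (P : Submonoid S)
    [Module.Flat R (LocalizedModule P M)] (φ : S →ₗ[S] M) (hφ : Function.Surjective φ)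
    (I : Ideal R) (x : S) (hx : φ x = 0)
    (hxI : ∃ t : P, (t : S) * x ∈ I.map (algebraMap R S)) :
    ∃ v : P, (v : S) * x ∈ I.map (algebraMap R S) * LinearMap.ker φ := by
  classical
  obtain ⟨t, ht⟩ := hxI
  obtain ⟨n, c, g, hsum⟩ := Submodule.mem_span_set'.1 ht
  have hg : ∀ j, ∃ r ∈ I, algebraMap R S r = (g j : S) := fun j => (g j).2
  choose r hrI hr using hg
  let ι : M →ₗ[S] LocalizedModule P M := LocalizedModule.mkLinearMap P M
  have hsum' : (t : S) * x = ∑ j, r j • c j := by
    rw [← hsum]
    exact Finset.sum_congr rfl fun j _ => by rw [smul_eq_mul, Algebra.smul_def, hr, mul_comm]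
  have hrel : ∑ j, r j • ι (φ (c j)) = 0 := by
    simp only [← LinearMap.map_smul_of_tower, ← map_sum, ← hsum']
    rw [← smul_eq_mul, map_smul φ, hx, smul_zero, map_zero]
  obtain ⟨k, a, y, hy, hay⟩ := Module.Flat.isTrivialRelation_of_sum_smul_eq_zero hrel
  have hy' : ∀ i, ∃ w : S, ∃ u : P, (u : S) • y i = ι (φ w) := fun i => by
    obtain ⟨⟨m, u⟩, hm⟩ := IsLocalizedModule.surj P ι (y i)
    obtain ⟨w, rfl⟩ := hφ m
    exact ⟨w, u, hm⟩
  choose w u hu using hy'
  let U : P := ∏ i, u i
  let w' : Fin k → S := fun i => (∏ l ∈ Finset.univ.erase i, (u l : S)) * w i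
  have hU : ∀ i, (U : S) • y i = ι (φ (w' i)) := fun i => by
    have hsplit : (U : S) = (∏ l ∈ Finset.univ.erase i, (u l : S)) * (u i : S) := by
      rw [Finset.prod_erase_mul _ _ (Finset.mem_univ i)]
      exact map_prod P.subtype _ _
    rw [hsplit, mul_smul, hu, show w' i = (∏ l ∈ Finset.univ.erase i, (u l : S)) • w i from rfl,
      map_smul φ, map_smul ι]
  have hz : ∀ j, ∃ v : P, φ ((v : S) • ((U : S) * c j - ∑ i, a j i • w' i)) = 0 := fun j => by
    have h0 : ι (φ ((U : S) * c j - ∑ i, a j i • w' i)) = 0 := by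
      rw [map_sub, map_sub, ← smul_eq_mul, map_smul φ, map_smul ι, show ι (φ (c j)) = _ from hy j, Finset.smul_sum, map_sum, map_sum,
        sub_eq_zero]
      refine Finset.sum_congr rfl fun i _ => ?_
      rw [smul_comm, hU, LinearMap.map_smul_of_tower, LinearMap.map_smul_of_tower]
    obtain ⟨v, hv⟩ := (IsLocalizedModule.eq_zero_iff P ι).1 h0
    exact ⟨v, by rw [map_smul]; exact hv⟩
  choose v hv using hz
  let V : P := ∏ j, v j
  refine ⟨V * U * t, ?_⟩
  have heq : ((V * U * t : P) : S) * x = ∑ j, algebraMap R S (r j) *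
      ((V : S) * ((U : S) * c j - ∑ i, a j i • w' i)) := by
    have h2 : ∑ j, algebraMap R S (r j) * ∑ i, a j i • w' i = 0 := by
      simp only [← Algebra.smul_def, Finset.smul_sum, smul_smul]
      rw [Finset.sum_comm]
      simp only [← Finset.sum_smul, hay, zero_smul, Finset.sum_const_zero]
    rw [Submonoid.coe_mul, Submonoid.coe_mul, mul_assoc, mul_assoc, hsum']
    simp only [mul_sub, Finset.sum_sub_distrib, mul_left_comm (algebraMap R S _) (V : S), ← Finset.mul_sum, h2,
      mul_zero, sub_zero]
    simp only [Algebra.smul_def, Finset.mul_sum]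
    exact Finset.sum_congr rfl fun j _ => by ring
  rw [heq]
  refine Ideal.sum_mem _ fun j _ => Submodule.mul_mem_mul (Ideal.mem_map_of_mem _ (hrI j)) ?_
  rw [LinearMap.mem_ker]
  have hsplit : (V : S) = (∏ l ∈ Finset.univ.erase j, (v l : S)) * (v j : S) := by
    rw [Finset.prod_erase_mul _ _ (Finset.mem_univ j)]
    exact map_prod P.subtype _ _
  rw [hsplit, mul_assoc, ← smul_eq_mul, map_smul φ, ← smul_eq_mul, hv, smul_zero]

theorem exists_bijective {R S S' : Type u} [CommRing R] [CommRing S]
    [CommRing S'] [Algebra R S] [Algebra R S'] [Algebra.FiniteType R S] [Algebra.FinitePresentation R S']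
    (I : Ideal R) (f : S →ₐ[R] S') (hf : Function.Surjective f) (q : Ideal S) [q.IsPrime]
    (hq : I.map (algebraMap R S) ≤ q)
    (hker : ∀ j : S, f j = 0 →
      algebraMap S (Localization.AtPrime q) j ∈ I.map (algebraMap R (Localization.AtPrime q)))
    (hflat : letI : Module S S' := f.toRingHom.toModule
      Module.Flat R (LocalizedModule q.primeCompl S')) :
    ∃ g : S, g ∉ q ∧ Function.Bijective (Localization.awayMap f.toRingHom g) := by
  classical
  letI : Module S S' := f.toRingHom.toModule
  haveI : IsScalarTower R S S' := ⟨fun r s z => by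
    show f (r • s) * z = r • (f s * z)
    rw [map_smul, smul_mul_assoc]⟩
  haveI := hflat
  let K : Ideal S := RingHom.ker f.toRingHom
  have hK : K.FG := by
    obtain ⟨n, g, hg⟩ := Algebra.FiniteType.iff_quotient_mvPolynomial''.1 (inferInstance : Algebra.FiniteType R S)
    have := (Algebra.FinitePresentation.ker_fg_of_mvPolynomial (f.comp g) (hf.comp hg)).map g.toRingHom
    convert this
    show K = Ideal.map g.toRingHom (RingHom.ker (f.toRingHom.comp g.toRingHom))
    rw [← RingHom.comap_ker]
    exact (Ideal.map_comap_of_surjective g.toRingHom hg K).symm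
  let φ : S →ₗ[S] S' :=
    { toFun := f, map_add' := map_add f, map_smul' := fun a b => map_mul f a b }
  have hφK : LinearMap.ker φ = K := rfl
  have hdiv : ∀ x ∈ K, ∃ v : q.primeCompl, (v : S) * x ∈ I.map (algebraMap R S) * K := fun x hx => by
    rw [← hφK]
    refine exists_smul_mem q.primeCompl φ hf I x hx ?_
    have h1 := hker x hx
    rw [IsScalarTower.algebraMap_eq R S (Localization.AtPrime q), ← Ideal.map_map] at h1
    obtain ⟨t, ht, h2⟩ := (IsLocalization.algebraMap_mem_map_algebraMap_iff q.primeCompl _ _ x).1 h1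
    exact ⟨⟨t, ht⟩, h2⟩
  obtain ⟨G, hG⟩ := id hK
  let Kq := K.map (algebraMap S (Localization.AtPrime q))
  have hKq : Kq = ⊥ := by
    refine Submodule.eq_bot_of_le_smul_of_le_jacobson_bot
      (IsLocalRing.maximalIdeal (Localization.AtPrime q)) Kq (hK.map _) ?_ (IsLocalRing.maximalIdeal_le_jacobson _)
    refine Ideal.map_le_iff_le_comap.2 fun x hx => ?_
    obtain ⟨v, hv⟩ := hdiv x hx
    have h3 := Ideal.mem_map_of_mem (algebraMap S (Localization.AtPrime q)) hv
    rw [Ideal.map_mul, map_mul] at h3
    rw [Ideal.mem_comap, smul_eq_mul]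
    refine (Ideal.unit_mul_mem_iff_mem _ (IsLocalization.map_units (Localization.AtPrime q) v)).1 ?_
    refine Ideal.mul_mono_left ?_ h3
    refine (Ideal.map_mono hq).trans ?_
    exact le_of_eq Localization.AtPrime.map_eq_maximalIdeal
  have hkill : ∀ x ∈ K, ∃ v : q.primeCompl, (v : S) * x = 0 := fun x hx =>
    (IsLocalization.map_eq_zero_iff q.primeCompl (Localization.AtPrime q) x).1 (by
      have := Ideal.mem_map_of_mem (algebraMap S (Localization.AtPrime q)) hx
      rwa [show K.map (algebraMap S (Localization.AtPrime q)) = ⊥ from hKq, Ideal.mem_bot] at this)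
  choose! v hv using hkill
  refine ⟨∏ x ∈ G, (v x : S), fun h => ?_, ?_, ?_⟩
  · obtain ⟨x, -, hx⟩ := (‹q.IsPrime›.prod_mem_iff (s := G)).1 h
    exact (v x).2 hx
  · rw [Localization.awayMap_injective_iff]
    intro a ha
    refine ⟨1, ?_⟩
    rw [pow_one]
    have haK : a ∈ Ideal.span (G : Set S) := by rw [hG]; exact ha
    clear ha
    induction haK using Submodule.span_induction with
    | mem x hx =>
      rw [← Finset.prod_erase_mul _ _ (Finset.mem_coe.1 hx), mul_assoc, hv x (hG ▸ Submodule.subset_span hx), mul_zero]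
    | zero => rw [mul_zero]
    | add x y _ _ h1 h2 => rw [mul_add, h1, h2, add_zero]
    | smul c x _ h1 => rw [smul_eq_mul, mul_left_comm, h1, mul_zero]
  · rw [Localization.awayMap_surjective_iff]
    intro a
    obtain ⟨b, hb⟩ := hf a
    exact ⟨b, 0, by rw [pow_zero, one_mul]; exact hb⟩

end Groth.Agent.CAlgH.FlatKernelModI
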