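import Groth.Agent.EGA43.FlatDescent.Main
import Mathlib.RingTheory.Extension.Presentation.Core
import Mathlib.RingTheory.TensorProduct.IsBaseChangeRightExact
import Mathlib.RingTheory.TensorProduct.IsBaseChangePi

/-!
# Finite type models over `ℤ` of flat finitely presented modules
-/

universe u

set_option autoImplicit false

open TensorProduct Function

namespace Groth.Agent.CAlgH.FlatModel

attribute [local instance] Algebra.TensorProduct.rightAlgebra

/-- Base change of the cokernel of a matrix. -/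
theorem exists_isBaseChange_coker {P S : Type u} [CommRing P] [CommRing S] [Algebra P S]
    {k l : ℕ} (w₀ : Fin l → Fin k → P) (K : Submodule S (Fin k → S))
    (hK : K = Submodule.span S (Set.range fun i => algebraMap P S ∘ w₀ i)) :
    ∃ g : ((Fin k → P) ⧸ Submodule.span P (Set.range w₀)) →ₗ[P] ((Fin k → S) ⧸ K),
      IsBaseChange S g := by
  let ι : ∀ n : ℕ, (Fin n → P) →ₗ[P] (Fin n → S) := fun n => (Algebra.linearMap P S).compLeft _
  have hι : ∀ n, IsBaseChange S (ι n) := fun n => (IsBaseChange.linearMap P S).finitePow _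
  have hle : Submodule.span P (Set.range w₀) ≤
      LinearMap.ker ((K.mkQ.restrictScalars P) ∘ₗ ι k) := by
    rw [Submodule.span_le]
    rintro _ ⟨i, rfl⟩
    show K.mkQ (ι k (w₀ i)) = 0
    rw [Submodule.mkQ_apply, Submodule.Quotient.mk_eq_zero, hK]
    exact Submodule.subset_span ⟨i, rfl⟩
  refine ⟨Submodule.liftQ _ _ hle, ?_⟩
  let f : (Fin l → P) →ₗ[P] (Fin k → P) := Fintype.linearCombination P w₀
  let f' : (Fin l → S) →ₗ[S] (Fin k → S) :=
    Fintype.linearCombination S fun i => algebraMap P S ∘ w₀ i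
  refine IsBaseChange.of_right_exact S (ι l) (ι k) _ (f := f) (f' := f')
    (g := Submodule.mkQ _) (g' := K.mkQ) ?_ ?_ (hι l) (hι k) ?_ (Submodule.mkQ_surjective _) ?_
    (Submodule.mkQ_surjective _)
  · refine LinearMap.ext fun c => funext fun j => ?_
    simp [f, f', ι, Fintype.linearCombination_apply, Finset.sum_apply, map_sum, Algebra.smul_def]
  · exact Submodule.liftQ_mkQ _ _ hle
  · rw [LinearMap.exact_iff, Submodule.ker_mkQ, Fintype.range_linearCombination]
  · rw [LinearMap.exact_iff, Submodule.ker_mkQ, Fintype.range_linearCombination, hK]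

theorem isPushout_of_equiv {R₁ R P₁ S : Type u} [CommRing R₁] [CommRing R] [CommRing P₁] [CommRing S]
    [Algebra R₁ R] [Algebra R S] [Algebra R₁ P₁] [Algebra P₁ S] [Algebra R₁ S]
    [IsScalarTower R₁ R S] [IsScalarTower R₁ P₁ S] (e : R ⊗[R₁] P₁ ≃ₐ[R] S)
    (he : ∀ p, e (1 ⊗ₜ p) = algebraMap P₁ S p) : Algebra.IsPushout R₁ R P₁ S :=
  Algebra.IsPushout.of_equiv (S' := R ⊗[R₁] P₁) e (RingHom.ext he)

/-- The data produced from a model over a Noetherian ring by descending flatness. -/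
theorem exists_flat_stage (R₁ : Type u) [CommRing R₁] [IsNoetherianRing R₁]
    (hR₁ : Algebra.FiniteType ℤ R₁) {R S M : Type u} [CommRing R] [CommRing S] [Algebra R S]
    [Algebra R₁ R] [AddCommGroup M] [Module S M] [Module R M] [IsScalarTower R S M]
    [Module.Flat R M] [Algebra R₁ S] [IsScalarTower R₁ R S]
    (P₁ : Type u) [CommRing P₁] [Algebra R₁ P₁] [Algebra P₁ S] [IsScalarTower R₁ P₁ S]
    [Algebra.FiniteType R₁ P₁] [Algebra.IsPushout R₁ R P₁ S]
    (M₁ : Type u) [AddCommGroup M₁] [Module P₁ M₁] [Module R₁ M₁] [IsScalarTower R₁ P₁ M₁]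
    [Module.Finite P₁ M₁] [Module P₁ M] [IsScalarTower P₁ S M] (g : M₁ →ₗ[P₁] M)
    (hg : IsBaseChange S g) :
    ∃ (R₀ : Type u) (_ : CommRing R₀) (_ : Algebra R₀ R) (S₀ : Type u) (_ : CommRing S₀)
      (_ : Algebra R₀ S₀) (_ : Algebra S₀ S) (_ : Algebra R₀ S) (_ : IsScalarTower R₀ R S)
      (_ : IsScalarTower R₀ S₀ S) (M₀ : Type u) (_ : AddCommGroup M₀) (_ : Module S₀ M₀)
      (_ : Module R₀ M₀) (_ : IsScalarTower R₀ S₀ M₀) (_ : Module S₀ M) (_ : IsScalarTower S₀ S M)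
      (f : M₀ →ₗ[S₀] M),
      Algebra.FiniteType ℤ R₀ ∧ Algebra.FiniteType R₀ S₀ ∧ Module.Finite S₀ M₀ ∧ Module.Flat R₀ M₀ ∧
        Algebra.IsPushout R₀ R S₀ S ∧ IsBaseChange S f := by
  have : Module.Flat R (R ⊗[R₁] M₁) :=
    Module.Flat.of_linearEquiv ((Algebra.IsPushout.cancelBaseChange R₁ R P₁ S M₁).symm ≪≫ₗ
      hg.equiv.restrictScalars R)
  obtain ⟨B, hB, hflat⟩ := EGA43.FlatDescent.exists_stage_flat (R := R₁) P₁ (M := M₁) (A := R)
  have hBft : Algebra.FiniteType R₁ B := B.fg_iff_finiteType.1 hB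
  let φ : B ⊗[R₁] P₁ →ₐ[R₁] S := Algebra.TensorProduct.lift
    ((IsScalarTower.toAlgHom R₁ R S).comp B.val) (IsScalarTower.toAlgHom R₁ P₁ S)
    fun _ _ => Commute.all _ _
  let _ : Algebra (B ⊗[R₁] P₁) S := φ.toRingHom.toAlgebra
  have : IsScalarTower R₁ (B ⊗[R₁] P₁) S := .of_algebraMap_eq fun a => (φ.commutes a).symm
  have : IsScalarTower B (B ⊗[R₁] P₁) S := .of_algebraMap_eq fun (b : B) => by
    show algebraMap R S (b : R) = φ (b ⊗ₜ 1)
    simp [φ]
  have : IsScalarTower P₁ (B ⊗[R₁] P₁) S := .of_algebraMap_eq fun p => by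
    show algebraMap P₁ S p = φ (1 ⊗ₜ p)
    simp [φ]
  have : Algebra.IsPushout R₁ B P₁ (B ⊗[R₁] P₁) := inferInstance
  have : Algebra.IsPushout B R (B ⊗[R₁] P₁) S :=
    (Algebra.IsPushout.comp_iff (R := R₁) (S := B) (R' := P₁) (S' := B ⊗[R₁] P₁)).1 inferInstance
  let _ : Module (B ⊗[R₁] P₁) M := Module.compHom M (algebraMap (B ⊗[R₁] P₁) S)
  have : IsScalarTower (B ⊗[R₁] P₁) S M := .of_algebraMap_smul fun _ _ => rfl
  have : IsScalarTower P₁ (B ⊗[R₁] P₁) M := .of_algebraMap_smul fun p m => by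
    show algebraMap (B ⊗[R₁] P₁) S (algebraMap P₁ (B ⊗[R₁] P₁) p) • m = p • m
    rw [← IsScalarTower.algebraMap_apply, algebraMap_smul]
  let f : (B ⊗[R₁] P₁) ⊗[P₁] M₁ →ₗ[B ⊗[R₁] P₁] M := g.liftBaseChange _
  refine ⟨B, inferInstance, inferInstance, B ⊗[R₁] P₁, inferInstance, inferInstance, inferInstance,
    inferInstance, inferInstance, inferInstance, (B ⊗[R₁] P₁) ⊗[P₁] M₁, inferInstance,
    inferInstance, inferInstance, inferInstance, inferInstance, inferInstance, f,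
    Algebra.FiniteType.trans hR₁ hBft, inferInstance, inferInstance,
    Module.Flat.of_linearEquiv (Algebra.IsPushout.cancelBaseChange R₁ B P₁ (B ⊗[R₁] P₁) M₁),
    inferInstance, ?_⟩
  refine IsBaseChange.of_comp (TensorProduct.isBaseChange P₁ M₁ (B ⊗[R₁] P₁)) ?_
  convert hg
  ext m
  simp [f]

/-- A flat finitely presented module over a finitely presented algebra comes from a finite flat
module over a finite type algebra over a finite type `ℤ`-algebra. -/
theorem exists_flat_model (R : Type u) [CommRing R] (S : Type u) [CommRing S] [Algebra R S]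
    [Algebra.FinitePresentation R S] (M : Type u) [AddCommGroup M] [Module S M] [Module R M]
    [IsScalarTower R S M] [Module.FinitePresentation S M] [Module.Flat R M] :
    ∃ (R₀ : Type u) (_ : CommRing R₀) (_ : Algebra R₀ R) (S₀ : Type u) (_ : CommRing S₀)
      (_ : Algebra R₀ S₀) (_ : Algebra S₀ S) (_ : Algebra R₀ S) (_ : IsScalarTower R₀ R S)
      (_ : IsScalarTower R₀ S₀ S) (M₀ : Type u) (_ : AddCommGroup M₀) (_ : Module S₀ M₀)
      (_ : Module R₀ M₀) (_ : IsScalarTower R₀ S₀ M₀) (_ : Module S₀ M) (_ : IsScalarTower S₀ S M)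
      (f : M₀ →ₗ[S₀] M),
      Algebra.FiniteType ℤ R₀ ∧ Algebra.FiniteType R₀ S₀ ∧ Module.Finite S₀ M₀ ∧ Module.Flat R₀ M₀ ∧
        Algebra.IsPushout R₀ R S₀ S ∧ IsBaseChange S f := by
  classical
  obtain ⟨k, K, eM, hK⟩ := Module.FinitePresentation.exists_fin S M
  obtain ⟨l, w, hw⟩ := Submodule.fg_iff_exists_fin_generating_family.1 hK
  let Pr := Algebra.Presentation.ofFinitePresentation R S
  let W : Fin l → Fin k → MvPolynomial (Fin (Algebra.Presentation.ofFinitePresentationVars R S)) R :=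
    fun i j => Pr.σ (w i j)
  let cs : Set R := Pr.coeffs ∪ ⋃ i, ⋃ j, ((W i j).coeffs : Set R)
  have hcs : cs.Finite := Pr.finite_coeffs.union
    (Set.finite_iUnion fun i => Set.finite_iUnion fun j => Finset.finite_toSet _)
  have hR₁ : Algebra.FiniteType ℤ (Algebra.adjoin ℤ cs) :=
    (Algebra.adjoin ℤ cs).fg_iff_finiteType.1 (Subalgebra.fg_def.2 ⟨cs, hcs, rfl⟩)
  have : IsNoetherianRing (Algebra.adjoin ℤ cs) := Algebra.FiniteType.isNoetherianRing ℤ _
  have hrange : ∀ c ∈ cs, c ∈ Set.range (algebraMap (Algebra.adjoin ℤ cs) R) := fun c hc =>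
    ⟨⟨c, Algebra.subset_adjoin hc⟩, rfl⟩
  have : Pr.HasCoeffs (Algebra.adjoin ℤ cs) := ⟨fun c hc => hrange c (Or.inl hc)⟩
  let ι := Pr.tensorModelOfHasCoeffsEquiv (Algebra.adjoin ℤ cs)
  let h : Pr.ModelOfHasCoeffs (Algebra.adjoin ℤ cs) →ₐ[Algebra.adjoin ℤ cs] S :=
    (ι.toAlgHom.restrictScalars _).comp Algebra.TensorProduct.includeRight
  let _ : Algebra (Pr.ModelOfHasCoeffs (Algebra.adjoin ℤ cs)) S := h.toRingHom.toAlgebra
  have : IsScalarTower (Algebra.adjoin ℤ cs) (Pr.ModelOfHasCoeffs (Algebra.adjoin ℤ cs)) S :=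
    .of_algebraMap_eq fun a => (h.commutes a).symm
  have : Algebra.IsPushout (Algebra.adjoin ℤ cs) R (Pr.ModelOfHasCoeffs (Algebra.adjoin ℤ cs)) S :=
    isPushout_of_equiv ι fun p => rfl
  have hW : ∀ i j, ∃ p : MvPolynomial _ (Algebra.adjoin ℤ cs),
      MvPolynomial.map (algebraMap (Algebra.adjoin ℤ cs) R) p = W i j := fun i j => by
    rw [← RingHom.mem_range, ← SetLike.mem_coe, RingHom.coe_range,
      MvPolynomial.mem_range_map_iff_coeffs_subset]
    exact fun c hc => hrange c (Or.inr (Set.mem_iUnion.2 ⟨i, Set.mem_iUnion.2 ⟨j, hc⟩⟩))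
  choose W₀ hW₀ using hW
  let w₀ : Fin l → Fin k → Pr.ModelOfHasCoeffs (Algebra.adjoin ℤ cs) :=
    fun i j => Ideal.Quotient.mk _ (W₀ i j)
  have hw₀ : (fun i => algebraMap (Pr.ModelOfHasCoeffs (Algebra.adjoin ℤ cs)) S ∘ w₀ i) = w :=
    funext fun i => funext fun j => by
      show ι (1 ⊗ₜ Ideal.Quotient.mk _ (W₀ i j)) = w i j
      rw [Algebra.Presentation.tensorModelOfHasCoeffsEquiv_tmul, map_one, one_mul,
        ← MvPolynomial.aeval_map_algebraMap R, hW₀]
      exact Pr.aeval_val_σ _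
  obtain ⟨g, hg⟩ := exists_isBaseChange_coker w₀ K (by rw [hw₀, hw])
  let _ : Module (Pr.ModelOfHasCoeffs (Algebra.adjoin ℤ cs)) M := Module.compHom M
    (algebraMap (Pr.ModelOfHasCoeffs (Algebra.adjoin ℤ cs)) S)
  have : IsScalarTower (Pr.ModelOfHasCoeffs (Algebra.adjoin ℤ cs)) S M :=
    .of_algebraMap_smul fun _ _ => rfl
  exact exists_flat_stage (Algebra.adjoin ℤ cs) hR₁ _ _
    ((eM.symm.toLinearMap.restrictScalars _) ∘ₗ g)
    (IsBaseChange.of_equiv (hg.equiv ≪≫ₗ eM.symm) fun x => by simp [IsBaseChange.equiv_tmul])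

end Groth.Agent.CAlgH.FlatModel
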