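import Groth.Agent.EGA43.FlatDescent.Model

/-!
# Noetherian models of finitely presented modules in which a given element is defined
-/

universe u

set_option autoImplicit false
set_option backward.isDefEq.respectTransparency false

open TensorProduct Function

namespace Groth.Agent.CAlgH.FlatRegularCoker

open Groth.Agent.EGA43

attribute [local instance] FlatDescent.bcModule

/-- The composite with `A ⊗ R₀[X] ≅ A[X]`. -/
noncomputable def modelHom {R₀ A S : Type u} {σ : Type} [CommRing R₀] [CommRing A] [Algebra R₀ A] [CommRing S] [Algebra A S]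
    (π : MvPolynomial σ A →ₐ[A] S) : A ⊗[R₀] MvPolynomial σ R₀ →ₐ[A] S :=
  π.comp (MvPolynomial.algebraTensorAlgEquiv R₀ A).toAlgHom

theorem modelHom_X {R₀ A S : Type u} {σ : Type} [CommRing R₀] [CommRing A] [Algebra R₀ A] [CommRing S] [Algebra A S]
    (π : MvPolynomial σ A →ₐ[A] S) (i : σ) :
    modelHom (R₀ := R₀) π ((1 : A) ⊗ₜ[R₀] (MvPolynomial.X i)) = π (MvPolynomial.X i) := by
  show π (MvPolynomial.algebraTensorAlgEquiv R₀ A (1 ⊗ₜ (MvPolynomial.X i))) = _
  rw [MvPolynomial.algebraTensorAlgEquiv_tmul, one_smul, MvPolynomial.map_X]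

set_option maxHeartbeats 1000000 in
/-- A Noetherian model in which a given element comes from the model. -/
theorem exists_model_with {A S N : Type u} [CommRing A] [CommRing S] [Algebra A S]
    [Algebra.FinitePresentation A S] [AddCommGroup N] [Module S N] [Module A N] [IsScalarTower A S N]
    [Module.FinitePresentation S N] (f : S) :
    ∃ (R₀ : Subalgebra ℤ A) (_ : IsNoetherianRing R₀) (P₀ M₀ : Type u) (_ : CommRing P₀)
      (_ : Algebra R₀ P₀) (_ : AddCommGroup M₀) (_ : Module R₀ M₀) (_ : Module P₀ M₀)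
      (_ : IsScalarTower R₀ P₀ M₀) (_ : Algebra.FiniteType R₀ P₀) (_ : Module.Finite P₀ M₀)
      (ψ : A ⊗[R₀] P₀ →ₐ[A] S) (e : A ⊗[R₀] M₀ ≃ₗ[A] N) (X₀ : P₀),
        Surjective ψ ∧ (∀ t x, e (t • x) = ψ t • e x) ∧ ψ ((1 : A) ⊗ₜ[R₀] X₀) = f := by
  obtain ⟨n, π₀, hπ₀, -⟩ := ‹Algebra.FinitePresentation A S›.out
  let π : MvPolynomial (Fin (n + 1)) A →ₐ[A] S :=
    MvPolynomial.aeval (Fin.cons f fun i => π₀ (MvPolynomial.X i))
  have hπX : π (MvPolynomial.X 0) = f := by simp [π]
  have hπ : Surjective π := by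
    intro s
    obtain ⟨t, rfl⟩ := hπ₀ s
    refine ⟨MvPolynomial.rename Fin.succ t, ?_⟩
    rw [show π (MvPolynomial.rename Fin.succ t) = (π.comp (MvPolynomial.rename Fin.succ)) t from rfl,
      show π.comp (MvPolynomial.rename Fin.succ) = π₀ from MvPolynomial.algHom_ext fun i => by simp [π]]
  let _ : Algebra (MvPolynomial (Fin (n + 1)) A) S := π.toRingHom.toAlgebra
  have : IsScalarTower A (MvPolynomial (Fin (n + 1)) A) S := .of_algebraMap_eq fun a => (π.commutes a).symm
  have : Module.FinitePresentation (MvPolynomial (Fin (n + 1)) A) S :=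
    Module.finitePresentation_of_surjective (Algebra.linearMap _ S) hπ
      (Algebra.FinitePresentation.ker_fG_of_surjective π hπ)
  let _ : Module (MvPolynomial (Fin (n + 1)) A) N := Module.compHom N π.toRingHom
  have : IsScalarTower (MvPolynomial (Fin (n + 1)) A) S N := .of_algebraMap_smul fun _ _ => rfl
  have : IsScalarTower A (MvPolynomial (Fin (n + 1)) A) N := .of_algebraMap_smul fun a x => by
    show π (algebraMap A _ a) • x = a • x
    rw [π.commutes, algebraMap_smul]
  have : Module.FinitePresentation (MvPolynomial (Fin (n + 1)) A) N :=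
    Module.FinitePresentation.trans _ N S
  obtain ⟨k, K, eN, hK⟩ := Module.FinitePresentation.exists_fin (MvPolynomial (Fin (n + 1)) A) N
  obtain ⟨R₀, hR₀, K₀, e₀, he₀⟩ := FlatDescent.exists_model K hK
  have : Module.Finite (MvPolynomial (Fin (n + 1)) R₀) (Fin k → MvPolynomial (Fin (n + 1)) R₀) :=
    @Module.Finite.pi _ _ _ _ _ _ _ (fun _ => Module.Finite.self _)
  have : Module.Finite (MvPolynomial (Fin (n + 1)) R₀) ((Fin k → MvPolynomial (Fin (n + 1)) R₀) ⧸ K₀) :=
    Module.Finite.of_surjective K₀.mkQ K₀.mkQ_surjective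
  refine ⟨R₀, hR₀, MvPolynomial (Fin (n + 1)) R₀, (Fin k → MvPolynomial (Fin (n + 1)) R₀) ⧸ K₀,
    inferInstance, inferInstance, inferInstance, inferInstance, inferInstance, inferInstance,
    inferInstance, inferInstance, π.comp (MvPolynomial.algebraTensorAlgEquiv R₀ A).toAlgHom,
    e₀ ≪≫ₗ (eN.restrictScalars A).symm, MvPolynomial.X 0,
    hπ.comp (MvPolynomial.algebraTensorAlgEquiv R₀ A).surjective, fun t x => ?_, (modelHom_X π 0).trans hπX⟩
  simp only [LinearEquiv.trans_apply, he₀]
  exact map_smul eN.symm _ _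

end Groth.Agent.CAlgH.FlatRegularCoker
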