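import Groth.Agent.EGA43.InjFibre.InjStage
import Groth.Agent.EGA43.InjFibre.General
import Groth.Agent.EGA41Lib.FlatRegularSeq
import Groth.Agent.EGA43.FlatDescent.Model
import Groth.Agent.CAlgH.FlatModelWith
import Mathlib

/-!
# A module with a regular element of flat cokernel is flat (EGA IV 11.3.7, any base)
-/

universe u

set_option autoImplicit false
set_option backward.isDefEq.respectTransparency false

open TensorProduct Function IsLocalRing
open scoped Pointwise
open Groth.Agent.EGA43 Groth.Agent.EGA43.InjFibre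

namespace Groth.Agent.CAlgH.FlatRegularCoker

theorem map_lsmul {B M : Type u} [CommRing B] [AddCommGroup M] [Module B M] (S : Submonoid B) (x : B)
    (z : LocalizedModule S M) :
    LocalizedModule.map S (LinearMap.lsmul B M x) z = algebraMap B (Localization S) x • z := by
  induction z using LocalizedModule.induction_on with
  | h m s =>
    rw [LocalizedModule.map_mk, algebraMap_smul, LocalizedModule.smul'_mk]
    rfl

/-- The Noetherian case. -/
theorem flat_localized_noetherian {D B M : Type u} [CommRing D] [CommRing B] [IsNoetherianRing D]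
    [IsNoetherianRing B] [Algebra D B] [AddCommGroup M] [Module B M] [Module D M] [IsScalarTower D B M]
    [Module.Finite B M] (x : B) (q : PrimeSpectrum B) (hx : x ∈ q.asIdeal)
    (h : InjFlatAt D B (LinearMap.lsmul B M x) q) :
    Module.Flat D (LocalizedModule q.asIdeal.primeCompl M) := by
  let S := q.asIdeal.primeCompl
  let Bq := Localization.AtPrime q.asIdeal
  let p := q.asIdeal.comap (algebraMap D B)
  let Dp := Localization.AtPrime p
  let N := LocalizedModule S M
  let φ := Localization.localRingHom p q.asIdeal (algebraMap D B) rfl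
  letI : Algebra Dp Bq := φ.toAlgebra
  have : IsLocalHom (algebraMap Dp Bq) := Localization.isLocalHom_localRingHom ..
  have : IsScalarTower D Dp Bq := IsScalarTower.of_algebraMap_eq fun d => by
    rw [IsScalarTower.algebraMap_apply D B Bq]
    exact (Localization.localRingHom_to_map p q.asIdeal _ rfl d).symm
  letI : Module Dp N := Module.compHom N φ
  have : IsScalarTower Dp Bq N := .of_algebraMap_smul fun _ _ => rfl
  have : IsScalarTower D Dp N := .of_algebraMap_smul fun d n => by
    show φ (algebraMap D Dp d) • n = d • n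
    rw [show φ (algebraMap D Dp d) = algebraMap B Bq (algebraMap D B d) from
      Localization.localRingHom_to_map p q.asIdeal _ rfl d, algebraMap_smul, algebraMap_smul]
  let xb := algebraMap B Bq x
  have hreg : IsSMulRegular N xb := fun a b hab => by
    apply injective_localized_of_forall _ q h.1
    rw [map_lsmul, map_lsmul]
    exact hab
  let π := LocalizedModule.map S (LinearMap.range (LinearMap.lsmul B M x)).mkQ
  have hπ : Surjective π := LocalizedModule.map_surjective _ _ (Submodule.mkQ_surjective _)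
  have hk : LinearMap.ker π = xb • (⊤ : Submodule Bq N) := by
    rw [show LinearMap.ker π = LinearMap.range (LocalizedModule.map S (LinearMap.lsmul B M x)) from
      LinearMap.exact_iff.1 (LocalizedModule.map_exact S _ _ (LinearMap.exact_map_mkQ_range _))]
    ext z
    rw [LinearMap.mem_range, Submodule.mem_smul_pointwise_iff_exists]
    constructor
    · rintro ⟨w, rfl⟩
      exact ⟨w, trivial, (map_lsmul S x w).symm⟩
    · rintro ⟨w, -, rfl⟩
      exact ⟨w, map_lsmul S x w⟩
  let e := (Submodule.quotEquivOfEq _ _ hk.symm).trans (LinearMap.quotKerEquivOfSurjective π hπ)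
  have := h.2
  have : Module.Flat D (QuotSMulTop xb N) := Module.Flat.of_linearEquiv (e.restrictScalars D)
  have : Module.Flat Dp (QuotSMulTop xb N) :=
    (Module.flat_iff_of_isLocalization Dp p.primeCompl _).2 this
  have hflat : Module.Flat Dp N := EGA41Lib.flat_of_flat_quotSMulTop (A := Dp) (B := Bq) N
    ((IsLocalization.AtPrime.to_map_mem_maximal_iff Bq q.asIdeal x).2 hx) hreg
  exact (Module.flat_iff_of_isLocalization Dp p.primeCompl _).1 hflat

attribute [local instance] FlatDescent.bcModule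

/-- Transport along a surjection of algebras. -/
theorem injFlatAt_comap {A S₁ S₂ N₁ N₂ : Type u} [CommRing A] [CommRing S₁] [CommRing S₂] [Algebra A S₁]
    [Algebra A S₂] [AddCommGroup N₁] [Module A N₁] [Module S₁ N₁] [IsScalarTower A S₁ N₁]
    [AddCommGroup N₂] [Module A N₂] [Module S₂ N₂] [IsScalarTower A S₂ N₂]
    (ψ : S₁ →+* S₂) (hψ : Surjective ψ) (e : N₁ ≃ₗ[A] N₂) (he : ∀ s m, e (s • m) = ψ s • e m) (x : S₁)
    (q : PrimeSpectrum S₂) (h : InjFlatAt A S₂ (LinearMap.lsmul S₂ N₂ (ψ x)) q) :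
    InjFlatAt A S₁ (LinearMap.lsmul S₁ N₁ x) (PrimeSpectrum.comap ψ q) := by
  refine ⟨fun m hm => ?_, ?_⟩
  · obtain ⟨c, hc, hcm⟩ := h.1 (e m) (by
      rw [LinearMap.lsmul_apply] at hm ⊢
      rw [← he, hm, map_zero])
    obtain ⟨c, rfl⟩ := hψ c
    exact ⟨c, hc, e.injective (by rw [he, hcm, map_zero])⟩
  · let U := LinearMap.range (LinearMap.lsmul S₁ N₁ x)
    let V := LinearMap.range (LinearMap.lsmul S₂ N₂ (ψ x))
    have hUV : (U.restrictScalars A).map e.toLinearMap = V.restrictScalars A := by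
      ext z
      constructor
      · rintro ⟨_, ⟨m, rfl⟩, rfl⟩
        exact ⟨e m, (he x m).symm⟩
      · rintro ⟨y, rfl⟩
        refine ⟨x • e.symm y, ⟨_, rfl⟩, ?_⟩
        show e (x • e.symm y) = ψ x • y
        rw [he, LinearEquiv.apply_symm_apply]
    let e' : (N₁ ⧸ U) ≃ₗ[A] (N₂ ⧸ V) :=
      (Submodule.Quotient.restrictScalarsEquiv A U).symm ≪≫ₗ
        Submodule.Quotient.equiv _ _ e hUV ≪≫ₗ Submodule.Quotient.restrictScalarsEquiv A V
    refine (FlatDescent.flat_localized_iff ψ hψ e' (fun s z => ?_) q.asIdeal).2 h.2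
    obtain ⟨m, rfl⟩ := Submodule.Quotient.mk_surjective _ z
    exact congrArg (Submodule.Quotient.mk (p := V)) (he s m)

theorem bcMap_lsmul {R₀ P₀ M₀ : Type u} [CommRing R₀] [CommRing P₀] [Algebra R₀ P₀] [AddCommGroup M₀]
    [Module R₀ M₀] [Module P₀ M₀] [IsScalarTower R₀ P₀ M₀] (X₀ : P₀) (D : Type u) [CommRing D] [Algebra R₀ D] :
    bcMap R₀ D (LinearMap.lsmul P₀ M₀ X₀) = LinearMap.lsmul (D ⊗[R₀] P₀) (D ⊗[R₀] M₀) ((1 : D) ⊗ₜ[R₀] X₀) := by
  refine LinearMap.ext fun m => ?_
  rw [LinearMap.lsmul_apply]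
  induction m using TensorProduct.induction_on with
  | zero => simp
  | add a b ha hb => simp only [map_add, smul_add, ha, hb]
  | tmul d m => rw [bcMap_tmul, FlatDescent.bc_smul_tmul, one_mul]; rfl

/-- The statement for a base change of a Noetherian model. -/
theorem flatAt_of_model {R₀ P₀ M₀ A : Type u} [CommRing R₀] [IsNoetherianRing R₀] [CommRing P₀]
    [Algebra R₀ P₀] [Algebra.FiniteType R₀ P₀] [AddCommGroup M₀] [Module R₀ M₀] [Module P₀ M₀]
    [IsScalarTower R₀ P₀ M₀] [Module.Finite P₀ M₀] [CommRing A] [Algebra R₀ A] (X₀ : P₀)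
    (q : PrimeSpectrum (A ⊗[R₀] P₀)) (hX : (1 : A) ⊗ₜ[R₀] X₀ ∈ q.asIdeal)
    (h : InjFlatAt A (A ⊗[R₀] P₀) (LinearMap.lsmul (A ⊗[R₀] P₀) (A ⊗[R₀] M₀) ((1 : A) ⊗ₜ[R₀] X₀)) q) :
    FlatDescent.FlatAt R₀ P₀ M₀ A q.asIdeal := by
  rw [← bcMap_lsmul] at h
  obtain ⟨D, hD, hDflat⟩ := exists_stage_injFlatAt _ q h
  have := FlatDescent.isNoetherianRing_of_fg hD
  have : Algebra.FiniteType D (D ⊗[R₀] P₀) := Algebra.FiniteType.baseChange (A := P₀) D
  have : IsNoetherianRing (D ⊗[R₀] P₀) := Algebra.FiniteType.isNoetherianRing D _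
  have : Module.Finite (D ⊗[R₀] P₀) (D ⊗[R₀] M₀) := FlatDescent.finite_bc R₀ P₀ M₀ D
  refine FlatDescent.FlatAt.of_hom D.val (q := q.asIdeal) ?_
  rw [bcMap_lsmul] at hDflat
  refine flat_localized_noetherian ((1 : D) ⊗ₜ X₀) _ ?_ hDflat
  show Algebra.TensorProduct.map D.val (AlgHom.id R₀ P₀) ((1 : D) ⊗ₜ X₀) ∈ q.asIdeal
  rw [Algebra.TensorProduct.map_tmul, map_one, AlgHom.id_apply]
  exact hX

/-- The statement from a Noetherian model. -/
theorem flat_localized_of_model {R₀ P₀ M₀ A S N : Type u} [CommRing R₀] [IsNoetherianRing R₀] [CommRing P₀]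
    [Algebra R₀ P₀] [Algebra.FiniteType R₀ P₀] [AddCommGroup M₀] [Module R₀ M₀] [Module P₀ M₀]
    [IsScalarTower R₀ P₀ M₀] [Module.Finite P₀ M₀] [CommRing A] [Algebra R₀ A] [CommRing S] [Algebra A S]
    [AddCommGroup N] [Module S N] [Module A N] [IsScalarTower A S N]
    (ψ : A ⊗[R₀] P₀ →ₐ[A] S) (hψ : Surjective ψ) (e : A ⊗[R₀] M₀ ≃ₗ[A] N)
    (he : ∀ t x, e (t • x) = ψ t • e x) (X₀ : P₀) (f : S) (hX : ψ ((1 : A) ⊗ₜ[R₀] X₀) = f)
    (q : PrimeSpectrum S) (hf : f ∈ q.asIdeal) (h : InjFlatAt A S (LinearMap.lsmul S N f) q) :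
    Module.Flat A (LocalizedModule q.asIdeal.primeCompl N) := by
  subst hX
  exact (FlatDescent.flat_localized_iff ψ.toRingHom hψ e he q.asIdeal).1
    (flatAt_of_model X₀ (PrimeSpectrum.comap ψ.toRingHom q) hf (injFlatAt_comap ψ.toRingHom hψ e he _ q h))

/-- If `f ∈ q` is injective at `q` with flat cokernel, the module is flat at `q`. -/
theorem flat_localized_of_regular_coker {A S N : Type u} [CommRing A] [CommRing S] [Algebra A S]
    [Algebra.FinitePresentation A S] [AddCommGroup N] [Module S N] [Module A N] [IsScalarTower A S N]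
    [Module.FinitePresentation S N] (f : S) (q : PrimeSpectrum S) (hf : f ∈ q.asIdeal)
    (h : InjFlatAt A S (LinearMap.lsmul S N f) q) :
    Module.Flat A (LocalizedModule q.asIdeal.primeCompl N) := by
  obtain ⟨R₀, _, P₀, M₀, _, _, _, _, _, _, _, _, ψ, e, X₀, hψ, he, hX⟩ := exists_model_with (A := A) (N := N) f
  exact flat_localized_of_model ψ hψ e he X₀ f hX q hf h

end Groth.Agent.CAlgH.FlatRegularCoker
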