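import Groth.Prelude.Def_FrobAlg
import Mathlib

/-!
# The relative Frobenius of an adic completion
-/

set_option autoImplicit false
universe u

open TensorProduct

namespace Groth.Agent.CAlgH.FrobeniusCompletion

variable (p : ℕ) [Fact p.Prime] (A : Type u) [CommRing A] [CharP A p] (I : Ideal A)

abbrev J (n : ℕ) : Ideal A := (I ^ n).map (frobenius A p)

theorem J_le (n : ℕ) : J p A I n ≤ I ^ n :=
  Ideal.map_le_iff_le_comap.mpr fun x hx => Ideal.pow_mem_of_mem _ hx p (Fact.out : p.Prime).pos

theorem exists_pow_le_J [IsNoetherianRing A] (n : ℕ) : ∃ N, I ^ N ≤ J p A I n := by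
  refine Ideal.exists_pow_le_of_le_radical_of_fg (fun x hx => ?_) (IsNoetherian.noetherian I)
  refine ⟨n * p, ?_⟩
  rw [pow_mul, ← frobenius_def]
  exact Ideal.mem_map_of_mem _ (Ideal.pow_mem_pow hx n)

theorem mem_smul_top_iff (n : ℕ) (a : A) :
    FrobAlg.toTwist p A a ∈ (I ^ n • ⊤ : Submodule A (FrobAlg.Twist p A)) ↔ a ∈ J p A I n := by
  rw [Ideal.smul_top_eq_map]
  exact Iff.rfl

theorem level [CharP (AdicCompletion I A) p] (t : AdicCompletion I A ⊗[A] FrobAlg.Twist p A) (n : ℕ) :
    ∃ a : A, (AdicCompletion.ofTensorProduct I (FrobAlg.Twist p A) t).val n = Submodule.Quotient.mk (FrobAlg.toTwist p A a) ∧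
      (FrobAlg.relFrob p A (AdicCompletion I A) t).val n = Submodule.Quotient.mk a := by
  induction t using TensorProduct.induction_on with
  | zero =>
    refine ⟨0, ?_, ?_⟩ <;> simp
  | add s t hs ht =>
    obtain ⟨a, ha, ha'⟩ := hs
    obtain ⟨b, hb, hb'⟩ := ht
    refine ⟨a + b, ?_, ?_⟩
    · rw [map_add, AdicCompletion.val_add_apply, ha, hb, map_add, Submodule.Quotient.mk_add]
    · rw [map_add, AdicCompletion.val_add_apply, ha', hb', Submodule.Quotient.mk_add]
  | tmul x y =>
    obtain ⟨b, hb⟩ := Submodule.Quotient.mk_surjective _ (x.val n)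
    refine ⟨b ^ p * (FrobAlg.toTwist p A).symm y, ?_, ?_⟩
    · rw [AdicCompletion.ofTensorProduct_tmul, AdicCompletion.smul_eval, AdicCompletion.of_apply]
      rw [← hb]
      rfl
    · have hpow : ∀ k : ℕ, (x ^ k : AdicCompletion I A).val n = Submodule.Quotient.mk (b ^ k) := by
        intro k
        induction k with
        | zero => rw [pow_zero, pow_zero]; rfl
        | succ k ih => rw [pow_succ, pow_succ, AdicCompletion.val_mul, ih, ← hb]; rfl
      show (x ^ p * algebraMap A (AdicCompletion I A) ((FrobAlg.toTwist p A).symm y)).val n = _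
      rw [AdicCompletion.val_mul, hpow p]
      rfl

theorem relFrob_bijective [IsNoetherianRing A] (hF : (frobenius A p).Finite) [CharP (AdicCompletion I A) p] :
    Function.Bijective (FrobAlg.relFrob p A (AdicCompletion I A)) := by
  haveI : Module.Finite A (FrobAlg.Twist p A) := hF
  have hbij := AdicCompletion.ofTensorProduct_bijective_of_finite_of_isNoetherian I (FrobAlg.Twist p A)
  constructor
  · refine (injective_iff_map_eq_zero _).2 fun t ht => hbij.1 ?_
    rw [map_zero]
    refine AdicCompletion.ext fun n => ?_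
    obtain ⟨N, hN⟩ := exists_pow_le_J p A I n
    obtain ⟨a, ha, ha'⟩ := level p A I t (max n N)
    rw [ht, AdicCompletion.val_zero_apply, eq_comm, Submodule.Quotient.mk_eq_zero, Ideal.smul_top_eq_map] at ha'
    rw [AdicCompletion.val_zero_apply, ← (AdicCompletion.ofTensorProduct I (FrobAlg.Twist p A) t).2 (le_max_left n N), ha]
    refine (Submodule.Quotient.mk_eq_zero _).2 ((mem_smul_top_iff p A I n a).2 (hN ?_))
    exact Ideal.pow_le_pow_right (le_max_right n N) (by simpa using ha')
  · intro y
    choose N hN using exists_pow_le_J p A I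
    let N' : ℕ → ℕ := fun n => n + ∑ i ∈ Finset.range (n + 1), N i
    have hN' : Monotone N' := fun a b h => Nat.add_le_add h
      (Finset.sum_le_sum_of_subset (Finset.range_mono (Nat.succ_le_succ h)))
    have hNN : ∀ n, N n ≤ N' n := fun n =>
      (Finset.single_le_sum (fun i _ => Nat.zero_le (N i)) (Finset.self_mem_range_succ n)).trans (Nat.le_add_left _ _)
    induction y using AdicCompletion.induction_on with
    | h y =>
      obtain ⟨t, ht⟩ := hbij.2 (AdicCompletion.mk I (FrobAlg.Twist p A) (AdicCompletion.AdicCauchySequence.mk I _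
        (fun n => FrobAlg.toTwist p A (y.1 (N' n))) fun n => by
          rw [SModEq.sub_mem, ← map_sub, mem_smul_top_iff]
          refine hN n (Ideal.pow_le_pow_right (hNN n) ?_)
          have := y.2 (hN' (Nat.le_succ n))
          rw [SModEq.sub_mem, Ideal.smul_top_eq_map] at this
          simpa using this))
      refine ⟨t, AdicCompletion.ext fun n => ?_⟩
      obtain ⟨a, ha, ha'⟩ := level p A I t n
      rw [ha', AdicCompletion.mk_apply_coe]
      rw [ht, AdicCompletion.mk_apply_coe] at ha
      show Submodule.Quotient.mk a = Submodule.Quotient.mk (y.1 n)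
      have h1 : y.1 (N' n) - a ∈ J p A I n := by
        rw [← mem_smul_top_iff, map_sub]
        exact (Submodule.Quotient.eq _).1 ha
      have h2 := y.2 (Nat.le_add_right n (∑ i ∈ Finset.range (n + 1), N i))
      rw [SModEq.sub_mem, Ideal.smul_top_eq_map] at h2
      rw [Submodule.Quotient.eq, Ideal.smul_top_eq_map]
      have h3 : y.1 n - y.1 (N' n) ∈ I ^ n := by simpa using h2
      simpa using add_mem (neg_mem (J_le p A I n h1)) (neg_mem h3)

end Groth.Agent.CAlgH.FrobeniusCompletion
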