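import Mathlib
import Groth.Agent.CAlgH.GRingBasic
import Groth.Agent.CAlgH.GRingFiniteType

/-! G-rings via the formal fibres of finite free algebras. -/
universe u
open IsLocalRing TensorProduct

namespace Groth.Agent.CAlgH

theorem maximal_le_of_comap_eq {A B : Type u} [CommRing A] [IsLocalRing A] [IsNoetherianRing A] [CommRing B]
    [Algebra A B] [Module.Finite A B] (M M' : Ideal (EGA4.Cpl A ⊗[A] B)) (hM : M.IsMaximal) (hM' : M'.IsMaximal)
    (h : M.comap (Algebra.TensorProduct.includeRight (R := A) (A := EGA4.Cpl A) : B →ₐ[A] EGA4.Cpl A ⊗[A] B) ≤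
      M'.comap (Algebra.TensorProduct.includeRight (R := A) (A := EGA4.Cpl A) : B →ₐ[A] EGA4.Cpl A ⊗[A] B)) :
    M = M' := by
  haveI := hM
  haveI := hM'
  let C := EGA4.Cpl A ⊗[A] B
  let iR : B →ₐ[A] C := Algebra.TensorProduct.includeRight
  let m := maximalIdeal (EGA4.Cpl A)
  have hmM : ∀ (Q : Ideal C), Q.IsMaximal → m.map (algebraMap (EGA4.Cpl A) C) ≤ Q := fun Q hQ => by
    haveI := hQ
    haveI := Ideal.isMaximal_comap_of_isIntegral_of_isMaximal (R := EGA4.Cpl A) Q
    exact Ideal.map_le_iff_le_comap.mpr (IsLocalRing.eq_maximalIdeal inferInstance).ge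
  have hBm : ∀ x : C, ∃ b : B, x - iR b ∈ m.map (algebraMap (EGA4.Cpl A) C) := by
    intro x
    induction x using TensorProduct.induction_on with
    | zero => exact ⟨0, by simp⟩
    | add a b ha hb =>
      obtain ⟨a', ha⟩ := ha
      obtain ⟨b', hb⟩ := hb
      exact ⟨a' + b', by simpa [add_sub_add_comm] using add_mem ha hb⟩
    | tmul t b =>
      obtain ⟨a, ha⟩ := exists_sub_algebraMap_mem A t
      refine ⟨a • b, ?_⟩
      have : t ⊗ₜ[A] b - iR (a • b) = algebraMap (EGA4.Cpl A) C (t - algebraMap A _ a) * iR b := by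
        show t ⊗ₜ[A] b - (1 : EGA4.Cpl A) ⊗ₜ[A] (a • b) = (t - algebraMap A _ a) ⊗ₜ[A] (1 : B) * ((1 : EGA4.Cpl A) ⊗ₜ[A] b)
        rw [Algebra.TensorProduct.tmul_mul_tmul, mul_one, one_mul, sub_tmul, Algebra.algebraMap_eq_smul_one, smul_tmul]
      rw [this]
      exact Ideal.mul_mem_right _ _ (Ideal.mem_map_of_mem _ ha)
  refine hM.eq_of_le hM'.ne_top fun x hx => ?_
  obtain ⟨b, hb⟩ := hBm x
  have h1 : iR b ∈ M := by simpa using sub_mem hx (hmM M hM hb)
  have h2 : iR b ∈ M' := h h1
  rw [← sub_add_cancel x (iR b)]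
  exact add_mem (hmM M' hM' hb) h2

theorem nonempty_equiv_localization_cpl (A B L : Type u) [CommRing A] [IsLocalRing A] [IsNoetherianRing A] [CommRing B]
    [Algebra A B] [Module.Finite A B] [Field L] [Algebra B L] (M : Ideal (B ⊗[A] EGA4.Cpl A)) [M.IsMaximal]
    (n : Ideal B) [n.IsMaximal] (hn : M.comap (algebraMap B (B ⊗[A] EGA4.Cpl A)) = n) [Algebra (Localization.AtPrime n) L]
    [IsScalarTower B (Localization.AtPrime n) L] :
    Nonempty (L ⊗[B] Localization.AtPrime M ≃+* L ⊗[Localization.AtPrime n] EGA4.Cpl (Localization.AtPrime n)) := by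
  obtain ⟨N, hN, e, hNn, he⟩ := completion_localization_finite A B n
  let C := B ⊗[A] EGA4.Cpl A
  let c : C ≃ₐ[A] EGA4.Cpl A ⊗[A] B := Algebra.TensorProduct.comm A B (EGA4.Cpl A)
  have hNM : M = N.comap c.toRingEquiv.toRingHom := by
    have hM2 : (M.comap c.symm.toRingEquiv.toRingHom).IsMaximal :=
      Ideal.comap_isMaximal_of_surjective _ c.symm.surjective
    have hcM : ∀ z, z ∈ M.comap c.symm.toRingEquiv.toRingHom ↔ c.symm z ∈ M := fun _ => Iff.rfl
    have h1 := maximal_le_of_comap_eq (M.comap c.symm.toRingEquiv.toRingHom) N hM2 hN (by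
      intro b hb
      rw [hNn, ← hn, Ideal.mem_comap]
      rw [Ideal.mem_comap, hcM] at hb
      exact hb)
    ext x
    rw [Ideal.mem_comap, ← h1, hcM]
    show x ∈ M ↔ c.symm (c x) ∈ M
    rw [c.symm_apply_apply]
  let Bn := Localization.AtPrime n
  let eL : Localization.AtPrime M ≃+* EGA4.Cpl Bn :=
    (Localization.localRingEquiv M N c.toRingEquiv hNM).trans e
  have heL : ∀ b, eL (algebraMap B (Localization.AtPrime M) b) = algebraMap B (EGA4.Cpl Bn) b := fun b => by
    rw [IsScalarTower.algebraMap_apply B C (Localization.AtPrime M), IsScalarTower.algebraMap_apply B Bn (EGA4.Cpl Bn), ← he b]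
    show e (Localization.localRingHom M N c.toRingEquiv.toRingHom hNM _) = _
    rw [Localization.localRingHom_to_map]
    rfl
  let g : Localization.AtPrime M →ₐ[B] EGA4.Cpl Bn := { eL.toRingHom with commutes' := heL }
  let gE : Localization.AtPrime M ≃ₐ[B] EGA4.Cpl Bn := AlgEquiv.ofBijective g eL.bijective
  exact ⟨(Algebra.TensorProduct.congr (AlgEquiv.refl (R := B) (A₁ := L)) gE).toRingEquiv.trans
    (IsLocalization.algebraTensorEquiv n.primeCompl Bn L (EGA4.Cpl Bn)).toRingEquiv.symm⟩

theorem isRegularLocalRing_of_disjoint {B C L : Type u} [CommRing B] [CommRing C] [CommRing L] [Algebra B C] [Algebra B L]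
    (W : Submonoid C) (Lm : Type u) [CommRing Lm] [Algebra C Lm] [Algebra B Lm] [IsScalarTower B C Lm] [IsLocalization W Lm]
    [IsRegularRing (L ⊗[B] Lm)] (Q : Ideal (L ⊗[B] C)) [Q.IsPrime]
    (hd : Disjoint ((W.map (Algebra.TensorProduct.includeRight (R := B) (A := L) : C →ₐ[B] L ⊗[B] C)) : Set (L ⊗[B] C)) (Q : Set (L ⊗[B] C))) :
    IsRegularLocalRing (Localization.AtPrime Q) := by
  letI : Algebra (L ⊗[B] C) (L ⊗[B] Lm) :=
    (Algebra.TensorProduct.map (AlgHom.id B L) (IsScalarTower.toAlgHom B C Lm)).toAlgebra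
  haveI : IsScalarTower L (L ⊗[B] C) (L ⊗[B] Lm) :=
    @IsScalarTower.of_algebraMap_eq L (L ⊗[B] C) (L ⊗[B] Lm) _ _ _ _ _ _ fun x => by
      show x ⊗ₜ[B] (1 : Lm) =
        Algebra.TensorProduct.map (AlgHom.id B L) (IsScalarTower.toAlgHom B C Lm) (x ⊗ₜ[B] (1 : C))
      simp
  haveI := IsLocalization.tensorProduct_tensorProduct_right B L W (Lm)
    (RingHom.ext fun x => by simp [RingHom.algebraMap_toAlgebra])
  let Ms := W.map (Algebra.TensorProduct.includeRight (R := B) (A := L) : C →ₐ[B] (L ⊗[B] C))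
  let Q' := Q.map (algebraMap (L ⊗[B] C) (L ⊗[B] Lm))
  haveI : Q'.IsPrime := IsLocalization.isPrime_of_isPrime_disjoint Ms _ Q inferInstance hd
  have hc : Q'.comap (algebraMap (L ⊗[B] C) (L ⊗[B] Lm)) = Q :=
    IsLocalization.comap_map_of_isPrime_disjoint Ms _ inferInstance hd
  haveI := IsLocalization.isLocalization_isLocalization_atPrime_isLocalization Ms (Localization.AtPrime Q') Q'
  haveI : IsLocalization.AtPrime (Localization.AtPrime Q') Q := by
    unfold IsLocalization.AtPrime; simp only [← hc]; assumption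
  haveI : IsRegularLocalRing (Localization.AtPrime Q') := IsRegularRing.isRegularLocalRing_localization Q'
  exact IsRegularLocalRing.of_ringEquiv (R := Localization.AtPrime Q')
    (IsLocalization.algEquiv Q.primeCompl (Localization.AtPrime Q') (Localization.AtPrime Q)).toRingEquiv


/-- A formal fibre below, from formal fibres of a finite algebra. -/
theorem isRegularRing_field_tensor_cpl_of_finite (A B L : Type u) [CommRing A] [IsLocalRing A] [IsNoetherianRing A]
    [CommRing B] [Algebra A B] [Module.Finite A B] [Field L] [Algebra A L] [Algebra B L] [IsScalarTower A B L]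
    [Algebra.EssFiniteType A L]
    (h : ∀ (n : Ideal B) [n.IsMaximal] [Algebra (Localization.AtPrime n) L] [IsScalarTower B (Localization.AtPrime n) L],
      IsRegularRing (L ⊗[Localization.AtPrime n] EGA4.Cpl (Localization.AtPrime n))) :
    IsRegularRing (L ⊗[A] EGA4.Cpl A) := by
  haveI : IsNoetherianRing (EGA4.Cpl A) := Groth.Agent.Matlis6.isNoetherianRing_adicCompletion _
  haveI : IsNoetherianRing (EGA4.Cpl A ⊗[A] L) := Algebra.EssFiniteType.isNoetherianRing (EGA4.Cpl A) _
  haveI : IsNoetherianRing (L ⊗[A] EGA4.Cpl A) :=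
    isNoetherianRing_of_ringEquiv _ (Algebra.TensorProduct.comm A (EGA4.Cpl A) L).toRingEquiv
  let ε : (L ⊗[B] (B ⊗[A] EGA4.Cpl A)) ≃+* L ⊗[A] EGA4.Cpl A := (Algebra.TensorProduct.cancelBaseChange A B L L (EGA4.Cpl A)).toRingEquiv
  haveI : IsNoetherianRing (L ⊗[B] (B ⊗[A] EGA4.Cpl A)) := isNoetherianRing_of_ringEquiv _ ε.symm
  suffices hX : IsRegularRing (L ⊗[B] (B ⊗[A] EGA4.Cpl A)) by
    haveI := hX
    exact IsRegularRing.of_ringEquiv (R := L ⊗[B] (B ⊗[A] EGA4.Cpl A)) ε
  refine isRegularRing_iff.mpr fun Q _ => ?_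
  let iR : (B ⊗[A] EGA4.Cpl A) →ₐ[B] (L ⊗[B] (B ⊗[A] EGA4.Cpl A)) := Algebra.TensorProduct.includeRight
  let P := Q.comap iR.toRingHom
  haveI : P.IsPrime := Ideal.comap_isPrime _ _
  obtain ⟨M, hM, hPM⟩ := Ideal.exists_le_maximal P (Ideal.IsPrime.ne_top inferInstance)
  let n := M.comap (algebraMap B (B ⊗[A] EGA4.Cpl A))
  haveI hn : n.IsMaximal := by
    refine Ideal.isMaximal_of_isIntegral_of_isMaximal_comap (R := A) n ?_
    haveI := hM
    let c : (B ⊗[A] EGA4.Cpl A) ≃ₐ[A] EGA4.Cpl A ⊗[A] B := Algebra.TensorProduct.comm A B (EGA4.Cpl A)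
    haveI : (M.comap c.symm.toRingEquiv.toRingHom).IsMaximal :=
      Ideal.comap_isMaximal_of_surjective _ c.symm.surjective
    haveI := Ideal.isMaximal_comap_of_isIntegral_of_isMaximal (R := EGA4.Cpl A) (M.comap c.symm.toRingEquiv.toRingHom)
    have h1 : n.comap (algebraMap A B) =
        ((M.comap c.symm.toRingEquiv.toRingHom).comap (algebraMap (EGA4.Cpl A) _)).comap (algebraMap A (EGA4.Cpl A)) := by
      ext a
      simp only [n, Ideal.mem_comap]
      show algebraMap B (B ⊗[A] EGA4.Cpl A) (algebraMap A B a) ∈ M ↔ c.symm (algebraMap (EGA4.Cpl A) _ (algebraMap A (EGA4.Cpl A) a)) ∈ M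
      rw [← IsScalarTower.algebraMap_apply, ← IsScalarTower.algebraMap_apply, AlgEquiv.commutes]
    rw [h1, IsLocalRing.eq_maximalIdeal (I := (M.comap c.symm.toRingEquiv.toRingHom).comap (algebraMap (EGA4.Cpl A) _)) inferInstance,
      AdicCompletion.maximalIdeal_eq_map, ← AdicCompletion.ker_evalOneₐ_eq_map _ (IsNoetherian.noetherian _)]
    have h2 : (RingHom.ker (AdicCompletion.evalOneₐ (maximalIdeal A)).toRingHom).comap (algebraMap A (EGA4.Cpl A)) = maximalIdeal A := by
      rw [RingHom.comap_ker, AdicCompletion.evalOneₐ_comp_algebraMap_eq_mk, Ideal.mk_ker]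
    rw [h2]
    exact maximalIdeal.isMaximal A
  have hu : ∀ b : n.primeCompl, IsUnit (algebraMap B L b) := fun b => isUnit_iff_ne_zero.mpr fun h0 => b.2 (hPM (by
    show iR (algebraMap B (B ⊗[A] EGA4.Cpl A) b) ∈ Q
    rw [AlgHom.commutes, IsScalarTower.algebraMap_apply B L (L ⊗[B] (B ⊗[A] EGA4.Cpl A)), h0, map_zero]
    exact Q.zero_mem))
  letI : Algebra (Localization.AtPrime n) L := (IsLocalization.lift hu).toAlgebra
  haveI : IsScalarTower B (Localization.AtPrime n) L :=
    IsScalarTower.of_algebraMap_eq fun b => (IsLocalization.lift_eq hu b).symm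
  haveI := hM
  obtain ⟨e⟩ := nonempty_equiv_localization_cpl A B L M n rfl
  haveI : IsRegularRing (L ⊗[B] Localization.AtPrime M) := haveI := h n; IsRegularRing.of_ringEquiv (R := L ⊗[Localization.AtPrime n] EGA4.Cpl (Localization.AtPrime n)) e.symm
  refine isRegularLocalRing_of_disjoint M.primeCompl (Localization.AtPrime M) Q
    (Set.disjoint_left.mpr fun x hx hxQ => ?_)
  obtain ⟨c, hc, rfl⟩ := hx
  exact hc (hPM hxQ)

/-- Finitely many integral elements of an algebra lie in the image of a finite free algebra. -/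
theorem exists_finite_free_cover (R : Type u) [CommRing R] {L : Type u} [CommRing L] [Algebra R L] {ι : Type} [Finite ι]
    (θ : ι → L) (h : ∀ i, IsIntegral R (θ i)) :
    ∃ (S : Type u) (_ : CommRing S) (_ : Algebra R S) (_ : Module.Finite R S) (_ : Module.Free R S) (φ : S →ₐ[R] L),
      ∀ i, θ i ∈ φ.range := by
  classical
  cases nonempty_fintype ι
  suffices H : ∀ s : Finset ι, ∃ (S : Type u) (_ : CommRing S) (_ : Algebra R S) (_ : Module.Finite R S)
      (_ : Module.Free R S) (φ : S →ₐ[R] L), ∀ i ∈ s, θ i ∈ φ.range by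
    obtain ⟨S, _, _, _, _, φ, hφ⟩ := H Finset.univ
    exact ⟨S, _, _, ‹_›, ‹_›, φ, fun i => hφ i (Finset.mem_univ i)⟩
  intro s
  induction s using Finset.induction with
  | empty => exact ⟨R, inferInstance, inferInstance, inferInstance, inferInstance, Algebra.ofId R L, by simp⟩
  | insert a s _ ih =>
    obtain ⟨S, _, _, _, _, φ, hφ⟩ := ih
    obtain ⟨f, hf, hfa⟩ := h a
    haveI := hf.finite_adjoinRoot
    haveI := hf.free_adjoinRoot
    let ψ : AdjoinRoot f →ₐ[R] L := AdjoinRoot.liftAlgHom f (Algebra.ofId R L) (θ a) hfa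
    refine ⟨S ⊗[R] AdjoinRoot f, inferInstance, inferInstance, inferInstance, inferInstance,
      Algebra.TensorProduct.productMap φ ψ, fun i hi => ?_⟩
    rcases Finset.mem_insert.mp hi with rfl | hi
    · exact ⟨(1 : S) ⊗ₜ[R] AdjoinRoot.root f, by simp [ψ]⟩
    · obtain ⟨y, hy⟩ := hφ i hi
      exact ⟨y ⊗ₜ[R] (1 : AdjoinRoot f), by simp; exact hy⟩

/-- Regularity of `L ⊗ (R_p)^` from regularity of formal fibres of a finite algebra which generates `L`. -/
theorem isRegularRing_field_tensor_cpl_of_algebra {R : Type u} [CommRing R] [IsNoetherianRing R] (p : Ideal R) [p.IsPrime]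
    (L : Type u) [Field L] [Algebra R L] [Algebra (Localization.AtPrime p) L] [IsScalarTower R (Localization.AtPrime p) L]
    [Algebra.EssFiniteType (Localization.AtPrime p) L]
    (S : Type u) [CommRing S] [Algebra R S] [Module.Finite R S] (φ : S →ₐ[R] L)
    (hgen : ∀ F : Subfield L, (∀ s, φ s ∈ F) → F = ⊤)
    (h : ∀ (q : Ideal S) [q.IsPrime] (q' : Ideal (Localization.AtPrime q)) [q'.IsPrime],
      IsRegularRing (EGA4.formalFibre (Localization.AtPrime q) q')) :
    IsRegularRing (L ⊗[Localization.AtPrime p] EGA4.Cpl (Localization.AtPrime p)) := by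
  let A0 := Localization.AtPrime p
  haveI : IsNoetherianRing A0 := IsLocalization.isNoetherianRing p.primeCompl _ inferInstance
  haveI : IsNoetherianRing S := Algebra.FiniteType.isNoetherianRing R S
  let M := Algebra.algebraMapSubmonoid S p.primeCompl
  let T := Localization M
  haveI : Module.Finite A0 T := Module.Finite.of_isLocalization R S p.primeCompl
  have hu : ∀ y : M, IsUnit (φ y) := by
    rintro ⟨_, r, hr, rfl⟩
    rw [AlgHom.commutes, IsScalarTower.algebraMap_apply R A0 L]
    exact (IsLocalization.map_units A0 ⟨r, hr⟩).map _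
  letI : Algebra T L := (IsLocalization.lift (g := φ.toRingHom) hu).toAlgebra
  have hTL : ∀ s : S, algebraMap T L (algebraMap S T s) = φ s := fun s => IsLocalization.lift_eq hu s
  haveI : IsScalarTower A0 T L := IsScalarTower.of_algebraMap_eq' (IsLocalization.ringHom_ext p.primeCompl (RingHom.ext fun r => by
    rw [RingHom.comp_apply, RingHom.comp_apply, RingHom.comp_apply, ← IsScalarTower.algebraMap_apply R A0 L,
      ← IsScalarTower.algebraMap_apply R A0 T, IsScalarTower.algebraMap_apply R S T, hTL, AlgHom.commutes]))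
  refine isRegularRing_field_tensor_cpl_of_finite A0 T L fun n _ _ _ => ?_
  let s := n.comap (algebraMap S T)
  haveI : s.IsPrime := Ideal.comap_isPrime _ _
  let Bs := Localization.AtPrime s
  haveI : IsLocalization.AtPrime (Localization.AtPrime n) s :=
    IsLocalization.isLocalization_isLocalization_atPrime_isLocalization M (Localization.AtPrime n) n
  let f : Bs ≃ₐ[S] Localization.AtPrime n := IsLocalization.algEquiv s.primeCompl _ _
  letI : Algebra Bs (Localization.AtPrime n) := f.toRingEquiv.toRingHom.toAlgebra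
  letI : Algebra Bs L := ((algebraMap (Localization.AtPrime n) L).comp f.toRingEquiv.toRingHom).toAlgebra
  haveI : IsScalarTower Bs (Localization.AtPrime n) L := IsScalarTower.of_algebraMap_eq fun _ => rfl
  haveI : IsNoetherianRing Bs := IsLocalization.isNoetherianRing s.primeCompl _ inferInstance
  refine (isRegularRing_field_cpl_surjective Bs (Localization.AtPrime n) f.surjective L).mp ?_
  let q' := RingHom.ker (algebraMap Bs L)
  haveI : q'.IsPrime := RingHom.ker_isPrime _
  let lf : q'.ResidueField →+* L := Ideal.ResidueField.lift q' (algebraMap Bs L) le_rfl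
    fun x hx => isUnit_iff_ne_zero.mpr hx
  have hlf : ∀ x : Bs, lf (algebraMap Bs q'.ResidueField x) = algebraMap Bs L x := fun x => Ideal.ResidueField.lift_algebraMap ..
  have hsurj : Function.Surjective lf := by
    have hF : lf.fieldRange = ⊤ := hgen _ fun x => ⟨algebraMap Bs q'.ResidueField (algebraMap S Bs x), by
      rw [hlf]
      show algebraMap (Localization.AtPrime n) L (f (algebraMap S Bs x)) = φ x
      rw [AlgEquiv.commutes, IsScalarTower.algebraMap_apply S T (Localization.AtPrime n), ← IsScalarTower.algebraMap_apply T (Localization.AtPrime n) L, hTL]⟩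
    intro x
    have : x ∈ lf.fieldRange := hF ▸ trivial
    exact this
  let g : q'.ResidueField →ₐ[Bs] L := { lf with commutes' := hlf }
  let eg : q'.ResidueField ≃ₐ[Bs] L := AlgEquiv.ofBijective g ⟨lf.injective, hsurj⟩
  haveI : IsRegularRing (q'.ResidueField ⊗[Bs] EGA4.Cpl Bs) := h s q'
  exact IsRegularRing.of_ringEquiv (Algebra.TensorProduct.congr eg (AlgEquiv.refl (R := Bs) (A₁ := EGA4.Cpl Bs))).toRingEquiv

theorem isRegularRing_final (A0 A' : Type u) [CommRing A0] [IsLocalRing A0] [IsNoetherianRing A0] [CommRing A']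
    [IsLocalRing A'] [Algebra A0 A'] (hπ : Function.Surjective (algebraMap A0 A')) (K L : Type u) [Field K] [Field L]
    [Algebra A' K] [Algebra K L] [Algebra A' L] [IsScalarTower A' K L] [Algebra A0 L] [IsScalarTower A0 A' L]
    (h : IsRegularRing (L ⊗[A0] EGA4.Cpl A0)) : IsRegularRing (L ⊗[K] (K ⊗[A'] EGA4.Cpl A')) := by
  haveI : IsRegularRing (L ⊗[A'] EGA4.Cpl A') := (isRegularRing_field_cpl_surjective A0 A' hπ L).mp h
  exact IsRegularRing.of_ringEquiv (Algebra.TensorProduct.cancelBaseChange A' K L L (EGA4.Cpl A')).toRingEquiv.symm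

theorem isGRing_of_finite_free (R : Type u) [CommRing R] [IsNoetherianRing R]
    (h : ∀ (S : Type u) [CommRing S] [Algebra R S] [Module.Finite R S] [Module.Free R S]
        (q : Ideal S) [q.IsPrime] (p : Ideal (Localization.AtPrime q)) [p.IsPrime],
        IsRegularRing (EGA4.formalFibre (Localization.AtPrime q) p)) : CAlg.IsGRing R := by
  refine (isGRing_iff_generic R).mpr fun q _ P _ => ?_
  intro L _ _ hL
  let p := P.comap (Ideal.Quotient.mk q)
  let A0 := Localization.AtPrime p
  let A' := Localization.AtPrime P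
  let K := (⊥ : Ideal A').ResidueField
  let π : A0 →+* A' := Localization.localRingHom p P (Ideal.Quotient.mk q) rfl
  have hπ : Function.Surjective π :=
    RingHom.surjective_localRingHom_of_surjective (Ideal.Quotient.mk q) Ideal.Quotient.mk_surjective P
  letI : Algebra A0 A' := π.toAlgebra
  letI : Algebra (R ⧸ q) K := ((algebraMap A' K).comp (algebraMap (R ⧸ q) A')).toAlgebra
  letI : Algebra A' L := ((algebraMap K L).comp (algebraMap A' K)).toAlgebra
  haveI : IsScalarTower A' K L := IsScalarTower.of_algebraMap_eq fun _ => rfl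
  letI : Algebra (R ⧸ q) L := ((algebraMap K L).comp (algebraMap (R ⧸ q) K)).toAlgebra
  haveI : IsScalarTower (R ⧸ q) K L := IsScalarTower.of_algebraMap_eq fun _ => rfl
  letI : Algebra R L := ((algebraMap (R ⧸ q) L).comp (Ideal.Quotient.mk q)).toAlgebra
  haveI : IsScalarTower R (R ⧸ q) L := IsScalarTower.of_algebraMap_eq fun _ => rfl
  letI : Algebra A0 L := ((algebraMap A' L).comp π).toAlgebra
  haveI : IsScalarTower A0 A' L := IsScalarTower.of_algebraMap_eq fun _ => rfl
  haveI : IsScalarTower R A0 L := IsScalarTower.of_algebraMap_eq fun r => by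
    show algebraMap K L (algebraMap A' K (algebraMap (R ⧸ q) A' (Ideal.Quotient.mk q r))) =
      algebraMap K L (algebraMap A' K (π (algebraMap R A0 r)))
    rw [Localization.localRingHom_to_map]
  haveI : IsNoetherianRing A0 := IsLocalization.isNoetherianRing p.primeCompl _ inferInstance
  haveI : Module.Finite K L := hL
  haveI : Algebra.EssFiniteType A' L := Algebra.EssFiniteType.comp A' K L
  haveI : Algebra.FiniteType A0 A' := Algebra.FiniteType.of_surjective (Algebra.ofId A0 A') hπ
  haveI : Algebra.EssFiniteType A0 L := Algebra.EssFiniteType.comp A0 A' L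
  haveI : IsDomain A' := IsLocalization.isDomain_localization (Ideal.primeCompl_le_nonZeroDivisors P)
  have hinjK : Function.Injective (algebraMap A' K) := by
    rw [RingHom.injective_iff_ker_eq_bot, Ideal.ker_algebraMap_residueField]
  have hinj : Function.Injective (algebraMap (R ⧸ q) K) :=
    hinjK.comp (IsLocalization.injective A' (Ideal.primeCompl_le_nonZeroDivisors P))
  haveI : FaithfulSMul (R ⧸ q) K := (faithfulSMul_iff_algebraMap_injective _ _).mpr hinj
  have hfrac : ∀ z : K, ∃ x y : R ⧸ q, z = algebraMap (R ⧸ q) K x / algebraMap (R ⧸ q) K y := by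
    intro z
    haveI : IsFractionRing A' K := inferInstanceAs (IsFractionRing A' (⊥ : Ideal A').ResidueField)
    obtain ⟨a, b, -, hab⟩ := IsFractionRing.div_surjective (A := A') z
    obtain ⟨x, s, rfl⟩ := IsLocalization.exists_mk'_eq P.primeCompl a
    obtain ⟨y, t, rfl⟩ := IsLocalization.exists_mk'_eq P.primeCompl b
    refine ⟨x * t, y * s, hab.symm.trans ?_⟩
    have hs : algebraMap (R ⧸ q) K (s : R ⧸ q) ≠ 0 := fun h0 => s.2 (by rw [hinj (h0.trans (map_zero _).symm)]; exact P.zero_mem)
    have ht : algebraMap (R ⧸ q) K (t : R ⧸ q) ≠ 0 := fun h0 => t.2 (by rw [hinj (h0.trans (map_zero _).symm)]; exact P.zero_mem)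
    have e1 : ∀ (w : R ⧸ q) (c : P.primeCompl), algebraMap A' K (IsLocalization.mk' A' w c) * algebraMap (R ⧸ q) K c = algebraMap (R ⧸ q) K w := fun w c => by
      show algebraMap A' K _ * algebraMap A' K (algebraMap (R ⧸ q) A' c) = algebraMap A' K (algebraMap (R ⧸ q) A' w)
      rw [← map_mul, IsLocalization.mk'_spec]
    rw [map_mul, map_mul, ← e1 x s, ← e1 y t, mul_assoc, mul_assoc,
      mul_comm (algebraMap (R ⧸ q) K (t : R ⧸ q)) (algebraMap (R ⧸ q) K (s : R ⧸ q)), mul_div_mul_right _ _ (mul_ne_zero hs ht)]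
  haveI : IsFractionRing (R ⧸ q) K := IsFractionRing.of_field (R ⧸ q) K hfrac
  let b := Module.finBasis K L
  choose m hm using fun i => IsIntegral.exists_multiple_integral_of_isLocalization (nonZeroDivisors (R ⧸ q)) (b i)
    (Algebra.IsIntegral.isIntegral (R := K) (b i))
  obtain ⟨S, _, _, _, _, φ, hφ⟩ := exists_finite_free_cover R (fun i => m i • b i)
    (fun i => isIntegral_trans (R := R) _ (hm i))
  have hreg := isRegularRing_field_tensor_cpl_of_algebra p L S φ (fun F hF => by
    refine eq_top_iff.mpr fun x _ => ?_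
    have hr : ∀ r : R ⧸ q, algebraMap (R ⧸ q) L r ∈ F := fun r => by
      obtain ⟨r, rfl⟩ := Ideal.Quotient.mk_surjective r
      have := hF (algebraMap R S r)
      rwa [AlgHom.commutes] at this
    have hc : ∀ c : K, algebraMap K L c ∈ F := fun c => by
      obtain ⟨x, y, rfl⟩ := hfrac c
      rw [map_div₀]
      exact F.div_mem (hr x) (hr y)
    have hb : ∀ i, b i ∈ F := fun i => by
      obtain ⟨s, hs⟩ := hφ i
      have h1 : algebraMap (R ⧸ q) L (m i : R ⧸ q) * b i ∈ F := by
        have h2 : φ s = (m i : R ⧸ q) • b i := hs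
        rw [Algebra.smul_def] at h2
        rw [← h2]
        exact hF s
      have hne : algebraMap (R ⧸ q) L (m i : R ⧸ q) ≠ 0 := fun h0 =>
        nonZeroDivisors.coe_ne_zero (m i) (hinj ((algebraMap K L).injective (h0.trans (map_zero _).symm) |>.trans (map_zero _).symm))
      have := F.div_mem h1 (hr (m i : R ⧸ q))
      rwa [mul_div_cancel_left₀ _ hne] at this
    rw [← b.sum_repr x]
    exact F.sum_mem fun i _ => by rw [Algebra.smul_def]; exact F.mul_mem (hc _) (hb i)) fun q₁ _ q₂ _ => h S q₁ q₂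
  exact isRegularRing_final A0 A' hπ K L hreg

end Groth.Agent.CAlgH
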