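import Mathlib
import Groth.Agent.CAlgH.GRingPoly

/-! Formal fibres along quasi-finite maps. -/
universe u
open IsLocalRing TensorProduct

namespace Groth.Agent.CAlgH

theorem localRingHom_bijective_of_away {S T : Type u} [CommRing S] [CommRing T] (φ : S →+* T) (hφ : Function.Injective φ)
    (r : S) (h : Function.Surjective (Localization.awayMap φ r)) (P : Ideal T) [P.IsPrime] (hr : φ r ∉ P) :
    Function.Bijective (Localization.localRingHom (P.comap φ) P φ rfl) := by
  have hden : ∀ x : T, ∃ (N : ℕ) (y : S), φ y = x * φ r ^ N := fun x => by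
    obtain ⟨z, hz⟩ := h (algebraMap T (Localization.Away (φ r)) x)
    obtain ⟨y, ⟨_, n, rfl⟩, rfl⟩ := IsLocalization.exists_mk'_eq (Submonoid.powers r) z
    rw [Localization.awayMap, IsLocalization.Away.map, IsLocalization.map_mk', IsLocalization.mk'_eq_iff_eq_mul,
      ← map_mul, IsLocalization.eq_iff_exists (Submonoid.powers (φ r))] at hz
    obtain ⟨⟨_, m, rfl⟩, hm⟩ := hz
    refine ⟨m + n, r ^ m * y, ?_⟩
    rw [map_mul, map_pow, pow_add]
    simp only [map_pow] at hm
    rw [hm]
    ring
  have hrN : ∀ N : ℕ, φ r ^ N ∈ P.primeCompl := fun N => pow_mem (show φ r ∈ P.primeCompl from hr) N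
  refine ⟨(injective_iff_map_eq_zero _).mpr fun x hx => ?_, fun x => ?_⟩
  · obtain ⟨a, ⟨s, hs⟩, rfl⟩ := IsLocalization.exists_mk'_eq (P.comap φ).primeCompl x
    rw [Localization.localRingHom_mk', IsLocalization.mk'_eq_zero_iff] at hx
    obtain ⟨⟨t, ht⟩, hta⟩ := hx
    obtain ⟨N, y, hy⟩ := hden t
    rw [IsLocalization.mk'_eq_zero_iff]
    refine ⟨⟨y, fun hyP => ?_⟩, hφ ?_⟩
    · exact P.primeCompl.mul_mem ht (hrN N) (hy ▸ (hyP : φ y ∈ P))
    · rw [map_mul, hy, mul_comm t, mul_assoc, hta, mul_zero, map_zero]
  · obtain ⟨a, ⟨s, hs⟩, rfl⟩ := IsLocalization.exists_mk'_eq P.primeCompl x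
    obtain ⟨N, y, hy⟩ := hden a
    obtain ⟨M, z, hz⟩ := hden s
    have hzP : r ^ N * z ∈ (P.comap φ).primeCompl := fun hmem => by
      have h2 : φ (r ^ N * z) ∈ P := hmem
      rw [map_mul, map_pow, hz] at h2
      exact P.primeCompl.mul_mem (hrN N) (P.primeCompl.mul_mem hs (hrN M)) h2
    refine ⟨IsLocalization.mk' _ (r ^ M * y) (⟨r ^ N * z, hzP⟩ : (P.comap φ).primeCompl), ?_⟩
    rw [Localization.localRingHom_mk', IsLocalization.mk'_eq_iff_eq]
    refine congrArg _ ?_
    show s * φ (r ^ M * y) = φ (r ^ N * z) * a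
    rw [map_mul, map_mul, map_pow, map_pow, hy, hz]
    ring

theorem formalFibre_quasiFinite_aux (R S : Type u) [CommRing R] [IsNoetherianRing R] [CommRing S] [Algebra R S]
    [Module.Finite R S] (P : Ideal S) [P.IsPrime] (p : Ideal R) [p.IsPrime] (hp : p = P.comap (algebraMap R S))
    (Q' : Ideal (Localization.AtPrime P)) [Q'.IsPrime] (Q : Ideal (Localization.AtPrime p)) [Q.IsPrime]
    (hQ : Q.comap (algebraMap R (Localization.AtPrime p)) = Q'.comap (algebraMap R (Localization.AtPrime P)))
    (h : CAlg.IsGeometricallyRegular Q.ResidueField (EGA4.formalFibre (Localization.AtPrime p) Q)) :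
    CAlg.IsGeometricallyRegular Q'.ResidueField (EGA4.formalFibre (Localization.AtPrime P) Q') := by
  subst hp
  haveI : (Q'.comap (Localization.localRingHom (P.comap (algebraMap R S)) P (algebraMap R S) rfl)).IsPrime :=
    Ideal.IsPrime.comap _
  refine formalFibre_localization_finite R S P Q' (formalFibre_of_eq ?_ h)
  rw [← IsLocalization.map_under (P.comap (algebraMap R S)).primeCompl (Localization.AtPrime (P.comap (algebraMap R S))) Q,
    ← IsLocalization.map_under (P.comap (algebraMap R S)).primeCompl (Localization.AtPrime (P.comap (algebraMap R S)))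
      (Q'.comap (Localization.localRingHom (P.comap (algebraMap R S)) P (algebraMap R S) rfl))]
  refine congrArg _ (hQ.trans ?_)
  show _ = (Q'.comap _).comap (algebraMap R _)
  rw [Ideal.comap_comap]
  refine congrArg (fun f => Ideal.comap f Q') (RingHom.ext fun x => ?_)
  rw [RingHom.comp_apply, Localization.localRingHom_to_map, ← IsScalarTower.algebraMap_apply]

/-- Formal fibres along a quasi-finite map. -/
theorem formalFibre_quasiFinite (R R' : Type u) [CommRing R] [CommRing R'] [IsNoetherianRing R] [Algebra R R']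
    [Algebra.FiniteType R R'] (p' : Ideal R') [p'.IsPrime] [Algebra.QuasiFiniteAt R p']
    (Q' : Ideal (Localization.AtPrime p')) [Q'.IsPrime]
    (Q : Ideal (Localization.AtPrime (p'.comap (algebraMap R R')))) [Q.IsPrime]
    (hQ : Q.comap (algebraMap R (Localization.AtPrime (p'.comap (algebraMap R R')))) =
      Q'.comap (algebraMap R (Localization.AtPrime p')))
    (h : CAlg.IsGeometricallyRegular Q.ResidueField
      (EGA4.formalFibre (Localization.AtPrime (p'.comap (algebraMap R R'))) Q)) :
    CAlg.IsGeometricallyRegular Q'.ResidueField (EGA4.formalFibre (Localization.AtPrime p') Q') := by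
  obtain ⟨S, hS, r, hrp, hb⟩ :=
    Algebra.QuasiFiniteAt.exists_fg_and_exists_notMem_and_awayMap_bijective (R := R) p'
  haveI : Module.Finite R S := ⟨(Submodule.fg_top _).mpr hS⟩
  haveI : IsNoetherianRing S := Algebra.FiniteType.isNoetherianRing R S
  let φ := S.val.toRingHom
  let P := p'.comap φ
  let ψ := Localization.localRingHom P p' φ rfl
  have hψ : Function.Bijective ψ := localRingHom_bijective_of_away φ Subtype.val_injective r hb.2 p' hrp
  haveI : IsNoetherianRing (Localization.AtPrime P) := IsLocalization.isNoetherianRing P.primeCompl _ inferInstance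
  haveI : (Q'.comap ψ).IsPrime := Ideal.IsPrime.comap _
  refine (isGeometricallyRegular_formalFibre_surjective ψ hψ.2 Q').mp
    (formalFibre_quasiFinite_aux R S P _ (by rw [Ideal.comap_comap]; exact congrArg (fun f => Ideal.comap f p') S.val.comp_algebraMap.symm) (Q'.comap ψ) Q ?_ h)
  rw [hQ, Ideal.comap_comap]
  refine congrArg (fun f => Ideal.comap f Q') (RingHom.ext fun x => ?_)
  rw [RingHom.comp_apply, IsScalarTower.algebraMap_apply R S (Localization.AtPrime P), Localization.localRingHom_to_map,
    IsScalarTower.algebraMap_apply R R' (Localization.AtPrime p')]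
  rfl

theorem isRegularHom_cpl_quasiFinite (R R' : Type u) [CommRing R] [CommRing R'] [IsNoetherianRing R] [IsNoetherianRing R']
    [Algebra R R'] [Algebra.FiniteType R R'] (p' : Ideal R') [p'.IsPrime] [Algebra.QuasiFiniteAt R p']
    (h : CAlg.IsRegularHom (Localization.AtPrime (p'.comap (algebraMap R R')))
      (EGA4.Cpl (Localization.AtPrime (p'.comap (algebraMap R R'))))) :
    CAlg.IsRegularHom (Localization.AtPrime p') (EGA4.Cpl (Localization.AtPrime p')) := by
  let p := p'.comap (algebraMap R R')
  haveI : IsNoetherianRing (Localization.AtPrime p') := IsLocalization.isNoetherianRing p'.primeCompl _ inferInstance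
  refine isRegularHom_cpl_of_fibres _ fun Q' hQ' => ?_
  let q := Q'.comap (algebraMap R (Localization.AtPrime p'))
  haveI : q.IsPrime := Ideal.IsPrime.comap _
  have hdisj : Disjoint (p.primeCompl : Set R) (q : Set R) := by
    rw [Set.disjoint_left]
    intro x hx hxq
    have h1 : algebraMap R' (Localization.AtPrime p') (algebraMap R R' x) ∈ Q' := by
      rw [← IsScalarTower.algebraMap_apply]; exact hxq
    exact hQ'.ne_top (Ideal.eq_top_of_isUnit_mem Q' h1
      (IsLocalization.map_units (Localization.AtPrime p') (⟨_, hx⟩ : p'.primeCompl)))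
  let Q := q.map (algebraMap R (Localization.AtPrime p))
  haveI : Q.IsPrime := IsLocalization.isPrime_of_isPrime_disjoint p.primeCompl _ q inferInstance hdisj
  exact formalFibre_quasiFinite R R' p' Q' Q
    (IsLocalization.comap_map_of_isPrime_disjoint p.primeCompl _ inferInstance hdisj) (h.2 Q).2

end Groth.Agent.CAlgH
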