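import Mathlib.Algebra.TrivSqZeroExt.Basic
import Mathlib.RingTheory.Spectrum.Prime.Topology
import Groth.Agent.FlatMorGeneric.Ring

/-! Generic freeness of modules over reduced rings: a monomial basis of the localised algebra. -/

universe u

set_option autoImplicit false

open MvPolynomial MonomialOrder

namespace Groth.Agent.CAlgH.GenericFreeReduced

open FlatMorGeneric

variable {R : Type u} [CommRing R] {n : ℕ} [IsReduced R]

/-- If `c ≠ 0` maximizes `leadIdeal` among its nonzero multiples, then `(R[x]/I)[1/c]` is flat and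
of finite presentation over `R[1/c]`. -/
theorem basis_fp_of_maximal {S : Type u} [CommRing S] [Algebra R S]
    (π : MvPolynomial (Fin n) R →ₐ[R] S) (hπ : Function.Surjective π) (c : R) (hc : c ≠ 0)
    (hmax : ∀ x, c ∣ x → x ≠ 0 → leadIdeal (RingHom.ker π) x ≤ leadIdeal (RingHom.ker π) c) :
    letI := (Localization.awayMap (algebraMap R S) c).toAlgebra
    (Localization.awayMap (algebraMap R S) c).FinitePresentation ∧
      ∃ (E : Set (Fin n →₀ ℕ)) (v : Module.Basis E (Localization.Away c) (Localization.Away (algebraMap R S c))),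
        ∀ e, v e = algebraMap S _ (π (monomial e.1 1)) := by
  classical
  set I := RingHom.ker π with hI
  let m := MonomialOrder.lex (σ := Fin n)
  let A := Localization.Away c
  let S' := Localization.Away (algebraMap R S c)
  let _ : Algebra A S' := (Localization.awayMap (algebraMap R S) c).toAlgebra
  have : IsScalarTower R A S' := .of_algebraMap_eq fun r => by
    rw [RingHom.algebraMap_toAlgebra, Localization.awayMap, IsLocalization.Away.map,
      IsLocalization.map_eq, IsScalarTower.algebraMap_apply R S S']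
  have hnt : Nontrivial A := by
    refine (subsingleton_or_nontrivial A).resolve_left fun h => hc ?_
    obtain ⟨k, hk⟩ := (map_eq_zero_away (c := c) (A := A) (1 : R)).1 (Subsingleton.elim _ _)
    exact IsReduced.eq_zero _ ⟨k, by simpa using hk⟩
  let π' : MvPolynomial (Fin n) A →ₐ[A] S' := aeval fun i => algebraMap S S' (π (X i))
  have hπ' : ∀ p, π' (MvPolynomial.map (algebraMap R A) p) = algebraMap S S' (π p) := by
    intro p
    have : π'.toRingHom.comp (MvPolynomial.map (algebraMap R A)) =
        (algebraMap S S').comp π.toRingHom := by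
      refine MvPolynomial.ringHom_ext (fun r => ?_) fun i => ?_
      · simp [π', ← IsScalarTower.algebraMap_apply]
      · simp [π']
    exact RingHom.congr_fun this p
  have hu : ∀ k : ℕ, IsUnit (algebraMap R A (c ^ k)) := fun k => by
    rw [map_pow]; exact (IsLocalization.Away.algebraMap_isUnit c).pow k
  -- clearing denominators in `A[x]`
  have hclear : ∀ p : MvPolynomial (Fin n) A, ∃ (q : MvPolynomial (Fin n) R) (k : ℕ),
      MvPolynomial.map (algebraMap R A) q = C (algebraMap R A (c ^ k)) * p := by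
    intro p
    let _ := MvPolynomial.algebraMvPolynomial (R := R) (S := A) (σ := Fin n)
    obtain ⟨⟨q, ⟨_, _, ⟨k, rfl⟩, rfl⟩⟩, hq⟩ :=
      IsLocalization.surj ((Submonoid.powers c).map (C (σ := Fin n))) p
    refine ⟨q, k, ?_⟩
    change p * MvPolynomial.map (algebraMap R A) (C (c ^ k)) = MvPolynomial.map _ q at hq
    rw [← hq, map_C, mul_comm]
  have hker : ∀ p, π' p = 0 → ∃ w ∈ I, ∃ u : A, IsUnit u ∧
      MvPolynomial.map (algebraMap R A) w = C u * p := by
    intro p hp
    obtain ⟨q, k, hq⟩ := hclear p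
    have : algebraMap S S' (π q) = 0 := by rw [← hπ', hq, map_mul, hp, mul_zero]
    obtain ⟨j, hj⟩ := (map_eq_zero_away (c := algebraMap R S c) (A := S') _).1 this
    refine ⟨C (c ^ j) * q, ?_, _, hu (j + k), ?_⟩
    · rw [hI, RingHom.mem_ker, map_mul]
      simpa [← hj] using Or.inl rfl
    · rw [map_mul, map_C, hq, ← mul_assoc, ← map_mul, ← map_mul, ← pow_add]
  -- standard monomials are linearly independent
  have hstd : ∀ r, π' r = 0 → (∀ e ∈ r.support, ∀ d ∈ leadSet I c, ¬ d ≤ e) → r = 0 := by
    intro r hr hsupp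
    by_contra hne
    obtain ⟨w, hw, u, huu, hwu⟩ := hker r hr
    obtain ⟨N, hN⟩ := exists_pow_mul_coeff c (A := A) w
    let w' := C (c ^ N) * w
    have hcoef : ∀ e, algebraMap R A (coeff e w) = u * coeff e r := fun e => by
      rw [← coeff_map, hwu, coeff_C_mul]
    have hd : algebraMap R A (coeff (m.degree r) w') ≠ 0 := by
      rw [coeff_C_mul, map_mul, hcoef, ne_eq, (hu N).mul_right_eq_zero, huu.mul_right_eq_zero]
      exact m.coeff_degree_ne_zero_iff.2 hne
    have hdeg : m.degree w' = m.degree r := by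
      refine m.toSyn.injective (le_antisymm (m.degree_le_iff.2 fun e he => ?_)
        (m.le_degree (mem_support_iff.2 fun h => hd (by rw [h, map_zero]))))
      refine m.le_degree (mem_support_iff.2 fun h => mem_support_iff.1 he ?_)
      rw [coeff_C_mul, hN e (by rw [hcoef, h, mul_zero])]
    let x := c * coeff (m.degree r) w'
    have hx : x ≠ 0 := fun h => hd <| by
      have h' := congrArg (algebraMap R A) h
      rw [map_mul, map_zero, (IsLocalization.Away.algebraMap_isUnit c).mul_right_eq_zero] at h'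
      exact h'
    have hxL : m.degree r ∈ leadSet I x := by
      refine ⟨w', I.mul_mem_left _ hw, hdeg, 1, ?_⟩
      show coeff (m.degree w') w' ∣ _
      rw [hdeg, pow_one]
      exact Dvd.intro_left _ rfl
    obtain ⟨d, hd', hle⟩ := monomial_mem_leadIdeal.1
      (hmax x (Dvd.intro _ rfl) hx (monomial_mem_leadIdeal.2 ⟨_, hxL, le_rfl⟩))
    exact hsupp _ (m.degree_mem_support hne) d hd' hle
  -- finitely many divisors
  obtain ⟨t, htL, ht⟩ := (Submodule.fg_span_iff_fg_span_finset_subset _).1
    (IsNoetherian.noetherian (leadIdeal I c) : (Submodule.span (MvPolynomial (Fin n) ℚ)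
      ((fun d => monomial d (1 : ℚ)) '' leadSet I c)).FG)
  choose d hdL hdt using fun y : t => htL y.2
  choose w hwI hwd k hwk using hdL
  let b : t → MvPolynomial (Fin n) A := fun y => MvPolynomial.map (algebraMap R A) (w y)
  have hb0 : ∀ y, π' (b y) = 0 := fun y => by rw [hπ', RingHom.mem_ker.1 (hwI y), map_zero]
  have hblc : ∀ y, IsUnit (algebraMap R A (coeff (d y) (w y))) := fun y => by
    obtain ⟨z, hz⟩ := hwk y
    have h' : c ^ k y = coeff (d y) (w y) * z := by rw [← hwd y]; exact hz
    have := hu (k y)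
    rw [h', map_mul] at this
    exact isUnit_of_mul_isUnit_left this
  have hbdeg : ∀ y, m.degree (b y) = d y := fun y => by
    refine m.toSyn.injective (le_antisymm (m.degree_le_iff.2 fun e he => ?_)
      (m.le_degree (mem_support_iff.2 ?_)))
    · rw [← hwd y]
      exact m.le_degree (MvPolynomial.support_map_subset _ _ he)
    · rw [coeff_map]; exact (hblc y).ne_zero
  have hdiv : ∀ p, ∃ r, (∀ e ∈ r.support, ∀ d' ∈ leadSet I c, ¬ d' ≤ e) ∧
      p - r ∈ Ideal.span (Set.range b) := by
    intro p
    obtain ⟨g, r, hp, -, hr⟩ := m.div (b := b) (fun y => by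
      show IsUnit (coeff (m.degree (b y)) (b y))
      rw [hbdeg, coeff_map]; exact hblc y) p
    refine ⟨r, fun e he d' hd' hle => ?_, ?_⟩
    · have hmem : monomial d' (1 : ℚ) ∈ Ideal.span
          ((fun d => monomial d (1 : ℚ)) '' Set.range d) := by
        have heq : (t : Set (MvPolynomial (Fin n) ℚ)) = (fun d => monomial d (1 : ℚ)) '' Set.range d := by
          ext y
          constructor
          · intro hy; exact ⟨_, ⟨⟨y, hy⟩, rfl⟩, hdt ⟨y, hy⟩⟩
          · rintro ⟨_, ⟨y, rfl⟩, rfl⟩
            show monomial (d y) (1 : ℚ) ∈ (t : Set _)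
            rw [show monomial (d y) (1 : ℚ) = y from hdt y]
            exact y.2
        rw [← heq, show Ideal.span (t : Set (MvPolynomial (Fin n) ℚ)) = _ from ht.symm]
        exact Submodule.subset_span ⟨d', hd', rfl⟩
      rw [mem_ideal_span_monomial_image, support_monomial, if_neg one_ne_zero] at hmem
      obtain ⟨_, ⟨y, rfl⟩, hy⟩ := hmem d' (Finset.mem_singleton_self _)
      exact hr e he y (hbdeg y ▸ hy.trans hle)
    · rw [hp, add_sub_cancel_right, Finsupp.linearCombination_apply]
      exact Submodule.sum_mem _ fun y _ =>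
        Submodule.smul_mem _ _ (Ideal.subset_span (Set.mem_range_self y))
  have hspan : RingHom.ker π' = Ideal.span (Set.range b) := by
    refine le_antisymm (fun p hp => ?_) (Ideal.span_le.2 fun _ ⟨y, hy⟩ => hy ▸ hb0 y)
    obtain ⟨r, hr, hpr⟩ := hdiv p
    have hle : Ideal.span (Set.range b) ≤ RingHom.ker π' :=
      Ideal.span_le.2 fun _ ⟨y, hy⟩ => hy ▸ hb0 y
    have : π' r = 0 := by
      simpa [map_sub, RingHom.mem_ker.1 hp] using RingHom.mem_ker.1 (hle hpr)
    rwa [hstd r this hr, sub_zero] at hpr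
  have hsurj : Function.Surjective π' := by
    intro y
    obtain ⟨⟨s, _, k, rfl⟩, hy⟩ := IsLocalization.surj (Submonoid.powers (algebraMap R S c)) y
    obtain ⟨q, rfl⟩ := hπ s
    obtain ⟨v, hv⟩ := hu k
    refine ⟨C (↑v⁻¹ : A) * MvPolynomial.map (algebraMap R A) q, ?_⟩
    have hy' : y * algebraMap S S' (algebraMap R S c ^ k) = algebraMap S S' (π q) := hy
    rw [← map_pow, ← IsScalarTower.algebraMap_apply, IsScalarTower.algebraMap_apply R A S',
      ← hv] at hy'
    rw [map_mul, hπ', ← hy', show π' (C (↑v⁻¹ : A)) = algebraMap A S' ↑v⁻¹ from aeval_C _ _,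
      mul_left_comm, ← map_mul, Units.inv_mul, map_one, mul_one]
  let Std : Set (Fin n →₀ ℕ) := {e | ∀ d ∈ leadSet I c, ¬ d ≤ e}
  let ψ : restrictSupport A Std →ₗ[A] S' := π'.toLinearMap ∘ₗ (restrictSupport A Std).subtype
  have hψ : Function.Bijective ψ := by
    refine ⟨fun r₁ r₂ hr => Subtype.ext (sub_eq_zero.1 ?_), fun y => ?_⟩
    · refine hstd (r₁.1 - r₂.1) (by rw [map_sub, sub_eq_zero]; exact hr) fun e he => ?_
      rcases Finset.mem_union.1 (MvPolynomial.support_sub (Fin n) r₁.1 r₂.1 he) with h | h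
      · exact (mem_restrictSupport_iff A).1 r₁.2 h
      · exact (mem_restrictSupport_iff A).1 r₂.2 h
    obtain ⟨p, rfl⟩ := hsurj y
    obtain ⟨r, hr, hpr⟩ := hdiv p
    refine ⟨⟨r, (mem_restrictSupport_iff A).2 fun e he => hr e he⟩, ?_⟩
    rw [← hspan, RingHom.mem_ker, map_sub, sub_eq_zero] at hpr
    exact hpr.symm
  have : Algebra.FinitePresentation A S' :=
    Algebra.FinitePresentation.of_surjective (f := π') hsurj
      (show (RingHom.ker π').FG from hspan ▸ Submodule.fg_span (Set.finite_range b))
  refine ⟨‹Algebra.FinitePresentation A S'›, Std,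
    (basisRestrictSupport A Std).map (LinearEquiv.ofBijective ψ hψ), fun e => ?_⟩
  rw [Module.Basis.map_apply]
  show π' ((basisRestrictSupport A Std e : restrictSupport A Std) : MvPolynomial (Fin n) A) = _
  rw [← hπ', MvPolynomial.map_monomial, map_one]
  congr 1
  have h1 : (basisRestrictSupport A Std e : restrictSupport A Std) =
      ⟨monomial e.1 1, (mem_restrictSupport_iff A).2 fun i hi => by
        rw [support_monomial, if_neg one_ne_zero, Finset.coe_singleton, Set.mem_singleton_iff] at hi
        exact hi ▸ e.2⟩ := by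
    rw [Module.Basis.apply_eq_iff]
    refine Finsupp.ext fun j => ?_
    show coeff j.1 (monomial e.1 (1 : A)) = _
    simp [coeff_monomial, Finsupp.single_apply, Subtype.ext_iff]
  rw [h1]

/-- Below any `a ≠ 0` a good localisation exists. -/
theorem exists_dvd_basis_fp {S : Type u} [CommRing S] [Algebra R S]
    (π : MvPolynomial (Fin n) R →ₐ[R] S) (hπ : Function.Surjective π) (a : R) (ha : a ≠ 0) :
    ∃ b, a ∣ b ∧ b ≠ 0 ∧
    letI := (Localization.awayMap (algebraMap R S) b).toAlgebra
    (Localization.awayMap (algebraMap R S) b).FinitePresentation ∧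
      ∃ (E : Set (Fin n →₀ ℕ)) (v : Module.Basis E (Localization.Away b) (Localization.Away (algebraMap R S b))),
        ∀ e, v e = algebraMap S _ (π (monomial e.1 1)) := by
  obtain ⟨_, ⟨b, hab, hb, rfl⟩, hmax⟩ := wellFounded_gt.has_min
    {J | ∃ x, a ∣ x ∧ x ≠ 0 ∧ leadIdeal (RingHom.ker π) x = J} ⟨_, a, dvd_rfl, ha, rfl⟩
  refine ⟨b, hab, hb, basis_fp_of_maximal π hπ b hb fun x hbx hx => ?_⟩
  have h2 : leadIdeal (RingHom.ker π) b ≤ leadIdeal (RingHom.ker π) x :=
    Ideal.span_mono (Set.image_mono (leadSet_mono hbx))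
  exact (eq_of_le_of_not_lt h2 (hmax _ ⟨x, hab.trans hbx, hx, rfl⟩)).symm.le

end Groth.Agent.CAlgH.GenericFreeReduced
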