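import Mathlib
import Groth.Agent.CAlgH.GenericFreeReduced

/-! Generic freeness of finite modules over finite type algebras over reduced rings (Stacks 051Z). -/

universe u

set_option autoImplicit false

open MvPolynomial TrivSqZeroExt

namespace Groth.Agent.CAlgH.GenericFreeModule

section free

variable {R : Type u} [CommRing R] (c : R) {T P T' P' : Type u} [AddCommGroup T] [Module R T]
  [AddCommGroup P] [Module R P] [AddCommGroup T'] [Module R T'] [AddCommGroup P'] [Module R P']
  [Module (Localization.Away c) T'] [IsScalarTower R (Localization.Away c) T']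
  [Module (Localization.Away c) P'] [IsScalarTower R (Localization.Away c) P']
  (ι : T →ₗ[R] T') [IsLocalizedModule (Submonoid.powers c) ι]
  (κ : P →ₗ[R] P') [IsLocalizedModule (Submonoid.powers c) κ]

include ι κ in
/-- A direct summand of a localised module is free if the module has a homogeneous basis. -/
theorem free_of_basis (p : T →ₗ[R] P) (i : P →ₗ[R] T) (hpi : ∀ x, p (i x) = x) {E : Type*}
    (v : Module.Basis E (Localization.Away c) T') (t : E → T) (hv : ∀ e, v e = ι (t e))
    (hom : ∀ e, p (t e) = 0 ∨ i (p (t e)) = t e) : Module.Free (Localization.Away c) P' := by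
  let g := IsLocalizedModule.mapExtendScalars (Submonoid.powers c) ι κ (Localization.Away c) p
  let h := IsLocalizedModule.mapExtendScalars (Submonoid.powers c) κ ι (Localization.Away c) i
  have hg : ∀ x, g (ι x) = κ (p x) := fun x => IsLocalizedModule.map_apply _ ι κ p x
  have hh : ∀ x, h (κ x) = ι (i x) := fun x => IsLocalizedModule.map_apply _ κ ι i x
  have hgs : Function.Surjective g :=
    IsLocalizedModule.map_surjective _ ι κ p fun x => ⟨i x, hpi x⟩
  let E₂ := {e // p (t e) ≠ 0}
  have h2 : ∀ e : E₂, h (g (v e.1)) = v e.1 := fun e => by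
    rw [hv, hg, hh, (hom e.1).resolve_left e.2]
  have hli : LinearIndependent (Localization.Away c) (fun e : E₂ => g (v e.1)) := by
    refine LinearIndependent.of_comp h ?_
    rw [show (h ∘ fun e : E₂ => g (v e.1)) = v ∘ Subtype.val from funext h2]
    exact v.linearIndependent.comp _ Subtype.val_injective
  refine Module.Free.of_basis (Module.Basis.mk hli ?_)
  rintro z -
  obtain ⟨w, rfl⟩ := hgs z
  have hw : w ∈ Submodule.span (Localization.Away c) (Set.range v) := v.span_eq ▸ Submodule.mem_top
  induction hw using Submodule.span_induction with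
  | mem x hx =>
    obtain ⟨e, rfl⟩ := hx
    by_cases he : p (t e) = 0
    · rw [hv, hg, he, map_zero]; exact zero_mem _
    · exact Submodule.subset_span ⟨⟨e, he⟩, rfl⟩
  | zero => rw [map_zero]; exact zero_mem _
  | add a b _ _ ha hb => rw [map_add]; exact add_mem ha hb
  | smul a x _ hx => rw [map_smul]; exact Submodule.smul_mem _ _ hx

end free

theorem finitePresentation_of_retract {A B C : Type u} [CommRing A] [CommRing B] [Algebra A B] [CommRing C]
    [Algebra A C] [Algebra.FinitePresentation A B] (p : B →ₐ[A] C) (i : C →ₐ[A] B)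
    (h : ∀ x, p (i x) = x) : Algebra.FinitePresentation A C := by
  classical
  obtain ⟨s, hs⟩ := (Algebra.FiniteType.out : (⊤ : Subalgebra A B).FG)
  refine Algebra.FinitePresentation.of_surjective (f := p) (fun x => ⟨i x, h x⟩)
    ⟨s.image fun x => x - i (p x), ?_⟩
  rw [Finset.coe_image]
  refine le_antisymm (Ideal.span_le.2 ?_) ?_
  · rintro _ ⟨x, -, rfl⟩
    show p (x - i (p x)) = 0
    rw [map_sub, h, sub_self]
  · intro x hx
    have key : ∀ y : B, y - i (p y) ∈ Ideal.span ((fun x => x - i (p x)) '' (s : Set B)) := by
      intro y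
      have hy : y ∈ Algebra.adjoin A (s : Set B) := hs ▸ Algebra.mem_top
      induction hy using Algebra.adjoin_induction with
      | mem y hy => exact Ideal.subset_span ⟨y, hy, rfl⟩
      | algebraMap r => simp
      | add a b _ _ ha hb =>
        rw [map_add, map_add, add_sub_add_comm]; exact add_mem ha hb
      | mul a b _ _ ha hb =>
        rw [map_mul, map_mul, show a * b - i (p a) * i (p b) = a * (b - i (p b)) + i (p b) * (a - i (p a)) by ring]
        exact add_mem (Ideal.mul_mem_left _ _ hb) (Ideal.mul_mem_left _ _ ha)
    have h := key x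
    rwa [show p x = 0 from hx, map_zero, sub_zero] at h

variable (R S : Type u) [CommRing R] [CommRing S] [Algebra R S] (M : Type u) [AddCommGroup M] [Module S M]
  [Module R M] [IsScalarTower R S M]

set_option maxHeartbeats 1000000 in
theorem exists_dvd_good [IsReduced R] [Algebra.FiniteType R S] [Module.Finite S M] (a : R) (ha : a ≠ 0) :
    ∃ f, a ∣ f ∧ f ≠ 0 ∧
      Module.Free (Localization.Away f) (LocalizedModule (Submonoid.powers f) M) ∧
      Module.Free (Localization.Away f) (LocalizedModule (Submonoid.powers f) S) ∧
      (Localization.awayMap (algebraMap R S) f).FinitePresentation ∧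
      Module.FinitePresentation (Localization.Away (algebraMap R S f))
        (LocalizedModule (Submonoid.powers (algebraMap R S f)) M) := by
  classical
  letI : Module Sᵐᵒᵖ M := Module.compHom M ((RingHom.id S).fromOpposite mul_comm)
  haveI : IsCentralScalar S M := ⟨fun _ _ => rfl⟩
  haveI : IsScalarTower R Sᵐᵒᵖ M := ⟨fun r s m => by
    show (MulOpposite.unop (r • s)) • m = r • (MulOpposite.unop s • m)
    rw [MulOpposite.unop_smul, smul_assoc]⟩
  let T := TrivSqZeroExt S M
  obtain ⟨k, π₀, hπ₀⟩ := Algebra.FiniteType.iff_quotient_mvPolynomial''.1 ‹Algebra.FiniteType R S›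
  obtain ⟨m, y, hy⟩ := Module.Finite.exists_fin (R := S) (M := M)
  let val : Fin (k + m) → T := Fin.append (fun i => inl (π₀ (X i))) (fun j => inr (y j))
  let π : MvPolynomial (Fin (k + m)) R →ₐ[R] T := aeval val
  have hinl : ∀ s : S, (inl s : T) ∈ π.range := by
    intro s
    obtain ⟨q, rfl⟩ := hπ₀ s
    refine ⟨rename (Fin.castAdd m) q, ?_⟩
    show π.comp (rename (Fin.castAdd m)) q = ((inlAlgHom R S M).comp π₀) q
    congr 1
    refine MvPolynomial.algHom_ext fun i => ?_
    simp [π, val]
  have hinr : ∀ x : M, (inr x : T) ∈ π.range := by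
    intro x
    have hx : x ∈ Submodule.span S (Set.range y) := hy ▸ Submodule.mem_top
    induction hx using Submodule.span_induction with
    | mem x hx =>
      obtain ⟨j, rfl⟩ := hx
      exact ⟨X (Fin.natAdd k j), by simp [π, val]⟩
    | zero => rw [inr_zero]; exact zero_mem _
    | add a b _ _ ha hb => rw [inr_add]; exact add_mem ha hb
    | smul s a _ ha => rw [← inl_mul_inr]; exact mul_mem (hinl s) ha
  have hπ : Function.Surjective π := fun z => by
    rw [← inl_fst_add_inr_snd_eq z]
    exact add_mem (hinl _) (hinr _)
  have hmon : ∀ e : Fin (k + m) →₀ ℕ, (π (monomial e 1)).snd = 0 ∨ (π (monomial e 1)).fst = 0 := by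
    have hmul : ∀ z w : T, (z.snd = 0 ∨ z.fst = 0) → (w.snd = 0 ∨ w.fst = 0) → ((z * w).snd = 0 ∨ (z * w).fst = 0) := by
      rintro z w (hz | hz) (hw | hw)
      · left; rw [snd_mul, hz, hw, smul_zero, smul_zero, add_zero]
      · right; rw [fst_mul, hw, mul_zero]
      · right; rw [fst_mul, hz, zero_mul]
      · right; rw [fst_mul, hz, zero_mul]
    intro e
    induction e using Finsupp.induction with
    | zero => left; simp [π]
    | single_add i d e hie hd ih =>
      clear hd
      rw [show monomial (Finsupp.single i d + e) (1 : R) = monomial (Finsupp.single i d) 1 * monomial e 1 by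
        rw [monomial_mul, mul_one], map_mul]
      refine hmul _ _ ?_ ih
      rw [← X_pow_eq_monomial, map_pow, show π (X i) = val i by simp [π]]
      induction d with
      | zero => left; simp
      | succ d ihd =>
        rw [pow_succ]
        refine hmul _ _ ihd ?_
        induction i using Fin.addCases with
        | left i => left; simp [val]
        | right j => right; simp [val]
  obtain ⟨f, hdvd, hf, hfp, E, v, hv⟩ := GenericFreeReduced.exists_dvd_basis_fp π hπ a ha
  refine ⟨f, hdvd, hf, ?_⟩
  let A := Localization.Away f
  let T' := Localization.Away (algebraMap R T f)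
  let S' := Localization.Away (algebraMap R S f)
  letI : Algebra A T' := (Localization.awayMap (algebraMap R T) f).toAlgebra
  letI : Algebra A S' := (Localization.awayMap (algebraMap R S) f).toAlgebra
  haveI : IsScalarTower R A T' := .of_algebraMap_eq fun r => by
    rw [RingHom.algebraMap_toAlgebra, Localization.awayMap, IsLocalization.Away.map,
      IsLocalization.map_eq, IsScalarTower.algebraMap_apply R T T']
  haveI : IsScalarTower R A S' := .of_algebraMap_eq fun r => by
    rw [RingHom.algebraMap_toAlgebra, Localization.awayMap, IsLocalization.Away.map,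
      IsLocalization.map_eq, IsScalarTower.algebraMap_apply R S S']
  let ι := (IsScalarTower.toAlgHom R T T').toLinearMap
  haveI hT'loc : IsLocalization (Algebra.algebraMapSubmonoid T (Submonoid.powers f)) T' := by
    rw [Algebra.algebraMapSubmonoid_powers]; infer_instance
  haveI : IsLocalizedModule (Submonoid.powers f) ι := (isLocalizedModule_iff_isLocalization).2 hT'loc
  have hsnd : ∀ e : E, (sndHom S M).restrictScalars R (π (monomial e.1 1)) = 0 ∨
      ((inrHom S M).restrictScalars R) ((sndHom S M).restrictScalars R (π (monomial e.1 1))) = π (monomial e.1 1) :=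
    fun e => (hmon e.1).imp id fun h => by
      conv_rhs => rw [← inl_fst_add_inr_snd_eq (π (monomial e.1 1)), h, inl_zero, zero_add]
      rfl
  have hfst : ∀ e : E, (fstHom R S M).toLinearMap (π (monomial e.1 1)) = 0 ∨
      (inlAlgHom R S M).toLinearMap ((fstHom R S M).toLinearMap (π (monomial e.1 1))) = π (monomial e.1 1) :=
    fun e => ((hmon e.1).symm).imp id fun h => by
      conv_rhs => rw [← inl_fst_add_inr_snd_eq (π (monomial e.1 1)), h, inr_zero, add_zero]
      rfl
  refine ⟨?_, ?_, ?_, ?_⟩
  · exact free_of_basis (E := ↥E) f ι (LocalizedModule.mkLinearMap _ M) ((sndHom S M).restrictScalars R)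
      ((inrHom S M).restrictScalars R) (fun x => rfl) v (fun e : ↥E => π (monomial e.1 1)) hv hsnd
  · exact free_of_basis (E := ↥E) f ι (LocalizedModule.mkLinearMap _ S) (fstHom R S M).toLinearMap
      (inlAlgHom R S M).toLinearMap (fun x => rfl) v (fun e : ↥E => π (monomial e.1 1)) hv hfst
  all_goals
    have hI : (Submonoid.powers (algebraMap R T f)) ≤
        (Submonoid.powers (algebraMap R S f)).comap (fstHom R S M) := by
      rintro _ ⟨j, rfl⟩
      exact ⟨j, ((map_pow (fstHom R S M) _ j).trans (congrArg (· ^ j) ((fstHom R S M).commutes f))).symm⟩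
    have hJ : (Submonoid.powers (algebraMap R S f)) ≤
        (Submonoid.powers (algebraMap R T f)).comap (inlAlgHom R S M) := by
      rintro _ ⟨j, rfl⟩
      exact ⟨j, ((map_pow (inlAlgHom R S M) _ j).trans (congrArg (· ^ j) ((inlAlgHom R S M).commutes f))).symm⟩
    let p' : T' →+* S' := IsLocalization.map S' (fstHom R S M).toRingHom hI
    let i' : S' →+* T' := IsLocalization.map T' (inlAlgHom R S M).toRingHom hJ
    have hpc : p'.comp (algebraMap A T') = algebraMap A S' := IsLocalization.ringHom_ext (Submonoid.powers f) <|
      RingHom.ext fun r => by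
        simp only [RingHom.comp_apply, ← IsScalarTower.algebraMap_apply]
        rw [IsScalarTower.algebraMap_apply R T T', IsLocalization.map_eq, IsScalarTower.algebraMap_apply R S S']
        exact congrArg _ ((fstHom R S M).commutes r)
    have hic : i'.comp (algebraMap A S') = algebraMap A T' := IsLocalization.ringHom_ext (Submonoid.powers f) <|
      RingHom.ext fun r => by
        simp only [RingHom.comp_apply, ← IsScalarTower.algebraMap_apply]
        rw [IsScalarTower.algebraMap_apply R S S', IsLocalization.map_eq, IsScalarTower.algebraMap_apply R T T']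
        exact congrArg _ ((inlAlgHom R S M).commutes r)
    have hpi : p'.comp i' = RingHom.id S' := IsLocalization.ringHom_ext (Submonoid.powers (algebraMap R S f)) <|
      RingHom.ext fun s => by
        simp only [RingHom.comp_apply, i', p', IsLocalization.map_eq, RingHom.id_comp]
        rfl
    haveI : Algebra.FinitePresentation A T' := hfp
    haveI hS'fp : Algebra.FinitePresentation A S' :=
      finitePresentation_of_retract (⟨p', fun r => RingHom.congr_fun hpc r⟩ : T' →ₐ[A] S')
        ⟨i', fun r => RingHom.congr_fun hic r⟩ (fun x => RingHom.congr_fun hpi x)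
  · exact hS'fp
  · letI : Algebra S' T' := i'.toAlgebra
    haveI : IsScalarTower A S' T' := .of_algebraMap_eq fun r => (RingHom.congr_fun hic r).symm
    haveI : IsScalarTower S S' T' := .of_algebraMap_eq fun s => by
      rw [RingHom.algebraMap_toAlgebra, IsLocalization.map_eq, IsScalarTower.algebraMap_apply S T T']
      rfl
    haveI : Algebra.FinitePresentation S' T' := Algebra.FinitePresentation.of_restrict_scalars_finitePresentation A S' T'
    haveI : Module.Finite S T := Module.Finite.of_surjective
      ((TrivSqZeroExt.inlAlgHom S S M).toLinearMap.coprod (inrHom S M)) fun z => ⟨(z.fst, z.snd), inl_fst_add_inr_snd_eq z⟩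
    let g := algebraMap R S f
    let ιS := (IsScalarTower.toAlgHom S T T').toLinearMap
    haveI : IsLocalizedModule (Submonoid.powers g) ιS := (isLocalizedModule_iff_isLocalization).2 (by
      rw [Algebra.algebraMapSubmonoid_powers, ← IsScalarTower.algebraMap_apply R S T]; infer_instance)
    haveI : Module.Finite S' T' := Module.Finite.of_isLocalizedModule (Submonoid.powers g) ιS
    haveI : Module.FinitePresentation S' T' := Module.FinitePresentation.of_finite_of_finitePresentation S' T'
    let P' := LocalizedModule (Submonoid.powers g) M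
    let gp := IsLocalizedModule.mapExtendScalars (Submonoid.powers g) ιS (LocalizedModule.mkLinearMap (Submonoid.powers g) M) S' (sndHom S M)
    let hp := IsLocalizedModule.mapExtendScalars (Submonoid.powers g) (LocalizedModule.mkLinearMap (Submonoid.powers g) M) ιS S' (inrHom S M)
    refine Module.finitePresentation_of_surjective gp
      (IsLocalizedModule.map_surjective _ ιS _ (sndHom S M) fun x => ⟨inr x, rfl⟩) ?_
    have hgh : gp ∘ₗ hp = LinearMap.id := by
      refine LinearMap.restrictScalars_injective S (IsLocalizedModule.ext (Submonoid.powers g)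
        (LocalizedModule.mkLinearMap _ M) (IsLocalizedModule.map_units (LocalizedModule.mkLinearMap _ M)) ?_)
      refine LinearMap.ext fun x => ?_
      show gp (hp (LocalizedModule.mkLinearMap _ M x)) = LocalizedModule.mkLinearMap _ M x
      simp only [gp, hp, IsLocalizedModule.mapExtendScalars_apply_apply, IsLocalizedModule.map_apply]
      rfl
    rw [show LinearMap.ker gp = LinearMap.range (LinearMap.id - hp ∘ₗ gp) from le_antisymm
      (fun z hz => ⟨z, by simp [LinearMap.mem_ker.1 hz]⟩)
      (by
        rintro _ ⟨z, rfl⟩
        show gp (z - hp (gp z)) = 0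
        rw [map_sub, ← LinearMap.comp_apply gp hp, hgh, LinearMap.id_apply, sub_self])]
    rw [LinearMap.range_eq_map]
    exact Module.Finite.fg_top.map _

theorem main [IsReduced R] [Algebra.FiniteType R S] [Module.Finite S M] :
    ∃ U : Set (PrimeSpectrum R), IsOpen U ∧ Dense U ∧ ∀ u ∈ U, ∃ f : R, f ∉ u.asIdeal ∧
      (PrimeSpectrum.basicOpen f : Set (PrimeSpectrum R)) ⊆ U ∧
      Module.Free (Localization.Away f) (LocalizedModule (Submonoid.powers f) M) ∧
      Module.Free (Localization.Away f) (LocalizedModule (Submonoid.powers f) S) ∧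
      (Localization.awayMap (algebraMap R S) f).FinitePresentation ∧
      Module.FinitePresentation (Localization.Away (algebraMap R S f))
        (LocalizedModule (Submonoid.powers (algebraMap R S f)) M) := by
  let G : Set R := {f | Module.Free (Localization.Away f) (LocalizedModule (Submonoid.powers f) M) ∧
      Module.Free (Localization.Away f) (LocalizedModule (Submonoid.powers f) S) ∧
      (Localization.awayMap (algebraMap R S) f).FinitePresentation ∧
      Module.FinitePresentation (Localization.Away (algebraMap R S f))
        (LocalizedModule (Submonoid.powers (algebraMap R S f)) M)}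
  refine ⟨⋃ f ∈ G, (PrimeSpectrum.basicOpen f : Set (PrimeSpectrum R)),
    isOpen_biUnion fun f _ => (PrimeSpectrum.basicOpen f).isOpen, ?_, fun u hu => ?_⟩
  · rw [PrimeSpectrum.isTopologicalBasis_basic_opens.dense_iff]
    rintro _ ⟨a, rfl⟩ ⟨w, hw⟩
    obtain ⟨f, hdvd, hf, hgood⟩ := exists_dvd_good R S M a (fun h => hw (h ▸ zero_mem _))
    have hne : (PrimeSpectrum.basicOpen f : Set (PrimeSpectrum R)).Nonempty := by
      rw [Set.nonempty_iff_ne_empty]
      intro h
      exact hf ((PrimeSpectrum.basicOpen_eq_bot_iff f).1 (TopologicalSpace.Opens.ext h)).eq_zero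
    obtain ⟨z, hz⟩ := hne
    exact ⟨z, fun h => hz (Ideal.mem_of_dvd _ hdvd h), Set.mem_biUnion hgood hz⟩
  · obtain ⟨f, hf, hu⟩ := Set.mem_iUnion₂.1 hu
    exact ⟨f, hu, Set.subset_biUnion_of_mem (u := fun f => (PrimeSpectrum.basicOpen f : Set (PrimeSpectrum R))) hf,
      hf.1, hf.2.1, hf.2.2.1, hf.2.2.2⟩

end Groth.Agent.CAlgH.GenericFreeModule
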