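import Mathlib.RingTheory.Spectrum.Prime.Basic
import Mathlib.RingTheory.Localization.Ideal

/-! Unique point over the generic point. -/
universe u

namespace Groth.Agent.CAlgH

theorem comap_ne_bot_of_unique_over_generic (A B : Type u) [CommRing A] [IsDomain A]
    [CommRing B] [IsDomain B] (φ : A →+* B)
    (h : ∃! q : PrimeSpectrum B, Ideal.comap φ q.asIdeal = ⊥) (J : Ideal B) (hJ : J ≠ ⊥) :
    Ideal.comap φ J ≠ ⊥ := by
  obtain ⟨q, hq, huniq⟩ := h
  have hq' : q = ⟨⊥, Ideal.isPrime_bot⟩ := (huniq _ (by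
    simp only
    refine le_antisymm ?_ bot_le
    rw [← hq]; exact Ideal.comap_mono bot_le)).symm
  intro hc
  obtain ⟨P, hP, hJP, hd⟩ := Ideal.exists_le_prime_disjoint J ((nonZeroDivisors A).map φ) (by
    rw [Set.disjoint_right]
    rintro _ ⟨a, ha, rfl⟩ hmem
    exact nonZeroDivisors.ne_zero ha (by rw [← Ideal.mem_bot, ← hc]; exact hmem))
  have : (⟨P, hP⟩ : PrimeSpectrum B) = q := huniq _ (by
    refine le_antisymm (fun a ha => ?_) bot_le
    by_contra ha0
    exact Set.disjoint_left.mp hd ha ⟨a, mem_nonZeroDivisors_of_ne_zero ha0, rfl⟩)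
  exact hJ (le_bot_iff.mp (hJP.trans (le_of_eq (congrArg PrimeSpectrum.asIdeal (this.trans hq')))))


end Groth.Agent.CAlgH
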