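import Groth.Agent.CAlgH.CIPresentation
import Mathlib.LinearAlgebra.Matrix.Rank
import Mathlib.Algebra.Module.SpanRank

/-!
# Independence of `dim B - μ(ker)` of the presentation
-/

universe u

set_option autoImplicit false

open IsLocalRing RingTheory.Sequence

namespace Groth.Agent.CAlgH.GeomDepth

open RegularIdealLocal

variable {A : Type u} [CommRing A] [IsLocalRing A]

theorem le_card_of_indepMod {J : Ideal A} {r n : ℕ} {g : Fin r → A} {h : Fin n → A}
    (hgJ : Ideal.span (Set.range g) = J) (hhJ : Ideal.span (Set.range h) = J) (hg : IndepMod J g) : r ≤ n := by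
  classical
  choose U hU using fun i => Ideal.mem_span_range_iff_exists_fun.mp (hhJ ▸ hgJ ▸ Ideal.subset_span ⟨i, rfl⟩ :
    g i ∈ Ideal.span (Set.range h))
  choose V hV using fun j => Ideal.mem_span_range_iff_exists_fun.mp (hgJ ▸ hhJ ▸ Ideal.subset_span ⟨j, rfl⟩ :
    h j ∈ Ideal.span (Set.range g))
  have h1 : (Matrix.of U).map (residue A) * (Matrix.of V).map (residue A) = 1 := by
    rw [← Matrix.map_mul]
    ext i k
    have h0 : ∑ k, ((∑ j, U i j * V j k) - if i = k then 1 else 0) * g k = 0 := by
      simp only [sub_mul, Finset.sum_sub_distrib, Finset.sum_mul, mul_assoc]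
      rw [Finset.sum_comm]
      simp [← Finset.mul_sum, hV, hU]
    have h1 := hg _ (h0 ▸ zero_mem _) k
    rw [← residue_eq_zero_iff, map_sub, sub_eq_zero] at h1
    simpa [Matrix.mul_apply, Matrix.one_apply, apply_ite (residue A)] using h1
  have := Matrix.rank_mul_le_left ((Matrix.of U).map (residue A)) ((Matrix.of V).map (residue A))
  rw [h1, Matrix.rank_one, Fintype.card_fin] at this
  exact this.trans (Matrix.rank_le_width _)

theorem spanFinrank_eq {J : Ideal A} {r : ℕ} {g : Fin r → A} (hgJ : Ideal.span (Set.range g) = J)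
    (hg : IndepMod J g) : J.spanFinrank = r := by
  classical
  refine le_antisymm ?_ ?_
  · rw [← hgJ]
    refine (Submodule.spanFinrank_span_le_ncard_of_finite (Set.finite_range g)).trans ?_
    rw [← Nat.card_coe_set_eq]
    exact (Finite.card_range_le g).trans (Nat.card_fin r).le
  · have hfg : J.FG := hgJ ▸ Submodule.fg_span (Set.finite_range g)
    obtain ⟨s, hcard, hs⟩ := Submodule.FG.exists_span_set_encard_eq_spanFinrank hfg
    have hfin : s.Finite := Set.finite_of_encard_eq_coe hcard
    have := hfin.to_subtype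
    have := Fintype.ofFinite s
    have hn : Fintype.card s = J.spanFinrank := by
      rw [← Nat.cast_inj (R := ℕ∞), ← hcard, ← Set.coe_fintypeCard]
    rw [← hn]
    refine le_card_of_indepMod (h := fun i => ((Fintype.equivFin s).symm i : A)) hgJ ?_ hg
    rw [show (fun i => ((Fintype.equivFin s).symm i : A)) = Subtype.val ∘ (Fintype.equivFin s).symm from rfl,
      (Fintype.equivFin s).symm.surjective.range_comp, Subtype.range_coe]
    exact hs

variable [IsNoetherianRing A]

theorem exists_minimal_spanFinrank (J : Ideal A) : ∃ g : Fin J.spanFinrank → A,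
    Ideal.span (Set.range g) = J ∧ IndepMod J g := by
  obtain ⟨r, g, hg, hi⟩ := exists_minimal J
  obtain rfl := spanFinrank_eq hg hi
  exact ⟨g, hg, hi⟩

/-- Passing to a regular quotient drops dimension and number of generators equally. -/
theorem exists_quotient_data [IsRegularLocalRing A] (L K : Ideal A) (hLK : L ≤ K) (hK : K ≤ maximalIdeal A)
    [IsRegularLocalRing (A ⧸ L)] :
    ∃ c : ℕ, ringKrullDim (A ⧸ L) + c = ringKrullDim A ∧
      K.spanFinrank = (K.map (Ideal.Quotient.mk L)).spanFinrank + c := by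
  classical
  let π := Ideal.Quotient.mk L
  obtain ⟨b, hb, hbi⟩ := exists_minimal_spanFinrank L
  have hLm : L ≤ maximalIdeal A := hLK.trans hK
  obtain ⟨rs, hrs, hrsL⟩ := (isRegularLocalRing_iff_isRegularIdeal L).1 inferInstance
  have hreg := isWeaklyRegular_of_indepMod hLm hrs.toIsWeaklyRegular hrsL hb hbi
  have hbm : ∀ i, b i ∈ L := fun i => hb ▸ Ideal.subset_span ⟨i, rfl⟩
  refine ⟨L.spanFinrank, ?_, ?_⟩
  · have hr : IsRegular A (List.ofFn b) := isRegular_of_mem hreg (by
      simpa [List.mem_ofFn] using fun i => hLm (hbm i))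
    have h := ringKrullDim_add_length_eq_ringKrullDim_of_isRegular (List.ofFn b) hr
    rwa [List.length_ofFn, ofList_ofFn, hb] at h
  · obtain ⟨gbar, hgb, hgi⟩ := exists_minimal_spanFinrank (K.map π)
    have hgmem : ∀ i, ∃ z ∈ K, π z = gbar i := fun i =>
      (Ideal.mem_map_iff_of_surjective π Ideal.Quotient.mk_surjective).1 (hgb.le (Ideal.subset_span ⟨i, rfl⟩))
    choose g hgK hg using hgmem
    refine spanFinrank_eq (g := Fin.append g b) (le_antisymm (Ideal.span_le.2 (Set.range_subset_iff.2
      (Fin.addCases (fun i => by simpa using hgK i) fun i => by simpa using hLK (hbm i)))) fun z hz => ?_) ?_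
    · obtain ⟨a, ha⟩ := Ideal.mem_span_range_iff_exists_fun.1 (hgb.ge (Ideal.mem_map_of_mem π hz))
      choose a' ha' using fun i => Ideal.Quotient.mk_surjective (I := L) (a i)
      have hzL : z - ∑ i, a' i * g i ∈ L := by
        rw [← Ideal.Quotient.eq_zero_iff_mem, map_sub, map_sum, sub_eq_zero]
        exact ha.symm.trans (Finset.sum_congr rfl fun i _ => by rw [map_mul, ha', ← hg])
      rw [← sub_add_cancel z (∑ i, a' i * g i)]
      refine add_mem ((?_ : L ≤ _) hzL) (sum_mem fun i _ => Ideal.mul_mem_left _ _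
        (Ideal.subset_span ⟨Fin.castAdd _ i, by simp⟩))
      conv_lhs => rw [← hb]
      exact Ideal.span_le.2 (Set.range_subset_iff.2 fun i => Ideal.subset_span ⟨Fin.natAdd _ i, by simp⟩)
    · intro a ha
      rw [Fin.sum_univ_add] at ha
      simp only [Fin.append_left, Fin.append_right] at ha
      have hπb : π (∑ i, a (Fin.natAdd _ i) * b i) = 0 :=
        Ideal.Quotient.eq_zero_iff_mem.2 (sum_mem fun i _ => L.mul_mem_left _ (hbm i))
      have h1 : ∀ i, π (a (Fin.castAdd _ i)) ∈ maximalIdeal (A ⧸ L) := by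
        refine hgi _ ?_
        have := Ideal.mem_map_of_mem π ha
        rw [map_add, hπb, add_zero, map_sum, Ideal.map_mul, map_maximalIdeal_quotient] at this
        simpa only [map_mul, hg] using this
      have h2 : ∀ i, a (Fin.castAdd _ i) ∈ maximalIdeal A := fun i => by
        by_contra h
        rw [mem_maximalIdeal, mem_nonunits_iff, not_not] at h
        exact (h1 i) (h.map π)
      have h3 : ∑ i, a (Fin.natAdd _ i) * b i ∈ maximalIdeal A * K := by
        have := sub_mem ha (sum_mem fun i (_ : i ∈ Finset.univ) => Ideal.mul_mem_mul (h2 i) (hgK i))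
        simpa using this
      exact Fin.addCases h2 (hbi _ (mem_maximalIdeal_mul_of_regular L _ (sum_mem fun i _ => L.mul_mem_left _ (hbm i))
        (Ideal.mul_mono_right hK h3)))

theorem spanFinrank_map_equiv {X Y : Type u} [CommRing X] [CommRing Y] [IsLocalRing X] [IsLocalRing Y]
    [IsNoetherianRing X] (e : X ≃+* Y) (J : Ideal X) : (J.map e.toRingHom).spanFinrank = J.spanFinrank := by
  obtain ⟨g, hg, hgi⟩ := exists_minimal_spanFinrank J
  refine spanFinrank_eq (g := e ∘ g)
    ((congrArg Ideal.span (Set.range_comp e g)).trans ((Ideal.map_span _ _).symm.trans (congrArg (Ideal.map e.toRingHom) hg))) fun a ha i => ?_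
  have h := Ideal.mem_map_of_mem e.symm.toRingHom ha
  rw [Ideal.map_mul, IsLocalRing.map_maximalIdeal_of_surjective _ e.symm.surjective, map_sum, Ideal.map_map,
    show e.symm.toRingHom.comp e.toRingHom = RingHom.id X from RingHom.ext e.symm_apply_apply, Ideal.map_id] at h
  have := hgi (fun i => e.symm (a i)) (by simpa using h) i
  by_contra hn
  rw [mem_maximalIdeal, mem_nonunits_iff, not_not] at hn
  exact this (hn.map e.symm.toRingHom)

theorem spanFinrank_completion (J : Ideal A) :
    (J.map (algebraMap A (EGA4.Cpl A))).spanFinrank = J.spanFinrank := by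
  have : IsNoetherianRing (EGA4.Cpl A) := Matlis6.isNoetherianRing_adicCompletion (maximalIdeal A)
  have : Module.FaithfullyFlat A (EGA4.Cpl A) := Module.FaithfullyFlat.of_flat_of_isLocalHom
  obtain ⟨g, hgI, hg⟩ := exists_minimal_spanFinrank J
  have hmax : maximalIdeal (EGA4.Cpl A) = (maximalIdeal A).map (algebraMap A (EGA4.Cpl A)) :=
    AdicCompletion.maximalIdeal_eq_map
  refine spanFinrank_eq (g := algebraMap A (EGA4.Cpl A) ∘ g) (by rw [Set.range_comp, ← Ideal.map_span, hgI]) ?_
  intro a ha
  have happ : ∀ y : EGA4.Cpl A, ∃ r : A, y - algebraMap A _ r ∈ maximalIdeal (EGA4.Cpl A) := fun y => by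
    obtain ⟨r, hr⟩ := Ideal.Quotient.mk_surjective (AdicCompletion.evalOneₐ (maximalIdeal A) y)
    refine ⟨r, ?_⟩
    rw [hmax, ← AdicCompletion.ker_evalOneₐ_eq_map _ (IsNoetherian.noetherian _), RingHom.mem_ker,
      map_sub, sub_eq_zero]
    exact hr.symm.trans (AlgHom.commutes _ _).symm
  choose r hr using fun i => happ (a i)
  have hmem : algebraMap A (EGA4.Cpl A) (∑ i, r i * g i) ∈
      (maximalIdeal A * J).map (algebraMap A (EGA4.Cpl A)) := by
    rw [Ideal.map_mul, ← hmax]
    have : algebraMap A (EGA4.Cpl A) (∑ i, r i * g i) =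
        (∑ i, a i * (algebraMap A (EGA4.Cpl A) ∘ g) i) -
          ∑ i, (a i - algebraMap A _ (r i)) * algebraMap A (EGA4.Cpl A) (g i) := by
      simp [sub_mul, Finset.sum_sub_distrib, map_sum]
    rw [this]
    exact sub_mem ha (sum_mem fun i _ => Ideal.mul_mem_mul (hr i)
      (Ideal.mem_map_of_mem _ (hgI.le (Ideal.subset_span ⟨i, rfl⟩))))
  rw [← Ideal.mem_comap, Ideal.comap_map_eq_self_of_faithfullyFlat] at hmem
  intro i
  have hri : algebraMap A (EGA4.Cpl A) (r i) ∈ maximalIdeal (EGA4.Cpl A) :=
    map_nonunit _ _ (hg r hmem i)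
  simpa using add_mem (hr i) hri

theorem ringKrullDim_completion_regular (B : Type u) [CommRing B] [IsRegularLocalRing B] :
    ringKrullDim (EGA4.Cpl B) = ringKrullDim B := by
  have : IsRegularLocalRing (EGA4.Cpl B) := isRegularLocalRing_cpl B
  rw [← IsRegularLocalRing.spanFinrank_maximalIdeal, ← IsRegularLocalRing.spanFinrank_maximalIdeal,
    show maximalIdeal (EGA4.Cpl B) = (maximalIdeal B).map (algebraMap B (EGA4.Cpl B)) from
      AdicCompletion.maximalIdeal_eq_map, spanFinrank_completion]

omit [IsLocalRing A] [IsNoetherianRing A] in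
theorem int_eq_of_add {d e c μ ν : ℕ} (h1 : e + c = d) (h2 : μ = ν + c) : (d : ℤ) - μ = (e : ℤ) - ν := by
  omega

theorem dim_sub_spanFinrank_eq_of_surjective {P R : Type u} [CommRing P] [CommRing R] [IsRegularLocalRing P]
    [IsRegularLocalRing R] (p : P →+* R) (hp : Function.Surjective p) (K : Ideal P) (hK : K ≤ maximalIdeal P)
    (hle : RingHom.ker p ≤ K) (D d : ℕ) (hD : ringKrullDim P = D) (hd : ringKrullDim R = d) :
    (D : ℤ) - K.spanFinrank = (d : ℤ) - (K.map p).spanFinrank := by
  let e := (RingHom.quotientKerEquivOfSurjective hp).symm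
  have : IsRegularLocalRing (P ⧸ RingHom.ker p) := IsRegularLocalRing.of_ringEquiv e
  obtain ⟨c, hc, hμ⟩ := exists_quotient_data (RingHom.ker p) K hle hK
  rw [← ringKrullDim_eq_of_ringEquiv e, hd, hD] at hc
  refine int_eq_of_add (c := c) (by exact_mod_cast hc) ?_
  rw [hμ, ← spanFinrank_map_equiv e (K.map p), CIPresentation.map_quotient_of_surjective p hp K]

/-- Complete regular presentations. -/
theorem eq_of_complete {R B C : Type u} [CommRing R] [CommRing B] [CommRing C]
    [IsRegularLocalRing R] [IsRegularLocalRing B] [IsLocalRing C]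
    [IsAdicComplete (maximalIdeal R) R] [IsAdicComplete (maximalIdeal B) B]
    (f : R →+* C) (hf : Function.Surjective f) (g : B →+* C) (hg : Function.Surjective g)
    (d d' : ℕ) (hd : ringKrullDim R = d) (hd' : ringKrullDim B = d') :
    (d : ℤ) - (RingHom.ker f).spanFinrank = (d' : ℤ) - (RingHom.ker g).spanFinrank := by
  have : IsLocalHom f := .of_surjective _ hf
  have : IsLocalHom g := .of_surjective _ hg
  have : IsLocalRing ↥(f.pullback g) := RingHom.isLocalRing_pullback f g
  have := FibreProduct.isNoetherianRing f g hf hg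
  have := FibreProduct.isAdicComplete f g hf hg
  obtain ⟨Λ, _, φ, hΛ, hres, -⟩ := exists_coefficient_ring ↥(f.pullback g)
  obtain ⟨n, a, ha⟩ := Submodule.fg_iff_exists_fin_generating_family.mp
    (IsNoetherian.noetherian (maximalIdeal ↥(f.pullback g)))
  have hI : ∀ i, a i ∈ maximalIdeal ↥(f.pullback g) := fun i => ha ▸ Submodule.subset_span ⟨i, rfl⟩
  obtain ⟨q, hqC, hqX⟩ := exists_mvPowerSeries_eval φ (maximalIdeal ↥(f.pullback g)) a hI
  have hq : Function.Surjective q := by
    refine surjective_mvPowerSeries_hom q (maximalIdeal _) (fun i => (hqX i).symm ▸ hI i) ?_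
    rw [show (fun i => q (MvPowerSeries.X i)) = a from funext hqX, hqC,
      show Ideal.span (Set.range a) = maximalIdeal ↥(f.pullback g) from ha]
    exact hres
  have hP : IsRegularLocalRing (MvPowerSeries (Fin n) Λ) := (isRegularLocalRing_mvPowerSeries Λ n).1
  let pR : MvPowerSeries (Fin n) Λ →+* R := (FibreProduct.fst f g).comp q
  let pB : MvPowerSeries (Fin n) Λ →+* B := (FibreProduct.snd f g).comp q
  have hpR : Function.Surjective pR := (FibreProduct.fst_surjective f g hg).comp hq
  have hpB : Function.Surjective pB := (FibreProduct.snd_surjective f g hf).comp hq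
  have hcomm : f.comp pR = g.comp pB := RingHom.ext fun x => FibreProduct.condition f g (q x)
  let K : Ideal (MvPowerSeries (Fin n) Λ) := RingHom.ker (g.comp pB)
  have hK : K ≤ maximalIdeal _ := le_maximalIdeal (RingHom.ker_ne_top _)
  have hKB : K.map pB = RingHom.ker g := by
    rw [show K = (RingHom.ker g).comap pB from rfl, Ideal.map_comap_of_surjective _ hpB]
  have hKR : K.map pR = RingHom.ker f := by
    rw [show K = RingHom.ker (g.comp pB) from rfl, ← hcomm,
      show RingHom.ker (f.comp pR) = (RingHom.ker f).comap pR from rfl, Ideal.map_comap_of_surjective _ hpR]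
  have hleB : RingHom.ker pB ≤ K := fun x hx => by
    show g (pB x) = 0
    rw [show pB x = 0 from hx, map_zero]
  have hleR : RingHom.ker pR ≤ K := fun x hx => by
    show (g.comp pB) x = 0
    rw [← hcomm, RingHom.comp_apply, show pR x = 0 from hx, map_zero]
  obtain ⟨D, hD⟩ : ∃ D : ℕ, ringKrullDim (MvPowerSeries (Fin n) Λ) = D :=
    ⟨_, IsRegularLocalRing.spanFinrank_maximalIdeal.symm⟩
  rw [← hKR, ← hKB, ← dim_sub_spanFinrank_eq_of_surjective pR hpR K hK hleR D d hD hd,
    ← dim_sub_spanFinrank_eq_of_surjective pB hpB K hK hleB D d' hD hd']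

/-- `dim B − μ(ker)` does not depend on the presentation. -/
theorem eq_of_presentations (B B' : Type u) [CommRing B] [CommRing B'] [IsRegularLocalRing B] [IsRegularLocalRing B']
    (f : B →+* A) (hf : Function.Surjective f) (f' : B' →+* A) (hf' : Function.Surjective f')
    (d d' : ℕ) (hd : ringKrullDim B = d) (hd' : ringKrullDim B' = d') :
    (d : ℤ) - (RingHom.ker f).spanFinrank = (d' : ℤ) - (RingHom.ker f').spanFinrank := by
  have : IsNoetherianRing (EGA4.Cpl A) := Matlis6.isNoetherianRing_adicCompletion (maximalIdeal A)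
  have : IsRegularLocalRing (EGA4.Cpl B) := isRegularLocalRing_cpl B
  have : IsRegularLocalRing (EGA4.Cpl B') := isRegularLocalRing_cpl B'
  obtain ⟨e⟩ := completion_quotient_equiv f hf
  obtain ⟨e'⟩ := completion_quotient_equiv f' hf'
  let φ : EGA4.Cpl B →+* EGA4.Cpl A := e.toRingHom.comp (Ideal.Quotient.mk _)
  let φ' : EGA4.Cpl B' →+* EGA4.Cpl A := e'.toRingHom.comp (Ideal.Quotient.mk _)
  have hk : RingHom.ker φ = (RingHom.ker f).map (algebraMap B (EGA4.Cpl B)) := by
    ext x; show e (Ideal.Quotient.mk _ x) = 0 ↔ _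
    rw [map_eq_zero_iff e e.injective, Ideal.Quotient.eq_zero_iff_mem]
  have hk' : RingHom.ker φ' = (RingHom.ker f').map (algebraMap B' (EGA4.Cpl B')) := by
    ext x; show e' (Ideal.Quotient.mk _ x) = 0 ↔ _
    rw [map_eq_zero_iff e' e'.injective, Ideal.Quotient.eq_zero_iff_mem]
  rw [← spanFinrank_completion (RingHom.ker f), ← hk, ← spanFinrank_completion (RingHom.ker f'), ← hk']
  exact eq_of_complete φ (e.surjective.comp Ideal.Quotient.mk_surjective) φ'
    (e'.surjective.comp Ideal.Quotient.mk_surjective) d d'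
    ((ringKrullDim_completion_regular B).trans hd) ((ringKrullDim_completion_regular B').trans hd')

end Groth.Agent.CAlgH.GeomDepth
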