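import Groth.Agent.CAlgH.Avramov
import Groth.Agent.CAlgH.AdicSmoothFlatness
import Groth.Agent.CAlgH.CohenFactor
import Groth.Agent.CAlgH.CIPresentation
import Groth.Agent.CommAlg6.CompletionMap
import Groth.Agent.EGA41Lib.FlatRegular

/-!
# Independence of the factorization
-/

universe u

set_option autoImplicit false

open IsLocalRing RingTheory.Sequence

namespace Groth.Agent.CAlgH.GoodFactor

open RegularIdealLocal

section Fibre

variable {A T : Type u} [CommRing A] [IsLocalRing A] [IsNoetherianRing A] [CommRing T] [IsLocalRing T]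
  [IsNoetherianRing T] [Algebra A T] [IsLocalHom (algebraMap A T)]

omit [IsNoetherianRing A] [IsNoetherianRing T] in
theorem mem_mul_of_flat_quotient (K : Ideal T) [Module.Flat A (T ⧸ K)] {x : T} (hx : x ∈ K)
    (hxm : x ∈ (maximalIdeal A).map (algebraMap A T)) : x ∈ maximalIdeal T * K := by
  have h := Avramov.mem_sup_of_flat (R := A) (A := A) (S := T) (B := T ⧸ K) Function.surjective_id
    Ideal.Quotient.mk_surjective (x := x) (by rwa [show RingHom.ker (algebraMap T (T ⧸ K)) = K from Ideal.mk_ker]) hxm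
  rw [show RingHom.ker (algebraMap A A) = ⊥ from (RingHom.injective_iff_ker_eq_bot _).1 Function.injective_id,
    Ideal.map_bot, bot_sup_eq, show RingHom.ker (algebraMap T (T ⧸ K)) = K from Ideal.mk_ker] at h
  exact Ideal.mul_mono_left (IsLocalRing.map_maximalIdeal_le _) h

omit [IsNoetherianRing A] [IsNoetherianRing T] in
theorem mem_mul_of_fibre (K : Ideal T) [Module.Flat A (T ⧸ K)] {mT : Ideal T}
    (hmT : mT = (maximalIdeal A).map (algebraMap A T)) (J : Ideal T) (hJ : J ≤ K) {x : T} (hx : x ∈ K)
    (hxJ : Ideal.Quotient.mk mT x ∈ (maximalIdeal T * J).map (Ideal.Quotient.mk mT)) :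
    x ∈ maximalIdeal T * K := by
  obtain ⟨z, hz, hzx⟩ := (Ideal.mem_map_iff_of_surjective _ Ideal.Quotient.mk_surjective).1 hxJ
  have hzK : z ∈ maximalIdeal T * K := Ideal.mul_mono_right hJ hz
  have hxzK : x - z ∈ K := K.sub_mem hx (hJ ((Ideal.mul_le_right : maximalIdeal T * J ≤ J) hz))
  have hxzm : x - z ∈ mT := Ideal.Quotient.eq.1 hzx.symm
  subst hmT
  have hxz : x - z ∈ maximalIdeal T * K := mem_mul_of_flat_quotient (A := A) K hxzK hxzm
  simpa using add_mem hxz hzK

/-- The kernel of a map between flat algebras with regular fibres is regular and meets `m²` in `mK`. -/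
theorem regular_kernel [Module.Flat A T] (K : Ideal T) (hK : K ≤ maximalIdeal T) [Module.Flat A (T ⧸ K)]
    {mT : Ideal T} (hmT : mT = (maximalIdeal A).map (algebraMap A T)) [IsRegularLocalRing (T ⧸ mT)]
    [IsRegularLocalRing ((T ⧸ mT) ⧸ K.map (Ideal.Quotient.mk mT))] :
    CInt.IsRegularIdeal K ∧ ∀ x ∈ K, x ∈ maximalIdeal T * maximalIdeal T → x ∈ maximalIdeal T * K := by
  have hmap : ∀ J : Ideal T, (maximalIdeal T * J).map (Ideal.Quotient.mk mT) =
      maximalIdeal (T ⧸ mT) * J.map (Ideal.Quotient.mk mT) := fun J => by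
    rw [Ideal.map_mul, IsLocalRing.map_maximalIdeal_of_surjective _ Ideal.Quotient.mk_surjective]
  have hP := fun x (hx : x ∈ K) J hJ hxJ => mem_mul_of_fibre (A := A) K hmT J hJ (x := x) hx hxJ
  constructor
  · obtain ⟨c, x, hxK, hx⟩ := exists_minimal K
    have hxm : ∀ i, x i ∈ maximalIdeal T := fun i => hK (hxK ▸ Ideal.subset_span ⟨i, rfl⟩)
    have hKD : Ideal.span (Set.range (Ideal.Quotient.mk mT ∘ x)) = K.map (Ideal.Quotient.mk mT) := by
      rw [← hxK, Ideal.map_span, Set.range_comp]
    have hi : IndepMod (K.map (Ideal.Quotient.mk mT)) (Ideal.Quotient.mk mT ∘ x) := by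
      intro a ha
      choose α hα using fun i => Ideal.Quotient.mk_surjective (a i)
      have hmem : ∑ i, α i * x i ∈ maximalIdeal T * K :=
        hP _ (sum_mem fun i _ => Ideal.mul_mem_left _ _ (hxK ▸ Ideal.subset_span ⟨i, rfl⟩)) K le_rfl (by
          rw [hmap]
          simpa [map_sum, hα] using ha)
      intro i
      have : IsLocalHom (Ideal.Quotient.mk mT) := .of_surjective _ Ideal.Quotient.mk_surjective
      rw [← hα i]
      exact map_nonunit _ _ (hx α hmem i)
    obtain ⟨rs, hrs, hrsK⟩ := (isRegularLocalRing_iff_isRegularIdeal (K.map (Ideal.Quotient.mk mT))).1 inferInstance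
    have hle : K.map (Ideal.Quotient.mk mT) ≤ maximalIdeal (T ⧸ mT) := by
      rw [← IsLocalRing.map_maximalIdeal_of_surjective _ Ideal.Quotient.mk_surjective]
      exact Ideal.map_mono hK
    have hwr := isWeaklyRegular_of_indepMod hle hrs.toIsWeaklyRegular hrsK hKD hi
    rw [← List.map_ofFn] at hwr
    have hwr' : IsWeaklyRegular (T ⧸ mT) (List.ofFn x) := (isWeaklyRegular_map_algebraMap_iff (T ⧸ mT) (T ⧸ mT) _).1 hwr
    subst hmT
    obtain ⟨h1, -⟩ := EGA41Lib.isWeaklyRegular_and_flat_of_fibre (A := A) (List.ofFn x) (N := T)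
      (((Submodule.quotEquivOfEq _ ((maximalIdeal A).map (algebraMap A T))
        (by rw [smul_eq_mul, Ideal.mul_top])).isWeaklyRegular_congr _).2 hwr')
    exact ⟨_, isRegular_of_mem h1 (by simpa [List.mem_ofFn] using hxm), by rw [ofList_ofFn, hxK]⟩
  · intro x hx hxm
    refine hP x hx K le_rfl ?_
    rw [hmap]
    refine mem_maximalIdeal_mul_of_regular (K.map (Ideal.Quotient.mk mT)) _ (Ideal.mem_map_of_mem _ hx) ?_
    have := Ideal.mem_map_of_mem (Ideal.Quotient.mk mT) hxm
    rwa [hmap, IsLocalRing.map_maximalIdeal_of_surjective _ Ideal.Quotient.mk_surjective] at this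

end Fibre

/-- Regularity of the kernel does not see a surjection between flat algebras with regular fibres. -/
theorem isRegularIdeal_ker_comp {A T S B : Type u} [CommRing A] [CommRing T] [CommRing S] [CommRing B]
    [IsLocalRing A] [IsNoetherianRing A] [IsLocalRing T] [IsNoetherianRing T] [IsLocalRing S]
    [Algebra A T] [Algebra A S] [IsLocalHom (algebraMap A T)] [Module.Flat A T] [Module.Flat A S]
    [IsRegularLocalRing (T ⧸ (maximalIdeal A).map (algebraMap A T))]
    [IsRegularLocalRing (S ⧸ (maximalIdeal A).map (algebraMap A S))]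
    (p : T →ₐ[A] S) (hp : Function.Surjective p) (q : S →+* B) [Nontrivial B] :
    CInt.IsRegularIdeal (RingHom.ker (q.comp p.toRingHom)) ↔ CInt.IsRegularIdeal (RingHom.ker q) := by
  set K1 := RingHom.ker p.toRingHom with hK1
  set K := RingHom.ker (q.comp p.toRingHom) with hKdef
  have hle : K1 ≤ K := fun x hx => by
    rw [hKdef, RingHom.mem_ker, RingHom.comp_apply, show p.toRingHom x = 0 from hx, map_zero]
  have hKm : K ≤ maximalIdeal T := le_maximalIdeal (RingHom.ker_ne_top _)
  let e₀ : (T ⧸ K1) ≃+* S := RingHom.quotientKerEquivOfSurjective (f := p.toRingHom) hp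
  have : Module.Flat A (T ⧸ K1) :=
    Module.Flat.of_linearEquiv (Ideal.quotientKerAlgEquivOfSurjective hp).toLinearEquiv
  let π : T →+* S ⧸ (maximalIdeal A).map (algebraMap A S) := (Ideal.Quotient.mk _).comp p.toRingHom
  have hπ : Function.Surjective π := Ideal.Quotient.mk_surjective.comp hp
  have hπk : RingHom.ker π = (maximalIdeal A).map (algebraMap A T) ⊔ K1 := by
    have hmap : (maximalIdeal A).map (algebraMap A S) =
        ((maximalIdeal A).map (algebraMap A T)).map p.toRingHom := by
      rw [Ideal.map_map]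
      congr 1
      exact (AlgHom.comp_algebraMap p).symm
    rw [show RingHom.ker π = ((maximalIdeal A).map (algebraMap A S)).comap p.toRingHom by
      rw [← RingHom.comap_ker, Ideal.mk_ker], hmap, Ideal.comap_map_of_surjective' p.toRingHom hp]
  have : IsRegularLocalRing ((T ⧸ (maximalIdeal A).map (algebraMap A T)) ⧸
      K1.map (Ideal.Quotient.mk ((maximalIdeal A).map (algebraMap A T)))) :=
    IsRegularLocalRing.of_ringEquiv ((DoubleQuot.quotQuotEquivQuotSup _ _).trans
      ((Ideal.quotEquivOfEq hπk.symm).trans (RingHom.quotientKerEquivOfSurjective hπ))).symm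
  obtain ⟨hreg, hinj⟩ := regular_kernel (A := A) K1 (hle.trans hKm) (mT := (maximalIdeal A).map (algebraMap A T)) rfl
  have : Nontrivial (T ⧸ K1) := Ideal.Quotient.nontrivial_iff.2 (RingHom.ker_ne_top p.toRingHom)
  have : IsLocalRing (T ⧸ K1) := .of_surjective' _ Ideal.Quotient.mk_surjective
  have : IsNoetherianRing S := isNoetherianRing_of_ringEquiv _ e₀
  have hKq : K.map (Ideal.Quotient.mk K1) = (RingHom.ker q).map e₀.symm.toRingHom := by
    rw [← CIPresentation.map_quotient_of_surjective p.toRingHom hp K]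
    congr 1
    rw [show K = (RingHom.ker q).comap p.toRingHom from rfl, Ideal.map_comap_of_surjective p.toRingHom hp]
  constructor
  · rintro ⟨rs, hrs, hrsK⟩
    obtain ⟨-, ts, hts, htsreg⟩ := regular_sub_and_quotient K1 K hle
      (ne_top_of_le_ne_top (maximalIdeal.isMaximal T).ne_top hKm) ⟨rs, hrsK, hrs⟩
      fun x hx hxm => hinj x hx (Ideal.mul_mono_right hKm hxm)
    have h2 := CIPresentation.isRegularIdeal_map_equiv e₀ (⟨ts, htsreg, hts⟩ : CInt.IsRegularIdeal _)
    rwa [hKq, Ideal.map_map, show (e₀.toRingHom).comp e₀.symm.toRingHom = RingHom.id S from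
      RingHom.ext e₀.apply_symm_apply, Ideal.map_id] at h2
  · intro h
    have h2 := CIPresentation.isRegularIdeal_map_equiv e₀.symm h
    rw [← hKq] at h2
    exact isRegularIdeal_of_quotient K1 K hle hKm hreg h2

section Completion

theorem complete_equiv {X : Type u} [CommRing X] [IsLocalRing X] [IsAdicComplete (maximalIdeal X) X] :
    ∃ e : EGA4.Cpl X ≃+* X, ∀ x, e (algebraMap X _ x) = x :=
  ⟨(AdicCompletion.ofAlgEquiv (maximalIdeal X)).symm.toRingEquiv, fun x =>
    (AdicCompletion.ofAlgEquiv (maximalIdeal X)).symm_apply_apply x⟩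

/-- Completing a factorization. -/
theorem exists_completed {A B S : Type u} [CommRing A] [CommRing B] [CommRing S] [IsNoetherianRing A]
    [IsNoetherianRing S] [IsLocalRing A] [IsLocalRing B] [IsLocalRing S] [IsAdicComplete (maximalIdeal B) B]
    [Algebra A B] [IsLocalHom (algebraMap A B)] [Algebra A S] [Module.Flat A S]
    [IsRegularLocalRing (S ⧸ (maximalIdeal A).map (algebraMap A S))]
    (g : S →ₐ[A] B) (hg : Function.Surjective g) :
    ∃ (Ŝ : Type u) (_ : CommRing Ŝ) (_ : IsLocalRing Ŝ) (_ : IsNoetherianRing Ŝ)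
      (_ : IsAdicComplete (maximalIdeal Ŝ) Ŝ) (_ : Algebra A Ŝ) (_ : Module.Flat A Ŝ)
      (_ : IsRegularLocalRing (Ŝ ⧸ (maximalIdeal A).map (algebraMap A Ŝ))) (h : Ŝ →ₐ[A] B),
      Function.Surjective h ∧ IsLocalHom (algebraMap A Ŝ) ∧
      (CInt.IsRegularIdeal (RingHom.ker g) ↔ CInt.IsRegularIdeal (RingHom.ker h)) := by
  have : IsNoetherianRing B := isNoetherianRing_of_surjective S B g.toRingHom hg
  have : IsNoetherianRing (EGA4.Cpl S) := Matlis6.isNoetherianRing_adicCompletion (maximalIdeal S)
  obtain ⟨eB, heB⟩ := complete_equiv (X := B)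
  have : IsLocalHom g.toRingHom := .of_surjective _ hg
  let h₀ : EGA4.Cpl S →+* B :=
    eB.toRingHom.comp (FSch.complMap (maximalIdeal S) (maximalIdeal B) g.toRingHom (IsLocalRing.map_maximalIdeal_le _))
  have hh₀ : ∀ s, h₀ (algebraMap S _ s) = g s := fun s => by
    show eB (FSch.complMap _ _ _ _ _) = _
    rw [FSchLib.complMap_algebraMap, heB]
    rfl
  let h : EGA4.Cpl S →ₐ[A] B :=
    { h₀ with
      commutes' := fun a => by
        show h₀ (algebraMap A (EGA4.Cpl S) a) = _
        rw [IsScalarTower.algebraMap_apply A S (EGA4.Cpl S), hh₀, AlgHom.commutes] }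
  have hh : Function.Surjective h := fun b => by
    obtain ⟨s, rfl⟩ := hg b
    exact ⟨algebraMap S _ s, hh₀ s⟩
  have hlA : IsLocalHom (algebraMap A S) := ⟨fun a ha => IsUnit.of_map (algebraMap A B) a <| by
    rw [← g.commutes]; exact ha.map _⟩
  have hlA' : IsLocalHom (algebraMap A (EGA4.Cpl S)) := ⟨fun a ha => IsUnit.of_map (algebraMap A B) a <| by
    rw [← h.commutes]; exact ha.map _⟩
  obtain ⟨eF⟩ := completion_quotient_equiv (Ideal.Quotient.mk ((maximalIdeal A).map (algebraMap A S)))
    Ideal.Quotient.mk_surjective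
  have := isRegularLocalRing_cpl (S ⧸ (maximalIdeal A).map (algebraMap A S))
  have hfib : IsRegularLocalRing (EGA4.Cpl S ⧸ (maximalIdeal A).map (algebraMap A (EGA4.Cpl S))) :=
    IsRegularLocalRing.of_ringEquiv ((Ideal.quotEquivOfEq (by
      rw [Ideal.mk_ker, Ideal.map_map, ← IsScalarTower.algebraMap_eq])).trans eF).symm
  have : Module.Flat A (EGA4.Cpl S) := Module.Flat.trans A S _
  refine ⟨EGA4.Cpl S, inferInstance, inferInstance, inferInstance, inferInstance, inferInstance, inferInstance,
    hfib, h, hh, hlA', ?_⟩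
  have hker : RingHom.ker h = (RingHom.ker g).map (algebraMap S (EGA4.Cpl S)) := by
    refine le_antisymm (fun x hx => ?_) (Ideal.map_le_iff_le_comap.2 fun y hy => ?_)
    · obtain ⟨eC⟩ := completion_quotient_equiv g.toRingHom hg
      set M := (RingHom.ker g).map (algebraMap S (EGA4.Cpl S))
      have hMker : M ≤ RingHom.ker h.toRingHom := Ideal.map_le_iff_le_comap.2 fun y hy =>
        (hh₀ y).trans hy
      let φ : (EGA4.Cpl S ⧸ M) →+* B := Ideal.Quotient.lift M h.toRingHom fun y hy => hMker hy
      let ψ : (EGA4.Cpl S ⧸ M) →+* (EGA4.Cpl S ⧸ M) :=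
        ((eC.trans eB).symm.toRingHom).comp φ
      have hψ : Function.Injective ψ :=
        AdicSmooth.injective_of_surjective_ringEndo ψ
          ((eC.trans eB).symm.surjective.comp (Ideal.Quotient.lift_surjective_of_surjective _ _ hh))
      rw [← Ideal.Quotient.eq_zero_iff_mem]
      apply hψ
      rw [map_zero]
      show (eC.trans eB).symm (h x) = 0
      rw [show h x = 0 from hx, map_zero]
    · exact (hh₀ y).trans hy
  rw [hker, CIPresentation.isRegularIdeal_completion_iff (le_maximalIdeal (RingHom.ker_ne_top g))]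

end Completion

/-- Regularity of the kernel does not depend on the good factorization. -/
theorem isRegularIdeal_ker_iff_of_two {A B S S' : Type u} [CommRing A] [CommRing B]
    [CommRing S] [CommRing S'] [IsNoetherianRing A] [IsNoetherianRing S]
    [IsNoetherianRing S'] [IsLocalRing A] [IsLocalRing B] [IsLocalRing S] [IsLocalRing S']
    [IsAdicComplete (maximalIdeal A) A] [IsAdicComplete (maximalIdeal B) B]
    [Algebra A B] [Algebra A S] [Algebra A S'] [IsLocalHom (algebraMap A B)]
    [Module.Flat A S] [Module.Flat A S']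
    [IsRegularLocalRing (S ⧸ (maximalIdeal A).map (algebraMap A S))]
    [IsRegularLocalRing (S' ⧸ (maximalIdeal A).map (algebraMap A S'))]
    (g : S →ₐ[A] B) (g' : S' →ₐ[A] B) (hg : Function.Surjective g) (hg' : Function.Surjective g') :
    CInt.IsRegularIdeal (RingHom.ker g) ↔ CInt.IsRegularIdeal (RingHom.ker g') := by
  obtain ⟨U, _, _, _, _, _, _, _, h, hh, hU, hiff⟩ := exists_completed g hg
  obtain ⟨U', _, _, _, _, _, _, _, h', hh', hU', hiff'⟩ := exists_completed g' hg'
  rw [hiff, hiff']
  have : IsLocalHom h.toRingHom := .of_surjective _ hh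
  have : IsLocalHom h'.toRingHom := .of_surjective _ hh'
  let P := ↥(h.toRingHom.pullback h'.toRingHom)
  have : IsLocalRing P := RingHom.isLocalRing_pullback h.toRingHom h'.toRingHom
  have := FibreProduct.isNoetherianRing h.toRingHom h'.toRingHom hh hh'
  have := FibreProduct.isAdicComplete h.toRingHom h'.toRingHom hh hh'
  let a : A →+* P := ((algebraMap A U).prod (algebraMap A U')).codRestrict _ fun x => by
    show h (algebraMap A U x) = h' (algebraMap A U' x)
    rw [AlgHom.commutes, AlgHom.commutes]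
  have : IsLocalHom a := ⟨fun x hx => IsUnit.of_map (algebraMap A U) x
    (hx.map (FibreProduct.fst h.toRingHom h'.toRingHom))⟩
  obtain ⟨R, S₀, _, _, ρ, σ, τ, hR, hS, hflat, hloc, ⟨_, hfib⟩, hσ, hτ, hcomm⟩ :=
    CohenFactor.exists_factor a
  letI : Algebra R S₀ := ρ.toAlgebra
  have : IsLocalHom (algebraMap R S₀) := hloc
  have : Module.Flat R S₀ := hflat
  let I := RingHom.ker σ
  have hI : I ≠ ⊤ := RingHom.ker_ne_top σ
  let T := S₀ ⧸ I.map (algebraMap R S₀)
  have : Nontrivial T := Ideal.Quotient.nontrivial_iff.2 (ne_top_of_le_ne_top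
    (maximalIdeal.isMaximal S₀).ne_top ((Ideal.map_mono (le_maximalIdeal hI)).trans
      (IsLocalRing.map_maximalIdeal_le _)))
  have : IsLocalRing T := .of_surjective' _ Ideal.Quotient.mk_surjective
  let eA : A ≃+* R ⧸ I := (RingHom.quotientKerEquivOfSurjective hσ).symm
  letI : Algebra A T := ((algebraMap (R ⧸ I) T).comp eA.toRingHom).toAlgebra
  have hAT : ∀ x, algebraMap A T (σ x) = Ideal.Quotient.mk _ (ρ x) := fun x => by
    have : eA (σ x) = Ideal.Quotient.mk _ x := by
      rw [RingEquiv.symm_apply_eq]; rfl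
    show algebraMap (R ⧸ I) T (eA (σ x)) = _
    rw [this]
    rfl
  have : Module.Flat A T :=
    haveI : Module.Flat (R ⧸ I) T :=
      Module.Flat.of_linearEquiv (Algebra.TensorProduct.quotIdealMapEquivQuotTensor S₀ I).toLinearEquiv
    RingHom.Flat.comp (f := eA.toRingHom) (g := algebraMap (R ⧸ I) T)
      (.of_bijective eA.bijective) (RingHom.flat_algebraMap_iff.2 inferInstance)
  have hmap : (maximalIdeal A).map (algebraMap A T) =
      ((maximalIdeal R).map (algebraMap R S₀)).map (Ideal.Quotient.mk _) := by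
    rw [← IsLocalRing.map_maximalIdeal_of_surjective σ hσ, Ideal.map_map, Ideal.map_map,
      show (algebraMap A T).comp σ = (Ideal.Quotient.mk _).comp ρ from RingHom.ext hAT]
    rfl
  have : IsRegularLocalRing (S₀ ⧸ (maximalIdeal R).map (algebraMap R S₀)) := hfib
  have : IsRegularLocalRing (T ⧸ (maximalIdeal A).map (algebraMap A T)) :=
    IsRegularLocalRing.of_ringEquiv (((Ideal.quotEquivOfEq hmap).trans ((DoubleQuot.quotQuotEquivQuotSup _ _).trans
      (Ideal.quotEquivOfEq (sup_eq_right.2 (Ideal.map_mono (le_maximalIdeal hI)))))).symm)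
  have : IsLocalHom (algebraMap A T) := ((local_hom_TFAE _).out 0 2 rfl rfl).2 (by
    rw [hmap, ← IsLocalRing.map_maximalIdeal_of_surjective (Ideal.Quotient.mk (I.map (algebraMap R S₀)))
      Ideal.Quotient.mk_surjective]
    exact Ideal.map_mono (IsLocalRing.map_maximalIdeal_le _))
  let t : T →+* P := Ideal.Quotient.lift _ τ fun x hx => by
    refine (Ideal.map_le_iff_le_comap.2 fun y hy => ?_ : I.map (algebraMap R S₀) ≤ RingHom.ker τ) hx
    show τ (ρ y) = 0
    rw [show τ (ρ y) = a (σ y) from RingHom.congr_fun hcomm y, show σ y = 0 from hy, map_zero]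
  have ht : Function.Surjective t := Ideal.Quotient.lift_surjective_of_surjective _ _ hτ
  have hta : ∀ x, t (algebraMap A T x) = a x := fun x => by
    obtain ⟨y, rfl⟩ := hσ x
    rw [hAT]
    exact RingHom.congr_fun hcomm y
  let p : T →ₐ[A] U :=
    { (FibreProduct.fst h.toRingHom h'.toRingHom).comp t with
      commutes' := fun x => by
        show FibreProduct.fst h.toRingHom h'.toRingHom (t (algebraMap A T x)) = _
        rw [hta]
        rfl }
  let p' : T →ₐ[A] U' :=
    { (FibreProduct.snd h.toRingHom h'.toRingHom).comp t with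
      commutes' := fun x => by
        show FibreProduct.snd h.toRingHom h'.toRingHom (t (algebraMap A T x)) = _
        rw [hta]
        rfl }
  show CInt.IsRegularIdeal (RingHom.ker h.toRingHom) ↔ CInt.IsRegularIdeal (RingHom.ker h'.toRingHom)
  rw [← isRegularIdeal_ker_comp p ((FibreProduct.fst_surjective _ _ hh').comp ht) h.toRingHom,
    ← isRegularIdeal_ker_comp p' ((FibreProduct.snd_surjective _ _ hh).comp ht) h'.toRingHom]
  have : h.toRingHom.comp p.toRingHom = h'.toRingHom.comp p'.toRingHom := RingHom.ext fun x =>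
    FibreProduct.condition h.toRingHom h'.toRingHom (t x)
  rw [this]

end Groth.Agent.CAlgH.GoodFactor
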