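import Groth.Agent.CAlgH.GeomDepth
import Groth.Agent.CAlgH.GoodFactor
import Groth.Agent.CAlgH.AdicSmoothModel
import Groth.Agent.CAlgH.AdicSmoothFlat
import Groth.Agent.CAlgH.AdicSmooth
import Groth.Agent.CommAlg6.CompletionMap
import Groth.Agent.CommAlg6.FibreLocal

/-!
# Invariance of `dim B - μ(ker)` under flat unramified local maps with separable residue extension
-/

universe u

set_option autoImplicit false

open IsLocalRing RingTheory.Sequence

namespace Groth.Agent.CAlgH.GeomDepth

theorem spanFinrank_map_of_flat {P C : Type u} [CommRing P] [CommRing C] [IsLocalRing P] [IsNoetherianRing P]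
    [IsLocalRing C] [IsNoetherianRing C] [Algebra P C] [Module.Flat P C] [IsLocalHom (algebraMap P C)]
    (J : Ideal P) :
    (J.map (algebraMap P C)).spanFinrank = J.spanFinrank := by
  classical
  obtain ⟨g, hgI, hg⟩ := exists_minimal_spanFinrank J
  refine spanFinrank_eq (g := algebraMap P C ∘ g) (by rw [Set.range_comp, ← Ideal.map_span, hgI]) ?_
  intro a ha
  obtain ⟨b, hb, hab⟩ := RegularIdealLocal.exists_sum_of_mem_mul_span (f := algebraMap P C ∘ g) (I := maximalIdeal C)
    (by rw [Set.range_comp, ← Ideal.map_span, hgI]; exact ha)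
  have hrel : ∑ i, g i • (a i - b i) = 0 := by
    simp only [Algebra.smul_def, mul_sub, Finset.sum_sub_distrib]
    rw [sub_eq_zero]
    simp only [Function.comp_apply] at hab
    simp only [mul_comm (algebraMap P C _)]
    exact hab.symm
  obtain ⟨k, c, y, hy, hc⟩ := Module.Flat.isTrivialRelation_of_sum_smul_eq_zero (R := P) (M := C) hrel
  simp only at hy hc
  intro i
  have : a i - b i ∈ maximalIdeal C := by
    rw [hy i]
    refine sum_mem fun j _ => ?_
    rw [Algebra.smul_def]
    refine Ideal.mul_mem_right _ _ (map_nonunit _ _ ?_)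
    have h0 : ∑ i, c i j * g i = 0 := by simpa only [mul_comm] using hc j
    exact hg _ (h0 ▸ zero_mem _) i
  simpa using add_mem this (hb i)

theorem isRegularLocalRing_and_dim_of_maximal {P C : Type u} [CommRing P] [IsRegularLocalRing P] [CommRing C]
    [IsLocalRing C] [IsNoetherianRing C] [Algebra P C] [Module.Flat P C] [IsLocalHom (algebraMap P C)]
    (hm : (maximalIdeal P).map (algebraMap P C) = maximalIdeal C) :
    IsRegularLocalRing C ∧ ringKrullDim C = ringKrullDim P := by
  have hdim : ringKrullDim C = ringKrullDim P := by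
    rw [CommAlg6.ringKrullDim_eq_add_fibre (A := P) (B := C), hm]
    have hf : IsField (C ⧸ maximalIdeal C) := (Ideal.Quotient.maximal_ideal_iff_isField_quotient _).1 inferInstance
    rw [ringKrullDim_eq_zero_of_isField hf, add_zero]
  refine ⟨IsRegularLocalRing.of_spanFinrank_maximalIdeal_le C ?_, hdim⟩
  rw [hdim, ← IsRegularLocalRing.spanFinrank_maximalIdeal, ← hm, spanFinrank_map_of_flat]

theorem exists_complete_presentation (R : Type u) [CommRing R] [IsLocalRing R] [IsNoetherianRing R]
    [IsAdicComplete (maximalIdeal R) R] :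
    ∃ (P : Type u) (_ : CommRing P) (_ : IsRegularLocalRing P) (_ : IsAdicComplete (maximalIdeal P) P)
      (π : P →+* R), Function.Surjective π := by
  obtain ⟨Λ, _, φ, hΛ, hres, -⟩ := exists_coefficient_ring R
  obtain ⟨n, a, ha⟩ := Submodule.fg_iff_exists_fin_generating_family.mp (IsNoetherian.noetherian (maximalIdeal R))
  have hI : ∀ i, a i ∈ maximalIdeal R := fun i => ha ▸ Submodule.subset_span ⟨i, rfl⟩
  obtain ⟨q, hqC, hqX⟩ := exists_mvPowerSeries_eval φ (maximalIdeal R) a hI
  have hq : Function.Surjective q := by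
    refine surjective_mvPowerSeries_hom q (maximalIdeal _) (fun i => (hqX i).symm ▸ hI i) ?_
    rw [show (fun i => q (MvPowerSeries.X i)) = a from funext hqX, hqC,
      show Ideal.span (Set.range a) = maximalIdeal R from ha]
    exact hres
  have : IsRegularLocalRing (MvPowerSeries (Fin n) Λ) := (isRegularLocalRing_mvPowerSeries Λ n).1
  have : IsNoetherianRing (EGA4.Cpl R) := Matlis6.isNoetherianRing_adicCompletion (maximalIdeal R)
  have : IsRegularLocalRing (EGA4.Cpl (MvPowerSeries (Fin n) Λ)) := isRegularLocalRing_cpl _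
  have : IsAdicComplete (maximalIdeal (EGA4.Cpl (MvPowerSeries (Fin n) Λ))) (EGA4.Cpl (MvPowerSeries (Fin n) Λ)) :=
    inferInstance
  obtain ⟨e⟩ := completion_quotient_equiv q hq
  obtain ⟨eR, -⟩ := GoodFactor.complete_equiv (X := R)
  exact ⟨_, inferInstance, inferInstance, this, (eR.toRingHom.comp e.toRingHom).comp (Ideal.Quotient.mk _),
    (eR.surjective.comp e.surjective).comp Ideal.Quotient.mk_surjective⟩

theorem exists_pushed_presentation {R R' P : Type u} [CommRing R] [CommRing R'] [IsLocalRing R] [IsLocalRing R']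
    [IsNoetherianRing R] [IsNoetherianRing R'] [IsAdicComplete (maximalIdeal R') R'] [Algebra R R']
    [IsLocalHom (algebraMap R R')] [Module.Flat R R']
    (hm : (maximalIdeal R).map (algebraMap R R') = maximalIdeal R')
    (hsep : Algebra.FormallySmooth (ResidueField R) (ResidueField R'))
    [CommRing P] [IsRegularLocalRing P] [IsAdicComplete (maximalIdeal P) P] (π : P →+* R)
    (hπ : Function.Surjective π) :
    ∃ (C : Type u) (_ : CommRing C) (_ : IsRegularLocalRing C) (χ : C →+* R'), Function.Surjective χ ∧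
      ringKrullDim C = ringKrullDim P ∧ (RingHom.ker χ).spanFinrank = (RingHom.ker π).spanFinrank := by
  have : IsLocalHom π := .of_surjective _ hπ
  let α : P →+* ResidueField R := (residue R).comp π
  have hα : Function.Surjective α := IsLocalRing.residue_surjective.comp hπ
  obtain ⟨C, _, _, _, ρ, hCn, hCc, hCflat, hCloc, hρ, hρk, hρα⟩ :=
    AdicSmooth.exists_flat_lift P α hα (ResidueField R')
  have hαk : RingHom.ker α = maximalIdeal P := eq_maximalIdeal (RingHom.ker_isMaximal_of_surjective α hα)
  have hmC : (maximalIdeal P).map (algebraMap P C) = maximalIdeal C := by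
    rw [← hρk]
    exact eq_maximalIdeal (RingHom.ker_isMaximal_of_surjective ρ hρ)
  obtain ⟨hCreg, hCdim⟩ := isRegularLocalRing_and_dim_of_maximal hmC
  have hsm : CAlgX.IsAdicFormallySmooth P C (maximalIdeal C) :=
    AdicSmooth.of_flat_of_fibre α hα ρ hρ (by rw [hρk, hαk]) hρα (maximalIdeal C) (by rw [hαk, hmC])
      AdicSmooth.of_formallySmooth
  obtain ⟨χ, hχP, hχ⟩ := AdicSmooth.exists_lift_complete hsm ((algebraMap R R').comp π) (maximalIdeal R') ρ
    (hρα.trans (RingHom.ext fun p => rfl))
    ⟨1, fun x hx => by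
      rw [pow_one, ← hmC, ← hρk] at hx
      exact hx⟩
  let I : Ideal C := (RingHom.ker π).map (algebraMap P C)
  have hIle : I ≤ RingHom.ker χ := Ideal.map_le_iff_le_comap.2 fun p hp => by
    show χ (algebraMap P C p) = 0
    rw [show χ (algebraMap P C p) = algebraMap R R' (π p) from RingHom.congr_fun hχP p,
      show π p = 0 from hp, map_zero]
  have hres : ∀ z : R', ∃ c : C, z - χ c ∈ maximalIdeal R' := fun z => by
    obtain ⟨c, hc⟩ := hρ (Ideal.Quotient.mk _ z)
    exact ⟨c, Ideal.Quotient.eq.1 (hc.symm.trans (RingHom.congr_fun hχ c).symm)⟩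
  have hmax' : (maximalIdeal C).map χ = maximalIdeal R' := by
    rw [← hmC, Ideal.map_map, hχP, ← Ideal.map_map, IsLocalRing.map_maximalIdeal_of_surjective π hπ, hm]
  have hsurj : Function.Surjective χ := by
    have : IsLocalHom χ := ((local_hom_TFAE χ).out 0 2 rfl rfl).2 hmax'.le
    have : IsHausdorff ((maximalIdeal C).map χ) R' := by rw [hmax']; infer_instance
    refine surjective_of_mk_map_comp_surjective (I := maximalIdeal C) χ fun z => ?_
    obtain ⟨z, rfl⟩ := Ideal.Quotient.mk_surjective z
    obtain ⟨c, hc⟩ := hres z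
    exact ⟨c, (Ideal.Quotient.eq.2 (by rw [hmax']; exact hc)).symm⟩
  have hker : RingHom.ker χ ≤ I := by
    have hnak : RingHom.ker χ ≤ I ⊔ maximalIdeal C • RingHom.ker χ := by
      intro x hx
      letI : Algebra P R' := ((algebraMap R R').comp π).toAlgebra
      let πa : C →ₐ[P] R' := ⟨χ, fun p => RingHom.congr_fun hχP p⟩
      -- relations modulo the maximal ideal of `R` lift
      have : x ∈ maximalIdeal C := by
        rw [← hmC, ← hρk, RingHom.mem_ker]
        exact (RingHom.congr_fun hχ x).symm.trans
          (by rw [RingHom.comp_apply, show χ x = 0 from hx, map_zero]; rfl)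
      obtain ⟨n, r, hr⟩ := Submodule.fg_iff_exists_fin_generating_family.mp (IsNoetherian.noetherian (maximalIdeal P))
      have hspan : maximalIdeal C = Ideal.span (Set.range (algebraMap P C ∘ r)) := by
        rw [← hmC, Set.range_comp, ← Ideal.map_span, show Ideal.span (Set.range r) = maximalIdeal P from hr]
      obtain ⟨s, hs⟩ := Ideal.mem_span_range_iff_exists_fun.1 (hspan.le this)
      have hrel : ∑ i, π (r i) • χ (s i) = 0 := by
        rw [← show χ x = 0 from hx, ← hs, map_sum]
        refine Finset.sum_congr rfl fun i _ => ?_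
        rw [Function.comp_apply, map_mul, Algebra.smul_def, mul_comm,
          show χ (algebraMap P C (r i)) = algebraMap R R' (π (r i)) from RingHom.congr_fun hχP (r i)]
      obtain ⟨k, c, y, hy, hc⟩ := Module.Flat.isTrivialRelation_of_sum_smul_eq_zero (R := R) (M := R') hrel
      simp only at hy hc
      choose c' hc' using fun i j => hπ (c i j)
      choose t ht using fun j => hsurj (y j)
      have hk : ∀ i, s i - ∑ j, algebraMap P C (c' i j) * t j ∈ RingHom.ker χ := fun i => by
        rw [RingHom.mem_ker, map_sub, hy i, map_sum, sub_eq_zero]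
        refine Finset.sum_congr rfl fun j _ => ?_
        rw [map_mul, show χ (algebraMap P C (c' i j)) = algebraMap R R' (π (c' i j)) from RingHom.congr_fun hχP _,
          hc', ht, Algebra.smul_def]
      have hx' : x = (∑ i, algebraMap P C (r i) * ∑ j, algebraMap P C (c' i j) * t j) +
          ∑ i, algebraMap P C (r i) * (s i - ∑ j, algebraMap P C (c' i j) * t j) := by
        rw [← Finset.sum_add_distrib, ← hs]
        exact Finset.sum_congr rfl fun i _ => by rw [Function.comp_apply]; ring
      rw [hx']
      refine Submodule.add_mem_sup ?_ (sum_mem fun i _ => Submodule.smul_mem_smul ?_ (hk i))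
      · simp only [Finset.mul_sum]
        rw [Finset.sum_comm]
        refine sum_mem fun j _ => ?_
        simp only [← mul_assoc, ← map_mul, ← Finset.sum_mul, ← map_sum]
        refine I.mul_mem_right _ (Ideal.mem_map_of_mem _ ?_)
        rw [RingHom.mem_ker, map_sum, ← hc j]
        exact Finset.sum_congr rfl fun i _ => by rw [map_mul, hc', mul_comm]
      · exact hmC.le (Ideal.mem_map_of_mem _ (hr.le (Submodule.subset_span ⟨i, rfl⟩)))
    exact Submodule.le_of_le_smul_of_le_jacobson_bot (IsNoetherian.noetherian _) (maximalIdeal_le_jacobson _) hnak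
  refine ⟨C, inferInstance, hCreg, χ, hsurj, hCdim, ?_⟩
  rw [le_antisymm hker hIle]
  exact spanFinrank_map_of_flat _

theorem formallySmooth_of_bijective (k K K' : Type u) [CommRing k] [CommRing K] [CommRing K'] [Algebra k K]
    [Algebra K K'] [Algebra k K'] [IsScalarTower k K K'] (hb : Function.Bijective (algebraMap k K))
    [Algebra.FormallySmooth k K'] : Algebra.FormallySmooth K K' := by
  have : IsLocalization (⊥ : Submonoid k) K :=
    { map_units := fun y => by
        rw [show y.1 = 1 from Submonoid.mem_bot.1 y.2, map_one]; exact isUnit_one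
      surj := fun z => by
        obtain ⟨a, rfl⟩ := hb.2 z
        exact ⟨⟨a, 1⟩, by simp⟩
      exists_of_eq := fun h => ⟨1, by rw [hb.1 h]⟩ }
  exact Algebra.FormallySmooth.localization_base (R := k) (⊥ : Submonoid k)

theorem formallySmooth_residueField_completion (A A' : Type u) [CommRing A] [IsLocalRing A] [IsNoetherianRing A]
    [CommRing A'] [IsLocalRing A'] [IsNoetherianRing A'] [Algebra A A'] [IsLocalHom (algebraMap A A')]
    [Algebra (EGA4.Cpl A) (EGA4.Cpl A')] [IsLocalHom (algebraMap (EGA4.Cpl A) (EGA4.Cpl A'))]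
    [IsScalarTower A (EGA4.Cpl A) (EGA4.Cpl A')]
    (h : Algebra.FormallySmooth (ResidueField A) (ResidueField A')) :
    Algebra.FormallySmooth (ResidueField (EGA4.Cpl A)) (ResidueField (EGA4.Cpl A')) := by
  let e := RingEquiv.ofBijective _ (AdicCompletion.residueField_map_bijective A)
  let e' := RingEquiv.ofBijective _ (AdicCompletion.residueField_map_bijective A')
  letI : Algebra (ResidueField A) (ResidueField (EGA4.Cpl A)) := e.toRingHom.toAlgebra
  letI : Algebra (ResidueField A) (ResidueField (EGA4.Cpl A')) :=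
    (e'.toRingHom.comp (algebraMap (ResidueField A) (ResidueField A'))).toAlgebra
  have : IsScalarTower (ResidueField A) (ResidueField (EGA4.Cpl A)) (ResidueField (EGA4.Cpl A')) :=
    IsScalarTower.of_algebraMap_eq fun x => by
      obtain ⟨a, rfl⟩ := IsLocalRing.residue_surjective x
      show residue (EGA4.Cpl A') (algebraMap A' (EGA4.Cpl A') (algebraMap A A' a)) =
        residue (EGA4.Cpl A') (algebraMap (EGA4.Cpl A) (EGA4.Cpl A') (algebraMap A (EGA4.Cpl A) a))
      rw [← IsScalarTower.algebraMap_apply A A' (EGA4.Cpl A'), ← IsScalarTower.algebraMap_apply A (EGA4.Cpl A) (EGA4.Cpl A')]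
  have : Algebra.FormallySmooth (ResidueField A) (ResidueField (EGA4.Cpl A')) :=
    Algebra.FormallySmooth.of_equiv (A := ResidueField A')
      { e' with commutes' := fun x => rfl }
  exact formallySmooth_of_bijective (ResidueField A) _ _ e.bijective

theorem geomDepth_eq_of_flat (A A' : Type u) [CommRing A] [IsLocalRing A] [IsNoetherianRing A] [CommRing A']
    [IsLocalRing A'] [IsNoetherianRing A'] [Algebra A A'] [IsLocalHom (algebraMap A A')] [Module.Flat A A']
    (hmax : Ideal.map (algebraMap A A') (maximalIdeal A) = maximalIdeal A')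
    (hsep : Algebra.FormallySmooth (ResidueField A) (ResidueField A'))
    (B B' : Type u) [CommRing B] [IsRegularLocalRing B] [CommRing B'] [IsRegularLocalRing B']
    (I : Ideal B) (I' : Ideal B') (e₁ : EGA4.Cpl A ≃+* B ⧸ I) (e₁' : EGA4.Cpl A' ≃+* B' ⧸ I')
    (e e' : ℕ) (he : ringKrullDim B = e) (he' : ringKrullDim B' = e') :
    (e : ℤ) - I.spanFinrank = (e' : ℤ) - I'.spanFinrank := by
  have : IsNoetherianRing (EGA4.Cpl A) := Matlis6.isNoetherianRing_adicCompletion (maximalIdeal A)
  have : IsNoetherianRing (EGA4.Cpl A') := Matlis6.isNoetherianRing_adicCompletion (maximalIdeal A')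
  obtain ⟨_, hT, hff⟩ := CommAlg6.exists_algebra_completion A A'
  have hm : (maximalIdeal (EGA4.Cpl A)).map (algebraMap (EGA4.Cpl A) (EGA4.Cpl A')) = maximalIdeal (EGA4.Cpl A') := by
    rw [AdicCompletion.maximalIdeal_eq_map, Ideal.map_map, ← IsScalarTower.algebraMap_eq,
      IsScalarTower.algebraMap_eq A A' (EGA4.Cpl A'), ← Ideal.map_map, hmax, AdicCompletion.maximalIdeal_eq_map]
  have : IsLocalHom (algebraMap (EGA4.Cpl A) (EGA4.Cpl A')) := ((local_hom_TFAE _).out 0 2 rfl rfl).2 hm.le
  have hsep' : Algebra.FormallySmooth (ResidueField (EGA4.Cpl A)) (ResidueField (EGA4.Cpl A')) :=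
    formallySmooth_residueField_completion A A' hsep
  obtain ⟨P, _, _, _, π, hπ⟩ := exists_complete_presentation (EGA4.Cpl A)
  obtain ⟨C, _, _, χ, hχ, hCdim, hμ⟩ := exists_pushed_presentation hm hsep' π hπ
  obtain ⟨d, hd⟩ : ∃ d : ℕ, ringKrullDim P = d := ⟨_, IsRegularLocalRing.spanFinrank_maximalIdeal.symm⟩
  let f : B →+* EGA4.Cpl A := e₁.symm.toRingHom.comp (Ideal.Quotient.mk I)
  let f' : B' →+* EGA4.Cpl A' := e₁'.symm.toRingHom.comp (Ideal.Quotient.mk I')
  have hf : RingHom.ker f = I := by
    show RingHom.ker (e₁.symm.toRingHom.comp (Ideal.Quotient.mk I)) = I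
    rw [RingHom.ker_comp_of_injective _ e₁.symm.injective, Ideal.mk_ker]
  have hf' : RingHom.ker f' = I' := by
    show RingHom.ker (e₁'.symm.toRingHom.comp (Ideal.Quotient.mk I')) = I'
    rw [RingHom.ker_comp_of_injective _ e₁'.symm.injective, Ideal.mk_ker]
  have h1 := eq_of_presentations B P f (e₁.symm.surjective.comp Ideal.Quotient.mk_surjective) π hπ e d he hd
  have h2 := eq_of_presentations B' C f' (e₁'.symm.surjective.comp Ideal.Quotient.mk_surjective) χ hχ e' d he'
    (hCdim.trans hd)
  rw [hf] at h1
  rw [hf', hμ] at h2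
  rw [h1, h2]

end Groth.Agent.CAlgH.GeomDepth
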