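import Groth.Agent.CAlgH.RegularFlatParam
import Groth.Agent.CAlgH3.MiracleFlat
import Groth.Agent.CAlgH3.RegularCore
import Mathlib

/-! A regular local model under a geometrically regular local algebra, at a point given by elements
whose differentials are independent in the residue extension. -/

universe u

open IsLocalRing MvPolynomial RingTheory.Sequence

namespace Groth.Agent.CAlgH.GeomRegularBase

variable {k L : Type u} [Field k] [CommRing L] [IsLocalRing L] [Algebra k L] {τ : Type u}

/-- The prime of a tuple in a local algebra. -/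
noncomputable abbrev pt (v : τ → L) : Ideal (MvPolynomial τ k) := (maximalIdeal L).comap (aeval v).toRingHom

/-- The localised polynomial ring at a tuple. -/
noncomputable abbrev Pt (v : τ → L) : Type u := Localization.AtPrime (pt (k := k) v)

/-- The map from the localised polynomial ring. -/
noncomputable def toL (v : τ → L) : Pt (k := k) v →ₐ[k] L :=
  IsLocalization.liftAlgHom (M := (pt (k := k) v).primeCompl) (f := aeval v)
    fun y => not_not.1 fun h => y.2 ((mem_maximalIdeal _).2 h)

theorem toL_algebraMap (v : τ → L) (f : MvPolynomial τ k) :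
    toL v (algebraMap _ (Pt (k := k) v) f) = aeval v f := by
  rw [toL, IsLocalization.liftAlgHom_apply, IsLocalization.lift_eq]
  rfl

theorem isLocalHom_toL (v : τ → L) : IsLocalHom (toL (k := k) v).toRingHom := by
  refine ⟨fun a ha => ?_⟩
  obtain ⟨f, s, rfl⟩ := IsLocalization.exists_mk'_eq (S := Pt (k := k) v) (pt (k := k) v).primeCompl a
  by_contra hn
  have hf : f ∈ pt (k := k) v := by
    by_contra hf
    exact hn ((IsLocalization.AtPrime.isUnit_mk'_iff (Pt (k := k) v) (pt (k := k) v) f s).2 hf)
  have h1 : toL v (IsLocalization.mk' (Pt (k := k) v) f s) *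
      toL v (algebraMap _ (Pt (k := k) v) (s : MvPolynomial τ k)) = aeval v f := by
    rw [← map_mul, IsLocalization.mk'_spec, toL_algebraMap]
  refine (show aeval v f ∈ maximalIdeal L from hf) (h1 ▸ IsUnit.mul ha ?_)
  rw [toL_algebraMap]
  exact not_not.1 fun h => s.2 ((mem_maximalIdeal _).2 h)

theorem regularLocal_Pt [Finite τ] (v : τ → L) : IsRegularLocalRing (Pt (k := k) v) := by
  haveI : Fintype τ := Fintype.ofFinite τ
  haveI : IsRegularRing (MvPolynomial τ k) := inferInstance
  exact IsRegularRing.isRegularLocalRing_localization _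

theorem dim_eq_length {S : Type u} [CommRing S] [IsLocalRing S] [IsNoetherianRing S] (l : List S)
    (hl : IsRegular S l) (hlm : Ideal.ofList l = maximalIdeal S) : ringKrullDim S = (l.length : WithBot ℕ∞) := by
  rw [← ringKrullDim_add_length_eq_ringKrullDim_of_isRegular l hl]
  haveI : (Ideal.ofList l).IsMaximal := hlm ▸ maximalIdeal.isMaximal S
  rw [ringKrullDim_eq_zero_of_isField ((Ideal.Quotient.maximal_ideal_iff_isField_quotient _).1 inferInstance), zero_add]

theorem derivation_eq_sum [Fintype τ] {M : Type u} [AddCommGroup M] [Module k M]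
    [Module (MvPolynomial τ k) M] [IsScalarTower k (MvPolynomial τ k) M]
    (Dm : Derivation k (MvPolynomial τ k) M) (f : MvPolynomial τ k) :
    Dm f = ∑ j, pderiv j f • Dm (X j) := by
  classical
  induction f using MvPolynomial.induction_on with
  | C a => simp [← MvPolynomial.algebraMap_eq]
  | add p q hp hq => simp only [map_add, add_smul, Finset.sum_add_distrib, hp, hq]
  | mul_X p i hp =>
    rw [Derivation.leibniz, hp, Finset.smul_sum]
    simp only [Derivation.leibniz, smul_eq_mul, add_smul, mul_smul, Finset.sum_add_distrib]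
    congr 1
    rw [Finset.sum_eq_single i]
    · rw [pderiv_X_self, one_smul]
    · intro j _ hj
      rw [pderiv_X_of_ne (Ne.symm hj), zero_smul, smul_zero]
    · simp

theorem D_mem_of_pderiv [Fintype τ] (v : τ → L)
    (hd : ∀ f : MvPolynomial τ k, aeval v f ∈ maximalIdeal L → ∀ i, aeval v (pderiv i f) ∈ maximalIdeal L) :
    ∀ a ∈ maximalIdeal (Pt (k := k) v),
      KaehlerDifferential.D k (Pt (k := k) v) a ∈
        (maximalIdeal (Pt (k := k) v) • ⊤ : Submodule (Pt (k := k) v) Ω[(Pt (k := k) v)⁄k]) := by
  classical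
  intro a ha
  obtain ⟨f, s, rfl⟩ := IsLocalization.exists_mk'_eq (pt (k := k) v).primeCompl a
  have hf : f ∈ pt (k := k) v := (IsLocalization.AtPrime.mk'_mem_maximal_iff _ _ f s).1 ha
  let R := Pt (k := k) v
  let D0 : Derivation k (MvPolynomial τ k) Ω[R⁄k] := (KaehlerDifferential.D k R).compAlgebraMap _
  have hDf : KaehlerDifferential.D k R (algebraMap _ R f) ∈ (maximalIdeal R • ⊤ : Submodule R Ω[R⁄k]) := by
    show D0 f ∈ _
    rw [derivation_eq_sum D0 f]
    refine sum_mem fun i _ => ?_
    rw [← algebraMap_smul R (pderiv i f)]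
    exact Submodule.smul_mem_smul
      ((IsLocalization.AtPrime.to_map_mem_maximal_iff R (pt (k := k) v) (pderiv i f)).2 (hd f hf i)) trivial
  have hsu : IsUnit (algebraMap (MvPolynomial τ k) R s) := IsLocalization.map_units R s
  have h1 : algebraMap (MvPolynomial τ k) R s • KaehlerDifferential.D k R (IsLocalization.mk' R f s) =
      KaehlerDifferential.D k R (algebraMap _ R f) -
        IsLocalization.mk' R f s • KaehlerDifferential.D k R (algebraMap _ R (s : MvPolynomial τ k)) := by
    rw [eq_sub_iff_add_eq, ← IsLocalization.mk'_spec R f s, Derivation.leibniz, add_comm]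
  rw [← (Submodule.smul_mem_iff_of_isUnit _ hsu), h1]
  exact sub_mem hDf (Submodule.smul_mem_smul ha trivial)

theorem sub_rename_mem {σ ι : Type u} (f : MvPolynomial (σ ⊕ ι) k) :
    f - rename Sum.inl (aeval (Sum.elim X fun _ => (0 : MvPolynomial σ k)) f) ∈
      Ideal.span (Set.range fun j => (X (Sum.inr j) : MvPolynomial (σ ⊕ ι) k)) := by
  induction f using MvPolynomial.induction_on with
  | C c => simp
  | add p q hp hq => rw [map_add, map_add, add_sub_add_comm]; exact add_mem hp hq
  | mul_X p i hp =>
    rw [map_mul, map_mul, aeval_X]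
    rcases i with a | b
    · rw [Sum.elim_inl, rename_X, ← sub_mul]
      exact Ideal.mul_mem_right _ _ hp
    · rw [Sum.elim_inr, map_zero, mul_zero, sub_zero]
      exact Ideal.mul_mem_left _ _ (Ideal.subset_span ⟨b, rfl⟩)

set_option maxHeartbeats 800000 in
/-- A regular local model of the full dimension under a geometrically regular local algebra. -/
theorem exists_regular_base [IsNoetherianRing L] (hL : CAlgX.IsAdicFormallySmooth k L (maximalIdeal L))
    {σ : Type u} [Fintype σ] (u : σ → L)
    (hd : ∀ f : MvPolynomial σ k, aeval u f ∈ maximalIdeal L → ∀ i, aeval u (pderiv i f) ∈ maximalIdeal L)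
    {d₀ : ℕ} (ξ : Fin d₀ → L) (hξ : Ideal.span (Set.range ξ) = maximalIdeal L) :
    ∃ (ι : Type u) (_ : Fintype ι) (S : ι → Fin d₀) (d : ℕ) (y : Fin d → MvPolynomial (σ ⊕ ι) k),
      Ideal.span (Set.range fun i => algebraMap _ (Pt (k := k) (Sum.elim u (ξ ∘ S))) (y i)) = maximalIdeal _ ∧
      Ideal.span (Set.range fun i => aeval (Sum.elim u (ξ ∘ S)) (y i)) = maximalIdeal L ∧
      IsWeaklyRegular (Pt (k := k) (Sum.elim u (ξ ∘ S)))
        (List.ofFn fun i => algebraMap _ (Pt (k := k) (Sum.elim u (ξ ∘ S))) (y i)) ∧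
      IsWeaklyRegular L (List.ofFn fun i => aeval (Sum.elim u (ξ ∘ S)) (y i)) ∧
      (toL (k := k) (Sum.elim u (ξ ∘ S))).toRingHom.Flat := by
  classical
  haveI := AdicSmooth.isRegularLocalRing_of_adicSmooth hL
  haveI := regularLocal_Pt (k := k) u
  let R := Pt (k := k) u
  letI : Algebra R L := (toL u).toRingHom.toAlgebra
  haveI : IsScalarTower k R L := IsScalarTower.of_algebraMap_eq fun c => ((toL u).commutes c).symm
  haveI : IsLocalHom (algebraMap R L) := isLocalHom_toL u
  obtain ⟨hflat, hreg⟩ := flat_and_regular_quotient hL (D_mem_of_pderiv u hd)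
  haveI := hflat
  haveI := hreg
  -- parameters of the first model
  obtain ⟨rs, hlen, hspan, hrs⟩ := CAlgH3.exists_isRegular_ofList_eq_maximalIdeal (R := R)
  choose g s hgs using fun j : Fin rs.length => IsLocalization.exists_mk'_eq (S := R) (pt (k := k) u).primeCompl rs[j]
  have hgspan : Ideal.span (Set.range fun j => algebraMap _ R (g j)) = maximalIdeal R := by
    rw [← hspan, Ideal.ofList]
    refine le_antisymm (Ideal.span_le.2 ?_) (Ideal.span_le.2 ?_)
    · rintro _ ⟨j, rfl⟩
      show algebraMap _ R (g j) ∈ Ideal.span {r | r ∈ rs}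
      rw [← IsLocalization.mk'_spec R (g j) (s j), hgs]
      exact Ideal.mul_mem_right _ _ (Ideal.subset_span (List.getElem_mem _))
    · intro r hr
      obtain ⟨j, hj, rfl⟩ := List.getElem_of_mem hr
      show rs[j] ∈ Ideal.span _
      rw [show rs[j] = IsLocalization.mk' R (g ⟨j, hj⟩) (s ⟨j, hj⟩) from (hgs ⟨j, hj⟩).symm, IsLocalization.mk'_eq_mul_mk'_one]
      exact Ideal.mul_mem_right _ _ (Ideal.subset_span ⟨⟨j, hj⟩, rfl⟩)
  have hgreg : IsWeaklyRegular R (List.ofFn fun j => algebraMap _ R (g j)) := by
    refine (CAlgH3.isRegular_of_ofList_eq_maximalIdeal _ ?_ (by rw [List.length_ofFn, hlen])).toIsWeaklyRegular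
    rw [← hgspan, Ideal.ofList]
    congr 1
    ext z
    simp [List.mem_ofFn]
  let I := (maximalIdeal R).map (algebraMap R L)
  have hI : I = Ideal.span (Set.range fun j => aeval u (g j)) := by
    show (maximalIdeal R).map (algebraMap R L) = _
    rw [← hgspan, Ideal.map_span, ← Set.range_comp]
    congr 2
    exact funext fun j => toL_algebraMap u (g j)
  have hIm : I ≤ maximalIdeal L := hI ▸ Ideal.span_le.2 (by
    rintro _ ⟨j, rfl⟩
    exact (IsLocalization.AtPrime.to_map_mem_maximal_iff R (pt (k := k) u) (g j)).1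
      (hgspan ▸ Ideal.subset_span ⟨j, rfl⟩))
  have hmq : (maximalIdeal L).map (Ideal.Quotient.mk I) = maximalIdeal (L ⧸ I) :=
    IsLocalRing.map_maximalIdeal_of_surjective _ Ideal.Quotient.mk_surjective
  obtain ⟨T, hTsub, hTcard, hTspan⟩ : ∃ T : Finset (L ⧸ I), (T : Set (L ⧸ I)) ⊆ Set.range (fun i => Ideal.Quotient.mk I (ξ i)) ∧
      T.card = (maximalIdeal (L ⧸ I)).spanFinrank ∧ Ideal.span (T : Set (L ⧸ I)) = maximalIdeal (L ⧸ I) := by
    have hsp : Ideal.span (Set.range fun i => Ideal.Quotient.mk I (ξ i)) = maximalIdeal (L ⧸ I) := by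
      rw [← hmq, ← hξ, Ideal.map_span, ← Set.range_comp]; rfl
    let z : Fin d₀ → maximalIdeal (L ⧸ I) := fun i =>
      ⟨Ideal.Quotient.mk I (ξ i), hsp.le (Ideal.subset_span ⟨i, rfl⟩)⟩
    have hz : Submodule.span (ResidueField (L ⧸ I)) (Set.range ((maximalIdeal (L ⧸ I)).toCotangent ∘ z)) = ⊤ := by
      rw [Set.range_comp, CotangentSpace.span_image_eq_top_iff]
      apply Submodule.map_injective_of_injective (maximalIdeal (L ⧸ I)).injective_subtype
      rw [Submodule.map_span, Submodule.map_top, Submodule.range_subtype, ← Set.range_comp]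
      exact hsp
    obtain ⟨b, hb, hbspan, hbli⟩ := exists_linearIndependent (ResidueField (L ⧸ I)) (Set.range ((maximalIdeal (L ⧸ I)).toCotangent ∘ z))
    choose j hj using fun x : b => hb x.2
    haveI : Finite b := ((Set.finite_range _).subset hb).to_subtype
    haveI : Fintype b := Fintype.ofFinite b
    have hTsp : Ideal.span (↑(Finset.univ.image fun x : b => Ideal.Quotient.mk I (ξ (j x))) : Set (L ⧸ I)) =
        maximalIdeal (L ⧸ I) := by
      rw [Finset.coe_image, Finset.coe_univ, Set.image_univ]
      have h1 : Submodule.span (L ⧸ I) (Set.range (z ∘ j)) = ⊤ := by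
        rw [← CotangentSpace.span_image_eq_top_iff, ← Set.range_comp,
          show (maximalIdeal (L ⧸ I)).toCotangent ∘ (z ∘ j) = Subtype.val from funext hj, Subtype.range_coe, hbspan, hz]
      have h2 := congrArg (Submodule.map (maximalIdeal (L ⧸ I)).subtype) h1
      rw [Submodule.map_span, Submodule.map_top, Submodule.range_subtype, ← Set.range_comp] at h2
      exact h2
    refine ⟨Finset.univ.image fun x : b => Ideal.Quotient.mk I (ξ (j x)), ?_, ?_, hTsp⟩
    · intro a ha
      obtain ⟨x, -, rfl⟩ := Finset.mem_image.1 ha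
      exact ⟨_, rfl⟩
    · refine le_antisymm (Finset.card_image_le.trans ?_) ?_
      · rw [IsLocalRing.spanFinrank_maximalIdeal_eq_finrank_cotangentSpace, Finset.card_univ]
        exact hbli.fintype_card_le_finrank
      · refine (le_of_eq (congrArg Submodule.spanFinrank hTsp.symm)).trans ?_
        exact (Submodule.spanFinrank_span_le_ncard_of_finite (Finset.finite_toSet _)).trans_eq (Set.ncard_coe_finset _)
  choose S hS using fun x : (↥T : Type u) => hTsub x.2
  let v := Sum.elim u (ξ ∘ S)
  let e := T.equivFin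
  let y : Fin (rs.length + T.card) → MvPolynomial (σ ⊕ ↥T) k :=
    Fin.append (fun j => rename Sum.inl (g j)) fun i => X (Sum.inr (e.symm i))
  have hy₁ : ∀ j, aeval v (rename Sum.inl (g j)) = aeval u (g j) := fun j => by
    rw [aeval_rename]; rfl
  have hη : (fun i => aeval v (y i)) = Fin.append (fun j => aeval u (g j)) fun i => ξ (S (e.symm i)) := by
    funext i
    refine Fin.addCases (fun j => ?_) (fun j => ?_) i
    · simp only [y, Fin.append_left, hy₁]
    · simp only [y, Fin.append_right, aeval_X]; rfl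
  have hT₂ : Ideal.span (Set.range fun i => Ideal.Quotient.mk I (ξ (S (e.symm i)))) = maximalIdeal (L ⧸ I) := by
    rw [← hTspan]
    congr 1
    ext z
    constructor
    · rintro ⟨i, rfl⟩
      show Ideal.Quotient.mk I (ξ (S (e.symm i))) ∈ (T : Set (L ⧸ I))
      rw [show Ideal.Quotient.mk I (ξ (S (e.symm i))) = _ from hS (e.symm i)]
      exact (e.symm i).2
    · intro hz
      exact ⟨e ⟨z, hz⟩, by simp only [Equiv.symm_apply_apply]; exact hS ⟨z, hz⟩⟩
  have hηspan : Ideal.span (Set.range fun i => aeval v (y i)) = maximalIdeal L := by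
    have hrange : Set.range (fun i => aeval v (y i)) =
        Set.range (fun j => aeval u (g j)) ∪ Set.range fun i => ξ (S (e.symm i)) := by
      rw [hη]
      ext z
      constructor
      · rintro ⟨i, rfl⟩
        refine Fin.addCases (fun j => ?_) (fun j => ?_) i
        · exact Or.inl ⟨j, by simp only [Fin.append_left]⟩
        · exact Or.inr ⟨j, by simp only [Fin.append_right]⟩
      · rintro (⟨j, rfl⟩ | ⟨j, rfl⟩)
        · exact ⟨_, Fin.append_left _ _ j⟩
        · exact ⟨_, Fin.append_right _ _ j⟩
    rw [hrange, Ideal.span_union, ← hI]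
    refine le_antisymm (sup_le hIm (Ideal.span_le.2 ?_)) ?_
    · rintro _ ⟨i, rfl⟩
      exact hξ ▸ Ideal.subset_span ⟨_, rfl⟩
    · intro x hx
      have h1 : Ideal.Quotient.mk I x ∈ (Ideal.span (Set.range fun i => ξ (S (e.symm i)))).map (Ideal.Quotient.mk I) := by
        rw [Ideal.map_span, ← Set.range_comp]
        exact hT₂.ge (hmq ▸ Ideal.mem_map_of_mem _ hx)
      obtain ⟨z, hz, hzx⟩ := (Ideal.mem_map_iff_of_surjective _ Ideal.Quotient.mk_surjective).1 h1
      have := Ideal.Quotient.eq.1 hzx.symm
      simpa using add_mem (Ideal.mem_sup_left this) (Ideal.mem_sup_right hz)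
  have hηreg : IsWeaklyRegular L (List.ofFn fun i => aeval v (y i)) := by
    rw [hη, List.ofFn_fin_append, isWeaklyRegular_append_iff]
    have h1 : IsWeaklyRegular L (List.ofFn fun j => aeval u (g j)) := by
      have h := IsWeaklyRegular.of_flat (S := L) hgreg
      rw [List.map_ofFn] at h
      rwa [show (algebraMap R L) ∘ (fun j => algebraMap _ R (g j)) = fun j => aeval u (g j) from
        funext fun j => toL_algebraMap u (g j)] at h
    refine ⟨h1, ?_⟩
    have hofl : Ideal.ofList (List.ofFn fun j => aeval u (g j)) = I := by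
      rw [hI, Ideal.ofList]
      congr 1
      ext z
      simp [List.mem_ofFn]
    let e' : (L ⧸ (Ideal.ofList (List.ofFn fun j => aeval u (g j)) • (⊤ : Submodule L L))) ≃ₗ[L] (L ⧸ I) :=
      Submodule.quotEquivOfEq _ I (by rw [smul_eq_mul, Ideal.mul_top, hofl])
    rw [e'.isWeaklyRegular_congr, ← isWeaklyRegular_map_algebraMap_iff (S := L ⧸ I)]
    refine (CAlgH3.isRegular_of_ofList_eq_maximalIdeal _ ?_ (by rw [List.length_map, List.length_ofFn, hTcard])).toIsWeaklyRegular
    rw [← hT₂, Ideal.ofList, List.map_ofFn]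
    congr 1
    ext z
    simp [List.mem_ofFn]
  haveI := regularLocal_Pt (k := k) v
  let R' := Pt (k := k) v
  letI : Algebra R' L := (toL v).toRingHom.toAlgebra
  haveI : IsLocalHom (algebraMap R' L) := isLocalHom_toL v
  have hofη : Ideal.ofList (List.ofFn fun i => aeval v (y i)) = maximalIdeal L := by
    rw [← hηspan, Ideal.ofList]
    congr 1
    ext z
    simp [List.mem_ofFn]
  have hdimL : ringKrullDim L = ((rs.length + T.card : ℕ) : WithBot ℕ∞) := by
    rw [dim_eq_length _ ((IsLocalRing.isRegular_iff_isWeaklyRegular_of_subset_maximalIdeal fun a ha =>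
      hofη ▸ Ideal.subset_span ha).2 hηreg) hofη, List.length_ofFn]
  have hy' : ∀ i, algebraMap _ R' (y i) ∈ maximalIdeal R' := fun i =>
    (IsLocalization.AtPrime.to_map_mem_maximal_iff R' (pt (k := k) v) (y i)).2 (hηspan.le (Ideal.subset_span ⟨i, rfl⟩))
  have hyspan : Ideal.span (Set.range fun i => algebraMap _ R' (y i)) = maximalIdeal R' := by
    refine le_antisymm (Ideal.span_le.2 (by rintro _ ⟨i, rfl⟩; exact hy' i)) ?_
    rw [← Localization.AtPrime.map_eq_maximalIdeal, Ideal.map_le_iff_le_comap]
    intro f hf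
    let J := Ideal.span (Set.range fun i => algebraMap _ R' (y i))
    let f₀ := aeval (Sum.elim X fun _ => (0 : MvPolynomial σ k)) f
    have hX : ∀ x : ↥T, algebraMap _ R' (X (Sum.inr x) : MvPolynomial (σ ⊕ ↥T) k) ∈ J := fun x =>
      Ideal.subset_span ⟨Fin.natAdd _ (e x), by simp only [y, Fin.append_right, Equiv.symm_apply_apply]⟩
    have hsub : f - rename Sum.inl f₀ ∈ (J.comap (algebraMap _ R')) :=
      (Ideal.span_le.2 (by rintro _ ⟨x, rfl⟩; exact hX x) : Ideal.span _ ≤ _) (sub_rename_mem f)
    have hsub' : f - rename Sum.inl f₀ ∈ pt (k := k) v :=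
      (Ideal.span_le.2 (by
        rintro _ ⟨x, rfl⟩
        show aeval v (X (Sum.inr x)) ∈ maximalIdeal L
        rw [aeval_X]
        exact hξ ▸ Ideal.subset_span ⟨S x, rfl⟩) : Ideal.span _ ≤ _) (sub_rename_mem f)
    have hf₀ : f₀ ∈ pt (k := k) u := by
      show aeval u f₀ ∈ maximalIdeal L
      have := sub_mem hf hsub'
      rw [sub_sub_cancel] at this
      have : aeval v (rename Sum.inl f₀) ∈ maximalIdeal L := this
      rwa [aeval_rename] at this
    have h1 : algebraMap _ R f₀ ∈ (Ideal.span (Set.range g)).map (algebraMap _ R) := by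
      rw [Ideal.map_span, ← Set.range_comp]
      exact hgspan.ge ((IsLocalization.AtPrime.to_map_mem_maximal_iff R (pt (k := k) u) f₀).2 hf₀)
    obtain ⟨t, ht, hta⟩ := (IsLocalization.algebraMap_mem_map_algebraMap_iff (pt (k := k) u).primeCompl R _ _).1 h1
    have h2 : algebraMap _ R' (rename (Sum.inl : σ → σ ⊕ ↥T) (t * f₀)) ∈ J := by
      have hle : (Ideal.span (Set.range g)).map (rename (R := k) (Sum.inl : σ → σ ⊕ ↥T)) ≤
          J.comap (algebraMap (MvPolynomial (σ ⊕ ↥T) k) R') := by
        rw [Ideal.map_span, ← Set.range_comp, Ideal.span_le]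
        rintro _ ⟨j, rfl⟩
        exact Ideal.subset_span ⟨Fin.castAdd _ j, by simp [y]⟩
      exact hle (Ideal.mem_map_of_mem _ hta)
    have htu : IsUnit (algebraMap (MvPolynomial (σ ⊕ ↥T) k) R' (rename Sum.inl t)) :=
      IsLocalization.map_units R' (⟨rename Sum.inl t, fun hm => ht (by
        have : aeval v (rename Sum.inl t) ∈ maximalIdeal L := hm
        rwa [aeval_rename] at this)⟩ : (pt (k := k) v).primeCompl)
    rw [map_mul, map_mul, Ideal.unit_mul_mem_iff_mem J htu] at h2
    show algebraMap _ R' f ∈ J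
    have := add_mem (show algebraMap _ R' (f - rename Sum.inl f₀) ∈ J from hsub) h2
    rwa [map_sub, sub_add_cancel] at this
  have hmapm : (maximalIdeal R').map (algebraMap R' L) = maximalIdeal L := by
    rw [← hyspan, ← hηspan, Ideal.map_span, ← Set.range_comp]
    congr 2
    exact funext fun i => toL_algebraMap v (y i)
  have hrank : (maximalIdeal R').spanFinrank = rs.length + T.card := by
    refine le_antisymm ?_ ?_
    · rw [← hyspan]
      refine (Submodule.spanFinrank_span_le_ncard_of_finite (Set.finite_range _)).trans ?_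
      refine (Finite.card_range_le _).trans_eq ?_
      simp
    · have h0 : (maximalIdeal L).spanFinrank = rs.length + T.card := by
        have := IsRegularLocalRing.spanFinrank_maximalIdeal (R := L)
        rw [hdimL] at this
        exact_mod_cast this
      rw [← h0, ← hmapm]
      obtain ⟨G, hG, hGs⟩ := (IsNoetherian.noetherian (maximalIdeal R')).exists_span_finset_card_eq_spanFinrank
      conv_lhs => rw [← hGs]
      rw [← hG, ← Ideal.span, Ideal.map_span]
      exact (Submodule.spanFinrank_span_le_ncard_of_finite ((Finset.finite_toSet G).image _)).trans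
        ((Set.ncard_image_le (Finset.finite_toSet G)).trans_eq (Set.ncard_coe_finset G))
  have hofy : Ideal.ofList (List.ofFn fun i => algebraMap _ R' (y i)) = maximalIdeal R' := by
    rw [← hyspan, Ideal.ofList]
    congr 1
    ext z
    simp [List.mem_ofFn]
  have hyreg := CAlgH3.isRegular_of_ofList_eq_maximalIdeal _ hofy (by rw [List.length_ofFn, hrank])
  haveI := CAlgH3.isCohenMacaulayLocalRing_of_regular L
  have hfl : Module.Flat R' L := by
    refine CAlgH3.flat_of_dim_eq _ R' rfl L ?_
    rw [hdimL, dim_eq_length _ hyreg hofy, List.length_ofFn, ringKrullDim_eq_zero_of_isField, add_zero]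
    exact (Ideal.Quotient.maximal_ideal_iff_isField_quotient _).1 (by rw [hmapm]; exact maximalIdeal.isMaximal L)
  exact ⟨↥T, inferInstance, S, rs.length + T.card, y, hyspan, hηspan, hyreg.toIsWeaklyRegular, hηreg, hfl⟩

end Groth.Agent.CAlgH.GeomRegularBase
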