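import Groth.Agent.CAlgH.RegularResolve

/-! Desingularization for unramified extensions of discrete valuation rings. -/

universe u

open MvPolynomial IsLocalRing
open scoped TensorProduct

namespace Groth.Agent.CAlgH.UnramifiedDVR

/-- The algebra forcing powers of base elements into the ideal of the given elements. -/
theorem exists_slack_algebra {R A L : Type u} [CommRing R] [CommRing A] [Algebra R A]
    [Algebra.FinitePresentation R A] [CommRing L] [Algebra R L] (φ : A →ₐ[R] L) {r d : ℕ} (a : Fin r → A)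
    (hsm : ∀ j, Algebra.Smooth R (Localization.Away (a j))) (t : Fin d → R) (n : ℕ) (δ : Fin d → Fin r → L)
    (hx : ∀ i, algebraMap R L (t i) ^ n = ∑ j, δ i j * φ (a j)) :
    ∃ (A' : Type u) (_ : CommRing A') (_ : Algebra R A'),
      Algebra.FinitePresentation R A' ∧
      ∃ (ι : A →ₐ[R] A') (φ' : A' →ₐ[R] L), φ'.comp ι = φ ∧
        ∀ i, Algebra.Smooth R (Localization.Away (algebraMap R A' (t i))) := by
  classical
  let V := MvPolynomial (Fin d × Fin r) A
  let rel : Fin d → V := fun i => algebraMap R V (t i) ^ n - ∑ j, C (a j) * X (i, j)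
  let A' := V ⧸ Ideal.span (Set.range rel)
  let mk : V →ₐ[R] A' := Ideal.Quotient.mkₐ R _
  haveI : Algebra.FinitePresentation A A' :=
    Algebra.FinitePresentation.quotient (Submodule.fg_span (Set.finite_range rel))
  haveI : Algebra.FinitePresentation R A' := Algebra.FinitePresentation.trans R A A'
  let ι : A →ₐ[R] A' := IsScalarTower.toAlgHom R A A'
  letI : Algebra A L := φ.toRingHom.toAlgebra
  haveI : IsScalarTower R A L := IsScalarTower.of_algebraMap_eq fun c => (φ.commutes c).symm
  let ev : V →ₐ[A] L := aeval fun p => δ p.1 p.2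
  let φ₀ : A' →ₐ[A] L := Ideal.Quotient.liftₐ _ ev fun y hy => by
    refine (Ideal.span_le (I := RingHom.ker ev)).2 ?_ hy
    rintro _ ⟨i, rfl⟩
    show ev (rel i) = 0
    have hevX : ∀ v, ev (X v) = δ v.1 v.2 := fun v => aeval_X _ v
    have hevC : ∀ c, ev (C c) = φ c := fun c => aeval_C _ c
    have hevt : ev (algebraMap R V (t i)) = algebraMap R L (t i) := (ev.restrictScalars R).commutes _
    simp only [rel, map_sub, map_pow, map_sum, map_mul, hevX, hevC, hevt]
    rw [hx, sub_eq_zero]
    exact Finset.sum_congr rfl fun j _ => mul_comm _ _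
  refine ⟨A', inferInstance, inferInstance, inferInstance, ι, φ₀.restrictScalars R,
    AlgHom.ext fun y => φ₀.commutes y, fun i => ?_⟩
  have hA : ∀ (j : Fin r), Algebra.Smooth R (Localization.Away (algebraMap A A' (a j))) := by
    intro j
    let Al := Localization.Away (algebraMap A A' (a j))
    haveI : Algebra.FinitePresentation R Al := Algebra.FinitePresentation.trans _ A' _
    refine ⟨?_, inferInstance⟩
    rw [Algebra.FormallySmooth.iff_comp_surjective]
    intro U _ _ J hJ g
    let g₀ : A' →ₐ[R] U ⧸ J := g.comp (IsScalarTower.toAlgHom R A' Al)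
    have hgu : IsUnit (g₀ (algebraMap A A' (a j))) :=
      (IsLocalization.Away.algebraMap_isUnit (S := Al) (algebraMap A A' (a j))).map g
    let gA : A →ₐ[R] U ⧸ J := g₀.comp ι
    let gAa : Localization.Away (a j) →ₐ[R] U ⧸ J := IsLocalization.liftAlgHom (M := Submonoid.powers (a j)) (f := gA) (by
      rintro ⟨_, m, rfl⟩
      show IsUnit (gA (a j ^ m))
      rw [map_pow]
      exact hgu.pow m)
    haveI := hsm j
    obtain ⟨h₀, hh₀⟩ := Algebra.FormallySmooth.comp_surjective R (Localization.Away (a j)) J hJ gAa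
    let hA : A →ₐ[R] U := h₀.comp (IsScalarTower.toAlgHom R A _)
    have hhA : ∀ y, Ideal.Quotient.mk J (hA y) = gA y := fun y =>
      (DFunLike.congr_fun hh₀ (algebraMap A _ y)).trans (IsLocalization.lift_eq _ y)
    have hau : IsUnit (hA (a j)) := (IsLocalization.Away.algebraMap_isUnit (a j)).map h₀
    choose z hz using fun p : Fin d × Fin r => Ideal.Quotient.mk_surjective (g₀ (mk (X p)))
    let z' : Fin d × Fin r → U := fun p => if p.2 = j then
        ↑hau.unit⁻¹ * (algebraMap R U (t p.1) ^ n - ∑ l ∈ Finset.univ.erase j, hA (a l) * z (p.1, l)) else z p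
    letI : Algebra A U := hA.toRingHom.toAlgebra
    haveI : IsScalarTower R A U := IsScalarTower.of_algebraMap_eq fun c => (hA.commutes c).symm
    let evU : V →ₐ[A] U := aeval z'
    have hevt : ∀ c, evU (algebraMap R V c) = algebraMap R U c := fun c => (evU.restrictScalars R).commutes c
    have hevU : ∀ y ∈ Ideal.span (Set.range rel), evU y = 0 := by
      intro y hy
      refine (Ideal.span_le (I := RingHom.ker evU)).2 ?_ hy
      rintro _ ⟨l, rfl⟩
      show evU (rel l) = 0
      have hevX : ∀ v, evU (X v) = z' v := fun v => aeval_X _ v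
      have hevC : ∀ c, evU (C c) = hA c := fun c => aeval_C _ c
      simp only [rel, map_sub, map_pow, map_sum, map_mul, hevX, hevC, hevt]
      rw [← Finset.add_sum_erase _ _ (Finset.mem_univ j)]
      rw [Finset.sum_congr rfl (fun m (hm : m ∈ Finset.univ.erase j) =>
        show hA (a m) * z' (l, m) = hA (a m) * z (l, m) by simp only [z', if_neg (Finset.ne_of_mem_erase hm)])]
      simp only [z', if_true]
      rw [← mul_assoc, hau.mul_val_inv, one_mul]
      ring
    let h₁ : A' →ₐ[A] U := Ideal.Quotient.liftₐ _ evU hevU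
    have hcomp : ∀ y, Ideal.Quotient.mk J (h₁ y) = g₀ y := by
      have hrel0 : ∀ l, g₀ (mk (rel l)) = 0 := fun l => by
        rw [show mk (rel l) = 0 from Ideal.Quotient.eq_zero_iff_mem.2 (Ideal.subset_span ⟨l, rfl⟩), map_zero]
      have : (Ideal.Quotient.mk J).comp evU.toRingHom = g₀.toRingHom.comp mk.toRingHom := by
        refine MvPolynomial.ringHom_ext (fun y => ?_) fun v => ?_
        · show Ideal.Quotient.mk J (evU (C y)) = g₀ (mk (C y))
          rw [show evU (C y) = hA y from aeval_C _ _, hhA]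
          rfl
        · show Ideal.Quotient.mk J (evU (X v)) = g₀ (mk (X v))
          rw [show evU (X v) = z' v from aeval_X _ _]
          obtain ⟨l, m⟩ := v
          by_cases hm : m = j
          · subst hm
            have h0 := hrel0 l
            simp only [rel, map_sub, map_pow, map_sum, map_mul, ← Finset.add_sum_erase _ _ (Finset.mem_univ m)] at h0
            have ht : Ideal.Quotient.mk J (algebraMap R U (t l)) = g₀ (mk (algebraMap R V (t l))) := by
              rw [AlgHom.commutes, AlgHom.commutes]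
              rfl
            simp only [z', if_true, map_mul, map_sub, map_pow, map_sum, hhA, hz, ht]
            have hu : Ideal.Quotient.mk J (↑hau.unit⁻¹ : U) * gA (a m) = 1 := by
              rw [← hhA, ← map_mul, hau.val_inv_mul, map_one]
            have hC : ∀ q, g₀ (mk (C (a q))) = gA (a q) := fun q => rfl
            simp only [map_add, map_sum, map_mul, hC] at h0
            linear_combination (Ideal.Quotient.mk J (↑hau.unit⁻¹ : U)) * h0 + g₀ (mk (X (l, m))) * hu
          · simp only [z', if_neg hm]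
            exact hz (l, m)
      intro y
      obtain ⟨y, rfl⟩ := Ideal.Quotient.mk_surjective y
      exact DFunLike.congr_fun this y
    refine ⟨IsLocalization.liftAlgHom (M := Submonoid.powers (algebraMap A A' (a j))) (f := h₁.restrictScalars R) (by
      rintro ⟨_, m, rfl⟩
      show IsUnit (h₁ (algebraMap A A' (a j) ^ m))
      rw [map_pow, h₁.commutes]
      exact hau.pow m), AlgHom.coe_ringHom_injective (IsLocalization.ringHom_ext (Submonoid.powers (algebraMap A A' (a j)))
        (RingHom.ext fun y => ?_))⟩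
    show Ideal.Quotient.mk J (IsLocalization.liftAlgHom (M := Submonoid.powers (algebraMap A A' (a j)))
      (f := h₁.restrictScalars R) _ (algebraMap A' Al y)) = g₀ y
    rw [IsLocalization.liftAlgHom_apply, IsLocalization.lift_eq]
    exact hcomp y
  rw [← Algebra.basicOpen_subset_smoothLocus_iff_smooth]
  intro P hP
  obtain ⟨j, hj⟩ : ∃ j, algebraMap A A' (a j) ∉ P.asIdeal := by
    by_contra hno
    push Not at hno
    refine hP (P.2.mem_of_pow_mem n ?_)
    rw [← mk.commutes, ← map_pow,
      show algebraMap R V (t i) ^ n = rel i + ∑ j, C (a j) * X (i, j) from (sub_add_cancel _ _).symm, map_add,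
      show mk (rel i) = 0 from Ideal.Quotient.eq_zero_iff_mem.2 (Ideal.subset_span ⟨i, rfl⟩), zero_add, map_sum]
    exact sum_mem fun l _ => by rw [map_mul]; exact Ideal.mul_mem_right _ _ (hno l)
  exact (Algebra.basicOpen_subset_smoothLocus_iff_smooth.2 (hA j)) hj

/-- `Λ/(π^e)` is ind-smooth over `R/(π^e)` when the residue extension is separable. -/
theorem indSmooth_mod {R Λ : Type u} [CommRing R] [IsLocalRing R] [CommRing Λ] [IsLocalRing Λ] [Algebra R Λ]
    [IsLocalHom (algebraMap R Λ)] [Module.Flat R Λ]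
    [Algebra.IsGeometricallyReduced (ResidueField R) (ResidueField Λ)]
    (he : (maximalIdeal R).map (algebraMap R Λ) = maximalIdeal Λ) (K : Ideal R) (N : ℕ)
    (hK : K ≤ maximalIdeal R) (hN : maximalIdeal R ^ N ≤ K) :
    Smoothing.IndSmooth (R ⧸ K) (Λ ⧸ K.map (algebraMap R Λ)) := by
  have hKm : K.map (algebraMap R Λ) ≤ maximalIdeal Λ := (Ideal.map_mono hK).trans he.le
  haveI := RegularPoint.flat_quotient R Λ K
  letI : Algebra (R ⧸ K) (ResidueField R) := (Ideal.Quotient.factor hK).toAlgebra
  letI : Algebra (R ⧸ K) (ResidueField Λ) :=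
    ((algebraMap (ResidueField R) (ResidueField Λ)).comp (algebraMap (R ⧸ K) (ResidueField R))).toAlgebra
  haveI : IsScalarTower (R ⧸ K) (ResidueField R) (ResidueField Λ) := IsScalarTower.of_algebraMap_eq' rfl
  let ρ₀ : (Λ ⧸ K.map (algebraMap R Λ)) →+* ResidueField Λ := Ideal.Quotient.lift _ (residue Λ) fun y hy =>
    (residue_eq_zero_iff y).2 (hKm hy)
  let ρ : (Λ ⧸ K.map (algebraMap R Λ)) →ₐ[R ⧸ K] ResidueField Λ :=
    { ρ₀ with
      commutes' := fun r => by
        obtain ⟨p, rfl⟩ := Ideal.Quotient.mk_surjective r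
        rfl }
  have hρ : Function.Surjective ρ := fun y => by
    obtain ⟨y, rfl⟩ := residue_surjective y
    exact ⟨Ideal.Quotient.mk _ y, rfl⟩
  let I : Ideal (R ⧸ K) := (maximalIdeal R).map (Ideal.Quotient.mk K)
  refine IndSmoothSquareZero.indSmooth_nilpotent N (R₀ := ResidueField R) (Λ₀ := ResidueField Λ) ?_ (I := I) ?_ ρ hρ ?_ ?_
    (RegularPoint.indSmooth_geometricallyReduced (ResidueField R) (ResidueField Λ))
  · exact Ideal.Quotient.factor_surjective hK
  · exact Ideal.Quotient.factor_ker hK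
  · show RingHom.ker ρ₀ = I.map (algebraMap (R ⧸ K) (Λ ⧸ K.map (algebraMap R Λ)))
    have h1 : I.map (algebraMap (R ⧸ K) (Λ ⧸ K.map (algebraMap R Λ))) = (maximalIdeal Λ).map (Ideal.Quotient.mk _) := by
      rw [← he, Ideal.map_map, Ideal.map_map]
      rfl
    rw [h1]
    exact Ideal.Quotient.factor_ker hKm
  · show I ^ N = ⊥
    rw [← Ideal.map_pow, eq_bot_iff]
    exact (Ideal.map_mono hN).trans (Ideal.map_quotient_self K).le

theorem torsion_fin_one {M : Type u} [CommRing M] [IsDomain M] (i : Fin 1) (g : Fin 1 → M)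
    (G : {j : Fin 1 // (j : ℕ) < (i : ℕ)} → M) (hg : g i ≠ 0) :
    ∀ x : M ⧸ Ideal.span (Set.range G), Ideal.Quotient.mk _ (g i) ^ 2 * x = 0 → Ideal.Quotient.mk _ (g i) * x = 0 := by
  intro x hx
  obtain ⟨x, rfl⟩ := Ideal.Quotient.mk_surjective x
  rw [← map_pow, ← map_mul, Ideal.Quotient.eq_zero_iff_mem] at hx
  rw [← map_mul, Ideal.Quotient.eq_zero_iff_mem]
  haveI : IsEmpty {j : Fin 1 // (j : ℕ) < (i : ℕ)} := ⟨fun j => by have := j.2; omega⟩
  rw [Set.range_eq_empty, Ideal.span_empty, Ideal.mem_bot] at hx ⊢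
  rw [(mul_eq_zero.1 hx).resolve_left (pow_ne_zero 2 hg), mul_zero]

theorem exists_generic_smooth {R Λ K L A : Type u} [CommRing R] [IsDomain R] [IsNoetherianRing R] [CommRing Λ]
    [IsDomain Λ] [Algebra R Λ] (hinj : Function.Injective (algebraMap R Λ)) [CommRing A] [Algebra R A]
    [Algebra.FinitePresentation R A] [Field K] [Algebra R K] [IsFractionRing R K] [Field L] [Algebra Λ L]
    [IsFractionRing Λ L] [Algebra K L] [Algebra R L] [IsScalarTower R K L] [IsScalarTower R Λ L]
    [Algebra.IsGeometricallyReduced K L] (φ : A →ₐ[R] Λ) :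
    ∃ (C : Type u) (_ : CommRing C) (_ : Algebra R C), Algebra.FinitePresentation R C ∧
      ∃ (g : A →ₐ[R] C) (h : C →ₐ[R] Λ), h.comp g = φ ∧
        Algebra.IsSmoothAt R ((⊥ : Ideal Λ).comap h.toRingHom) := by
  let φK : K ⊗[R] A →ₐ[K] L := Algebra.TensorProduct.lift (Algebra.ofId K L)
    ((IsScalarTower.toAlgHom R Λ L).comp φ) fun _ _ => Commute.all _ _
  obtain ⟨B, _, _, hB, g, h, hgh⟩ := RegularPoint.indSmooth_geometricallyReduced K L (K ⊗[R] A) inferInstance φK
  haveI := hB
  letI : Algebra R B := ((algebraMap K B).comp (algebraMap R K)).toAlgebra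
  haveI : IsScalarTower R K B := IsScalarTower.of_algebraMap_eq' rfl
  have hbot : (⊥ : Ideal Λ).primeCompl = nonZeroDivisors Λ := by
    ext x; simp [Ideal.primeCompl]
  haveI : IsLocalization.AtPrime L (⊥ : Ideal Λ) := by
    show IsLocalization _ L
    rw [hbot]
    infer_instance
  haveI : Algebra.IsSmoothAt K ((maximalIdeal L).comap h.toRingHom) := inferInstance
  obtain ⟨r, π, hπ, -⟩ := ‹Algebra.FinitePresentation R A›.out
  obtain ⟨C, _, _, hC, gC, hC', hcomp, hsm⟩ := DelocalizeWeak.exists_delocalization_aux φ (⊥ : Ideal Λ) (Rp := K) (Λq := L)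
    (nonZeroDivisors R) (fun s hs h0 => nonZeroDivisors.ne_zero hs (hinj (by
      rw [map_zero]; exact h0)))
    ((g.restrictScalars R).comp Algebra.TensorProduct.includeRight) h (fun a => by
      show h (g (1 ⊗ₜ a)) = _
      rw [← AlgHom.comp_apply, hgh]
      exact (Algebra.TensorProduct.lift_tmul _ _ _ _ _).trans (by rw [map_one, one_mul]; rfl)) π hπ
  exact ⟨C, inferInstance, inferInstance, hC, gC, hC', hcomp, hsm⟩

/-- Néron's desingularization, unramified separable case. -/
theorem indSmooth_unramified {R Λ K L : Type u} [CommRing R] [IsDomain R]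
    [IsDiscreteValuationRing R] [CommRing Λ] [IsDomain Λ] [IsDiscreteValuationRing Λ] [Algebra R Λ]
    [NoZeroSMulDivisors R Λ] [IsLocalHom (algebraMap R Λ)]
    (he : (maximalIdeal R).map (algebraMap R Λ) = maximalIdeal Λ)
    [Algebra.IsGeometricallyReduced (ResidueField R) (ResidueField Λ)]
    [Field K] [Algebra R K] [IsFractionRing R K] [Field L] [Algebra Λ L] [IsFractionRing Λ L]
    [Algebra K L] [Algebra R L] [IsScalarTower R K L] [IsScalarTower R Λ L]
    [Algebra.IsGeometricallyReduced K L] : Smoothing.IndSmooth R Λ := by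
  classical
  intro A _ _ hA φ
  haveI := hA
  have hinj : Function.Injective (algebraMap R Λ) := FaithfulSMul.algebraMap_injective R Λ
  obtain ⟨C, _, _, hC, g, h, hgh, hsmC⟩ := exists_generic_smooth (K := K) (L := L) hinj φ
  haveI := hC
  haveI := hsmC
  haveI : IsNoetherianRing C := Algebra.FiniteType.isNoetherianRing R C
  obtain ⟨s, hs, hspan⟩ := (Submodule.fg_span_iff_fg_span_finset_subset _).1
    (IsNoetherian.noetherian (Ideal.span {a : C | Smoothing.IsStrictlyStandard R C a}))
  let a : Fin s.card → C := fun j => (s.equivFin.symm j).1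
  have hsm : ∀ j, Algebra.Smooth R (Localization.Away (a j)) := fun j =>
    (StrictlyStandardSmooth.smooth_and_stablyFree _ (hs (s.equivFin.symm j).2)).1
  obtain ⟨j₀, hj₀⟩ : ∃ j, h (a j) ≠ 0 := by
    by_contra hno
    push Not at hno
    obtain ⟨b, hb, hbe⟩ := SingularIdeal.exists_isElementaryStandard (R := R) ((⊥ : Ideal Λ).comap h.toRingHom)
    refine hb ((Ideal.span_le.2 fun x hx => ?_ : Ideal.span {a : C | Smoothing.IsStrictlyStandard R C a} ≤ _)
      (Ideal.subset_span (SingularIdeal.isStrictlyStandard_of_isElementaryStandard hbe)))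
    obtain ⟨d, hd⟩ := (Submodule.mem_span_finset).1 (hspan.le (Ideal.subset_span hx))
    show h x = 0
    rw [← hd.2, map_sum]
    refine Finset.sum_eq_zero fun y hy => ?_
    have := hno (s.equivFin ⟨y, hy⟩)
    simp only [a, Equiv.symm_apply_apply] at this
    rw [smul_eq_mul, map_mul, this, mul_zero]
  obtain ⟨ϖ, hϖ⟩ := IsDiscreteValuationRing.exists_irreducible R
  have hmR : maximalIdeal R = Ideal.span {ϖ} := hϖ.maximalIdeal_eq
  have hmΛ : maximalIdeal Λ = Ideal.span {algebraMap R Λ ϖ} := by
    rw [← he, hmR, Ideal.map_span, Set.image_singleton]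
  have hϖ' : Irreducible (algebraMap R Λ ϖ) := (IsDiscreteValuationRing.irreducible_iff_uniformizer _).2 hmΛ
  obtain ⟨n, u, hu⟩ := IsDiscreteValuationRing.eq_unit_mul_pow_irreducible hj₀ hϖ'
  obtain ⟨A', _, _, hA', ι, φ', hι, hsm'⟩ := exists_slack_algebra h a hsm (fun _ : Fin 1 => ϖ) n
    (fun _ j => if j = j₀ then (↑u⁻¹ : Λ) else 0) (fun i => by
      simp only [ite_mul, zero_mul, Finset.sum_ite_eq', Finset.mem_univ, if_true]
      rw [hu, ← mul_assoc, Units.inv_mul, one_mul])
  haveI := hA'
  obtain ⟨C₂, _, _, hC₂, inc, r, hr, c, hc, hstd⟩ :=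
    RegularPoint.exists_strictlyStandard_model (A' := A') (fun _ : Fin 1 => ϖ) hsm'
  haveI := hC₂
  haveI : Module.Flat R Λ := inferInstance
  have hK : Ideal.span (Set.range fun _ : Fin 1 => (ϖ ^ c) ^ 8) = maximalIdeal R ^ (c * 8) := by
    rw [Set.range_const, hmR, Ideal.span_singleton_pow, pow_mul]
  have hind := indSmooth_mod (R := R) (Λ := Λ) he _ (c * 8)
    (hK.trans_le (Ideal.pow_le_self (by omega))) hK.ge
  have hπm : ∀ i : Fin 1, algebraMap R Λ ((fun _ => ϖ ^ c) i) ∈ maximalIdeal Λ := fun i => by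
    rw [map_pow, hmΛ]
    exact Ideal.pow_mem_of_mem _ (Ideal.mem_span_singleton_self _) c hc
  obtain ⟨B, _, _, hBfp, α, β, hαβ, -, hnot⟩ := RegularPoint.resolvable_of_indSmooth_quotient (φ'.comp r)
    (maximalIdeal Λ) (fun _ : Fin 1 => ϖ ^ c) hπm
    (fun i => torsion_fin_one i (fun _ => ϖ ^ c) _ (pow_ne_zero c hϖ.ne_zero))
    (fun i => torsion_fin_one i (fun _ => algebraMap R Λ (ϖ ^ c)) _ (by rw [map_pow]; exact pow_ne_zero c hϖ'.ne_zero))
    hstd _ rfl hind
  haveI := hBfp
  let Q : Ideal B := (maximalIdeal Λ).comap β.toRingHom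
  haveI : Algebra.IsSmoothAt R Q := by
    by_contra hns
    refine hnot ((Ideal.IsPrime.radical_le_iff inferInstance).2 (Ideal.map_le_iff_le_comap.2 fun y hy => ?_))
    exact (PrimeSpectrum.mem_vanishingIdeal _ _).1 hy ⟨Q, inferInstance⟩ hns
  obtain ⟨b, hb, hbs⟩ := Algebra.IsSmoothAt.exists_notMem_smooth R Q
  have hunit : ∀ y : Submonoid.powers b, IsUnit (β y) := by
    rintro ⟨_, m, rfl⟩
    rw [map_pow]
    exact (not_not.1 fun h => hb ((mem_maximalIdeal _).2 h) : IsUnit (β b)).pow m
  let βb : Localization.Away b →ₐ[R] Λ := IsLocalization.liftAlgHom (M := Submonoid.powers b) (f := β) hunit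
  refine ⟨Localization.Away b, inferInstance, inferInstance, hbs,
    ((IsScalarTower.toAlgHom R B _).comp α).comp ((inc.comp ι).comp g), βb, ?_⟩
  refine AlgHom.ext fun y => ?_
  show βb (algebraMap B _ (α (inc (ι (g y))))) = φ y
  rw [show βb (algebraMap B _ (α (inc (ι (g y))))) = β (α (inc (ι (g y)))) from IsLocalization.lift_eq _ _,
    ← AlgHom.comp_apply β α, hαβ, AlgHom.comp_apply, ← AlgHom.comp_apply r inc, hr, AlgHom.id_apply,
    ← AlgHom.comp_apply φ' ι, hι, ← AlgHom.comp_apply h g, hgh]

end Groth.Agent.CAlgH.UnramifiedDVR
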