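import Groth.Agent.CAlgH.RegularResolve
import Groth.Agent.CAlgH.UnramifiedDVR
import Groth.Agent.CAlgH.AdicSmoothCotangent
import Groth.Agent.FlatCrit.Inj
import Groth.Agent.EGA41Lib.FieldSeparableSmooth
import Mathlib

/-! Tools for resolving at geometrically regular points. -/

universe u

open MvPolynomial IsLocalRing
open scoped TensorProduct

namespace Groth.Agent.CAlgH.GeomRegularPoint

set_option maxHeartbeats 1000000 in
open Algebra in
/-- `H₁` of the residue extension of a formally smooth local algebra is finite. -/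
theorem finite_h1 {k L K : Type u} [CommRing k] [CommRing L] [IsNoetherianRing L] [Field K] [Algebra k L] [Algebra k K]
    [Algebra L K] [IsScalarTower k L K] (hs : Function.Surjective (algebraMap L K)) (𝔫 : Ideal L)
    (h𝔫 : 𝔫 ≤ RingHom.ker (algebraMap L K)) (h : CAlgX.IsAdicFormallySmooth k L 𝔫) :
    Module.Finite K (H1Cotangent k K) := by
  haveI : Algebra.FiniteType L K := Algebra.FiniteType.of_surjective (Algebra.ofId L K) hs
  haveI : Algebra.FinitePresentation L K := Algebra.FinitePresentation.of_finiteType.1 inferInstance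
  refine Module.Finite.of_injective (H1Cotangent.map k L K K) ((injective_iff_map_eq_zero _).2 ?_)
  rintro ⟨x, hx⟩ h0
  obtain ⟨⟨y, hy⟩, rfl⟩ := Extension.Cotangent.mk_surjective x
  let f := Generators.defaultHom (Generators.self k K) (Generators.self L K)
  have h2 : H1Cotangent.map k L K K ⟨Extension.Cotangent.mk ⟨y, hy⟩, hx⟩ =
      Extension.H1Cotangent.map f.toExtensionHom ⟨Extension.Cotangent.mk ⟨y, hy⟩, hx⟩ := rfl
  rw [h2] at h0
  have h3 := congrArg Subtype.val h0
  change Extension.Cotangent.map f.toExtensionHom (Extension.Cotangent.mk ⟨y, hy⟩) = 0 at h3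
  rw [Extension.Cotangent.map_mk, Extension.Cotangent.mk_eq_zero_iff] at h3
  refine Subtype.ext ((Extension.Cotangent.mk_eq_zero_iff _).2 ?_)
  show y ∈ RingHom.ker (MvPolynomial.aeval (R := k) (id : K → K)).toRingHom ^ 2
  refine AdicSmooth.mem_sq_of_map_mem_sq 𝔫 h𝔫 h y ?_
  have hmap : f.toAlgHom y = MvPolynomial.map (algebraMap k L) y := by
    have key : ∀ q : MvPolynomial K k, MvPolynomial.aeval (fun i : K => (X i : MvPolynomial K L)) q =
        MvPolynomial.map (algebraMap k L) q := fun q => by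
      induction q using MvPolynomial.induction_on with
      | C a => rw [MvPolynomial.aeval_C, MvPolynomial.map_C]; rfl
      | add p q hp hq => rw [map_add, map_add, hp, hq]
      | mul_X p i hp => rw [map_mul, map_mul, hp, MvPolynomial.aeval_X, MvPolynomial.map_X]
    exact key y
  rw [← hmap]
  exact h3

theorem span_pow_le {R : Type u} [CommRing R] (e : ℕ) :
    ∀ {d : ℕ} (t : Fin d → R), Ideal.span (Set.range t) ^ (d * e + 1) ≤ Ideal.span (Set.range fun i => t i ^ e) := by
  intro d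
  induction d with
  | zero => intro t; simp [Set.range_eq_empty]
  | succ d ih =>
    intro t
    have hrange : ∀ s : Fin (d + 1) → R, Ideal.span (Set.range s) =
        Ideal.span {s 0} ⊔ Ideal.span (Set.range fun i : Fin d => s i.succ) := fun s => by
      rw [← Ideal.span_union]
      congr 1
      ext x
      constructor
      · rintro ⟨i, rfl⟩
        rcases Fin.eq_zero_or_eq_succ i with rfl | ⟨j, rfl⟩
        · exact Or.inl rfl
        · exact Or.inr ⟨j, rfl⟩
      · rintro (rfl | ⟨j, rfl⟩) <;> exact ⟨_, rfl⟩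
    rw [hrange t, hrange fun i => t i ^ e, show (d + 1) * e + 1 = e + (d * e + 1) by ring]
    refine (Ideal.sup_pow_add_le_pow_sup_pow).trans (sup_le_sup ?_ (ih _))
    rw [Ideal.span_singleton_pow]

/-- The universal algebra forcing powers into an ideal, with strictly standard powers of the parameters. -/
theorem exists_universal_model {k A : Type u} [Field k] [CommRing A] [Algebra k A] [Algebra.FinitePresentation k A]
    {r : ℕ} (a : Fin r → A) (hsm : ∀ j, Algebra.Smooth k (Localization.Away (a j))) (d n : ℕ) :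
    ∃ (C : Type u) (_ : CommRing C) (_ : Algebra (MvPolynomial (Fin d) k) C) (_ : Algebra k C)
      (_ : IsScalarTower k (MvPolynomial (Fin d) k) C), Algebra.FinitePresentation (MvPolynomial (Fin d) k) C ∧
      ∃ (c : ℕ) (ι : A →ₐ[k] C), 1 ≤ c ∧
        (∀ i, Smoothing.IsStrictlyStandard (MvPolynomial (Fin d) k) C (algebraMap _ C ((X i : MvPolynomial (Fin d) k) ^ c))) ∧
        ∀ {U₁ U₂ U : Type u} [CommRing U₁] [CommRing U₂] [CommRing U] [Algebra k U₁] [Algebra k U₂] [Algebra k U]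
          (π₁ : U₁ →ₐ[k] U) (π₂ : U₂ →ₐ[k] U) (φ₁ : A →ₐ[k] U₁) (φ₂ : A →ₐ[k] U₂) (t₁ : Fin d → U₁)
          (t₂ : Fin d → U₂) (z₁ : Fin d → Fin r → U₁) (z₂ : Fin d → Fin r → U₂),
          (∀ i, t₁ i ^ n = ∑ j, z₁ i j * φ₁ (a j)) → (∀ i, t₂ i ^ n = ∑ j, z₂ i j * φ₂ (a j)) →
          (∀ y, π₁ (φ₁ y) = π₂ (φ₂ y)) → (∀ i, π₁ (t₁ i) = π₂ (t₂ i)) → (∀ i j, π₁ (z₁ i j) = π₂ (z₂ i j)) →
          ∃ (h₁ : C →ₐ[k] U₁) (h₂ : C →ₐ[k] U₂), (∀ y, π₁ (h₁ y) = π₂ (h₂ y)) ∧ (∀ y, h₁ (ι y) = φ₁ y) ∧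
            (∀ i, h₁ (algebraMap _ C (X i : MvPolynomial (Fin d) k)) = t₁ i) ∧
            ∀ i, h₂ (algebraMap _ C (X i : MvPolynomial (Fin d) k)) = t₂ i := by
  classical
  let V := MvPolynomial (Fin d ⊕ Fin d × Fin r) A
  let rel : Fin d → V := fun i => X (Sum.inl i) ^ n - ∑ j, MvPolynomial.C (a j) * X (Sum.inr (i, j))
  let Q := V ⧸ Ideal.span (Set.range rel)
  let mk : V →ₐ[A] Q := Ideal.Quotient.mkₐ A _
  let φQ : A →ₐ[k] Q := IsScalarTower.toAlgHom k A Q
  let xQ : Fin d → Q := fun i => mk (X (Sum.inl i))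
  let t : MvPolynomial (Fin d) k →ₐ[k] Q := aeval xQ
  letI : Algebra (MvPolynomial (Fin d) k) Q := t.toRingHom.toAlgebra
  haveI : IsScalarTower k (MvPolynomial (Fin d) k) Q := IsScalarTower.of_algebraMap_eq fun c => (t.commutes c).symm
  have hX : ∀ i, algebraMap (MvPolynomial (Fin d) k) Q (X i) = xQ i := fun i => aeval_X _ i
  have hrel : ∀ i, xQ i ^ n = ∑ j, mk (X (Sum.inr (i, j))) * φQ (a j) := fun i => by
    have h0 : mk (rel i) = 0 := Ideal.Quotient.eq_zero_iff_mem.2 (Ideal.subset_span ⟨i, rfl⟩)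
    simp only [rel, map_sub, map_pow, map_sum, map_mul, sub_eq_zero] at h0
    rw [show xQ i ^ n = _ from h0]
    exact Finset.sum_congr rfl fun j _ => mul_comm _ _
  obtain ⟨A', _, _, _, _, hA', ι, φ', hι, hsm'⟩ :=
    RegularPoint.exists_parameter_algebra φQ a hsm xQ n (fun i j => mk (X (Sum.inr (i, j)))) hrel hX
  haveI := hA'
  obtain ⟨C₂, _, _, hC₂, inc, r', hr, c, hc, hstd⟩ :=
    RegularPoint.exists_strictlyStandard_model (A' := A') (fun i => (X i : MvPolynomial (Fin d) k)) hsm'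
  letI : Algebra k C₂ := ((algebraMap (MvPolynomial (Fin d) k) C₂).comp (algebraMap k _)).toAlgebra
  haveI : IsScalarTower k (MvPolynomial (Fin d) k) C₂ := IsScalarTower.of_algebraMap_eq' rfl
  refine ⟨C₂, inferInstance, inferInstance, inferInstance, inferInstance, hC₂, c,
    (inc.restrictScalars k).comp ι, hc, hstd, ?_⟩
  intro U₁ U₂ U _ _ _ _ _ _ π₁ π₂ φ₁ φ₂ t₁ t₂ z₁ z₂ h₁' h₂' hφ ht hz
  have hlift : ∀ {W : Type u} [CommRing W] [Algebra k W] (φW : A →ₐ[k] W) (tW : Fin d → W) (zW : Fin d → Fin r → W),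
      (∀ i, tW i ^ n = ∑ j, zW i j * φW (a j)) →
      ∃ h : Q →ₐ[k] W, (∀ y, h (φQ y) = φW y) ∧ (∀ i, h (xQ i) = tW i) ∧
        ∀ i j, h (mk (X (Sum.inr (i, j)))) = zW i j := by
    intro W _ _ φW tW zW hW
    letI : Algebra A W := φW.toRingHom.toAlgebra
    haveI : IsScalarTower k A W := IsScalarTower.of_algebraMap_eq fun c => (φW.commutes c).symm
    let ev : V →ₐ[A] W := aeval (Sum.elim tW fun q => zW q.1 q.2)
    have hevX : ∀ v, ev (X v) = Sum.elim tW (fun q => zW q.1 q.2) v := fun v => aeval_X _ v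
    have hevC : ∀ b, ev (MvPolynomial.C b) = φW b := fun b => aeval_C _ b
    let h0 : Q →ₐ[A] W := Ideal.Quotient.liftₐ _ ev fun y hy => by
      refine (Ideal.span_le (I := RingHom.ker ev)).2 ?_ hy
      rintro _ ⟨i, rfl⟩
      show ev (rel i) = 0
      simp only [rel, map_sub, map_pow, map_sum, map_mul, hevX, hevC, Sum.elim_inl, Sum.elim_inr]
      rw [hW, sub_eq_zero]
      exact Finset.sum_congr rfl fun j _ => mul_comm _ _
    exact ⟨h0.restrictScalars k, fun y => h0.commutes y, fun i => hevX _, fun i j => hevX _⟩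
  obtain ⟨g₁, hg₁, hg₁x, hg₁z⟩ := hlift φ₁ t₁ z₁ h₁'
  obtain ⟨g₂, hg₂, hg₂x, hg₂z⟩ := hlift φ₂ t₂ z₂ h₂'
  have hg : ∀ y, π₁ (g₁ y) = π₂ (g₂ y) := by
    intro y
    obtain ⟨y, rfl⟩ := Ideal.Quotient.mk_surjective y
    induction y using MvPolynomial.induction_on with
    | C b =>
      show π₁ (g₁ (φQ b)) = π₂ (g₂ (φQ b))
      rw [hg₁, hg₂, hφ]
    | add p q hp hq => simp only [map_add, hp, hq]
    | mul_X p i hp =>
      simp only [map_mul, hp]
      congr 1
      show π₁ (g₁ (mk (X i))) = π₂ (g₂ (mk (X i)))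
      rcases i with i | ⟨i, j⟩
      · rw [show mk (X (Sum.inl i)) = xQ i from rfl, hg₁x, hg₂x, ht]
      · rw [hg₁z, hg₂z, hz]
  let q : C₂ →ₐ[MvPolynomial (Fin d) k] Q := φ'.comp r'
  refine ⟨g₁.comp (q.restrictScalars k), g₂.comp (q.restrictScalars k), fun y => hg _, fun y => ?_, fun i => ?_, fun i => ?_⟩
  · show g₁ (φ' (r' (inc (ι y)))) = φ₁ y
    rw [← AlgHom.comp_apply r' inc, hr, AlgHom.id_apply, hι, hg₁]
  · show g₁ (q (algebraMap _ C₂ (X i))) = t₁ i
    rw [q.commutes, hX, hg₁x]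
  · show g₂ (q (algebraMap _ C₂ (X i))) = t₂ i
    rw [q.commutes, hX, hg₂x]

/-- The lifting step for a problem factoring, modulo eighth powers, through an ind-smooth algebra. -/
theorem resolvable_of_factor {R A Λ Db : Type u} [CommRing R] [IsNoetherianRing R] [CommRing A]
    [Algebra R A] [Algebra.FinitePresentation R A] [CommRing Λ] [Algebra R Λ] (φ : A →ₐ[R] Λ) (Q : Ideal Λ) [Q.IsPrime]
    {d : ℕ} (π : Fin d → R) (hπ : ∀ i, algebraMap R Λ (π i) ∈ Q)
    (hR : ∀ i : Fin d, ∀ x : R ⧸ Ideal.span (Set.range fun j : {j : Fin d // (j : ℕ) < (i : ℕ)} => π j ^ 8),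
      Ideal.Quotient.mk _ (π i) ^ 2 * x = 0 → Ideal.Quotient.mk _ (π i) * x = 0)
    (hΛ : ∀ i : Fin d, ∀ x : Λ ⧸ Ideal.span (Set.range fun j : {j : Fin d // (j : ℕ) < (i : ℕ)} =>
        algebraMap R Λ (π j) ^ 8),
      Ideal.Quotient.mk _ (algebraMap R Λ (π i)) ^ 2 * x = 0 → Ideal.Quotient.mk _ (algebraMap R Λ (π i)) * x = 0)
    (hstd : ∀ i, Smoothing.IsStrictlyStandard R A (algebraMap R A (π i))) (K : Ideal R)
    (hK : K = Ideal.span (Set.range fun i => π i ^ 8))
    [CommRing Db] [Algebra (R ⧸ K) Db] (hind : Smoothing.IndSmooth (R ⧸ K) Db)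
    (g : Db →ₐ[R ⧸ K] Λ ⧸ K.map (algebraMap R Λ)) (ψ : A →+* Db)
    (hψ : ∀ r, ψ (algebraMap R A r) = algebraMap (R ⧸ K) Db (Ideal.Quotient.mk K r))
    (hgψ : ∀ y, g (ψ y) = Ideal.Quotient.mk _ (φ y)) :
    Smoothing.Resolvable R φ Q := by
  have hKQ : K.map (algebraMap R Λ) ≤ Q := by
    rw [hK, Ideal.map_span, Ideal.span_le]
    rintro _ ⟨_, ⟨i, rfl⟩, rfl⟩
    rw [SetLike.mem_coe, map_pow]
    exact Ideal.pow_mem_of_mem _ (hπ i) 8 (by norm_num)
  let ψK : (A ⧸ K.map (algebraMap R A)) →ₐ[R ⧸ K] Db :=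
    { Ideal.Quotient.lift _ ψ (fun y hy => by
        refine (Ideal.map_le_iff_le_comap.2 fun z hz => ?_ : K.map (algebraMap R A) ≤ RingHom.ker ψ) hy
        show ψ (algebraMap R A z) = 0
        rw [hψ, Ideal.Quotient.eq_zero_iff_mem.2 hz, map_zero]) with
      commutes' := fun r => by
        obtain ⟨r, rfl⟩ := Ideal.Quotient.mk_surjective r
        exact hψ r }
  refine ResolveModPow.resolvable_of_resolvable_mod_pow φ Q π hπ hR hΛ hstd K hK (g.comp ψK) hgψ ?_
  haveI : Algebra.FiniteType (R ⧸ K) (A ⧸ K.map (algebraMap R A)) :=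
    Algebra.FiniteType.of_restrictScalars_finiteType R _ _
  obtain ⟨B, i₁, i₂, hB, γ, β, hβ⟩ := hind _ (Algebra.FinitePresentation.of_finiteType.1 inferInstance) ψK
  haveI := hB
  have htop : Smoothing.singularIdeal (R ⧸ K) B = ⊤ := by
    rw [Smoothing.singularIdeal, Algebra.smoothLocus_eq_univ, Set.compl_univ, PrimeSpectrum.vanishingIdeal_empty]
  have h1 : Smoothing.singRad (R ⧸ K) (g.comp β) = ⊤ := by
    rw [Smoothing.singRad, htop, Ideal.map_top, Ideal.radical_top]
  refine ⟨B, i₁, i₂, inferInstance, γ, g.comp β, by rw [AlgHom.comp_assoc, hβ], by rw [h1]; exact le_top, ?_⟩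
  rw [h1, top_le_iff]
  intro h
  have h1 := (Ideal.eq_top_iff_one _).1 h
  rw [← map_one (Ideal.Quotient.mk _), Ideal.mem_map_iff_of_surjective _ Ideal.Quotient.mk_surjective] at h1
  obtain ⟨y, hy, hy1⟩ := h1
  exact ‹Q.IsPrime›.ne_top ((Ideal.eq_top_iff_one _).2 (by simpa using sub_mem hy (hKQ (Ideal.Quotient.eq.1 hy1))))

theorem faithfullyFlat_quotient (D L : Type u) [CommRing D] [CommRing L] [Algebra D L] [Module.FaithfullyFlat D L]
    (K : Ideal D) : Module.FaithfullyFlat (D ⧸ K) (L ⧸ K.map (algebraMap D L)) := by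
  let e : (D ⧸ K) ⊗[D] L ≃ₐ[D] L ⧸ K.map (algebraMap D L) :=
    (Algebra.TensorProduct.comm D _ L).trans
      ((Algebra.TensorProduct.quotIdealMapEquivTensorQuot L K).symm.restrictScalars D)
  let e' : (D ⧸ K) ⊗[D] L ≃ₐ[D ⧸ K] L ⧸ K.map (algebraMap D L) := AlgEquiv.ofRingEquiv (f := e.toRingEquiv) (fun r => by
    obtain ⟨r, rfl⟩ := Ideal.Quotient.mk_surjective r
    show e (algebraMap D ((D ⧸ K) ⊗[D] L) r) = _
    rw [e.commutes]
    rfl)
  exact Module.FaithfullyFlat.of_linearEquiv _ _ e'.symm.toLinearEquiv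

/-- A stage of an ind-smooth quotient is ind-smooth. -/
theorem indSmooth_stage {R D L' Lb : Type u} [CommRing R] [IsLocalRing R] [CommRing D] [IsLocalRing D] [CommRing L']
    [IsLocalRing L'] [Algebra R D] [Algebra D L'] [Algebra R L'] [IsScalarTower R D L'] [IsLocalHom (algebraMap R D)]
    [IsLocalHom (algebraMap D L')] [Module.Flat D L']
    [Algebra.IsGeometricallyReduced (ResidueField R) (ResidueField D)]
    (hD : (maximalIdeal D).map (algebraMap D L') = maximalIdeal L')
    (hR : (maximalIdeal R).map (algebraMap R L') = maximalIdeal L') (K : Ideal R) (N : ℕ)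
    (hK : K ≤ maximalIdeal R) (hN : maximalIdeal R ^ N ≤ K)
    [CommRing Lb] [Algebra (R ⧸ K) Lb] [Module.Flat (R ⧸ K) Lb] (ρ : L' →+* Lb) (hρ : Function.Surjective ρ)
    (hρk : RingHom.ker ρ = K.map (algebraMap R L'))
    (hρc : ∀ r, ρ (algebraMap R L' r) = algebraMap (R ⧸ K) Lb (Ideal.Quotient.mk K r)) :
    Smoothing.IndSmooth (R ⧸ K) (D ⧸ K.map (algebraMap R D)) := by
  haveI : Module.FaithfullyFlat D L' := Module.FaithfullyFlat.of_flat_of_isLocalHom
  have he : (maximalIdeal R).map (algebraMap R D) = maximalIdeal D := by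
    rw [← Ideal.comap_map_eq_self_of_faithfullyFlat (B := L') ((maximalIdeal R).map (algebraMap R D)),
      ← Ideal.comap_map_eq_self_of_faithfullyFlat (B := L') (maximalIdeal D), Ideal.map_map,
      ← IsScalarTower.algebraMap_eq, hR, hD]
  let KD := K.map (algebraMap R D)
  haveI := faithfullyFlat_quotient D L' KD
  letI : Algebra (R ⧸ K) (L' ⧸ KD.map (algebraMap D L')) :=
    ((algebraMap (D ⧸ KD) _).comp (algebraMap (R ⧸ K) (D ⧸ KD))).toAlgebra
  haveI : IsScalarTower (R ⧸ K) (D ⧸ KD) (L' ⧸ KD.map (algebraMap D L')) := IsScalarTower.of_algebraMap_eq' rfl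
  let e : (L' ⧸ KD.map (algebraMap D L')) ≃+* Lb :=
    (Ideal.quotEquivOfEq (by rw [hρk, Ideal.map_map, ← IsScalarTower.algebraMap_eq])).trans
      (RingHom.quotientKerEquivOfSurjective hρ)
  haveI : Module.Flat (R ⧸ K) (L' ⧸ KD.map (algebraMap D L')) :=
    Module.Flat.of_linearEquiv (AlgEquiv.ofRingEquiv (f := e) (fun r => by
      obtain ⟨r, rfl⟩ := Ideal.Quotient.mk_surjective r
      rw [← hρc, IsScalarTower.algebraMap_apply R D L']
      rfl) : (L' ⧸ KD.map (algebraMap D L')) ≃ₐ[R ⧸ K] Lb).toLinearEquiv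
  haveI : Module.Flat (R ⧸ K) (D ⧸ KD) :=
    FlatCrit.flat_of_flat_of_faithfullyFlat (M := L' ⧸ KD.map (algebraMap D L'))
  have hKm : KD ≤ maximalIdeal D := (Ideal.map_mono hK).trans he.le
  letI : Algebra (R ⧸ K) (ResidueField R) := (Ideal.Quotient.factor hK).toAlgebra
  letI : Algebra (R ⧸ K) (ResidueField D) :=
    ((algebraMap (ResidueField R) (ResidueField D)).comp (algebraMap (R ⧸ K) (ResidueField R))).toAlgebra
  haveI : IsScalarTower (R ⧸ K) (ResidueField R) (ResidueField D) := IsScalarTower.of_algebraMap_eq' rfl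
  let ρ₀ : (D ⧸ KD) →+* ResidueField D := Ideal.Quotient.lift _ (residue D) fun y hy =>
    (residue_eq_zero_iff y).2 (hKm hy)
  let ρD : (D ⧸ KD) →ₐ[R ⧸ K] ResidueField D :=
    { ρ₀ with
      commutes' := fun r => by
        obtain ⟨p, rfl⟩ := Ideal.Quotient.mk_surjective r
        rfl }
  have hρD : Function.Surjective ρD := fun y => by
    obtain ⟨y, rfl⟩ := residue_surjective y
    exact ⟨Ideal.Quotient.mk _ y, rfl⟩
  let I : Ideal (R ⧸ K) := (maximalIdeal R).map (Ideal.Quotient.mk K)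
  refine IndSmoothSquareZero.indSmooth_nilpotent N (R₀ := ResidueField R) (Λ₀ := ResidueField D) ?_ (I := I) ?_ ρD hρD ?_ ?_
    (RegularPoint.indSmooth_geometricallyReduced (ResidueField R) (ResidueField D))
  · exact Ideal.Quotient.factor_surjective hK
  · exact Ideal.Quotient.factor_ker hK
  · show RingHom.ker ρ₀ = I.map (algebraMap (R ⧸ K) (D ⧸ KD))
    have h1 : I.map (algebraMap (R ⧸ K) (D ⧸ KD)) = (maximalIdeal D).map (Ideal.Quotient.mk _) := by
      rw [← he, Ideal.map_map, Ideal.map_map]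
      rfl
    rw [h1]
    exact Ideal.Quotient.factor_ker hKm
  · show I ^ N = ⊥
    rw [← Ideal.map_pow, eq_bot_iff]
    exact (Ideal.map_mono hN).trans (Ideal.map_quotient_self K).le

theorem D_aeval {k K : Type u} [CommRing k] [CommRing K] [Algebra k K] {σ : Type u} [Fintype σ] (v : σ → K)
    (f : MvPolynomial σ k) :
    KaehlerDifferential.D k K (aeval v f) = ∑ i, aeval v (pderiv i f) • KaehlerDifferential.D k K (v i) := by
  classical
  induction f using MvPolynomial.induction_on with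
  | C a => simp
  | add p q hp hq => simp only [map_add, add_smul, Finset.sum_add_distrib, hp, hq]
  | mul_X p i hp =>
    rw [map_mul, aeval_X, Derivation.leibniz, hp, Finset.smul_sum]
    simp only [Derivation.leibniz, map_add, map_mul, aeval_X, smul_eq_mul, add_smul, mul_smul, Finset.sum_add_distrib]
    congr 1
    rw [Finset.sum_eq_single i]
    · rw [pderiv_X_self, map_one, one_smul]
    · intro j _ hj
      rw [pderiv_X_of_ne (Ne.symm hj), map_zero, zero_smul, smul_zero]
    · simp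

/-- A finite family whose differentials are a basis. -/
theorem exists_pbasis_lifts (k K : Type u) [Field k] [Field K] [Algebra k K] [Algebra.EssFiniteType k K] :
    ∃ (σ : Type u) (_ : Fintype σ) (v : σ → K), LinearIndependent K (fun i => KaehlerDifferential.D k K (v i)) ∧
      Submodule.span K (Set.range fun i => KaehlerDifferential.D k K (v i)) = ⊤ := by
  classical
  obtain ⟨b, hb, hbspan, hbli⟩ := exists_linearIndependent K (Set.range (KaehlerDifferential.D k K))
  choose v hv using fun x : b => hb x.2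
  haveI : Finite b := hbli.finite
  haveI : Fintype b := Fintype.ofFinite b
  have hfun : (fun i : b => KaehlerDifferential.D k K (v i)) = Subtype.val := funext hv
  refine ⟨↥b, inferInstance, v, hfun ▸ hbli, ?_⟩
  rw [hfun, Subtype.range_coe, hbspan, KaehlerDifferential.span_range_derivation]

/-- An extension of fields generated on differentials by elements of the smaller field is separable. -/
theorem isGeometricallyReduced_of_span {k F K : Type u} [Field k] [Field F] [Field K] [Algebra k F] [Algebra k K]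
    [Algebra F K] [IsScalarTower k F K] [Algebra.EssFiniteType k K] {σ : Type u} (v : σ → F)
    (h : Submodule.span K (Set.range fun i => KaehlerDifferential.D k K (algebraMap F K (v i))) = ⊤) :
    Algebra.IsGeometricallyReduced F K := by
  haveI : Algebra.EssFiniteType F K := Algebra.EssFiniteType.of_comp k F K
  have hle : ⊤ ≤ LinearMap.range (KaehlerDifferential.mapBaseChange k F K) := by
    rw [← h, Submodule.span_le]
    rintro _ ⟨i, rfl⟩
    exact ⟨1 ⊗ₜ KaehlerDifferential.D k F (v i), by simp⟩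
  haveI : Algebra.FormallyUnramified F K := by
    refine ⟨⟨fun a b => ?_⟩⟩
    obtain ⟨x, rfl⟩ := KaehlerDifferential.map_surjective k F K a
    obtain ⟨y, rfl⟩ := KaehlerDifferential.map_surjective k F K b
    rw [((KaehlerDifferential.exact_mapBaseChange_map k F K) x).2 (hle trivial),
      ((KaehlerDifferential.exact_mapBaseChange_map k F K) y).2 (hle trivial)]
  haveI : Algebra.IsSeparable F K := Algebra.FormallyUnramified.isSeparable F K
  haveI : Algebra.FormallyEtale F K := Algebra.FormallyEtale.of_isSeparable F K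
  exact (EGA41Lib.formallySmooth_iff_isGeometricallyReduced_field F K).1 inferInstance

end Groth.Agent.CAlgH.GeomRegularPoint
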