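import Groth.Agent.CAlgH.ArtinianDescent
import Groth.Agent.CAlgH.GeomRegularBase
import Groth.Agent.CAlgH.GeomRegularTools
import Mathlib

/-! Resolving at a geometrically regular point in characteristic `p`. -/

universe u

open MvPolynomial IsLocalRing
open scoped TensorProduct

namespace Groth.Agent.CAlgH.GeomRegularPoint

open GeomRegularBase

theorem span_pow_eq_span_prod {R : Type u} {ι : Type*} [CommRing R] (ξ : ι → R) :
    ∀ n : ℕ, Ideal.span (Set.range ξ) ^ n = Ideal.span (Set.range fun f : Fin n → ι => ∏ i, ξ (f i)) := by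
  intro n
  induction n with
  | zero => simp
  | succ n ih =>
    rw [pow_succ', ih, Ideal.span_mul_span']
    congr 1
    ext x
    constructor
    · rintro ⟨_, ⟨a, rfl⟩, _, ⟨f, rfl⟩, rfl⟩
      exact ⟨Fin.cons a f, by simp [Fin.prod_univ_succ]⟩
    · rintro ⟨f, rfl⟩
      exact ⟨ξ (f 0), ⟨_, rfl⟩, ∏ i : Fin n, ξ (f i.succ), ⟨_, rfl⟩, (Fin.prod_univ_succ fun i => ξ (f i)).symm⟩

/-- Base change of two maps along parameters. -/
theorem exists_baseChange_lifts {k R C L : Type u} [Field k] [CommRing R] [Algebra k R] [CommRing C] {d : ℕ}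
    [Algebra (MvPolynomial (Fin d) k) C] [Algebra k C] [IsScalarTower k (MvPolynomial (Fin d) k) C]
    [Algebra (MvPolynomial (Fin d) k) R] [IsScalarTower k (MvPolynomial (Fin d) k) R]
    [CommRing L] [Algebra k L] [Algebra R L] [IsScalarTower k R L] (h : C →ₐ[k] L)
    (hX : ∀ i, h (algebraMap _ C (X i : MvPolynomial (Fin d) k)) =
      algebraMap R L (algebraMap _ R (X i : MvPolynomial (Fin d) k))) :
    ∃ φ : R ⊗[MvPolynomial (Fin d) k] C →ₐ[R] L, ∀ z, φ (1 ⊗ₜ z) = h z := by
  let P := MvPolynomial (Fin d) k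
  letI : Algebra P L := ((algebraMap R L).comp (algebraMap P R)).toAlgebra
  haveI : IsScalarTower P R L := IsScalarTower.of_algebraMap_eq' rfl
  let hP : C →ₐ[P] L :=
    { h.toRingHom with
      commutes' := fun q => by
        show (h.comp (IsScalarTower.toAlgHom k P C)) q =
          ((IsScalarTower.toAlgHom k R L).comp (IsScalarTower.toAlgHom k P R)) q
        congr 1
        exact MvPolynomial.algHom_ext hX }
  refine ⟨Algebra.TensorProduct.lift (Algebra.ofId R L) hP fun _ _ => Commute.all _ _, fun z => ?_⟩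
  rw [Algebra.TensorProduct.lift_tmul, map_one, one_mul]
  rfl

set_option maxHeartbeats 4000000 in
set_option synthInstance.maxHeartbeats 200000 in
theorem exists_smooth_at_closed_point {k A L : Type u} [Field k] (p : ℕ) [Fact p.Prime] [CharP k p] [CommRing A]
    [Algebra k A] [Algebra.FinitePresentation k A] [CommRing L] [IsLocalRing L] [IsNoetherianRing L] [Algebra k L]
    (hL : CAlgX.IsAdicFormallySmooth k L (maximalIdeal L)) (φ : A →ₐ[k] L)
    (hm : maximalIdeal L ≤ Smoothing.singRad k φ) :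
    ∃ (C : Type u) (_ : CommRing C) (_ : Algebra k C), Algebra.FinitePresentation k C ∧
      ∃ (g : A →ₐ[k] C) (h : C →ₐ[k] L), h.comp g = φ ∧
        Algebra.IsSmoothAt k ((maximalIdeal L).comap h.toRingHom) := by
  classical
  haveI := AdicSmooth.isRegularLocalRing_of_adicSmooth hL
  haveI : IsNoetherianRing A := Algebra.FiniteType.isNoetherianRing k A
  obtain ⟨s, hs, hspan⟩ := (Submodule.fg_span_iff_fg_span_finset_subset _).1
    (IsNoetherian.noetherian (Ideal.span {a : A | Smoothing.IsStrictlyStandard k A a}))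
  let a : Fin s.card → A := fun j => (s.equivFin.symm j).1
  have hsm : ∀ j, Algebra.Smooth k (Localization.Away (a j)) := fun j =>
    (StrictlyStandardSmooth.smooth_and_stablyFree _ (hs (s.equivFin.symm j).2)).1
  let J := Ideal.span (Set.range fun j => φ (a j))
  have hJ : maximalIdeal L ≤ J.radical := by
    refine hm.trans ?_
    rw [Smoothing.singRad, SingularIdeal.singularIdeal_eq.1]
    refine Ideal.radical_le_radical_iff.2 ((Ideal.map_mono (Ideal.radical_mono hspan.le)).trans
      ((Ideal.map_radical_le φ).trans (Ideal.radical_mono ?_)))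
    rw [Ideal.map_span, Ideal.span_le]
    rintro _ ⟨b, hb, rfl⟩
    exact Ideal.subset_span ⟨s.equivFin ⟨b, hb⟩, by simp [a]⟩
  obtain ⟨n, hn'⟩ := Ideal.exists_radical_pow_le_of_fg J (IsNoetherian.noetherian _)
  have hn : maximalIdeal L ^ n ≤ J := (Ideal.pow_right_mono hJ n).trans hn'
  obtain ⟨d, ξ, hξ, hξdim⟩ : ∃ (d : ℕ) (ξ : Fin d → L), Ideal.span (Set.range ξ) = maximalIdeal L ∧
      ringKrullDim L = (d : WithBot ℕ∞) := by
    obtain ⟨d, x, hx, hreg, -⟩ := RegularPoint.exists_parameters k L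
    refine ⟨d, x, hx, ?_⟩
    have hof : Ideal.ofList (List.ofFn x) = maximalIdeal L := by
      rw [← hx, Ideal.ofList]
      congr 1
      ext z
      simp [List.mem_ofFn]
    rw [dim_eq_length _ ((IsLocalRing.isRegular_iff_isWeaklyRegular_of_subset_maximalIdeal fun a ha =>
      hof ▸ Ideal.subset_span ha).2 hreg) hof, List.length_ofFn]
  have hcoef : ∀ f : Fin n → Fin d, ∃ δ : Fin s.card → L, ∏ i, ξ (f i) = ∑ j, δ j * φ (a j) := fun f => by
    have h1 : ∏ i, ξ (f i) ∈ J := hn (by
      rw [← hξ, span_pow_eq_span_prod]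
      exact Ideal.subset_span ⟨f, rfl⟩)
    obtain ⟨δ, hδ⟩ := Ideal.mem_span_range_iff_exists_fun.1 h1
    exact ⟨δ, hδ.symm⟩
  choose δc hδc using hcoef
  obtain ⟨Cu, _, _, _, _, hCu, c, ιC, hc, hstd, hmodel⟩ := exists_universal_model (k := k) a hsm d n
  haveI := hCu
  let M := d * (c * 8) + 1 + n + 1
  let I := maximalIdeal L ^ M
  have hIm : I ≤ maximalIdeal L := Ideal.pow_le_self (by omega)
  haveI : Nontrivial (L ⧸ I) :=
    Ideal.Quotient.nontrivial_iff.2 (ne_top_of_le_ne_top (maximalIdeal.isMaximal L).ne_top hIm)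
  haveI : IsLocalRing (L ⧸ I) := IsLocalRing.of_surjective' _ Ideal.Quotient.mk_surjective
  haveI : IsLocalHom (algebraMap L (L ⧸ I)) := IsLocalHom.of_surjective _ Ideal.Quotient.mk_surjective
  let π : L →ₐ[k] L ⧸ I := Ideal.Quotient.mkₐ k I
  have hmI : (maximalIdeal L).map (Ideal.Quotient.mk I) = maximalIdeal (L ⧸ I) :=
    IsLocalRing.map_maximalIdeal_of_surjective _ Ideal.Quotient.mk_surjective
  haveI : IsArtinianRing (L ⧸ I) := (isArtinianRing_iff_isNilpotent_maximalIdeal _).2 ⟨M, by
    rw [← hmI, ← Ideal.map_pow, Ideal.map_quotient_self]; rfl⟩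
  have hH : Module.Finite (ResidueField (L ⧸ I)) (Algebra.H1Cotangent k (ResidueField (L ⧸ I))) :=
    finite_h1 (L := L) (fun y => by
      obtain ⟨y, rfl⟩ := residue_surjective y
      obtain ⟨y, rfl⟩ := Ideal.Quotient.mk_surjective y
      exact ⟨y, rfl⟩) (maximalIdeal L) (fun y hy => by
        rw [RingHom.mem_ker]
        show residue (L ⧸ I) (Ideal.Quotient.mk I y) = 0
        rw [residue_eq_zero_iff, ← hmI]
        exact Ideal.mem_map_of_mem _ hy) hL
  obtain ⟨r, gens, hgens, -⟩ := ‹Algebra.FinitePresentation k A›.out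
  let E : Finset (L ⧸ I) := (Finset.univ.image fun i => π (φ (gens (X i)))) ∪ (Finset.univ.image fun i => π (ξ i)) ∪
    Finset.univ.image fun q : (Fin n → Fin d) × Fin s.card => π (δc q.1 q.2)
  obtain ⟨D, hDloc, hED, -, hDflat, hDft, hDmax⟩ := ArtinianDescent.exists_subalgebra p hH E
  haveI := hDloc
  haveI := hDflat
  haveI := hDft
  haveI : IsLocalHom (algebraMap D (L ⧸ I)) := ((IsLocalRing.local_hom_TFAE (algebraMap D (L ⧸ I))).out 0 2).2 hDmax.le
  haveI : Module.FaithfullyFlat D (L ⧸ I) := Module.FaithfullyFlat.of_flat_of_isLocalHom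
  have hφD : ∀ y, π (φ y) ∈ D := by
    intro y
    obtain ⟨y, rfl⟩ := hgens y
    induction y using MvPolynomial.induction_on with
    | C c =>
      rw [show gens (MvPolynomial.C c) = algebraMap k A c from gens.commutes c, φ.commutes, π.commutes]
      exact D.algebraMap_mem c
    | add p q hp hq => rw [map_add, map_add, map_add]; exact add_mem hp hq
    | mul_X p i hp =>
      rw [map_mul, map_mul, map_mul]
      exact mul_mem hp (hED (by simp [E]))
  let φD : A →ₐ[k] D := (π.comp φ).codRestrict D hφD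
  let ξD : Fin d → D := fun i => ⟨π (ξ i), hED (by simp [E])⟩
  let δD : (Fin n → Fin d) → Fin s.card → D := fun f j => ⟨π (δc f j), hED (by
    simp only [E, Finset.coe_union, Set.mem_union, Finset.coe_image, Finset.coe_univ, Set.image_univ, Set.mem_range]
    exact Or.inr ⟨(f, j), rfl⟩)⟩
  have hmD : maximalIdeal D = Ideal.span (Set.range ξD) := by
    rw [← Ideal.comap_map_eq_self_of_faithfullyFlat (B := L ⧸ I) (maximalIdeal D),
      ← Ideal.comap_map_eq_self_of_faithfullyFlat (B := L ⧸ I) (Ideal.span (Set.range ξD)), hDmax, Ideal.map_span,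
      ← Set.range_comp, ← hmI, ← hξ, Ideal.map_span, ← Set.range_comp]
    rfl
  haveI : Algebra.EssFiniteType D (ResidueField D) :=
    haveI : Algebra.FiniteType D (ResidueField D) :=
      Algebra.FiniteType.of_surjective (Algebra.ofId D (ResidueField D)) residue_surjective
    inferInstance
  haveI : Algebra.EssFiniteType k (ResidueField D) := Algebra.EssFiniteType.comp k D (ResidueField D)
  obtain ⟨σ, _, ub, hubli, hubspan⟩ := exists_pbasis_lifts k (ResidueField D)
  choose uD huD using fun i => residue_surjective (R := D) (ub i)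
  choose uL huL using fun i => Ideal.Quotient.mk_surjective ((uD i : L ⧸ I))
  have hcompat : ∀ {τ : Type u} (v : τ → L) (vD : τ → D) (_ : ∀ i, π (v i) = (vD i : L ⧸ I)) (f : MvPolynomial τ k),
      π (aeval v f) = ((aeval vD f : D) : L ⧸ I) := by
    intro τ v vD h f
    exact DFunLike.congr_fun (MvPolynomial.algHom_ext (f := π.comp (aeval v)) (g := D.val.comp (aeval vD))
      fun i => by simp [h]) f
  have hmem : ∀ x : L, x ∈ maximalIdeal L ↔ π x ∈ maximalIdeal (L ⧸ I) := fun x => by
    constructor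
    · exact fun h => hmI ▸ Ideal.mem_map_of_mem _ h
    · exact fun h hu => h (hu.map π)
  have hmemD : ∀ x : D, x ∈ maximalIdeal D ↔ (x : L ⧸ I) ∈ maximalIdeal (L ⧸ I) := fun x =>
    not_congr ⟨fun h => h.map D.val, fun h => h.of_map (algebraMap D (L ⧸ I)) x⟩
  have hres : ∀ f : MvPolynomial σ k, residue D (aeval uD f) = aeval ub f := fun f => by
    exact DFunLike.congr_fun (MvPolynomial.algHom_ext (f := (IsScalarTower.toAlgHom k D (ResidueField D)).comp (aeval uD))
      (g := aeval ub) fun i => by simp [huD]) f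
  have hd : ∀ f : MvPolynomial σ k, aeval uL f ∈ maximalIdeal L → ∀ i, aeval uL (pderiv i f) ∈ maximalIdeal L := by
    intro f hf i
    rw [hmem, hcompat uL uD huL, ← hmemD, ← residue_eq_zero_iff, hres] at hf
    rw [hmem, hcompat uL uD huL, ← hmemD, ← residue_eq_zero_iff, hres]
    have h1 : ∑ j, aeval ub (pderiv j f) • KaehlerDifferential.D k (ResidueField D) (ub j) = 0 := by
      rw [← D_aeval, hf, map_zero]
    exact Fintype.linearIndependent_iff.1 hubli _ h1 i
  obtain ⟨ι, _, S, d', y, hyspan, hηspan, hyreg, hηreg, hflat⟩ := exists_regular_base hL uL hd ξ hξ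
  obtain rfl : d' = d := by
    have hof : Ideal.ofList (List.ofFn fun i => aeval (Sum.elim uL (ξ ∘ S)) (y i)) = maximalIdeal L := by
      rw [← hηspan, Ideal.ofList]
      congr 1
      ext z
      simp [List.mem_ofFn]
    have := dim_eq_length _ ((IsLocalRing.isRegular_iff_isWeaklyRegular_of_subset_maximalIdeal fun a ha =>
      hof ▸ Ideal.subset_span ha).2 hηreg) hof
    rw [hξdim, List.length_ofFn] at this
    exact_mod_cast this.symm
  let v := Sum.elim uL (ξ ∘ S)
  let vD := Sum.elim uD (ξD ∘ S)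
  have hv : ∀ i, π (v i) = (vD i : L ⧸ I) := by
    rintro (i | i)
    · exact huL i
    · rfl
  let R := Pt (k := k) v
  haveI := regularLocal_Pt (k := k) v
  letI : Algebra R L := (toL v).toRingHom.toAlgebra
  haveI : IsScalarTower k R L := IsScalarTower.of_algebraMap_eq fun c => ((toL v).commutes c).symm
  haveI : Module.Flat R L := hflat
  haveI : IsLocalHom (algebraMap R L) := isLocalHom_toL v
  let toD : R →ₐ[k] D := IsLocalization.liftAlgHom (M := (pt (k := k) v).primeCompl) (f := aeval vD) fun f => by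
    refine not_not.1 fun h => f.2 ?_
    show aeval v (f : MvPolynomial (σ ⊕ ι) k) ∈ maximalIdeal L
    rw [hmem, hcompat v vD hv, ← hmemD]
    exact h
  have htoD : ∀ f, toD (algebraMap _ R f) = aeval vD f := fun f => IsLocalization.lift_eq _ f
  letI : Algebra R D := toD.toRingHom.toAlgebra
  haveI : IsScalarTower k R D := IsScalarTower.of_algebraMap_eq fun c => (toD.commutes c).symm
  have hcomm : ((algebraMap D (L ⧸ I)).comp (algebraMap R D)) = (Ideal.Quotient.mk I).comp (algebraMap R L) := by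
    refine IsLocalization.ringHom_ext (pt (k := k) v).primeCompl (RingHom.ext fun f => ?_)
    show ((toD (algebraMap _ R f) : D) : L ⧸ I) = Ideal.Quotient.mk I (toL v (algebraMap _ R f))
    rw [htoD, toL_algebraMap]
    exact (hcompat v vD hv f).symm
  haveI : IsScalarTower R D (L ⧸ I) := IsScalarTower.of_algebraMap_eq' hcomm.symm
  have hmRL : (maximalIdeal R).map (algebraMap R L) = maximalIdeal L := by
    rw [← hyspan, ← hηspan, Ideal.map_span, ← Set.range_comp]
    congr 2
    exact funext fun i => toL_algebraMap v (y i)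
  have hmR' : (maximalIdeal R).map (algebraMap R (L ⧸ I)) = maximalIdeal (L ⧸ I) := by
    rw [show algebraMap R (L ⧸ I) = (Ideal.Quotient.mk I).comp (algebraMap R L) from rfl, ← Ideal.map_map, hmRL, hmI]
  haveI : IsLocalHom (algebraMap R D) := ⟨fun x hx => by
    have h1 : IsUnit (Ideal.Quotient.mk I (algebraMap R L x)) := by
      rw [← RingHom.comp_apply, ← hcomm]
      exact hx.map (algebraMap D (L ⧸ I))
    exact (h1.of_map (algebraMap L (L ⧸ I)) _).of_map (algebraMap R L) x⟩
  haveI : IsScalarTower k (ResidueField R) (ResidueField D) := IsScalarTower.of_algebraMap_eq fun c => by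
    rw [IsScalarTower.algebraMap_apply k D (ResidueField D), IsScalarTower.algebraMap_apply k R (ResidueField R),
      IsScalarTower.algebraMap_apply k R D]
    rfl
  haveI : Algebra.IsGeometricallyReduced (ResidueField R) (ResidueField D) := by
    refine isGeometricallyReduced_of_span (k := k) (fun i => residue R (algebraMap _ R (X (Sum.inl i) : MvPolynomial (σ ⊕ ι) k))) ?_
    rw [← hubspan]
    congr 2
    funext i
    congr 1
    show residue D (toD (algebraMap _ R (X (Sum.inl i)))) = ub i
    rw [htoD, aeval_X]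
    exact huD i
  -- the ideal of eighth powers
  let π₀ : Fin d' → R := fun i => algebraMap _ R (y i) ^ c
  let K : Ideal R := Ideal.span (Set.range fun i => π₀ i ^ 8)
  let N := d' * (c * 8) + 1
  have hyR : ∀ i, algebraMap _ R (y i) ∈ maximalIdeal R := fun i => hyspan ▸ Ideal.subset_span ⟨i, rfl⟩
  have hN : maximalIdeal R ^ N ≤ K := by
    rw [← hyspan]
    refine (span_pow_le (c * 8) _).trans (le_of_eq ?_)
    simp only [K, π₀, pow_mul]
    rfl
  have hKm : K ≤ maximalIdeal R := Ideal.span_le.2 (by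
    rintro _ ⟨i, rfl⟩
    exact Ideal.pow_mem_of_mem _ (Ideal.pow_mem_of_mem _ (hyR i) c hc) 8 (by norm_num))
  have hNL : maximalIdeal L ^ N ≤ K.map (algebraMap R L) := by
    rw [← hmRL, ← Ideal.map_pow]
    exact Ideal.map_mono hN
  have hIK : I ≤ K.map (algebraMap R L) := (Ideal.pow_le_pow_right (by omega)).trans hNL
  haveI := RegularPoint.flat_quotient R L K
  let ρ : (L ⧸ I) →+* L ⧸ K.map (algebraMap R L) := Ideal.Quotient.factor hIK
  have hρk : RingHom.ker ρ = K.map (algebraMap R (L ⧸ I)) := by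
    rw [show algebraMap R (L ⧸ I) = (Ideal.Quotient.mk I).comp (algebraMap R L) from rfl, ← Ideal.map_map]
    exact Ideal.Quotient.factor_ker hIK
  have hind : Smoothing.IndSmooth (R ⧸ K) (D ⧸ K.map (algebraMap R D)) :=
    indSmooth_stage (L' := L ⧸ I) hDmax hmR' K N hKm hN ρ (Ideal.Quotient.factor_surjective hIK) hρk fun r => rfl
  -- the map from the stage
  let g₀ : D →+* L ⧸ K.map (algebraMap R L) := ρ.comp (algebraMap D (L ⧸ I))
  have hg₀ : ∀ r, g₀ (algebraMap R D r) = Ideal.Quotient.mk _ (algebraMap R L r) := fun r => by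
    show ρ ((algebraMap D (L ⧸ I)).comp (algebraMap R D) r) = _
    rw [hcomm]
    rfl
  let g : (D ⧸ K.map (algebraMap R D)) →ₐ[R ⧸ K] L ⧸ K.map (algebraMap R L) :=
    { Ideal.Quotient.lift _ g₀ (fun z hz => by
        refine (Ideal.map_le_iff_le_comap.2 fun w hw => ?_ : K.map (algebraMap R D) ≤ RingHom.ker g₀) hz
        show g₀ (algebraMap R D w) = 0
        rw [hg₀, Ideal.Quotient.eq_zero_iff_mem]
        exact Ideal.mem_map_of_mem _ hw) with
      commutes' := fun r => by
        obtain ⟨r, rfl⟩ := Ideal.Quotient.mk_surjective r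
        exact hg₀ r }
  let π₂ : (D ⧸ K.map (algebraMap R D)) →ₐ[k] L ⧸ K.map (algebraMap R L) :=
    { g.toRingHom with
      commutes' := fun r => by
        show g₀ (algebraMap k D r) = _
        rw [IsScalarTower.algebraMap_apply k R D, hg₀, ← IsScalarTower.algebraMap_apply k R L]
        rfl }
  let π₁ : L →ₐ[k] L ⧸ K.map (algebraMap R L) := Ideal.Quotient.mkₐ k _
  have hg₀π : ∀ z : D, ∀ x : L, (z : L ⧸ I) = π x → π₂ (Ideal.Quotient.mk _ z) = π₁ x := fun z x h => by
    show ρ (algebraMap D (L ⧸ I) z) = _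
    rw [show algebraMap D (L ⧸ I) z = π x from h]
    rfl
  -- the parameters in the stage
  let yD : Fin d' → D := fun i => aeval vD (y i)
  have hyD : ∀ i, π (aeval v (y i)) = (yD i : L ⧸ I) := fun i => hcompat v vD hv _
  have hsumD : ∀ i, ∃ Z : Fin s.card → D, yD i ^ n = ∑ j, Z j * φD (a j) := by
    intro i
    have h1 : yD i ∈ maximalIdeal D := by
      rw [hmemD, ← hyD, ← hmem]
      exact hηspan.le (Ideal.subset_span ⟨i, rfl⟩)
    rw [hmD] at h1
    have h2 := Ideal.pow_mem_pow h1 n
    rw [span_pow_eq_span_prod] at h2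
    have h3 : yD i ^ n ∈ Ideal.span (Set.range fun j => φD (a j)) := by
      refine (Ideal.span_le.2 ?_ : Ideal.span _ ≤ _) h2
      rintro _ ⟨f, rfl⟩
      refine Ideal.mem_span_range_iff_exists_fun.2 ⟨δD f, Subtype.ext ?_⟩
      have h4 := congrArg π (hδc f)
      simp only [map_prod, map_sum, map_mul] at h4
      simp only [AddSubmonoidClass.coe_finsetSum, SubmonoidClass.coe_finsetProd, Subalgebra.coe_mul]
      exact h4.symm
    obtain ⟨Z, hZ⟩ := Ideal.mem_span_range_iff_exists_fun.1 h3
    exact ⟨Z, hZ.symm⟩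
  choose Z hZ using hsumD
  choose Zt hZt using fun i j => Ideal.Quotient.mk_surjective ((Z i j : L ⧸ I))
  have hcorr : ∀ i, ∃ w : Fin s.card → L, (∀ j, w j ∈ maximalIdeal L ^ N) ∧
      aeval v (y i) ^ n = ∑ j, (Zt i j + w j) * φ (a j) := by
    intro i
    have h1 : aeval v (y i) ^ n - ∑ j, Zt i j * φ (a j) ∈ I := by
      rw [← Ideal.Quotient.eq_zero_iff_mem, map_sub, map_pow, map_sum, sub_eq_zero]
      have h2 := congrArg (fun z : D => (z : L ⧸ I)) (hZ i)
      simp only [SubmonoidClass.coe_pow, AddSubmonoidClass.coe_finsetSum, Subalgebra.coe_mul] at h2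
      rw [show Ideal.Quotient.mk I (aeval v (y i)) = (yD i : L ⧸ I) from hyD i, h2]
      exact Finset.sum_congr rfl fun j _ => by rw [map_mul, hZt]; rfl
    have h2 : I ≤ maximalIdeal L ^ N • (Submodule.span L (Set.range fun j => φ (a j))) := by
      refine (Ideal.pow_le_pow_right (m := N + n) (by omega)).trans ?_
      rw [pow_add, smul_eq_mul]
      exact Ideal.mul_mono_right hn
    obtain ⟨w, hw, hsum⟩ := (Submodule.mem_ideal_smul_span_iff_exists_sum _ _ _).1 (h2 h1)
    refine ⟨fun j => w j, hw, ?_⟩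
    rw [Finsupp.sum_fintype _ _ (by simp)] at hsum
    simp only [smul_eq_mul] at hsum
    simp only [add_mul, Finset.sum_add_distrib, hsum]
    ring
  choose w hwN hw using hcorr
  obtain ⟨h₁, h₂, hh, hh₁ι, hh₁X, hh₂X⟩ := hmodel π₁ π₂ φ ((Ideal.Quotient.mkₐ k _).comp φD)
    (fun i => aeval v (y i)) (fun i => Ideal.Quotient.mk _ (yD i)) (fun i j => Zt i j + w i j)
    (fun i j => Ideal.Quotient.mk _ (Z i j)) hw
    (fun i => by rw [← map_pow, hZ, map_sum]; exact Finset.sum_congr rfl fun j _ => map_mul _ _ _)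
    (fun b => (hg₀π (φD b) (φ b) rfl).symm)
    (fun i => (hg₀π (yD i) _ (hyD i).symm).symm)
    (fun i j => by
      refine ((hg₀π (Z i j) (Zt i j) (hZt i j).symm).trans ?_).symm
      show _ = π₁ (Zt i j + w i j)
      rw [map_add, show π₁ (w i j) = 0 from Ideal.Quotient.eq_zero_iff_mem.2 (hNL (hwN i j)), add_zero])
  -- base change along the parameters
  let P := MvPolynomial (Fin d') k
  let tR : P →ₐ[k] R := aeval fun i => algebraMap _ R (y i)
  have htR : ∀ i, tR (X i) = algebraMap _ R (y i) := fun i => aeval_X _ i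
  letI : Algebra P R := tR.toRingHom.toAlgebra
  haveI : IsScalarTower k P R := IsScalarTower.of_algebraMap_eq fun c => (tR.commutes c).symm
  haveI : IsScalarTower k R (D ⧸ K.map (algebraMap R D)) :=
    @IsScalarTower.of_algebraMap_eq k R (D ⧸ K.map (algebraMap R D)) _ _ _ _ _ _ fun z =>
      congrArg (Ideal.Quotient.mk (K.map (algebraMap R D))) (IsScalarTower.algebraMap_apply k R D z)
  obtain ⟨φ'', hφ''⟩ := exists_baseChange_lifts (R := R) h₁ fun i => by
    rw [hh₁X]
    show _ = toL v (tR (X i))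
    rw [htR, toL_algebraMap]
  obtain ⟨ψ, hψ⟩ := exists_baseChange_lifts (R := R) h₂ fun i => by
    rw [hh₂X]
    show _ = Ideal.Quotient.mk _ (toD (tR (X i)))
    rw [htR, htoD]
  have hgψ : ∀ z, g (ψ z) = Ideal.Quotient.mk _ (φ'' z) := by
    intro z
    induction z using TensorProduct.induction_on with
    | zero => simp
    | add a b ha hb => simp only [map_add, ha, hb]
    | tmul x z =>
      have hx : x ⊗ₜ[P] z = algebraMap R (R ⊗[P] Cu) x * ((1 : R) ⊗ₜ[P] z) := by
        rw [Algebra.TensorProduct.algebraMap_apply, Algebra.TensorProduct.tmul_mul_tmul, one_mul, mul_one]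
        rfl
      rw [hx, map_mul, map_mul, map_mul, map_mul, ψ.commutes, φ''.commutes, hψ, hφ'']
      congr 1
      · exact hg₀ x
      · exact (hh z).symm
  have hR8 : ∀ i : Fin d', ∀ x : R ⧸ Ideal.span (Set.range fun j : {j : Fin d' // (j : ℕ) < (i : ℕ)} => π₀ j ^ 8),
      Ideal.Quotient.mk _ (π₀ i) ^ 2 * x = 0 → Ideal.Quotient.mk _ (π₀ i) * x = 0 :=
    fun i x hx => RegularPoint.pow_regular_mod _ hyreg c 8 hc (by norm_num) i x hx
  have hπL : ∀ i, algebraMap R L (π₀ i) = aeval v (y i) ^ c := fun i => by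
    show algebraMap R L (algebraMap _ R (y i) ^ c) = _
    rw [map_pow]
    exact congrArg (· ^ c) (toL_algebraMap v (y i))
  have hL8 : ∀ i : Fin d', ∀ x : L ⧸ Ideal.span (Set.range fun j : {j : Fin d' // (j : ℕ) < (i : ℕ)} =>
      algebraMap R L (π₀ j) ^ 8),
      Ideal.Quotient.mk _ (algebraMap R L (π₀ i)) ^ 2 * x = 0 → Ideal.Quotient.mk _ (algebraMap R L (π₀ i)) * x = 0 :=
    fun i => RegularPoint.pow_regular_mod' _ hηreg c 8 hc (by norm_num) i (fun j => algebraMap R L (π₀ j)) hπL
  have hstd' : ∀ i, Smoothing.IsStrictlyStandard R (R ⊗[P] Cu) (algebraMap R (R ⊗[P] Cu) (π₀ i)) := fun i => by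
    have h := (StandardBaseChange.isStandard_baseChange R (algebraMap P Cu ((X i : P) ^ c))).2 (hstd i)
    rwa [← Algebra.TensorProduct.includeRight_apply, AlgHom.commutes,
      IsScalarTower.algebraMap_apply P R (R ⊗[P] Cu), show algebraMap P R ((X i : P) ^ c) = π₀ i from ?_] at h
    show tR (X i ^ c) = _
    rw [map_pow, htR]
  obtain ⟨B, _, _, hBfp, α, β, hαβ, -, hnot⟩ := resolvable_of_factor φ'' (maximalIdeal L) π₀
    (fun i => by
      rw [hπL]
      exact Ideal.pow_mem_of_mem _ (hηspan.le (Ideal.subset_span ⟨i, rfl⟩)) c hc)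
    hR8 hL8 hstd' K rfl hind g ψ.toRingHom (fun r => ψ.commutes r) hgψ
  haveI := hBfp
  haveI : Algebra.IsSmoothAt R ((maximalIdeal L).comap β.toRingHom) := by
    by_contra hns
    refine hnot ((Ideal.IsPrime.radical_le_iff inferInstance).2 (Ideal.map_le_iff_le_comap.2 fun z hz => ?_))
    exact (PrimeSpectrum.mem_vanishingIdeal _ _).1 hz ⟨(maximalIdeal L).comap β.toRingHom, inferInstance⟩ hns
  -- descent to the polynomial ring
  let Q := MvPolynomial (σ ⊕ ι) k
  letI : Algebra Q L := (aeval v : Q →ₐ[k] L).toRingHom.toAlgebra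
  haveI : IsScalarTower k Q L := IsScalarTower.of_algebraMap_eq fun c => ((aeval v).commutes c).symm
  haveI : IsScalarTower Q R L := IsScalarTower.of_algebraMap_eq fun q => (toL_algebraMap v q).symm
  letI : Algebra Q B := ((algebraMap R B).comp (algebraMap Q R)).toAlgebra
  haveI : IsScalarTower Q R B := IsScalarTower.of_algebraMap_eq' rfl
  letI : Algebra k B := ((algebraMap Q B).comp (algebraMap k Q)).toAlgebra
  haveI : IsScalarTower k Q B := IsScalarTower.of_algebraMap_eq' rfl
  let αA : A →ₐ[k] B :=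
    { toRingHom := α.toRingHom.comp ((Algebra.TensorProduct.includeRight (R := P) (A := R) (B := Cu)).toRingHom.comp ιC.toRingHom)
      commutes' := fun z => by
        show α (Algebra.TensorProduct.includeRight (ιC (algebraMap k A z))) = _
        rw [ιC.commutes, IsScalarTower.algebraMap_apply k P Cu, AlgHom.commutes,
          IsScalarTower.algebraMap_apply P R (R ⊗[P] Cu), AlgHom.commutes, ← IsScalarTower.algebraMap_apply k P R,
          IsScalarTower.algebraMap_apply k Q R]
        rfl }
  let φQ : Q ⊗[k] A →ₐ[Q] L := Algebra.TensorProduct.lift (Algebra.ofId Q L) φ fun _ _ => Commute.all _ _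
  let gA : Q ⊗[k] A →ₐ[Q] B := Algebra.TensorProduct.lift (Algebra.ofId Q B) αA fun _ _ => Commute.all _ _
  have hgA : ∀ z, β (gA z) = φQ z := by
    intro z
    induction z using TensorProduct.induction_on with
    | zero => simp
    | add a b ha hb => simp only [map_add, ha, hb]
    | tmul x b =>
      simp only [gA, φQ, Algebra.TensorProduct.lift_tmul, map_mul]
      congr 1
      · show β (algebraMap R B (algebraMap Q R x)) = algebraMap Q L x
        rw [AlgHom.commutes, ← IsScalarTower.algebraMap_apply]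
      · show β (α (Algebra.TensorProduct.includeRight (ιC b))) = φ b
        rw [← AlgHom.comp_apply β α, hαβ]
        show φ'' (1 ⊗ₜ ιC b) = φ b
        rw [hφ'']
        exact hh₁ι b
  obtain ⟨r', π', hπ', -⟩ := (inferInstance : Algebra.FinitePresentation Q (Q ⊗[k] A)).out
  haveI : IsLocalization.AtPrime L (maximalIdeal L) := IsLocalization.self fun x hx => not_not.1 fun h => hx h
  haveI : IsNoetherianRing Q := inferInstance
  obtain ⟨C, _, _, hC, gC, hC', hcomp, hsmC⟩ := DelocalizeWeak.exists_delocalization_aux φQ (maximalIdeal L)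
    (Rp := R) (Λq := L) (pt (k := k) v).primeCompl (fun s hs => hs) gA β hgA π' hπ'
  letI : Algebra k C := ((algebraMap Q C).comp (algebraMap k Q)).toAlgebra
  haveI : IsScalarTower k Q C := IsScalarTower.of_algebraMap_eq' rfl
  haveI := hC
  haveI := hsmC
  haveI : Algebra.FinitePresentation k C := Algebra.FinitePresentation.trans k Q C
  refine ⟨C, inferInstance, inferInstance, inferInstance,
    (gC.restrictScalars k).comp Algebra.TensorProduct.includeRight, hC'.restrictScalars k, AlgHom.ext fun b => ?_, ?_⟩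
  · show hC' (gC (1 ⊗ₜ b)) = φ b
    rw [← AlgHom.comp_apply, hcomp]
    exact (Algebra.TensorProduct.lift_tmul _ _ _ _ _).trans (by rw [map_one, one_mul])
  let QC : Ideal C := (maximalIdeal L).comap hC'.toRingHom
  haveI : Algebra.IsSmoothAt k (QC.comap (algebraMap Q C)) := inferInstance
  exact DesingularizeOver.isSmoothAt_comp (D := Q) QC

/-- Resolution at a geometrically regular point. -/
theorem resolvable_geometricallyRegular {k A Λ : Type u} [Field k] (p : ℕ) [Fact p.Prime] [CharP k p] [CommRing A]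
    [Algebra k A] [Algebra.FinitePresentation k A] [CommRing Λ] [Algebra k Λ] [IsNoetherianRing Λ]
    (hreg : CAlg.IsGeometricallyRegular k Λ) (φ : A →ₐ[k] Λ) (𝔮 : Ideal Λ) [𝔮.IsPrime]
    (hmin : 𝔮 ∈ (Smoothing.singRad k φ).minimalPrimes) : Smoothing.Resolvable k φ 𝔮 := by
  let L := Localization.AtPrime 𝔮
  haveI : IsNoetherianRing L := IsLocalization.isNoetherianRing 𝔮.primeCompl L inferInstance
  let φL : A →ₐ[k] L := (IsScalarTower.toAlgHom k Λ L).comp φ
  have hm : maximalIdeal L ≤ Smoothing.singRad k φL := by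
    intro y hy
    refine (Ideal.radical_eq_sInf _).ge (Submodule.mem_sInf.2 fun P hP => ?_)
    obtain ⟨hle, hPp⟩ := hP
    haveI := hPp
    suffices P = maximalIdeal L by rwa [this]
    have h1 : Smoothing.singRad k φ ≤ Ideal.comap (algebraMap Λ L) P :=
      (Ideal.IsPrime.radical_le_iff inferInstance).2 (Ideal.map_le_iff_le_comap.2 fun z hz =>
        hle (Ideal.mem_map_of_mem φL hz))
    have h2 : Ideal.comap (algebraMap Λ L) P ≤ 𝔮 := fun z hz =>
      (IsLocalization.AtPrime.to_map_mem_maximal_iff L 𝔮 z).1 (le_maximalIdeal hPp.ne_top hz)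
    have h3 : Ideal.comap (algebraMap Λ L) P = 𝔮 := le_antisymm h2 (hmin.2 ⟨inferInstance, h1⟩ h2)
    rw [← IsLocalization.map_comap 𝔮.primeCompl L P, Ideal.under_def, h3, IsLocalization.AtPrime.map_eq_maximalIdeal 𝔮 L]
  obtain ⟨B, _, _, hB, g, h, hgh, hsm⟩ := exists_smooth_at_closed_point p
    (AdicSmooth.of_isGeometricallyRegular (AdicSmooth.isGeometricallyRegular_localization k Λ hreg 𝔮.primeCompl L)) φL hm
  haveI := hB
  haveI := hsm
  haveI : IsLocalization (IsUnit.submonoid k) k := IsLocalization.self fun _ h => h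
  obtain ⟨r, π, hπ, -⟩ := ‹Algebra.FinitePresentation k A›.out
  obtain ⟨C, _, _, hC, gC, hC', hcomp, hsmC⟩ := DelocalizeWeak.exists_delocalization_aux φ 𝔮 (Rp := k) (Λq := L)
    (IsUnit.submonoid k) (fun s hs hq => ‹𝔮.IsPrime›.ne_top (Ideal.eq_top_of_isUnit_mem _ hq ((hs : IsUnit s).map _)))
    g h (fun y => DFunLike.congr_fun hgh y) π hπ
  refine ResolveStep.resolvable_of_delocalization φ 𝔮 ⟨C, inferInstance, inferInstance, hC, gC, hC', hcomp, fun hle => ?_⟩
  haveI := hsmC
  obtain ⟨b, hb, hbe⟩ := SingularIdeal.exists_isElementaryStandard (R := k) (𝔮.comap hC'.toRingHom)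
  refine hb (hle (Ideal.mem_map_of_mem hC' ?_))
  rw [SingularIdeal.singularIdeal_eq.2]
  exact Ideal.le_radical (Ideal.subset_span hbe)

end Groth.Agent.CAlgH.GeomRegularPoint
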