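import Mathlib
import Groth.Agent.CAlgH.FieldSmooth

/-! Injectivity of `H¹(L_{L/K}) ⊗ M → H¹(L_{M/K})` for towers of fields. -/

universe u

open scoped TensorProduct

namespace Groth.Agent.CAlgH.H1FieldTower

theorem perfectField_bot (K : Type u) [Field K] : PerfectField (⊥ : Subfield K) := by
  rcases CharP.exists' K with h | ⟨p, hp, hp'⟩
  · haveI : CharZero (⊥ : Subfield K) :=
      (algebraMap (⊥ : Subfield K) K).charZero
    exact PerfectField.ofCharZero
  · haveI := hp
    haveI : CharP (⊥ : Subfield K) p := inferInstance
    haveI : ExpChar (⊥ : Subfield K) p := ExpChar.prime hp.out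
    have hfix : ∀ x : (⊥ : Subfield K), x ^ p = x := by
      intro x
      have h : (x : K) ∈ (frobenius K p).eqLocusField (RingHom.id K) :=
        (bot_le : (⊥ : Subfield K) ≤ _) x.2
      exact Subtype.ext (by simpa [frobenius_def] using h)
    haveI : PerfectRing (⊥ : Subfield K) p :=
      PerfectRing.ofSurjective _ p fun x => ⟨x, hfix x⟩
    exact PerfectRing.toPerfectField _ p

open Algebra MvPolynomial in
theorem δAux_toAlgHom_self {R K L M : Type u} [CommRing R] [CommRing K] [CommRing L] [CommRing M]
    [Algebra R K] [Algebra K L] [Algebra L M] [Algebra K M] [IsScalarTower K L M]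
    [Algebra R L] [IsScalarTower R K L] [Algebra R M] [IsScalarTower R K M]
    (x : (Generators.self K L).Ring) :
    Generators.H1Cotangent.δAux R (Generators.self K M)
      ((Generators.defaultHom (Generators.self K L) (Generators.self K M)).toAlgHom x) =
    LinearMap.rTensor Ω[K⁄R] ((IsScalarTower.toAlgHom K L M).toLinearMap)
      (Generators.H1Cotangent.δAux R (Generators.self K L) x) := by
  induction x using MvPolynomial.induction_on with
  | C s =>
    rw [Generators.Hom.toAlgHom_C, Generators.H1Cotangent.δAux_C, Generators.H1Cotangent.δAux_C]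
    simp
  | add p q hp hq => simp only [map_add, hp, hq]
  | mul_X p n ih =>
    have hval : (Generators.defaultHom (Generators.self K L) (Generators.self K M)).val n =
        MvPolynomial.X (algebraMap L M n) := rfl
    rw [map_mul, Generators.Hom.toAlgHom_X, hval, Generators.H1Cotangent.δAux_mul, ih,
      Generators.H1Cotangent.δAux_mul, Generators.H1Cotangent.δAux_X,
      Generators.H1Cotangent.δAux_X, smul_zero, zero_add, smul_zero, zero_add]
    rw [← @IsScalarTower.algebraMap_smul (Generators.self K M).Ring M,
      ← @IsScalarTower.algebraMap_smul (Generators.self K L).Ring L]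
    simp only [Generators.algebraMap_apply, aeval_X]
    show algebraMap L M n • _ = _
    induction (Generators.H1Cotangent.δAux R (Generators.self K L) p) using TensorProduct.induction_on with
    | zero => simp
    | tmul a b => simp [TensorProduct.smul_tmul', Generators.self, Algebra.smul_def]
    | add a b ha hb => simp only [smul_add, map_add, ha, hb]

open Algebra in
theorem δ_map_tower {R K L M : Type u} [CommRing R] [CommRing K] [CommRing L] [CommRing M]
    [Algebra R K] [Algebra K L] [Algebra L M] [Algebra K M] [IsScalarTower K L M]
    [Algebra R L] [IsScalarTower R K L] [Algebra R M] [IsScalarTower R K M]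
    (x : H1Cotangent K L) :
    H1Cotangent.δ R K M (H1Cotangent.map K K L M x) =
      LinearMap.rTensor Ω[K⁄R] ((IsScalarTower.toAlgHom K L M).toLinearMap)
        (H1Cotangent.δ R K L x) := by
  obtain ⟨x, hx⟩ := x
  obtain ⟨⟨y, hy⟩, rfl⟩ := Extension.Cotangent.mk_surjective x
  let f := Generators.defaultHom (Generators.self K L) (Generators.self K M)
  have h2 : H1Cotangent.map K K L M ⟨Extension.Cotangent.mk ⟨y, hy⟩, hx⟩ =
      Extension.H1Cotangent.map f.toExtensionHom ⟨Extension.Cotangent.mk ⟨y, hy⟩, hx⟩ := rfl
  rw [h2]
  change Generators.H1Cotangent.δ _ _ ⟨_, _⟩ = _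
  simp only [LinearMap.domRestrict_apply, Extension.Cotangent.map_mk]
  refine (Generators.H1Cotangent.δ_eq_δAux _ _ ⟨_, _⟩ _).trans ?_
  refine (δAux_toAlgHom_self (R := R) y).trans ?_
  exact congrArg _ (Generators.H1Cotangent.δ_eq_δAux _ _ ⟨y, hy⟩ hx).symm

open Algebra in
theorem injective_liftBaseChange_map {K L M : Type u} [Field K] [Field L]
    [Field M] [Algebra K L] [Algebra L M] [Algebra K M] [IsScalarTower K L M] :
    Function.Injective ((Algebra.H1Cotangent.map K K L M).liftBaseChange M) := by
  let R := (⊥ : Subfield K)
  haveI := perfectField_bot K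
  haveI : Algebra.FormallySmooth R L := formallySmooth_of_perfectField_any R L
  haveI : Subsingleton (H1Cotangent R L) := inferInstance
  have hinj : Function.Injective (H1Cotangent.δ R K L) := by
    rw [← LinearMap.ker_eq_bot, (H1Cotangent.exact_map_δ R K L).linearMap_ker_eq, LinearMap.range_eq_bot]
    exact Subsingleton.elim _ _
  let e := TensorProduct.AlgebraTensorModule.cancelBaseChange K L M M Ω[K⁄R]
  have key : ∀ z, H1Cotangent.δ R K M ((H1Cotangent.map K K L M).liftBaseChange M z) =
      e ((H1Cotangent.δ R K L).lTensor M z) := by
    intro z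
    induction z using TensorProduct.induction_on with
    | zero => simp
    | add a b ha hb => simp only [map_add, ha, hb]
    | tmul m x =>
      rw [LinearMap.liftBaseChange_tmul, map_smul, δ_map_tower, LinearMap.lTensor_tmul]
      induction (H1Cotangent.δ R K L x) using TensorProduct.induction_on with
      | zero => simp
      | add a b ha hb => simp only [map_add, smul_add, TensorProduct.tmul_add, ha, hb]
      | tmul l w => simp [e, TensorProduct.smul_tmul', Algebra.smul_def, mul_comm]
  intro a b h
  have h' := congrArg (H1Cotangent.δ R K M) h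
  rw [key, key] at h'
  exact Module.Flat.lTensor_preserves_injective_linearMap _ hinj (e.injective h')

end Groth.Agent.CAlgH.H1FieldTower
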