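import Mathlib
import Groth.Prelude.Def_CAlgX

/-! `I ∩ J ^ 2 = I J` when `J / I` is `H₁`-regular. -/

universe u

namespace Groth.Agent.CAlgH.H1RegularSquare

theorem mem_mul_of_h1Regular {R R' : Type u} [CommRing R] [CommRing R'] (π : R →+* R')
    (hπ : Function.Surjective π) {c : ℕ} (F : Fin c → R) (hF : CAlgX.IsH1Regular (π ∘ F))
    {x : R} (hx : x ∈ RingHom.ker π)
    (hx2 : x ∈ (RingHom.ker π ⊔ Ideal.span (Set.range F)) ^ 2) :
    x ∈ RingHom.ker π * (RingHom.ker π ⊔ Ideal.span (Set.range F)) := by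
  classical
  set K := RingHom.ker π with hK
  set S := Ideal.span (Set.range F) with hS
  have hle : (K ⊔ S) ^ 2 ≤ K * (K ⊔ S) ⊔ S * S := by
    rw [pow_two, Ideal.sup_mul]
    refine sup_le le_sup_left ?_
    rw [Ideal.mul_sup]
    exact sup_le (((Ideal.mul_comm S K).le.trans (Ideal.mul_mono_right le_sup_right)).trans le_sup_left)
      le_sup_right
  obtain ⟨w, hw, s, hs, rfl⟩ := Submodule.mem_sup.1 (hle hx2)
  have hsum : ∀ t ∈ S * S, ∃ y : Fin c → R, (∀ i, y i ∈ S) ∧ ∑ i, y i * F i = t := by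
    intro t ht
    induction ht using Submodule.mul_induction_on' with
    | mem_mul_mem a ha b hb =>
      obtain ⟨k, hk⟩ := Ideal.mem_span_range_iff_exists_fun.1 hb
      exact ⟨fun i => a * k i, fun i => Ideal.mul_mem_right _ _ ha, by
        rw [← hk, Finset.mul_sum]; exact Finset.sum_congr rfl fun i _ => mul_assoc _ _ _⟩
    | add a _ b _ ha hb =>
      obtain ⟨y, hy, rfl⟩ := ha
      obtain ⟨z, hz, rfl⟩ := hb
      exact ⟨y + z, fun i => add_mem (hy i) (hz i), by
        simp only [Pi.add_apply, add_mul, Finset.sum_add_distrib]⟩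
  obtain ⟨y, hy, rfl⟩ := hsum s hs
  have hwK : π w = 0 := Ideal.mul_le_left hw
  have h0 : ∑ i, π (y i) * (π ∘ F) i = 0 := by
    have := (RingHom.mem_ker).1 hx
    rw [map_add, hwK, zero_add, map_sum] at this
    simpa [map_mul] using this
  have hmem := hF (fun i => π (y i)) h0
  have hlift : ∃ v : Fin c → R, (∑ i, v i * F i = 0) ∧ (fun i => π (y i)) = fun i => π (v i) := by
    refine Submodule.span_induction (p := fun z _ => ∃ v : Fin c → R,
      (∑ i, v i * F i = 0) ∧ z = fun i => π (v i)) ?_ ?_ ?_ ?_ hmem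
    · rintro _ ⟨a, b, rfl⟩
      refine ⟨Pi.single a (F b) - Pi.single b (F a), ?_, ?_⟩
      · simp [Pi.single_apply, sub_mul, Finset.sum_sub_distrib, ite_mul]; ring
      · ext i; simp [Pi.single_apply, apply_ite π]
    · exact ⟨0, by simp, by ext; simp⟩
    · rintro z z' - - ⟨v, hv, rfl⟩ ⟨v', hv', rfl⟩
      exact ⟨v + v', by simp [add_mul, Finset.sum_add_distrib, hv, hv'], by ext; simp⟩
    · rintro r z - ⟨v, hv, rfl⟩
      obtain ⟨r, rfl⟩ := hπ r
      exact ⟨r • v, by simp [mul_assoc, ← Finset.mul_sum, hv], by ext; simp⟩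
  obtain ⟨v, hv, hyv⟩ := hlift
  have hd : ∑ i, y i * F i = ∑ i, (y i - v i) * F i := by
    simp [sub_mul, Finset.sum_sub_distrib, hv]
  refine add_mem hw ?_
  rw [hd]
  refine sum_mem fun i _ => Ideal.mul_mem_mul ?_ (Ideal.mem_sup_right (Ideal.subset_span ⟨i, rfl⟩))
  rw [hK, RingHom.mem_ker, map_sub, congrFun hyv i, sub_self]

theorem inf_sq_eq_mul {A : Type u} [CommRing A] (I J : Ideal A)
    (hIJ : I ≤ J)
    (h : ∀ (𝔮 : Ideal (A ⧸ I)) [𝔮.IsPrime], J.map (Ideal.Quotient.mk I) ≤ 𝔮 →
      ∃ g : A ⧸ I, g ∉ 𝔮 ∧ ∃ (c : ℕ) (f : Fin c → Localization.Away g),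
        CAlgX.IsH1Regular f ∧
          Ideal.span (Set.range f) =
            (J.map (Ideal.Quotient.mk I)).map (algebraMap (A ⧸ I) (Localization.Away g))) :
    I ⊓ J ^ 2 = I * J := by
  refine le_antisymm (fun x hx => ?_) (le_inf Ideal.mul_le_left
    ((Ideal.mul_mono_left hIJ).trans (pow_two J).ge))
  obtain ⟨hxI, hxJ⟩ := hx
  let T : Ideal A := Submodule.comap (LinearMap.mulRight A x) (I * J)
  have hT : ∀ r, r ∈ T ↔ r * x ∈ I * J := fun r => Iff.rfl
  suffices T = ⊤ by simpa using (hT 1).1 (this ▸ Submodule.mem_top)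
  by_contra hne
  obtain ⟨P, hP, hTP⟩ := Ideal.exists_le_maximal T hne
  haveI := hP.isPrime
  by_cases hJP : J ≤ P
  · have hIP : RingHom.ker (Ideal.Quotient.mk I) ≤ P := Ideal.mk_ker.trans_le (hIJ.trans hJP)
    haveI := Ideal.map_isPrime_of_surjective Ideal.Quotient.mk_surjective hIP
    obtain ⟨g, hg, c, f, hf, hspan⟩ := h (P.map (Ideal.Quotient.mk I)) (Ideal.map_mono hJP)
    obtain ⟨g', rfl⟩ := Ideal.Quotient.mk_surjective g
    have hg' : g' ∉ P := fun hh => hg (Ideal.mem_map_of_mem _ hh)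
    let π := Localization.awayMap (Ideal.Quotient.mk I) g'
    have hM : (Submonoid.powers g').map (Ideal.Quotient.mk I) =
        Submonoid.powers (Ideal.Quotient.mk I g') := Submonoid.map_powers (Ideal.Quotient.mk I) g'
    have hker : RingHom.ker π = I.map (algebraMap A (Localization.Away g')) := by
      have := IsLocalization.ker_map (M := Submonoid.powers g') (S := Localization.Away g')
        (Localization.Away (Ideal.Quotient.mk I g')) (g := Ideal.Quotient.mk I) hM
      rw [Ideal.mk_ker] at this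
      exact this
    have hπ : Function.Surjective π :=
      haveI : IsLocalization ((Submonoid.powers g').map (Ideal.Quotient.mk I))
          (Localization.Away (Ideal.Quotient.mk I g')) := by rw [hM]; infer_instance
      IsLocalization.map_surjective_of_surjective (M := Submonoid.powers g') (S := Localization.Away g')
        (Q := Localization.Away (Ideal.Quotient.mk I g')) Ideal.Quotient.mk_surjective
    choose F hF using fun i => hπ (f i)
    have hcomp : π ∘ F = f := funext hF
    let φ := algebraMap A (Localization.Away g')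
    have hJ' : RingHom.ker π ⊔ Ideal.span (Set.range F) = J.map φ := by
      have h1 : (Ideal.span (Set.range F)).map π = (J.map φ).map π := by
        rw [Ideal.map_span, ← Set.range_comp, hcomp, hspan, Ideal.map_map, Ideal.map_map]
        congr 1
        exact (IsLocalization.map_comp _).symm
      have h2 := congrArg (Ideal.comap π) h1
      rw [Ideal.comap_map_of_surjective π hπ, Ideal.comap_map_of_surjective π hπ,
        ← RingHom.ker_eq_comap_bot, sup_eq_left.2 (hker.trans_le (Ideal.map_mono hIJ)), sup_comm] at h2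
      exact h2
    have key := mem_mul_of_h1Regular π hπ F (hcomp ▸ hf) (x := φ x)
      (hker.ge (Ideal.mem_map_of_mem _ hxI))
      (by rw [hJ', ← Ideal.map_pow]; exact Ideal.mem_map_of_mem _ hxJ)
    rw [hJ', hker, ← Ideal.map_mul] at key
    obtain ⟨_, ⟨n, rfl⟩, hn⟩ := (IsLocalization.algebraMap_mem_map_algebraMap_iff
      (Submonoid.powers g') (Localization.Away g') (I * J) x).1 key
    exact hg' (hP.isPrime.mem_of_pow_mem n (hTP ((hT _).2 hn)))
  · obtain ⟨j, hj, hjP⟩ := SetLike.not_le_iff_exists.1 hJP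
    exact hjP (hTP ((hT j).2 (mul_comm x j ▸ Ideal.mul_mem_mul hxI hj)))

end Groth.Agent.CAlgH.H1RegularSquare
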