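import Groth.Agent.HenselLib.EtaleLift
import Groth.Agent.CAlgH.EtaleGlueAlg
import Mathlib

/-!
# Base change of `H₁` of the cotangent complex along an étale extension of a quotient
-/

set_option autoImplicit false

universe u

open TensorProduct Algebra

namespace Groth.Agent.CAlgH.H1SeparableBase

variable {Λ k' k : Type u} [CommRing Λ] [CommRing k'] [CommRing k] [Algebra Λ k'] [Algebra Λ k]
  [Algebra k' k] [IsScalarTower Λ k' k]

theorem bijective_liftBaseChange_map (hsurj : Function.Surjective (algebraMap Λ k'))
    [Algebra.Etale k' k] :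
    Function.Bijective ((Algebra.H1Cotangent.map Λ Λ k' k).liftBaseChange k) := by
  -- the comparisons with the standard extensions
  let SP := (Generators.self Λ k').toExtension
  let SQ := (Generators.self Λ k).toExtension
  haveI : Algebra.FormallySmooth Λ SP.Ring :=
    inferInstanceAs (Algebra.FormallySmooth Λ (MvPolynomial k' Λ))
  haveI : Algebra.FormallySmooth Λ SQ.Ring :=
    inferInstanceAs (Algebra.FormallySmooth Λ (MvPolynomial k Λ))
  haveI : IsScalarTower Λ SP.Ring k' := inferInstance
  haveI : IsScalarTower Λ SQ.Ring k := inferInstance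
  let m := RingHom.ker (algebraMap Λ k')
  letI : Algebra (Λ ⧸ m) k :=
    ((algebraMap k' k).comp (RingHom.kerLift (algebraMap Λ k'))).toAlgebra
  haveI : Algebra.Etale (Λ ⧸ m) k := by
    rw [← RingHom.etale_algebraMap]
    exact RingHom.Etale.stableUnderComposition _ _ (RingHom.Etale.of_bijective
      ⟨RingHom.kerLift_injective _, fun y => by
        obtain ⟨a, rfl⟩ := hsurj y
        exact ⟨Ideal.Quotient.mk _ a, RingHom.kerLift_mk _ _⟩⟩)
      (RingHom.etale_algebraMap.mpr inferInstance)
  obtain ⟨B, _, _, hB, θ, hθs, hθk, hθa⟩ := HenselLib.exists_etale_lift Λ m k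
  let θ' : B →ₐ[Λ] k :=
    { θ with commutes' := fun a => (hθa a).trans (by
        show algebraMap k' k (RingHom.kerLift _ (Ideal.Quotient.mk m a)) = _
        rw [RingHom.kerLift_mk]
        exact (IsScalarTower.algebraMap_apply Λ k' k a).symm) }
  let P : Extension.{u} Λ k' := .ofSurjective (Algebra.ofId Λ k') hsurj
  let Q : Extension.{u} Λ k := .ofSurjective θ' hθs
  let f : P.Hom Q :=
    { toRingHom := algebraMap Λ B
      toRingHom_algebraMap := fun _ => rfl
      algebraMap_toRingHom := fun a =>
        (θ'.commutes a).trans (IsScalarTower.algebraMap_apply Λ k' k a) }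
  letI : Algebra P.Ring Q.Ring := (inferInstance : Algebra Λ B)
  haveI : Algebra.FormallySmooth Λ P.Ring := (inferInstance : Algebra.FormallySmooth Λ Λ)
  haveI : Algebra.FormallySmooth Λ Q.Ring := (inferInstance : Algebra.FormallySmooth Λ B)
  have H₂ : Function.Bijective ((f.mapKer rfl).liftBaseChange Q.Ring) := by
    have hval : ∀ w : B ⊗[Λ] m, ((f.mapKer rfl).liftBaseChange Q.Ring w).1 =
        EtaleGlue.mulJ m B w := fun w => by
      induction w using TensorProduct.induction_on with
      | zero => simp only [map_zero]; rfl
      | add a b ha hb =>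
          rw [(EtaleGlue.mulJ m B).map_add, ← ha, ← hb]
          exact congrArg Subtype.val (LinearMap.map_add ((f.mapKer rfl).liftBaseChange Q.Ring) a b)
      | tmul b x => rw [EtaleGlue.mulJ_tmul]; rfl
    have hinj : Function.Injective (EtaleGlue.mulJ m B) :=
      (TensorProduct.rid Λ B).injective.comp
        (Module.Flat.lTensor_preserves_injective_linearMap _ (Submodule.injective_subtype m))
    refine ⟨fun a b h => hinj ?_, fun y => ?_⟩
    · rw [← hval, ← hval, h]
    · have hy : (y.1 : B) ∈ (m.map (algebraMap Λ B) : Set B) := hθk.le y.2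
      rw [← EtaleGlue.range_mulJ] at hy
      obtain ⟨w, hw⟩ := hy
      exact ⟨w, Subtype.ext ((hval w).trans hw)⟩
  haveI : Module.Flat k' k := inferInstance
  have H₁ : f.toRingHom.FormallyEtale :=
    RingHom.formallyEtale_algebraMap.mpr (inferInstance : Algebra.FormallyEtale Λ B)
  let E := Extension.tensorH1CotangentOfFormallyEtale f rfl H₁ H₂
  let hP : P.Hom SP :=
    { toRingHom := algebraMap Λ SP.Ring
      toRingHom_algebraMap := fun _ => rfl
      algebraMap_toRingHom := fun a =>
        (IsScalarTower.algebraMap_apply Λ SP.Ring k' a).symm }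
  let g : SQ.Hom Q :=
    { toRingHom := (MvPolynomial.aeval Q.σ).toRingHom
      toRingHom_algebraMap := (MvPolynomial.aeval Q.σ).commutes
      algebraMap_toRingHom := fun x => by
        have : θ'.comp (MvPolynomial.aeval Q.σ) = MvPolynomial.aeval (Generators.self Λ k).val :=
          MvPolynomial.algHom_ext fun i => by
            rw [AlgHom.comp_apply, MvPolynomial.aeval_X, MvPolynomial.aeval_X]
            exact Q.algebraMap_σ i
        exact AlgHom.congr_fun this x }
  let eP := Extension.H1Cotangent.equivOfFormallySmooth P SP
  let eQ := Extension.H1Cotangent.equivOfFormallySmooth SQ Q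
  have key : ∀ w : k ⊗[k'] P.H1Cotangent,
      eQ ((Algebra.H1Cotangent.map Λ Λ k' k).liftBaseChange k (eP.toLinearMap.lTensor k w)) = E w := by
    intro w
    induction w using TensorProduct.induction_on with
    | zero => simp only [map_zero]
    | add a b ha hb => simp only [map_add, ha, hb]
    | tmul c x =>
        rw [LinearMap.lTensor_tmul, LinearMap.liftBaseChange_tmul, map_smul, LinearEquiv.coe_coe,
          Extension.H1Cotangent.equivOfFormallySmooth_apply hP]
        show c • eQ _ = (Extension.H1Cotangent.map f).liftBaseChange k (c ⊗ₜ x)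
        rw [LinearMap.liftBaseChange_tmul, Extension.H1Cotangent.equivOfFormallySmooth_apply g]
        congr 1
        show Extension.H1Cotangent.map g (Extension.H1Cotangent.map _
          (Extension.H1Cotangent.map hP x)) = _
        rw [← Extension.H1Cotangent.map_comp_apply, ← Extension.H1Cotangent.map_comp_apply]
        exact LinearMap.congr_fun (Extension.H1Cotangent.map_eq _ _) x
  have hcomp : Function.Bijective (fun w : k ⊗[k'] P.H1Cotangent =>
      (Algebra.H1Cotangent.map Λ Λ k' k).liftBaseChange k (eP.toLinearMap.lTensor k w)) := by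
    have : (fun w : k ⊗[k'] P.H1Cotangent =>
        (Algebra.H1Cotangent.map Λ Λ k' k).liftBaseChange k (eP.toLinearMap.lTensor k w)) =
        eQ.symm ∘ E := by
      funext w
      rw [Function.comp_apply, ← key, LinearEquiv.symm_apply_apply]
    rw [this]
    exact eQ.symm.bijective.comp E.bijective
  exact (Function.Bijective.of_comp_iff _ (eP.lTensor k).bijective).mp hcomp

end Groth.Agent.CAlgH.H1SeparableBase
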