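import Groth.Agent.CAlgH.WEtRegular
import Groth.Agent.HenselLib.LocalHens
import Groth.Agent.S1993
import Groth.Agent.Disc12.OmegaFlat
import Mathlib

/-!
# The henselization inside the completion
-/

set_option autoImplicit false
set_option linter.style.haveILetI false
universe u

open IsLocalRing TensorProduct

namespace Groth.Agent.CAlgH.HenselToCompletion

/-- The map of a henselization to the completion is local, flat, and the completion is the completion of the henselization. -/
theorem map_to_completion (R S : Type u) [CommRing R] [IsLocalRing R] [IsNoetherianRing R]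
    [CommRing S] [IsLocalRing S] [Algebra R S] [IsLocalHom (algebraMap R S)] [Hensel.IsHenselization R S]
    (ψ : S →+* EGA4.Cpl R) (hψ : ψ.comp (algebraMap R S) = algebraMap R (EGA4.Cpl R)) :
    IsNoetherianRing S ∧ IsLocalHom ψ ∧ ψ.Flat ∧
      ∃ θ : EGA4.Cpl R ≃+* EGA4.Cpl S, θ.toRingHom.comp ψ = algebraMap S (EGA4.Cpl S) := by
  have hP := (_root_.Groth.Agent.S1993.result R S).mpr inferInstance
  obtain ⟨e⟩ := HenselLib.IsPairHull.equiv_pairH (R := R) (I := maximalIdeal R) hP
  haveI : Algebra.WeaklyEtale R S := HenselLib.weaklyEtale_of_equiv e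
  haveI : IsNoetherianRing S := by
    haveI := HenselLib.isNoetherianRing_pairH (R := R) (maximalIdeal R)
    exact isNoetherianRing_of_ringEquiv _ e.toRingEquiv
  haveI : Module.Flat R S := Algebra.WeaklyEtale.flat
  have hm : Ideal.map (algebraMap R S) (maximalIdeal R) = maximalIdeal S := by
    rw [← e.toAlgHom.comp_algebraMap, ← Ideal.map_map]
    exact (congrArg (Ideal.map _) (HenselLib.map_maximalIdeal_localH (R := R))).trans
      (IsLocalRing.map_ringEquiv_maximalIdeal e.toRingEquiv)
  have hres : ∀ y : S, ∃ a, y - algebraMap R S a ∈ maximalIdeal S := fun y => by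
    obtain ⟨a, ha⟩ := HenselLib.exists_sub_algebraMap_mem R (maximalIdeal R) (e.symm y)
    refine ⟨a, ?_⟩
    have h2 := Ideal.mem_map_of_mem e.toAlgHom.toRingHom ha
    rw [Ideal.map_map, show e.toAlgHom.toRingHom.comp (algebraMap R (HenselLib.PairH R (maximalIdeal R))) = algebraMap R S from
      e.toAlgHom.comp_algebraMap, hm] at h2
    simpa using h2
  haveI : IsNoetherianRing (EGA4.Cpl S) := _root_.Groth.Agent.Matlis6.isNoetherianRing_adicCompletion _
  haveI : IsNoetherianRing (EGA4.Cpl R) := _root_.Groth.Agent.Matlis6.isNoetherianRing_adicCompletion _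
  obtain ⟨_, _, _⟩ := _root_.Groth.Agent.CommAlg6.exists_algebra_completion R S
  have hk : Function.Surjective (IsLocalRing.ResidueField.map (algebraMap R S)) := fun z => by
    obtain ⟨y, rfl⟩ := residue_surjective z
    obtain ⟨a, ha⟩ := hres y
    exact ⟨residue R a, (Ideal.Quotient.eq.mpr ha).symm⟩
  have hb := completion_map_bijective R S hm hk (algebraMap _ _)
    (by rw [← IsScalarTower.algebraMap_eq, ← IsScalarTower.algebraMap_eq])
  let θ : EGA4.Cpl R ≃+* EGA4.Cpl S := RingEquiv.ofBijective _ hb
  haveI : HenselianLocalRing (EGA4.Cpl R) := _root_.Groth.Agent.Disc12.henselianLocalRing_completion R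
  haveI : IsLocalHom (algebraMap R (EGA4.Cpl R)) := isLocalHom_algebraMap_cpl R
  obtain ⟨g, -, huniq⟩ := Hensel.IsHenselization.universal (R := R) (S := S) (EGA4.Cpl R) (algebraMap R (EGA4.Cpl R))
    inferInstance
  have h1 : ψ = θ.symm.toRingHom.comp (algebraMap S (EGA4.Cpl S)) := by
    refine (huniq ψ hψ).trans (huniq _ ?_).symm
    refine RingHom.ext fun r => ?_
    show θ.symm (algebraMap S (EGA4.Cpl S) (algebraMap R S r)) = _
    rw [RingEquiv.symm_apply_eq, ← IsScalarTower.algebraMap_apply]
    exact IsScalarTower.algebraMap_apply R (EGA4.Cpl R) (EGA4.Cpl S) r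
  haveI : IsLocalHom (algebraMap S (EGA4.Cpl S)) := isLocalHom_algebraMap_cpl S
  refine ⟨inferInstance, ?_, ?_, θ, RingHom.ext fun x => ?_⟩
  · rw [h1]
    refine ⟨fun a ha => isUnit_of_map_unit (algebraMap S (EGA4.Cpl S)) a ?_⟩
    have h := ha.map θ
    rwa [RingHom.comp_apply, RingEquiv.toRingHom_eq_coe, RingHom.coe_coe, θ.apply_symm_apply] at h
  · rw [h1]
    exact RingHom.Flat.comp (RingHom.flat_algebraMap_iff.2 (AdicCompletion.flat_of_isNoetherian _))
      (RingHom.Flat.of_bijective θ.symm.bijective)
  · rw [h1]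
    exact θ.apply_symm_apply _

end Groth.Agent.CAlgH.HenselToCompletion
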