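import Groth.Agent.CAlgH.Lech
import Groth.Agent.CAlgH3.CompleteHom

/-!
# The ideal `(x², xy, y², xt, yt², t⁴)` on `k[[x,y,t]]/(x² − yⁿ)`

Its powers are the weight filtration for the weights `(3,2,1)`, so their colengths can be counted on
monomials `x^i y^a t^b` with `i ≤ 1`.
-/

universe u

set_option autoImplicit false

open IsLocalRing MvPowerSeries Filter Topology
open Groth.Agent.CAlgH.Lech

namespace Groth.Agent.CAlgH.HigherDoublePoint

variable (k : Type u) [Field k] (n : ℕ)

local notation "R" => MvPowerSeries (Fin 3) k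

/-- The exponent vector as a finitely supported function. -/
noncomputable def tf (p : Fin 3 → ℕ) : Fin 3 →₀ ℕ := Finsupp.equivFunOnFinite.symm p

theorem tf_apply (p : Fin 3 → ℕ) (i : Fin 3) : tf p i = p i := rfl

theorem tf_le {p q : Fin 3 → ℕ} : tf p ≤ tf q ↔ p ≤ q := Iff.rfl

/-- The weight. -/
def wt (p : Fin 3 → ℕ) : ℕ := 3 * p 0 + 2 * p 1 + p 2

/-- The equation. -/
noncomputable def eqn : R := MvPowerSeries.X 0 ^ 2 - MvPowerSeries.X 1 ^ n

/-- The monomial ideal. -/
noncomputable def J : Ideal R :=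
  Ideal.span {(MvPowerSeries.X 0 ^ 2 : R), MvPowerSeries.X 0 * MvPowerSeries.X 1,
    MvPowerSeries.X 1 ^ 2, MvPowerSeries.X 0 * MvPowerSeries.X 2,
    MvPowerSeries.X 1 * MvPowerSeries.X 2 ^ 2, MvPowerSeries.X 2 ^ 4}

theorem mono_X (p : Fin 3 → ℕ) : mono (fun i => (MvPowerSeries.X i : R)) p = monomial (tf p) 1 := by
  simp only [mono, Fin.prod_univ_three, X_pow_eq, monomial_mul_monomial, one_mul]
  refine congrArg (fun v => monomial v (1 : k)) (Finsupp.ext fun i => ?_)
  fin_cases i <;> simp [tf]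

theorem J_pow_le (m : ℕ) :
    J k ^ m ≤ Ideal.span ((fun p => monomial (tf p) (1 : k)) '' {p | 4 * m ≤ wt p}) := by
  simp only [← mono_X]
  induction m with
  | zero =>
    intro r _
    have h1 : (1 : R) ∈ Ideal.span (mono (fun i => (MvPowerSeries.X i : R)) '' {p | 4 * 0 ≤ wt p}) :=
      Ideal.subset_span ⟨0, Nat.zero_le _, by simp [mono]⟩
    simpa using Ideal.mul_mem_left _ r h1
  | succ m ih =>
    rw [pow_succ]
    refine (Ideal.mul_mono ih (le_refl (J k))).trans ?_
    rw [J, Ideal.span_mul_span']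
    refine Ideal.span_le.2 ?_
    rintro _ ⟨_, ⟨q, hq, rfl⟩, g, hg, rfl⟩
    have key' : ∀ g' : Fin 3 → ℕ, 4 ≤ wt g' → g = mono (fun i => (MvPowerSeries.X i : R)) g' →
        mono (fun i => (MvPowerSeries.X i : R)) q * g ∈
          Ideal.span (mono (fun i => (MvPowerSeries.X i : R)) '' {p | 4 * (m + 1) ≤ wt p}) := fun g' h4 he =>
      Ideal.subset_span ⟨q + g', by
        simp only [Set.mem_ofPred_eq, wt, Pi.add_apply] at hq h4 ⊢
        omega, by rw [mono_add, he]⟩
    simp only [Set.mem_insert_iff, Set.mem_singleton_iff] at hg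
    rcases hg with rfl | rfl | rfl | rfl | rfl | rfl
    · exact key' ![2, 0, 0] (by simp [wt]) (by simp [mono, Fin.prod_univ_three])
    · exact key' ![1, 1, 0] (by simp [wt]) (by simp [mono, Fin.prod_univ_three])
    · exact key' ![0, 2, 0] (by simp [wt]) (by simp [mono, Fin.prod_univ_three])
    · exact key' ![1, 0, 1] (by simp [wt]) (by simp [mono, Fin.prod_univ_three])
    · exact key' ![0, 1, 2] (by simp [wt]) (by simp [mono, Fin.prod_univ_three])
    · exact key' ![0, 0, 4] (by simp [wt]) (by simp [mono, Fin.prod_univ_three])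

local notation "A" => MvPowerSeries (Fin 3) k ⧸ Ideal.span {eqn k n}

/-- The generators of the maximal ideal. -/
noncomputable def gen (i : Fin 3) : A := Ideal.Quotient.mk _ (MvPowerSeries.X i)

theorem mono_gen (p : Fin 3 → ℕ) :
    mono (gen k n) p = Ideal.Quotient.mk _ (mono (fun i => (MvPowerSeries.X i : R)) p) := by
  simp [mono, gen, map_prod]

theorem eqn_rel : gen k n 0 ^ 2 = gen k n 1 ^ n := by
  rw [gen, gen, ← map_pow, ← map_pow]
  exact Ideal.Quotient.eq.2 (Ideal.subset_span rfl)

theorem constantCoeff_eqn (hn : 3 ≤ n) : constantCoeff (eqn k n) = 0 := by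
  simp [eqn, zero_pow (show n ≠ 0 by omega)]

theorem isLocalRing_quotient (hn : 3 ≤ n) : IsLocalRing A := by
  have : Nontrivial A := Ideal.Quotient.nontrivial_iff.2 fun h => by
    have hle : Ideal.span {eqn k n} ≤ RingHom.ker (constantCoeff : MvPowerSeries (Fin 3) k →+* k) :=
      Ideal.span_le.2 (Set.singleton_subset_iff.2 (constantCoeff_eqn k n hn))
    exact RingHom.ker_ne_top _ (eq_top_iff.2 (h.ge.trans hle))
  exact IsLocalRing.of_surjective' _ Ideal.Quotient.mk_surjective

theorem span_gen (hn : 3 ≤ n) :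
    letI := isLocalRing_quotient k n hn
    Ideal.span (Set.range (gen k n)) = maximalIdeal A := by
  letI := isLocalRing_quotient k n hn
  have h := IsLocalRing.map_maximalIdeal_of_surjective (Ideal.Quotient.mk (Ideal.span {eqn k n})) Ideal.Quotient.mk_surjective
  rw [Groth.Agent.CAlgH3.maximalIdeal_mvPowerSeries_eq, Ideal.map_span, ← Set.range_comp] at h
  exact h

theorem mono_mem_pow_small : ∀ (m : ℕ) (p : Fin 3 → ℕ), p 0 ≤ 1 → 4 * m ≤ wt p →
    mono (gen k n) p ∈ (J k).map (Ideal.Quotient.mk (Ideal.span {eqn k n})) ^ m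
  | 0, p, _, _ => by simp
  | m + 1, p, hp, hm => by
    have hstep : ∀ (g : Fin 3 → ℕ), mono (fun i => (MvPowerSeries.X i : R)) g ∈ J k → g ≤ p →
        4 * m + wt g ≤ wt p →
        mono (gen k n) p ∈ (J k).map (Ideal.Quotient.mk (Ideal.span {eqn k n})) ^ (m + 1) := by
      intro g hg hgp hw
      have h0 := hgp 0
      have h1 := hgp 1
      have h2 := hgp 2
      have hsub := mono_mem_pow_small m (p - g) (le_trans (Nat.sub_le _ _) hp) (by
        simp only [wt, Pi.sub_apply] at hw ⊢
        omega)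
      have hgm : mono (gen k n) g ∈ (J k).map (Ideal.Quotient.mk (Ideal.span {eqn k n})) := by
        rw [mono_gen]
        exact Ideal.mem_map_of_mem _ hg
      have := Ideal.mul_mem_mul hsub hgm
      rw [← mono_add, tsub_add_cancel_of_le hgp] at this
      rw [Submodule.pow_succ]
      exact this
    have hgJ : ∀ g ∈ ({(MvPowerSeries.X 0 ^ 2 : R), MvPowerSeries.X 0 * MvPowerSeries.X 1,
        MvPowerSeries.X 1 ^ 2, MvPowerSeries.X 0 * MvPowerSeries.X 2,
        MvPowerSeries.X 1 * MvPowerSeries.X 2 ^ 2, MvPowerSeries.X 2 ^ 4} : Set R), g ∈ J k :=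
      fun g hg => Ideal.subset_span hg
    simp only [wt] at hm
    by_cases hx : p 0 = 1
    · by_cases hb : 1 ≤ p 2
      · exact hstep ![1, 0, 1] (by simpa [mono, Fin.prod_univ_three] using hgJ _ (by simp))
          (by intro j; fin_cases j <;> simp [hx, hb]) (by simp [wt]; omega)
      · exact hstep ![1, 1, 0] (by simpa [mono, Fin.prod_univ_three] using hgJ _ (by simp))
          (by intro j; fin_cases j <;> simp [hx] <;> omega) (by simp [wt]; omega)
    · by_cases ha : 2 ≤ p 1
      · exact hstep ![0, 2, 0] (by simpa [mono, Fin.prod_univ_three] using hgJ _ (by simp))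
          (by intro j; fin_cases j <;> simp [ha]) (by simp [wt]; omega)
      · by_cases ha1 : p 1 = 1
        · exact hstep ![0, 1, 2] (by simpa [mono, Fin.prod_univ_three] using hgJ _ (by simp))
            (by intro j; fin_cases j <;> simp [ha1] <;> omega) (by simp [wt]; omega)
        · exact hstep ![0, 0, 4] (by simpa [mono, Fin.prod_univ_three] using hgJ _ (by simp))
            (by intro j; fin_cases j <;> simp <;> omega) (by simp [wt]; omega)

theorem mono_mem_pow_of_wt (hn : 3 ≤ n) : ∀ (i : ℕ) (p : Fin 3 → ℕ), p 0 = i → ∀ m, 4 * m ≤ wt p →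
    mono (gen k n) p ∈ (J k).map (Ideal.Quotient.mk (Ideal.span {eqn k n})) ^ m := by
  intro i
  induction i using Nat.strong_induction_on with
  | _ i ih =>
    intro p hp m hm
    by_cases h2 : 2 ≤ i
    · have he : mono (gen k n) p = mono (gen k n) ![i - 2, p 1 + n, p 2] := by
        simp only [mono, Fin.prod_univ_three, hp, Matrix.cons_val_zero, Matrix.cons_val_one, Matrix.cons_val]
        rw [pow_add, ← eqn_rel, show i = i - 2 + 2 by omega, pow_add, show i - 2 + 2 - 2 = i - 2 by omega]
        ring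
      rw [he]
      refine ih (i - 2) (by omega) _ (by simp) m ?_
      simp [wt] at hm ⊢
      omega
    · exact mono_mem_pow_small k n m p (by omega) hm

/-- The coefficient of `p` in the normal form. -/
noncomputable def nf (p : Fin 3 → ℕ) (g : R) : k :=
  ∑ j ∈ Finset.range (p 1 + 1), if n * j ≤ p 1 then coeff (tf ![p 0 + 2 * j, p 1 - n * j, p 2]) g else 0

theorem nf_eqn_mul (hn : 3 ≤ n) (p : Fin 3 → ℕ) (hp : p 0 ≤ 1) (h : R) : nf k n p (eqn k n * h) = 0 := by
  let G : ℕ → k := fun j =>
    if 1 ≤ j ∧ n * j ≤ p 1 then coeff (tf ![p 0 + 2 * j - 2, p 1 - n * j, p 2]) h else 0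
  have key' : ∀ j, (if n * j ≤ p 1 then coeff (tf ![p 0 + 2 * j, p 1 - n * j, p 2]) (eqn k n * h) else 0) =
      G j - G (j + 1) := by
    intro j
    by_cases hj : n * j ≤ p 1
    · rw [if_pos hj, eqn, sub_mul, map_sub, X_pow_eq, X_pow_eq, coeff_monomial_mul, coeff_monomial_mul, one_mul, one_mul]
      congr 1
      · simp only [G, Finsupp.single_le_iff, tf_apply, Matrix.cons_val_zero, hj, and_true]
        refine if_congr (by omega) ?_ rfl
        congr 2
        ext i
        fin_cases i <;> simp [tf]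
      · simp only [G, Finsupp.single_le_iff, tf_apply, Matrix.cons_val_one, Matrix.cons_val_zero, Nat.mul_succ,
          Nat.succ_pos', Nat.one_le_iff_ne_zero, ne_eq, Nat.succ_ne_zero, not_false_eq_true, true_and]
        refine if_congr (by omega) ?_ rfl
        congr 2
        ext i
        fin_cases i <;> simp [tf] <;> omega
    · rw [if_neg hj]
      simp only [G]
      rw [if_neg (fun h => hj h.2), if_neg (fun h => hj (by have := h.2; rw [Nat.mul_succ] at this; omega)), sub_zero]
  rw [nf, Finset.sum_congr rfl fun j _ => key' j, Finset.sum_range_sub']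
  have h1 : ¬ (1 ≤ (0 : ℕ) ∧ n * 0 ≤ p 1) := by omega
  have h2 : ¬ (1 ≤ p 1 + 1 ∧ n * (p 1 + 1) ≤ p 1) := by
    rintro ⟨-, h⟩
    have := Nat.mul_le_mul_right (p 1 + 1) hn
    omega
  simp only [G]
  rw [if_neg h1, if_neg h2, sub_zero]

theorem mem_deg_iff_notMem_lead (hn : 3 ≤ n) (m : ℕ) (p : Fin 3 → ℕ) :
    (p ∈ deg 3 (4 * m) ∧ p ∉ lead (gen k n) ((J k).map (Ideal.Quotient.mk (Ideal.span {eqn k n})) ^ m)) ↔
      p 0 ≤ 1 ∧ wt p < 4 * m := by
  constructor
  · rintro ⟨-, hl⟩
    refine ⟨?_, ?_⟩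
    · by_contra h
      refine hl (Submodule.mem_sup_right (Ideal.subset_span ⟨![p 0 - 2, p 1 + n, p 2], ?_, ?_⟩))
      · show key p < key _
        refine key_lt_of_sum_lt ?_
        simp [Fin.sum_univ_three]
        omega
      · simp only [mono, Fin.prod_univ_three, Matrix.cons_val_zero, Matrix.cons_val_one, Matrix.cons_val]
        rw [pow_add, ← eqn_rel, mul_comm (gen k n 1 ^ p 1), ← mul_assoc, ← pow_add, show p 0 - 2 + 2 = p 0 by omega]
    · by_contra h
      exact hl (Submodule.mem_sup_left (mono_mem_pow_of_wt k n hn _ p rfl m (not_lt.1 h)))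
  · rintro ⟨hp0, hw⟩
    refine ⟨mem_deg.2 (by simp [Fin.sum_univ_three, wt] at hw ⊢; omega), fun hl => ?_⟩
    let G : Ideal R := Ideal.span ((fun q => monomial (tf q) (1 : k)) '' {q | 4 * m ≤ wt q}) ⊔
      Ideal.span ((fun q => monomial (tf q) (1 : k)) '' {q | key p < key q}) ⊔ Ideal.span {eqn k n}
    have hG : monomial (tf p) (1 : k) ∈ G := by
      have h1 : ((J k).map (Ideal.Quotient.mk (Ideal.span {eqn k n})) ^ m ⊔ above (gen k n) p) ≤
          G.map (Ideal.Quotient.mk (Ideal.span {eqn k n})) := by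
        refine sup_le ?_ ?_
        · rw [← Ideal.map_pow]
          exact Ideal.map_mono ((J_pow_le k m).trans (le_sup_left.trans le_sup_left))
        · refine Ideal.span_le.2 ?_
          rintro _ ⟨q, hq, rfl⟩
          rw [mono_gen, mono_X]
          exact Ideal.mem_map_of_mem _ (Submodule.mem_sup_left (Submodule.mem_sup_right (Ideal.subset_span ⟨q, hq, rfl⟩)))
      have h2 := h1 hl
      rw [mono_gen, ← Ideal.mem_comap, Ideal.comap_map_of_surjective _ Ideal.Quotient.mk_surjective,
        ← RingHom.ker_eq_comap_bot, Ideal.mk_ker, sup_eq_left.2 (le_sup_right : Ideal.span {eqn k n} ≤ G), mono_X] at h2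
      exact h2
    have hadd : ∀ a b, nf k n p (a + b) = nf k n p a + nf k n p b := fun a b => by
      simp only [nf, ← Finset.sum_add_distrib]
      exact Finset.sum_congr rfl fun j _ => by split <;> simp
    have hq : ∀ q : Fin 3 → ℕ, (4 * m ≤ wt q ∨ key p < key q) → ∀ h : R, nf k n p (monomial (tf q) 1 * h) = 0 := by
      intro q hq h
      refine Finset.sum_eq_zero fun j _ => ?_
      split
      · next hj =>
        rw [coeff_monomial_mul, if_neg]
        intro hle
        have h0 := hle 0
        have h1 := hle 1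
        have h2 := hle 2
        simp [tf_apply] at h0 h1 h2
        have h3 : 3 * j ≤ n * j := Nat.mul_le_mul_right j hn
        rcases hq with hq | hq
        · simp only [wt] at hq hw
          omega
        · have hs := sum_le_of_key_le hq.le
          simp only [Fin.sum_univ_three] at hs
          obtain rfl : j = 0 := by omega
          refine absurd hq (not_lt.2 (le_of_eq (congrArg key ?_)))
          funext i
          fin_cases i <;> simp <;> omega
      · rfl
    have hzero : ∀ g ∈ G, ∀ h : R, nf k n p (g * h) = 0 := by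
      intro g hg
      simp only [G, ← Ideal.span_union] at hg
      induction hg using Submodule.span_induction with
      | mem y hy =>
        rcases hy with (⟨q, hq', rfl⟩ | ⟨q, hq', rfl⟩) | rfl
        · exact hq q (Or.inl hq')
        · exact hq q (Or.inr hq')
        · exact nf_eqn_mul k n hn p hp0
      | zero => intro h; simp [nf]
      | add y z _ _ hy hz => intro h; rw [add_mul, hadd, hy, hz, add_zero]
      | smul c y _ hy => intro h; rw [smul_eq_mul, mul_comm c y, mul_assoc]; exact hy _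
    have h0 := hzero _ hG 1
    rw [mul_one, nf, Finset.sum_eq_single_of_mem 0 (by simp) (fun j _ hj => ?_)] at h0
    · rw [if_pos (by simp)] at h0
      rw [show (![p 0 + 2 * 0, p 1 - n * 0, p 2] : Fin 3 → ℕ) = p from funext fun i => by fin_cases i <;> simp,
        coeff_monomial_same] at h0
      exact one_ne_zero h0
    · split
      · rw [coeff_monomial_ne]
        intro h
        have h' := DFunLike.congr_fun h 0
        simp [tf_apply] at h'
        omega
      · rfl

theorem card_count (m : ℕ) (hm : 1 ≤ m) :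
    (((deg 3 (4 * m)).filter fun p => p 0 ≤ 1 ∧ wt p < 4 * m).card : ℤ) = 8 * (m : ℤ) ^ 2 - 2 * m + 1 := by
  have hsplit : (deg 3 (4 * m)).filter (fun p => p 0 ≤ 1 ∧ wt p < 4 * m) =
      ((Finset.range (2 * m)).sigma fun a => Finset.range (4 * m - 2 * a)).image (fun z => ![0, z.1, z.2]) ∪
      ((Finset.range (2 * m - 1)).sigma fun a => Finset.range (4 * m - 3 - 2 * a)).image (fun z => ![1, z.1, z.2]) := by
    ext p
    rw [Finset.mem_filter]
    simp only [mem_deg, Fin.sum_univ_three, wt, Finset.mem_union, Finset.mem_image,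
      Finset.mem_sigma, Finset.mem_range]
    constructor
    · rintro ⟨-, h0, hw⟩
      rcases (show p 0 = 0 ∨ p 0 = 1 by omega) with h | h
      · exact Or.inl ⟨⟨p 1, p 2⟩, ⟨(by omega : p 1 < 2 * m), (by omega : p 2 < 4 * m - 2 * p 1)⟩, funext fun i => by fin_cases i <;> simp [h]⟩
      · exact Or.inr ⟨⟨p 1, p 2⟩, ⟨(by omega : p 1 < 2 * m - 1), (by omega : p 2 < 4 * m - 3 - 2 * p 1)⟩, funext fun i => by fin_cases i <;> simp [h]⟩
    · rintro (⟨z, ⟨h1, h2⟩, rfl⟩ | ⟨z, ⟨h1, h2⟩, rfl⟩) <;> simp <;> omega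
  have hinj : ∀ e : ℕ, Function.Injective (fun z : (_ : ℕ) × ℕ => (![e, z.1, z.2] : Fin 3 → ℕ)) := by
    rintro e ⟨a, b⟩ ⟨a', b'⟩ h
    have h1 := congrFun h 1
    have h2 := congrFun h 2
    simp at h1 h2
    simp [h1, h2]
  rw [hsplit, Finset.card_union_of_disjoint, Finset.card_image_of_injective _ (hinj 0),
    Finset.card_image_of_injective _ (hinj 1), Finset.card_sigma, Finset.card_sigma]
  · simp only [Finset.card_range]
    have hsum : ∀ (c r : ℕ), 2 * r ≤ c + 1 →
        ((∑ a ∈ Finset.range r, (c - 2 * a) : ℕ) : ℤ) = (r : ℤ) * c - (r : ℤ) * r + r := by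
      intro c r
      induction r with
      | zero => simp
      | succ r ih =>
        intro h
        rw [Finset.sum_range_succ, Nat.cast_add, ih (by omega), Nat.cast_sub (by omega)]
        push_cast
        ring
    rw [Nat.cast_add, hsum _ _ (by omega), hsum _ _ (by omega), Nat.cast_sub (show 1 ≤ 2 * m by omega),
      Nat.cast_sub (show 3 ≤ 4 * m by omega)]
    push_cast
    ring
  · rw [Finset.disjoint_left]
    intro p hp hp'
    obtain ⟨z, -, rfl⟩ := Finset.mem_image.1 hp
    obtain ⟨z', -, h⟩ := Finset.mem_image.1 hp'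
    simpa using congrFun h 0

theorem length_quotient_pow (hn : 3 ≤ n) (m : ℕ) (hm : 1 ≤ m) :
    Module.length A (A ⧸ (J k).map (Ideal.Quotient.mk (Ideal.span {eqn k n})) ^ m) =
      ((((deg 3 (4 * m)).filter fun p => p 0 ≤ 1 ∧ wt p < 4 * m).card : ℕ) : ℕ∞) := by
  classical
  letI := isLocalRing_quotient k n hn
  rw [length_eq_card (gen k n) (span_gen k n hn) _ (4 * m)]
  · congr 2
    ext p
    simp only [Finset.mem_filter]
    exact ⟨fun h => ⟨h.1, (mem_deg_iff_notMem_lead k n hn m p).1 h⟩,
      fun h => (mem_deg_iff_notMem_lead k n hn m p).2 h.2⟩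
  · refine (pow_le_span (gen k n) (span_gen k n hn) (4 * m)).trans (Ideal.span_le.2 ?_)
    rintro _ ⟨q, hq, rfl⟩
    refine mono_mem_pow_of_wt k n hn _ q rfl m ?_
    simp only [Set.mem_ofPred_eq, Fin.sum_univ_three] at hq
    simp only [wt]
    omega

theorem length_seven (hn : 3 ≤ n) :
    Module.length A (A ⧸ (J k).map (Ideal.Quotient.mk (Ideal.span {eqn k n}))) = 7 := by
  have h := length_quotient_pow k n hn 1 le_rfl
  rw [Submodule.pow_one] at h
  rw [h]
  have h1 := card_count 1 le_rfl
  norm_num at h1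
  rw [show (((deg 3 (4 * 1)).filter fun p => p 0 ≤ 1 ∧ wt p < 4 * 1).card : ℕ) = 7 by exact_mod_cast h1]
  rfl

theorem tendsto_sixteen (hn : 3 ≤ n) :
    Tendsto (fun m : ℕ => (2 : ℝ) *
      ((Module.length A (A ⧸ (J k).map (Ideal.Quotient.mk (Ideal.span {eqn k n})) ^ m)).toNat : ℝ) / (m : ℝ) ^ 2)
      atTop (𝓝 16) := by
  have h : Tendsto (fun m : ℕ => (16 : ℝ) - 4 / m + 2 / m * (1 / m)) atTop (𝓝 (16 - 0 + 0 * 0)) :=
    (tendsto_const_nhds.sub (tendsto_const_div_atTop_nhds_zero_nat 4)).add
      ((tendsto_const_div_atTop_nhds_zero_nat 2).mul (tendsto_const_div_atTop_nhds_zero_nat 1))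
  rw [sub_zero, mul_zero, add_zero] at h
  refine h.congr' ?_
  filter_upwards [eventually_ge_atTop 1] with m hm
  rw [length_quotient_pow k n hn m hm, ENat.toNat_natCast]
  have hc : (((deg 3 (4 * m)).filter fun p => p 0 ≤ 1 ∧ wt p < 4 * m).card : ℝ) = 8 * (m : ℝ) ^ 2 - 2 * m + 1 := by
    have := congrArg (fun z : ℤ => (z : ℝ)) (card_count m hm)
    simpa using this
  rw [hc]
  have : (m : ℝ) ≠ 0 := by exact_mod_cast (show m ≠ 0 by omega)
  field_simp
  ring

end Groth.Agent.CAlgH.HigherDoublePoint
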