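import Mathlib

/-! The scheme of idempotent polynomials in a root of a monic polynomial is étale. -/

universe u

open MvPolynomial

namespace Groth.Agent.CAlgH.IdemEtale

variable {P : Type u} [CommRing P] {m : ℕ}

/-- Coefficients of the multiplication table of powers of a root of `χ`. -/
noncomputable def coef (χ : Polynomial P) (a b l : Fin m) : P :=
  ((Polynomial.X : Polynomial P) ^ ((a : ℕ) + (b : ℕ)) %ₘ χ).coeff l

/-- The equations saying that `Σ y_k τ^k` is idempotent. -/
noncomputable def eqn (χ : Polynomial P) (l : Fin m) : MvPolynomial (Fin m) P :=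
  (∑ a, ∑ b, C (coef χ a b l) * X a * X b) - X l

/-- `τ` multiplies as a root of `χ`. -/
def IsRootLike (χ : Polynomial P) (m : ℕ) {W : Type u} [CommRing W] [Algebra P W] {S : Type u}
    [Ring S] [Algebra W S] (τ : S) : Prop :=
  ∀ a b : Fin m, τ ^ ((a : ℕ) + b) = ∑ l : Fin m, algebraMap P W (coef χ a b l) • τ ^ (l : ℕ)

variable {W : Type u} [CommRing W] [Algebra P W]

theorem isRootLike_of_pow_eq {S : Type u} [Ring S] [Algebra W S] (χ : Polynomial P) (hχ : χ.Monic)
    (hdeg : χ.natDegree = m) (τ : S)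
    (h : ∀ k : ℕ, τ ^ k = Polynomial.aeval τ ((Polynomial.X : Polynomial W) ^ k %ₘ χ.map (algebraMap P W))) :
    IsRootLike χ m (W := W) τ := by
  intro a b
  have hpos : 0 < m := lt_of_le_of_lt (Nat.zero_le _) a.2
  have hne : χ ≠ 1 := fun h1 => by rw [h1, Polynomial.natDegree_one] at hdeg; omega
  have hlt : ((Polynomial.X : Polynomial W) ^ ((a : ℕ) + b) %ₘ χ.map (algebraMap P W)).natDegree < m := by
    rw [← Polynomial.map_X (f := algebraMap P W), ← Polynomial.map_pow,
      ← Polynomial.map_modByMonic _ hχ]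
    refine lt_of_le_of_lt (Polynomial.natDegree_map_le) ?_
    exact lt_of_lt_of_eq (Polynomial.natDegree_modByMonic_lt _ hχ hne) hdeg
  rw [h, Polynomial.aeval_eq_sum_range' hlt, Finset.sum_range]
  refine Finset.sum_congr rfl fun l _ => ?_
  rw [← Polynomial.map_X (f := algebraMap P W), ← Polynomial.map_pow,
    ← Polynomial.map_modByMonic _ hχ, Polynomial.coeff_map]
  rfl

theorem isRootLike_matrix (E : Matrix (Fin m) (Fin m) P) [Nontrivial P] :
    IsRootLike E.charpoly m (W := W) (E.map (algebraMap P W)) := by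
  refine isRootLike_of_pow_eq _ E.charpoly_monic
    (by rw [Matrix.charpoly_natDegree_eq_dim, Fintype.card_fin]) _ fun k => ?_
  rw [← Matrix.charpoly_map E (algebraMap P W)]
  exact Matrix.pow_eq_aeval_mod_charpoly _ k

theorem isRootLike_adjoinRoot (χ : Polynomial P) (hχ : χ.Monic) (hdeg : χ.natDegree = m) :
    IsRootLike χ m (W := W) (AdjoinRoot.root (χ.map (algebraMap P W))) := by
  refine isRootLike_of_pow_eq _ hχ hdeg _ fun k => ?_
  rw [AdjoinRoot.aeval_eq, ← AdjoinRoot.mk_X, ← map_pow, AdjoinRoot.mk_eq_mk]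
  exact ⟨(Polynomial.X : Polynomial W) ^ k /ₘ χ.map (algebraMap P W),
    (sub_eq_iff_eq_add').2 (Polynomial.modByMonic_add_div _ (χ.map (algebraMap P W))).symm⟩

theorem coord_unique {χ : Polynomial P} (hχ : χ.Monic) (hdeg : χ.natDegree = m) {z z' : Fin m → W}
    (h : ∑ l, z l • AdjoinRoot.root (χ.map (algebraMap P W)) ^ (l : ℕ) =
      ∑ l, z' l • AdjoinRoot.root (χ.map (algebraMap P W)) ^ (l : ℕ)) : z = z' := by
  rcases subsingleton_or_nontrivial W with hW | hW
  · exact funext fun l => Subsingleton.elim _ _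
  have hd : (χ.map (algebraMap P W)).natDegree = m := by rw [hχ.natDegree_map, hdeg]
  let B := (AdjoinRoot.powerBasis' (hχ.map (algebraMap P W))).basis
  have hdim : (AdjoinRoot.powerBasis' (hχ.map (algebraMap P W))).dim = m := by
    rw [AdjoinRoot.powerBasis'_dim, hd]
  let B' := B.reindex (finCongr hdim)
  have hB : ∀ l : Fin m, B' l = AdjoinRoot.root (χ.map (algebraMap P W)) ^ (l : ℕ) := fun l => by
    simp [B', B, PowerBasis.coe_basis]
  have h' : ∑ l, z l • B' l = ∑ l, z' l • B' l := by simpa only [hB] using h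
  have := congrArg B'.equivFun h'
  rw [← B'.equivFun_symm_apply, ← B'.equivFun_symm_apply, LinearEquiv.apply_symm_apply,
    LinearEquiv.apply_symm_apply] at this
  exact this

theorem sq_sub_eq {χ : Polynomial P} {S : Type u} [Ring S] [Algebra W S] {τ : S}
    (hτ : IsRootLike χ m (W := W) τ) (y : Fin m → W) :
    (∑ a, y a • τ ^ (a : ℕ)) * (∑ a, y a • τ ^ (a : ℕ)) - ∑ a, y a • τ ^ (a : ℕ) =
      ∑ l, MvPolynomial.aeval y (eqn χ l) • τ ^ (l : ℕ) := by
  simp only [eqn, map_sub, map_sum, map_mul, aeval_C, aeval_X, sub_smul, Finset.sum_sub_distrib,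
    Finset.sum_smul]
  congr 1
  rw [Finset.sum_mul, Finset.sum_comm (γ := Fin m)]
  refine Finset.sum_congr rfl fun a _ => ?_
  rw [Finset.mul_sum, Finset.sum_comm (γ := Fin m)]
  refine Finset.sum_congr rfl fun b _ => ?_
  rw [smul_mul_smul_comm, ← pow_add, hτ a b, Finset.smul_sum]
  refine Finset.sum_congr rfl fun l _ => ?_
  rw [smul_smul]
  congr 1
  ring

theorem mul_self_eq_one {χ : Polynomial P} {S : Type u} [CommRing S] [Algebra W S] {τ : S}
    (hτ : IsRootLike χ m (W := W) τ)
    (huniq : ∀ z z' : Fin m → W, ∑ l, z l • τ ^ (l : ℕ) = ∑ l, z' l • τ ^ (l : ℕ) → z = z')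
    (y : Fin m → W) (hy : ∀ l, aeval y (eqn χ l) = 0) (M : Matrix (Fin m) (Fin m) W)
    (hMlk : ∀ l k, M l k = (∑ b, algebraMap P W (coef χ k b l) * y b) +
      (∑ a, algebraMap P W (coef χ a k l) * y a) - if k = l then 1 else 0) : M * M = 1 := by
  let u := ∑ a, y a • τ ^ (a : ℕ)
  have hu : u * u = u := by
    rw [← sub_eq_zero, sq_sub_eq hτ y]
    exact Finset.sum_eq_zero fun l _ => by rw [hy, zero_smul]
  have hM : ∀ k, ∑ l, M l k • τ ^ (l : ℕ) = (2 * u - 1) * τ ^ (k : ℕ) := by
    intro k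
    have hku : ∑ l, (∑ b, algebraMap P W (coef χ k b l) * y b) • τ ^ (l : ℕ) = u * τ ^ (k : ℕ) := by
      simp only [Finset.sum_smul, u, Finset.sum_mul]
      rw [Finset.sum_comm]
      refine Finset.sum_congr rfl fun b _ => ?_
      rw [smul_mul_assoc, ← pow_add, add_comm, hτ k b, Finset.smul_sum]
      exact Finset.sum_congr rfl fun l _ => by rw [smul_smul, mul_comm]
    have huk : ∑ l, (∑ a, algebraMap P W (coef χ a k l) * y a) • τ ^ (l : ℕ) = u * τ ^ (k : ℕ) := by
      simp only [Finset.sum_smul, u, Finset.sum_mul]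
      rw [Finset.sum_comm]
      refine Finset.sum_congr rfl fun a _ => ?_
      rw [smul_mul_assoc, ← pow_add, hτ a k, Finset.smul_sum]
      exact Finset.sum_congr rfl fun l _ => by rw [smul_smul, mul_comm]
    simp only [hMlk, sub_smul, add_smul, Finset.sum_sub_distrib, Finset.sum_add_distrib, hku, huk]
    simp [ite_smul, sub_mul, two_mul, add_mul]
  ext l k
  refine congrFun (huniq (fun l => (M * M) l k) (fun l => (1 : Matrix (Fin m) (Fin m) W) l k) ?_) l
  calc ∑ l, (M * M) l k • τ ^ (l : ℕ) = ∑ j, M j k • ∑ l, M l j • τ ^ (l : ℕ) := by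
        simp only [Matrix.mul_apply, Finset.sum_smul, Finset.smul_sum, smul_smul]
        rw [Finset.sum_comm]
        exact Finset.sum_congr rfl fun j _ => Finset.sum_congr rfl fun l _ => by rw [mul_comm]
    _ = (2 * u - 1) * ∑ j, M j k • τ ^ (j : ℕ) := by
        rw [Finset.mul_sum]
        exact Finset.sum_congr rfl fun j _ => by rw [hM, mul_smul_comm]
    _ = (2 * u - 1) * ((2 * u - 1) * τ ^ (k : ℕ)) := by rw [hM]
    _ = τ ^ (k : ℕ) := by
        have : (2 * u - 1) * (2 * u - 1) = 1 := by linear_combination 4 * hu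
        rw [← mul_assoc, this, one_mul]
    _ = ∑ l, (1 : Matrix (Fin m) (Fin m) W) l k • τ ^ (l : ℕ) := by
        simp [Matrix.one_apply, ite_smul]

/-- The algebra of idempotents `Σ y_k τ^k`. -/
abbrev IdemAlg (χ : Polynomial P) (m : ℕ) : Type u :=
  MvPolynomial (Fin m) P ⧸ Ideal.span (Set.range (eqn (m := m) χ))

/-- The universal coordinates. -/
noncomputable def coord (χ : Polynomial P) (k : Fin m) : IdemAlg χ m := Ideal.Quotient.mk _ (X k)

theorem aeval_coord (χ : Polynomial P) (p : MvPolynomial (Fin m) P) :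
    aeval (coord χ) p = Ideal.Quotient.mk (Ideal.span (Set.range (eqn (m := m) χ))) p := by
  rw [show (aeval (coord χ) : MvPolynomial (Fin m) P →ₐ[P] IdemAlg χ m) = Ideal.Quotient.mkₐ P _ from
    MvPolynomial.algHom_ext fun i => by simp [coord]]
  rfl

theorem etale (χ : Polynomial P) (hχ : χ.Monic) (hdeg : χ.natDegree = m) :
    Algebra.Etale P (IdemAlg χ m) := by
  classical
  let V := IdemAlg χ m
  let q : MvPolynomial (Fin m) P →ₐ[P] V := Ideal.Quotient.mkₐ P _
  let y : Fin m → V := coord χ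
  let M : Matrix (Fin m) (Fin m) V := Matrix.of fun l k => q (pderiv k (eqn χ l))
  have hM : ∀ l k, M l k = (∑ b, algebraMap P V (coef χ k b l) * y b) +
      (∑ a, algebraMap P V (coef χ a k l) * y a) - if k = l then 1 else 0 := by
    intro l k
    show q (pderiv k (eqn χ l)) = _
    have hC : ∀ c : P, q (C c) = algebraMap P V c := fun c => q.commutes c
    simp only [eqn, map_sub, map_sum, pderiv_mul, pderiv_C, zero_mul, zero_add, pderiv_X,
      map_add, map_mul, hC, Finset.sum_add_distrib]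
    congr 1
    · congr 1
      · rw [Finset.sum_eq_single k]
        · simp [Pi.single_apply, y, coord, q]; rfl
        · intro a _ hak; simp [Pi.single_apply, hak.symm]
        · simp
      · rw [Finset.sum_comm, Finset.sum_eq_single k]
        · simp [Pi.single_apply, y, coord, q]; rfl
        · intro a _ hak; simp [Pi.single_apply, hak.symm]
        · simp
    · simp [Pi.single_apply, eq_comm, apply_ite q]
  have hMM : M * M = 1 := mul_self_eq_one (isRootLike_adjoinRoot χ hχ hdeg)
    (fun z z' h => coord_unique hχ hdeg h) y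
    (fun l => by rw [aeval_coord]; exact Ideal.Quotient.eq_zero_iff_mem.2 (Ideal.subset_span ⟨l, rfl⟩)) M hM
  let Q : Algebra.PreSubmersivePresentation P V (Fin m) (Fin m) :=
    Algebra.PreSubmersivePresentation.naive (v := eqn χ) _root_.id Function.injective_id
  have hjac : IsUnit Q.jacobian := by
    rw [Algebra.PreSubmersivePresentation.jacobian_eq_jacobiMatrix_det]
    change IsUnit (q _)
    rw [AlgHom.map_det]
    have : q.mapMatrix Q.jacobiMatrix = M.transpose := by
      ext i j
      rw [AlgHom.mapMatrix_apply, Matrix.map_apply,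
        Algebra.PreSubmersivePresentation.jacobiMatrix_apply]
      rfl
    rw [this, Matrix.det_transpose]
    exact IsUnit.of_mul_eq_one M.det (by rw [← Matrix.det_mul, hMM, Matrix.det_one])
  rw [Algebra.Etale.iff_isStandardSmoothOfRelativeDimension_zero]
  exact Algebra.SubmersivePresentation.isStandardSmoothOfRelativeDimension ⟨Q, hjac⟩
    (by simp [Algebra.Presentation.dimension])

/-- Coordinates of the idempotent in a root of the characteristic polynomial of an idempotent matrix. -/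
theorem exists_coord_of_isIdempotentElem {A₀ : Type u} [CommRing A₀] [Algebra P A₀]
    (E : Matrix (Fin m) (Fin m) P) (e : Matrix (Fin m) (Fin m) A₀)
    (hEe : E.map (algebraMap P A₀) = e) (he : e * e = e) :
    ∃ y : Fin m → A₀, (∀ l, aeval y (eqn E.charpoly l) = 0) ∧
      ∑ a, y a • e ^ (a : ℕ) = e := by
  classical
  rcases subsingleton_or_nontrivial A₀ with hA | hA
  · exact ⟨0, fun l => Subsingleton.elim _ _, Subsingleton.elim _ _⟩
  haveI : Nontrivial P := (algebraMap P A₀).domain_nontrivial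
  have hχ := E.charpoly_monic
  have hdeg : E.charpoly.natDegree = m := by rw [Matrix.charpoly_natDegree_eq_dim, Fintype.card_fin]
  let χ₀ := E.charpoly.map (algebraMap P A₀)
  have hχ₀ : χ₀ = e.charpoly := by rw [← hEe, Matrix.charpoly_map]
  let S := AdjoinRoot χ₀
  let τ : S := AdjoinRoot.root χ₀
  -- the root is idempotent up to nilpotents
  have hnil : IsNilpotent (τ * τ - τ) := by
    rw [← mem_nilradical, nilradical_eq_sInf, Ideal.mem_sInf]
    intro Pp hPp
    haveI : Pp.IsPrime := hPp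
    let φ : S →+* S ⧸ Pp := Ideal.Quotient.mk Pp
    let ψ : A₀ →+* S ⧸ Pp := φ.comp (AdjoinRoot.of χ₀)
    rw [← Ideal.Quotient.eq_zero_iff_mem]
    show φ (τ * τ - τ) = 0
    let K := FractionRing (S ⧸ Pp)
    refine IsFractionRing.injective (S ⧸ Pp) K ?_
    rw [map_zero, map_sub, map_sub, map_mul, map_mul]
    set t : K := algebraMap (S ⧸ Pp) K (φ τ)
    let f : A₀ →+* K := (algebraMap (S ⧸ Pp) K).comp ψ
    have hroot : (χ₀.map f).eval t = 0 := by
      have := congrArg ((algebraMap (S ⧸ Pp) K).comp φ) (AdjoinRoot.eval₂_root χ₀)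
      rw [map_zero, Polynomial.hom_eval₂] at this
      rw [Polynomial.eval_map]
      exact this
    replace hroot : ((e.charpoly).map f).eval t = 0 := (congrArg (fun g => (g.map f).eval t) hχ₀).symm.trans hroot
    rw [← Matrix.charpoly_map, Matrix.eval_charpoly] at hroot
    obtain ⟨v, hv0, hv⟩ := Matrix.exists_mulVec_eq_zero_iff.2 hroot
    have hev : (e.map f).mulVec v = t • v := by
      rw [Matrix.sub_mulVec, sub_eq_zero] at hv
      rw [← hv]
      ext i
      simp [Matrix.scalar_apply, Matrix.mulVec_diagonal]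
    have h2 : (t * t) • v = t • v := by
      have hee : (e.map f) * (e.map f) = e.map f := by rw [← Matrix.map_mul, he]
      conv_rhs => rw [← hev, ← hee, ← Matrix.mulVec_mulVec, hev, Matrix.mulVec_smul, hev, smul_smul]
    by_contra hne
    refine hv0 ((smul_eq_zero.1 (?_ : (t * t - t) • v = 0)).resolve_left hne)
    rw [sub_smul, h2, sub_self]
  have hker : ∀ x ∈ RingHom.ker (Ideal.Quotient.mk (nilradical S)), IsNilpotent x := fun x hx => by
    rwa [Ideal.mk_ker, mem_nilradical] at hx
  obtain ⟨u0, hu0, hu0τ⟩ := exists_isIdempotentElem_eq_of_ker_isNilpotent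
    (Ideal.Quotient.mk (nilradical S)) hker (Ideal.Quotient.mk (nilradical S) τ) ⟨τ, rfl⟩ (by
      rw [IsIdempotentElem, ← map_mul, Ideal.Quotient.mk_eq_mk_iff_sub_mem, mem_nilradical]
      exact hnil)
  obtain ⟨y, hy⟩ : ∃ y : Fin m → A₀, u0 = ∑ a, y a • τ ^ (a : ℕ) := by
    obtain ⟨p, hp⟩ := AdjoinRoot.mk_surjective (g := χ₀) u0
    have hm : χ₀.natDegree = m := by rw [hχ.natDegree_map, hdeg]
    rcases Nat.eq_zero_or_pos m with h0 | h0
    · refine ⟨0, ?_⟩
      have h1 : χ₀ = 1 := (hχ.map _).natDegree_eq_zero.1 (hm.trans h0)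
      haveI : Subsingleton S := subsingleton_of_zero_eq_one (by
        rw [← map_one (AdjoinRoot.mk χ₀), eq_comm, AdjoinRoot.mk_eq_zero, h1])
      exact Subsingleton.elim _ _
    refine ⟨fun a => (p %ₘ χ₀).coeff a, ?_⟩
    have hne : χ₀ ≠ 1 := fun h1 => by rw [h1, Polynomial.natDegree_one] at hm; omega
    have hlt : (p %ₘ χ₀).natDegree < m := hm ▸ Polynomial.natDegree_modByMonic_lt _ (hχ.map _) hne
    have h1 : Polynomial.aeval τ (p %ₘ χ₀) = u0 := by
      rw [AdjoinRoot.aeval_eq, ← hp, AdjoinRoot.mk_eq_mk]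
      exact ⟨-(p /ₘ χ₀), by linear_combination Polynomial.modByMonic_add_div p χ₀⟩
    rw [← h1, Polynomial.aeval_eq_sum_range' hlt, Finset.sum_range]
  have hτ : IsRootLike E.charpoly m (W := A₀) τ := isRootLike_adjoinRoot _ hχ hdeg
  have hy0 : ∀ l, aeval y (eqn E.charpoly l) = 0 := by
    refine congrFun (coord_unique hχ hdeg (z' := 0) ?_)
    rw [← sq_sub_eq hτ y, ← hy, hu0.eq, sub_self]
    simp
  refine ⟨y, hy0, ?_⟩
  have hτe : IsRootLike E.charpoly m (W := A₀) e := hEe ▸ isRootLike_matrix E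
  have hidem : IsIdempotentElem (∑ a, y a • e ^ (a : ℕ)) := by
    rw [IsIdempotentElem, ← sub_eq_zero, sq_sub_eq hτe y]
    simp [hy0]
  refine eq_of_isNilpotent_sub_of_isIdempotentElem_of_commute hidem he ?_
    (Commute.sum_left _ _ _ fun a _ => ((Commute.refl e).pow_left _).smul_left _)
  obtain ⟨N, hN⟩ : IsNilpotent (u0 - τ) := by
    rw [← mem_nilradical, ← Ideal.Quotient.mk_eq_mk_iff_sub_mem]
    exact hu0τ
  refine ⟨N, ?_⟩
  let pY : Polynomial A₀ := (∑ a : Fin m, Polynomial.C (y a) * Polynomial.X ^ (a : ℕ)) - Polynomial.X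
  have hpY : AdjoinRoot.mk χ₀ pY = u0 - τ := by
    rw [hy]
    simp only [pY, map_sub, map_sum, map_mul, map_pow, AdjoinRoot.mk_C, AdjoinRoot.mk_X, τ,
      Algebra.smul_def, AdjoinRoot.algebraMap_eq]
    rfl
  obtain ⟨r, hr⟩ := AdjoinRoot.mk_eq_zero.1
    (show AdjoinRoot.mk χ₀ (pY ^ N) = 0 by rw [map_pow, hpY, hN])
  have h1 := congrArg (Polynomial.aeval e) hr
  rw [map_mul, hχ₀, Matrix.aeval_self_charpoly, zero_mul, map_pow] at h1
  simpa [pY, Algebra.smul_def] using h1

end Groth.Agent.CAlgH.IdemEtale
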