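import Mathlib

/-! Complement of a locally idempotent localization. -/

universe u
set_option autoImplicit false

namespace Groth.Agent.CAlgH.IdempotentComplement

variable {A C : Type u} [CommRing A] [CommRing C] [Algebra A C]

/-- data of the idempotent `u / f^m` cutting out `C_f` in `A_f` -/
theorem exists_data (f : A) (e : Localization.Away f) (he : IsIdempotentElem e)
    (hloc : IsLocalization.Away e (Localization (Algebra.algebraMapSubmonoid C (Submonoid.powers f)))) :
    ∃ (u : A) (m : ℕ), (∀ a, (∃ N, algebraMap A C (f ^ N * a) = 0) ↔ ∃ N, f ^ N * u * a = 0) ∧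
      (∃ N, f ^ N * u * (f ^ m - u) = 0) ∧
      ∀ c : C, ∃ (a : A) (N M : ℕ), algebraMap A C (f ^ M) * (algebraMap A C a - algebraMap A C (f ^ N) * c) = 0 := by
  haveI := hloc
  let Cf := Localization (Algebra.algebraMapSubmonoid C (Submonoid.powers f))
  obtain ⟨⟨u, ⟨_, m, rfl⟩⟩, hum⟩ := IsLocalization.surj (Submonoid.powers f) e
  have hum' : algebraMap A (Localization.Away f) u = e * algebraMap A (Localization.Away f) f ^ m := by
    rw [← map_pow]; exact hum.symm
  have hf : IsUnit (algebraMap A (Localization.Away f) f) :=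
    IsLocalization.map_units (Localization.Away f) (⟨f, Submonoid.mem_powers f⟩ : Submonoid.powers f)
  have hzero : ∀ a, algebraMap A (Localization.Away f) a = 0 ↔ ∃ N, f ^ N * a = 0 := fun a => by
    rw [IsLocalization.map_eq_zero_iff (Submonoid.powers f)]
    exact ⟨fun ⟨⟨_, N, rfl⟩, h⟩ => ⟨N, h⟩, fun ⟨N, h⟩ => ⟨⟨_, N, rfl⟩, h⟩⟩
  have hcomm : ∀ a, algebraMap (Localization.Away f) Cf (algebraMap A (Localization.Away f) a) =
      algebraMap C Cf (algebraMap A C a) := fun a => by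
    rw [← IsScalarTower.algebraMap_apply, IsScalarTower.algebraMap_apply A C Cf]
  have hzeroC : ∀ c : C, algebraMap C Cf c = 0 ↔ ∃ N, algebraMap A C (f ^ N) * c = 0 := fun c => by
    rw [IsLocalization.map_eq_zero_iff (Algebra.algebraMapSubmonoid C (Submonoid.powers f))]
    exact ⟨fun ⟨⟨_, _, ⟨N, rfl⟩, rfl⟩, h⟩ => ⟨N, h⟩, fun ⟨N, h⟩ => ⟨⟨_, f ^ N, ⟨N, rfl⟩, rfl⟩, h⟩⟩
  have he1 : algebraMap (Localization.Away f) Cf e = 1 := by
    have h1 : IsUnit (algebraMap (Localization.Away f) Cf e) := IsLocalization.Away.algebraMap_isUnit e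
    exact h1.mul_left_cancel (by rw [mul_one, ← map_mul, he.eq])
  refine ⟨u, m, fun a => ?_, ?_, fun c => ?_⟩
  · have h1 : (∃ N, algebraMap A C (f ^ N * a) = 0) ↔
        algebraMap (Localization.Away f) Cf (algebraMap A (Localization.Away f) a) = 0 := by
      rw [hcomm, hzeroC]
      simp only [map_mul]
    rw [h1, IsLocalization.map_eq_zero_iff (Submonoid.powers e)]
    constructor
    · rintro ⟨⟨_, n, rfl⟩, hn⟩
      have hn1 : e * algebraMap A (Localization.Away f) a = 0 := by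
        have := congrArg (e * ·) hn
        simp only [mul_zero, ← mul_assoc, ← pow_succ', he.pow_succ_eq n] at this
        exact this
      obtain ⟨N, hN⟩ := (hzero (u * a)).1 (by
        rw [map_mul, hum', mul_right_comm, hn1, zero_mul])
      exact ⟨N, by rw [mul_assoc]; exact hN⟩
    · rintro ⟨N, hN⟩
      refine ⟨⟨e, Submonoid.mem_powers e⟩, ?_⟩
      have := (hzero (u * a)).2 ⟨N, by rw [← mul_assoc]; exact hN⟩
      rw [map_mul, hum', mul_right_comm] at this
      exact (hf.pow m).mul_left_eq_zero.1 this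
  · obtain ⟨N, hN⟩ := (hzero (u * (f ^ m - u))).1 (by
      rw [map_mul, map_sub, map_pow, hum', ← one_mul (algebraMap A (Localization.Away f) f ^ m)]
      linear_combination (-(algebraMap A (Localization.Away f) f ^ m) ^ 2) * he.eq)
    exact ⟨N, by rw [mul_assoc]; exact hN⟩
  · obtain ⟨⟨x, ⟨_, n, rfl⟩⟩, hx⟩ := IsLocalization.surj (Submonoid.powers e) (algebraMap C Cf c)
    rw [map_pow, he1, one_pow, mul_one] at hx
    obtain ⟨⟨a, ⟨_, N, rfl⟩⟩, ha⟩ := IsLocalization.surj (Submonoid.powers f) x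
    have h0 : algebraMap C Cf (algebraMap A C a - algebraMap A C (f ^ N) * c) = 0 := by
      rw [map_sub, map_mul, hx, ← hcomm, ← hcomm, ← map_mul, ← map_sub, ← ha, mul_comm x]
      simp
    obtain ⟨M, hM⟩ := (hzeroC _).1 h0
    exact ⟨a, N, M, hM⟩

theorem exists_complement (I : Ideal A) (hI : I.FG)
    (h : ∀ f ∈ I, ∃ e : Localization.Away f, IsIdempotentElem e ∧
      IsLocalization.Away e (Localization (Algebra.algebraMapSubmonoid C (Submonoid.powers f)))) :
    ∃ K : Ideal A, ∀ f ∈ I, Function.Bijective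
      (algebraMap (Localization.Away f)
        (Localization (Algebra.algebraMapSubmonoid (C × (A ⧸ K)) (Submonoid.powers f)))) := by
  classical
  obtain ⟨n, g, hg⟩ := Submodule.fg_iff_exists_fin_generating_family.1 hI
  have hgI : ∀ i, g i ∈ I := fun i => hg ▸ Submodule.subset_span ⟨i, rfl⟩
  choose e he hloc using h
  have hdata := fun i => exists_data (g i) (e _ (hgI i)) (he _ (hgI i)) (hloc _ (hgI i))
  choose u m h1 h2 _ using hdata
  let K : Ideal A :=
    { carrier := {a | ∀ i, ∃ M, g i ^ M * a * (g i ^ m i - u i) = 0}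
      add_mem' := fun {a b} ha hb i => by
        obtain ⟨M, hM⟩ := ha i
        obtain ⟨M', hM'⟩ := hb i
        refine ⟨M + M', ?_⟩
        rw [pow_add]
        linear_combination (g i ^ M') * hM + (g i ^ M) * hM'
      zero_mem' := fun i => ⟨0, by simp⟩
      smul_mem' := fun c a ha i => by
        obtain ⟨M, hM⟩ := ha i
        exact ⟨M, by rw [smul_eq_mul]; linear_combination c * hM⟩ }
  refine ⟨K, fun f hf => ?_⟩
  obtain ⟨v, k, hf1, ⟨N₀, hN₀⟩, hf3⟩ := exists_data f (e f hf) (he f hf) (hloc f hf)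
  obtain ⟨P₀, hP₀⟩ := (hf1 (f ^ k - v)).2 ⟨N₀, hN₀⟩
  have hA : ∀ a ∈ K, ∃ N, f ^ N * a * (f ^ k - v) = 0 := by
    intro a ha
    have hi : ∀ i, ∃ M, g i ^ M * (f ^ P₀ * a * (f ^ k - v)) = 0 := fun i => by
      obtain ⟨M, hM⟩ := (h1 i (f ^ P₀ * (f ^ k - v))).1 ⟨0, by rw [pow_zero, one_mul]; exact hP₀⟩
      obtain ⟨M', hM'⟩ := ha i
      refine ⟨M' + M + m i, ?_⟩
      rw [pow_add, pow_add]
      linear_combination (g i ^ M * (f ^ P₀ * (f ^ k - v))) * hM' + (g i ^ M' * a) * hM
    choose M hM using hi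
    have hle : Ideal.span (Set.range g) ≤ (Ideal.span (Set.range fun i => g i ^ M i)).radical :=
      Ideal.span_le.2 (by rintro _ ⟨i, rfl⟩; exact ⟨M i, Ideal.subset_span ⟨i, rfl⟩⟩)
    obtain ⟨L, hL⟩ := hle (show f ∈ Ideal.span (Set.range g) by rw [← hg] at hf; exact hf)
    obtain ⟨c, hc⟩ := (Ideal.mem_span_range_iff_exists_fun).1 hL
    refine ⟨L + P₀, ?_⟩
    rw [pow_add, show f ^ L * f ^ P₀ * a * (f ^ k - v) = f ^ L * (f ^ P₀ * a * (f ^ k - v)) by ring, ← hc,
      Finset.sum_mul]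
    exact Finset.sum_eq_zero fun i _ => by rw [mul_assoc, hM, mul_zero]
  have hB : ∃ L, f ^ L * v ∈ K := by
    have hi : ∀ i, ∃ L M, f ^ L * v * (g i ^ M * (g i ^ m i - u i)) = 0 := fun i => by
      obtain ⟨N, hN⟩ := h2 i
      obtain ⟨M, hM⟩ := (h1 i (g i ^ m i - u i)).2 ⟨N, hN⟩
      obtain ⟨L, hL⟩ := (hf1 (g i ^ M * (g i ^ m i - u i))).1 ⟨0, by rw [pow_zero, one_mul]; exact hM⟩
      exact ⟨L, M, hL⟩
    choose L M hLM using hi
    refine ⟨∑ i, L i, fun i => ⟨M i, ?_⟩⟩
    rw [← Finset.add_sum_erase _ _ (Finset.mem_univ i), pow_add]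
    linear_combination (f ^ (∑ j ∈ Finset.univ.erase i, L j)) * hLM i
  obtain ⟨L, hL⟩ := hB
  let B := C × (A ⧸ K)
  let Bf := Localization (Algebra.algebraMapSubmonoid B (Submonoid.powers f))
  have hzeroB : ∀ b : B, algebraMap B Bf b = 0 ↔ ∃ N, algebraMap A B (f ^ N) * b = 0 := fun b => by
    rw [IsLocalization.map_eq_zero_iff (Algebra.algebraMapSubmonoid B (Submonoid.powers f))]
    exact ⟨fun ⟨⟨_, _, ⟨N, rfl⟩, rfl⟩, h⟩ => ⟨N, h⟩, fun ⟨N, h⟩ => ⟨⟨_, f ^ N, ⟨N, rfl⟩, rfl⟩, h⟩⟩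
  have hcomm : ∀ a, algebraMap (Localization.Away f) Bf (algebraMap A (Localization.Away f) a) =
      algebraMap B Bf (algebraMap A B a) := fun a => by
    rw [← IsScalarTower.algebraMap_apply, IsScalarTower.algebraMap_apply A B Bf]
  have hunit : ∀ j, IsUnit (algebraMap A (Localization.Away f) (f ^ j)) := fun j =>
    IsLocalization.map_units (Localization.Away f) (⟨f ^ j, j, rfl⟩ : Submonoid.powers f)
  constructor
  · refine (injective_iff_map_eq_zero _).2 fun z hz => ?_
    obtain ⟨⟨a, ⟨_, j, rfl⟩⟩, hz'⟩ := IsLocalization.surj (Submonoid.powers f) z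
    have h0 : algebraMap B Bf (algebraMap A B a) = 0 := by rw [← hcomm, ← hz', map_mul, hz, zero_mul]
    obtain ⟨N, hN⟩ := (hzeroB _).1 h0
    rw [← map_mul] at hN
    obtain ⟨N₁, hN₁⟩ := (hf1 a).1 ⟨N, congrArg Prod.fst hN⟩
    obtain ⟨N₂, hN₂⟩ := hA (f ^ N * a) (Ideal.Quotient.eq_zero_iff_mem.1 (congrArg Prod.snd hN))
    have ha : algebraMap A (Localization.Away f) a = 0 := by
      rw [IsLocalization.map_eq_zero_iff (Submonoid.powers f)]
      refine ⟨⟨f ^ (N₁ + N₂ + N + k), _, rfl⟩, ?_⟩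
      show f ^ (N₁ + N₂ + N + k) * a = 0
      rw [pow_add, pow_add, pow_add]
      linear_combination (f ^ N₁) * hN₂ + (f ^ N₂ * f ^ N) * hN₁
    exact (hunit j).mul_left_eq_zero.1 (hz'.trans ha)
  · intro y
    obtain ⟨⟨b, ⟨_, _, ⟨j, rfl⟩, rfl⟩⟩, hy⟩ :=
      IsLocalization.surj (Algebra.algebraMapSubmonoid B (Submonoid.powers f)) y
    obtain ⟨c, q⟩ := b
    obtain ⟨r, rfl⟩ := Ideal.Quotient.mk_surjective q
    obtain ⟨a, N, M, haN⟩ := hf3 c
    let a' := a * v + f ^ N * r * (f ^ k - v)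
    have key : algebraMap A B (f ^ (L + M + P₀)) *
        (algebraMap A B a' - algebraMap A B (f ^ (N + k)) * (c, Ideal.Quotient.mk K r)) = 0 := by
      refine Prod.ext ?_ ?_
      · show algebraMap A C (f ^ (L + M + P₀)) * (algebraMap A C a' - algebraMap A C (f ^ (N + k)) * c) = 0
        simp only [a', map_mul, map_add, map_sub, map_pow, pow_add] at hP₀ haN ⊢
        linear_combination ((algebraMap A C f) ^ L * (algebraMap A C f) ^ P₀ * algebraMap A C v) * haN +
          ((algebraMap A C f) ^ L * (algebraMap A C f) ^ M * (algebraMap A C f) ^ N *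
            (algebraMap A C r - c)) * hP₀
      · show Ideal.Quotient.mk K (f ^ (L + M + P₀)) *
          (Ideal.Quotient.mk K a' - Ideal.Quotient.mk K (f ^ (N + k)) * Ideal.Quotient.mk K r) = 0
        rw [← map_mul, ← map_sub, ← map_mul, Ideal.Quotient.eq_zero_iff_mem]
        have : f ^ (L + M + P₀) * (a' - f ^ (N + k) * r) = (f ^ (M + P₀) * (a - f ^ N * r)) * (f ^ L * v) := by
          simp only [a', pow_add]; ring
        rw [this]
        exact K.mul_mem_left _ hL
    have hkey : algebraMap B Bf (algebraMap A B a') =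
        algebraMap B Bf (algebraMap A B (f ^ (N + k)) * (c, Ideal.Quotient.mk K r)) := by
      rw [← sub_eq_zero, ← map_sub, hzeroB]
      exact ⟨_, key⟩
    refine ⟨algebraMap A (Localization.Away f) a' * ↑((hunit (N + k + j)).unit⁻¹), ?_⟩
    refine ((hunit (N + k + j)).map (algebraMap (Localization.Away f) Bf)).mul_right_cancel ?_
    rw [map_mul, mul_assoc, ← map_mul (algebraMap (Localization.Away f) Bf) _ (algebraMap A _ (f ^ (N + k + j))),
      IsUnit.val_inv_mul, map_one, mul_one, hcomm, hcomm, hkey, map_mul, ← hy]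
    rw [pow_add f (N + k) j, map_mul, map_mul]
    ring

end Groth.Agent.CAlgH.IdempotentComplement
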