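import Mathlib

/-!
# Idempotents cutting out a finite piece of `B/IB` lift to the integral closure of `A` in `B`
-/

set_option autoImplicit false

universe u

open TensorProduct

namespace Groth.Agent.CAlgH.IdempotentIC

variable {A B : Type u} [CommRing A] [CommRing B] [Algebra A B] (I : Ideal A)

variable {I} (e₀ : B) (he : e₀ * (1 - e₀) ∈ I.map (algebraMap A B))
  (hfin : Module.Finite A (B ⧸ (I.map (algebraMap A B) ⊔ Ideal.span {1 - e₀})))

include he hfin in
theorem quasiFiniteAt [Algebra.FiniteType A B] (p : Ideal B) [p.IsPrime]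
    (hp : I.map (algebraMap A B) ⊔ Ideal.span {1 - e₀} ≤ p) : Algebra.QuasiFiniteAt A p := by
  let P := p.comap (algebraMap A B)
  haveI : p.LiesOver P := ⟨rfl⟩
  let Pt : PrimeSpectrum B := ⟨p, inferInstance⟩
  let e := PrimeSpectrum.preimageHomeomorphFiber A B ⟨P, inferInstance⟩
  let Q := (e ⟨Pt, rfl⟩).asIdeal
  haveI : Q.IsPrime := (e ⟨Pt, rfl⟩).2
  have hQ : Q.comap Algebra.TensorProduct.includeRight.toRingHom = p :=
    congr($(e.symm_apply_apply ⟨Pt, rfl⟩).1.asIdeal)
  let F := P.Fiber B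
  let ι : B →ₐ[A] F := Algebra.TensorProduct.includeRight
  have hIP : I ≤ P := fun a ha => hp (Ideal.mem_sup_left (Ideal.mem_map_of_mem _ ha))
  have hzero : ∀ z ∈ I.map (algebraMap A B), ι z = 0 := by
    intro z hz
    have : I.map (algebraMap A B) ≤ RingHom.ker ι.toRingHom := Ideal.map_le_iff_le_comap.2 fun a ha => by
      show ι (algebraMap A B a) = 0
      rw [AlgHom.commutes, IsScalarTower.algebraMap_apply A P.ResidueField F,
        Ideal.algebraMap_residueField_eq_zero.2 (hIP ha), map_zero]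
    exact this hz
  let ε := ι e₀
  have hε : ε * (1 - ε) = 0 := by rw [← map_one ι, ← map_sub, ← map_mul]; exact hzero _ he
  have hεQ : ε ∉ Q := fun h => by
    have h1 : e₀ ∈ p := by rw [← hQ]; exact h
    have h2 : 1 - e₀ ∈ p := hp (Ideal.mem_sup_right (Ideal.mem_span_singleton_self _))
    exact (inferInstance : p.IsPrime).ne_top ((Ideal.eq_top_iff_one p).2 (by simpa using p.add_mem h1 h2))
  let L := F ⧸ Ideal.span {1 - ε}
  haveI : Module.Finite P.ResidueField L := by
    obtain ⟨s, hs⟩ := hfin.fg_top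
    classical
    choose b hb using fun x : B ⧸ (I.map (algebraMap A B) ⊔ Ideal.span {1 - e₀}) => Ideal.Quotient.mk_surjective x
    refine ⟨⟨s.image fun x => Ideal.Quotient.mk (Ideal.span {1 - ε}) (ι (b x)), ?_⟩⟩
    rw [eq_top_iff]
    rintro y -
    obtain ⟨y, rfl⟩ := Ideal.Quotient.mk_surjective y
    induction y using TensorProduct.induction_on with
    | zero => rw [map_zero]; exact zero_mem _
    | add a c ha hc => rw [map_add]; exact add_mem ha hc
    | tmul c z =>
      have hc : (c ⊗ₜ[A] z : F) = c • ι z := by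
        rw [Algebra.TensorProduct.includeRight_apply, TensorProduct.smul_tmul', smul_eq_mul, mul_one]
      rw [hc, ← Ideal.Quotient.mkₐ_eq_mk P.ResidueField, map_smul, Ideal.Quotient.mkₐ_eq_mk]
      refine Submodule.smul_mem _ _ ?_
      let μ : B →ₐ[A] L := (Ideal.Quotient.mkₐ A _).comp ι
      have hker : ∀ w ∈ I.map (algebraMap A B) ⊔ Ideal.span {1 - e₀}, μ w = 0 := fun w hw => by
        obtain ⟨u, hu, v, hv, rfl⟩ := Submodule.mem_sup.1 hw
        obtain ⟨t, rfl⟩ := Ideal.mem_span_singleton'.1 hv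
        rw [map_add, map_mul]
        have h1 : μ u = 0 := by
          show Ideal.Quotient.mk _ (ι u) = 0
          rw [hzero u hu, map_zero]
        have h2 : μ (1 - e₀) = 0 := by
          show Ideal.Quotient.mk _ (ι (1 - e₀)) = 0
          rw [map_sub, map_one]
          exact Ideal.Quotient.eq_zero_iff_mem.2 (Ideal.mem_span_singleton_self _)
        rw [h1, h2]
        exact (congrArg (0 + ·) (mul_zero (μ t))).trans (add_zero _)
      let μ' := Ideal.Quotient.liftₐ _ μ hker
      have hz : μ' (Ideal.Quotient.mk _ z) ∈ Submodule.span A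
          ((fun x => μ' x) '' (s : Set (B ⧸ (I.map (algebraMap A B) ⊔ Ideal.span {1 - e₀})))) := by
        rw [← AlgHom.coe_toLinearMap, ← Submodule.map_span, hs]
        exact ⟨_, trivial, rfl⟩
      refine (Submodule.span_le_restrictScalars A P.ResidueField _ (Submodule.span_mono ?_ hz))
      rintro _ ⟨x, hx, rfl⟩
      rw [Finset.coe_image]
      refine ⟨x, hx, ?_⟩
      show μ' (Ideal.Quotient.mk _ (b x)) = μ' x
      rw [hb x]
  let φ : L →ₐ[P.ResidueField] Localization.AtPrime Q :=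
    Ideal.Quotient.liftₐ _ (IsScalarTower.toAlgHom P.ResidueField F (Localization.AtPrime Q)) fun w hw => by
      obtain ⟨t, rfl⟩ := Ideal.mem_span_singleton'.1 hw
      have hu : IsUnit (algebraMap F (Localization.AtPrime Q) ε) :=
        IsLocalization.map_units _ (⟨ε, hεQ⟩ : Q.primeCompl)
      apply hu.mul_left_cancel
      rw [mul_zero, IsScalarTower.coe_toAlgHom', ← map_mul, mul_left_comm, hε, mul_zero, map_zero]
  haveI : Algebra.QuasiFiniteAt P.ResidueField Q := by
    letI : CommRing L := Ideal.Quotient.commRing _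
    haveI : Algebra.QuasiFinite P.ResidueField L := inferInstance
    refine Algebra.QuasiFinite.of_forall_exists_mul_mem_range (S := L) φ fun x => ?_
    obtain ⟨x, ⟨s, hs⟩, rfl⟩ := IsLocalization.exists_mk'_eq Q.primeCompl x
    refine ⟨Ideal.Quotient.mk _ s, IsLocalization.map_units _ (⟨s, hs⟩ : Q.primeCompl),
      Ideal.Quotient.mk _ x, ?_⟩
    exact (IsLocalization.mk'_spec (Localization.AtPrime Q) x ⟨s, hs⟩).symm
  exact Algebra.QuasiFiniteAt.of_quasiFiniteAt_residueField P p Q hQ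

include he hfin in
theorem exists_lift [Algebra.FiniteType A B] :
    ∃ g : integralClosure A B,
      g ^ 2 - g ∈ I.map (algebraMap A (integralClosure A B)) ∧
      (g : B) - e₀ ∈ I.map (algebraMap A B) ∧
      ∀ x : B, ∃ m, (g : B) ^ m * x ∈ integralClosure A B := by
  classical
  let B' := integralClosure A B
  let T : Ideal B := I.map (algebraMap A B) ⊔ Ideal.span {1 - e₀}
  -- the elements after inverting which `B'` and `B` agree
  let J : Ideal B' :=
    { carrier := {r | ∀ x : B, ∃ m, (r : B) ^ m * x ∈ B'}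
      zero_mem' := fun x => ⟨1, by simp⟩
      add_mem' := fun {r s} hr hs x => by
        obtain ⟨m, hm⟩ := hr x
        obtain ⟨l, hl⟩ := hs x
        refine ⟨m + l, ?_⟩
        rw [Subalgebra.coe_add, add_pow, Finset.sum_mul]
        refine sum_mem fun i _ => ?_
        rcases le_total m i with h | h
        · rw [show (r : B) ^ i * (s : B) ^ (m + l - i) * ((m + l).choose i : B) * x =
            (r : B) ^ (i - m) * (s : B) ^ (m + l - i) * ((m + l).choose i : B) * ((r : B) ^ m * x) by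
            rw [show (r : B) ^ i = (r : B) ^ (i - m) * (r : B) ^ m by rw [← pow_add, Nat.sub_add_cancel h]]
            ring]
          exact mul_mem (mul_mem (mul_mem (pow_mem r.2 _) (pow_mem s.2 _)) (natCast_mem _ _)) hm
        · rw [show (r : B) ^ i * (s : B) ^ (m + l - i) * ((m + l).choose i : B) * x =
            (r : B) ^ i * (s : B) ^ (m - i) * ((m + l).choose i : B) * ((s : B) ^ l * x) by
            rw [show (s : B) ^ (m + l - i) = (s : B) ^ (m - i) * (s : B) ^ l by rw [← pow_add]; congr 1; omega]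
            ring]
          exact mul_mem (mul_mem (mul_mem (pow_mem r.2 _) (pow_mem s.2 _)) (natCast_mem _ _)) hl
      smul_mem' := fun c r hr x => by
        obtain ⟨m, hm⟩ := hr x
        refine ⟨m, ?_⟩
        rw [smul_eq_mul, Subalgebra.coe_mul, mul_pow, mul_assoc]
        exact mul_mem (pow_mem c.2 _) hm }
  let K : Ideal B' := T.comap B'.val.toRingHom
  have hJK : J ⊔ K = ⊤ := by
    by_contra hne
    obtain ⟨M, hM, hle⟩ := Ideal.exists_le_maximal _ hne
    haveI : IsScalarTower A B' (B ⧸ T) := inferInstance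
    haveI : Module.Finite A (B ⧸ T) := hfin
    haveI : Module.Finite B' (B ⧸ T) := Module.Finite.of_restrictScalars_finite A B' (B ⧸ T)
    haveI : Algebra.IsIntegral B' (B ⧸ T) := Algebra.IsIntegral.of_finite _ _
    obtain ⟨Q, -, hQp, hQ⟩ := Ideal.exists_ideal_over_prime_of_isIntegral M (⊥ : Ideal (B ⧸ T)) (by
      intro z hz
      have hz' : Ideal.Quotient.mk T (z : B) = 0 := hz
      exact hle (Ideal.mem_sup_right (show z ∈ K from (Ideal.Quotient.eq_zero_iff_mem (I := T)).1 hz')))
    let p := Q.comap (Ideal.Quotient.mk T)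
    haveI : p.IsPrime := Ideal.IsPrime.comap _
    have hTp : T ≤ p := fun z hz => by
      show Ideal.Quotient.mk T z ∈ Q
      rw [Ideal.Quotient.eq_zero_iff_mem.2 hz]
      exact zero_mem _
    haveI := quasiFiniteAt e₀ he hfin p hTp
    obtain ⟨r, hrp, hr, hm⟩ := Algebra.zariskisMainProperty_iff.1
      (Algebra.ZariskisMainProperty.of_finiteType (R := A) p)
    refine hrp ?_
    have hrM : (⟨r, hr⟩ : B') ∈ M :=
      hle (Ideal.mem_sup_left (show (⟨r, hr⟩ : B') ∈ J from fun x => hm x))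
    rw [← hQ] at hrM
    exact hrM
  obtain ⟨r, hrJ, k, hk, hrk⟩ := Submodule.mem_sup.1 ((Ideal.eq_top_iff_one _).1 hJK)
  have hr1 : (r : B) - 1 ∈ T := by
    have h : (r : B) + (k : B) = 1 := congrArg Subtype.val hrk
    rw [← h, sub_add_cancel_left]
    exact T.neg_mem hk
  -- modulo `I`, `r` acts as one on `e₀`
  have hre : e₀ * ((r : B) - 1) ∈ I.map (algebraMap A B) := by
    obtain ⟨u, hu, v, hv, huv⟩ := Submodule.mem_sup.1 hr1
    obtain ⟨t, rfl⟩ := Ideal.mem_span_singleton'.1 hv
    rw [← huv, mul_add, mul_left_comm]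
    exact add_mem (Ideal.mul_mem_left _ _ hu) (Ideal.mul_mem_left _ _ he)
  obtain ⟨m, hm⟩ := hrJ e₀
  let c : B' := ⟨_, hm⟩
  have hpow : ∀ n : ℕ, e₀ * ((r : B) ^ n - 1) ∈ I.map (algebraMap A B) := fun n => by
    obtain ⟨w, hw⟩ := sub_one_dvd_pow_sub_one (r : B) n
    rw [hw, ← mul_assoc]
    exact Ideal.mul_mem_right _ _ hre
  have hc : (c : B) - e₀ ∈ I.map (algebraMap A B) := by
    show (r : B) ^ m * e₀ - e₀ ∈ _
    rw [show (r : B) ^ m * e₀ - e₀ = e₀ * ((r : B) ^ m - 1) by ring]
    exact hpow m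
  -- clearing denominators in `IB ∩ B'`
  have hclear : ∀ z ∈ I.map (algebraMap A B), ∃ N : ℕ, ∃ y ∈ I.map (algebraMap A B'),
      (y : B) = (r : B) ^ N * z := by
    intro z hz
    induction hz using Submodule.span_induction with
    | mem z hz =>
      obtain ⟨a, ha, rfl⟩ := hz
      exact ⟨0, algebraMap A B' a, Ideal.mem_map_of_mem _ ha, by rw [pow_zero, one_mul]; rfl⟩
    | zero => exact ⟨0, 0, zero_mem _, by simp⟩
    | add x y _ _ hx hy =>
      obtain ⟨N, x', hx', hxe⟩ := hx
      obtain ⟨N', y', hy', hye⟩ := hy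
      refine ⟨N + N', r ^ N' * x' + r ^ N * y', add_mem (Ideal.mul_mem_left _ _ hx') (Ideal.mul_mem_left _ _ hy'), ?_⟩
      simp only [Subalgebra.coe_add, Subalgebra.coe_mul, Subalgebra.coe_pow, hxe, hye]
      ring
    | smul b x _ hx =>
      obtain ⟨N, x', hx', hxe⟩ := hx
      obtain ⟨l, hl⟩ := hrJ b
      refine ⟨l + N, ⟨_, hl⟩ * x', Ideal.mul_mem_left _ _ hx', ?_⟩
      simp only [Subalgebra.coe_mul, hxe, smul_eq_mul]
      ring
  have hr' : e₀ * ((r : B) - 1) ∈ I.map (algebraMap A B) := hre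
  have h1 : (c : B) ^ 2 - c ∈ I.map (algebraMap A B) := by
    have h : (c : B) ^ 2 - c = ((c : B) - e₀) * ((c : B) + e₀ - 1) + -(e₀ * (1 - e₀)) := by ring
    rw [h]
    exact add_mem (Ideal.mul_mem_right _ _ hc) ((I.map (algebraMap A B)).neg_mem he)
  have h2 : (c : B) * ((r : B) - 1) ∈ I.map (algebraMap A B) := by
    have h : (c : B) * ((r : B) - 1) = ((c : B) - e₀) * ((r : B) - 1) + e₀ * ((r : B) - 1) := by ring
    rw [h]
    exact add_mem (Ideal.mul_mem_right _ _ hc) hre
  obtain ⟨N₁, y₁, hy₁, hy₁e⟩ := hclear _ h1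
  obtain ⟨N₂, y₂, hy₂, hy₂e⟩ := hclear _ h2
  let M := N₁ + N₂ + 1
  refine ⟨c * r ^ M, ?_, ?_, ?_⟩
  · obtain ⟨w, hw⟩ := sub_one_dvd_pow_sub_one r M
    have hw' : (r : B) ^ M - 1 = ((r : B) - 1) * (w : B) := by
      have := congrArg Subtype.val hw
      simpa using this
    have : (c * r ^ M) ^ 2 - c * r ^ M = y₁ * (r ^ (M - N₁) * r ^ M) + y₂ * (r ^ (M - N₂) * w) := by
      apply Subtype.ext
      simp only [Subalgebra.coe_sub, Subalgebra.coe_add, Subalgebra.coe_mul, Subalgebra.coe_pow, hy₁e, hy₂e]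
      have e1 : (r : B) ^ N₁ * (r : B) ^ (M - N₁) = (r : B) ^ M := by rw [← pow_add]; congr 1; omega
      have e2 : (r : B) ^ N₂ * (r : B) ^ (M - N₂) = (r : B) ^ M := by rw [← pow_add]; congr 1; omega
      linear_combination (-(((c : B) ^ 2 - c) * (r : B) ^ M)) * e1 +
        (-((c : B) * ((r : B) - 1) * (w : B))) * e2 + ((c : B) * (r : B) ^ M) * hw'
    rw [this]
    exact add_mem (Ideal.mul_mem_right _ _ hy₁) (Ideal.mul_mem_right _ _ hy₂)
  · rw [Subalgebra.coe_mul, Subalgebra.coe_pow,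
      show (c : B) * (r : B) ^ M - e₀ = ((c : B) - e₀) * (r : B) ^ M + e₀ * ((r : B) ^ M - 1) by ring]
    exact add_mem (Ideal.mul_mem_right _ _ hc) (hpow M)
  · intro x
    obtain ⟨l, hl⟩ := hrJ x
    refine ⟨l, ?_⟩
    rw [Subalgebra.coe_mul, Subalgebra.coe_pow, mul_pow, ← pow_mul,
      show M * l = (M - 1) * l + l by rw [← Nat.succ_mul]; congr 1, pow_add,
      show (c : B) ^ l * ((r : B) ^ ((M - 1) * l) * (r : B) ^ l) * x =
        (c : B) ^ l * (r : B) ^ ((M - 1) * l) * ((r : B) ^ l * x) by ring]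
    exact mul_mem (mul_mem (pow_mem c.2 _) (pow_mem r.2 _)) hl

end Groth.Agent.CAlgH.IdempotentIC
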