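import Groth.Agent.CAlgMisc2.LocalFinite
import Mathlib

/-!
# Trivial inertia and unramifiedness over complete local normal domains
-/

set_option autoImplicit false
universe u

open IsLocalRing

namespace Groth.Agent.CAlgH.InertiaUnramified

theorem isLocalRing_of_integral (R S : Type u) [CommRing R] [IsLocalRing R] [IsNoetherianRing R]
    [IsAdicComplete (maximalIdeal R) R] [CommRing S] [IsDomain S] [Algebra R S] [Algebra.IsIntegral R S] :
    IsLocalRing S := by
  refine IsLocalRing.of_isUnit_or_isUnit_one_sub_self fun x => ?_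
  haveI : Module.Finite R (Algebra.adjoin R {x}) :=
    Module.Finite.iff_fg.2 (Algebra.IsIntegral.isIntegral x).fg_adjoin_singleton
  haveI := CAlgMisc2.isLocalRing_of_finite_domain_complete (A := R) (B := Algebra.adjoin R {x})
  rcases IsLocalRing.isUnit_or_isUnit_one_sub_self (⟨x, Algebra.self_mem_adjoin_singleton R x⟩ : Algebra.adjoin R {x}) with h | h
  · exact Or.inl (h.map (Algebra.adjoin R {x}).val)
  · exact Or.inr (by simpa using h.map (Algebra.adjoin R {x}).val)

section dual

variable {S G : Type u} [CommRing S] [Group G] [Fintype G] [MulSemiringAction G S]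

/-- The Galois-ring identity of Chase, Harrison and Rosenberg. -/
theorem exists_dual (h : ∀ g : G, g ≠ 1 → ∃ s : S, IsUnit (g • s - s)) :
    ∃ c : S →₀ S, (∑ y ∈ c.support, c y * y = 1) ∧ ∀ g : G, g ≠ 1 → ∑ y ∈ c.support, c y * g • y = 0 := by
  classical
  choose! s hs using h
  let ι : S →* (G → S) :=
    { toFun := fun y g => g • y
      map_one' := funext fun g => smul_one g
      map_mul' := fun a b => funext fun g => MulSemiringAction.smul_mul g a b }
  let A0 := Algebra.adjoin S (Set.range ι)
  let φ : G → (G → S) := fun k => Ring.inverse (k • s k - s k) • (algebraMap S (G → S) (k • s k) - ι (s k))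
  have hφ : ∀ k g, φ k g = Ring.inverse (k • s k - s k) * (k • s k - g • s k) := fun k g => rfl
  let δ := ∏ k ∈ Finset.univ.erase 1, φ k
  have hδ1 : δ 1 = 1 := by
    show (∏ k ∈ Finset.univ.erase 1, φ k) 1 = 1
    rw [Finset.prod_apply]
    refine Finset.prod_eq_one fun k hk => ?_
    rw [hφ, one_smul]
    exact Ring.inverse_mul_cancel _ (hs k (Finset.mem_erase.1 hk).1)
  have hδ : ∀ g, g ≠ 1 → δ g = 0 := fun g hg => by
    show (∏ k ∈ Finset.univ.erase 1, φ k) g = 0
    rw [Finset.prod_apply]
    exact Finset.prod_eq_zero (Finset.mem_erase.2 ⟨hg, Finset.mem_univ g⟩) (by rw [hφ, sub_self, mul_zero])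
  have hmem : δ ∈ A0 := prod_mem fun k _ =>
    A0.smul_mem (sub_mem (A0.algebraMap_mem _) (Algebra.subset_adjoin ⟨_, rfl⟩)) _
  have hspan : δ ∈ Submodule.span S (Set.range ι) := by
    have h0 : δ ∈ Subalgebra.toSubmodule A0 := hmem
    rw [Algebra.adjoin_eq_span] at h0
    refine Submodule.span_mono ?_ h0
    exact (Submonoid.closure_le (S := MonoidHom.mrange ι)).2 subset_rfl
  obtain ⟨c, hc⟩ := Finsupp.mem_span_range_iff_exists_finsupp.1 hspan
  have hc' : ∀ g, ∑ y ∈ c.support, c y * g • y = δ g := fun g => by
    rw [← hc, Finsupp.sum, Finset.sum_apply]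
    rfl
  refine ⟨c, ?_, fun g hg => (hc' g).trans (hδ g hg)⟩
  simpa using (hc' 1).trans hδ1

end dual

variable (R S G : Type u) [CommRing R] [CommRing S] [IsLocalRing S] [Algebra R S]
  [Group G] [Finite G] [MulSemiringAction G S] [IsGaloisGroup G R S]

theorem unramified_of_inertia [IsLocalRing R] [IsLocalHom (algebraMap R S)] (h : (maximalIdeal S).inertia G = ⊥) :
    Module.Finite R S ∧ (maximalIdeal R).map (algebraMap R S) = maximalIdeal S ∧
      Module.Finite (ResidueField R) (ResidueField S) ∧ Algebra.IsSeparable (ResidueField R) (ResidueField S) := by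
  classical
  haveI := Fintype.ofFinite G
  have hne : ∀ g : G, g ≠ 1 → ∃ s : S, IsUnit (g • s - s) := fun g hg => by
    by_contra hh
    push Not at hh
    refine hg (Subgroup.mem_bot.1 (h ▸ ?_))
    exact AddSubgroup.mem_inertia.2 fun x => (mem_maximalIdeal _).2 (hh x)
  obtain ⟨c, hc1, hc⟩ := exists_dual hne
  have htr : ∀ z : S, ∃ r : R, algebraMap R S r = ∑ g : G, g • z := fun z =>
    Algebra.IsInvariant.isInvariant (G := G) _ fun k => by
      rw [Finset.smul_sum]
      exact Fintype.sum_equiv (Equiv.mulLeft k) _ _ fun g => by simp [mul_smul]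
  choose tr htr using htr
  have hid : ∀ z : S, ∑ y ∈ c.support, c y * algebraMap R S (tr (y * z)) = z := fun z => by
    simp only [htr, Finset.mul_sum]
    rw [Finset.sum_comm, Finset.sum_eq_single (1 : G)]
    · simp only [one_smul, ← mul_assoc, ← Finset.sum_mul, hc1, one_mul]
    · intro g _ hg
      simp only [MulSemiringAction.smul_mul, ← mul_assoc, ← Finset.sum_mul, hc g hg, zero_mul]
    · intro hh
      exact absurd (Finset.mem_univ _) hh
  have hfin : Module.Finite R S := ⟨⟨c.support.image c, by
    rw [eq_top_iff]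
    intro z _
    rw [← hid z]
    refine Submodule.sum_mem _ fun y hy => ?_
    rw [mul_comm, ← Algebra.smul_def]
    exact Submodule.smul_mem _ _ (Submodule.subset_span (Finset.mem_image_of_mem c hy))⟩⟩
  have hgn : ∀ (g : G), ∀ z ∈ maximalIdeal S, g • z ∈ maximalIdeal S := fun g z hz => by
    rw [mem_maximalIdeal] at hz ⊢
    exact fun hu => hz (by simpa using hu.map (MulSemiringAction.toRingHom G S g⁻¹))
  have htrn : ∀ z ∈ maximalIdeal S, tr z ∈ maximalIdeal R := fun z hz => by
    rw [← maximalIdeal_comap (algebraMap R S), Ideal.mem_comap, htr]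
    exact Ideal.sum_mem _ fun g _ => hgn g z hz
  have hmap : (maximalIdeal R).map (algebraMap R S) = maximalIdeal S := by
    refine le_antisymm ((Ideal.map_le_iff_le_comap).2 (maximalIdeal_comap (algebraMap R S)).ge) fun z hz => ?_
    rw [← hid z]
    exact Ideal.sum_mem _ fun y _ => Ideal.mul_mem_left _ _ (Ideal.mem_map_of_mem _ (htrn _ (Ideal.mul_mem_left _ _ hz)))
  refine ⟨hfin, hmap, inferInstance, ⟨fun zb => ?_⟩⟩
  -- separability: a fixed residue class comes from `R`
  let gbar : G → ResidueField S →+* ResidueField S := fun g =>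
    Ideal.quotientMap (maximalIdeal S) (MulSemiringAction.toRingHom G S g) fun z hz => hgn g z hz
  have hgbar : ∀ g s, gbar g (residue S s) = residue S (g • s) := fun g s => rfl
  have hfix : ∀ w : ResidueField S, (∀ g, gbar g w = w) → w ∈ (algebraMap (ResidueField R) (ResidueField S)).range := by
    intro w hw
    obtain ⟨w, rfl⟩ := residue_surjective w
    obtain ⟨y, hy⟩ : ∃ y, tr y ∉ maximalIdeal R := by
      by_contra hall
      push Not at hall
      refine Ideal.IsMaximal.ne_top (I := maximalIdeal S) inferInstance ((Ideal.eq_top_iff_one _).2 ?_)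
      rw [← hid 1, ← hmap]
      exact Ideal.sum_mem _ fun y _ => Ideal.mul_mem_left _ _ (Ideal.mem_map_of_mem _ (hall _))
    have hr0 : residue R (tr y) ≠ 0 := by simpa [residue_eq_zero_iff] using hy
    refine ⟨residue R (tr (y * w)) * (residue R (tr y))⁻¹, ?_⟩
    have h1 : residue S (algebraMap R S (tr (y * w))) = residue S (algebraMap R S (tr y)) * residue S w := by
      simp only [htr, map_sum, MulSemiringAction.smul_mul, map_mul, Finset.sum_mul]
      exact Finset.sum_congr rfl fun g _ => by rw [← hgbar g w, hw g]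
    rw [map_mul, map_inv₀, ResidueField.algebraMap_residue, ResidueField.algebraMap_residue, h1, mul_comm (residue S (algebraMap R S (tr y))), mul_assoc, mul_inv_cancel₀ ?_, mul_one]
    rw [← ResidueField.algebraMap_residue]
    simpa using hr0
  obtain ⟨z, rfl⟩ := residue_surjective zb
  let T : Finset (ResidueField S) := Finset.univ.image fun g : G => residue S (g • z)
  have hT : ∀ k, T.image (gbar k) = T := fun k => by
    refine Finset.eq_of_subset_of_card_le (fun w hw => ?_) (by rw [Finset.card_image_of_injective _ (gbar k).injective])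
    obtain ⟨v, hv, rfl⟩ := Finset.mem_image.1 hw
    obtain ⟨g, -, rfl⟩ := Finset.mem_image.1 hv
    exact Finset.mem_image.2 ⟨k * g, Finset.mem_univ _, by rw [hgbar, mul_smul]⟩
  let P : Polynomial (ResidueField S) := ∏ w ∈ T, (Polynomial.X - Polynomial.C w)
  have hP : P ∈ Polynomial.lifts (algebraMap (ResidueField R) (ResidueField S)) := by
    rw [Polynomial.lifts_iff_coeff_lifts]
    intro i
    refine hfix _ fun k => ?_
    rw [← Polynomial.coeff_map]
    congr 1
    simp only [P, Polynomial.map_prod, Polynomial.map_sub, Polynomial.map_X, Polynomial.map_C]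
    conv_rhs => rw [← hT k]
    rw [Finset.prod_image fun a _ b _ hab => (gbar k).injective hab]
  obtain ⟨Q, hQ⟩ := (Polynomial.mem_lifts P).1 hP
  have hQsep : Q.Separable := by
    rw [← Polynomial.separable_map (algebraMap (ResidueField R) (ResidueField S)), hQ]
    exact Polynomial.separable_prod_X_sub_C_iff'.2 fun a _ b _ hab => hab
  refine hQsep.of_dvd (minpoly.dvd _ _ ?_)
  rw [← Polynomial.eval_map_algebraMap, hQ, Polynomial.eval_prod]
  exact Finset.prod_eq_zero (i := residue S z) (Finset.mem_image.2 ⟨1, Finset.mem_univ _, by rw [one_smul]⟩) (by simp)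

theorem inertia_of_unramified [IsLocalRing R] [IsLocalHom (algebraMap R S)] [Module.Finite R S] [IsNoetherianRing S]
    (hmap : (maximalIdeal R).map (algebraMap R S) = maximalIdeal S)
    [Algebra.IsSeparable (ResidueField R) (ResidueField S)] : (maximalIdeal S).inertia G = ⊥ := by
  rw [eq_bot_iff]
  intro g hg
  have hg' : ∀ x, g • x - x ∈ maximalIdeal S := AddSubgroup.mem_inertia.1 hg
  haveI := IsGaloisGroup.commutes (G := G) (A := R) (B := S)
  have hgR : ∀ r : R, g • algebraMap R S r = algebraMap R S r := fun r => smul_algebraMap g r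
  let E : Ideal S := Ideal.span (Set.range fun x => g • x - x)
  let n := maximalIdeal S
  have hn : ∀ z ∈ n, g • z - z ∈ n * E := by
    intro z hz
    rw [show n = (maximalIdeal R).map (algebraMap R S) from hmap.symm] at hz
    rw [← Submodule.restrictScalars_mem R, ← Ideal.smul_top_eq_map] at hz
    refine Submodule.smul_induction_on (p := fun w => g • w - w ∈ n * E) hz (fun r hr y _ => ?_) (fun a b ha hb => ?_)
    · rw [Algebra.smul_def, MulSemiringAction.smul_mul, hgR, ← mul_sub]
      exact Ideal.mul_mem_mul (hmap.le (Ideal.mem_map_of_mem _ hr)) (Ideal.subset_span ⟨y, rfl⟩)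
    · rw [smul_add, show g • a + g • b - (a + b) = (g • a - a) + (g • b - b) by ring]
      exact add_mem ha hb
  obtain ⟨ab, hab⟩ := Field.exists_primitive_element (ResidueField R) (ResidueField S)
  obtain ⟨α, rfl⟩ := residue_surjective ab
  obtain ⟨P, hP⟩ := Polynomial.map_surjective (residue R) residue_surjective (minpoly (ResidueField R) (residue S α))
  have hres : ∀ (Q : Polynomial R) (s : S), residue S (Polynomial.aeval s Q) = Polynomial.aeval (residue S s) (Q.map (residue R)) := by
    intro Q s
    rw [Polynomial.aeval_def, Polynomial.hom_eval₂, Polynomial.aeval_def, Polynomial.eval₂_map]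
    congr 1
  have hα : g • α - α ∈ n * E := by
    have h0 : Polynomial.aeval α P ∈ n := by
      rw [← residue_eq_zero_iff, hres, hP, minpoly.aeval]
    have hd : IsUnit (Polynomial.aeval α P.derivative) := by
      rw [← residue_ne_zero_iff_isUnit, hres, ← Polynomial.derivative_map, hP]
      exact (Algebra.IsSeparable.isSeparable (ResidueField R) (residue S α)).aeval_derivative_ne_zero (minpoly.aeval _ _)
    have hgP : g • Polynomial.aeval α P = Polynomial.aeval (g • α) P :=
      (Polynomial.aeval_algHom_apply (MulSemiringAction.toAlgHom R S g) α P).symm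
    obtain ⟨r, hr⟩ := (P.map (algebraMap R S)).binomExpansion α (g • α - α)
    rw [add_sub_cancel, Polynomial.derivative_map, Polynomial.eval_map_algebraMap, Polynomial.eval_map_algebraMap, Polynomial.eval_map_algebraMap, ← hgP] at hr
    have hu : IsUnit (Polynomial.aeval α P.derivative + r * (g • α - α)) := by
      rw [← residue_ne_zero_iff_isUnit, map_add, map_mul, (residue_eq_zero_iff _).2 (hg' α), mul_zero, add_zero]
      exact (residue_ne_zero_iff_isUnit _).2 hd
    obtain ⟨v, hv⟩ := hu
    have heq : (v : S) * (g • α - α) = g • Polynomial.aeval α P - Polynomial.aeval α P := by rw [hv, hr]; ring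
    rw [← Units.inv_mul_cancel_left v (g • α - α), heq]
    exact Ideal.mul_mem_left _ _ (hn _ h0)
  have hE : E ≤ n * E := by
    rw [Ideal.span_le]
    rintro _ ⟨x, rfl⟩
    have hx : residue S x ∈ Algebra.adjoin (ResidueField R) {residue S α} := by
      have := congrArg IntermediateField.toSubalgebra hab
      rw [IntermediateField.adjoin_simple_toSubalgebra_of_isAlgebraic (Algebra.IsAlgebraic.isAlgebraic _),
        IntermediateField.top_toSubalgebra] at this
      exact this ▸ Algebra.mem_top
    rw [Algebra.adjoin_singleton_eq_range_aeval] at hx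
    obtain ⟨q, hq⟩ := hx
    obtain ⟨Q, hQ⟩ := Polynomial.map_surjective (residue R) residue_surjective q
    have hsub : x - Polynomial.aeval α Q ∈ n := by
      rw [← residue_eq_zero_iff, map_sub, sub_eq_zero, hres, hQ]
      exact hq.symm
    have hgQ : g • Polynomial.aeval α Q - Polynomial.aeval α Q ∈ n * E := by
      rw [show g • Polynomial.aeval α Q = Polynomial.aeval (g • α) Q from
        (Polynomial.aeval_algHom_apply (MulSemiringAction.toAlgHom R S g) α Q).symm]
      obtain ⟨w, hw⟩ := Polynomial.sub_dvd_eval_sub (g • α) α (Q.map (algebraMap R S))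
      rw [Polynomial.eval_map_algebraMap, Polynomial.eval_map_algebraMap] at hw
      rw [hw]
      exact Ideal.mul_mem_right _ _ hα
    show g • x - x ∈ n * E
    rw [show g • x - x = (g • (x - Polynomial.aeval α Q) - (x - Polynomial.aeval α Q)) +
      (g • Polynomial.aeval α Q - Polynomial.aeval α Q) by rw [smul_sub]; ring]
    exact add_mem (hn _ hsub) hgQ
  have hE0 : E = ⊥ := Submodule.eq_bot_of_le_smul_of_le_jacobson_bot n E (IsNoetherian.noetherian E) hE
    (maximalIdeal_le_jacobson _)
  rw [Subgroup.mem_bot]
  haveI := IsGaloisGroup.faithful (G := G) (A := R) (B := S)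
  refine FaithfulSMul.eq_of_smul_eq_smul (α := S) fun x => ?_
  rw [one_smul]
  exact sub_eq_zero.1 (Ideal.mem_bot.1 (hE0 ▸ Ideal.subset_span ⟨x, rfl⟩))

end Groth.Agent.CAlgH.InertiaUnramified
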