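import Groth.Agent.CAlgH.NLPerfect
import Groth.Agent.DCat.TwoTerm
import Mathlib

/-!
# The Jacobian determinant annihilates the naive cotangent complex
-/

set_option autoImplicit false
set_option backward.isDefEq.respectTransparency false
set_option backward.defeqAttrib.useBackward true

universe u

open CategoryTheory CategoryTheory.Limits HomologicalComplex
attribute [local instance] HasDerivedCategory.standard

namespace Groth.Agent.CAlgH.JacobianNL

open Groth.Agent.FlatMor12.NLBaseChange (e₁ e₀ cx_isZero hom_ext cx_d)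

variable {A B : Type u} [CommRing A] [CommRing B] [Algebra A B] (E : Algebra.Extension.{u} A B)

/-- The homotopy attached to a map back from differentials. -/
noncomputable def homs (h : E.CotangentSpace →ₗ[B] E.Cotangent) :
    ∀ i j, (ComplexShape.up ℤ).Rel j i → ((NLCx.cx E).X i ⟶ (NLCx.cx E).X j) := fun i j _ =>
  if a : i = 0 ∧ j = -1 then
    ((NLCx.cx E).XIsoOfEq a.1).hom ≫ (e₀ E).hom ≫ ModuleCat.ofHom h ≫ (e₁ E).inv ≫
      ((NLCx.cx E).XIsoOfEq a.2.symm).hom
  else 0

theorem null_f_neg_one (h : E.CotangentSpace →ₗ[B] E.Cotangent) :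
    (Homotopy.nullHomotopicMap' (homs E h)).f (-1) =
      (e₁ E).hom ≫ ModuleCat.ofHom (h ∘ₗ E.cotangentComplex) ≫ (e₁ E).inv := by
  rw [Homotopy.nullHomotopicMap'_f (show (ComplexShape.up ℤ).Rel (-2) (-1) by simp)
    (show (ComplexShape.up ℤ).Rel (-1) 0 by simp)]
  simp [homs, cx_d, ModuleCat.ofHom_comp]

theorem null_f_zero (h : E.CotangentSpace →ₗ[B] E.Cotangent) :
    (Homotopy.nullHomotopicMap' (homs E h)).f 0 =
      (e₀ E).hom ≫ ModuleCat.ofHom (E.cotangentComplex ∘ₗ h) ≫ (e₀ E).inv := by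
  rw [Homotopy.nullHomotopicMap'_f (show (ComplexShape.up ℤ).Rel (-1) 0 by simp)
    (show (ComplexShape.up ℤ).Rel 0 1 by simp)]
  simp [homs, cx_d, ModuleCat.ofHom_comp]

theorem Q_map_eq_zero {K L : DRing.Cx B} {f : K ⟶ L} (H : Homotopy f 0) : DerivedCategory.Q.map f = 0 := by
  have h1 := congrArg (fun φ => DerivedCategory.Qh.map φ) (HomotopyCategory.eq_of_homotopy _ _ H)
  simp only [Functor.map_zero] at h1
  have h2 := (DerivedCategory.quotientCompQhIso (ModuleCat.{u} B)).hom.naturality f
  simp only [Functor.comp_map, h1, zero_comp] at h2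
  exact (cancel_epi ((DerivedCategory.quotientCompQhIso (ModuleCat.{u} B)).hom.app K)).1
    (h2.symm.trans comp_zero.symm)

variable {E} {r : B}

theorem smul_id_eq_zero (h : E.CotangentSpace →ₗ[B] E.Cotangent)
    (h1 : ∀ x, h (E.cotangentComplex x) = r • x) (h2 : ∀ y, E.cotangentComplex (h y) = r • y) :
    r • 𝟙 (DRing.toD (NLCx.cx E)) = 0 := by
  have key : r • 𝟙 (NLCx.cx E) = Homotopy.nullHomotopicMap' (homs E h) := by
    refine hom_ext ?_ ?_
    · rw [null_f_neg_one, HomologicalComplex.smul_f_apply, id_f,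
        show h ∘ₗ E.cotangentComplex = r • LinearMap.id from LinearMap.ext h1,
        show (ModuleCat.ofHom (r • (LinearMap.id : E.Cotangent →ₗ[B] E.Cotangent)) :
          ModuleCat.of B E.Cotangent ⟶ ModuleCat.of B E.Cotangent) = r • 𝟙 _ from rfl,
        Linear.smul_comp, Linear.comp_smul, Category.id_comp, Iso.hom_inv_id]
    · rw [null_f_zero, HomologicalComplex.smul_f_apply, id_f,
        show E.cotangentComplex ∘ₗ h = r • LinearMap.id from LinearMap.ext h2,
        show (ModuleCat.ofHom (r • (LinearMap.id : E.CotangentSpace →ₗ[B] E.CotangentSpace)) :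
          ModuleCat.of B E.CotangentSpace ⟶ ModuleCat.of B E.CotangentSpace) = r • 𝟙 _ from rfl,
        Linear.smul_comp, Linear.comp_smul, Category.id_comp, Iso.hom_inv_id]
  have hQ := Q_map_eq_zero ((Homotopy.ofEq key).trans (Homotopy.nullHomotopy' (homs E h)))
  rwa [Functor.map_smul, CategoryTheory.Functor.map_id] at hQ

theorem smul_hom_eq_zero [Projective ((NLCx.cx E).X 0)] (h : E.CotangentSpace →ₗ[B] E.Cotangent)
    (h1 : ∀ x, h (E.cotangentComplex x) = r • x) (N : Type u) [AddCommGroup N] [Module B N]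
    (φ : DRing.toD (NLCx.cx E) ⟶ (Dual.inD B N)⟦(1 : ℤ)⟧) : r • φ = 0 := by
  let K : DRing.Cx B := (CochainComplex.singleFunctor (ModuleCat.{u} B) (-1)).obj (ModuleCat.of B N)
  let i₁ : (Dual.inD B N)⟦(1 : ℤ)⟧ ≅ (DerivedCategory.singleFunctor (ModuleCat.{u} B) (-1)).obj (ModuleCat.of B N) :=
    ((DerivedCategory.singleFunctors (ModuleCat.{u} B)).shiftIso 1 (-1) 0 (by omega)).app (ModuleCat.of B N)
  let i₂ : (DerivedCategory.singleFunctor (ModuleCat.{u} B) (-1)).obj (ModuleCat.of B N) ≅ DerivedCategory.Q.obj K :=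
    ((SingleFunctors.evaluation _ _ (-1)).mapIso (DerivedCategory.singleFunctorsPostcompQIso (ModuleCat.{u} B))).app _
  let i := i₁ ≪≫ i₂
  suffices ∀ ψ : DRing.toD (NLCx.cx E) ⟶ DerivedCategory.Q.obj K, r • ψ = 0 by
    have h2 := this (φ ≫ i.hom)
    rw [← Linear.smul_comp] at h2
    exact (cancel_mono i.hom).1 (h2.trans zero_comp.symm)
  intro ψ
  obtain ⟨a, ha⟩ := (DCat.TwoTerm.bijective_Qh (M := NLCx.cx E)
    (fun j hj => cx_isZero E j (by omega) (by omega)) K).2
    ((DerivedCategory.quotientCompQhIso (ModuleCat.{u} B)).hom.app _ ≫ ψ ≫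
      (DerivedCategory.quotientCompQhIso (ModuleCat.{u} B)).inv.app K)
  obtain ⟨g, rfl⟩ := (HomotopyCategory.quotient _ _).map_surjective a
  dsimp only at ha
  have hg : DerivedCategory.Q.map g = ψ := by
    have h2 := (DerivedCategory.quotientCompQhIso (ModuleCat.{u} B)).hom.naturality g
    rw [Functor.comp_map, ha] at h2
    simp only [Category.assoc, Iso.inv_hom_id_app, Category.comp_id] at h2
    exact ((cancel_epi _).1 h2).symm
  have hz : IsZero (K.X 0) :=
    HomologicalComplex.isZero_single_obj_X (ComplexShape.up ℤ) (-1) (ModuleCat.of B N) 0 (by omega)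
  have key : r • g = Homotopy.nullHomotopicMap' (homs E h) ≫ g := by
    refine hom_ext ?_ (hz.eq_of_tgt _ _)
    rw [comp_f, null_f_neg_one, HomologicalComplex.smul_f_apply,
      show h ∘ₗ E.cotangentComplex = r • LinearMap.id from LinearMap.ext h1,
      show (ModuleCat.ofHom (r • (LinearMap.id : E.Cotangent →ₗ[B] E.Cotangent)) :
        ModuleCat.of B E.Cotangent ⟶ ModuleCat.of B E.Cotangent) = r • 𝟙 _ from rfl,
      Linear.smul_comp, Linear.comp_smul, Linear.smul_comp, Category.id_comp, Iso.hom_inv_id, Category.id_comp]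
  have H : Homotopy (r • g) 0 := (Homotopy.ofEq key).trans
    (((Homotopy.nullHomotopy' (homs E h)).compRight g).trans (Homotopy.ofEq zero_comp))
  rw [← hg, ← Functor.map_smul]
  exact Q_map_eq_zero H

/-- The adjugate homotopy of a presentation by `m` relations. -/
theorem exists_homotopy {n m : ℕ} (hmn : m ≤ n) (P : Algebra.Generators A B (Fin n))
    (f : Fin m → MvPolynomial (Fin n) A) (hker : ∀ k, f k ∈ P.toExtension.ker)
    (hspan : ∀ x : MvPolynomial (Fin n) A, MvPolynomial.aeval P.val x = 0 → x ∈ Ideal.span (Set.range f)) :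
    ∃ h : P.toExtension.CotangentSpace →ₗ[B] P.toExtension.Cotangent,
      (∀ x, h (P.toExtension.cotangentComplex x) = MvPolynomial.aeval P.val
        (Matrix.det (Matrix.of fun i j : Fin m => MvPolynomial.pderiv (Fin.castLE hmn i) (f j))) • x) ∧
      (n = m → ∀ y, P.toExtension.cotangentComplex (h y) = MvPolynomial.aeval P.val
        (Matrix.det (Matrix.of fun i j : Fin m => MvPolynomial.pderiv (Fin.castLE hmn i) (f j))) • y) := by
  classical
  let q : MvPolynomial (Fin n) A →+* B := (MvPolynomial.aeval (R := A) P.val).toRingHom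
  let Jb : Matrix (Fin m) (Fin m) B :=
    (Matrix.of fun i j : Fin m => MvPolynomial.pderiv (Fin.castLE hmn i) (f j)).map q
  let g : B := Jb.det
  have hdet : MvPolynomial.aeval P.val
      (Matrix.det (Matrix.of fun i j : Fin m => MvPolynomial.pderiv (Fin.castLE hmn i) (f j))) = g :=
    RingHom.map_det q _
  rw [hdet]
  let gen : Fin m → P.toExtension.Cotangent := fun j => Algebra.Extension.Cotangent.mk ⟨f j, hker j⟩
  let v : Fin n → P.toExtension.Cotangent := fun i =>
    if hi : (i : ℕ) < m then ∑ j, Jb.adjugate j ⟨i, hi⟩ • gen j else 0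
  let h : P.toExtension.CotangentSpace →ₗ[B] P.toExtension.Cotangent := P.cotangentSpaceBasis.constr B v
  have hb : ∀ i : Fin m, h (P.cotangentSpaceBasis (Fin.castLE hmn i)) = ∑ j, Jb.adjugate j i • gen j := fun i =>
    (Module.Basis.constr_basis _ _ _ _).trans (dif_pos i.2)
  have hb' : ∀ i : Fin n, ¬ (i : ℕ) < m → h (P.cotangentSpaceBasis i) = 0 := fun i hi =>
    (Module.Basis.constr_basis _ _ _ _).trans (dif_neg hi)
  have hd : ∀ k, P.toExtension.cotangentComplex (gen k) =
      ∑ i, q (MvPolynomial.pderiv i (f k)) • P.cotangentSpaceBasis i := fun k => by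
    conv_lhs => rw [← P.cotangentSpaceBasis.sum_repr (P.toExtension.cotangentComplex (gen k))]
    refine Finset.sum_congr rfl fun i _ => ?_
    rw [Algebra.Extension.cotangentComplex_mk]
    erw [Algebra.Generators.cotangentSpaceBasis_repr_one_tmul]
    rfl
  have hgen : ∀ k, h (P.toExtension.cotangentComplex (gen k)) = g • gen k := fun k => by
    have h0 : ∀ i ∈ (Finset.univ : Finset (Fin n)), i ∉ Finset.univ.map (Fin.castLEEmb hmn) →
        q (MvPolynomial.pderiv i (f k)) • h (P.cotangentSpaceBasis i) = 0 := fun i _ hi => by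
      rw [hb', smul_zero]
      intro hlt
      exact hi (Finset.mem_map.2 ⟨⟨i, hlt⟩, Finset.mem_univ _, Fin.ext rfl⟩)
    rw [hd, map_sum]
    simp only [map_smul]
    rw [← Finset.sum_subset (Finset.subset_univ _) h0, Finset.sum_map]
    simp only [Fin.castLEEmb_apply, hb]
    simp only [Finset.smul_sum, smul_smul]
    rw [Finset.sum_comm]
    simp only [← Finset.sum_smul]
    have he : ∀ j, ∑ i : Fin m, q (MvPolynomial.pderiv (Fin.castLE hmn i) (f k)) *
        Jb.adjugate j i = if j = k then g else 0 := fun j => by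
      have h3 := congrFun (congrFun (Matrix.adjugate_mul Jb) j) k
      rw [Matrix.mul_apply, Matrix.smul_apply, Matrix.one_apply, smul_eq_mul, mul_ite, mul_one, mul_zero] at h3
      rw [← h3]
      exact Finset.sum_congr rfl fun i _ => mul_comm _ _
    simp only [he, ite_smul, zero_smul, Finset.sum_ite_eq', Finset.mem_univ, if_true]
  have hall : ∀ x : P.toExtension.Cotangent, x ∈ Submodule.span B (Set.range gen) := by
    intro x
    obtain ⟨⟨x, hx⟩, rfl⟩ := Algebra.Extension.Cotangent.mk_surjective x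
    obtain ⟨c, hc⟩ : ∃ c : Fin m → P.toExtension.Ring, ∑ i, c i * (⟨f i, hker i⟩ : P.toExtension.ker).1 = x :=
      Ideal.mem_span_range_iff_exists_fun.1 (hspan x ((P.algebraMap_apply x).symm.trans (RingHom.mem_ker.1 hx)))
    have : (⟨x, hx⟩ : P.toExtension.ker) = ∑ j, c j • (⟨f j, hker j⟩ : P.toExtension.ker) :=
      Subtype.ext (by rw [AddSubmonoidClass.coe_finsetSum]; exact hc.symm)
    rw [this, map_sum]
    refine Submodule.sum_mem _ fun j _ => ?_
    rw [map_smul, ← algebraMap_smul B (c j : P.toExtension.Ring)]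
    exact Submodule.smul_mem _ _ (Submodule.subset_span ⟨j, rfl⟩)
  refine ⟨h, fun x => LinearMap.congr_fun (LinearMap.ext_on (f := h ∘ₗ P.toExtension.cotangentComplex)
    (g := g • LinearMap.id) (eq_top_iff.2 fun y _ => hall y) (by rintro _ ⟨k, rfl⟩; exact hgen k)) x, ?_⟩
  rintro rfl y
  refine LinearMap.congr_fun (P.cotangentSpaceBasis.ext (f₁ := P.toExtension.cotangentComplex ∘ₗ h)
    (f₂ := g • LinearMap.id) fun i => ?_) y
  rw [LinearMap.comp_apply, LinearMap.smul_apply, LinearMap.id_apply,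
    show i = Fin.castLE hmn i from Fin.ext rfl, hb, map_sum]
  simp only [map_smul, hd, Finset.smul_sum, smul_smul]
  rw [Finset.sum_comm]
  simp only [← Finset.sum_smul]
  have he : ∀ l : Fin n, ∑ j, Jb.adjugate j i * q (MvPolynomial.pderiv l (f j)) = if l = i then g else 0 := fun l => by
    have h3 := congrFun (congrFun (Matrix.mul_adjugate Jb) l) i
    rw [Matrix.mul_apply, Matrix.smul_apply, Matrix.one_apply, smul_eq_mul, mul_ite, mul_one, mul_zero] at h3
    rw [← h3]
    exact Finset.sum_congr rfl fun j _ => mul_comm _ _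
  simp only [he, ite_smul, zero_smul, Finset.sum_ite_eq', Finset.mem_univ, if_true]
  rfl

theorem main_aux {n m : ℕ} (hmn : m ≤ n) (P : Algebra.Generators A B (Fin n))
    (f : Fin m → MvPolynomial (Fin n) A) (hker : ∀ k, f k ∈ P.toExtension.ker)
    (hspan : ∀ x : MvPolynomial (Fin n) A, MvPolynomial.aeval P.val x = 0 → x ∈ Ideal.span (Set.range f))
    (g : B) (hg : MvPolynomial.aeval P.val
      (Matrix.det (Matrix.of fun i j : Fin m => MvPolynomial.pderiv (Fin.castLE hmn i) (f j))) = g) :
    (∀ (N : Type u) [AddCommGroup N] [Module B N] (φ : LCI.NL A B ⟶ (Dual.inD B N)⟦(1 : ℤ)⟧), g • φ = 0) ∧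
    (n = m → g • 𝟙 (LCI.NL A B) = 0) := by
  obtain ⟨h, h1, h2⟩ := exists_homotopy hmn P f hker hspan
  rw [hg] at h1 h2
  obtain ⟨e⟩ := NLPerfect.nonempty_NL_iso P
  haveI : Projective ((NLCx.cx P.toExtension).X 0) := by
    haveI : Module.Free B P.toExtension.CotangentSpace := Module.Free.of_basis P.cotangentSpaceBasis
    haveI : Projective (ModuleCat.of B P.toExtension.CotangentSpace) := inferInstance
    exact Projective.of_iso (e₀ P.toExtension).symm inferInstance
  refine ⟨fun N _ _ φ => ?_, fun hnm => ?_⟩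
  · have h3 := smul_hom_eq_zero h h1 N (e.hom ≫ φ)
    rw [← Linear.comp_smul] at h3
    exact (cancel_epi e.hom).1 (h3.trans comp_zero.symm)
  · have h3 := smul_id_eq_zero h h1 (h2 hnm)
    calc g • 𝟙 (LCI.NL A B) = e.inv ≫ (g • 𝟙 (DRing.toD (NLCx.cx P.toExtension))) ≫ e.hom := by
          rw [Linear.smul_comp, Linear.comp_smul, Category.id_comp, Iso.inv_hom_id]
      _ = 0 := by rw [h3, zero_comp, comp_zero]

end Groth.Agent.CAlgH.JacobianNL
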