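import Groth.Agent.CAlgH.KoszulDescent
import Groth.Agent.CAlgH.KindBasic

/-!
# Descent of regular ideals of the kinds Koszul, `H_1`, quasi
-/

universe u

set_option autoImplicit false
set_option backward.isDefEq.respectTransparency false

namespace Groth.Agent.CAlgH.KindDescent

open KindBasic KoszulDescent

variable {A B : Type u} [CommRing A] [CommRing B] {k : RegImm.Kind}

/-- Around each prime containing it, the ideal is generated by a sequence of the given kind. -/
def IsKIdeal (k : RegImm.Kind) (I : Ideal A) : Prop :=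
  ∀ 𝔭 : PrimeSpectrum A, I ≤ 𝔭.asIdeal → ∃ g : A, g ∉ 𝔭.asIdeal ∧
    ∃ (r : ℕ) (f : Fin r → Localization.Away g), SeqF k f ∧
      I.map (algebraMap A (Localization.Away g)) = Ideal.span (Set.range f)

theorem seq_of_irred [Algebra A B] [IsLocalRing B] [Module.FaithfullyFlat A B] [IsLocalRing A] {r s : ℕ}
    {f : Fin r → A} (hf : Irred f) {g : Fin s → B}
    (hg : SeqF k g) (hspan : (Ideal.span (Set.range f)).map (algebraMap A B) = Ideal.span (Set.range g))
    (hne : Ideal.span (Set.range g) ≠ ⊤) : r = s ∧ SeqF k f := by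
  have heq : Ideal.span (Set.range fun i => algebraMap A B (f i)) = Ideal.span (Set.range g) := by
    rw [← hspan, Ideal.map_span, ← Set.range_comp]
    rfl
  obtain rfl : r = s := le_antisymm ((hf.map (B := B)).le g heq) (hg.le_of_generators hne rfl _ heq)
  exact ⟨rfl, seqF_descend (S := B) (seqF_of_span_eq hg heq)⟩

theorem fg_of_isKIdeal {I : Ideal B} (hI : IsKIdeal k I) : I.FG := by
  have h' : ∀ q : PrimeSpectrum B, ∃ h : B, h ∉ q.asIdeal ∧ (I.map (algebraMap B (Localization.Away h))).FG := by
    intro q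
    by_cases hq : I ≤ q.asIdeal
    · obtain ⟨h, hh, r, g, -, hle⟩ := hI q hq
      exact ⟨h, hh, hle ▸ Submodule.fg_span (Set.finite_range g)⟩
    · obtain ⟨h, hh, hhq⟩ := SetLike.not_le_iff_exists.1 hq
      refine ⟨h, hhq, ?_⟩
      rw [Ideal.eq_top_of_isUnit_mem _ (Ideal.mem_map_of_mem _ hh) (IsLocalization.Away.algebraMap_isUnit h)]
      exact Module.Finite.fg_top
  choose h hh hfg using h'
  refine Ideal.fg_of_localizationSpan (Set.range h) ?_ ?_
  · by_contra hne
    obtain ⟨m, hm, hle⟩ := Ideal.exists_le_maximal _ hne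
    exact hh ⟨m, hm.isPrime⟩ (hle (Ideal.subset_span ⟨_, rfl⟩))
  · rintro ⟨_, q, rfl⟩
    exact hfg q

variable [Algebra A B]

/-- Regularity of an ideal of the given kind descends along faithfully flat maps. -/
theorem isKIdeal_of_faithfullyFlat [Module.FaithfullyFlat A B] {k : RegImm.Kind} (I : Ideal A)
    (hI : IsKIdeal k (I.map (algebraMap A B))) : IsKIdeal k I := by
  classical
  intro 𝔭 hp
  obtain ⟨r, f, s, hsp, hfI, hsf, hirr⟩ :=
    exists_irred_generators I (fg_of_faithfullyFlat (B := B) I (fg_of_isKIdeal hI)) 𝔭.asIdeal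
  have hloc : ∀ (L : Type u) [CommRing L] [Algebra A L], IsUnit (algebraMap A L s) →
      I.map (algebraMap A L) = Ideal.span (Set.range fun i => algebraMap A L (f i)) := by
    intro L _ _ hu
    refine le_antisymm (Ideal.map_le_iff_le_comap.2 fun a ha => ?_) (Ideal.span_le.2 ?_)
    · rw [Ideal.mem_comap]
      have h1 := Ideal.mem_map_of_mem (algebraMap A L) (hsf a ha)
      rw [map_mul, Ideal.map_span, ← Set.range_comp] at h1
      exact (Ideal.unit_mul_mem_iff_mem _ hu).1 h1
    · rintro _ ⟨i, rfl⟩
      exact Ideal.mem_map_of_mem _ (hfI i)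
  -- a Koszul regular model over a prime of the zero locus
  have hmodel : ∀ q : PrimeSpectrum B, I ≤ (PrimeSpectrum.comap (algebraMap A B) q).asIdeal →
      s ∉ (PrimeSpectrum.comap (algebraMap A B) q).asIdeal →
      ∃ h : B, h ∉ q.asIdeal ∧ ∃ m : ℕ, ∀ q' : PrimeSpectrum B, h ∉ q'.asIdeal →
        I ≤ (PrimeSpectrum.comap (algebraMap A B) q').asIdeal →
        s ∉ (PrimeSpectrum.comap (algebraMap A B) q').asIdeal →
        (Irred (fun i => algebraMap A (Localization.AtPrime (q'.asIdeal.comap (algebraMap A B))) (f i)) →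
          r = m ∧ SeqF k fun i => algebraMap A (Localization.AtPrime (q'.asIdeal.comap (algebraMap A B))) (f i)) ∧
        m ≤ r ∧ (¬ Irred (fun i => algebraMap A (Localization.AtPrime (q'.asIdeal.comap (algebraMap A B))) (f i)) →
          m < r) := by
    intro q hq hsq
    obtain ⟨h, hh, s', g, hl, hle⟩ := hI q (Ideal.map_le_iff_le_comap.2 hq)
    refine ⟨h, hh, s', fun q' hh' hq' hsq' => ?_⟩
    let p' := q'.asIdeal.comap (algebraMap A B)
    let L := Localization.AtPrime p'
    let L' := Localization.AtPrime q'.asIdeal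
    let φ : L →+* L' := Localization.localRingHom p' q'.asIdeal (algebraMap A B) rfl
    letI : Algebra L L' := φ.toAlgebra
    have hflat : (algebraMap A B).Flat := RingHom.flat_algebraMap_iff.2 inferInstance
    have : Module.Flat L L' := hflat.localRingHom q'.asIdeal p' rfl
    have : IsLocalHom (algebraMap L L') := Localization.isLocalHom_localRingHom _ _ _ rfl
    have hff : Module.FaithfullyFlat L L' := Module.FaithfullyFlat.of_flat_of_isLocalHom
    have hu : IsUnit (algebraMap A L s) := IsLocalization.map_units L (⟨s, hsq'⟩ : p'.primeCompl)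
    let ψ : Localization.Away h →+* L' := IsLocalization.Away.lift h
      (g := algebraMap B L') (IsLocalization.map_units L' (⟨h, hh'⟩ : q'.asIdeal.primeCompl))
    have hψflat : ψ.Flat := by
      let : Algebra (Localization.Away h) L' := ψ.toAlgebra
      have : IsScalarTower B (Localization.Away h) L' :=
        .of_algebraMap_eq fun b => (IsLocalization.Away.lift_eq h _ b).symm
      have := IsLocalization.isLocalization_of_submonoid_le (Localization.Away h) L' (Submonoid.powers h)
        q'.asIdeal.primeCompl (Submonoid.powers_le.2 hh')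
      exact IsLocalization.flat L' ((Submonoid.map (algebraMap B (Localization.Away h)) q'.asIdeal.primeCompl))
    have hJ : (Ideal.span (Set.range fun i => algebraMap A L (f i))).map φ =
        Ideal.span (Set.range fun i => ψ (g i)) := by
      rw [← hloc L hu, Ideal.map_map, show φ.comp (algebraMap A L) =
        (ψ.comp (algebraMap B (Localization.Away h))).comp (algebraMap A B) from RingHom.ext fun a => by
          simp only [RingHom.comp_apply, φ, ψ, IsLocalization.Away.lift_eq]
          exact Localization.localRingHom_to_map _ _ _ rfl a,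
        ← Ideal.map_map, ← Ideal.map_map, hle, Ideal.map_span]
      refine congrArg Ideal.span ?_
      rw [← Set.range_comp]
      rfl
    have hne : Ideal.span (Set.range fun i => ψ (g i)) ≠ ⊤ := by
      rw [← hJ]
      refine ne_top_of_le_ne_top (IsLocalRing.maximalIdeal.isMaximal L').ne_top ?_
      refine le_trans (Ideal.map_mono (J := IsLocalRing.maximalIdeal L) ?_) (Ideal.map_le_iff_le_comap.2
        fun x hx => map_nonunit (algebraMap L L') x hx)
      rw [← hloc L hu, Ideal.map_le_iff_le_comap]; exact le_trans hq' (le_of_eq (IsLocalization.AtPrime.comap_maximalIdeal L p').symm)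
    have hKl : SeqF k fun i => ψ (g i) := hl.map hψflat
    refine ⟨fun hi => seq_of_irred (B := L') hi hKl hJ hne, ?_, fun hi => ?_⟩
    · exact hKl.le_of_generators hne rfl (fun i => φ (algebraMap A L (f i)))
        (by rw [← hJ, Ideal.map_span, ← Set.range_comp]; rfl)
    · simp only [Irred, not_forall, not_not] at hi
      obtain ⟨j, hj⟩ := hi
      cases r with
      | zero => exact j.elim0
      | succ r =>
        refine Nat.lt_succ_of_le (hKl.le_of_generators hne rfl (fun i => φ (algebraMap A L (f (j.succAbove i)))) ?_)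
        rw [← hJ, Ideal.map_span, ← Set.range_comp]
        refine le_antisymm (Ideal.span_mono ?_) (Ideal.span_le.2 ?_)
        · rintro _ ⟨i, rfl⟩
          exact ⟨_, rfl⟩
        · rintro _ ⟨i, rfl⟩
          have hsub : (fun i => φ (algebraMap A L (f i))) '' {j}ᶜ ⊆
              Set.range fun k => φ (algebraMap A L (f (j.succAbove k))) := by
            rintro _ ⟨i, hi, rfl⟩
            obtain ⟨k, rfl⟩ := Fin.exists_succAbove_eq hi
            exact ⟨k, rfl⟩
          by_cases hi : i = j
          · subst hi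
            have := Ideal.mem_map_of_mem φ hj
            rw [Ideal.map_span, Set.image_image] at this
            exact Ideal.span_mono hsub this
          · exact Ideal.subset_span (hsub ⟨i, hi, rfl⟩)
  -- the open set
  let U : Set (PrimeSpectrum A) := {p' | s ∉ p'.asIdeal ∧
    (I ≤ p'.asIdeal → Irred fun i => algebraMap A (Localization.AtPrime p'.asIdeal) (f i))}
  have hUopen : IsOpen (PrimeSpectrum.comap (algebraMap A B) ⁻¹' U) := by
    rw [isOpen_iff_forall_mem_open]
    rintro q ⟨hsq, hq⟩
    by_cases hIq : I ≤ (PrimeSpectrum.comap (algebraMap A B) q).asIdeal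
    · obtain ⟨h, hh, m, hm⟩ := hmodel q hIq hsq
      refine ⟨((PrimeSpectrum.basicOpen h ⊓ PrimeSpectrum.basicOpen (algebraMap A B s) : TopologicalSpace.Opens (PrimeSpectrum B)) : Set (PrimeSpectrum B)), fun q' hq' => ?_,
        (TopologicalSpace.Opens.isOpen _), ⟨hh, hsq⟩⟩
      refine ⟨hq'.2, fun hI' => ?_⟩
      by_contra hirr'
      have h1 := ((hm q hh hIq hsq).1 (hq hIq)).1
      have h2 := (hm q' hq'.1 hI' hq'.2).2.2 hirr'
      omega
    · obtain ⟨a, haI, haq⟩ := SetLike.not_le_iff_exists.1 hIq
      exact ⟨((PrimeSpectrum.basicOpen (algebraMap A B a) ⊓ PrimeSpectrum.basicOpen (algebraMap A B s) : TopologicalSpace.Opens (PrimeSpectrum B)) : Set (PrimeSpectrum B)),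
        fun q' hq' => ⟨hq'.2, fun hI' => absurd (hI' haI) hq'.1⟩, TopologicalSpace.Opens.isOpen _, ⟨haq, hsq⟩⟩
  have hU : IsOpen U := (PrimeSpectrum.isQuotientMap_of_generalizingMap
    PrimeSpectrum.comap_surjective_of_faithfullyFlat
    (RingHom.Flat.generalizingMap_comap (RingHom.flat_algebraMap_iff.2 inferInstance))).isOpen_preimage.1 hUopen
  obtain ⟨_, ⟨g₀, rfl⟩, hg₀p, hg₀U⟩ :=
    (PrimeSpectrum.isTopologicalBasis_basic_opens).exists_subset_of_mem_open (show 𝔭 ∈ U from ⟨hsp, fun _ => hirr⟩) hU
  have hsp' : g₀ * s ∉ 𝔭.asIdeal := fun h => (𝔭.2.mem_or_mem h).elim hg₀p hsp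
  refine ⟨g₀ * s, hsp', r, fun i => algebraMap A (Localization.Away (g₀ * s)) (f i), ?_, ?_⟩
  · refine seqF_of_local fun m hm hle => ?_
    let p' : PrimeSpectrum A := ⟨m.comap (algebraMap A (Localization.Away (g₀ * s))), inferInstance⟩
    have hgs : g₀ * s ∉ p'.asIdeal := fun h =>
      hm.ne_top (Ideal.eq_top_of_isUnit_mem _ h (IsLocalization.Away.algebraMap_isUnit (g₀ * s)))
    have hs' : s ∉ p'.asIdeal := fun h => hgs (Ideal.mul_mem_left _ _ h)
    have hg' : g₀ ∉ p'.asIdeal := fun h => hgs (Ideal.mul_mem_right _ _ h)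
    have hIp : I ≤ p'.asIdeal := by
      refine Ideal.map_le_iff_le_comap.1 ?_
      rw [hloc _ (isUnit_of_dvd_unit (map_dvd _ (dvd_mul_left s g₀)) (IsLocalization.Away.algebraMap_isUnit (g₀ * s)))]
      exact hle
    have key : ∀ p'' : PrimeSpectrum A, I ≤ p''.asIdeal → s ∉ p''.asIdeal →
        Irred (fun i => algebraMap A (Localization.AtPrime p''.asIdeal) (f i)) →
        SeqF k fun i => algebraMap A (Localization.AtPrime p''.asIdeal) (f i) := by
      intro p'' h1 h2 hi
      obtain ⟨q', rfl⟩ := PrimeSpectrum.comap_surjective_of_faithfullyFlat (B := B) p''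
      obtain ⟨h, hh, m', hm'⟩ := hmodel q' h1 h2
      exact ((hm' q' hh h1 h2).1 hi).2
    have hK := key p' hIp hs' ((hg₀U (show p' ∈ PrimeSpectrum.basicOpen g₀ from hg')).2 hIp)
    let e := IsLocalization.localizationLocalizationAtPrimeIsoLocalization (Submonoid.powers (g₀ * s)) m
    have := hK.map (RingHom.Flat.of_bijective (f := (e : Localization.AtPrime p'.asIdeal ≃ₐ[A] _).toAlgHom.toRingHom)
      e.bijective)
    convert this using 2 with i
    exact ((IsScalarTower.algebraMap_apply A (Localization.Away (g₀ * s)) (Localization.AtPrime m) (f i)).symm.trans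
      (e.commutes (f i)).symm)
  · rw [hloc _ (isUnit_of_dvd_unit (map_dvd _ (dvd_mul_left s g₀)) (IsLocalization.Away.algebraMap_isUnit (g₀ * s)))]

end Groth.Agent.CAlgH.KindDescent
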