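import Groth.Agent.CAlgH.KindDescent
import Groth.Agent.CAlgH.KoszulDescentScheme
import Mathlib.AlgebraicGeometry.Morphisms.QuasiCompact
import Mathlib.AlgebraicGeometry.Morphisms.Flat

/-!
# fpqc descent of regular immersions of the kinds Koszul, `H_1`, quasi
-/

universe u

set_option autoImplicit false
set_option backward.isDefEq.respectTransparency false

open CategoryTheory CategoryTheory.Limits AlgebraicGeometry
open Groth.Agent.CAlgH.KindBasic Groth.Agent.CAlgH.KindDescent

namespace Groth.Agent.CAlgH.KindScheme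

variable {A : Type u} [CommRing A] {κ : RegImm.Kind}

/-- Change of model of a basic localization. -/
theorem exists_away_model (g : A) (L L' : Type u) [CommRing L] [Algebra A L] [IsLocalization.Away g L]
    [CommRing L'] [Algebra A L'] [IsLocalization.Away g L'] (I : Ideal A) {r : ℕ} (f : Fin r → L)
    (hf : SeqF κ f) (hI : I.map (algebraMap A L) = Ideal.span (Set.range f)) :
    ∃ f' : Fin r → L', SeqF κ f' ∧ I.map (algebraMap A L') = Ideal.span (Set.range f') := by
  let e : L ≃ₐ[A] L' := IsLocalization.algEquiv (Submonoid.powers g) L L'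
  refine ⟨_, hf.map (RingHom.Flat.of_bijective (f := e.toAlgHom.toRingHom) e.bijective), ?_⟩
  rw [← e.toAlgHom.comp_algebraMap, ← Ideal.map_map, hI, Ideal.map_span, ← Set.range_comp]
  rfl

variable {X Y X' Y' : Scheme.{u}}

/-- The ideal of a Koszul regular immersion in a chart is Koszul regular. -/
theorem isKIdeal_ker (hκ : κ ≠ .regular) (i : Y ⟶ X) (hi : RegImm.IsRegularImmersion κ i) {W : X.Opens}
    (hW : IsAffineOpen W) [IsClosedImmersion (i ∣_ W)] :
    IsKIdeal κ (RingHom.ker (i.app W).hom) := by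
  intro 𝔭 hp
  set x : X := hW.fromSpec 𝔭 with hx
  have hxW : x ∈ W := hW.range_fromSpec.le ⟨𝔭, rfl⟩
  have hbasic : ∀ g : Γ(X, W), x ∈ X.basicOpen g ↔ g ∉ 𝔭.asIdeal := fun g => by
    rw [hx]
    show 𝔭 ∈ hW.fromSpec ⁻¹ᵁ X.basicOpen g ↔ _
    rw [hW.fromSpec_preimage_basicOpen]
    rfl
  have hmap : ∀ g : Γ(X, W), RingHom.ker (i.app (X.basicOpen g)).hom =
      (RingHom.ker (i.app W).hom).map (X.presheaf.map (homOfLE (X.basicOpen_le g)).op).hom := fun g =>
    (KoszulChart.restrict i hW (hW.basicOpen g) (X.basicOpen_le g)).2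
  obtain ⟨z, hz⟩ : x ∈ Set.range i := by
    by_contra hxr
    have hcl : IsClosed (Set.range (i ∣_ W)) := (IsClosedImmersion.base_closed (f := i ∣_ W)).isClosed_range
    obtain ⟨g, hgle, hxg⟩ := hW.exists_basicOpen_le (V := W.ι ''ᵁ ⟨_, hcl.isOpen_compl⟩) ⟨x, ⟨x, hxW⟩, fun h => by
      obtain ⟨w, hw⟩ := h
      refine hxr ⟨(i ⁻¹ᵁ W).ι w, ?_⟩
      rw [← Scheme.Hom.comp_apply, ← morphismRestrict_ι, Scheme.Hom.comp_apply, hw]
      rfl, rfl⟩ hxW
    have hbot : i ⁻¹ᵁ X.basicOpen g = ⊥ := by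
      refine le_bot_iff.1 fun y hy => ?_
      obtain ⟨w, hw, hwe⟩ := hgle hy
      refine hw ⟨⟨y, X.basicOpen_le g hy⟩, W.ι.isOpenEmbedding.injective ?_⟩
      rw [← Scheme.Hom.comp_apply, morphismRestrict_ι, Scheme.Hom.comp_apply]
      exact hwe.symm
    have : Subsingleton Γ(Y, i ⁻¹ᵁ X.basicOpen g) := by
      rw [hbot]
      infer_instance
    have htop : RingHom.ker (i.app (X.basicOpen g)).hom = ⊤ :=
      (Ideal.eq_top_iff_one _).2 (Subsingleton.elim _ _)
    let := (X.presheaf.map (homOfLE (X.basicOpen_le g)).op).hom.toAlgebra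
    have : IsLocalization.Away g Γ(X, X.basicOpen g) := hW.isLocalization_basicOpen g
    rw [hmap] at htop
    refine (hbasic g).1 hxg ?_
    obtain ⟨⟨⟨a, ha⟩, ⟨_, n, rfl⟩⟩, hna⟩ := (IsLocalization.mem_map_algebraMap_iff (Submonoid.powers g)
      Γ(X, X.basicOpen g)).1 (htop.ge (Submodule.mem_top (x := (1 : Γ(X, X.basicOpen g)))))
    rw [one_mul] at hna
    obtain ⟨⟨_, m, rfl⟩, hm⟩ := (IsLocalization.eq_iff_exists (Submonoid.powers g) Γ(X, X.basicOpen g)).1 hna
    refine 𝔭.2.mem_of_pow_mem (m + n) ?_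
    rw [pow_add, show g ^ m * g ^ n = g ^ m * a from hm]
    exact Ideal.mul_mem_left _ _ (hp ha)
  obtain ⟨⟨U, hU⟩, hzU, hc, rs, hrs, hker⟩ := hi.2 z
  obtain ⟨a, hale, hxa⟩ := hW.exists_basicOpen_le (V := U) ⟨x, hz ▸ hzU⟩ hxW
  obtain ⟨-, h2⟩ := KoszulChart.restrict i hU (hW.basicOpen a) hale
  have hss : SeqF κ fun j => (X.presheaf.map (homOfLE hale).op).hom (rs.get j) :=
    ((seq_iff hκ rs).1 hrs).map (KoszulChart.flat_restrict hU (hW.basicOpen a) hale)
  have hkss : RingHom.ker (i.app (X.basicOpen a)).hom =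
      Ideal.span (Set.range fun j => (X.presheaf.map (homOfLE hale).op).hom (rs.get j)) := by
    rw [h2, hker, show Ideal.ofList rs = Ideal.span (Set.range rs.get) by rw [Set.range_list_get], Ideal.map_span, ← Set.range_comp]
    rfl
  let := (X.presheaf.map (homOfLE (X.basicOpen_le a)).op).hom.toAlgebra
  have : IsLocalization.Away a Γ(X, X.basicOpen a) := hW.isLocalization_basicOpen a
  obtain ⟨l, hl, hle⟩ := exists_away_model a Γ(X, X.basicOpen a) (Localization.Away a) (RingHom.ker (i.app W).hom) _ hss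
    ((hmap a).symm.trans hkss)
  exact ⟨a, (hbasic a).1 hxa, _, l, hl, hle⟩

section Pi

variable {ι : Type u} [Fintype ι] (B : ι → Type u) [∀ k, CommRing (B k)] [∀ k, Algebra A (B k)]

theorem mem_map_pi (I : Ideal A) (x : ∀ k, B k) :
    x ∈ I.map (algebraMap A (∀ k, B k)) ↔ ∀ k, x k ∈ I.map (algebraMap A (B k)) := by
  classical
  refine ⟨fun hx k => ?_, fun hx => ?_⟩
  · have := Ideal.mem_map_of_mem (Pi.evalRingHom B k) hx
    rwa [Ideal.map_map] at this
  · rw [← Finset.univ_sum_single x]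
    refine Ideal.sum_mem _ fun k _ => ?_
    have hle : ∀ y ∈ Ideal.map (algebraMap A (B k)) I,
        (Pi.single k y : ∀ k, B k) ∈ I.map (algebraMap A (∀ k, B k)) := by
      intro y hy
      induction hy using Submodule.span_induction with
      | mem y hy =>
        obtain ⟨a, ha, rfl⟩ := hy
        show Pi.single k (algebraMap A (B k) a) ∈ I.map (algebraMap A (∀ k, B k))
        rw [show Pi.single k (algebraMap A (B k) a) = Pi.single k 1 * algebraMap A (∀ k, B k) a by
          ext j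
          by_cases h : j = k
          · subst h; simp
          · simp [h]]
        exact Ideal.mul_mem_left _ _ (Ideal.mem_map_of_mem _ ha)
      | zero => rw [Pi.single_zero]; exact zero_mem _
      | add y z _ _ hy hz => rw [Pi.single_add]; exact add_mem hy hz
      | smul c y _ hy =>
        show Pi.single k (c * y) ∈ I.map (algebraMap A (∀ k, B k))
        rw [Pi.single_mul]
        exact Ideal.mul_mem_left _ _ hy
    exact hle _ (hx k)

theorem isKIdeal_pi (I : Ideal A)
    (h : ∀ k, IsKIdeal κ (I.map (algebraMap A (B k)))) :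
    IsKIdeal κ (I.map (algebraMap A (∀ k, B k))) := by
  classical
  intro P hP
  obtain ⟨k, hk⟩ : ∃ k, (Pi.single k 1 : ∀ k, B k) ∉ P.asIdeal := by
    by_contra! hall
    refine P.2.ne_top ((Ideal.eq_top_iff_one _).2 ?_)
    rw [show (1 : ∀ k, B k) = ∑ k, Pi.single k 1 from (Finset.univ_sum_single (1 : ∀ k, B k)).symm]
    exact Ideal.sum_mem _ fun k _ => hall k
  let π := Pi.evalRingHom B k
  have hπ : Function.Surjective π := fun b => ⟨Pi.single k b, Pi.single_eq_same k b⟩
  have hker : RingHom.ker π ≤ P.asIdeal := fun x hx => by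
    refine (P.2.mem_or_mem (x := x) (y := Pi.single k 1) ?_).resolve_right hk
    rw [show x * Pi.single k 1 = 0 by
      ext j
      by_cases h : j = k
      · subst h; simp [show x j = 0 from hx]
      · simp [h]]
    exact zero_mem _
  let Pk : PrimeSpectrum (B k) := ⟨P.asIdeal.map π, Ideal.map_isPrime_of_surjective hπ hker⟩
  have hcomap : ∀ b, b ∈ Pk.asIdeal → Pi.single k b ∈ P.asIdeal := fun b hb => by
    have h1 : P.asIdeal = (P.asIdeal.map π).comap π := by
      rw [Ideal.comap_map_of_surjective _ hπ, ← RingHom.ker_eq_comap_bot, sup_eq_left.2 hker]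
    rw [h1, Ideal.mem_comap]
    simpa [π] using hb
  obtain ⟨g, hg, r, l, hl, hle⟩ := h k Pk (by
    have := Ideal.map_mono (f := π) hP
    rwa [Ideal.map_map] at this)
  have hG : (Pi.single k g : ∀ k, B k) ∉ P.asIdeal := fun hc => hg (by
    simpa [π] using Ideal.mem_map_of_mem π hc)
  let L := Localization.Away g
  letI : Algebra (∀ k, B k) L := ((algebraMap (B k) L).comp π).toAlgebra
  have hG' : ∀ n : ℕ, 0 < n → (Pi.single k g : ∀ k, B k) ^ n = Pi.single k (g ^ n) := fun n hn => by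
    ext j
    by_cases h : j = k
    · subst h; simp
    · simp [h, hn.ne']
  have : IsLocalization.Away (Pi.single k g : ∀ k, B k) L := by
    refine IsLocalization.Away.mk _ ?_ (fun z => ?_) (fun x y hxy => ?_)
    · show IsUnit (algebraMap (B k) L (π (Pi.single k g)))
      simpa [π] using IsLocalization.Away.algebraMap_isUnit (S := L) g
    · obtain ⟨n, b, hb⟩ := IsLocalization.Away.surj g z
      refine ⟨n, Pi.single k b, ?_⟩
      show z * algebraMap (B k) L (π (Pi.single k g)) ^ n = algebraMap (B k) L (π (Pi.single k b))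
      simpa [π] using hb
    · obtain ⟨⟨_, n, rfl⟩, hn⟩ := (IsLocalization.eq_iff_exists (Submonoid.powers g) L).1
        (show algebraMap (B k) L (x k) = algebraMap (B k) L (y k) from hxy)
      refine ⟨n + 1, ?_⟩
      rw [hG' _ n.succ_pos]
      ext j
      by_cases h : j = k
      · subst h
        simp only [Pi.mul_apply, Pi.single_eq_same, pow_succ', mul_assoc]
        exact congrArg (g * ·) hn
      · simp [h]
  obtain ⟨l', hl', hle'⟩ := exists_away_model (Pi.single k g : ∀ k, B k) L (Localization.Away (Pi.single k g : ∀ k, B k))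
    (I.map (algebraMap A (∀ k, B k))) l hl (by
      rw [show algebraMap (∀ k, B k) L = (algebraMap (B k) L).comp π from rfl, ← Ideal.map_map, Ideal.map_map (g := π)]
      exact hle)
  exact ⟨_, hG, r, l', hl', hle'⟩

end Pi

theorem of_baseChange {κ : RegImm.Kind} (hκ : κ ≠ .regular) (i : Y ⟶ X) [IsImmersion i] (g : X' ⟶ X) [Flat g] [Surjective g] [QuasiCompact g]
    (i' : Y' ⟶ X') (g' : Y' ⟶ Y) (hsq : IsPullback g' i' i g)
    (hi' : RegImm.IsRegularImmersion κ i') : RegImm.IsRegularImmersion κ i := by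
  refine ⟨inferInstance, fun z => ?_⟩
  obtain ⟨⟨U, hU⟩, hz, hc⟩ := KoszulDescentScheme.exists_closed_chart i z
  obtain ⟨S, hS, hcov⟩ := (isCompact_iff_finite_and_eq_biUnion_affineOpens (U := g ⁻¹ᵁ U)).1
    (QuasiCompact.isCompact_preimage (f := g) _ U.2 hU.isCompact)
  have : Fintype S := hS.fintype
  have hle : ∀ W : S, W.1.1 ≤ g ⁻¹ᵁ U := fun W => hcov ▸ le_iSup₂_of_le W.1 W.2 le_rfl
  let B : S → Type u := fun W => Γ(X', W.1.1)
  let : ∀ W : S, Algebra Γ(X, U) (B W) := fun W => (g.appLE U W.1.1 (hle W)).hom.toAlgebra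
  have hflat : ∀ W : S, Module.Flat Γ(X, U) (B W) := fun W =>
    HasRingHomProperty.appLE @Flat g ‹_› ⟨U, hU⟩ W.1 (hle W)
  have : Module.Flat Γ(X, U) (∀ W, B W) := by
    classical
    exact Module.Flat.of_linearEquiv (DFinsupp.linearEquivFunOnFintype (R := Γ(X, U)) (M := B)).symm
  have : Module.FaithfullyFlat Γ(X, U) (∀ W, B W) := by
    refine Module.FaithfullyFlat.of_comap_surjective fun p => ?_
    obtain ⟨y, hy⟩ := g.surjective (hU.fromSpec p)
    have hyU : y ∈ g ⁻¹ᵁ U := show g y ∈ U from hy ▸ hU.range_fromSpec.le ⟨p, rfl⟩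
    rw [hcov] at hyU
    simp only [TopologicalSpace.Opens.mem_iSup] at hyU
    obtain ⟨W, hW, hyW⟩ := hyU
    obtain ⟨q, hq⟩ := W.2.range_fromSpec.ge hyW
    refine ⟨PrimeSpectrum.comap (Pi.evalRingHom B ⟨W, hW⟩) q, hU.fromSpec.isOpenEmbedding.injective ?_⟩
    rw [← hy, ← hq, ← Scheme.Hom.comp_apply, ← hU.SpecMap_appLE_fromSpec g W.2 (hle ⟨W, hW⟩), Scheme.Hom.comp_apply]
    rfl
  have hI : IsKIdeal κ ((RingHom.ker (i.app U).hom).map (algebraMap Γ(X, U) (∀ W, B W))) := by
    refine isKIdeal_pi B _ fun W => ?_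
    obtain ⟨h1, h2⟩ := KoszulChart.baseChange i g i' g' hsq hU W.1.2 (hle W)
    have := isKIdeal_ker hκ i' hi' W.1.2
    rw [h2] at this
    exact this
  have hmemiff : ∀ a : Γ(X, U), i z ∈ X.basicOpen a ↔ a ∉ (hU.primeIdealOf ⟨i z, hz⟩).asIdeal := fun a => by
    conv_lhs => rw [show i z = hU.fromSpec (hU.primeIdealOf ⟨i z, hz⟩) from (hU.fromSpec_primeIdealOf ⟨i z, hz⟩).symm]
    show hU.primeIdealOf ⟨i z, hz⟩ ∈ hU.fromSpec ⁻¹ᵁ X.basicOpen a ↔ _
    rw [hU.fromSpec_preimage_basicOpen]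
    rfl
  have hp : RingHom.ker (i.app U).hom ≤ (hU.primeIdealOf ⟨i z, hz⟩).asIdeal := by
    intro a ha
    by_contra hna
    have hmem : i z ∈ X.basicOpen a := (hmemiff a).2 hna
    have h1 : z ∈ i ⁻¹ᵁ X.basicOpen a := hmem
    rw [Scheme.preimage_basicOpen, show i.app U a = 0 from ha, Scheme.basicOpen_zero] at h1
    exact h1
  obtain ⟨a, ha, r, l, hl, hle'⟩ :=
    isKIdeal_of_faithfullyFlat (B := ∀ W, B W) _ hI (hU.primeIdealOf ⟨i z, hz⟩) hp
  let := (X.presheaf.map (homOfLE (X.basicOpen_le a)).op).hom.toAlgebra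
  have : IsLocalization.Away a Γ(X, X.basicOpen a) := hU.isLocalization_basicOpen a
  obtain ⟨ss, hss, hkss⟩ := exists_away_model a (Localization.Away a) Γ(X, X.basicOpen a) _ l hl hle'
  obtain ⟨h1, h2⟩ := KoszulChart.restrict i hU (hU.basicOpen a) (X.basicOpen_le a)
  refine ⟨⟨_, hU.basicOpen a⟩, (hmemiff a).2 ha, h1, List.ofFn ss, (seq_ofFn_iff hκ ss).2 hss, ?_⟩
  rw [h2]
  exact hkss.trans (congrArg Ideal.span (Set.ext fun x => by simp))

end Groth.Agent.CAlgH.KindScheme
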