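import Groth.Agent.CAlgH.KoszulH1
import Groth.Agent.CAlgH.CIOpen
import Groth.Agent.CAlgH3.ArtinRegular
import Mathlib.RingTheory.Flat.Localization
import Mathlib.RingTheory.Localization.LocalizationLocalization

/-!
# Lifting Koszul regular sequences over Artinian local rings
-/

universe u

set_option autoImplicit false
set_option backward.isDefEq.respectTransparency false

open RingTheory.Sequence IsLocalRing

namespace Groth.Agent.CAlgH.KoszulArtin

open KoszulRegular

variable {A : Type u} [CommRing A] [IsLocalRing A] [IsArtinianRing A] {R : Type u} [CommRing R] [Algebra A R]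
  [IsNoetherianRing R] [Module.Flat A R] {I : Ideal A} {n : ℕ}

theorem isNilpotent_of_mem_map (hI : I ≠ ⊤) {x : R} (hx : x ∈ I.map (algebraMap A R)) : IsNilpotent x := by
  obtain ⟨m, hm⟩ := IsArtinianRing.isNilpotent_jacobson_bot (R := A)
  rw [IsLocalRing.jacobson_eq_maximalIdeal ⊥ bot_ne_top] at hm
  refine ⟨m, ?_⟩
  have h1 := Ideal.pow_mem_pow hx m
  rw [← Ideal.map_pow] at h1
  have h2 := Ideal.map_mono ((Ideal.pow_right_mono (le_maximalIdeal hI) m).trans hm.le) h1
  simpa using h2

theorem isWeaklyRegular_localization (hI : I ≠ ⊤) {f : Fin n → R ⧸ I.map (algebraMap A R)} (hf : KReg f)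
    (f' : Fin n → R) (hff : ∀ i, Ideal.Quotient.mk _ (f' i) = f i) (q : Ideal R) [q.IsPrime]
    (hq : Ideal.span (Set.range f') ≤ q) :
    IsWeaklyRegular (Localization.AtPrime q) (List.ofFn fun i => algebraMap R (Localization.AtPrime q) (f' i)) := by
  let S := Localization.AtPrime q
  let J := I.map (algebraMap A R)
  have : Module.Flat A S := by
    have : Module.Flat R S := IsLocalization.flat S q.primeCompl
    exact Module.Flat.trans A R S
  rw [CAlgH3.weaklyRegular_iff_mod (A := A) hI _ S]
  let T := S ⧸ I.map (algebraMap A S)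
  have hJq : J ≤ q := fun x hx => by
    obtain ⟨m, hm⟩ := isNilpotent_of_mem_map hI hx
    exact ‹q.IsPrime›.mem_of_pow_mem m (hm ▸ q.zero_mem)
  let φ : R ⧸ J →+* T := Ideal.Quotient.lift J ((Ideal.Quotient.mk _).comp (algebraMap R S)) fun x hx => by
    rw [RingHom.comp_apply, Ideal.Quotient.eq_zero_iff_mem,
      show I.map (algebraMap A S) = J.map (algebraMap R S) by rw [Ideal.map_map, ← IsScalarTower.algebraMap_eq]]
    exact Ideal.mem_map_of_mem _ hx
  have hflat : φ.Flat := by
    letI : Algebra (R ⧸ J) T := φ.toAlgebra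
    have e : J.map (algebraMap R S) = I.map (algebraMap A S) := by rw [Ideal.map_map, ← IsScalarTower.algebraMap_eq]
    have hloc : IsLocalization (q.primeCompl.map (Ideal.Quotient.mk J)) T := by
      refine IsLocalization.of_surjective q.primeCompl S (Ideal.Quotient.mk J) Ideal.Quotient.mk_surjective
        (Ideal.Quotient.mk _) Ideal.Quotient.mk_surjective (RingHom.ext fun x => rfl) ?_
      rw [Ideal.mk_ker, Ideal.mk_ker, e]
    exact IsLocalization.flat T (q.primeCompl.map (Ideal.Quotient.mk J))
  have hK : KReg fun i => Ideal.Quotient.mk (I.map (algebraMap A S)) (algebraMap R S (f' i)) := by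
    have := KindBasic.SeqF.map (k := .koszul) hflat hf
    simp only [← hff] at this
    exact this
  have : Nontrivial T := Ideal.Quotient.nontrivial_iff.2 (ne_top_of_le_ne_top (maximalIdeal.isMaximal S).ne_top (by
    rw [show I.map (algebraMap A S) = J.map (algebraMap R S) by rw [Ideal.map_map, ← IsScalarTower.algebraMap_eq],
      ← Localization.AtPrime.map_eq_maximalIdeal]
    exact Ideal.map_mono hJq))
  have hw : IsWeaklyRegular T (List.ofFn fun i => algebraMap S T (algebraMap R S (f' i))) := by
    refine KoszulH1.isWeaklyRegular_of_kreg (fun i => ?_) hK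
    have : IsLocalRing T := IsLocalRing.of_surjective' _ Ideal.Quotient.mk_surjective
    rw [IsLocalRing.jacobson_eq_maximalIdeal ⊥ bot_ne_top, IsLocalRing.mem_maximalIdeal, mem_nonunits_iff]
    intro hu
    have : IsLocalHom (Ideal.Quotient.mk (I.map (algebraMap A S))) := IsLocalHom.of_surjective _ Ideal.Quotient.mk_surjective
    have hu' := (isUnit_map_iff (Ideal.Quotient.mk (I.map (algebraMap A S))) _).1 hu
    exact (IsLocalization.AtPrime.isUnit_to_map_iff S q _).1 hu' (hq (Ideal.subset_span ⟨i, rfl⟩))
  rw [show (List.ofFn fun i => algebraMap S T (algebraMap R S (f' i))) =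
    (List.ofFn fun i => algebraMap R S (f' i)).map (algebraMap S T) by rw [List.map_ofFn]; rfl,
    isWeaklyRegular_map_algebraMap_iff T T] at hw
  exact (LinearEquiv.isWeaklyRegular_congr (Submodule.quotEquivOfEq _ _ (by rw [smul_eq_mul, Ideal.mul_top])) _).1 hw

theorem flat_localization (hI : I ≠ ⊤) {f : Fin n → R ⧸ I.map (algebraMap A R)} (hf : KReg f)
    (f' : Fin n → R) (hff : ∀ i, Ideal.Quotient.mk _ (f' i) = f i) (q : Ideal R) [q.IsPrime] :
    Module.Flat A (Localization.AtPrime q ⧸
      (Ideal.span (Set.range f')).map (algebraMap R (Localization.AtPrime q))) := by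
  let S := Localization.AtPrime q
  let K := Ideal.span (Set.range f')
  by_cases hle : K ≤ q
  · have : Module.Flat R S := IsLocalization.flat S q.primeCompl
    have : Module.Flat A S := Module.Flat.trans A R S
    have h2 := CAlgH3.flat_quotient_of_weaklyRegular (A := A) _ S (isWeaklyRegular_localization hI hf f' hff q hle)
    have e : K.map (algebraMap R S) = Ideal.ofList (List.ofFn fun i => algebraMap R S (f' i)) := by
      rw [Ideal.map_span, ← Set.range_comp]
      exact congrArg Ideal.span (Set.ext fun x => by simp)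
    rw [smul_eq_mul, Ideal.mul_top, ← e] at h2
    exact h2
  · have : Subsingleton (S ⧸ K.map (algebraMap R S)) := Ideal.Quotient.subsingleton_iff.2 (by
      obtain ⟨x, hx, hxq⟩ := SetLike.not_le_iff_exists.1 hle
      exact Ideal.eq_top_of_isUnit_mem _ (Ideal.mem_map_of_mem _ hx)
        (IsLocalization.map_units S (⟨x, hxq⟩ : q.primeCompl)))
    infer_instance

omit [IsLocalRing A] [IsArtinianRing A] [IsNoetherianRing R] [Module.Flat A R] in
set_option backward.isDefEq.respectTransparency true in
theorem flat_quotient_of_localizations (K : Ideal R)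
    (h : ∀ (q : Ideal R) [q.IsMaximal], Module.Flat A
      (Localization.AtPrime q ⧸ K.map (algebraMap R (Localization.AtPrime q)))) : Module.Flat A (R ⧸ K) := by
  refine Module.flat_of_isLocalized_maximal (R := A) R (R ⧸ K)
    (fun q _ => Localization.AtPrime q ⧸ Submodule.localized' (Localization.AtPrime q) q.primeCompl
      (Algebra.linearMap R (Localization.AtPrime q)) K)
    (fun q _ => Submodule.toLocalizedQuotient' (Localization.AtPrime q) q.primeCompl
      (Algebra.linearMap R (Localization.AtPrime q)) K)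
    fun q hq => ?_
  rw [Ideal.localized'_eq_map]
  exact h q

theorem flat_and_kreg_of_lift (hI : I ≠ ⊤) {f : Fin n → R ⧸ I.map (algebraMap A R)} (hf : KReg f)
    (f' : Fin n → R) (hff : ∀ i, Ideal.Quotient.mk _ (f' i) = f i) :
    Module.Flat A (R ⧸ Ideal.span (Set.range f')) ∧ KReg f' :=
  ⟨flat_quotient_of_localizations _ fun q _ => flat_localization hI hf f' hff q,
    kreg_of_local f' fun q _ hle =>
      KoszulH1.kreg_of_isWeaklyRegular (isWeaklyRegular_localization hI hf f' hff q hle)⟩

omit [IsLocalRing A] [IsArtinianRing A] [IsNoetherianRing R] [Module.Flat A R] in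
theorem eq_span_of_flat_quotient (hnil : IsNilpotent I) (J : Ideal R) [Module.Flat A (R ⧸ J)]
    (f' : Fin n → R) (hf' : ∀ i, f' i ∈ J)
    (hJ : J.map (Ideal.Quotient.mk (I.map (algebraMap A R))) ≤
      (Ideal.span (Set.range f')).map (Ideal.Quotient.mk (I.map (algebraMap A R)))) :
    J = Ideal.span (Set.range f') := by
  obtain ⟨m, hm⟩ := hnil
  have hle : Ideal.span (Set.range f') ≤ J := Ideal.span_le.2 (by rintro _ ⟨i, rfl⟩; exact hf' i)
  have hstep : ∀ k, J ≤ Ideal.span (Set.range f') ⊔ I.map (algebraMap A R) ^ k * J := by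
    intro k
    induction k with
    | zero => simp
    | succ k ih =>
      have h1 : J ≤ Ideal.span (Set.range f') ⊔ I.map (algebraMap A R) * J := by
        intro x hx
        have h2 := hJ (Ideal.mem_map_of_mem _ hx)
        rw [Ideal.mem_map_iff_of_surjective _ Ideal.Quotient.mk_surjective] at h2
        obtain ⟨y, hy, hyx⟩ := h2
        have h3 : x - y ∈ I.map (algebraMap A R) := Ideal.Quotient.eq.1 hyx.symm
        exact Submodule.mem_sup.2 ⟨y, hy, x - y,
          CIOpen.mem_map_mul_of_flat_quotient I J (sub_mem hx (hle hy)) h3, add_sub_cancel y x⟩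
      calc J ≤ Ideal.span (Set.range f') ⊔ I.map (algebraMap A R) ^ k * J := ih
        _ ≤ Ideal.span (Set.range f') ⊔ I.map (algebraMap A R) ^ k *
              (Ideal.span (Set.range f') ⊔ I.map (algebraMap A R) * J) := sup_le_sup le_rfl (Ideal.mul_mono le_rfl h1)
        _ ≤ _ := by
          rw [Ideal.mul_sup, ← sup_assoc, pow_succ, mul_assoc]
          exact sup_le_sup (sup_le le_rfl Ideal.mul_le_right) le_rfl
  refine le_antisymm ((hstep m).trans ?_) hle
  rw [← Ideal.map_pow, hm, Ideal.zero_eq_bot, Ideal.map_bot, Ideal.bot_mul, sup_bot_eq]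

end Groth.Agent.CAlgH.KoszulArtin
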