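import Groth.Agent.CAlgH.KoszulRegular
import Groth.Agent.FlatCrit.Tor
import Groth.Agent.DCat.KFlatModule
import Groth.Agent.DRingLib.TorDimAmp
import Mathlib

/-!
# Koszul regular sequences with flat quotient lift along square-zero ideals
-/

set_option autoImplicit false

universe u

open TensorProduct Function

namespace Groth.Agent.CAlgH.KoszulSquareZero

variable {A : Type u} [CommRing A]

/-- A submodule of a flat module with flat quotient is flat. -/
theorem flat_submodule {G : Type u} [AddCommGroup G] [Module A G] [Module.Flat A G] (N : Submodule A G)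
    [Module.Flat A (G ⧸ N)] : Module.Flat A N := by
  rw [Module.Flat.iff_lTensor_injective']
  intro I
  have h1 : Injective (LinearMap.rTensor I N.subtype) := by
    rw [← LinearMap.lTensor_inj_iff_rTensor_inj]
    exact DCat.lTensor_injective_of_flat_quotient I (Submodule.injective_subtype N) N.mkQ_surjective
      (LinearMap.exact_subtype_mkQ N)
  have h2 : Injective (I.subtype.lTensor G) := Module.Flat.lTensor_preserves_injective_linearMap _ Subtype.val_injective
  have h3 : (N.subtype.rTensor A) ∘ₗ (I.subtype.lTensor N) = (I.subtype.lTensor G) ∘ₗ (N.subtype.rTensor I) := by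
    rw [LinearMap.rTensor_comp_lTensor, LinearMap.lTensor_comp_rTensor]
  exact Injective.of_comp (f := N.subtype.rTensor A) (by rw [← LinearMap.coe_comp, h3]; exact h2.comp h1)

variable (J : Ideal A)

/-- Reduction of a map modulo `J`. -/
noncomputable def red {M N : Type u} [AddCommGroup M] [Module A M] [AddCommGroup N] [Module A N] (f : M →ₗ[A] N) :
    (M ⧸ J • (⊤ : Submodule A M)) →ₗ[A ⧸ J] N ⧸ J • (⊤ : Submodule A N) :=
  LinearMap.extendScalarsOfSurjective (S := A ⧸ J) Ideal.Quotient.mk_surjective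
    (Submodule.mapQ _ _ f (by
      rw [← Submodule.map_le_iff_le_comap, Submodule.map_smul'']
      exact Submodule.smul_mono le_rfl le_top))

theorem red_mk {M N : Type u} [AddCommGroup M] [Module A M] [AddCommGroup N] [Module A N] (f : M →ₗ[A] N) (x : M) :
    red J f (Submodule.Quotient.mk x) = Submodule.Quotient.mk (f x) := rfl

theorem flat_reduction (M : Type u) [AddCommGroup M] [Module A M] [Module.Flat A M] :
    Module.Flat (A ⧸ J) (M ⧸ J • (⊤ : Submodule A M)) :=
  Module.Flat.of_linearEquiv
    ((TensorProduct.quotTensorEquivQuotSMul M J).extendScalarsOfSurjective (S := A ⧸ J) Ideal.Quotient.mk_surjective).symm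

variable {F : ℕ → Type u} [∀ p, AddCommGroup (F p)] [∀ p, Module A (F p)] [∀ p, Module.Flat A (F p)]
  (d : ∀ p, F (p + 1) →ₗ[A] F p)

/-- A complex of flat modules, acyclic modulo a square-zero ideal with flat `H₀`, is acyclic with flat `H₀`. -/
theorem main (hJ : J * J = ⊥) (hd : ∀ p x, d p (d (p + 1) x) = 0)
    (hex : ∀ p (x : F (p + 1)), d p x ∈ J • (⊤ : Submodule A (F p)) →
      ∃ y, x - d (p + 1) y ∈ J • (⊤ : Submodule A (F (p + 1))))
    (hZ : Module.Flat (A ⧸ J) ((F 0 ⧸ LinearMap.range (d 0)) ⧸ J • (⊤ : Submodule A (F 0 ⧸ LinearMap.range (d 0))))) :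
    (∀ p, Exact (d (p + 1)) (d p)) ∧ Module.Flat A (F 0 ⧸ LinearMap.range (d 0)) := by
  let G : ℕ → Type u := fun p => F p ⧸ J • (⊤ : Submodule A (F p))
  haveI hG : ∀ p, Module.Flat (A ⧸ J) (G p) := fun p => flat_reduction J (F p)
  let e : ∀ p, G (p + 1) →ₗ[A ⧸ J] G p := fun p => red J (d p)
  have hexG : ∀ p, Exact (e (p + 1)) (e p) := fun p => by
    intro y
    obtain ⟨x, rfl⟩ := Submodule.Quotient.mk_surjective _ y
    constructor
    · intro h
      obtain ⟨y, hy⟩ := hex p x ((Submodule.Quotient.mk_eq_zero _).1 h)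
      exact ⟨Submodule.Quotient.mk y, ((Submodule.Quotient.eq _).2 hy).symm⟩
    · rintro ⟨w, hw⟩
      obtain ⟨w, rfl⟩ := Submodule.Quotient.mk_surjective _ w
      rw [← hw]
      show Submodule.Quotient.mk (d p (d (p + 1) w)) = _
      rw [hd]; rfl
  -- the cokernels are flat
  let q0 : F 0 →ₗ[A] F 0 ⧸ LinearMap.range (d 0) := (LinearMap.range (d 0)).mkQ
  have hcoker : ∀ p, Module.Flat (A ⧸ J) (G p ⧸ LinearMap.range (e p)) := fun p => by
    induction p with
    | zero =>
      have hs : Surjective (red J q0) := fun y => by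
        obtain ⟨y, rfl⟩ := Submodule.Quotient.mk_surjective _ y
        obtain ⟨y, rfl⟩ := Submodule.Quotient.mk_surjective _ y
        exact ⟨Submodule.Quotient.mk y, rfl⟩
      have hk : LinearMap.ker (red J q0) = LinearMap.range (e 0) := by
        ext y
        obtain ⟨y, rfl⟩ := Submodule.Quotient.mk_surjective _ y
        rw [LinearMap.mem_ker, red_mk, Submodule.Quotient.mk_eq_zero, LinearMap.mem_range]
        constructor
        · intro h
          have h' : q0 y ∈ (J • (⊤ : Submodule A (F 0))).map q0 := by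
            rw [Submodule.map_smul'', Submodule.map_top, Submodule.range_mkQ]; exact h
          obtain ⟨z, hz, hzy⟩ := h'
          obtain ⟨w, hw⟩ := (Submodule.Quotient.eq (LinearMap.range (d 0))).1 hzy
          refine ⟨Submodule.Quotient.mk (-w), (Submodule.Quotient.eq _).2 ?_⟩
          rw [map_neg, hw, neg_sub, sub_sub_cancel_left]
          exact neg_mem hz
        · rintro ⟨w, hw⟩
          obtain ⟨w, rfl⟩ := Submodule.Quotient.mk_surjective _ w
          have h1 := (Submodule.Quotient.eq _).1 hw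
          have h2 : q0 (d 0 w - y) ∈ (J • (⊤ : Submodule A (F 0))).map q0 := Submodule.mem_map_of_mem h1
          rw [Submodule.map_smul'', Submodule.map_top, Submodule.range_mkQ, map_sub,
            show q0 (d 0 w) = 0 from (Submodule.Quotient.mk_eq_zero _).2 ⟨w, rfl⟩, zero_sub, neg_mem_iff] at h2
          exact h2
      exact Module.Flat.of_linearEquiv ((Submodule.quotEquivOfEq _ _ hk.symm).trans
        (LinearMap.quotKerEquivOfSurjective (red J q0) hs))
    | succ p ih =>
      haveI := ih
      haveI : Module.Flat (A ⧸ J) (LinearMap.range (e p)) := flat_submodule _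
      exact Module.Flat.of_linearEquiv ((Submodule.quotEquivOfEq _ _ (LinearMap.exact_iff.1 (hexG p)).symm).trans
        (e p).quotKerEquivRange)
  -- `J` as a module over the quotient
  have hJt : Module.IsTorsionBySet A J (J : Set A) := fun x r => Subtype.ext (by
    have : (r : A) * (x : A) ∈ J * J := Ideal.mul_mem_mul r.2 x.2
    rw [hJ, Ideal.mem_bot] at this
    exact this)
  letI : Module (A ⧸ J) J := hJt.module
  haveI : IsScalarTower A (A ⧸ J) J := hJt.isScalarTower
  haveI hc : ∀ (M : Type u) [AddCommGroup M] [Module A M],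
      TensorProduct.CompatibleSMul A (A ⧸ J) (M ⧸ J • (⊤ : Submodule A M)) J := fun M _ _ => ⟨fun r m n => by
    obtain ⟨r, rfl⟩ := Ideal.Quotient.mk_surjective r
    rw [← Ideal.Quotient.algebraMap_eq, algebraMap_smul, algebraMap_smul, TensorProduct.smul_tmul]⟩
  let T : ∀ M : Type u, ∀ [AddCommGroup M] [Module A M],
      M ⊗[A] J →ₗ[A] (M ⧸ J • (⊤ : Submodule A M)) ⊗[A ⧸ J] J := fun M _ _ =>
    ((TensorProduct.equivOfCompatibleSMul (R := A) (A := A ⧸ J) (S := A) (M := M ⧸ J • (⊤ : Submodule A M))
      (N := J)).symm.toLinearMap) ∘ₗ ((J • (⊤ : Submodule A M)).mkQ.rTensor J)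
  have hT : ∀ (M : Type u) [AddCommGroup M] [Module A M] (m : M) (j : J),
      T M (m ⊗ₜ j) = (Submodule.Quotient.mk m) ⊗ₜ[A ⧸ J] j := fun M _ _ m j => rfl
  have hTi : ∀ (M : Type u) [AddCommGroup M] [Module A M], Injective (T M) := fun M _ _ => by
    simp only [T, LinearMap.coe_comp, LinearEquiv.coe_coe]
    refine (LinearEquiv.injective _).comp ?_
    rw [injective_iff_map_eq_zero]
    intro t ht
    obtain ⟨s, rfl⟩ := ((rTensor_exact J (LinearMap.exact_subtype_mkQ (J • (⊤ : Submodule A M)))
      (Submodule.mkQ_surjective _)) t).1 ht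
    clear ht
    induction s using TensorProduct.induction_on with
    | zero => rw [map_zero]
    | tmul x j =>
      rw [LinearMap.rTensor_tmul]
      obtain ⟨x, hx⟩ := x
      show x ⊗ₜ[A] j = 0
      refine Submodule.smul_induction_on hx (fun r hr y _ => ?_) (fun a b ha hb => ?_)
      · rw [TensorProduct.smul_tmul, show r • j = 0 from @hJt j ⟨r, hr⟩, TensorProduct.tmul_zero]
      · rw [TensorProduct.add_tmul, ha, hb, add_zero]
    | add a b ha hb => rw [map_add, ha, hb, add_zero]
  have hTs : ∀ (M : Type u) [AddCommGroup M] [Module A M], Surjective (T M) := fun M _ _ => by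
    simp only [T, LinearMap.coe_comp, LinearEquiv.coe_coe]
    exact (LinearEquiv.surjective _).comp (LinearMap.rTensor_surjective _ (Submodule.mkQ_surjective _))
  have hnat : ∀ p (t : F (p + 1) ⊗[A] J), T (F p) ((d p).rTensor J t) = (e p).rTensor J (T (F (p + 1)) t) := by
    intro p t
    induction t using TensorProduct.induction_on with
    | zero => simp only [map_zero]
    | tmul x j => rw [LinearMap.rTensor_tmul, hT, hT]; rfl
    | add a b ha hb => simp only [map_add, ha, hb]
  -- multiplication
  let μ : ∀ M : Type u, ∀ [AddCommGroup M] [Module A M], M ⊗[A] J →ₗ[A] M := fun M _ _ =>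
    (TensorProduct.rid A M).toLinearMap ∘ₗ J.subtype.lTensor M
  have hμi : ∀ p, Injective (μ (F p)) := fun p => by
    simp only [μ, LinearMap.coe_comp, LinearEquiv.coe_coe]
    exact (LinearEquiv.injective _).comp (Module.Flat.lTensor_preserves_injective_linearMap _ Subtype.val_injective)
  have hμnat : ∀ (M N : Type u) [AddCommGroup M] [Module A M] [AddCommGroup N] [Module A N] (g : M →ₗ[A] N)
      (t : M ⊗[A] J), μ N (g.rTensor J t) = g (μ M t) := by
    intro M N _ _ _ _ g t
    induction t using TensorProduct.induction_on with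
    | zero => simp only [map_zero]
    | tmul x j => simp [μ]
    | add a b ha hb => simp only [map_add, ha, hb]
  have hμs : ∀ (M : Type u) [AddCommGroup M] [Module A M], ∀ x ∈ J • (⊤ : Submodule A M), ∃ t, μ M t = x := by
    intro M _ _ x hx
    refine Submodule.smul_induction_on hx (fun r hr y _ => ⟨y ⊗ₜ ⟨r, hr⟩, by simp [μ]⟩) ?_
    rintro a b ⟨s, rfl⟩ ⟨t, rfl⟩
    exact ⟨s + t, map_add _ _ _⟩
  refine ⟨fun p x => ⟨fun hx => ?_, fun ⟨y, hy⟩ => hy ▸ hd p y⟩, ?_⟩
  · obtain ⟨y, hy⟩ := hex p x (by rw [hx]; exact zero_mem _)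
    obtain ⟨t, ht⟩ := hμs _ _ hy
    have h1 : (d p).rTensor J t = 0 := hμi p (by rw [hμnat, ht, map_sub, hx, hd, sub_zero, map_zero])
    have h2 : (e p).rTensor J (T (F (p + 1)) t) = 0 := by rw [← hnat, h1, map_zero]
    haveI := hcoker p
    obtain ⟨s, hs⟩ := (DRingLib.exact_rTensor_of_flat_coker (e (p + 1)) (e p) (LinearMap.range (e p)).mkQ
      (Submodule.mkQ_surjective _) (hexG p) (LinearMap.exact_map_mkQ_range _) J _).1 h2
    obtain ⟨s, rfl⟩ := hTs _ s
    rw [← hnat] at hs
    refine ⟨y + μ _ s, ?_⟩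
    rw [map_add, ← hμnat, hTi _ hs, ht, add_sub_cancel]
  · let Z := F 0 ⧸ LinearMap.range (d 0)
    haveI := hZ
    haveI : Module.Flat (A ⧸ J) ((A ⧸ J) ⊗[A] Z) := Module.Flat.of_linearEquiv
      ((TensorProduct.quotTensorEquivQuotSMul Z J).extendScalarsOfSurjective (S := A ⧸ J) Ideal.Quotient.mk_surjective)
    refine FlatCrit.flat_of_isNilpotent (I := J) ?_ (FlatCrit.quotFlat_of_flat J inferInstance)
      ⟨2, by rw [pow_two]; exact hJ⟩
    have hμZ : Injective (μ Z) := by
      rw [injective_iff_map_eq_zero]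
      intro t ht
      obtain ⟨t, rfl⟩ := LinearMap.rTensor_surjective J (Submodule.mkQ_surjective (LinearMap.range (d 0))) t
      rw [hμnat] at ht
      obtain ⟨y, hy⟩ := (Submodule.Quotient.mk_eq_zero _).1 ht
      obtain ⟨w, hw⟩ := hex 0 y (by
        rw [hy]
        show μ (F 0) t ∈ _
        clear hy ht
        induction t using TensorProduct.induction_on with
        | zero => rw [map_zero]; exact zero_mem _
        | tmul x j =>
          simp only [μ, LinearMap.comp_apply, LinearMap.lTensor_tmul, Submodule.subtype_apply,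
            LinearEquiv.coe_coe, TensorProduct.rid_tmul]
          exact Submodule.smul_mem_smul j.2 trivial
        | add a b ha hb => rw [map_add]; exact add_mem ha hb)
      obtain ⟨s, hs⟩ := hμs _ _ hw
      have h1 : (d 0).rTensor J s = t := hμi 0 (by rw [hμnat, hs, map_sub, hd, sub_zero, hy])
      rw [← h1, ← LinearMap.rTensor_comp_apply,
        show (LinearMap.range (d 0)).mkQ ∘ₗ d 0 = 0 from LinearMap.ext fun z =>
          (Submodule.Quotient.mk_eq_zero _).2 ⟨z, rfl⟩, LinearMap.rTensor_zero, LinearMap.zero_apply]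
    rw [← LinearMap.lTensor_inj_iff_rTensor_inj]
    exact Injective.of_comp hμZ

end Groth.Agent.CAlgH.KoszulSquareZero

namespace Groth.Agent.CAlgH.KoszulSquareZero

open Disc12.Koszul KoszulRegular

/-- Koszul regular sequences with flat quotient lift along square-zero ideals. -/
theorem koszul_lift {A B : Type u} [CommRing A] [CommRing B] [Algebra A B] [Module.Flat A B] (J : Ideal A)
    (hJ : J * J = ⊥) {n : ℕ} (f : Fin n → B)
    (hreg : KReg fun i => Ideal.Quotient.mk (J.map (algebraMap A B)) (f i))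
    (hflat : Module.Flat (A ⧸ J) ((B ⧸ J.map (algebraMap A B)) ⧸
      Ideal.span (Set.range fun i => Ideal.Quotient.mk (J.map (algebraMap A B)) (f i)))) :
    KReg f ∧ Module.Flat A (B ⧸ Ideal.span (Set.range f)) := by
  let JB := J.map (algebraMap A B)
  haveI : ∀ p, Module.Flat A (K B n p) := fun p => Module.Flat.trans A B (K B n p)
  have hker : ∀ p (x : K B n p), x ∈ J • (⊤ : Submodule A (K B n p)) ↔ σp (R := B ⧸ JB) p x = 0 := by
    intro p x
    have h1 : x ∈ J • (⊤ : Submodule A (K B n p)) ↔ x ∈ JB • (⊤ : Submodule B (K B n p)) := by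
      rw [← Submodule.restrictScalars_top A B (K B n p), ← Ideal.smul_restrictScalars, Submodule.restrictScalars_mem]
    have h2 : (Submodule.Quotient.mk x : K B n p ⧸ JB • (⊤ : Submodule B (K B n p))) =
        TensorProduct.quotTensorEquivQuotSMul (K B n p) JB ((1 : B ⧸ JB) ⊗ₜ[B] x) := by
      rw [show (1 : B ⧸ JB) = Ideal.Quotient.mk JB 1 from rfl, TensorProduct.quotTensorEquivQuotSMul_mk_tmul, one_smul]
    rw [h1, ← Submodule.Quotient.mk_eq_zero, h2, LinearEquiv.map_eq_zero_iff,
      ← LinearEquiv.map_eq_zero_iff (baseChangeEquiv (R := B ⧸ JB) (P := B) (n := n) p), baseChangeEquiv_tmul, one_smul]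
  have hsurj : ∀ p, Function.Surjective (σp (R := B ⧸ JB) (n := n) (P := B) p) := by
    intro p y
    obtain ⟨t, rfl⟩ := (baseChangeEquiv (R := B ⧸ JB) (P := B) (n := n) p).surjective y
    induction t using TensorProduct.induction_on with
    | zero => exact ⟨0, by rw [map_zero, map_zero]⟩
    | tmul r x =>
      obtain ⟨r, rfl⟩ := Ideal.Quotient.mk_surjective r
      exact ⟨r • x, by rw [baseChangeEquiv_tmul, map_smul]; exact (algebraMap_smul (B ⧸ JB) r _).symm⟩
    | add a b ha hb =>
      obtain ⟨u, hu⟩ := ha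
      obtain ⟨v, hv⟩ := hb
      exact ⟨u + v, by rw [map_add, map_add, hu, hv]⟩
  have hcomm : ∀ p (x : K B n (p + 1)), σp (R := B ⧸ JB) p (Disc12.Koszul.d f p x) =
      Disc12.Koszul.d (fun i => Ideal.Quotient.mk JB (f i)) p (σp (p + 1) x) := fun p x => σp_d f p x
  let e : B →ₗ[A] K B n 0 := (e0 (R := B) (n := n)).restrictScalars A
  have he : Function.Bijective e := ⟨fun a b h => (ExteriorAlgebra.algebraMap_inj (Fin n → B) a b).1
    (congrArg Subtype.val h), e0_surjective⟩
  let eqv : B ≃ₗ[A] K B n 0 := LinearEquiv.ofBijective e he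
  have hrange : LinearMap.range ((Disc12.Koszul.d f 0).restrictScalars A) =
      ((Ideal.span (Set.range f)).restrictScalars A).map eqv.toLinearMap := by
    ext x
    have := congrArg (fun S => x ∈ S) (range_d_zero f)
    simp only [eq_iff_iff] at this
    exact this
  let Z : (K B n 0 ⧸ LinearMap.range ((Disc12.Koszul.d f 0).restrictScalars A)) ≃ₗ[A] B ⧸ Ideal.span (Set.range f) :=
    (Submodule.Quotient.equiv _ _ eqv hrange.symm).symm.trans
      (Submodule.Quotient.restrictScalarsEquiv A (Ideal.span (Set.range f)))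
  have main' := main J (F := fun p => K B n p) (fun p => (Disc12.Koszul.d f p).restrictScalars A) hJ
    (fun p x => LinearMap.congr_fun (d_d f p) x)
    (fun p x hx => by
      rw [LinearMap.restrictScalars_apply, hker, hcomm] at hx
      obtain ⟨y, hy⟩ := (hreg p _).1 hx
      obtain ⟨y, rfl⟩ := hsurj _ y
      refine ⟨y, (hker _ _).2 ?_⟩
      rw [map_sub, LinearMap.restrictScalars_apply, hcomm, hy, sub_self])
    (by
      haveI := hflat
      let Q := B ⧸ Ideal.span (Set.range f)
      have hJ' : (J.map (algebraMap A Q)) = JB.map (Ideal.Quotient.mkₐ A (Ideal.span (Set.range f))) :=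
        (Ideal.map_map (algebraMap A B) (Ideal.Quotient.mk _)).symm
      have hK : (Ideal.span (Set.range f)).map (Ideal.Quotient.mkₐ A JB) =
          Ideal.span (Set.range fun i => Ideal.Quotient.mk JB (f i)) := by
        rw [Ideal.map_span]; exact congrArg Ideal.span (Set.range_comp _ _).symm
      let e₁ : (Q ⧸ J.map (algebraMap A Q)) ≃ₐ[A] (B ⧸ JB) ⧸ Ideal.span (Set.range fun i => Ideal.Quotient.mk JB (f i)) :=
        ((Ideal.quotientEquivAlgOfEq A hJ').trans (DoubleQuot.quotQuotEquivCommₐ A (Ideal.span (Set.range f)) JB)).trans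
          (Ideal.quotientEquivAlgOfEq A hK)
      let e₂ : (Q ⧸ J • (⊤ : Submodule A Q)) ≃ₗ[A] Q ⧸ J.map (algebraMap A Q) :=
        (Submodule.quotEquivOfEq _ _ (Ideal.smul_top_eq_map J)).trans
          (Submodule.Quotient.restrictScalarsEquiv A (J.map (algebraMap A Q)))
      refine Module.Flat.of_linearEquiv (((Submodule.Quotient.equiv _ _ Z ?_).trans
        (e₂.trans e₁.toLinearEquiv)).extendScalarsOfSurjective (S := A ⧸ J) Ideal.Quotient.mk_surjective)
      rw [Submodule.map_smul'', Submodule.map_top, LinearEquiv.range])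
  exact ⟨main'.1, haveI := main'.2; Module.Flat.of_linearEquiv Z.symm⟩

theorem result_aux {A B : Type u} [CommRing A] [CommRing B] [Algebra A B] [Module.Flat A B] (J : Ideal A)
    (hJ : J * J = ⊥) (rs : List B)
    (hreg : LCI.IsKoszulRegularSeq (B ⧸ Ideal.map (algebraMap A B) J)
      (rs.map (Ideal.Quotient.mk (Ideal.map (algebraMap A B) J))))
    (hflat : Module.Flat (A ⧸ J) ((B ⧸ Ideal.map (algebraMap A B) J) ⧸
      Ideal.ofList (rs.map (Ideal.Quotient.mk (Ideal.map (algebraMap A B) J))))) :
    LCI.IsKoszulRegularSeq B rs ∧ Module.Flat A (B ⧸ Ideal.ofList rs) := by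
  obtain ⟨n, f, rfl⟩ : ∃ (n : ℕ) (f : Fin n → B), rs = List.ofFn f := ⟨rs.length, rs.get, (List.ofFn_get rs).symm⟩
  have h1 : Ideal.ofList (List.ofFn f) = Ideal.span (Set.range f) :=
    congrArg Ideal.span (Set.ext fun x => List.mem_ofFn)
  rw [List.map_ofFn] at hreg hflat
  have h2 : Ideal.ofList (List.ofFn (Ideal.Quotient.mk (J.map (algebraMap A B)) ∘ f)) =
      Ideal.span (Set.range fun i => Ideal.Quotient.mk (J.map (algebraMap A B)) (f i)) :=
    congrArg Ideal.span (Set.ext fun x => List.mem_ofFn)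
  rw [isKoszulRegularSeq_iff] at hreg ⊢
  rw [h2] at hflat
  rw [h1]
  exact koszul_lift J hJ f hreg hflat

end Groth.Agent.CAlgH.KoszulSquareZero
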