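import Groth.Agent.AdicRing.Basic
import Mathlib

/-!
# Finite separable extensions of complete discretely valued fields are stable under perturbation
-/

set_option autoImplicit false
universe u

open Polynomial IsLocalRing

namespace Groth.Agent.CAlgH.KrasnerDescent

theorem exists_root_of_adic {R S : Type u} [CommRing R] [CommRing S] [Algebra R S] (I : Ideal R)
    [IsAdicComplete I S] (G : S[X]) (m : ℕ) (h0 : G.coeff 0 ∈ (I ^ (m + 1)).map (algebraMap R S))
    (h1 : IsUnit (G.coeff 1)) : ∃ t ∈ (I ^ (m + 1)).map (algebraMap R S), G.eval t = 0 := by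
  obtain ⟨v, hv⟩ := isUnit_iff_exists_inv.1 h1
  let t : ℕ → S := fun k => Nat.rec 0 (fun _ s => s - v * G.eval s) k
  have ht : ∀ k, t k ∈ (I ^ (m + 1)).map (algebraMap R S) ∧ G.eval (t k) ∈ (I ^ (m + 1 + k)).map (algebraMap R S) := by
    intro k
    induction k with
    | zero => exact ⟨zero_mem _, by simpa [t, Polynomial.coeff_zero_eq_eval_zero] using h0⟩
    | succ k ih =>
      obtain ⟨ih1, ih2⟩ := ih
      have hs : t (k + 1) = t k + -(v * G.eval (t k)) := (sub_eq_add_neg _ _ : _)
      have hsm : -(v * G.eval (t k)) ∈ (I ^ (m + 1 + k)).map (algebraMap R S) := neg_mem (Ideal.mul_mem_left _ v ih2)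
      refine ⟨hs ▸ add_mem ih1 (Ideal.map_mono (Ideal.pow_le_pow_right (Nat.le_add_right _ _)) hsm), ?_⟩
      obtain ⟨r, hr⟩ := G.binomExpansion (t k) (-(v * G.eval (t k)))
      rw [hs, hr]
      have hd : 1 - G.derivative.eval (t k) * v ∈ I.map (algebraMap R S) := by
        have h2 : G.derivative.eval (t k) - G.coeff 1 ∈ I.map (algebraMap R S) := by
          rw [show G.coeff 1 = G.derivative.eval 0 by simp [← Polynomial.coeff_zero_eq_eval_zero, Polynomial.coeff_derivative]]
          obtain ⟨q, hq⟩ := Polynomial.sub_dvd_eval_sub (t k) 0 G.derivative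
          rw [hq, sub_zero]
          exact Ideal.mul_mem_right _ _ (Ideal.map_mono (Ideal.pow_le_self (Nat.succ_ne_zero m)) ih1)
        rw [← hv, ← sub_mul, ← neg_sub]
        exact Ideal.mul_mem_right _ _ (neg_mem h2)
      rw [show G.eval (t k) + G.derivative.eval (t k) * -(v * G.eval (t k)) + r * (-(v * G.eval (t k))) ^ 2 =
        (1 - G.derivative.eval (t k) * v) * G.eval (t k) + r * (-(v * G.eval (t k))) ^ 2 by ring]
      refine add_mem ?_ ?_
      · rw [show m + 1 + (k + 1) = 1 + (m + 1 + k) by omega, pow_add, pow_one, Ideal.map_mul]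
        exact Ideal.mul_mem_mul hd ih2
      · refine Ideal.mul_mem_left _ r ?_
        have := Ideal.pow_mem_pow hsm 2
        rw [← Ideal.map_pow, ← pow_mul] at this
        exact Ideal.map_mono (Ideal.pow_le_pow_right (by omega)) this
  have hmem : ∀ (n : ℕ) (x : S), x ∈ (I ^ n • ⊤ : Submodule R S) ↔ x ∈ (I ^ n).map (algebraMap R S) := fun n x => by
    rw [Ideal.smul_top_eq_map, Submodule.restrictScalars_mem]
  have hcau : ∀ {a b : ℕ}, a ≤ b → t b - t a ∈ (I ^ (m + 1 + a)).map (algebraMap R S) := by
    intro a b hab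
    induction b, hab using Nat.le_induction with
    | base => simp
    | succ b hab ih =>
      rw [show t (b + 1) - t a = -(v * G.eval (t b)) + (t b - t a) by show (t b - v * G.eval (t b)) - t a = _; ring]
      exact add_mem (neg_mem (Ideal.mul_mem_left _ v (Ideal.map_mono (Ideal.pow_le_pow_right (by omega)) (ht b).2))) ih
  obtain ⟨T, hT⟩ := IsPrecomplete.prec (I := I) (M := S) inferInstance (f := t) (fun {a b} hab => by
    rw [SModEq.sub_mem, hmem, ← neg_sub]
    exact neg_mem (Ideal.map_mono (Ideal.pow_le_pow_right (by omega)) (hcau hab)))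
  refine ⟨T, ?_, IsHausdorff.haus (I := I) (M := S) inferInstance _ fun n => ?_⟩
  · have := hT (m + 1)
    rw [SModEq.sub_mem, hmem] at this
    simpa using sub_mem (ht (m + 1)).1 this
  · rw [SModEq.sub_mem, sub_zero, hmem]
    have h := hT n
    rw [SModEq.sub_mem, hmem] at h
    obtain ⟨q, hq⟩ := Polynomial.sub_dvd_eval_sub T (t n) G
    rw [show G.eval T = G.eval (t n) + (T - t n) * q by rw [← hq]; ring]
    exact add_mem (Ideal.map_mono (Ideal.pow_le_pow_right (by omega)) (ht n).2)
      (Ideal.mul_mem_right _ _ (by simpa using neg_mem h))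

theorem eval₂_mem_map {R S : Type u} [CommRing R] [CommRing S] [Algebra R S] (J : Ideal R) (P : R[X])
    (hP : ∀ i, P.coeff i ∈ J) (x : S) : Polynomial.aeval x P ∈ J.map (algebraMap R S) := by
  rw [Polynomial.aeval_eq_sum_range]
  refine Ideal.sum_mem _ fun i _ => ?_
  rw [Algebra.smul_def]
  exact Ideal.mul_mem_right _ _ (Ideal.mem_map_of_mem _ (hP i))

variable (R Kh M : Type u) [CommRing R] [IsDomain R] [IsDiscreteValuationRing R]
  [IsAdicComplete (maximalIdeal R) R] [Field Kh] [Algebra R Kh] [IsFractionRing R Kh]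
  [Field M] [Algebra Kh M] [FiniteDimensional Kh M] [Algebra.IsSeparable Kh M]

/-- Krasner-type perturbation: `M` is generated by a root of every monic polynomial close to a suitable one. -/
theorem exists_stable_generator :
    ∃ (n N : ℕ) (f : R[X]), f.Monic ∧ f.natDegree = n ∧ ∀ g : R[X], g.Monic → g.natDegree = n →
      (∀ i, g.coeff i - f.coeff i ∈ maximalIdeal R ^ N) →
      ∃ β : M, minpoly Kh β = g.map (algebraMap R Kh) ∧ Algebra.adjoin Kh {β} = ⊤ := by
  classical
  letI : Algebra R M := ((algebraMap Kh M).comp (algebraMap R Kh)).toAlgebra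
  haveI : IsScalarTower R Kh M := IsScalarTower.of_algebraMap_eq fun _ => rfl
  haveI : FaithfulSMul R M := (faithfulSMul_iff_algebraMap_injective R M).2
    ((algebraMap Kh M).injective.comp (IsFractionRing.injective R Kh))
  let B := integralClosure R M
  haveI : Module.Finite R B := IsIntegralClosure.finite R Kh M B
  haveI : IsAdicComplete (maximalIdeal R) B := AdicRing.isAdicComplete_of_finite (maximalIdeal R) B
  -- an integral generator
  obtain ⟨a₀, ha₀⟩ := Field.exists_primitive_element Kh M
  obtain ⟨r, hr, hint⟩ := IsAlgebraic.exists_integral_multiple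
    ((IsFractionRing.isAlgebraic_iff R Kh M).2 (Algebra.IsAlgebraic.isAlgebraic a₀))
  let α : B := ⟨r • a₀, hint⟩
  have hrK : algebraMap R Kh r ≠ 0 := by simpa using hr
  have hαK : Algebra.adjoin Kh {(α : M)} = ⊤ := by
    have h0 : Algebra.adjoin Kh {a₀} = ⊤ := by
      rw [← IntermediateField.adjoin_simple_toSubalgebra_of_isAlgebraic (Algebra.IsAlgebraic.isAlgebraic a₀), ha₀,
        IntermediateField.top_toSubalgebra]
    rw [eq_top_iff, ← h0, Algebra.adjoin_le_iff, Set.singleton_subset_iff]
    have : a₀ = (algebraMap R Kh r)⁻¹ • (α : M) := by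
      show a₀ = (algebraMap R Kh r)⁻¹ • r • a₀
      rw [← IsScalarTower.algebraMap_smul Kh r a₀, smul_smul, inv_mul_cancel₀ hrK, one_smul]
    rw [this]
    exact Subalgebra.smul_mem _ (Algebra.self_mem_adjoin_singleton Kh _) _
  let f := minpoly R α
  have hαi : IsIntegral R α := Algebra.IsIntegral.isIntegral α
  have hfM : minpoly R (α : M) = f := minpoly.algHom_eq B.val Subtype.val_injective α
  have hfK : minpoly Kh (α : M) = f.map (algebraMap R Kh) := by
    rw [← hfM]
    exact minpoly.isIntegrallyClosed_eq_field_fractions' Kh hint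
  set d : B := Polynomial.aeval α f.derivative with hd
  have hd0 : d ≠ 0 := by
    intro h
    have h2 := (Algebra.IsSeparable.isSeparable Kh (α : M)).aeval_derivative_ne_zero (minpoly.aeval Kh (α : M))
    rw [hfK, Polynomial.derivative_map, Polynomial.aeval_map_algebraMap] at h2
    have h3 := congrArg B.val h
    rw [hd, ← Polynomial.aeval_algHom_apply, map_zero] at h3
    exact h2 h3
  obtain ⟨ϖ, hϖ⟩ := IsDiscreteValuationRing.exists_irreducible R
  have hm : maximalIdeal R = Ideal.span {ϖ} := (IsDiscreteValuationRing.irreducible_iff_uniformizer ϖ).1 hϖ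
  have hpow : ∀ J : Ideal R, J ≠ ⊥ → ∃ e, maximalIdeal R ^ e ≤ J := fun J hJ => by
    obtain ⟨e, he⟩ := IsDiscreteValuationRing.ideal_eq_span_pow_irreducible hJ hϖ
    exact ⟨e, by rw [hm, Ideal.span_singleton_pow, he]⟩
  obtain ⟨e, he⟩ := hpow ((Ideal.span {d}).comap (algebraMap R B))
    (Ideal.comap_ne_bot_of_integral_mem hd0 (Ideal.mem_span_singleton_self d) (Algebra.IsIntegral.isIntegral d))
  have hed : (maximalIdeal R ^ e).map (algebraMap R B) ≤ Ideal.span {d} := Ideal.map_le_iff_le_comap.2 he
  -- `R[α]` has bounded index in `B`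
  set L : Submodule R B := (Algebra.adjoin R {α}).toSubmodule with hL
  have htor : ∀ b : B, ∃ s : R, s ≠ 0 ∧ s • b ∈ L := by
    intro b
    have hb : (b : M) ∈ Algebra.adjoin Kh {(α : M)} := hαK ▸ Algebra.mem_top
    rw [Algebra.adjoin_singleton_eq_range_aeval] at hb
    obtain ⟨P, hP⟩ := hb
    obtain ⟨⟨s, hs⟩, hsP⟩ := IsLocalization.integerNormalization_map_to_map (nonZeroDivisors R) P
    refine ⟨s, nonZeroDivisors.ne_zero hs, ?_⟩
    rw [hL, Subalgebra.mem_toSubmodule, Algebra.adjoin_singleton_eq_range_aeval]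
    refine ⟨IsLocalization.integerNormalization (nonZeroDivisors R) P, Subtype.val_injective ?_⟩
    show B.val (Polynomial.aeval α _) = B.val (s • b)
    rw [← Polynomial.aeval_algHom_apply, map_smul, ← Polynomial.aeval_map_algebraMap Kh, hsP]
    show Polynomial.aeval (α : M) (s • P) = s • (b : M)
    rw [AlgHom.map_smul_of_tower]
    exact congrArg (fun z : M => s • z) hP
  obtain ⟨gs, hgs⟩ := (inferInstance : Module.Finite R B).fg_top
  choose s hs0 hsL using htor
  obtain ⟨c, hc⟩ := hpow (Ideal.span {∏ b ∈ gs, s b}) (by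
    rw [Ne, Ideal.span_singleton_eq_bot, Finset.prod_eq_zero_iff]
    rintro ⟨b, _, hb⟩
    exact hs0 b hb)
  have hcL : (maximalIdeal R ^ c) • (⊤ : Submodule R B) ≤ L := by
    refine (Submodule.smul_mono_left hc).trans ?_
    rw [Submodule.ideal_span_singleton_smul, ← hgs, ← Submodule.span_smul, Submodule.span_le]
    rintro _ ⟨b, hb, rfl⟩
    show (∏ b ∈ gs, s b) • b ∈ L
    obtain ⟨q, hq⟩ := Finset.dvd_prod_of_mem s hb
    rw [hq, mul_comm, mul_smul]
    exact L.smul_mem q (hsL b)
  refine ⟨f.natDegree, e + e + (c + 2), f, minpoly.monic hαi, rfl, fun g hg hdeg hclose => ?_⟩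
  set δ := g - f with hδ
  have hδc : ∀ i, δ.coeff i ∈ maximalIdeal R ^ (e + e + (c + 2)) := fun i => by
    rw [hδ, Polynomial.coeff_sub]; exact hclose i
  have hδ0 : Polynomial.aeval α δ ∈ (maximalIdeal R ^ (e + e + (c + 2))).map (algebraMap R B) := eval₂_mem_map _ _ hδc _
  have hδ1 : Polynomial.aeval α δ.derivative ∈ (maximalIdeal R ^ (e + e + (c + 2))).map (algebraMap R B) :=
    eval₂_mem_map _ _ (fun i => by rw [Polynomial.coeff_derivative]; exact Ideal.mul_mem_right _ _ (hδc _)) _
  have hga : Polynomial.aeval α g = Polynomial.aeval α δ := by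
    rw [hδ, map_sub, minpoly.aeval, sub_zero]
  have hgd : Polynomial.aeval α g.derivative = d + Polynomial.aeval α δ.derivative := by
    rw [hδ, Polynomial.derivative_sub, map_sub]; ring
  obtain ⟨w, hw, hwe⟩ : ∃ w ∈ (maximalIdeal R ^ (c + 2)).map (algebraMap R B), d * d * w = Polynomial.aeval α g := by
    rw [hga, ← Ideal.mem_span_singleton_mul]
    rw [pow_add, pow_add, Ideal.map_mul, Ideal.map_mul] at hδ0
    refine Ideal.mul_mono ?_ le_rfl hδ0
    rw [← Ideal.span_singleton_mul_span_singleton]
    exact Ideal.mul_mono hed hed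
  obtain ⟨w', hw', hwe'⟩ : ∃ w' ∈ (maximalIdeal R).map (algebraMap R B), d * w' = Polynomial.aeval α δ.derivative := by
    rw [← Ideal.mem_span_singleton_mul]
    have h2 : (maximalIdeal R ^ (e + e + (c + 2))).map (algebraMap R B) ≤
        (maximalIdeal R ^ e).map (algebraMap R B) * (maximalIdeal R).map (algebraMap R B) := by
      rw [← Ideal.map_mul, ← pow_succ]
      exact Ideal.map_mono (Ideal.pow_le_pow_right (by omega))
    exact Ideal.mul_mono hed le_rfl (h2 hδ1)
  set Q := Polynomial.taylor α (g.map (algebraMap R B)) with hQ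
  have hQ0 : Q.coeff 0 = d * d * w := by
    rw [hQ, Polynomial.taylor_coeff_zero, Polynomial.eval_map_algebraMap, hwe]
  have hQ1 : Q.coeff 1 = d * (1 + w') := by
    rw [hQ, Polynomial.taylor_coeff_one, Polynomial.derivative_map, Polynomial.eval_map_algebraMap, hgd, ← hwe']
    ring
  let G : B[X] := Polynomial.C w + Polynomial.C (1 + w') * Polynomial.X + Polynomial.X ^ 2 * Q.divX.divX.comp (Polynomial.C d * Polynomial.X)
  obtain ⟨t, ht, htG⟩ := exists_root_of_adic (maximalIdeal R) G (c + 1) (by simpa [G] using hw) (by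
    have hG1 : G.coeff 1 = 1 + w' := by
      simp [G, Polynomial.coeff_X_pow_mul', Polynomial.coeff_one]
    rw [hG1]
    have : (maximalIdeal R).map (algebraMap R B) ≤ Ideal.jacobson ⊥ := by
      haveI : IsAdicComplete ((maximalIdeal R).map (algebraMap R B)) B := (IsAdicComplete.map_algebraMap_iff _ _).mpr inferInstance
      exact IsAdicComplete.le_jacobson_bot _
    simpa [add_comm] using Ideal.mem_jacobson_bot.1 (this hw') 1)
  let β : B := α + d * t
  have hβg : Polynomial.aeval β g = 0 := by
    rw [← Polynomial.eval_map_algebraMap, show β = d * t + α from add_comm _ _, ← Polynomial.taylor_eval, ← hQ]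
    have hQe : Q = Polynomial.C (Q.coeff 0) + Polynomial.X * (Polynomial.C (Q.coeff 1) + Polynomial.X * Q.divX.divX) := by
      conv_lhs => rw [← Polynomial.X_mul_divX_add Q, ← Polynomial.X_mul_divX_add Q.divX, Polynomial.coeff_divX]
      ring
    rw [hQe, hQ0, hQ1]
    have : G.eval t = w + (1 + w') * t + t ^ 2 * Q.divX.divX.eval (d * t) := by simp [G]
    rw [this] at htG
    simp only [Polynomial.eval_add, Polynomial.eval_mul, Polynomial.eval_C, Polynomial.eval_X]
    calc _ = d * d * (w + (1 + w') * t + t ^ 2 * Q.divX.divX.eval (d * t)) := by ring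
      _ = 0 := by rw [htG, mul_zero]
  -- `β` generates
  have hsub : ∀ P : R[X], Polynomial.aeval α P - Polynomial.aeval β P ∈ (maximalIdeal R ^ (c + 1)) • (⊤ : Submodule R B) := by
    intro P
    rw [Ideal.smul_top_eq_map, Submodule.restrictScalars_mem]
    have hd' : α - β ∈ (maximalIdeal R ^ (c + 1)).map (algebraMap R B) := by
      rw [show α - β = -d * t by simp [β]]
      exact Ideal.mul_mem_left _ _ (Ideal.map_mono (Ideal.pow_le_pow_right (by omega)) ht)
    obtain ⟨q, hq⟩ := Polynomial.sub_dvd_eval_sub α β (P.map (algebraMap R B))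
    rw [Polynomial.eval_map_algebraMap, Polynomial.eval_map_algebraMap] at hq
    rw [hq]
    exact Ideal.mul_mem_right _ _ hd'
  have hLle : L ≤ (Algebra.adjoin R {β}).toSubmodule := by
    refine Submodule.le_of_le_smul_of_le_jacobson_bot (I := maximalIdeal R) (hαi.fg_adjoin_singleton)
      (IsLocalRing.maximalIdeal_le_jacobson _) fun x hx => ?_
    rw [hL, Subalgebra.mem_toSubmodule, Algebra.adjoin_singleton_eq_range_aeval] at hx
    obtain ⟨P, rfl⟩ := hx
    refine Submodule.mem_sup.2 ⟨Polynomial.aeval β P, Polynomial.aeval_mem_adjoin_singleton R β,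
      _, ?_, add_sub_cancel (Polynomial.aeval β P) (Polynomial.aeval α P)⟩
    refine (?_ : (maximalIdeal R ^ (c + 1)) • (⊤ : Submodule R B) ≤ maximalIdeal R • L) (hsub P)
    rw [pow_succ', Submodule.mul_smul]
    exact Submodule.smul_mono le_rfl hcL
  have hαβ : α ∈ Algebra.adjoin R {β} := hLle (Algebra.self_mem_adjoin_singleton R α)
  have htop : Algebra.adjoin Kh {(β : M)} = ⊤ := by
    rw [eq_top_iff, ← hαK, Algebra.adjoin_le_iff, Set.singleton_subset_iff]
    rw [Algebra.adjoin_singleton_eq_range_aeval] at hαβ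
    obtain ⟨P, hP⟩ := hαβ
    rw [Algebra.adjoin_singleton_eq_range_aeval]
    refine ⟨P.map (algebraMap R Kh), ?_⟩
    show Polynomial.aeval (β : M) (P.map (algebraMap R Kh)) = (α : M)
    rw [Polynomial.aeval_map_algebraMap, ← hP]
    exact Polynomial.aeval_algHom_apply B.val β P
  refine ⟨β, ?_, htop⟩
  have hroot : Polynomial.aeval (β : M) (g.map (algebraMap R Kh)) = 0 := by
    rw [Polynomial.aeval_map_algebraMap]
    show Polynomial.aeval (B.val β) g = 0
    rw [Polynomial.aeval_algHom_apply, hβg, map_zero]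
  refine (Polynomial.eq_of_monic_of_dvd_of_natDegree_le (minpoly.monic (IsIntegral.of_finite Kh _)) (hg.map _)
    (minpoly.dvd Kh _ hroot) (le_of_eq ?_)).symm
  rw [(hg).natDegree_map, hdeg]
  have h1 : (minpoly Kh (β : M)).natDegree = Module.finrank Kh M := by
    rw [← IntermediateField.adjoin.finrank (IsIntegral.of_finite Kh (β : M)),
      show IntermediateField.adjoin Kh {(β : M)} = ⊤ from IntermediateField.toSubalgebra_injective (by
        rw [IntermediateField.adjoin_simple_toSubalgebra_of_isAlgebraic (Algebra.IsAlgebraic.isAlgebraic _), htop,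
          IntermediateField.top_toSubalgebra]), IntermediateField.finrank_top']
  have h2 : (minpoly Kh (α : M)).natDegree = Module.finrank Kh M := by
    rw [← IntermediateField.adjoin.finrank (IsIntegral.of_finite Kh (α : M)),
      show IntermediateField.adjoin Kh {(α : M)} = ⊤ from IntermediateField.toSubalgebra_injective (by
        rw [IntermediateField.adjoin_simple_toSubalgebra_of_isAlgebraic (Algebra.IsAlgebraic.isAlgebraic _), hαK,
          IntermediateField.top_toSubalgebra]), IntermediateField.finrank_top']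
  rw [h1, ← h2, hfK, (minpoly.monic hαi).natDegree_map]

end Groth.Agent.CAlgH.KrasnerDescent

namespace Groth.Agent.CAlgH.KrasnerDescent

theorem isSeparable_adjoinRoot {K : Type u} [Field K] (g : K[X]) [Fact (Irreducible g)] (hsep : g.Separable) :
    Algebra.IsSeparable K (AdjoinRoot g) := by
  have hne : g ≠ 0 := (Fact.out : Irreducible g).ne_zero
  haveI : FiniteDimensional K (AdjoinRoot g) := (AdjoinRoot.powerBasis hne).finite
  have hroot : IsSeparable K (AdjoinRoot.root g) :=
    hsep.of_dvd (minpoly.dvd K _ (by simp [AdjoinRoot.aeval_eq]))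
  haveI := (IntermediateField.isSeparable_adjoin_simple_iff_isSeparable K (AdjoinRoot g)).2 hroot
  have htop : IntermediateField.adjoin K {AdjoinRoot.root g} = ⊤ := by
    apply IntermediateField.toSubalgebra_injective
    rw [IntermediateField.adjoin_simple_toSubalgebra_of_isAlgebraic (Algebra.IsAlgebraic.isAlgebraic _),
      IntermediateField.top_toSubalgebra, AdjoinRoot.adjoinRoot_eq_top]
  exact AlgEquiv.Algebra.isSeparable ((IntermediateField.equivOfEq htop).trans IntermediateField.topEquiv)

open TensorProduct in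
theorem nonempty_baseChange_adjoinRoot {K Kh M : Type u} [Field K] [Field Kh] [Field M] [Algebra K Kh] [Algebra Kh M]
    [FiniteDimensional Kh M] (g : K[X]) [Fact (Irreducible g)] (β : M) (hmin : g.map (algebraMap K Kh) = minpoly Kh β)
    (htop : Algebra.adjoin Kh {β} = ⊤) : Nonempty ((Kh ⊗[K] AdjoinRoot g) ≃ₐ[Kh] M) := by
  have hne : g ≠ 0 := (Fact.out : Irreducible g).ne_zero
  haveI : FiniteDimensional K (AdjoinRoot g) := (AdjoinRoot.powerBasis hne).finite
  letI : Algebra K M := ((algebraMap Kh M).comp (algebraMap K Kh)).toAlgebra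
  haveI : IsScalarTower K Kh M := IsScalarTower.of_algebraMap_eq fun _ => rfl
  have hev : Polynomial.aeval β g = 0 := by
    rw [← Polynomial.aeval_map_algebraMap Kh β g, hmin]
    exact minpoly.aeval Kh β
  let φ : AdjoinRoot g →ₐ[K] M := AdjoinRoot.liftAlgHom g (Algebra.ofId K M) β hev
  let ψ : Kh ⊗[K] AdjoinRoot g →ₐ[Kh] M := Algebra.TensorProduct.lift (Algebra.ofId Kh M) φ fun _ _ => Commute.all _ _
  have hs : Function.Surjective ψ := by
    rw [← AlgHom.range_eq_top, eq_top_iff, ← htop, Algebra.adjoin_le_iff, Set.singleton_subset_iff]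
    exact ⟨1 ⊗ₜ AdjoinRoot.root g, by simp [ψ, φ]⟩
  have hd : Module.finrank Kh (Kh ⊗[K] AdjoinRoot g) = Module.finrank Kh M := by
    rw [Module.finrank_baseChange, (AdjoinRoot.powerBasis hne).finrank, AdjoinRoot.powerBasis_dim,
      ← Polynomial.natDegree_map (algebraMap K Kh), hmin, ← IntermediateField.adjoin.finrank (IsIntegral.of_finite Kh β),
      show IntermediateField.adjoin Kh {β} = ⊤ from IntermediateField.toSubalgebra_injective (by
        rw [IntermediateField.adjoin_simple_toSubalgebra_of_isAlgebraic (Algebra.IsAlgebraic.isAlgebraic _), htop,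
          IntermediateField.top_toSubalgebra]), IntermediateField.finrank_top']
  exact ⟨AlgEquiv.ofBijective ψ ⟨(LinearMap.injective_iff_surjective_of_finrank_eq_finrank hd
    (f := ψ.toLinearMap)).2 hs, hs⟩⟩

open TensorProduct in
theorem exists_separable_descent (A K : Type u) [CommRing A] [IsNoetherianRing A] [IsLocalRing A] [Field K] [Algebra A K]
    [IsDomain (AdicCompletion (maximalIdeal A) A)] [IsDiscreteValuationRing (AdicCompletion (maximalIdeal A) A)]
    (Kh : Type u) [Field Kh] [Algebra (AdicCompletion (maximalIdeal A) A) Kh]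
    [IsFractionRing (AdicCompletion (maximalIdeal A) A) Kh] [Algebra A Kh] [Algebra K Kh]
    [IsScalarTower A (AdicCompletion (maximalIdeal A) A) Kh] [IsScalarTower A K Kh]
    (M : Type u) [Field M] [Algebra Kh M] [FiniteDimensional Kh M] [Algebra.IsSeparable Kh M] :
    ∃ (L : Type u) (_ : Field L) (_ : Algebra K L), FiniteDimensional K L ∧ Algebra.IsSeparable K L ∧
      Nonempty ((Kh ⊗[K] L) ≃ₐ[Kh] M) := by
  classical
  obtain ⟨n, N, f, hf, hfn, hstab⟩ := exists_stable_generator (AdicCompletion (maximalIdeal A) A) Kh M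
  have happrox : ∀ r : AdicCompletion (maximalIdeal A) A, ∃ a : A,
      algebraMap A _ a - r ∈ maximalIdeal (AdicCompletion (maximalIdeal A) A) ^ N := by
    intro r
    obtain ⟨a, ha⟩ := Submodule.Quotient.mk_surjective _ (r.val N)
    refine ⟨a, ?_⟩
    rw [AdicCompletion.maximalIdeal_eq_map, ← Ideal.map_pow, ← Submodule.restrictScalars_mem A,
      ← Ideal.smul_top_eq_map, AdicCompletion.pow_smul_top_eq_ker_eval (maximalIdeal A).fg_of_isNoetherianRing,
      LinearMap.mem_ker, map_sub, sub_eq_zero]
    exact ha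
  choose a ha using happrox
  let g : A[X] := Polynomial.X ^ n + ∑ i ∈ Finset.range n, Polynomial.C (a (f.coeff i)) * Polynomial.X ^ i
  have hdeg : (∑ i ∈ Finset.range n, Polynomial.C (a (f.coeff i)) * Polynomial.X ^ i).degree < (n : WithBot ℕ) := by
    refine lt_of_le_of_lt (Polynomial.degree_sum_le _ _) ((Finset.sup_lt_iff (WithBot.bot_lt_coe n)).2 fun i hi => ?_)
    exact lt_of_le_of_lt (Polynomial.degree_C_mul_X_pow_le _ _) (WithBot.coe_lt_coe.2 (Finset.mem_range.1 hi))
  have hgm : g.Monic := Polynomial.monic_X_pow_add hdeg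
  have hgn : g.natDegree = n := Polynomial.natDegree_eq_of_degree_eq_some (by
    rw [Polynomial.degree_add_eq_left_of_degree_lt (by rwa [Polynomial.degree_X_pow]), Polynomial.degree_X_pow])
  obtain ⟨β, hβ, htop⟩ := hstab (g.map (algebraMap A _)) (hgm.map _) (by rw [hgm.natDegree_map, hgn]) fun i => by
    rw [Polynomial.coeff_map]
    rcases lt_trichotomy i n with hi | hi | hi
    · have : g.coeff i = a (f.coeff i) := by
        simp [g, Polynomial.coeff_X_pow, hi.ne, Polynomial.finsetSum_coeff, hi]
      rw [this]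
      exact ha _
    · subst hi
      rw [← hgn, Polynomial.Monic.coeff_natDegree hgm, hgn, ← hfn, Polynomial.Monic.coeff_natDegree hf]
      simp
    · rw [Polynomial.coeff_eq_zero_of_natDegree_lt (hgn ▸ hi), Polynomial.coeff_eq_zero_of_natDegree_lt (hfn ▸ hi)]
      simp
  set gK : K[X] := g.map (algebraMap A K) with hgK
  have hgKh : gK.map (algebraMap K Kh) = (g.map (algebraMap A (AdicCompletion (maximalIdeal A) A))).map (algebraMap _ Kh) := by
    rw [hgK, Polynomial.map_map, Polynomial.map_map, ← IsScalarTower.algebraMap_eq, ← IsScalarTower.algebraMap_eq]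
  have hβi : IsIntegral Kh β := IsIntegral.of_finite Kh β
  haveI : Fact (Irreducible gK) := ⟨Polynomial.Monic.irreducible_of_irreducible_map (algebraMap K Kh) gK (hgm.map _)
    (by rw [hgKh, ← hβ]; exact minpoly.irreducible hβi)⟩
  have hsep : gK.Separable := by
    rw [← Polynomial.separable_map (algebraMap K Kh), hgKh, ← hβ]
    exact Algebra.IsSeparable.isSeparable Kh β
  have hne : gK ≠ 0 := (hgm.map _).ne_zero
  haveI : FiniteDimensional K (AdjoinRoot gK) := (AdjoinRoot.powerBasis hne).finite
  exact ⟨AdjoinRoot gK, inferInstance, inferInstance, inferInstance, isSeparable_adjoinRoot gK hsep,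
    nonempty_baseChange_adjoinRoot gK β (by rw [hgKh, hβ]) htop⟩

end Groth.Agent.CAlgH.KrasnerDescent
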