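import Mathlib

universe u
open nonZeroDivisors
open scoped Pointwise

namespace Groth.Agent.CAlgH

theorem length_quot_ideal {R : Type u} [CommRing R] [IsDomain R] [IsNoetherianRing R] [Ring.KrullDimLE 1 R]
    (I : Ideal R) (hI : I ≠ ⊥) {x : R} (hx : x ≠ 0) :
    Module.length R (I ⧸ (Ideal.span {x} • ⊤ : Submodule R I)) = Ring.ord R x := by
  obtain ⟨a, haI, ha0⟩ := Submodule.exists_mem_ne_zero_of_ne_bot hI
  have hfin : Module.length R (R ⧸ I) ≠ ⊤ := by
    refine ne_top_of_le_ne_top (Ring.ord_ne_top (mem_nonZeroDivisors_of_ne_zero ha0)) ?_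
    exact Module.length_le_of_surjective (Submodule.factor ((Ideal.span_singleton_le_iff_mem I).mpr haI))
      (Submodule.factor_surjective _)
  have h1 := Module.length_eq_add_of_exact (Ideal.mulQuot x I) (Ideal.quotOfMul x I)
    (Ideal.mulQuot_injective I (mem_nonZeroDivisors_of_ne_zero hx)) (Ideal.quotOfMul_surjective I)
    (Ideal.exact_mulQuot_quotOfMul I)
  have hle : x • I ≤ I := Submodule.smul_le_self_of_tower x I
  have hmap : (Ideal.span {x} • ⊤ : Submodule R I).map I.subtype = x • I := by
    rw [Submodule.map_smul'', Submodule.map_top, Submodule.range_subtype, Submodule.ideal_span_singleton_smul]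
  let j : (I ⧸ (Ideal.span {x} • ⊤ : Submodule R I)) →ₗ[R] R ⧸ (x • I) :=
    Submodule.mapQ _ _ I.subtype (by rw [← Submodule.map_le_iff_le_comap, hmap])
  have hj : Function.Injective j := by
    rw [← LinearMap.ker_eq_bot, ← le_bot_iff]
    intro z hz
    obtain ⟨i, rfl⟩ := Submodule.Quotient.mk_surjective _ z
    simp only [LinearMap.mem_ker, j, Submodule.mapQ_apply, Submodule.Quotient.mk_eq_zero] at hz
    rw [Submodule.mem_bot, Submodule.Quotient.mk_eq_zero]
    rw [← hmap] at hz
    obtain ⟨i', hi', e⟩ := hz
    rwa [← I.injective_subtype e]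
  have hex : Function.Exact j (Submodule.factor hle) := by
    rw [LinearMap.exact_iff]
    ext z
    obtain ⟨r, rfl⟩ := Submodule.Quotient.mk_surjective _ z
    simp only [LinearMap.mem_ker, Submodule.factor_mk, Submodule.Quotient.mk_eq_zero, LinearMap.mem_range]
    constructor
    · intro hr; exact ⟨Submodule.Quotient.mk ⟨r, (Submodule.Quotient.mk_eq_zero I).mp hr⟩, rfl⟩
    · rintro ⟨w, hw⟩
      obtain ⟨i, rfl⟩ := Submodule.Quotient.mk_surjective _ w
      simp only [j, Submodule.mapQ_apply] at hw
      have := (Submodule.Quotient.eq _).mp hw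
      refine (Submodule.Quotient.mk_eq_zero I).mpr ?_
      simpa using I.sub_mem i.2 (hle this)
  have h2 := Module.length_eq_add_of_exact j (Submodule.factor hle) hj (Submodule.factor_surjective hle) hex
  rw [h2] at h1
  have h3 : Module.length R (I ⧸ (Ideal.span {x} • ⊤ : Submodule R I)) + Module.length R (R ⧸ I)
      = Ring.ord R x + Module.length R (R ⧸ I) := by rw [h1]; exact add_comm _ _
  exact WithTop.add_right_cancel hfin h3

theorem length_quot_fg {R K : Type u} [CommRing R] [IsDomain R] [IsNoetherianRing R] [Ring.KrullDimLE 1 R]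
    [Field K] [Algebra R K] [IsFractionRing R K] {x : R} (hx : x ≠ 0) :
    ∀ (r : ℕ) (N : Type u) [AddCommGroup N] [Module R N] [Module.Finite R N] (φ : N →ₗ[R] (Fin r → K)),
      Function.Injective φ →
      Module.length R (N ⧸ (Ideal.span {x} • ⊤ : Submodule R N)) ≤ r * Ring.ord R x := by
  classical
  intro r
  induction r with
  | zero =>
    intro N _ _ _ φ hφ
    have : Subsingleton N := ⟨fun a b => hφ (Subsingleton.elim _ _)⟩
    rw [Module.length_eq_zero]; exact zero_le
  | succ r ih =>
    intro N _ _ _ φ hφ
    let p : N →ₗ[R] K := LinearMap.proj (Fin.last r) ∘ₗ φ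
    let N1 := LinearMap.ker p
    have : IsNoetherian R N := inferInstance
    let ψ : N1 →ₗ[R] (Fin r → K) := LinearMap.pi (fun i => LinearMap.proj (Fin.castSucc i) ∘ₗ φ ∘ₗ N1.subtype)
    have hψ : Function.Injective ψ := by
      intro a b hab
      apply Subtype.ext
      apply hφ
      ext i
      induction i using Fin.lastCases with
      | last => exact (show p a = p b by rw [LinearMap.mem_ker.mp a.2, LinearMap.mem_ker.mp b.2])
      | cast i => exact congrFun hab i
    have hN1 := ih N1 ψ hψ
    have hN2 : Module.length R (LinearMap.range p ⧸ (Ideal.span {x} • ⊤ : Submodule R (LinearMap.range p))) ≤ Ring.ord R x := by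
      by_cases h0 : LinearMap.range p = ⊥
      · have : Subsingleton (LinearMap.range p) := Submodule.subsingleton_iff_eq_bot.mpr h0
        rw [Module.length_eq_zero]; exact zero_le
      obtain ⟨g, hg⟩ := IsNoetherian.noetherian (⊤ : Submodule R N)
      obtain ⟨⟨d, hd⟩, hd'⟩ := IsLocalization.exist_integer_multiples_of_finset R⁰ (g.image p)
      have hdp : ∀ y ∈ LinearMap.range p, ∃ a : R, algebraMap R K a = d • y := by
        rintro _ ⟨n, rfl⟩
        have hn : n ∈ Submodule.span R (g : Set N) := hg ▸ Submodule.mem_top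
        induction hn using Submodule.span_induction with
        | mem y hy => exact hd' (p y) (Finset.mem_image_of_mem p hy)
        | zero => exact ⟨0, by simp⟩
        | add a b _ _ ha hb =>
          obtain ⟨u, hu⟩ := ha; obtain ⟨v, hv⟩ := hb
          exact ⟨u + v, by rw [map_add, hu, hv, map_add, smul_add]⟩
        | smul c a _ ha =>
          obtain ⟨u, hu⟩ := ha
          exact ⟨c * u, by rw [map_mul, hu, map_smul, smul_comm, Algebra.smul_def c]⟩
      let lam : R →ₗ[R] K := Algebra.linearMap R K
      let m : LinearMap.range p →ₗ[R] K := (d • LinearMap.id) ∘ₗ (LinearMap.range p).subtype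
      let I : Ideal R := (LinearMap.range m).comap lam
      have hlam : Function.Injective lam := IsFractionRing.injective R K
      have hm : Function.Injective m := by
        intro a b hab
        apply Subtype.ext
        simp only [m, LinearMap.comp_apply, LinearMap.smul_apply, LinearMap.id_apply, Submodule.subtype_apply] at hab
        rw [Algebra.smul_def, Algebra.smul_def] at hab
        exact mul_left_cancel₀ ((map_ne_zero_iff _ hlam).mpr (nonZeroDivisors.ne_zero hd)) hab
      let f : I →ₗ[R] LinearMap.range p :=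
        (LinearEquiv.ofInjective m hm).symm.toLinearMap ∘ₗ
          ((lam ∘ₗ I.subtype).codRestrict (LinearMap.range m) (fun i => i.2))
      have hf : Function.Bijective f := by
        refine (LinearEquiv.ofInjective m hm).symm.bijective.comp ⟨fun a b hab => ?_, fun y => ?_⟩
        · exact Subtype.ext (hlam (congrArg Subtype.val hab))
        · obtain ⟨z, hz⟩ := y.2
          obtain ⟨a, ha⟩ := hdp z z.2
          have : lam a = y.1 := ha.trans hz
          exact ⟨⟨a, show lam a ∈ LinearMap.range m from this ▸ y.2⟩, Subtype.ext this⟩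
      let e := LinearEquiv.ofBijective f hf
      have hI : I ≠ ⊥ := fun hI => h0 (by
        have : Subsingleton I := Submodule.subsingleton_iff_eq_bot.mpr hI
        have : Subsingleton (LinearMap.range p) := e.toEquiv.symm.subsingleton
        exact Submodule.subsingleton_iff_eq_bot.mp this)
      rw [← length_quot_ideal I hI hx]
      refine le_of_eq (LinearEquiv.length_eq (Submodule.Quotient.equiv _ _ e.symm ?_))
      rw [Submodule.map_smul'', Submodule.map_top, LinearEquiv.range]
    let a : (N1 ⧸ (Ideal.span {x} • ⊤ : Submodule R N1)) →ₗ[R] (N ⧸ (Ideal.span {x} • ⊤ : Submodule R N)) :=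
      Submodule.mapQ _ _ N1.subtype (by
        rw [← Submodule.map_le_iff_le_comap, Submodule.map_smul'']; exact Submodule.smul_mono le_rfl le_top)
    let b : (N ⧸ (Ideal.span {x} • ⊤ : Submodule R N)) →ₗ[R]
        (LinearMap.range p ⧸ (Ideal.span {x} • ⊤ : Submodule R (LinearMap.range p))) :=
      Submodule.mapQ _ _ p.rangeRestrict (by
        rw [← Submodule.map_le_iff_le_comap, Submodule.map_smul'']; exact Submodule.smul_mono le_rfl le_top)
    have hb : Function.Surjective b := by
      intro z
      obtain ⟨y, rfl⟩ := Submodule.Quotient.mk_surjective _ z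
      obtain ⟨n, hn⟩ := p.surjective_rangeRestrict y
      exact ⟨Submodule.Quotient.mk n, by simp [b, hn]⟩
    have hker : LinearMap.ker b ≤ LinearMap.range a := by
      intro z hz
      obtain ⟨n, rfl⟩ := Submodule.Quotient.mk_surjective _ z
      simp only [LinearMap.mem_ker, b, Submodule.mapQ_apply, Submodule.Quotient.mk_eq_zero] at hz
      rw [Submodule.ideal_span_singleton_smul, Submodule.mem_smul_pointwise_iff_exists] at hz
      obtain ⟨y, -, hy⟩ := hz
      obtain ⟨n', hn'⟩ := p.surjective_rangeRestrict y
      refine ⟨Submodule.Quotient.mk ⟨n - x • n', ?_⟩, ?_⟩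
      · show p (n - x • n') = 0
        rw [map_sub, map_smul, sub_eq_zero]
        rw [← hn'] at hy
        exact (congrArg Subtype.val hy).symm
      · simp only [a, Submodule.mapQ_apply]
        apply (Submodule.Quotient.eq _).mpr
        show n - x • n' - n ∈ _
        rw [sub_sub_cancel_left]
        exact neg_mem (Submodule.smul_mem_smul (Ideal.mem_span_singleton_self x) trivial)
    have h4 := Module.length_eq_add_of_exact (LinearMap.ker b).subtype b (Submodule.injective_subtype _) hb
      (LinearMap.exact_subtype_ker_map b)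
    have h5 : Module.length R (LinearMap.ker b) ≤ Module.length R (N1 ⧸ (Ideal.span {x} • ⊤ : Submodule R N1)) :=
      (Module.length_le_of_injective (Submodule.inclusion hker) (Submodule.inclusion_injective hker)).trans
        (Module.length_le_of_surjective a.rangeRestrict a.surjective_rangeRestrict)
    rw [h4, Nat.cast_add, Nat.cast_one, add_mul, one_mul]
    exact add_le_add (h5.trans hN1) hN2

theorem length_le_of_forall_fg {R : Type u} [CommRing R] {M : Type u} [AddCommGroup M] [Module R M] {B : ℕ∞}
    (hB : B ≠ ⊤) (h : ∀ N : Submodule R M, N.FG → Module.length R N ≤ B) : Module.length R M ≤ B := by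
  classical
  obtain ⟨b, rfl⟩ := ENat.ne_top_iff_exists.mp hB
  let P : ℕ → Prop := fun k => ∃ N : Submodule R M, N.FG ∧ Module.length R N = k
  have h0 : P 0 := ⟨⊥, Submodule.fg_bot, by simp⟩
  let m := Nat.findGreatest P b
  obtain ⟨N, hN, hm⟩ : P m := Nat.findGreatest_spec (Nat.zero_le b) h0
  suffices htop : N = ⊤ by
    rw [← Module.length_top (R := R) (M := M), ← htop]; exact h N hN
  by_contra hne
  obtain ⟨y, -, hy⟩ := SetLike.exists_of_lt (lt_top_iff_ne_top.mpr hne)
  let N' := N ⊔ Submodule.span R {y}
  have hN' : N'.FG := Submodule.FG.sup hN (Submodule.fg_span_singleton y)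
  obtain ⟨k, hk⟩ := ENat.ne_top_iff_exists.mp (ne_top_of_le_ne_top (ENat.coe_ne_top b) (h N' hN'))
  have hle : N ≤ N' := le_sup_left
  have he := Module.length_eq_add_of_exact (Submodule.inclusion hle) (LinearMap.range (Submodule.inclusion hle)).mkQ
    (Submodule.inclusion_injective hle) (Submodule.mkQ_surjective _) (LinearMap.exact_map_mkQ_range _)
  have hpos : 0 < Module.length R (N' ⧸ LinearMap.range (Submodule.inclusion hle)) := by
    rw [Module.length_pos_iff, Submodule.Quotient.nontrivial_iff]
    intro e
    have hy' : (⟨y, Submodule.mem_sup_right (Submodule.mem_span_singleton_self y)⟩ : N') ∈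
        LinearMap.range (Submodule.inclusion hle) := e ▸ Submodule.mem_top
    obtain ⟨z, hz⟩ := hy'
    have hz1 : z.1 = y := congrArg Subtype.val hz
    exact hy (hz1 ▸ z.2)
  have hkb : k ≤ b := by exact_mod_cast hk ▸ h N' hN'
  have : k ≤ m := Nat.le_findGreatest hkb ⟨N', hN', hk.symm⟩
  rw [← hk, hm] at he
  have hlt : (m : ℕ∞) < k := by
    rw [he]
    exact lt_of_lt_of_le (ENat.lt_add_one_iff (ENat.coe_ne_top m) |>.mpr le_rfl) (add_le_add le_rfl (Order.one_le_iff_pos.mpr hpos))
  exact absurd hlt (not_lt.mpr (by exact_mod_cast this))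

theorem length_quot_ne_top {R K : Type u} [CommRing R] [IsDomain R] [IsNoetherianRing R] [Ring.KrullDimLE 1 R]
    [Field K] [Algebra R K] [IsFractionRing R K] {r : ℕ} {x : R} (hx : x ≠ 0)
    (M : Type u) [AddCommGroup M] [Module R M] (φ : M →ₗ[R] (Fin r → K)) (hφ : Function.Injective φ) :
    Module.length R (M ⧸ (Ideal.span ({x} : Set R) • (⊤ : Submodule R M))) ≠ ⊤ := by
  have hB : (r : ℕ∞) * Ring.ord R x ≠ ⊤ :=
    WithTop.mul_ne_top (ENat.coe_ne_top r) (Ring.ord_ne_top (mem_nonZeroDivisors_of_ne_zero hx))
  refine ne_top_of_le_ne_top hB (length_le_of_forall_fg hB fun Nb hNb => ?_)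
  obtain ⟨n, g, hg⟩ := Submodule.fg_iff_exists_fin_generating_family.mp hNb
  choose gl hgl using fun i => Submodule.Quotient.mk_surjective _ (g i)
  let N0 : Submodule R M := Submodule.span R (Set.range gl)
  have : Module.Finite R N0 := Module.Finite.iff_fg.mpr (Submodule.fg_span (Set.finite_range gl))
  refine le_trans ?_ (length_quot_fg hx r N0 (φ ∘ₗ N0.subtype) (hφ.comp N0.injective_subtype))
  let q : (N0 ⧸ (Ideal.span {x} • ⊤ : Submodule R N0)) →ₗ[R] (M ⧸ (Ideal.span {x} • ⊤ : Submodule R M)) :=
    Submodule.mapQ _ _ N0.subtype (by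
      rw [← Submodule.map_le_iff_le_comap, Submodule.map_smul'']; exact Submodule.smul_mono le_rfl le_top)
  have hNb' : Nb ≤ LinearMap.range q := by
    rw [← hg, Submodule.span_le]
    rintro _ ⟨i, rfl⟩
    exact ⟨Submodule.Quotient.mk ⟨gl i, Submodule.subset_span ⟨i, rfl⟩⟩, by simp [q, hgl]⟩
  exact (Module.length_le_of_injective (Submodule.inclusion hNb') (Submodule.inclusion_injective hNb')).trans
    (Module.length_le_of_surjective q.rangeRestrict q.surjective_rangeRestrict)

end Groth.Agent.CAlgH
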