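import Groth.Prelude.Def_SGA1
import Mathlib

/-!
# Kummer algebras over regular local rings
-/

set_option autoImplicit false

universe u

open IsLocalRing MvPolynomial

namespace Groth.Agent.CAlgH.KummerAlg

section General

variable {A : Type u} [CommRing A] {r : ℕ} (f : Fin r → A) (n : Fin r → ℕ)

/-- The adjoined roots. -/
noncomputable def root (i : Fin r) : SGA1.kummerAlg A f n := Ideal.Quotient.mk _ (X i)

theorem root_pow (i : Fin r) : root f n i ^ n i = algebraMap A (SGA1.kummerAlg A f n) (f i) := by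
  rw [root, ← map_pow, IsScalarTower.algebraMap_apply A (MvPolynomial (Fin r) A) (SGA1.kummerAlg A f n) (f i),
    Ideal.Quotient.algebraMap_eq, MvPolynomial.algebraMap_eq]
  exact Ideal.Quotient.eq.2 (Ideal.subset_span ⟨i, rfl⟩)

theorem algHom_ext' {S : Type u} [CommRing S] [Algebra A S] {φ ψ : SGA1.kummerAlg A f n →ₐ[A] S}
    (h : ∀ i, φ (root f n i) = ψ (root f n i)) : φ = ψ :=
  Ideal.Quotient.algHom_ext A (MvPolynomial.algHom_ext h)

theorem exists_algHom {S : Type u} [CommRing S] [Algebra A S] (s : Fin r → S)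
    (hs : ∀ i, s i ^ n i = algebraMap A S (f i)) :
    ∃ φ : SGA1.kummerAlg A f n →ₐ[A] S, ∀ i, φ (root f n i) = s i := by
  refine ⟨Ideal.Quotient.liftₐ _ (aeval s) fun a ha => ?_, fun i => ?_⟩
  · have : Ideal.span (Set.range fun i => (X i : MvPolynomial (Fin r) A) ^ n i - C (f i)) ≤
        RingHom.ker (aeval (R := A) s) := Ideal.span_le.2 (by rintro _ ⟨i, rfl⟩; simp [hs])
    exact this ha
  · simp [root]

theorem adjoin_root : Algebra.adjoin A (Set.range (root f n)) = ⊤ := by
  rw [eq_top_iff]
  intro x _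
  obtain ⟨p, rfl⟩ := Ideal.Quotient.mkₐ_surjective A (Ideal.span (Set.range fun i =>
    (X i : MvPolynomial (Fin r) A) ^ n i - C (f i))) x
  have : Ideal.Quotient.mkₐ A _ p = aeval (root f n) p := by
    congr 1; exact MvPolynomial.algHom_ext fun i => by simp [root]
  rw [this, Algebra.adjoin_range_eq_range_aeval]
  exact ⟨p, rfl⟩

theorem finite (hn : ∀ i, 1 ≤ n i) : Module.Finite A (SGA1.kummerAlg A f n) := by
  have h : ∀ x ∈ Set.range (root f n), IsIntegral A x := by
    rintro _ ⟨i, rfl⟩
    exact IsIntegral.of_pow (hn i) ((root_pow f n i) ▸ isIntegral_algebraMap)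
  exact ⟨by rw [← Algebra.top_toSubmodule, ← adjoin_root f n]; exact fg_adjoin_of_finite (Set.finite_range _) h⟩

theorem exists_prime_over (hn : ∀ i, 1 ≤ n i) (p : Ideal A) [p.IsPrime] :
    ∃ P : Ideal (SGA1.kummerAlg A f n), P.IsPrime ∧ P.comap (algebraMap A _) = p := by
  choose s hs using fun i => IsAlgClosed.exists_pow_nat_eq
    (algebraMap A (AlgebraicClosure p.ResidueField) (f i)) (hn i)
  obtain ⟨φ, -⟩ := exists_algHom f n s hs
  refine ⟨RingHom.ker φ.toRingHom, RingHom.ker_isPrime _, ?_⟩
  rw [RingHom.comap_ker]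
  erw [φ.comp_algebraMap]
  rw [ IsScalarTower.algebraMap_eq A p.ResidueField,
    ← RingHom.comap_ker, (RingHom.injective_iff_ker_eq_bot (algebraMap p.ResidueField (AlgebraicClosure p.ResidueField))).1
      (RingHom.injective _)]
  exact Ideal.ker_algebraMap_residueField p

theorem ringKrullDim_le (hn : ∀ i, 1 ≤ n i) :
    ringKrullDim A ≤ ringKrullDim (SGA1.kummerAlg A f n) := by
  haveI := finite f n hn
  refine iSup_le fun l => ?_
  obtain ⟨P, hP, hPc⟩ := exists_prime_over f n hn l.head.asIdeal
  haveI : P.LiesOver l.head.asIdeal := ⟨hPc.symm⟩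
  obtain ⟨L, hL, -, -⟩ := Ideal.exists_ltSeries_of_hasGoingUp l P
  exact le_iSup_of_le L (by rw [hL])

/-- If every `f i` and `n i` is a unit in `S`, the base change is formally étale. -/
theorem etale_lift {S : Type u} [CommRing S] [Algebra A S] (I : Ideal S) (hI : I ^ 2 = ⊥)
    (hf : ∀ i, IsUnit (algebraMap A S (f i))) (hn : ∀ i, 1 ≤ n i) (hu : ∀ i, IsUnit (n i : S))
    (t : Fin r → S) (ht : ∀ i, t i ^ n i - algebraMap A S (f i) ∈ I) :
    ∃! s : Fin r → S, (∀ i, s i ^ n i = algebraMap A S (f i)) ∧ ∀ i, s i - t i ∈ I := by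
  have hnil : ∀ x ∈ I, IsNilpotent x := fun x hx =>
    ⟨2, by rw [← Ideal.mem_bot, ← hI]; exact Ideal.pow_mem_pow hx 2⟩
  have hmul : ∀ x ∈ I, ∀ y ∈ I, x * y = 0 := fun x hx y hy => by
    rw [← Ideal.mem_bot, ← hI, sq]; exact Ideal.mul_mem_mul hx hy
  have hexp : ∀ i, ∀ x ∈ I, (t i + x) ^ n i = t i ^ n i + (n i : S) * t i ^ (n i - 1) * x := by
    intro i x hx
    obtain ⟨c, hc⟩ := Polynomial.binomExpansion ((Polynomial.X : Polynomial S) ^ n i) (t i) x
    simp only [Polynomial.eval_pow, Polynomial.eval_X, Polynomial.derivative_X_pow,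
      Polynomial.eval_mul, Polynomial.eval_C] at hc
    rw [hc, sq, hmul x hx x hx, mul_zero, add_zero]
  have ht' : ∀ i, IsUnit (t i) := fun i => by
    have h1 : IsUnit (t i ^ n i) := by
      have h := (hnil _ (ht i)).isUnit_add_left_of_commute (hf i) (Commute.all _ _)
      rwa [add_sub_cancel] at h
    exact (isUnit_pow_iff (Nat.one_le_iff_ne_zero.mp (hn i))).1 h1
  have hd : ∀ i, IsUnit ((n i : S) * t i ^ (n i - 1)) := fun i => (hu i).mul ((ht' i).pow _)
  refine ⟨fun i => t i + ((hd i).unit⁻¹ : Sˣ) * (algebraMap A S (f i) - t i ^ n i), ⟨fun i => ?_, fun i => ?_⟩,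
    fun s ⟨hs, hst⟩ => funext fun i => ?_⟩
  · have hx : ((hd i).unit⁻¹ : Sˣ) * (algebraMap A S (f i) - t i ^ n i) ∈ I :=
      I.mul_mem_left _ (by rw [← neg_sub]; exact I.neg_mem (ht i))
    rw [hexp i _ hx, ← mul_assoc, IsUnit.mul_val_inv, one_mul, add_sub_cancel]
  · rw [add_sub_cancel_left]
    exact I.mul_mem_left _ (by rw [← neg_sub]; exact I.neg_mem (ht i))
  · have h := hexp i _ (hst i)
    rw [add_sub_cancel, hs] at h
    rw [eq_comm, ← eq_sub_iff_add_eq', h, add_sub_cancel_left, ← mul_assoc, IsUnit.val_inv_mul, one_mul]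

end General

theorem isRegularLocalRing {A : Type u} [CommRing A] [IsRegularLocalRing A] {r : ℕ} (f : Fin r → A)
    (hm : ∀ i, f i ∈ maximalIdeal A)
    (hf : LinearIndependent (ResidueField A) (fun i => (maximalIdeal A).toCotangent ⟨f i, hm i⟩))
    (n : Fin r → ℕ) (hn : ∀ i, 1 ≤ n i) : IsRegularLocalRing (SGA1.kummerAlg A f n) := by
  classical
  let B := SGA1.kummerAlg A f n
  haveI := finite f n hn
  haveI : IsNoetherianRing B := IsNoetherianRing.of_finite A B
  -- complete the `f i` to generators of the maximal ideal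
  let v := fun i => (maximalIdeal A).toCotangent ⟨f i, hm i⟩
  let b := Module.Basis.sumExtend hf
  haveI : Fintype (Module.Basis.sumExtendIndex hf) := by
    haveI := Module.Finite.finite_basis b
    haveI : Finite (Module.Basis.sumExtendIndex hf) := Finite.of_injective (Sum.inr (α := Fin r)) Sum.inr_injective
    exact Fintype.ofFinite _
  have hcard : r + Fintype.card (Module.Basis.sumExtendIndex hf) =
      Module.finrank (ResidueField A) (CotangentSpace A) := by
    rw [Module.finrank_eq_card_basis b, Fintype.card_sum, Fintype.card_fin]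
  choose g hg using fun j => Ideal.toCotangent_surjective (maximalIdeal A) (b (Sum.inr j))
  have hspan : maximalIdeal A = Ideal.span (Set.range f ∪ Set.range fun j => (g j : A)) := by
    apply le_antisymm
    · refine Submodule.le_of_le_smul_of_le_jacobson_bot (I := maximalIdeal A) (IsNoetherian.noetherian _)
        (IsLocalRing.maximalIdeal_le_jacobson _) fun x hx => ?_
      let N := Submodule.span A (Set.range fun k : Fin r ⊕ Module.Basis.sumExtendIndex hf =>
        Sum.elim (fun i => (⟨f i, hm i⟩ : maximalIdeal A)) g k)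
      have hx' : (maximalIdeal A).toCotangent ⟨x, hx⟩ ∈ N.map (maximalIdeal A).toCotangent := by
        rw [Submodule.map_span, ← Set.range_comp]
        have hb : ((maximalIdeal A).toCotangent ∘ fun k : Fin r ⊕ Module.Basis.sumExtendIndex hf =>
            Sum.elim (fun i => (⟨f i, hm i⟩ : maximalIdeal A)) g k) = ⇑b := by
          funext k
          rcases k with i | j
          · simp [b, Module.Basis.sumExtend, Equiv.Set.sumDiffSubset]
            rfl
          · exact hg j
        rw [hb]
        have h : ((maximalIdeal A).toCotangent ⟨x, hx⟩ : CotangentSpace A) ∈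
            Submodule.restrictScalars A (Submodule.span (ResidueField A) (Set.range b)) :=
          b.mem_span _
        rw [Submodule.restrictScalars_span A (ResidueField A) IsLocalRing.residue_surjective] at h
        exact h
      obtain ⟨y, hy, hxy⟩ := hx'
      have hyI : (y : A) ∈ Ideal.span (Set.range f ∪ Set.range fun j => (g j : A)) := by
        have : N ≤ Submodule.comap (maximalIdeal A).subtype
            (Ideal.span (Set.range f ∪ Set.range fun j => (g j : A))) := by
          refine Submodule.span_le.2 ?_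
          rintro _ ⟨i | j, rfl⟩
          · show f i ∈ Ideal.span _
            exact Ideal.subset_span (Or.inl ⟨i, rfl⟩)
          · show (g j : A) ∈ Ideal.span _
            exact Ideal.subset_span (Or.inr ⟨j, rfl⟩)
        exact this hy
      rw [Ideal.toCotangent_eq, sq] at hxy
      exact Submodule.mem_sup.2 ⟨y, hyI, x - y, by simpa using (maximalIdeal A * maximalIdeal A).neg_mem hxy,
        add_sub_cancel _ _⟩
    · rw [Ideal.span_le]
      rintro _ (⟨i, rfl⟩ | ⟨j, rfl⟩)
      · exact hm i
      · exact (g j).2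
  -- the maximal ideal of `B`
  let J : Ideal B := Ideal.span (Set.range (root f n) ∪ Set.range fun j => algebraMap A B (g j))
  have hle : ∀ P : Ideal B, P.IsMaximal → J ≤ P := by
    intro P hP
    have hPm : P.comap (algebraMap A B) = maximalIdeal A := by
      haveI := Ideal.isMaximal_comap_of_isIntegral_of_isMaximal (R := A) P
      exact IsLocalRing.eq_maximalIdeal inferInstance
    have hmem : ∀ a ∈ maximalIdeal A, algebraMap A B a ∈ P := fun a ha => by
      rw [← hPm] at ha; exact ha
    rw [Ideal.span_le]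
    rintro _ (⟨i, rfl⟩ | ⟨j, rfl⟩)
    · exact hP.isPrime.mem_of_pow_mem (n i) (by rw [root_pow]; exact hmem _ (hm i))
    · exact hmem _ (g j).2
  have hmJ : ∀ a ∈ maximalIdeal A, algebraMap A B a ∈ J := by
    intro a ha
    have : maximalIdeal A ≤ J.comap (algebraMap A B) := by
      rw [hspan, Ideal.span_le]
      rintro _ (⟨i, rfl⟩ | ⟨j, rfl⟩)
      · show algebraMap A B (f i) ∈ J
        rw [← root_pow]
        have hr : root f n i ∈ J := Ideal.subset_span (Set.mem_union_left _ (Set.mem_range_self i))
        exact Ideal.pow_mem_of_mem _ hr _ (hn i)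
      · show algebraMap A B (g j) ∈ J
        exact Ideal.subset_span (Set.mem_union_right _ (Set.mem_range_self j))
    exact this ha
  have hJtop : J ≠ ⊤ := by
    obtain ⟨P, hP, -⟩ := exists_prime_over f n hn (maximalIdeal A)
    obtain ⟨M, hM, -⟩ := Ideal.exists_le_maximal P hP.ne_top
    exact fun h => hM.ne_top (top_le_iff.1 (h ▸ hle M hM))
  have hrep : ∀ x : B, ∃ a : A, x - algebraMap A B a ∈ J := by
    intro x
    have hx : x ∈ Algebra.adjoin A (Set.range (root f n)) := by rw [adjoin_root]; trivial
    induction hx using Algebra.adjoin_induction with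
    | mem y hy =>
      refine ⟨0, ?_⟩
      rw [map_zero, sub_zero]
      exact Ideal.subset_span (Set.mem_union_left _ hy)
    | algebraMap a => exact ⟨a, by simp⟩
    | add y z _ _ hy hz =>
      obtain ⟨a, ha⟩ := hy; obtain ⟨c, hc⟩ := hz
      exact ⟨a + c, by rw [map_add, add_sub_add_comm]; exact J.add_mem ha hc⟩
    | mul y z _ _ hy hz =>
      obtain ⟨a, ha⟩ := hy; obtain ⟨c, hc⟩ := hz
      refine ⟨a * c, ?_⟩
      rw [map_mul, show y * z - algebraMap A B a * algebraMap A B c =
        (y - algebraMap A B a) * z + algebraMap A B a * (z - algebraMap A B c) by ring]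
      exact J.add_mem (J.mul_mem_right _ ha) (J.mul_mem_left _ hc)
  have hJmax : J.IsMaximal := by
    rw [Ideal.isMaximal_iff]
    refine ⟨fun h => hJtop ((Ideal.eq_top_iff_one J).2 h), fun K x hJK hxJ hxK => ?_⟩
    obtain ⟨a, ha⟩ := hrep x
    have ha' : a ∉ maximalIdeal A := fun h => hxJ (by simpa using J.add_mem ha (hmJ a h))
    have hu : IsUnit (algebraMap A B a) := (IsLocalRing.notMem_maximalIdeal.1 ha').map _
    have hK : algebraMap A B a ∈ K := by simpa using K.sub_mem hxK (hJK ha)
    exact (Ideal.eq_top_iff_one K).1 (K.eq_top_of_isUnit_mem hK hu)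
  haveI : IsLocalRing B := IsLocalRing.of_unique_max_ideal
    ⟨J, hJmax, fun P hP => (hJmax.eq_of_le hP.ne_top (hle P hP)).symm⟩
  refine IsRegularLocalRing.of_spanFinrank_maximalIdeal_le B ?_
  rw [← IsLocalRing.eq_maximalIdeal hJmax]
  have hc : J.spanFinrank ≤ Module.finrank (ResidueField A) (CotangentSpace A) := by
    refine (Submodule.spanFinrank_span_le_ncard_of_finite ((Set.finite_range _).union (Set.finite_range _))).trans ?_
    refine (Set.ncard_union_le _ _).trans ?_
    rw [← hcard]
    refine Nat.add_le_add ?_ ?_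
    · rw [← Nat.card_coe_set_eq]; exact (Finite.card_range_le _).trans (by rw [Nat.card_fin])
    · rw [← Nat.card_coe_set_eq]; exact (Finite.card_range_le _).trans (by rw [Nat.card_eq_fintype_card])
  calc (J.spanFinrank : WithBot ℕ∞) ≤ (Module.finrank (ResidueField A) (CotangentSpace A) : ℕ) := by exact_mod_cast hc
    _ = ringKrullDim A := (IsRegularLocalRing.iff_finrank_cotangentSpace A).1 inferInstance
    _ ≤ _ := ringKrullDim_le f n hn

theorem etale_away {A : Type u} [CommRing A] {r : ℕ} (f : Fin r → A) (n : Fin r → ℕ)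
    (hn : ∀ i, 1 ≤ n i) (hu : ∀ i, IsUnit (n i : A)) :
    letI := (Localization.awayMap (algebraMap A (SGA1.kummerAlg A f n)) (∏ i, f i)).toAlgebra
    Algebra.Etale (Localization.Away (∏ i, f i))
      (Localization.Away (algebraMap A (SGA1.kummerAlg A f n) (∏ i, f i))) := by
  let B := SGA1.kummerAlg A f n
  let d := ∏ i, f i
  let Bd := Localization.Away (algebraMap A B d)
  let φ := Localization.awayMap (algebraMap A B) d
  letI := φ.toAlgebra
  haveI : IsScalarTower A (Localization.Away d) Bd := IsScalarTower.of_algebraMap_eq fun a => by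
    show _ = φ (algebraMap A (Localization.Away d) a)
    rw [IsScalarTower.algebraMap_apply A B Bd]
    exact (IsLocalization.map_eq _ a).symm
  haveI : Algebra.FinitePresentation A B :=
    Algebra.FinitePresentation.quotient ⟨(Set.finite_range fun i => (X i : MvPolynomial (Fin r) A) ^ n i - C (f i)).toFinset,
      by rw [Set.Finite.coe_toFinset]⟩
  haveI : Algebra.FinitePresentation B Bd := IsLocalization.Away.finitePresentation (algebraMap A B d)
  haveI : Algebra.FinitePresentation A Bd := Algebra.FinitePresentation.trans A B Bd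
  haveI : Algebra.FinitePresentation (Localization.Away d) Bd :=
    Algebra.FinitePresentation.of_restrict_scalars_finitePresentation A (Localization.Away d) Bd
  have hbij : ∀ (S : Type u) [CommRing S] [Algebra A S] (I : Ideal S), I ^ 2 = ⊥ →
      Function.Bijective ((Ideal.Quotient.mkₐ A I).comp : (Bd →ₐ[A] S) → Bd →ₐ[A] S ⧸ I) := by
    intro S _ _ I hI
    have hfS : ∀ ψ : Bd →ₐ[A] S ⧸ I, ∀ i, IsUnit (algebraMap A S (f i)) := by
      intro ψ i
      have h1 : IsUnit (algebraMap A (S ⧸ I) d) := by
        have := (IsLocalization.Away.algebraMap_isUnit (S := Bd) (algebraMap A B d)).map ψ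
        rwa [← IsScalarTower.algebraMap_apply A B Bd, AlgHom.commutes] at this
      have h2 : IsUnit (algebraMap A S d) := by
        obtain ⟨c, hc⟩ := Ideal.Quotient.mk_surjective ((h1.unit⁻¹ : (S ⧸ I)ˣ) : S ⧸ I)
        have hmem : algebraMap A S d * c - 1 ∈ I := by
          rw [← Ideal.Quotient.eq, map_mul, hc, map_one]
          exact IsUnit.mul_val_inv h1
        have hnil : IsNilpotent (algebraMap A S d * c - 1) :=
          ⟨2, by rw [← Ideal.mem_bot, ← hI]; exact Ideal.pow_mem_pow hmem 2⟩
        exact isUnit_of_mul_isUnit_left (y := c) (by simpa using hnil.isUnit_one_add)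
      exact isUnit_of_dvd_unit (map_dvd _ (Finset.dvd_prod_of_mem f (Finset.mem_univ i))) h2
    have hnS : ∀ i, IsUnit (n i : S) := fun i => by simpa using (hu i).map (algebraMap A S)
    have hext : ∀ (T : Type u) [CommRing T] [Algebra A T] (α β : Bd →ₐ[A] T),
        (∀ i, α (algebraMap B Bd (root f n i)) = β (algebraMap B Bd (root f n i))) → α = β :=
      fun T _ _ α β h => IsLocalization.algHom_ext (Submonoid.powers (algebraMap A B d))
        (algHom_ext' f n h)
    have huniq : ∀ ψ : Bd →ₐ[A] S ⧸ I, ∃! χ : Bd →ₐ[A] S, (Ideal.Quotient.mkₐ A I).comp χ = ψ := by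
      intro ψ
      choose t ht using fun i => Ideal.Quotient.mk_surjective (ψ (algebraMap B Bd (root f n i)))
      have htI : ∀ i, t i ^ n i - algebraMap A S (f i) ∈ I := fun i => by
        rw [← Ideal.Quotient.eq, map_pow, ht, ← map_pow, ← map_pow, root_pow,
          ← IsScalarTower.algebraMap_apply A B Bd, AlgHom.commutes]
        rfl
      obtain ⟨s, ⟨hs, hst⟩, hsu⟩ := etale_lift f n I hI (hfS ψ) hn hnS t htI
      obtain ⟨χ₀, hχ₀⟩ := exists_algHom f n s hs
      have hd : ∀ y : Submonoid.powers (algebraMap A B d), IsUnit (χ₀ y) := by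
        rintro ⟨_, k, rfl⟩
        show IsUnit (χ₀ (algebraMap A B d ^ k))
        rw [map_pow, show χ₀ (algebraMap A B d) = algebraMap A S d from χ₀.commutes d]
        exact IsUnit.pow k (by simpa [d, map_prod] using IsUnit.prod_univ_iff.2 (hfS ψ))
      let χ : Bd →ₐ[A] S := IsLocalization.liftAlgHom hd
      have hχ : ∀ b : B, χ (algebraMap B Bd b) = χ₀ b := fun b => by simp [χ]
      refine ⟨χ, hext _ _ _ fun i => ?_, fun χ' hχ' => hext _ _ _ fun i => ?_⟩
      · rw [AlgHom.comp_apply, hχ, hχ₀, ← ht]
        exact Ideal.Quotient.eq.2 (hst i)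
      · rw [hχ, hχ₀]
        refine congrFun (hsu (fun i => χ' (algebraMap B Bd (root f n i))) ⟨fun i => ?_, fun i => ?_⟩) i
        · rw [← map_pow, ← map_pow, root_pow, ← IsScalarTower.algebraMap_apply A B Bd, AlgHom.commutes]
        · rw [← Ideal.Quotient.eq, ht]
          exact DFunLike.congr_fun hχ' (algebraMap B Bd (root f n i))
    exact ⟨fun χ χ' h => (huniq ((Ideal.Quotient.mkₐ A I).comp χ)).unique rfl h.symm,
      fun ψ => (huniq ψ).exists⟩
  haveI : Algebra.FormallyEtale A Bd := Algebra.FormallyEtale.iff_comp_bijective.2 hbij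
  haveI : Algebra.FormallyEtale A (Localization.Away d) := Algebra.FormallyEtale.of_isLocalization (Submonoid.powers d)
  haveI : Algebra.FormallyEtale (Localization.Away d) Bd := Algebra.FormallyEtale.localization_base (Submonoid.powers d)
  exact ⟨inferInstance, inferInstance⟩

end Groth.Agent.CAlgH.KummerAlg
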