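import Mathlib.Algebra.Polynomial.Laurent
import Mathlib.LinearAlgebra.Matrix.NonsingularInverse
import Mathlib.LinearAlgebra.Matrix.Adjugate
import Mathlib.Data.Fin.Tuple.Sort
import Mathlib.Algebra.Polynomial.FieldDivision
import Mathlib.LinearAlgebra.Matrix.ToLinearEquiv

/-! Birkhoff factorisation of invertible matrices over Laurent polynomials. -/

universe u

set_option autoImplicit false

open Matrix Polynomial
open scoped LaurentPolynomial

namespace Groth.Agent.CAlgH.LaurentFactor

variable {k : Type u} [Field k] {n : ℕ}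

/-- `X ↦ T⁻¹`. -/
noncomputable def inv' : k[X] →+* k[T;T⁻¹] :=
  ((LaurentPolynomial.invert (R := k)) : k[T;T⁻¹] →+* k[T;T⁻¹]).comp Polynomial.toLaurent

theorem inv'_apply (p : k[X]) : inv' p = LaurentPolynomial.invert (Polynomial.toLaurent p) := rfl

theorem inv'_X : inv' (X : k[X]) = LaurentPolynomial.T (-1) := by
  rw [inv'_apply, Polynomial.toLaurent_X, LaurentPolynomial.invert_T]

theorem inv'_C (r : k) : inv' (Polynomial.C r) = LaurentPolynomial.C r := by
  rw [inv'_apply, Polynomial.toLaurent_C, LaurentPolynomial.invert_C]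

theorem inv'_injective : Function.Injective (inv' : k[X] → k[T;T⁻¹]) :=
  LaurentPolynomial.invert.injective.comp Polynomial.toLaurent_injective

theorem det_one_updateCol {R : Type*} [CommRing R] (i : Fin n) (v : Fin n → R) :
    ((1 : Matrix (Fin n) (Fin n) R).updateCol i v).det = v i := by
  rw [← Matrix.cramer_apply, Matrix.cramer_one]
  rfl

theorem eq_unit_mul_pow {p : k[X]} (hp : IsUnit (inv' p)) : ∃ (a : k) (j : ℕ), a ≠ 0 ∧ p = Polynomial.C a * X ^ j := by
  obtain ⟨g, hg⟩ := hp.exists_right_inv
  obtain ⟨N, g', hg'⟩ := LaurentPolynomial.exists_T_pow (LaurentPolynomial.invert g)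
  have h1 : p * g' = X ^ N := by
    apply Polynomial.toLaurent_injective
    rw [map_mul, hg', Polynomial.toLaurent_X_pow, ← mul_assoc,
      show Polynomial.toLaurent p = LaurentPolynomial.invert (inv' p) from (LaurentPolynomial.involutive_invert _).symm,
      ← map_mul, hg, map_one, one_mul]
  obtain ⟨j, -, hj⟩ := (dvd_prime_pow Polynomial.prime_X N).1 ⟨g', h1.symm⟩
  obtain ⟨u, hu⟩ := hj
  obtain ⟨a, ha, hau⟩ := Polynomial.isUnit_iff.1 u⁻¹.isUnit
  refine ⟨a, j, ha.ne_zero, ?_⟩
  rw [hau, ← hu, mul_comm p, ← mul_assoc, Units.inv_mul, one_mul]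

theorem reduce : ∀ (N : ℕ) (A : Matrix (Fin n) (Fin n) k[T;T⁻¹]), IsUnit A →
    ∀ (B P : Matrix (Fin n) (Fin n) k[X]) (e : Fin n → ℤ), IsUnit P → B.det.natDegree ≤ N →
      A * B.map inv' = P.map Polynomial.toLaurent * diagonal (fun i => LaurentPolynomial.T (e i)) →
      ∃ (B' P' : Matrix (Fin n) (Fin n) k[X]) (e' : Fin n → ℤ), IsUnit P' ∧ IsUnit B' ∧
        A * B'.map inv' = P'.map Polynomial.toLaurent * diagonal (fun i => LaurentPolynomial.T (e' i)) := by
  intro N
  induction N using Nat.strong_induction_on with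
  | _ N ih =>
    intro A hA B P e hP hN hB
    classical
    have hdet : IsUnit (inv' B.det) := by
      have h1 : IsUnit ((A * B.map inv').det) := by
        rw [hB, det_mul, det_diagonal]
        refine IsUnit.mul ?_ (IsUnit.prod_iff.2 fun i _ => LaurentPolynomial.isUnit_T _)
        rw [← RingHom.mapMatrix_apply, ← RingHom.map_det]
        exact ((Matrix.isUnit_iff_isUnit_det P).1 hP).map _
      rw [det_mul] at h1
      rw [RingHom.map_det, RingHom.mapMatrix_apply]
      exact isUnit_of_mul_isUnit_right h1
    obtain ⟨a, j, ha, haj⟩ := eq_unit_mul_pow hdet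
    rcases Nat.eq_zero_or_pos j with hj | hj
    · refine ⟨B, P, e, hP, ?_, hB⟩
      rw [Matrix.isUnit_iff_isUnit_det, haj, hj, pow_zero, mul_one]
      exact Polynomial.isUnit_C.2 (Ne.isUnit ha)
    -- a constant relation between the columns
    have h0 : (B.map (Polynomial.evalRingHom (0 : k))).det = 0 := by
      rw [← RingHom.mapMatrix_apply, ← RingHom.map_det, haj, Polynomial.coe_evalRingHom]
      simp [hj.ne']
    obtain ⟨c, hc0, hc⟩ := Matrix.exists_mulVec_eq_zero_iff.2 h0
    obtain ⟨i₀, hi₀, hmin⟩ := Finset.exists_min_image (Finset.univ.filter fun i => c i ≠ 0) e (by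
      obtain ⟨i, hi⟩ := Function.ne_iff.1 hc0
      exact ⟨i, Finset.mem_filter.2 ⟨Finset.mem_univ _, hi⟩⟩)
    rw [Finset.mem_filter] at hi₀
    let cc : Fin n → k[X] := fun i => Polynomial.C (c i)
    have hdvd : ∀ l, X ∣ (B *ᵥ cc) l := by
      intro l
      rw [Polynomial.X_dvd_iff, Polynomial.coeff_zero_eq_eval_zero]
      have hl := congrFun hc l
      simp only [mulVec, dotProduct, Matrix.map_apply, Pi.zero_apply, Polynomial.coe_evalRingHom] at hl
      simpa [cc, mulVec, dotProduct, Polynomial.eval_finsetSum] using hl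
    choose w hw using hdvd
    let K := B.updateCol i₀ w
    let U : Matrix (Fin n) (Fin n) k[X] := (1 : Matrix (Fin n) (Fin n) k[X]).updateCol i₀ cc
    let Dx : Fin n → k[X] := fun i => if i = i₀ then X else 1
    have hBU : B * U = K * diagonal Dx := by
      ext l m
      rw [mul_diagonal]
      by_cases hm : m = i₀
      · subst hm
        simp only [K, Dx, if_true, updateCol_self]
        rw [mul_comm (w l), ← hw l]
        simp [U, Matrix.mul_apply, mulVec, dotProduct]
      · simp only [K, Dx, if_neg hm, updateCol_ne hm, mul_one]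
        simp [U, Matrix.mul_apply, updateCol_ne hm, Matrix.one_apply]
    let E : Matrix (Fin n) (Fin n) k[X] :=
      (1 : Matrix (Fin n) (Fin n) k[X]).updateCol i₀ fun i => Polynomial.C (c i) * X ^ (e i - e i₀).toNat
    have hE : IsUnit E := by
      rw [Matrix.isUnit_iff_isUnit_det, det_one_updateCol, sub_self]
      simpa using hi₀.2
    have hDU : diagonal (fun i => LaurentPolynomial.T (e i)) * U.map inv' =
        E.map Polynomial.toLaurent * diagonal (fun i => (LaurentPolynomial.T (e i) : k[T;T⁻¹])) := by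
      ext l m
      rw [diagonal_mul, mul_diagonal, Matrix.map_apply, Matrix.map_apply]
      by_cases hm : m = i₀
      · subst hm
        simp only [U, E, updateCol_self, cc]
        rw [inv'_C, map_mul, Polynomial.toLaurent_C, Polynomial.toLaurent_X_pow]
        by_cases hcl : c l = 0
        · simp [hcl]
        · have := hmin l (Finset.mem_filter.2 ⟨Finset.mem_univ _, hcl⟩)
          rw [Int.toNat_of_nonneg (by omega), mul_assoc, ← LaurentPolynomial.T_add, sub_add_cancel, mul_comm]
      · simp only [U, E, updateCol_ne hm, Matrix.one_apply]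
        by_cases hlm : l = m
        · subst hlm; simp
        · simp [hlm]
    let e' : Fin n → ℤ := fun i => if i = i₀ then e i + 1 else e i
    have hDx : (diagonal Dx).map inv' = diagonal fun i => (LaurentPolynomial.T (e i - e' i) : k[T;T⁻¹]) := by
      rw [diagonal_map (map_zero _)]
      refine congrArg diagonal (funext fun i => ?_)
      simp only [Dx, e']
      split
      · rw [inv'_X]; congr 1; omega
      · rw [map_one, sub_self, LaurentPolynomial.T_zero]
    have key : A * K.map inv' = (P * E).map Polynomial.toLaurent * diagonal (fun i => LaurentPolynomial.T (e' i)) := by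
      have h2 : A * (K * diagonal Dx).map inv' = (P * E).map Polynomial.toLaurent * diagonal (fun i => LaurentPolynomial.T (e i)) := by
        rw [← hBU, Matrix.map_mul, Matrix.map_mul, ← mul_assoc, hB, mul_assoc, hDU, mul_assoc]
      rw [Matrix.map_mul, hDx, ← mul_assoc] at h2
      have h3 := congrArg (fun M => M * diagonal fun i => (LaurentPolynomial.T (e' i - e i) : k[T;T⁻¹])) h2
      rw [mul_assoc, diagonal_mul_diagonal, mul_assoc ((P * E).map _), diagonal_mul_diagonal] at h3
      simp only [← LaurentPolynomial.T_add, sub_add_sub_cancel, sub_self, add_sub_cancel, LaurentPolynomial.T_zero,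
        Matrix.diagonal_one, mul_one] at h3
      exact h3
    have hdeg : K.det.natDegree < B.det.natDegree := by
      have h1 := congrArg Matrix.det hBU
      rw [det_mul, det_mul, det_one_updateCol, det_diagonal, Finset.prod_ite_eq' Finset.univ i₀ fun _ => X] at h1
      simp only [Finset.mem_univ, if_true, cc] at h1
      have hK0 : K.det ≠ 0 := fun h => by
        rw [h, zero_mul, haj] at h1
        simp [ha, hi₀.2] at h1
      have := congrArg Polynomial.natDegree h1
      rw [Polynomial.natDegree_mul_C hi₀.2, Polynomial.natDegree_mul_X hK0] at this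
      omega
    exact ih K.det.natDegree (hdeg.trans_le hN) A hA K (P * E) e' (hP.mul hE) le_rfl key

theorem main (A : Matrix (Fin n) (Fin n) k[T;T⁻¹]) (hA : IsUnit A) :
    ∃ (P Q : Matrix (Fin n) (Fin n) k[X]) (d : Fin n → ℤ),
      IsUnit P ∧ IsUnit Q ∧ Antitone d ∧
        A = P.map Polynomial.toLaurent * Matrix.diagonal (fun i => LaurentPolynomial.T (d i)) *
          (Q.map Polynomial.toLaurent).map LaurentPolynomial.invert := by
  obtain ⟨Ai, hAi⟩ := hA.exists_right_inv
  choose N B hB using fun i j => LaurentPolynomial.exists_T_pow (LaurentPolynomial.invert (Ai i j))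
  let M : ℕ := ∑ i, ∑ j, N i j
  have hM : ∀ i j, N i j ≤ M := fun i j =>
    (Finset.single_le_sum (fun b _ => Nat.zero_le (N i b)) (Finset.mem_univ j)).trans
      (Finset.single_le_sum (fun a _ => Nat.zero_le (∑ b, N a b)) (Finset.mem_univ i))
  let B₀ : Matrix (Fin n) (Fin n) k[X] := Matrix.of fun i j => B i j * X ^ (M - N i j)
  have h₀ : B₀.map inv' = Ai * diagonal (fun _ => LaurentPolynomial.T (-(M : ℤ))) := by
    ext i j
    rw [mul_diagonal, Matrix.map_apply]
    simp only [B₀, Matrix.of_apply]
    rw [map_mul, map_pow, inv'_apply (B i j), hB, map_mul, LaurentPolynomial.involutive_invert,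
      LaurentPolynomial.invert_T, inv'_X, LaurentPolynomial.T_pow, mul_assoc, ← LaurentPolynomial.T_add]
    have := hM i j
    rw [show -(N i j : ℤ) + ((M - N i j : ℕ) : ℤ) * -1 = -(M : ℤ) by omega]
  obtain ⟨B', P, e, hP, hB', h⟩ := reduce B₀.det.natDegree A hA B₀ 1 (fun _ => -(M : ℤ)) isUnit_one le_rfl (by
    rw [h₀, ← mul_assoc, hAi, Matrix.map_one _ (map_zero _) (map_one _)])
  obtain ⟨Q, hQ⟩ := hB'.exists_right_inv
  have hA' : A = P.map Polynomial.toLaurent * diagonal (fun i => LaurentPolynomial.T (e i)) * Q.map inv' := by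
    rw [← h, mul_assoc, ← Matrix.map_mul, hQ, Matrix.map_one _ (map_zero _) (map_one _), mul_one]
  let σ := Tuple.sort (fun i => OrderDual.toDual (e i))
  refine ⟨P.submatrix id σ, Q.submatrix σ id, e ∘ σ, ?_, ?_, fun a b hab => Tuple.monotone_sort (fun i => OrderDual.toDual (e i)) hab, ?_⟩
  · rw [Matrix.isUnit_iff_isUnit_det] at hP ⊢
    rw [Matrix.det_permute']
    exact (((Equiv.Perm.sign σ).isUnit.map (Int.castRingHom k[X]))).mul hP
  · have hQu : IsUnit Q := IsUnit.of_mul_eq_one_right _ hQ
    rw [Matrix.isUnit_iff_isUnit_det] at hQu ⊢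
    rw [Matrix.det_permute]
    exact (((Equiv.Perm.sign σ).isUnit.map (Int.castRingHom k[X]))).mul hQu
  · refine hA'.trans ?_
    rw [← Matrix.submatrix_map, ← Matrix.submatrix_map, ← Matrix.submatrix_map, Matrix.map_map,
      show diagonal (fun i => LaurentPolynomial.T ((e ∘ σ) i)) =
        (diagonal (fun i => (LaurentPolynomial.T (e i) : k[T;T⁻¹]))).submatrix σ σ from
        (Matrix.submatrix_diagonal_equiv (fun i => (LaurentPolynomial.T (e i) : k[T;T⁻¹])) σ).symm]
    rw [Matrix.submatrix_mul_equiv, Matrix.submatrix_mul_equiv, Matrix.submatrix_id_id]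
    rfl

end Groth.Agent.CAlgH.LaurentFactor
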