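import Mathlib

/-!
# Lech's inequality by degeneration to monomials

The leading exponents of a primary ideal `I` in a system of generators of the maximal ideal form an
up-closed set whose complement has `ℓ(O/I)` points; splitting the leading exponents of `O` into finitely
many translated orthants bounds `ℓ(O/I^n)` by `ℓ(O/I)` times the number of orthant points.
-/

universe u

set_option autoImplicit false

open Filter Topology IsLocalRing MonomialOrder

namespace Groth.Agent.CAlgH.Lech

section Combinatorics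

/-- A translated coordinate orthant. -/
def piece {k : ℕ} (c : Fin k → ℕ) (F : Finset (Fin k)) : Set (Fin k → ℕ) :=
  {p | (∀ i ∈ F, c i ≤ p i) ∧ ∀ i ∉ F, p i = c i}

theorem exists_stable {k : ℕ} (U : ℕ → Set (Fin k → ℕ)) (hmono : Monotone U)
    (hup : ∀ t, ∀ a ∈ U t, ∀ b, a ≤ b → b ∈ U t) : ∃ T, ∀ t, T ≤ t → U t = U T := by
  by_contra h
  push Not at h
  have h' : ∀ T, ∃ t, ∃ p, T ≤ t ∧ p ∈ U t ∧ p ∉ U T := fun T => by
    obtain ⟨t, ht, hne⟩ := h T
    obtain ⟨p, hp⟩ := Set.not_subset.1 fun hs => hne (Set.Subset.antisymm hs (hmono ht))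
    exact ⟨t, p, ht, hp.1, hp.2⟩
  choose nx p hnx hpin hpout using h'
  let N : ℕ → ℕ := fun j => nx^[j] 0
  have hN : Monotone N := monotone_nat_of_le_succ fun j => by
    simp only [N, Function.iterate_succ_apply']
    exact hnx _
  obtain ⟨i, j, hij, hle⟩ := wellQuasiOrdered_le (fun j => p (N j))
  refine hpout (N j) (hmono (hN hij) ?_)
  refine hup _ _ ?_ _ hle
  simp only [N, Function.iterate_succ_apply']
  exact hpin _

/-- A down-closed set is a disjoint union of finitely many orthants. -/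
theorem exists_decomp : ∀ (k : ℕ) (D : Set (Fin k → ℕ)), (∀ a ∈ D, ∀ b, b ≤ a → b ∈ D) →
    ∃ P : Finset ((Fin k → ℕ) × Finset (Fin k)), (∀ p, p ∈ D ↔ ∃ π ∈ P, p ∈ piece π.1 π.2) ∧
      ∀ π ∈ P, ∀ π' ∈ P, π ≠ π' → Disjoint (piece π.1 π.2) (piece π'.1 π'.2)
  | 0, D, hD => by
    classical
    by_cases h : (fun i => i.elim0) ∈ D
    · refine ⟨{((fun i => i.elim0), ∅)}, fun p => ?_, ?_⟩
      · rw [Subsingleton.elim p fun i => i.elim0]
        simp [h, piece]
      · intro π hπ π' hπ' hne
        exact absurd ((Finset.mem_singleton.1 hπ).trans (Finset.mem_singleton.1 hπ').symm) hne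
    · exact ⟨∅, fun p => by rw [Subsingleton.elim p fun i => i.elim0]; simp [h], by simp⟩
  | k + 1, D, hD => by
    classical
    let Ds : ℕ → Set (Fin k → ℕ) := fun t => {q | Fin.snoc q t ∈ D}
    have hdown : ∀ t, ∀ a ∈ Ds t, ∀ b, b ≤ a → b ∈ Ds t := fun t a ha b hb => hD _ ha _ fun i => by
      induction i using Fin.lastCases with
      | last => simp
      | cast i => simpa using hb i
    obtain ⟨T, hT⟩ := exists_stable (fun t => (Ds t)ᶜ) (fun a b hab q hq hq' => hq (hD _ hq' _ fun i => by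
        induction i using Fin.lastCases with
        | last => simpa using hab
        | cast i => simp)) (fun t a ha b hab hb => ha (hdown t b hb a hab))
    choose P hP hPd using fun t => exists_decomp k (Ds t) (hdown t)
    have hmem : ∀ (c : Fin k → ℕ) (F : Finset (Fin k)) (t : ℕ) (p : Fin (k + 1) → ℕ),
        (p ∈ piece (Fin.snoc c t) (F.map Fin.castSuccEmb) ↔ Fin.init p ∈ piece c F ∧ p (Fin.last k) = t) ∧
        (p ∈ piece (Fin.snoc c t) (insert (Fin.last k) (F.map Fin.castSuccEmb)) ↔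
          Fin.init p ∈ piece c F ∧ t ≤ p (Fin.last k)) := by
      intro c F t p
      constructor <;>
      · simp only [piece, Set.mem_ofPred_eq, Fin.forall_fin_succ', Fin.init]
        simp [Fin.castSucc_ne_last, ← Fin.ext_iff]
        tauto
    have hinitD : ∀ p : Fin (k + 1) → ℕ, Fin.init p ∈ Ds (p (Fin.last k)) ↔ p ∈ D := fun p => by
      show Fin.snoc (Fin.init p) (p (Fin.last k)) ∈ D ↔ _
      rw [Fin.snoc_init_self]
    let low : Finset ((Fin (k + 1) → ℕ) × Finset (Fin (k + 1))) := (Finset.range T).biUnion fun t =>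
      (P t).image fun π => (Fin.snoc π.1 t, π.2.map Fin.castSuccEmb)
    let high : Finset ((Fin (k + 1) → ℕ) × Finset (Fin (k + 1))) :=
      (P T).image fun π => (Fin.snoc π.1 T, insert (Fin.last k) (π.2.map Fin.castSuccEmb))
    refine ⟨low ∪ high, fun p => ⟨fun hp => ?_, ?_⟩, ?_⟩
    · rcases lt_or_ge (p (Fin.last k)) T with ht | ht
      · obtain ⟨π, hπ, hmemπ⟩ := (hP _ _).1 ((hinitD p).2 hp)
        exact ⟨_, Finset.mem_union_left _ (Finset.mem_biUnion.2 ⟨_, Finset.mem_range.2 ht,
          Finset.mem_image.2 ⟨π, hπ, rfl⟩⟩), (hmem _ _ _ _).1.2 ⟨hmemπ, rfl⟩⟩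
      · have hmT : Fin.init p ∈ Ds T := by rw [← compl_injective (hT _ ht)]; exact (hinitD p).2 hp
        obtain ⟨π, hπ, hmemπ⟩ := (hP _ _).1 hmT
        exact ⟨_, Finset.mem_union_right _ (Finset.mem_image.2 ⟨π, hπ, rfl⟩), (hmem _ _ _ _).2.2 ⟨hmemπ, ht⟩⟩
    · rintro ⟨σ, hσ, hpσ⟩
      rw [← hinitD]
      rcases Finset.mem_union.1 hσ with hσ | hσ
      · obtain ⟨t, -, hσ⟩ := Finset.mem_biUnion.1 hσ
        obtain ⟨π, hπ, rfl⟩ := Finset.mem_image.1 hσ
        obtain ⟨h1, h2⟩ := (hmem _ _ _ _).1.1 hpσ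
        rw [h2]
        exact (hP _ _).2 ⟨π, hπ, h1⟩
      · obtain ⟨π, hπ, rfl⟩ := Finset.mem_image.1 hσ
        obtain ⟨h1, h2⟩ := (hmem _ _ _ _).2.1 hpσ
        rw [compl_injective (hT _ h2)]
        exact (hP _ _).2 ⟨π, hπ, h1⟩
    · intro σ hσ σ' hσ' hne
      rw [Set.disjoint_left]
      intro p hp hp'
      rcases Finset.mem_union.1 hσ with h | h <;> rcases Finset.mem_union.1 hσ' with h' | h'
      · obtain ⟨t, -, h⟩ := Finset.mem_biUnion.1 h
        obtain ⟨π, hπ, rfl⟩ := Finset.mem_image.1 h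
        obtain ⟨t', -, h'⟩ := Finset.mem_biUnion.1 h'
        obtain ⟨π', hπ', rfl⟩ := Finset.mem_image.1 h'
        obtain ⟨a1, a2⟩ := (hmem _ _ _ _).1.1 hp
        obtain ⟨b1, b2⟩ := (hmem _ _ _ _).1.1 hp'
        obtain rfl : t = t' := a2.symm.trans b2
        exact Set.disjoint_left.1 (hPd t π hπ π' hπ' fun e => hne (by rw [e])) a1 b1
      · obtain ⟨t, ht, h⟩ := Finset.mem_biUnion.1 h
        obtain ⟨π, hπ, rfl⟩ := Finset.mem_image.1 h
        obtain ⟨π', hπ', rfl⟩ := Finset.mem_image.1 h'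
        have := ((hmem _ _ _ _).1.1 hp).2
        have := ((hmem _ _ _ _).2.1 hp').2
        have := Finset.mem_range.1 ht
        omega
      · obtain ⟨t, ht, h'⟩ := Finset.mem_biUnion.1 h'
        obtain ⟨π, hπ, rfl⟩ := Finset.mem_image.1 h
        obtain ⟨π', hπ', rfl⟩ := Finset.mem_image.1 h'
        have := ((hmem _ _ _ _).2.1 hp).2
        have := ((hmem _ _ _ _).1.1 hp').2
        have := Finset.mem_range.1 ht
        omega
      · obtain ⟨π, hπ, rfl⟩ := Finset.mem_image.1 h
        obtain ⟨π', hπ', rfl⟩ := Finset.mem_image.1 h'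
        exact Set.disjoint_left.1 (hPd T π hπ π' hπ' fun e => hne (by rw [e]))
          ((hmem _ _ _ _).2.1 hp).1 ((hmem _ _ _ _).2.1 hp').1

/-- Exponents of degree `< n`. -/
def deg (s n : ℕ) : Finset (Fin s → ℕ) :=
  (Fintype.piFinset fun _ : Fin s => Finset.range n).filter fun p => ∑ i, p i < n

theorem mem_deg {s n : ℕ} {p : Fin s → ℕ} : p ∈ deg s n ↔ ∑ i, p i < n := by
  simp only [deg, Finset.mem_filter, Fintype.mem_piFinset, Finset.mem_range, and_iff_right_iff_imp]
  exact fun h i => lt_of_le_of_lt (Finset.single_le_sum (fun j _ => Nat.zero_le (p j)) (Finset.mem_univ i)) h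

theorem pow_le_factorial_mul_card {s : ℕ} (c : Fin s → ℕ) (F : Finset (Fin s)) (n : ℕ) (hn : ∑ i, c i < n)
    [DecidablePred (· ∈ piece c F)] :
    (n - ∑ i, c i) ^ F.card ≤ F.card.factorial * ((deg s n).filter (· ∈ piece c F)).card := by
  classical
  obtain ⟨m, hm⟩ : ∃ m, n = (∑ i, c i) + m + 1 := ⟨n - (∑ i, c i) - 1, by omega⟩
  let ext' : ({x // x ∈ F} → ℕ) → Fin s → ℕ := fun q i => c i + if h : i ∈ F then q ⟨i, h⟩ else 0
  let X := {P : Option {x // x ∈ F} → ℕ // ∑ a, P a = m}
  let Φ : X → {p // p ∈ (deg s n).filter (· ∈ piece c F)} := fun P => ⟨ext' fun a => P.1 (some a), by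
    have hsum : ∑ i, ext' (fun a => P.1 (some a)) i = (∑ i, c i) + ∑ a : {x // x ∈ F}, P.1 (some a) := by
      simp only [ext', Finset.sum_add_distrib, add_right_inj]
      rw [← Finset.sum_subset (Finset.subset_univ F) (fun i _ hi => dif_neg hi), ← Finset.sum_attach]
      exact Finset.sum_congr rfl fun a _ => dif_pos a.2
    have h2 := P.2
    rw [Fintype.sum_option] at h2
    refine Finset.mem_filter.2 ⟨mem_deg.2 (by omega), fun i hi => Nat.le_add_right _ _, fun i hi => ?_⟩
    simp [ext', hi]⟩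
  have hΦ : Function.Injective Φ := fun P P' h => by
    have hsome : ∀ a, P.1 (some a) = P'.1 (some a) := fun a => by
      have := congrFun (congrArg Subtype.val h) a.1
      simpa [Φ, ext', a.2] using this
    apply Subtype.ext
    funext o
    rcases o with _ | a
    · have h1 := P.2
      have h2 := P'.2
      rw [Fintype.sum_option] at h1 h2
      have : ∑ a, P.1 (some a) = ∑ a, P'.1 (some a) := Finset.sum_congr rfl fun a _ => hsome a
      omega
    · exact hsome a
  let e : Sym (Option {x // x ∈ F}) m ≃ X := Sym.equivNatSumOfFintype _ m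
  have h1 := Fintype.card_le_of_injective (Φ ∘ e) (hΦ.comp e.injective)
  rw [Sym.card_sym_eq_choose, Fintype.card_option, Fintype.card_coe, Fintype.card_coe,
    show F.card + 1 + m - 1 = F.card + m by omega, ← Nat.choose_symm_add] at h1
  refine le_trans ?_ (Nat.mul_le_mul_left _ h1)
  have h2 : (((F.card + m + 1 - F.card : ℕ) : ℚ)) ^ F.card / F.card.factorial ≤ ((F.card + m).choose F.card : ℚ) :=
    Nat.pow_le_choose F.card (F.card + m)
  rw [div_le_iff₀ (by exact_mod_cast F.card.factorial_pos)] at h2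
  have h3 : (((F.card + m + 1 - F.card) ^ F.card : ℕ) : ℚ) ≤ ((F.card.factorial * (F.card + m).choose F.card : ℕ) : ℚ) := by
    push_cast
    push_cast at h2
    linarith
  rw [Nat.cast_le] at h3
  rwa [show n - ∑ i, c i = F.card + m + 1 - F.card by omega]

theorem card_le_pow_mul {s : ℕ} (c : Fin s → ℕ) (F : Finset (Fin s)) {n : ℕ} (hn : 0 < n) (S K : Finset (Fin s → ℕ))
    (hS : ∀ p ∈ S, p ∈ piece c F)
    (hSK : ∀ p ∈ S, ∀ a, (∀ i, n * a i ≤ p i) → a ∈ K) : S.card ≤ K.card * n ^ F.card := by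
  classical
  let q : (Fin s → ℕ) → Fin s → ℕ := fun p i => p i - c i
  let Φ : {p // p ∈ S} → {a // a ∈ K} × ({x // x ∈ F} → Fin n) := fun p =>
    (⟨fun i => q p.1 i / n, hSK p.1 p.2 _ fun i => (Nat.mul_div_le _ n).trans (Nat.sub_le _ _)⟩,
      fun i => ⟨q p.1 i.1 % n, Nat.mod_lt _ hn⟩)
  have hΦ : Function.Injective Φ := fun p p' h => by
    apply Subtype.ext
    funext i
    obtain ⟨h1, h1'⟩ := hS p.1 p.2
    obtain ⟨h2, h2'⟩ := hS p'.1 p'.2
    by_cases hi : i ∈ F
    · have e1 : q p.1 i / n = q p'.1 i / n := congrFun (congrArg Subtype.val (congrArg Prod.fst h)) i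
      have e2 : q p.1 i % n = q p'.1 i % n := congrArg Fin.val (congrFun (congrArg Prod.snd h) ⟨i, hi⟩)
      have e3 : q p.1 i = q p'.1 i := by rw [← Nat.div_add_mod (q p.1 i) n, e1, e2, Nat.div_add_mod]
      have := h1 i hi
      have := h2 i hi
      simp only [q] at e3
      omega
    · rw [h1' i hi, h2' i hi]
  have := Fintype.card_le_of_injective Φ hΦ
  simpa using this

end Combinatorics

section Leading

variable {s : ℕ}

/-- The graded lexicographic key of an exponent. -/
noncomputable def key (p : Fin s → ℕ) : (degLex (σ := Fin s)).syn :=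
  degLex.toSyn (Finsupp.equivFunOnFinite.symm p)

theorem key_add (p q : Fin s → ℕ) : key (p + q) = key p + key q := by
  rw [key, key, key, ← map_add]
  congr 1
  ext i
  simp

theorem key_injective : Function.Injective (key (s := s)) :=
  degLex.toSyn.injective.comp Finsupp.equivFunOnFinite.symm.injective

theorem key_lt_of_sum_lt {p q : Fin s → ℕ} (h : ∑ i, p i < ∑ i, q i) : key p < key q := by
  show _ ≺[degLex] _
  rw [degLex_lt_iff, Finsupp.DegLex.lt_iff]
  left
  simpa [Finsupp.degree_eq_sum] using h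

theorem sum_le_of_key_le {p q : Fin s → ℕ} (h : key p ≤ key q) : ∑ i, p i ≤ ∑ i, q i :=
  le_of_not_gt fun h' => (key_lt_of_sum_lt h').not_ge h

variable {O : Type u} [CommRing O] (x : Fin s → O)

/-- A monomial. -/
def mono (p : Fin s → ℕ) : O := ∏ i, x i ^ p i

theorem mono_add (p q : Fin s → ℕ) : mono x (p + q) = mono x p * mono x q := by
  simp [mono, pow_add, Finset.prod_mul_distrib]

/-- The monomials above `p`. -/
def above (p : Fin s → ℕ) : Ideal O := Ideal.span (mono x '' {q | key p < key q})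

/-- The leading exponents of `J`. -/
def lead (J : Ideal O) : Set (Fin s → ℕ) := {p | mono x p ∈ J ⊔ above x p}

theorem mono_mul_above {p c : Fin s → ℕ} {f : O} (hf : f ∈ above x p) : mono x c * f ∈ above x (c + p) := by
  induction hf using Submodule.span_induction with
  | mem y hy =>
    obtain ⟨q, hq, rfl⟩ := hy
    refine Ideal.subset_span ⟨c + q, ?_, mono_add x c q⟩
    show key (c + p) < key (c + q)
    rw [key_add, key_add]
    exact add_lt_add_of_le_of_lt le_rfl hq
  | zero => rw [mul_zero]; exact zero_mem _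
  | add y z _ _ hy hz => rw [mul_add]; exact add_mem hy hz
  | smul a y _ hy => rw [smul_eq_mul, mul_left_comm]; exact Ideal.mul_mem_left _ _ hy

theorem above_anti {p q : Fin s → ℕ} (h : key p ≤ key q) : above x q ≤ above x p :=
  Ideal.span_mono (Set.image_mono fun _ hr => lt_of_le_of_lt h hr)

theorem above_mul {p q : Fin s → ℕ} {f g : O} (hf : f ∈ above x p) (hg : g ∈ above x q) :
    f * g ∈ above x (p + q) := by
  induction hg using Submodule.span_induction with
  | mem y hy =>
    obtain ⟨q', hq', rfl⟩ := hy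
    rw [mul_comm]
    refine above_anti x ?_ (mono_mul_above x (c := q') hf)
    rw [key_add, key_add, add_comm (key q')]
    exact add_le_add le_rfl (le_of_lt hq')
  | zero => rw [mul_zero]; exact zero_mem _
  | add y z _ _ hy hz => rw [mul_add]; exact add_mem hy hz
  | smul a y _ hy => rw [smul_eq_mul, mul_left_comm]; exact Ideal.mul_mem_left _ _ hy

theorem lead_add {I J : Ideal O} {p q : Fin s → ℕ} (hp : p ∈ lead x I) (hq : q ∈ lead x J) :
    p + q ∈ lead x (I * J) := by
  obtain ⟨i, hi, f, hf, hpe⟩ := Submodule.mem_sup.1 hp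
  obtain ⟨j, hj, g, hg, hqe⟩ := Submodule.mem_sup.1 hq
  have h1 := mono_mul_above x (c := p) hg
  have h2 := mono_mul_above x (c := q) hf
  rw [add_comm q p] at h2
  refine Submodule.mem_sup.2 ⟨i * j, Ideal.mul_mem_mul hi hj, mono x p * g + mono x q * f - f * g,
    sub_mem (add_mem h1 h2) (above_mul x hf hg), ?_⟩
  rw [mono_add, ← hpe, ← hqe]
  ring

theorem lead_mono {I J : Ideal O} (h : I ≤ J) : lead x I ⊆ lead x J :=
  fun _ hp => (sup_le_sup_right h _ : _ ⊔ above x _ ≤ _ ⊔ above x _) hp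

theorem lead_up (J : Ideal O) {p q : Fin s → ℕ} (hp : p ∈ lead x J) (hpq : p ≤ q) : q ∈ lead x J := by
  have h0 : q - p ∈ lead x (⊤ : Ideal O) := Submodule.mem_sup_left Submodule.mem_top
  have := lead_add x hp h0
  rwa [add_tsub_cancel_of_le hpq, Ideal.mul_top] at this

theorem lead_nsmul {I : Ideal O} {a : Fin s → ℕ} (ha : a ∈ lead x I) : ∀ n : ℕ, n • a ∈ lead x (I ^ n)
  | 0 => by rw [zero_nsmul, pow_zero, Ideal.one_eq_top]; exact Submodule.mem_sup_left Submodule.mem_top
  | n + 1 => by rw [succ_nsmul, pow_succ]; exact lead_add x (lead_nsmul ha n) ha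

variable [IsLocalRing O] (hx : Ideal.span (Set.range x) = maximalIdeal O)

include hx in
theorem pow_le_span : ∀ n : ℕ, maximalIdeal O ^ n ≤ Ideal.span (mono x '' {q | n ≤ ∑ i, q i})
  | 0 => by
    intro r _
    have h1 : (1 : O) ∈ Ideal.span (mono x '' {q : Fin s → ℕ | 0 ≤ ∑ i, q i}) :=
      Ideal.subset_span ⟨0, Nat.zero_le _, by simp [mono]⟩
    simpa using Ideal.mul_mem_left _ r h1
  | n + 1 => by
    rw [pow_succ]
    refine (Ideal.mul_mono (pow_le_span n) hx.ge).trans ?_
    rw [Ideal.span_mul_span']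
    refine Ideal.span_le.2 ?_
    rintro _ ⟨_, ⟨q, hq, rfl⟩, _, ⟨i, rfl⟩, rfl⟩
    refine Ideal.subset_span ⟨q + Pi.single i 1, ?_, ?_⟩
    · show n + 1 ≤ ∑ j, (q + Pi.single i 1 : Fin s → ℕ) j
      simp only [Pi.add_apply, Finset.sum_add_distrib, Finset.sum_pi_single', Finset.mem_univ, if_true]
      exact Nat.add_le_add_right hq 1
    · rw [mono_add]
      congr 1
      rw [mono, Finset.prod_eq_single i (fun j _ hj => by rw [Pi.single_eq_of_ne hj, pow_zero])
        (fun h => absurd (Finset.mem_univ i) h), Pi.single_eq_same, pow_one]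

include hx in
theorem mono_mem_pow (p : Fin s → ℕ) {n : ℕ} (h : n ≤ ∑ i, p i) : mono x p ∈ maximalIdeal O ^ n := by
  refine Ideal.pow_le_pow_right h ?_
  rw [← Finset.prod_pow_eq_pow_sum]
  exact Ideal.prod_mem_prod fun i _ => Ideal.pow_mem_pow (hx ▸ Ideal.subset_span ⟨i, rfl⟩) _

include hx in
theorem pow_le_above {p : Fin s → ℕ} {n : ℕ} (h : ∑ i, p i < n) : maximalIdeal O ^ n ≤ above x p :=
  (pow_le_span x hx n).trans (Ideal.span_mono (Set.image_mono fun _ hq => key_lt_of_sum_lt (lt_of_lt_of_le h hq)))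

theorem length_step (X : Ideal O) (y : O) (hy : ∀ r ∈ maximalIdeal O, r * y ∈ X) :
    (y ∈ X → Module.length O (O ⧸ X) = Module.length O (O ⧸ (X ⊔ Ideal.span {y}))) ∧
      (y ∉ X → Module.length O (O ⧸ X) = Module.length O (O ⧸ (X ⊔ Ideal.span {y})) + 1) := by
  refine ⟨fun h => ?_, fun h => ?_⟩
  · rw [sup_eq_left.2 ((Ideal.span_singleton_le_iff_mem _).2 h)]
  · let v : O ⧸ X := Submodule.Quotient.mk y
    let f : O →ₗ[O] O ⧸ X := LinearMap.toSpanSingleton O (O ⧸ X) v
    have hker : LinearMap.ker f = maximalIdeal O := by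
      refine le_antisymm (le_maximalIdeal fun htop => h ?_) fun r hr => ?_
      · have h1 : (1 : O) ∈ LinearMap.ker f := htop ▸ Submodule.mem_top
        simpa [f, v, Submodule.Quotient.mk_eq_zero, Ideal.Quotient.eq_zero_iff_mem] using h1
      · exact (Submodule.Quotient.mk_eq_zero X).2 (hy r hr)
    let ι : (O ⧸ maximalIdeal O) →ₗ[O] O ⧸ X := Submodule.liftQ _ f hker.ge
    let π : (O ⧸ X) →ₗ[O] O ⧸ (X ⊔ Ideal.span {y}) := Submodule.factor le_sup_left
    have hι : Function.Injective ι :=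
      LinearMap.ker_eq_bot.1 (Submodule.ker_liftQ_eq_bot _ _ _ hker.le)
    have hex : Function.Exact ι π := fun q => by
      obtain ⟨r, rfl⟩ := Submodule.Quotient.mk_surjective _ q
      constructor
      · intro hr
        obtain ⟨a, ha, b, hb, hab⟩ := Submodule.mem_sup.1 ((Submodule.Quotient.mk_eq_zero _).1 hr)
        obtain ⟨c, rfl⟩ := Ideal.mem_span_singleton'.1 hb
        refine ⟨Submodule.Quotient.mk c, ?_⟩
        show c • v = _
        rw [← Submodule.Quotient.mk_smul]
        refine (Submodule.Quotient.eq X).2 ?_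
        have hab' : a + c * y = r := hab
        rw [← hab', smul_eq_mul, sub_add_cancel_right]
        exact neg_mem ha
      · rintro ⟨c, hc⟩
        obtain ⟨c, rfl⟩ := Submodule.Quotient.mk_surjective _ c
        rw [← hc]
        exact (Submodule.Quotient.mk_eq_zero _).2 (Submodule.mem_sup_right (Ideal.mem_span_singleton'.2 ⟨c, rfl⟩))
    have h1 : IsSimpleModule O (O ⧸ maximalIdeal O) :=
      isSimpleModule_iff_isCoatom.2 (maximalIdeal.isMaximal O).out
    rw [Module.length_eq_add_of_exact ι π hι (Submodule.factor_surjective _) hex, Module.length_eq_one O (O ⧸ maximalIdeal O), add_comm]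

include hx in
theorem length_eq_card (J : Ideal O) (N : ℕ) (hJ : maximalIdeal O ^ N ≤ J) [DecidablePred (· ∈ lead x J)] :
    Module.length O (O ⧸ J) = (((deg s N).filter fun p => p ∉ lead x J).card : ℕ∞) := by
  classical
  have key' : ∀ T : Finset (Fin s → ℕ), (∀ t ∈ T, ∀ q, key q < key t → q ∈ T) →
      Module.length O (O ⧸ (J ⊔ Ideal.span (mono x '' {q | q ∉ T}))) =
        ((T.filter fun p => p ∉ lead x J).card : ℕ∞) := by
    intro T
    induction h : T.card generalizing T with
    | zero =>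
      intro _
      rw [Finset.card_eq_zero] at h
      subst h
      have htop : J ⊔ Ideal.span (mono x '' {q | q ∉ (∅ : Finset (Fin s → ℕ))}) = ⊤ := by
        refine eq_top_iff.2 ((Ideal.eq_top_iff_one _).2 ?_).ge
        exact Submodule.mem_sup_right (Ideal.subset_span ⟨0, by simp, by simp [mono]⟩)
      rw [htop, Module.length_eq_zero_iff.2 (Submodule.Quotient.subsingleton_iff.2 rfl)]
      simp
    | succ k ih =>
      intro hdown
      obtain ⟨p, hpT, hmax⟩ := T.exists_max_image key (Finset.card_pos.1 (by omega))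
      have hcompl : {q | q ∉ T} = {q | key p < key q} := by
        ext q
        refine ⟨fun hq => ?_, fun hq hqT => (hmax q hqT).not_gt hq⟩
        rcases lt_trichotomy (key p) (key q) with h' | h' | h'
        · exact h'
        · exact absurd (key_injective h' ▸ hpT) hq
        · exact absurd (hdown p hpT q h') hq
      have hX : J ⊔ Ideal.span (mono x '' {q | q ∉ T}) = J ⊔ above x p := by rw [hcompl]; rfl
      have hX' : J ⊔ Ideal.span (mono x '' {q | q ∉ T.erase p}) = J ⊔ above x p ⊔ Ideal.span {mono x p} := by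
        rw [sup_assoc, above, ← Ideal.span_union]
        congr 2
        rw [← hcompl, ← Set.image_singleton, ← Set.image_union]
        congr 1
        ext q
        simp only [Set.mem_ofPred_eq, Finset.mem_erase, Set.mem_union, Set.mem_singleton_iff]
        tauto
      have ihp := ih (T.erase p) (by rw [Finset.card_erase_of_mem hpT, h]; rfl) (fun t ht q hq =>
        Finset.mem_erase.2 ⟨fun e => (hmax t (Finset.mem_of_mem_erase ht)).not_gt (e ▸ hq),
          hdown t (Finset.mem_of_mem_erase ht) q hq⟩)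
      have hy : ∀ r ∈ maximalIdeal O, r * mono x p ∈ J ⊔ above x p := fun r hr => by
        refine Submodule.mem_sup_right (pow_le_above x hx (Nat.lt_succ_self _) ?_)
        rw [pow_succ', ]
        exact Ideal.mul_mem_mul hr (mono_mem_pow x hx p le_rfl)
      rw [hX]
      rw [hX'] at ihp
      by_cases hp : p ∈ lead x J
      · rw [(length_step _ _ hy).1 hp, ihp, Finset.filter_erase, Finset.erase_eq_of_notMem (by simp [hp])]
      · rw [(length_step _ _ hy).2 hp, ihp, Finset.filter_erase,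
          ← Finset.card_erase_add_one (Finset.mem_filter.2 ⟨hpT, hp⟩)]
        push_cast
        rfl
  rw [← key' (deg s N) (fun t ht q hq => mem_deg.2 (lt_of_le_of_lt (sum_le_of_key_le hq.le) (mem_deg.1 ht)))]
  congr 3
  all_goals
    rw [eq_comm, sup_eq_left, Ideal.span_le]
    rintro _ ⟨q, hq, rfl⟩
    exact hJ (mono_mem_pow x hx q (not_lt.1 fun h => hq (mem_deg.2 h)))

end Leading

theorem lech_inequality (O : Type u) [CommRing O] [IsNoetherianRing O] [IsLocalRing O] (r : ℕ) (I : Ideal O)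
    (hIN : ∃ N : ℕ, maximalIdeal O ^ N ≤ I) (eI eO : ℝ)
    (heI : Tendsto (fun n : ℕ => (r.factorial : ℝ) * ((Module.length O (O ⧸ I ^ n)).toNat : ℝ) / (n : ℝ) ^ r)
      atTop (𝓝 eI))
    (heO : Tendsto (fun n : ℕ => (r.factorial : ℝ) *
        ((Module.length O (O ⧸ maximalIdeal O ^ n)).toNat : ℝ) / (n : ℝ) ^ r) atTop (𝓝 eO)) :
    eI ≤ (r.factorial : ℝ) * eO * ((Module.length O (O ⧸ I)).toNat : ℝ) := by
  classical
  obtain ⟨s, x, hx⟩ := Submodule.fg_iff_exists_fin_generating_family.1 (IsNoetherian.noetherian (maximalIdeal O))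
  obtain ⟨N, hN⟩ := hIN
  obtain ⟨P, hP, hPd⟩ := exists_decomp s (lead x (⊥ : Ideal O))ᶜ
    (fun a ha b hba hb => ha (lead_up x ⊥ hb hba))
  let C : ℕ := ∑ π ∈ P, ∑ i, π.1 i
  let K := (deg s N).filter fun p => p ∉ lead x I
  have hℓ : (Module.length O (O ⧸ I)).toNat = K.card := by rw [length_eq_card x hx I N hN]; rfl
  have hKmem : ∀ a, a ∉ lead x I → a ∈ K := fun a ha => Finset.mem_filter.2 ⟨mem_deg.2 (not_le.1 fun h =>
    ha (Submodule.mem_sup_left (hN (mono_mem_pow x hx a h)))), ha⟩
  have hlow : ∀ n, C < n → ∑ π ∈ P, ((n - C : ℕ) : ℝ) ^ π.2.card / (π.2.card.factorial : ℝ) ≤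
      ((Module.length O (O ⧸ maximalIdeal O ^ n)).toNat : ℝ) := fun n hn => by
    rw [length_eq_card x hx (maximalIdeal O ^ n) n le_rfl, ENat.toNat_natCast]
    have hsub : P.biUnion (fun π => (deg s n).filter (· ∈ piece π.1 π.2)) ⊆
        (deg s n).filter fun p => p ∉ lead x (maximalIdeal O ^ n) := fun p hp => by
      obtain ⟨π, hπ, hp⟩ := Finset.mem_biUnion.1 hp
      obtain ⟨hpn, hpπ⟩ := Finset.mem_filter.1 hp
      refine Finset.mem_filter.2 ⟨hpn, fun hl => (hP p).2 ⟨π, hπ, hpπ⟩ ?_⟩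
      exact Submodule.mem_sup_right ((sup_le (pow_le_above x hx (mem_deg.1 hpn)) le_rfl :
        _ ⊔ above x p ≤ above x p) hl)
    refine le_trans ?_ (Nat.cast_le.2 (Finset.card_le_card hsub))
    rw [Finset.card_biUnion (t := fun π : (Fin s → ℕ) × Finset (Fin s) => (deg s n).filter (· ∈ piece π.1 π.2)) fun π hπ π' hπ' hne => Finset.disjoint_left.2 fun p h h' =>
      Set.disjoint_left.1 (hPd π hπ π' hπ' hne) (Finset.mem_filter.1 h).2 (Finset.mem_filter.1 h').2, Nat.cast_sum]
    refine Finset.sum_le_sum fun π hπ => ?_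
    rw [div_le_iff₀ (by exact_mod_cast π.2.card.factorial_pos), mul_comm]
    have hC : ∑ i, π.1 i ≤ C := Finset.single_le_sum (f := fun π => ∑ i, π.1 i) (fun _ _ => Nat.zero_le _) hπ
    exact_mod_cast (Nat.pow_le_pow_left (Nat.sub_le_sub_left hC n) _).trans
      (pow_le_factorial_mul_card π.1 π.2 n (by omega))
  have hup : ∀ n, 0 < n → (Module.length O (O ⧸ I ^ n)).toNat ≤ K.card * ∑ π ∈ P, n ^ π.2.card := fun n hn => by
    have hNn : maximalIdeal O ^ (N * n) ≤ I ^ n := by rw [pow_mul]; exact Ideal.pow_right_mono hN n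
    rw [length_eq_card x hx (I ^ n) (N * n) hNn, ENat.toNat_natCast, Finset.mul_sum]
    let S : (Fin s → ℕ) × Finset (Fin s) → Finset (Fin s → ℕ) := fun π =>
      (deg s (N * n)).filter fun p => p ∉ lead x (I ^ n) ∧ p ∈ piece π.1 π.2
    refine (Finset.card_le_card (t := P.biUnion S) fun p hp => ?_).trans
      (Finset.card_biUnion_le.trans (Finset.sum_le_sum fun π _ => ?_))
    · obtain ⟨hp1, hp2⟩ := Finset.mem_filter.1 hp
      obtain ⟨π, hπ, hpπ⟩ := (hP p).1 fun h => hp2 (lead_mono x bot_le h)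
      exact Finset.mem_biUnion.2 ⟨π, hπ, Finset.mem_filter.2 ⟨hp1, hp2, hpπ⟩⟩
    · refine card_le_pow_mul π.1 π.2 hn _ K (fun p hp => (Finset.mem_filter.1 hp).2.2) fun p hp a ha => ?_
      refine hKmem a fun hla => (Finset.mem_filter.1 hp).2.1 (lead_up x _ (lead_nsmul x hla n) fun i => ?_)
      simpa using ha i
  have hle : ∀ π ∈ P, π.2.card ≤ r := fun π hπ => by
    by_contra hc
    rw [not_le] at hc
    obtain ⟨B, hB⟩ := (heO.eventually (eventually_le_nhds (lt_add_one eO))).exists_forall_of_atTop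
    set f := π.2.card
    have hf0 : (0 : ℝ) < f.factorial := by exact_mod_cast f.factorial_pos
    have hr0 : (0 : ℝ) < r.factorial := by exact_mod_cast r.factorial_pos
    obtain ⟨k, hk⟩ := exists_nat_gt ((eO + 1) * f.factorial * 2 ^ r / r.factorial)
    let m := max (max k (max B C)) 1
    have hm1 : 1 ≤ m := le_max_right _ _
    have hkm : k ≤ m := (le_max_left _ _).trans (le_max_left _ _)
    have hBm : B ≤ m := ((le_max_left _ _).trans (le_max_right _ _)).trans (le_max_left _ _)
    have hCm : C ≤ m := ((le_max_right _ _).trans (le_max_right _ _)).trans (le_max_left _ _)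
    have h1 := hB (m + C) (by omega)
    have h2 := hlow (m + C) (by omega)
    rw [show m + C - C = m by omega] at h2
    have h3 : (m : ℝ) ^ f / (f.factorial : ℝ) ≤
        ((Module.length O (O ⧸ maximalIdeal O ^ (m + C))).toNat : ℝ) := le_trans
      (Finset.single_le_sum (f := fun π : (Fin s → ℕ) × Finset (Fin s) => (m : ℝ) ^ π.2.card / (π.2.card.factorial : ℝ))
        (fun _ _ => by positivity) hπ) h2
    have hnpos : (0 : ℝ) < ((m + C : ℕ) : ℝ) ^ r := pow_pos (by exact_mod_cast (show 0 < m + C by omega)) r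
    rw [div_le_iff₀ hnpos] at h1
    have hmR : (1 : ℝ) ≤ m := by exact_mod_cast hm1
    have hpow : ((m + C : ℕ) : ℝ) ^ r ≤ 2 ^ r * (m : ℝ) ^ r := by
      rw [← mul_pow]
      exact pow_le_pow_left₀ (Nat.cast_nonneg _) (by exact_mod_cast (show m + C ≤ 2 * m by omega)) r
    have hmf : (m : ℝ) ^ r * m ≤ (m : ℝ) ^ f := by
      rw [← pow_succ]; exact pow_le_pow_right₀ hmR hc
    have he0 : 0 ≤ eO + 1 := by
      have : (0 : ℝ) ≤ eO := ge_of_tendsto' heO fun n => by positivity
      linarith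
    rw [div_le_iff₀ hf0] at h3
    rw [div_lt_iff₀ hr0] at hk
    have hkmR : (k : ℝ) ≤ m := by exact_mod_cast hkm
    have hmr : (0 : ℝ) < (m : ℝ) ^ r := by positivity
    have a1 : (r.factorial : ℝ) * ((m : ℝ) ^ r * m) ≤ (eO + 1) * (2 ^ r * (m : ℝ) ^ r) * f.factorial := by
      refine (mul_le_mul_of_nonneg_left (hmf.trans h3) hr0.le).trans ?_
      rw [← mul_assoc]
      exact mul_le_mul_of_nonneg_right (h1.trans (mul_le_mul_of_nonneg_left hpow he0)) hf0.le
    have a2 : (eO + 1) * f.factorial * 2 ^ r < (m : ℝ) * r.factorial :=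
      lt_of_lt_of_le hk (mul_le_mul_of_nonneg_right hkmR hr0.le)
    linarith [mul_lt_mul_of_pos_left a2 hmr]
  let top := P.filter fun π => π.2.card = r
  have hlimlow : Tendsto (fun n : ℕ => (top.card : ℝ) * ((1 : ℝ) - (C : ℝ) / n) ^ r) atTop (𝓝 (top.card : ℝ)) := by
    simpa using (((tendsto_const_div_atTop_nhds_zero_nat (C : ℝ)).const_sub 1).pow r).const_mul (top.card : ℝ)
  have hbe : (top.card : ℝ) ≤ eO := le_of_tendsto_of_tendsto hlimlow heO (by
    filter_upwards [eventually_gt_atTop C] with n hn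
    have hn0 : (0 : ℝ) < n := by exact_mod_cast lt_of_le_of_lt (Nat.zero_le C) hn
    rw [show (1 : ℝ) - (C : ℝ) / n = ((n - C : ℕ) : ℝ) / n by rw [Nat.cast_sub hn.le]; field_simp,
      div_pow, ← mul_div_assoc]
    refine div_le_div_of_nonneg_right ?_ (by positivity)
    have h := (Finset.sum_le_sum_of_subset_of_nonneg (Finset.filter_subset (fun π => π.2.card = r) P)
      fun π _ _ => by positivity).trans (hlow n hn)
    rw [Finset.sum_congr rfl fun π hπ => show ((n - C : ℕ) : ℝ) ^ π.2.card / (π.2.card.factorial : ℝ) =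
      ((n - C : ℕ) : ℝ) ^ r / (r.factorial : ℝ) by rw [(Finset.mem_filter.1 hπ).2], Finset.sum_const, nsmul_eq_mul,
      ← mul_div_assoc, div_le_iff₀ (by exact_mod_cast r.factorial_pos)] at h
    linarith)
  have hlimup : Tendsto (fun n : ℕ => (r.factorial : ℝ) * K.card * ∑ π ∈ P, (n : ℝ) ^ π.2.card / (n : ℝ) ^ r) atTop
      (𝓝 ((r.factorial : ℝ) * K.card * ∑ π ∈ P, if π.2.card = r then (1 : ℝ) else 0)) := by
    refine (tendsto_finset_sum _ fun π hπ => ?_).const_mul _
    split
    · next h =>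
      refine tendsto_const_nhds.congr' ?_
      filter_upwards [eventually_ge_atTop 1] with n hn
      rw [h, div_self (pow_ne_zero _ (by exact_mod_cast (show n ≠ 0 by omega)))]
    · next h =>
      exact ((tendsto_pow_div_pow_atTop_zero (lt_of_le_of_ne (hle π hπ) h) (𝕜 := ℝ)).comp tendsto_natCast_atTop_atTop)
  rw [Finset.sum_boole] at hlimup
  have hIb := le_of_tendsto_of_tendsto heI hlimup (by
    filter_upwards [eventually_ge_atTop 1] with n hn
    rw [← Finset.sum_div, ← mul_div_assoc, mul_assoc]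
    refine div_le_div_of_nonneg_right (mul_le_mul_of_nonneg_left ?_ (by positivity)) (by positivity)
    exact_mod_cast hup n hn)
  refine hIb.trans ?_
  rw [hℓ, mul_assoc, mul_assoc, mul_comm eO]
  exact mul_le_mul_of_nonneg_left (mul_le_mul_of_nonneg_left hbe (Nat.cast_nonneg _)) (by positivity)

end Groth.Agent.CAlgH.Lech
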