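import Groth.Agent.CAlgH.LiftingLemma
import Groth.Agent.CAlgH.DesingularizeOver
import Mathlib

/-! Desingularization of a problem solved modulo `π⁸`. -/

universe u

namespace Groth.Agent.CAlgH.LiftingApply

theorem eq_zero_of_pow {M : Type*} [CommRing M] (p : M) (h : ∀ x, p ^ 2 * x = 0 → p * x = 0) :
    ∀ (k : ℕ) (x : M), p ^ (k + 1) * x = 0 → p * x = 0
  | 0, x, hx => by simpa using hx
  | k + 1, x, hx => h x <| by
    have := eq_zero_of_pow p h k (p * x) (by rw [← mul_assoc, ← pow_succ]; exact hx)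
    rw [pow_two, mul_assoc]; exact this

theorem exists_resolution_aux {R Λ A C : Type u} [CommRing R] [IsNoetherianRing R] [CommRing Λ]
    [Algebra R Λ] (π ρ : R) (hρ : ρ = (π ^ 4) ^ 2) (hR : ∀ r : R, π ^ 2 * r = 0 → π * r = 0)
    (hΛ : ∀ x : Λ, π ^ 2 • x = 0 → π • x = 0) [CommRing A] [Algebra R A]
    [Algebra.FinitePresentation R A] (φ : A →ₐ[R] Λ)
    (hπ : Smoothing.IsStrictlyStandard R A (algebraMap R A π))
    [CommRing C] [Algebra R C] [Algebra (R ⧸ Ideal.span {ρ}) C] [IsScalarTower R (R ⧸ Ideal.span {ρ}) C]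
    [Algebra.FinitePresentation (R ⧸ Ideal.span {ρ}) C]
    (γ : A →ₐ[R] C) (g : C →ₐ[R] Λ ⧸ Ideal.span {algebraMap R Λ ρ})
    (hfac : ∀ a : A, g (γ a) = Ideal.Quotient.mk (Ideal.span {algebraMap R Λ ρ}) (φ a)) :
    ∃ (B : Type u) (_ : CommRing B) (_ : Algebra R B), Algebra.FinitePresentation R B ∧
      ∃ (α : A →ₐ[R] B) (β : B →ₐ[R] Λ), β.comp α = φ ∧
        (∀ (Q : Ideal B) [Q.IsPrime], algebraMap R B π ∉ Q → Algebra.IsSmoothAt R Q) ∧
        (Smoothing.singularIdeal (R ⧸ Ideal.span {ρ}) C).map g ≤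
          ((Smoothing.singularIdeal R B).map β).radical.map (Ideal.Quotient.mk (Ideal.span {algebraMap R Λ ρ})) := by
  subst hρ
  have hR4 : ∀ r : R, (π ^ 4) ^ 2 * r = 0 → π ^ 4 * r = 0 := fun r hr => by
    have := eq_zero_of_pow π hR 7 r (by rw [← hr]; ring)
    rw [show π ^ 4 * r = π ^ 3 * (π * r) by ring, this, mul_zero]
  have hΛ4 : ∀ x : Λ, (π ^ 4) ^ 2 • x = 0 → π ^ 4 • x = 0 := fun x hx => by
    rw [Algebra.smul_def, map_pow, map_pow] at hx
    have := eq_zero_of_pow (algebraMap R Λ π) (fun y hy => by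
      have := hΛ y (by rw [Algebra.smul_def, map_pow]; exact hy)
      rwa [Algebra.smul_def] at this) 7 x (by rw [← hx]; ring)
    rw [Algebra.smul_def, map_pow, show algebraMap R Λ π ^ 4 * x = algebraMap R Λ π ^ 3 * (algebraMap R Λ π * x) by ring,
      this, mul_zero]
  obtain ⟨D, _, _, hDfp, δ, ψ, hcompat, haway, hpoint⟩ := LiftingLemma.exists_lift (π ^ 4) hR4 hΛ4 g
  have hlift : ∀ (a : A) (d : D), Ideal.Quotient.mk _ d = ψ (γ a) → δ d - φ a ∈ Ideal.span {algebraMap R Λ (π ^ 4)} :=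
    fun a d hd => hcompat (γ a) d (φ a) hd (hfac a).symm
  obtain ⟨B, _, _, _, _, hBfp, α, β, hβα, hβδ, -, hsing⟩ :=
    DesingularizeOver.exists_strictly_standard π hR hΛ φ δ hπ (ψ.comp γ) hlift
  have hDπ : algebraMap R D π ∈ Smoothing.singularIdeal R D := by
    refine (PrimeSpectrum.mem_vanishingIdeal _ _).2 fun Q hQ => ?_
    haveI := Q.2
    by_contra h
    exact hQ (haway Q.asIdeal (fun h' => h (Q.2.mem_of_pow_mem 4 (by rwa [map_pow] at h'))))
  have hBπ : algebraMap R B π ∈ Smoothing.singularIdeal R B := by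
    rw [IsScalarTower.algebraMap_apply R D B]
    exact hsing (Ideal.mem_map_of_mem _ hDπ)
  refine ⟨B, inferInstance, inferInstance, hBfp, α, β, hβα, fun Q _ hQ => ?_, ?_⟩
  · by_contra hns
    exact hQ ((PrimeSpectrum.mem_vanishingIdeal _ _).1 hBπ ⟨Q, inferInstance⟩ hns)
  rw [Ideal.map_le_iff_le_comap]
  intro h hh
  rw [Ideal.mem_comap]
  obtain ⟨d, hd⟩ := Ideal.Quotient.mk_surjective (ψ h)
  obtain ⟨l, hl⟩ := Ideal.Quotient.mk_surjective (g h)
  have hdD : d ∈ Smoothing.singularIdeal R D := by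
    refine (PrimeSpectrum.mem_vanishingIdeal _ _).2 fun Q hQ => ?_
    haveI := Q.2
    have hle : Ideal.span {algebraMap R D (π ^ 4)} ≤ Q.asIdeal := by
      rw [Ideal.span_singleton_le_iff_mem]
      by_contra h4
      exact hQ (haway Q.asIdeal h4)
    let Q' := Q.asIdeal.map (Ideal.Quotient.mk (Ideal.span {algebraMap R D (π ^ 4)}))
    have hQ' : Q'.comap (Ideal.Quotient.mk _) = Q.asIdeal := by
      rw [Ideal.comap_map_of_surjective' _ Ideal.Quotient.mk_surjective, Ideal.mk_ker, sup_eq_left.2 hle]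
    haveI : Q'.IsPrime := Ideal.map_isPrime_of_surjective Ideal.Quotient.mk_surjective (by rwa [Ideal.mk_ker])
    by_contra hdQ
    refine hQ ?_
    have hs : Algebra.IsSmoothAt (R ⧸ Ideal.span {(π ^ 4) ^ 2}) (Q'.comap ψ) := by
      by_contra hns
      have hh' : h ∈ Q'.comap ψ := (PrimeSpectrum.mem_vanishingIdeal _ _).1 hh ⟨Q'.comap ψ, inferInstance⟩ hns
      rw [Ideal.mem_comap, ← hd] at hh'
      exact hdQ (hQ'.le hh')
    have := hpoint Q' hs
    show Algebra.IsSmoothAt R Q.asIdeal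
    convert this using 1
    exact hQ'.symm
  obtain ⟨y, hy⟩ := Ideal.mem_span_singleton'.1 (hcompat h d l hd hl)
  let J := ((Smoothing.singularIdeal R B).map β).radical
  have hl' : l ∈ J := by
    rw [show l = δ d - y * algebraMap R Λ (π ^ 4) by rw [hy, sub_sub_cancel]]
    refine sub_mem ?_ (Ideal.mul_mem_left _ _ ?_)
    · refine Ideal.le_radical ?_
      rw [← hβδ]
      exact Ideal.mem_map_of_mem _ (hsing (Ideal.mem_map_of_mem _ hdD))
    · rw [map_pow, pow_succ]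
      refine Ideal.mul_mem_left _ _ (Ideal.le_radical ?_)
      rw [← β.commutes]
      exact Ideal.mem_map_of_mem _ hBπ
  rw [← hl]
  exact Ideal.mem_map_of_mem _ hl'

end Groth.Agent.CAlgH.LiftingApply
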