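import Groth.Agent.CAlgH.Desingularize
import Groth.Agent.CAlgH.StandardAtSmooth
import Groth.Agent.Smoothing15.Standard
import Mathlib

/-! The lifting lemma of Néron–Popescu desingularization. -/

universe u

open MvPolynomial

namespace Groth.Agent.CAlgH.LiftingLemma

theorem sum_mul_select {S : Type*} [CommSemiring S] {N k : ℕ} (a : Fin N → S) (v : Fin k → Fin N) (b : Fin k → S) :
    ∑ i, a i * (∑ l, if v l = i then b l else 0) = ∑ l, a (v l) * b l := by
  simp only [Finset.mul_sum, mul_ite, mul_zero]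
  rw [Finset.sum_comm]
  simp

set_option maxHeartbeats 2000000 in
/-- Smoothness at a point where the relations reduce to a Jacobian-invertible subfamily. -/
theorem isSmoothAt_of_relations {R : Type u} [CommRing R] [IsNoetherianRing R] {N k : ℕ}
    (I : Ideal (MvPolynomial (Fin N) R)) (G : Fin k → MvPolynomial (Fin N) R) (hGI : ∀ l, G l ∈ I)
    (v : Fin k → Fin N) (Q : Ideal (MvPolynomial (Fin N) R ⧸ I)) [Q.IsPrime]
    (hdet : (Matrix.of fun j l => pderiv (v l) (G j)).det ∉ Q.comap (Ideal.Quotient.mk I))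
    (hvanish : ∀ (C : Type u) [CommRing C] [IsLocalRing C] [Algebra R C] [Module.Flat R C]
      (χ : MvPolynomial (Fin N) R →ₐ[R] C), (∀ l, χ (G l) = 0) →
        (∀ p ∉ Q.comap (Ideal.Quotient.mk I), IsUnit (χ p)) → ∀ x ∈ I, χ x = 0) :
    Algebra.IsSmoothAt R Q := by
  classical
  let P := MvPolynomial (Fin N) R
  let B := P ⧸ I
  let Qt : Ideal P := Q.comap (Ideal.Quotient.mk I)
  let Pl := Localization.AtPrime Qt
  let ι' := algebraMap P Pl
  let K : Ideal Pl := Ideal.span (Set.range fun j => ι' (G j))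
  haveI : Algebra.FormallyEtale P Pl := Algebra.FormallyEtale.of_isLocalization Qt.primeCompl
  haveI : Algebra.FormallySmooth R Pl := Algebra.FormallySmooth.comp R P Pl
  haveI : Module.Flat P Pl := IsLocalization.flat Pl Qt.primeCompl
  haveI : Module.Flat R Pl := Module.Flat.trans R P Pl
  haveI : IsNoetherianRing Pl := IsLocalization.isNoetherianRing Qt.primeCompl Pl inferInstance
  let M : Matrix (Fin k) (Fin k) Pl := Matrix.of fun j l => ι' (pderiv (v l) (G j))
  have hM : IsUnit M.det := by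
    have : M.det = ι' (Matrix.of fun j l => pderiv (v l) (G j)).det := by
      rw [RingHom.map_det]; rfl
    rw [this]
    exact IsLocalization.map_units Pl (⟨_, hdet⟩ : Qt.primeCompl)
  let Mi : Fin k → Fin k → Pl := fun a b => M⁻¹ a b
  let W : Matrix (Fin N) (Fin k) Pl := Matrix.of fun i l' => ∑ l, if v l = i then Mi l l' else 0
  haveI hsm : Algebra.FormallySmooth R (Pl ⧸ K) := by
    refine StrictlyStandardSmooth.formallySmooth_polynomial_quotient G W fun j l' => ?_
    have : ∑ i, ι' (pderiv i (G j)) * W i l' = (M * M⁻¹) j l' := by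
      exact sum_mul_select (fun i => ι' (pderiv i (G j))) v (fun l => Mi l l')
    show ∑ i, ι' (pderiv i (G j)) * W i l' - _ ∈ _
    rw [this, Matrix.mul_nonsing_inv M hM, Matrix.one_apply, sub_self]
    exact Ideal.zero_mem _
  haveI : Nontrivial (Pl ⧸ K) := by
    refine Ideal.Quotient.nontrivial_iff.2 (ne_top_of_le_ne_top (IsLocalRing.maximalIdeal.isMaximal Pl).ne_top ?_)
    rw [Ideal.span_le]
    rintro _ ⟨j, rfl⟩
    refine (IsLocalization.AtPrime.to_map_mem_maximal_iff Pl Qt _).2 ?_
    show Ideal.Quotient.mk I (G j) ∈ Q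
    rw [Ideal.Quotient.eq_zero_iff_mem.2 (hGI j)]
    exact Q.zero_mem
  haveI : IsLocalRing (Pl ⧸ K) := .of_surjective' (Ideal.Quotient.mk K) Ideal.Quotient.mk_surjective
  haveI := Algebra.FormallySmooth.flat_of_algHom_of_isNoetherianRing (R := R) (A := Pl ⧸ K) (S := Pl)
    (Ideal.Quotient.mkₐ R K) (Ideal.Quotient.mkₐ_surjective R K)
  let χ : P →ₐ[R] Pl ⧸ K := (Ideal.Quotient.mkₐ R K).comp (IsScalarTower.toAlgHom R P Pl)
  have hI0 : ∀ x ∈ I, χ x = 0 := hvanish (Pl ⧸ K) χ
    (fun l => (Ideal.Quotient.eq_zero_iff_mem (I := K)).2 (Ideal.subset_span ⟨l, rfl⟩))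
    (fun p hp => (IsLocalization.map_units Pl (⟨p, hp⟩ : Qt.primeCompl)).map (Ideal.Quotient.mk K))
  let Bq := Localization.AtPrime Q
  let χB : B →ₐ[R] Pl ⧸ K := Ideal.Quotient.liftₐ I χ hI0
  let νB : P →ₐ[R] Bq := (IsScalarTower.toAlgHom R B Bq).comp (Ideal.Quotient.mkₐ R I)
  have hν : ∀ z : Qt.primeCompl, IsUnit (νB z) := fun z =>
    IsLocalization.map_units Bq (⟨Ideal.Quotient.mk I z, z.2⟩ : Q.primeCompl)
  let e' : Pl →ₐ[R] Bq := IsLocalization.liftAlgHom (M := Qt.primeCompl) (f := νB) hν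
  have he' : ∀ x, e' (ι' x) = νB x := fun x => IsLocalization.lift_eq _ x
  have hK : ∀ x ∈ K, e' x = 0 := fun x hx =>
    (Ideal.span_le (I := RingHom.ker e')).2 (by
      rintro _ ⟨j, rfl⟩
      show e' (ι' (G j)) = 0
      rw [he']
      show algebraMap B Bq (Ideal.Quotient.mk I (G j)) = 0
      rw [Ideal.Quotient.eq_zero_iff_mem.2 (hGI j), map_zero]) hx
  refine Desingularize.formallySmooth_of_retract (C := Pl ⧸ K) Q.primeCompl χB ?_ (Ideal.Quotient.liftₐ K e' hK) ?_
  · rintro ⟨z, hz⟩
    obtain ⟨p, rfl⟩ := Ideal.Quotient.mk_surjective z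
    exact (IsLocalization.map_units Pl (⟨p, hz⟩ : Qt.primeCompl)).map (Ideal.Quotient.mk K)
  · intro b
    obtain ⟨p, rfl⟩ := Ideal.Quotient.mk_surjective b
    exact he' p

/-- The relations of the lift vanish in a flat algebra on the distinguished ones. -/
theorem lift_relations_vanish {R P C : Type u} [CommRing R] [CommRing P] [Algebra R P] [CommRing C] [Algebra R C]
    [Module.Flat R C] (π : R) (hR : ∀ x : R, π ^ 2 * x = 0 → π * x = 0) {n m c : ℕ} (χ : P →ₐ[R] C)
    (T : P) (hT : IsUnit (χ T)) (fI z : Fin m → P) (s : Fin m → Fin c → P) (β : Fin m → P) (rows : Fin c → Fin m)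
    (hs : ∀ l, T * fI l - ∑ j, s l j * fI (rows j) = algebraMap R P π ^ 2 * β l)
    (hF : ∀ j, χ (fI (rows j)) = algebraMap R C π * χ (z (rows j)))
    (hG : ∀ l, χ (T * z l) = ∑ j, χ (s l j) * χ (z (rows j)) + algebraMap R C π * χ (β l)) :
    (∀ l, χ (fI l) = algebraMap R C π * χ (z l)) ∧
    ∀ (r : Fin m → P) (b : P), ∑ l, r l * fI l = algebraMap R P π ^ 2 * b →
      (∀ r' : Fin c → P, (∀ j, r' j = ∑ l, r l * s l j) → ∀ j, ∃ y, χ (r' j) = algebraMap R C π * y) →
      ∑ l, χ (r l) * χ (z l) - algebraMap R C π * χ b = 0 := by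
  have htors : ∀ y : C, algebraMap R C π ^ 2 * y = 0 → algebraMap R C π * y = 0 := fun y hy => by
    simpa using Desingularize.torsion_flat π 1 (fun x hx => by rw [one_mul]; exact hR x hx) y hy
  have hfI : ∀ l, χ (fI l) = algebraMap R C π * χ (z l) := by
    intro l
    have h := congrArg χ (hs l)
    simp only [map_sub, map_mul, map_sum, map_pow, AlgHom.commutes, hF] at h
    have h2 := hG l
    rw [map_mul] at h2
    refine sub_eq_zero.1 (hT.mul_right_eq_zero.1 ?_)
    have e : ∑ j, χ (s l j) * (algebraMap R C π * χ (z (rows j))) = algebraMap R C π * ∑ j, χ (s l j) * χ (z (rows j)) := by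
      rw [Finset.mul_sum]; exact Finset.sum_congr rfl fun j _ => by ring
    linear_combination h + e - algebraMap R C π * h2
  refine ⟨hfI, fun r b hrb hdiv => ?_⟩
  let H := ∑ l, χ (r l) * χ (z l) - algebraMap R C π * χ b
  let r' : Fin c → P := fun j => ∑ l, r l * s l j
  choose y hy using hdiv r' fun j => rfl
  have hH : χ T * H = algebraMap R C π * (∑ j, y j * χ (z (rows j)) + ∑ l, χ (r l) * χ (β l) - χ T * χ b) := by
    have e1 : χ T * ∑ l, χ (r l) * χ (z l) = ∑ j, χ (r' j) * χ (z (rows j)) + algebraMap R C π * ∑ l, χ (r l) * χ (β l) := by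
      simp only [r', map_sum, map_mul, Finset.sum_mul, Finset.mul_sum]
      rw [Finset.sum_comm, ← Finset.sum_add_distrib]
      refine Finset.sum_congr rfl fun l _ => ?_
      have := hG l
      rw [map_mul] at this
      rw [mul_left_comm, this, mul_add, Finset.mul_sum]
      congr 1
      · exact Finset.sum_congr rfl fun j _ => by ring
      · ring
    rw [mul_sub, e1]
    rw [Finset.sum_congr rfl fun j _ => show χ (r' j) * χ (z (rows j)) = algebraMap R C π * (y j * χ (z (rows j))) by
      rw [hy, mul_assoc], ← Finset.mul_sum]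
    ring
  have hπH : algebraMap R C π * H = 0 := by
    have h := congrArg χ hrb
    simp only [map_sum, map_mul, map_pow, AlgHom.commutes, hfI] at h
    have e : ∑ l, χ (r l) * (algebraMap R C π * χ (z l)) = algebraMap R C π * ∑ l, χ (r l) * χ (z l) := by
      rw [Finset.mul_sum]; exact Finset.sum_congr rfl fun j _ => by ring
    linear_combination h - e
  refine hT.mul_right_eq_zero.1 (show χ T * H = 0 from ?_)
  rw [hH]
  refine htors _ ?_
  rw [pow_two, mul_assoc, ← hH, mul_left_comm, hπH, mul_zero]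

/-- Syzygy coefficients of the distinguished relations are divisible by `π`. -/
theorem exists_div {R P₀ C : Type u} [CommRing R] [CommRing P₀] [Algebra R P₀] [CommRing C] [Algebra R C]
    {c : ℕ} (θ : P₀ →ₐ[R] C) (π : R) (r : Fin c → P₀) (g : Fin c → P₀) (b : P₀) (d : Fin c → Derivation R P₀ P₀)
    (h : ∑ j, r j * g j = algebraMap R P₀ π ^ 2 * b) (hg : ∀ j, ∃ y, θ (g j) = algebraMap R C π * y)
    (hdet : IsUnit (Matrix.of fun j k => θ (d k (g j))).det) : ∀ j, ∃ y, θ (r j) = algebraMap R C π * y := by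
  classical
  choose y hy using hg
  let M : Matrix (Fin c) (Fin c) C := Matrix.of fun j k => θ (d k (g j))
  have hk : ∀ k, ∃ w, Matrix.vecMul (fun j => θ (r j)) M k = algebraMap R C π * w := by
    intro k
    refine ⟨algebraMap R C π * θ (d k b) - ∑ j, θ (d k (r j)) * y j, ?_⟩
    have h1 := congrArg (fun p => θ (d k p)) h
    rw [← map_pow (algebraMap R P₀)] at h1
    simp only [map_sum, Derivation.leibniz, smul_eq_mul, map_add, map_mul, Derivation.map_algebraMap,
      AlgHom.commutes, mul_zero, map_zero, add_zero, hy, Finset.sum_add_distrib] at h1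
    rw [map_pow] at h1
    show ∑ j, θ (r j) * θ (d k (g j)) = _
    have e : ∑ j, algebraMap R C π * y j * θ (d k (r j)) = algebraMap R C π * ∑ j, θ (d k (r j)) * y j := by
      rw [Finset.mul_sum]; exact Finset.sum_congr rfl fun j _ => by ring
    linear_combination h1 - e
  choose w hw using hk
  intro j
  refine ⟨Matrix.vecMul w M⁻¹ j, ?_⟩
  have h2 : Matrix.vecMul (Matrix.vecMul (fun j => θ (r j)) M) M⁻¹ = fun j => θ (r j) := by
    rw [Matrix.vecMul_vecMul, Matrix.mul_nonsing_inv M hdet, Matrix.vecMul_one]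
  rw [← congrFun h2 j, show Matrix.vecMul (fun j => θ (r j)) M = algebraMap R C π • w from funext hw,
    Matrix.smul_vecMul]
  rfl

/-- The determinant of the Jacobian of the reduced relations. -/
theorem det_ne_zero {K : Type u} [Field K] {m c : ℕ} (rows : Fin c ↪ Fin m) (M : Matrix (Fin m) (Fin m) K)
    (hzero : ∀ j l, l ∉ Set.range rows → M (rows j) l = 0)
    (hminor : (Matrix.of fun j k => M (rows j) (rows k)).det ≠ 0) (t : K) (ht : t ≠ 0)
    (hdiag : ∀ l l', l ∉ Set.range rows → l' ∉ Set.range rows → M l l' = if l = l' then t else 0) : M.det ≠ 0 := by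
  classical
  intro hdet
  obtain ⟨u, hu, hu0⟩ := Matrix.exists_mulVec_eq_zero_iff.2 hdet
  refine hu ?_
  have hrow : ∀ j, u (rows j) = 0 := by
    have h1 : Matrix.mulVec (Matrix.of fun j k => M (rows j) (rows k)) (fun k => u (rows k)) = 0 := by
      funext j
      have h := congrFun hu0 (rows j)
      simp only [Matrix.mulVec, dotProduct, Matrix.of_apply, Pi.zero_apply] at h ⊢
      rw [← h, ← Finset.sum_map Finset.univ rows (fun l => M (rows j) l * u l)]
      refine Finset.sum_subset (Finset.subset_univ _) fun l _ hl => ?_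
      rw [hzero j l fun ⟨k, hk⟩ => hl (Finset.mem_map.2 ⟨k, Finset.mem_univ k, hk⟩), zero_mul]
    exact congrFun (Matrix.eq_zero_of_mulVec_eq_zero hminor h1)
  funext l
  by_cases hl : l ∈ Set.range rows
  · obtain ⟨j, rfl⟩ := hl; exact hrow j
  · have h := congrFun hu0 l
    simp only [Matrix.mulVec, dotProduct, Pi.zero_apply] at h
    rw [Finset.sum_eq_single l] at h
    · rw [hdiag l l hl hl, if_pos rfl] at h
      exact (mul_eq_zero.1 h).resolve_left ht
    · intro l' _ hne
      by_cases hl' : l' ∈ Set.range rows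
      · obtain ⟨j, rfl⟩ := hl'; rw [hrow j, mul_zero]
      · rw [hdiag l l' hl hl', if_neg (Ne.symm hne), zero_mul]
    · exact fun h' => absurd (Finset.mem_univ l) h'

/-- The relations of the lift. -/
noncomputable def liftSet {R : Type u} [CommRing R] (π : R) {n m : ℕ} (f : Fin m → MvPolynomial (Fin n) R) :
    Set (MvPolynomial (Fin (n + m)) R) :=
  Set.range (fun j => rename (Fin.castAdd m) (f j) - C π * X (Fin.natAdd n j)) ∪
    {x | ∃ (r : Fin m → MvPolynomial (Fin n) R) (b : MvPolynomial (Fin n) R), ∑ j, r j * f j = C π ^ 2 * b ∧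
      x = ∑ j, rename (Fin.castAdd m) (r j) * X (Fin.natAdd n j) - C π * rename (Fin.castAdd m) b}

theorem exists_eq_sq_mul {R : Type u} [CommRing R] {n : ℕ} (π : R) (p : MvPolynomial (Fin n) R)
    (hp : MvPolynomial.map (Ideal.Quotient.mk (Ideal.span {π ^ 2})) p = 0) : ∃ b, p = C π ^ 2 * b := by
  have hp' : p ∈ (Ideal.span {π ^ 2}).map (C : R →+* MvPolynomial (Fin n) R) := by
    have := RingHom.mem_ker.2 hp
    rwa [MvPolynomial.ker_map, Ideal.mk_ker] at this
  rw [Ideal.map_span, Set.image_singleton, map_pow, Ideal.mem_span_singleton] at hp'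
  exact hp'

set_option maxHeartbeats 1000000 in
/-- The lift is smooth away from `π`. -/
theorem isSmoothAt_lift_away {R : Type u} [CommRing R] [IsNoetherianRing R] (π : R) {n m : ℕ} (f : Fin m → MvPolynomial (Fin n) R)
    (Q : Ideal (MvPolynomial (Fin (n + m)) R ⧸ Ideal.span (liftSet π f))) [Q.IsPrime] (hQ : algebraMap R _ π ∉ Q) : Algebra.IsSmoothAt R Q := by
  classical
  let ν : MvPolynomial (Fin n) R →ₐ[R] MvPolynomial (Fin (n + m)) R := rename (Fin.castAdd m)
  let z : Fin m → MvPolynomial (Fin (n + m)) R := fun j => X (Fin.natAdd n j)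
  let F : Fin m → MvPolynomial (Fin (n + m)) R := fun j => ν (f j) - C π * z j
  let H : (Fin m → MvPolynomial (Fin n) R) → MvPolynomial (Fin n) R → MvPolynomial (Fin (n + m)) R :=
    fun r b => ∑ j, ν (r j) * z j - C π * ν b
  let Hset : Set (MvPolynomial (Fin (n + m)) R) := {x | ∃ r b, ∑ j, r j * f j = C π ^ 2 * b ∧ x = H r b}
  let I : Ideal (MvPolynomial (Fin (n + m)) R) := Ideal.span (liftSet π f)
  haveI : Algebra.FinitePresentation R (MvPolynomial (Fin (n + m)) R ⧸ I) := Algebra.FinitePresentation.of_surjective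
    (f := Ideal.Quotient.mkₐ R I) Ideal.Quotient.mk_surjective (by
      rw [show RingHom.ker (Ideal.Quotient.mkₐ R I).toRingHom = I from Ideal.mk_ker]
      exact IsNoetherian.noetherian I)
  haveI : Algebra.Smooth R (Localization.Away (algebraMap R R π)) :=
    Algebra.Smooth.of_isLocalization_Away (algebraMap R R π)
  haveI : Algebra.FormallySmooth R (Localization.Away (algebraMap R (MvPolynomial (Fin (n + m)) R ⧸ I) π)) := by
    refine Desingularize.formallySmooth_away (A := R) π (Algebra.ofId R (MvPolynomial (Fin (n + m)) R ⧸ I)) fun U _ _ J _ hu h k hk => ?_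
    let u : U := ↑hu.unit⁻¹
    have huu : algebraMap R U π * u = 1 := hu.mul_val_inv
    choose x hx using fun i => Ideal.Quotient.mk_surjective (h (Ideal.Quotient.mk I (X (Fin.castAdd m i))))
    let wU : Fin (n + m) → U := Fin.append x (fun j => u * aeval x (f j))
    have hνU : ∀ p, aeval wU (ν p) = aeval x p := fun p => by
      rw [aeval_rename]
      congr 2
      funext i
      exact Fin.append_left _ _ i
    have hI' : ∀ y ∈ I, (aeval wU : MvPolynomial (Fin (n + m)) R →ₐ[R] U) y = 0 := by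
      intro y hy
      refine (Ideal.span_le (I := RingHom.ker (aeval wU : MvPolynomial (Fin (n + m)) R →ₐ[R] U))).2 ?_ hy
      rintro _ (⟨j, rfl⟩ | ⟨r, b, hrb, rfl⟩)
      · show aeval wU (F j) = 0
        simp only [F, z, map_sub, map_mul, hνU, aeval_C, aeval_X, wU, Fin.append_right]
        linear_combination -aeval x (f j) * huu
      · show aeval wU (H r b) = 0
        simp only [H, z, map_sub, map_mul, map_sum, hνU, aeval_C, aeval_X, wU, Fin.append_right]
        have h1 := congrArg (aeval x : MvPolynomial (Fin n) R →ₐ[R] U) hrb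
        simp only [map_sum, map_mul, map_pow, aeval_C] at h1
        have e1 : ∑ j, aeval x (r j) * (u * aeval x (f j)) = u * ∑ j, aeval x (r j) * aeval x (f j) := by
          rw [Finset.mul_sum]; exact Finset.sum_congr rfl fun j _ => by ring
        linear_combination e1 + u * h1 + algebraMap R U π * aeval x b * huu
    refine ⟨Ideal.Quotient.liftₐ I (aeval wU) hI', ?_⟩
    refine AlgHom.coe_ringHom_injective (Ideal.Quotient.ringHom_ext (MvPolynomial.ringHom_ext (fun r' => ?_) fun i => ?_))
    · show Ideal.Quotient.mk J (aeval wU (C r')) = h (Ideal.Quotient.mk I (C r'))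
      rw [aeval_C]
      exact (h.commutes r').symm
    show Ideal.Quotient.mk J (aeval wU (X i)) = h (Ideal.Quotient.mk I (X i))
    induction i using Fin.addCases with
    | left i => simp only [aeval_X, wU, Fin.append_left]; exact hx i
    | right j =>
      have hF0 : h (Ideal.Quotient.mk I (F j)) = 0 := by
        rw [(Ideal.Quotient.eq_zero_iff_mem (I := I)).2 (Ideal.subset_span (Or.inl ⟨j, rfl⟩)), map_zero]
      have hν' : h (Ideal.Quotient.mk I (ν (f j))) = Ideal.Quotient.mk J (aeval x (f j)) := by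
        have : (h.comp (Ideal.Quotient.mkₐ R I)).comp ν = (Ideal.Quotient.mkₐ R J).comp (aeval x) :=
          MvPolynomial.algHom_ext fun i => by
            show h (Ideal.Quotient.mk I (ν (X i))) = Ideal.Quotient.mk J (aeval x (X i))
            rw [aeval_X, rename_X, hx]
        exact DFunLike.congr_fun this (f j)
      simp only [F, z, map_sub, map_mul, hν', show h (Ideal.Quotient.mk I (C π)) = Ideal.Quotient.mk J (algebraMap R U π) from
        h.commutes π] at hF0
      simp only [aeval_X, wU, Fin.append_right, map_mul]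
      have huu' : Ideal.Quotient.mk J u * Ideal.Quotient.mk J (algebraMap R U π) = 1 := by
        rw [← map_mul, mul_comm, huu, map_one]
      linear_combination Ideal.Quotient.mk J u * hF0 + h (Ideal.Quotient.mk I (X (Fin.natAdd n j))) * huu'
  haveI : Algebra.FinitePresentation R (Localization.Away (algebraMap R (MvPolynomial (Fin (n + m)) R ⧸ I) π)) :=
    Algebra.FinitePresentation.trans R (MvPolynomial (Fin (n + m)) R ⧸ I) _
  haveI : Algebra.Smooth R (Localization.Away (algebraMap R (MvPolynomial (Fin (n + m)) R ⧸ I) π)) := ⟨inferInstance, inferInstance⟩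
  exact (Algebra.basicOpen_subset_smoothLocus_iff_smooth.2 inferInstance)
    (show (⟨Q, inferInstance⟩ : PrimeSpectrum (MvPolynomial (Fin (n + m)) R ⧸ I)) ∈ PrimeSpectrum.basicOpen (algebraMap R (MvPolynomial (Fin (n + m)) R ⧸ I) π) from hQ)

set_option maxHeartbeats 2000000 in
/-- The lift is smooth over the smooth points. -/
theorem isSmoothAt_lift_point {R Cc : Type u} [CommRing R] [IsNoetherianRing R] (π : R) (hR : ∀ r : R, π ^ 2 * r = 0 → π * r = 0)
    [CommRing Cc] [Algebra R Cc] [Algebra (R ⧸ Ideal.span {π ^ 2}) Cc] [IsScalarTower R (R ⧸ Ideal.span {π ^ 2}) Cc]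
    {n m : ℕ} (φb : MvPolynomial (Fin n) (R ⧸ Ideal.span {π ^ 2}) →ₐ[R ⧸ Ideal.span {π ^ 2}] Cc)
    (hφb : Function.Surjective φb) (fb : Fin m → MvPolynomial (Fin n) (R ⧸ Ideal.span {π ^ 2}))
    (hfb : Ideal.span (Set.range fb) = RingHom.ker φb.toRingHom)
    (φ : MvPolynomial (Fin n) R →ₐ[R] Cc) (hφ' : ∀ p, φ p = φb (MvPolynomial.map (Ideal.Quotient.mk _) p))
    (f : Fin m → MvPolynomial (Fin n) R) (hf : ∀ j, MvPolynomial.map (Ideal.Quotient.mk _) (f j) = fb j)
    (Qd : Ideal (MvPolynomial (Fin (n + m)) R ⧸ Ideal.span (liftSet π f))) [Qd.IsPrime] (q : Ideal Cc) [q.IsPrime]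
    [Algebra.IsSmoothAt (R ⧸ Ideal.span {π ^ 2}) q]
    (hQν : ∀ p, Ideal.Quotient.mk _ (rename (Fin.castAdd m) p) ∈ Qd ↔ φ p ∈ q) : Algebra.IsSmoothAt R Qd := by
  classical
  let ν : MvPolynomial (Fin n) R →ₐ[R] MvPolynomial (Fin (n + m)) R := rename (Fin.castAdd m)
  let z : Fin m → MvPolynomial (Fin (n + m)) R := fun j => X (Fin.natAdd n j)
  let F : Fin m → MvPolynomial (Fin (n + m)) R := fun j => ν (f j) - C π * z j
  let H : (Fin m → MvPolynomial (Fin n) R) → MvPolynomial (Fin n) R → MvPolynomial (Fin (n + m)) R :=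
    fun r b => ∑ j, ν (r j) * z j - C π * ν b
  let Hset : Set (MvPolynomial (Fin (n + m)) R) := {x | ∃ r b, ∑ j, r j * f j = C π ^ 2 * b ∧ x = H r b}
  let I : Ideal (MvPolynomial (Fin (n + m)) R) := Ideal.span (liftSet π f)
  let red : MvPolynomial (Fin n) R →+* MvPolynomial (Fin n) (R ⧸ Ideal.span {π ^ 2}) := MvPolynomial.map (Ideal.Quotient.mk _)
  have hf : ∀ j, red (f j) = fb j := hf
  have hred : Function.Surjective red := MvPolynomial.map_surjective _ Ideal.Quotient.mk_surjective
  have hredker : ∀ p, red p = 0 → ∃ b, p = C π ^ 2 * b := fun p hp => exists_eq_sq_mul π p hp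
  obtain ⟨a, haq, c, rows, cols, a', ha, hkill⟩ :=
    StandardAtSmooth.exists_standard_element fb φb hφb hfb.symm q
  obtain ⟨a₁, ha₁⟩ := hφb a
  obtain ⟨Gb, hGb, hGbmem⟩ := Smoothing15.exists_mul_mem_of_mul_mem_sup_sq φb.toRingHom fb
    (Ideal.span (Set.range (fb ∘ rows))) a₁ (fun i => hfb.le (Ideal.subset_span ⟨i, rfl⟩)) (hkill a₁ ha₁)
  obtain ⟨T, rfl⟩ := hred Gb
  have hTq : φ T ∉ q := by
    rw [hφ']
    show φb (red T) ∉ _
    rw [show φb (red T) = a ^ m from hGb.trans (by rw [show φb.toRingHom a₁ = a from ha₁])]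
    exact fun h => haq ((inferInstance : q.IsPrime).mem_of_pow_mem _ h)
  have hsyz : ∀ l, ∃ (s : Fin c → MvPolynomial (Fin n) R) (β : MvPolynomial (Fin n) R),
      T * f l - ∑ j, s j * f (rows j) = C π ^ 2 * β ∧
      ∀ i, rows i = l → β = 0 ∧ ∀ j, s j = if j = i then T else 0 := by
    intro l
    by_cases hl : l ∈ Set.range rows
    · obtain ⟨i, rfl⟩ := hl
      refine ⟨fun j => if j = i then T else 0, 0, ?_, fun i' hi' => ⟨rfl, fun j => by rw [rows.injective hi']⟩⟩
      simp only [ite_mul, zero_mul, Finset.sum_ite_eq', Finset.mem_univ, if_true, sub_self, mul_zero]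
    · obtain ⟨sb, hsb⟩ := Ideal.mem_span_range_iff_exists_fun.1 (hGbmem l)
      choose s hs using fun j => hred (sb j)
      obtain ⟨β, hβ⟩ := hredker (T * f l - ∑ j, s j * f (rows j)) (by
        simp only [map_sub, map_sum, map_mul, hs, hf]
        rw [← hsb]
        exact sub_self _)
      exact ⟨s, β, hβ, fun i hi => absurd ⟨i, hi⟩ hl⟩
  choose s β hs hrow using hsyz
  let G : Fin m → MvPolynomial (Fin (n + m)) R := fun l =>
    if l ∈ Set.range rows then F l else ν T * z l - ∑ j, ν (s l j) * z (rows j) - C π * ν (β l)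
  let κ : Fin m → Fin m → MvPolynomial (Fin n) R := fun l l' =>
    (if l' = l then T else 0) - ∑ j, if l' = rows j then s l j else 0
  have hGI : ∀ l, G l ∈ I := by
    intro l
    simp only [G]
    split_ifs with hl
    · exact Ideal.subset_span (Or.inl ⟨l, rfl⟩)
    · refine Ideal.subset_span (Or.inr ⟨κ l, β l, ?_, ?_⟩)
      · rw [← hs l]
        simp only [κ, sub_mul, Finset.sum_sub_distrib, ite_mul, zero_mul, Finset.sum_ite_eq', Finset.mem_univ, if_true,
          Finset.sum_mul]
        rw [Finset.sum_comm]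
        simp only [Finset.sum_ite_eq', Finset.mem_univ, if_true]
      · simp only [H, κ, map_sub, apply_ite ν, map_zero, map_sum, sub_mul, Finset.sum_sub_distrib, ite_mul, zero_mul,
          Finset.sum_ite_eq', Finset.mem_univ, if_true, Finset.sum_mul]
        rw [Finset.sum_comm]
        simp only [apply_ite (rename (Fin.castAdd m) : MvPolynomial (Fin n) R →ₐ[R] _), map_zero, ite_mul, zero_mul,
          Finset.sum_ite_eq', Finset.mem_univ, if_true]
        rfl
  let v : Fin m → Fin (n + m) := fun l =>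
    if h : l ∈ Set.range rows then Fin.castAdd m (cols h.choose) else Fin.natAdd n l
  have hv : ∀ j, v (rows j) = Fin.castAdd m (cols j) := by
    intro j
    have h : rows j ∈ Set.range rows := ⟨j, rfl⟩
    simp only [v, dif_pos h]
    rw [rows.injective h.choose_spec]
  have hνd : ∀ p i, pderiv (Fin.castAdd m i) (ν p) = ν (pderiv i p) := fun p i =>
    pderiv_rename (Fin.castAdd_injective n m) i p
  have hνd0 : ∀ p (l : Fin m), pderiv (Fin.natAdd n l) (ν p) = 0 := by
    intro p l
    refine pderiv_eq_zero_of_notMem_vars fun h => ?_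
    obtain ⟨i, -, hi⟩ := Finset.mem_image.1 (MvPolynomial.vars_rename _ _ h)
    have := congrArg Fin.val hi
    simp at this
    omega
  have hzd : ∀ j l, pderiv (Fin.natAdd n l) (z j) = if j = l then 1 else 0 := fun j l => by
    show pderiv _ (X _) = _
    rw [pderiv_X]
    by_cases h : j = l
    · subst h; simp
    · rw [Pi.single_eq_of_ne (by intro h'; exact h (Fin.natAdd_injective m n h')), if_neg h]
  have hzd0 : ∀ j (i : Fin n), pderiv (Fin.castAdd m i) (z j) = 0 := fun j i =>
    pderiv_X_of_ne (by intro h; have := congrArg Fin.val h; simp at this; omega)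
  let Qt : Ideal (MvPolynomial (Fin (n + m)) R) := Qd.comap (Ideal.Quotient.mk I)
  have hQν : ∀ p, ν p ∈ Qt ↔ φ p ∈ q := hQν
  have hminor : (Matrix.of fun j k => pderiv (cols k) (f (rows j))).det ∉ q.comap φ := by
    intro h
    refine haq ?_
    rw [ha]
    refine Ideal.mul_mem_left _ a' ?_
    have e : φb (Smoothing.jacobianMinor fb rows cols) = φ (Matrix.of fun j k => pderiv (cols k) (f (rows j))).det := by
      rw [hφ']
      show φb _ = φb (red _)
      congr 1
      rw [RingHom.map_det, Smoothing.jacobianMinor]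
      congr 1
      refine Matrix.ext fun j k => ?_
      show pderiv (cols k) (fb (rows j)) = red (pderiv (cols k) (f (rows j)))
      rw [← hf]
      exact pderiv_map
    rw [e]
    exact h
  refine isSmoothAt_of_relations I G hGI v Qd ?_ ?_
  · intro hdet
    let K := Qt.ResidueField
    let qK : MvPolynomial (Fin (n + m)) R →+* K := algebraMap _ _
    have h0 : qK (Matrix.of fun j l => pderiv (v l) (G j)).det = 0 := Ideal.algebraMap_residueField_eq_zero.2 hdet
    rw [RingHom.map_det] at h0
    refine det_ne_zero rows _ (fun j l hl => ?_) ?_ (qK (ν T)) ?_ (fun l l' hl hl' => ?_) h0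
    · show qK (pderiv (v l) (G (rows j))) = 0
      simp only [G, Set.mem_range_self, if_true, v, dif_neg hl, F]
      rw [map_sub, hνd0, zero_sub, pderiv_C_mul, hzd, if_neg (fun h => hl ⟨j, h⟩), mul_zero, neg_zero, map_zero]
    · intro h
      refine hminor ?_
      show φ _ ∈ q
      rw [← hQν, ← Ideal.algebraMap_residueField_eq_zero]
      rw [← h, AlgHom.map_det, RingHom.map_det]
      congr 1
      refine Matrix.ext fun j k => ?_
      show qK (ν (pderiv (cols k) (f (rows j)))) = qK (pderiv (v (rows k)) (G (rows j)))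
      simp only [G, Set.mem_range_self, if_true, hv, F]
      rw [map_sub, hνd, pderiv_C_mul, hzd0, mul_zero, sub_zero]
    · rw [Ne, Ideal.algebraMap_residueField_eq_zero, hQν]
      exact hTq
    · show qK (pderiv (v l') (G l)) = _
      simp only [G, if_neg hl, v, dif_neg hl', map_sub, map_sum, pderiv_mul, hνd0, hzd, pderiv_C, zero_mul, zero_add,
        mul_ite, mul_one, mul_zero]
      rw [Finset.sum_eq_zero fun j _ => by rw [if_neg (fun h => hl' ⟨j, h⟩), map_zero]]
      split_ifs <;> simp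
  · intro C' _ _ _ _ χ hG hunit x hx
    have hTu : IsUnit (χ (ν T)) := hunit _ (fun h => hTq ((hQν T).1 h))
    have hF : ∀ j, χ (ν (f (rows j))) = algebraMap R C' π * χ (z (rows j)) := fun j => by
      have h := hG (rows j)
      simp only [G, Set.mem_range_self, if_true, F, map_sub, map_mul, sub_eq_zero] at h
      rw [h, ← MvPolynomial.algebraMap_eq, AlgHom.commutes]
    obtain ⟨hfI, hH⟩ := lift_relations_vanish (n := n) π hR χ (ν T) hTu (fun l => ν (f l)) z (fun l j => ν (s l j))
      (fun l => ν (β l)) rows (fun l => by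
        have := congrArg ν (hs l)
        simpa [map_sum] using this) hF (fun l => by
        by_cases hl : l ∈ Set.range rows
        · obtain ⟨i, rfl⟩ := hl
          obtain ⟨hb, hsi⟩ := hrow (rows i) i rfl
          simp [hb, hsi, apply_ite ν, apply_ite χ, ite_mul, map_mul]
        · have h := hG l
          simp only [G, if_neg hl, map_sub, map_sum, map_mul, show χ (C π) = algebraMap R C' π from χ.commutes π] at h
          rw [map_mul]
          linear_combination h)
    refine (Ideal.span_le (I := RingHom.ker χ)).2 ?_ hx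
    rintro _ (⟨j, rfl⟩ | ⟨r, b, hrb, rfl⟩)
    · show χ (F j) = 0
      simp only [F, map_sub, map_mul, hfI, show χ (C π) = algebraMap R C' π from χ.commutes π, sub_self]
    · show χ (H r b) = 0
      simp only [H, map_sub, map_sum, map_mul, show χ (C π) = algebraMap R C' π from χ.commutes π]
      refine hH (fun l => ν (r l)) (ν b) (by
        have := congrArg ν hrb
        simpa [map_sum] using this) fun r' hr' j => ?_
      let r₀ : Fin c → MvPolynomial (Fin n) R := fun j => ∑ l, r l * s l j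
      obtain ⟨y, hy⟩ := exists_div (χ.comp ν) π r₀ (fun j => f (rows j)) (T * b - ∑ l, r l * β l)
        (fun k => pderiv (cols k)) (by
          have e : ∀ l, ∑ j, r l * s l j * f (rows j) = r l * (T * f l - C π ^ 2 * β l) := fun l => by
            rw [← hs l, sub_sub_cancel, Finset.mul_sum]
            exact Finset.sum_congr rfl fun j _ => by ring
          have e2 : ∑ j, r₀ j * f (rows j) = ∑ l, r l * (T * f l - C π ^ 2 * β l) := by
            simp only [r₀, Finset.sum_mul]
            rw [Finset.sum_comm]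
            exact Finset.sum_congr rfl fun l _ => e l
          rw [e2, MvPolynomial.algebraMap_eq, mul_sub, mul_left_comm, ← hrb, Finset.mul_sum, Finset.mul_sum,
            ← Finset.sum_sub_distrib]
          exact Finset.sum_congr rfl fun l _ => by ring)
        (fun j => ⟨_, hF j⟩) (by
          have hu := hunit _ (fun h => hminor ((hQν _).1 h))
          rw [AlgHom.map_det, AlgHom.map_det] at hu
          exact hu) j
      exact ⟨y, by rw [hr' j, ← hy]; simp [r₀, map_sum]⟩


/-- The comparison modulo `π`, for any algebra receiving the lifted relations. -/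
theorem exists_reduction {R Λ Cc D : Type u} [CommRing R] [CommRing Λ] [Algebra R Λ] [CommRing Cc] [Algebra R Cc]
    [CommRing D] [Algebra R D] (π : R) {n m : ℕ} (φ : MvPolynomial (Fin n) R →ₐ[R] Cc) (hφ : Function.Surjective φ)
    (f : Fin m → MvPolynomial (Fin n) R)
    (hker : ∀ p, φ p = 0 → ∃ u : Fin m → MvPolynomial (Fin n) R, ∃ b, p = ∑ j, u j * f j + C π ^ 2 * b)
    (ι : MvPolynomial (Fin n) R →ₐ[R] D) (hf : ∀ j, ι (f j) ∈ Ideal.span {algebraMap R D π})
    (δ : D →ₐ[R] Λ) (lam : Fin n → Λ) (hδ : δ.comp ι = aeval lam)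
    (g : Cc →ₐ[R] Λ ⧸ Ideal.span {algebraMap R Λ (π ^ 2)}) (hg : ∀ p, Ideal.Quotient.mk _ (aeval lam p) = g (φ p)) :
    ∃ ψ : Cc →ₐ[R] D ⧸ Ideal.span {algebraMap R D π}, (∀ p, ψ (φ p) = Ideal.Quotient.mk _ (ι p)) ∧
      ∀ (c : Cc) (d : D) (l : Λ), Ideal.Quotient.mk (Ideal.span {algebraMap R D π}) d = ψ c →
        Ideal.Quotient.mk (Ideal.span {algebraMap R Λ (π ^ 2)}) l = g c → δ d - l ∈ Ideal.span {algebraMap R Λ π} := by
  let ψ' : MvPolynomial (Fin n) R →ₐ[R] D ⧸ Ideal.span {algebraMap R D π} := (Ideal.Quotient.mkₐ R _).comp ι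
  have hψ' : RingHom.ker φ.toRingHom ≤ RingHom.ker ψ'.toRingHom := by
    intro p hp
    obtain ⟨u, b, rfl⟩ := hker p hp
    refine add_mem (sum_mem fun j _ => Ideal.mul_mem_left _ _ (RingHom.mem_ker.2 ?_)) ?_
    · exact Ideal.Quotient.eq_zero_iff_mem.2 (hf j)
    · rw [pow_two, mul_assoc]
      refine Ideal.mul_mem_right _ _ (RingHom.mem_ker.2 ?_)
      show Ideal.Quotient.mk _ (ι (C π)) = 0
      rw [← MvPolynomial.algebraMap_eq, AlgHom.commutes]
      exact Ideal.Quotient.eq_zero_iff_mem.2 (Ideal.mem_span_singleton_self _)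
  refine ⟨AlgHom.liftOfSurjective φ hφ ψ' hψ', fun p => AlgHom.liftOfSurjective_apply φ hφ ψ' hψ' p, ?_⟩
  intro x d l hd hl
  obtain ⟨p, rfl⟩ := hφ x
  rw [show AlgHom.liftOfSurjective φ hφ ψ' hψ' (φ p) = ψ' p from AlgHom.liftOfSurjective_apply φ hφ ψ' hψ' p] at hd
  have h1 : d - ι p ∈ Ideal.span {algebraMap R D π} := Ideal.Quotient.eq.1 hd
  obtain ⟨e, he⟩ := Ideal.mem_span_singleton'.1 h1
  have h2 : aeval lam p - l ∈ Ideal.span {algebraMap R Λ (π ^ 2)} := Ideal.Quotient.eq.1 ((hg p).trans hl.symm)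
  obtain ⟨e', he'⟩ := Ideal.mem_span_singleton'.1 h2
  rw [map_pow] at he'
  refine Ideal.mem_span_singleton'.2 ⟨δ e + e' * algebraMap R Λ π, ?_⟩
  have h4 : δ e * algebraMap R Λ π = δ d - aeval lam p := by
    rw [← DFunLike.congr_fun hδ p, AlgHom.comp_apply, ← map_sub, ← he, map_mul, AlgHom.commutes]
  linear_combination h4 + he'

set_option maxHeartbeats 1000000 in
theorem exists_lift {R Λ Cc : Type u} [CommRing R] [IsNoetherianRing R] [CommRing Λ]
    [Algebra R Λ] (π : R) (hR : ∀ r : R, π ^ 2 * r = 0 → π * r = 0)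
    (hΛ : ∀ x : Λ, π ^ 2 • x = 0 → π • x = 0) [CommRing Cc] [Algebra R Cc]
    [Algebra (R ⧸ Ideal.span {π ^ 2}) Cc] [IsScalarTower R (R ⧸ Ideal.span {π ^ 2}) Cc]
    [Algebra.FinitePresentation (R ⧸ Ideal.span {π ^ 2}) Cc]
    (g : Cc →ₐ[R] Λ ⧸ Ideal.span {algebraMap R Λ (π ^ 2)}) :
    ∃ (D : Type u) (_ : CommRing D) (_ : Algebra R D), Algebra.FinitePresentation R D ∧
      ∃ (δ : D →ₐ[R] Λ) (ψ : Cc →ₐ[R] D ⧸ Ideal.span {algebraMap R D π}),
        (∀ (c : Cc) (d : D) (l : Λ), Ideal.Quotient.mk (Ideal.span {algebraMap R D π}) d = ψ c →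
          Ideal.Quotient.mk (Ideal.span {algebraMap R Λ (π ^ 2)}) l = g c →
            δ d - l ∈ Ideal.span {algebraMap R Λ π}) ∧
        (∀ (Q : Ideal D) [Q.IsPrime], algebraMap R D π ∉ Q → Algebra.IsSmoothAt R Q) ∧
        (∀ (Q : Ideal (D ⧸ Ideal.span {algebraMap R D π})) [Q.IsPrime],
          Algebra.IsSmoothAt (R ⧸ Ideal.span {π ^ 2}) (Q.comap ψ) →
            Algebra.IsSmoothAt R (Q.comap (Ideal.Quotient.mk (Ideal.span {algebraMap R D π})))) := by
  classical
  let Rb := R ⧸ Ideal.span {π ^ 2}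
  obtain ⟨n, φb, hφb, hfg⟩ := ‹Algebra.FinitePresentation Rb Cc›.out
  obtain ⟨m, fb, hfb⟩ := Submodule.fg_iff_exists_fin_generating_family.1 hfg
  let red : MvPolynomial (Fin n) R →+* MvPolynomial (Fin n) Rb := MvPolynomial.map (Ideal.Quotient.mk _)
  have hred : Function.Surjective red := MvPolynomial.map_surjective _ Ideal.Quotient.mk_surjective
  have hredker : ∀ p, red p = 0 → ∃ b, p = C π ^ 2 * b := fun p hp => exists_eq_sq_mul π p hp
  let φ : MvPolynomial (Fin n) R →ₐ[R] Cc :=
    { toRingHom := φb.toRingHom.comp red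
      commutes' := fun r => by
        show φb (red (C r)) = _
        rw [map_C, ← MvPolynomial.algebraMap_eq, AlgHom.commutes, IsScalarTower.algebraMap_apply R Rb Cc]
        rfl }
  have hφ : Function.Surjective φ := hφb.comp hred
  choose f hf using fun j => hred (fb j)
  have hker : ∀ p, φ p = 0 → ∃ u : Fin m → MvPolynomial (Fin n) R, ∃ b, p = ∑ j, u j * f j + C π ^ 2 * b := by
    intro p hp
    obtain ⟨w, hw⟩ := Ideal.mem_span_range_iff_exists_fun.1 (hfb.ge (show φb (red p) = 0 from hp))
    choose u hu using fun j => hred (w j)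
    obtain ⟨b, hb⟩ := hredker (p - ∑ j, u j * f j) (by
      simp only [map_sub, map_sum, map_mul, hu, hf, hw, sub_self])
    exact ⟨u, b, by rw [← hb]; ring⟩
  have hφf : ∀ j, φ (f j) = 0 := fun j => by
    show φb (red (f j)) = 0
    rw [hf]
    exact hfb.le (Ideal.subset_span ⟨j, rfl⟩)
  -- the point of `Λ`
  choose lam hlam using fun i => Ideal.Quotient.mk_surjective (g (φ (X i)))
  have hglam : ∀ p, Ideal.Quotient.mk _ (aeval lam p) = g (φ p) := by
    intro p
    have : (Ideal.Quotient.mkₐ R (Ideal.span {algebraMap R Λ (π ^ 2)})).comp (aeval lam) = g.comp φ :=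
      MvPolynomial.algHom_ext fun i => by
        show Ideal.Quotient.mk _ (aeval lam (X i)) = _
        rw [aeval_X]; exact hlam i
    exact DFunLike.congr_fun this p
  have hμ : ∀ j, ∃ μ, aeval lam (f j) = algebraMap R Λ π ^ 2 * μ := fun j => by
    obtain ⟨μ, hμ⟩ := Ideal.mem_span_singleton'.1
      (Ideal.Quotient.eq_zero_iff_mem.1 ((hglam (f j)).trans (by rw [hφf, map_zero])))
    exact ⟨μ, by rw [← hμ, map_pow, mul_comm]⟩
  choose μ hμ using hμ
  -- the algebra
  let ν : MvPolynomial (Fin n) R →ₐ[R] MvPolynomial (Fin (n + m)) R := rename (Fin.castAdd m)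
  let z : Fin m → MvPolynomial (Fin (n + m)) R := fun j => X (Fin.natAdd n j)
  let F : Fin m → MvPolynomial (Fin (n + m)) R := fun j => ν (f j) - C π * z j
  let H : (Fin m → MvPolynomial (Fin n) R) → MvPolynomial (Fin n) R → MvPolynomial (Fin (n + m)) R :=
    fun r b => ∑ j, ν (r j) * z j - C π * ν b
  let Hset : Set (MvPolynomial (Fin (n + m)) R) := {x | ∃ r b, ∑ j, r j * f j = C π ^ 2 * b ∧ x = H r b}
  let I : Ideal (MvPolynomial (Fin (n + m)) R) := Ideal.span (liftSet π f)
  haveI hfp : Algebra.FinitePresentation R (MvPolynomial (Fin (n + m)) R ⧸ I) := Algebra.FinitePresentation.of_surjective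
    (f := Ideal.Quotient.mkₐ R I) Ideal.Quotient.mk_surjective (by
      rw [show RingHom.ker (Ideal.Quotient.mkₐ R I).toRingHom = I from Ideal.mk_ker]
      exact IsNoetherian.noetherian I)
  let w : Fin (n + m) → Λ := Fin.append lam (fun j => algebraMap R Λ π * μ j)
  have hwν : ∀ p, aeval w (ν p) = aeval lam p := fun p => by
    rw [aeval_rename]
    congr 2
    funext i
    exact Fin.append_left _ _ i
  have hwI : ∀ x ∈ I, aeval w x = 0 := by
    intro x hx
    refine (Ideal.span_le (I := RingHom.ker (aeval w : MvPolynomial (Fin (n + m)) R →ₐ[R] Λ))).2 ?_ hx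
    rintro _ (⟨j, rfl⟩ | ⟨r, b, hrb, rfl⟩)
    · show aeval w (F j) = 0
      simp only [F, z, map_sub, map_mul, hwν, hμ, aeval_C, aeval_X, w, Fin.append_right]
      ring
    · show aeval w (H r b) = 0
      simp only [H, z, map_sub, map_mul, map_sum, hwν, aeval_C, aeval_X, w, Fin.append_right]
      have h1 := congrArg (aeval lam : MvPolynomial (Fin n) R →ₐ[R] Λ) hrb
      simp only [map_sum, map_mul, map_pow, hμ, aeval_C] at h1
      let y := ∑ j, aeval lam (r j) * μ j - aeval lam b
      have e1 : ∑ j, aeval lam (r j) * (algebraMap R Λ π ^ 2 * μ j) = algebraMap R Λ π ^ 2 * ∑ j, aeval lam (r j) * μ j := by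
        rw [Finset.mul_sum]; exact Finset.sum_congr rfl fun j _ => by ring
      have e2 : ∑ j, aeval lam (r j) * (algebraMap R Λ π * μ j) = algebraMap R Λ π * ∑ j, aeval lam (r j) * μ j := by
        rw [Finset.mul_sum]; exact Finset.sum_congr rfl fun j _ => by ring
      have h2 := hΛ y (by rw [Algebra.smul_def, map_pow]; simp only [y]; linear_combination h1 - e1)
      rw [Algebra.smul_def] at h2
      simp only [y] at h2
      linear_combination e2 + h2
  let δ : (MvPolynomial (Fin (n + m)) R ⧸ I) →ₐ[R] Λ := Ideal.Quotient.liftₐ I (aeval w) hwI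
  obtain ⟨ψ, hψ, hcompat⟩ := exists_reduction π φ hφ f hker ((Ideal.Quotient.mkₐ R I).comp ν) (fun j => by
      have h1 : F j ∈ I := Ideal.subset_span (Or.inl ⟨j, rfl⟩)
      show Ideal.Quotient.mk I (ν (f j)) ∈ Ideal.span {algebraMap R (MvPolynomial (Fin (n + m)) R ⧸ I) π}
      rw [show ν (f j) = F j + C π * z j from (sub_add_cancel _ _).symm, map_add,
        (Ideal.Quotient.eq_zero_iff_mem (I := I)).2 h1, zero_add, map_mul]
      exact Ideal.mul_mem_right _ _ (Ideal.mem_span_singleton_self _))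
    δ lam (AlgHom.ext hwν) g hglam
  refine ⟨_, inferInstance, inferInstance, hfp, δ, ψ, hcompat, fun Q _ hQ => isSmoothAt_lift_away π f Q hQ, fun Q _ hsm => ?_⟩
  haveI := hsm
  exact isSmoothAt_lift_point π hR φb hφb fb hfb φ (fun p => rfl) f hf
    (Q.comap (Ideal.Quotient.mk _)) (Q.comap ψ) fun p => by
      rw [Ideal.mem_comap, Ideal.mem_comap, hψ]
      rfl

end Groth.Agent.CAlgH.LiftingLemma
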