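import Mathlib

/-!
# Higher derived inverse limits of towers of abelian groups vanish from degree two on
-/

set_option autoImplicit false

universe u

open CategoryTheory CategoryTheory.Limits Opposite

namespace Groth.Agent.CAlgH.LimTower

variable (I : ℕᵒᵖ ⥤ AddCommGrpCat.{u})

/-- The tower `n ↦ ∏_{k ≤ n} I k`, with surjective transition maps. -/
noncomputable def expand : ℕᵒᵖ ⥤ AddCommGrpCat.{u} where
  obj n := AddCommGrpCat.of ((k : {k : ℕ // k ≤ n.unop}) → I.obj (op k.1))
  map {m n} f := AddCommGrpCat.ofHom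
    { toFun := fun x k => x ⟨k.1, le_trans k.2 (leOfHom f.unop)⟩
      map_zero' := rfl
      map_add' := fun _ _ => rfl }

noncomputable def toExpand : I ⟶ expand I where
  app n := AddCommGrpCat.ofHom
    { toFun := fun x k => (I.map (homOfLE k.2).op).hom x
      map_zero' := by funext k; simp
      map_add' := fun x y => by funext k; simp }
  naturality m n f := by
    ext x
    funext k
    show (I.map (homOfLE k.2).op).hom ((I.map f).hom x) = (I.map (homOfLE _).op).hom x
    rw [← ConcreteCategory.comp_apply, ← I.map_comp]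
    rfl

instance (n : ℕᵒᵖ) : Mono ((toExpand I).app n) := by
  rw [AddCommGrpCat.mono_iff_injective]
  intro x y h
  have h' : (I.map (homOfLE (le_refl n.unop)).op).hom x = (I.map (homOfLE (le_refl n.unop)).op).hom y :=
    congrFun h ⟨n.unop, le_rfl⟩
  have h1 : I.map (homOfLE (le_refl n.unop)).op = 𝟙 (I.obj n) := I.map_id n
  rwa [h1] at h'

theorem surjective_of_injective [Injective I] {m n : ℕ} (h : m ≤ n) :
    Function.Surjective (I.map (homOfLE h).op).hom := by
  haveI : Mono (toExpand I) := NatTrans.mono_of_mono_app _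
  intro z
  let r : expand I ⟶ I := Injective.factorThru (𝟙 I) (toExpand I)
  have hr : toExpand I ≫ r = 𝟙 I := Injective.comp_factorThru _ _
  let x : (expand I).obj (op n) :=
    fun k => if hk : k.1 ≤ m then (I.map (homOfLE hk).op).hom z else 0
  refine ⟨(r.app (op n)).hom x, ?_⟩
  rw [← ConcreteCategory.comp_apply, ← r.naturality, ConcreteCategory.comp_apply]
  have hx : ((expand I).map (homOfLE h).op).hom x = ((toExpand I).app (op m)).hom z := by
    funext k
    show (if hk : k.1 ≤ m then _ else _) = _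
    rw [dif_pos k.2]
    rfl
  rw [hx, ← ConcreteCategory.comp_apply, ← NatTrans.comp_app, hr]
  rfl

theorem exact_lim {A : ℕᵒᵖ ⥤ AddCommGrpCat.{u}} (R : InjectiveResolution A) (j : ℕ)
    (x : (limit (R.cocomplex.X (j + 2)) : AddCommGrpCat.{u}))
    (hx : (limMap (R.cocomplex.d (j + 2) (j + 3))).hom x = 0) :
    ∃ y : (limit (R.cocomplex.X (j + 1)) : AddCommGrpCat.{u}),
      (limMap (R.cocomplex.d (j + 1) (j + 2))).hom y = x := by
  let K := R.cocomplex
  let d₀ := K.d j (j + 1)
  let d₁ := K.d (j + 1) (j + 2)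
  have hlev : ∀ (i : ℕ) (n : ℕᵒᵖ) (z : (K.X (i + 1)).obj n), ((K.d (i + 1) (i + 2)).app n).hom z = 0 →
      ∃ w, ((K.d i (i + 1)).app n).hom w = z :=
    fun i n z hz => (ShortComplex.ab_exact_iff _).1
      ((R.exact_succ i).map ((evaluation ℕᵒᵖ AddCommGrpCat.{u}).obj n)) z hz
  let xs : ∀ n : ℕ, (K.X (j + 2)).obj (op n) := fun n => (limit.π (K.X (j + 2)) (op n)).hom x
  have hxs : ∀ n, ∃ y, (d₁.app (op n)).hom y = xs n := fun n => by
    refine hlev (j + 1) (op n) _ ?_
    show (limit.π (K.X (j + 2)) (op n) ≫ (K.d (j + 2) (j + 3)).app (op n)).hom x = 0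
    rw [← limMap_π, ConcreteCategory.comp_apply, hx, map_zero]
  have hstep : ∀ n (y : (K.X (j + 1)).obj (op n)), (d₁.app (op n)).hom y = xs n →
      ∃ y' : (K.X (j + 1)).obj (op (n + 1)), (d₁.app (op (n + 1))).hom y' = xs (n + 1) ∧
        ((K.X (j + 1)).map (homOfLE n.le_succ).op).hom y' = y := by
    intro n y hy
    obtain ⟨y₀, hy₀⟩ := hxs (n + 1)
    let f := (homOfLE n.le_succ).op
    have hnat : ∀ (i i' : ℕ) (w : (K.X i).obj (op (n + 1))),
        ((K.d i i').app (op n)).hom (((K.X i).map f).hom w) =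
          ((K.X i').map f).hom (((K.d i i').app (op (n + 1))).hom w) := fun i i' w => by
      rw [← ConcreteCategory.comp_apply, ← ConcreteCategory.comp_apply, NatTrans.naturality]
    have hxn : ((K.X (j + 2)).map f).hom (xs (n + 1)) = xs n := by
      show (limit.π (K.X (j + 2)) (op (n + 1)) ≫ (K.X (j + 2)).map f).hom x = _
      rw [limit.w]
    obtain ⟨w, hw⟩ := hlev j (op n) (((K.X (j + 1)).map f).hom y₀ - y) (by
      rw [map_sub, hnat, hy₀, hxn, hy, sub_self])
    haveI := R.injective j
    obtain ⟨w', hw'⟩ := surjective_of_injective (K.X j) n.le_succ w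
    refine ⟨y₀ - (d₀.app (op (n + 1))).hom w', ?_, ?_⟩
    · have h0 : (d₁.app (op (n + 1))).hom ((d₀.app (op (n + 1))).hom w') = 0 := by
        rw [← ConcreteCategory.comp_apply, ← NatTrans.comp_app, K.d_comp_d]
        rfl
      rw [map_sub, hy₀, h0, sub_zero]
    · show ((K.X (j + 1)).map f).hom _ = y
      rw [map_sub, ← hnat, show ((K.X j).map f).hom w' = w from hw', hw, sub_sub_cancel]
  choose next hnext₁ hnext₂ using hstep
  choose y₀ hy₀ using hxs 0
  let ys : ∀ n : ℕ, {y : (K.X (j + 1)).obj (op n) // (d₁.app (op n)).hom y = xs n} :=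
    fun n => Nat.rec (motive := fun n => {y : (K.X (j + 1)).obj (op n) // (d₁.app (op n)).hom y = xs n})
      ⟨y₀, hy₀⟩ (fun n p => ⟨next n p.1 p.2, hnext₁ n p.1 p.2⟩) n
  have hcompat : ∀ n m (h : n ≤ m), ((K.X (j + 1)).map (homOfLE h).op).hom (ys m).1 = (ys n).1 := by
    intro n m h
    induction m, h using Nat.le_induction with
    | base => simp
    | succ m hm ih =>
      rw [← homOfLE_comp hm m.le_succ, op_comp, Functor.map_comp, ConcreteCategory.comp_apply]
      rw [show ((K.X (j + 1)).map (homOfLE m.le_succ).op).hom (ys (m + 1)).1 = (ys m).1 from hnext₂ m _ _, ih]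
  let c : Cone (K.X (j + 1)) :=
    { pt := AddCommGrpCat.of (ULift.{u} ℤ)
      π :=
        { app := fun n => AddCommGrpCat.ofHom
            ((zmultiplesHom _ (ys n.unop).1).comp AddEquiv.ulift.toAddMonoidHom)
          naturality := fun m n g => by
            ext a
            show (a.down : ℤ) • (ys n.unop).1 = ((K.X (j + 1)).map g).hom (a.down • (ys m.unop).1)
            rw [map_zsmul, show g = (homOfLE (leOfHom g.unop)).op from rfl, hcompat] } }
  refine ⟨(limit.lift _ c).hom ⟨1⟩, Concrete.limit_ext _ _ _ fun n => ?_⟩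
  show (limit.lift (K.X (j + 1)) c ≫ limMap d₁ ≫ limit.π (K.X (j + 2)) n).hom ⟨1⟩ = (limit.π (K.X (j + 2)) n).hom x
  rw [limMap_π, ← Category.assoc, limit.lift_π]
  show (d₁.app n).hom ((1 : ℤ) • (ys n.unop).1) = _
  rw [one_smul]
  exact (ys n.unop).2

end Groth.Agent.CAlgH.LimTower
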