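import Mathlib.RingTheory.LocalRing.RingHom.Basic
import Mathlib.Algebra.Ring.Subring.Basic
import Mathlib.Tactic.Ring

/-! Localised subrings of local rings. -/
universe u

namespace Groth.Agent.CAlgH

theorem locSubring {R : Type u} [CommRing R] [IsLocalRing R] (T : Subring R)
    (hT : ∀ t ∈ T, IsUnit t → ∃ t' ∈ T, t * t' = 1) :
    ∃ _ : IsLocalRing T, IsLocalHom T.subtype := by
  have hu : ∀ t : T, IsUnit (t : R) → IsUnit t := fun t ht => by
    obtain ⟨t', ht', e⟩ := hT t t.2 ht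
    exact IsUnit.of_mul_eq_one ⟨t', ht'⟩ (Subtype.ext e)
  have : IsLocalRing T := by
    refine IsLocalRing.of_nonunits_add fun a b ha hb hab => ?_
    exact IsLocalRing.nonunits_add (fun h => ha (hu a h)) (fun h => hb (hu b h)) (hab.map T.subtype)
  exact ⟨this, ⟨hu⟩⟩

def locCl {R : Type u} [CommRing R] (T : Subring R) : Subring R where
  carrier := {x | ∃ b ∈ T, IsUnit b ∧ x * b ∈ T}
  mul_mem' := by
    rintro x y ⟨a, ha, hua, hxa⟩ ⟨b, hb, hub, hyb⟩
    exact ⟨a * b, T.mul_mem ha hb, hua.mul hub, by rw [mul_mul_mul_comm]; exact T.mul_mem hxa hyb⟩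
  one_mem' := ⟨1, T.one_mem, isUnit_one, by simp [T.one_mem]⟩
  add_mem' := by
    rintro x y ⟨a, ha, hua, hxa⟩ ⟨b, hb, hub, hyb⟩
    refine ⟨a * b, T.mul_mem ha hb, hua.mul hub, ?_⟩
    rw [show (x + y) * (a * b) = (x * a) * b + (y * b) * a by ring]
    exact T.add_mem (T.mul_mem hxa hb) (T.mul_mem hyb ha)
  zero_mem' := ⟨1, T.one_mem, isUnit_one, by simp [T.zero_mem]⟩
  neg_mem' := by
    rintro x ⟨a, ha, hua, hxa⟩
    exact ⟨a, ha, hua, by rw [neg_mul]; exact T.neg_mem hxa⟩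

theorem locCl_le {R : Type u} [CommRing R] (T : Subring R) : T ≤ locCl T := fun x hx =>
  ⟨1, T.one_mem, isUnit_one, by simpa using hx⟩

theorem locCl_inv {R : Type u} [CommRing R] (T : Subring R) :
    ∀ t ∈ locCl T, IsUnit t → ∃ t' ∈ locCl T, t * t' = 1 := by
  rintro t ⟨b, hb, hub, htb⟩ ht
  obtain ⟨t', h⟩ := ht.exists_right_inv
  refine ⟨t', ⟨t * b, htb, ht.mul hub, ?_⟩, h⟩
  rw [← mul_assoc, mul_comm t', h, one_mul]; exact hb

end Groth.Agent.CAlgH
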