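import Groth.Agent.CAlgH.ConstantFieldBound
import Groth.Agent.CAlgH.ConstantTensor
import Groth.Agent.CAlgSmall.IndEtaleFibre
import Groth.Agent.HenselLib.IndEtale
import Groth.Agent.HenselLib.WEtale
import Groth.Agent.HenselLib.HullWEt
import Mathlib

/-!
# Noetherianity of algebraic Milnor fibres
-/

set_option autoImplicit false
set_option linter.style.haveILetI false
universe u

open TensorProduct IsLocalRing

namespace Groth.Agent.CAlgH.MilnorFibre

section stage

open CategoryTheory Limits

/-- Finitely many elements of an ind-etale algebra come from a stage over which it is weakly etale. -/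
theorem exists_stage (Rl B : Type u) [CommRing Rl] [CommRing B] [Algebra Rl B]
    (hB : EtPBC.IsIndEtale Rl B) (s : Finset B) :
    ∃ (E0 : Type u) (_ : CommRing E0) (_ : Algebra Rl E0) (_ : Algebra E0 B) (_ : IsScalarTower Rl E0 B),
      Algebra.EssFiniteType Rl E0 ∧ Algebra.WeaklyEtale E0 B ∧ (s : Set B) ⊆ Set.range (algebraMap E0 B) := by
  obtain ⟨J, _, _, D, t, S, hS, hst⟩ := (HenselLib.IndEt.isIndEtale_iff_ind Rl B).1 hB
  haveI := HenselLib.IndEt.weaklyEtale Rl B hB
  obtain ⟨k, z, hz⟩ := HenselLib.IndEt.exists_rep_fin hS (fun i => (s.equivFin.symm i : B))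
  let T : Rl →+* D.obj k := (t.app k).hom
  let g : D.obj k →+* B := (S.app k).hom
  algebraize [T]
  haveI : Algebra.Etale Rl (D.obj k) := (hst k).1
  letI : Algebra (D.obj k) B := g.toAlgebra
  haveI : IsScalarTower Rl (D.obj k) B :=
    IsScalarTower.of_algebraMap_eq fun r => (ConcreteCategory.congr_hom (hst k).2 r).symm
  refine ⟨D.obj k, inferInstance, inferInstance, inferInstance, inferInstance, inferInstance,
    HenselLib.WEt.weaklyEtale_of_algHom (A := Rl), fun b hb => ⟨z (s.equivFin ⟨b, hb⟩), ?_⟩⟩
  exact (hz _).trans (congrArg Subtype.val (s.equivFin.symm_apply_apply ⟨b, hb⟩))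

end stage

variable (V : Type u) [CommRing V] [IsDomain V] [IsDiscreteValuationRing V] [HenselianLocalRing V]
  [IsAlgClosed (ResidueField V)] [CharZero V]
  (L : Type u) [Field L] [IsAlgClosed L] [Algebra V L] [FaithfulSMul V L] [Algebra.IsAlgebraic V L]
  (Rl : Type u) [CommRing Rl] [Algebra V Rl] [Algebra.EssFiniteType V Rl]
  (B : Type u) [CommRing B] [IsLocalRing B] [IsNoetherianRing B] [Algebra V B] [Algebra Rl B]
  [IsScalarTower V Rl B] [IsLocalHom (algebraMap V B)]

omit [CommRing Rl] [Algebra V Rl] [Algebra.EssFiniteType V Rl] [Algebra Rl B] [IsScalarTower V Rl B] in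
/-- Finitely many primes of the fibre over each prime. -/
theorem finite_over (Q : Ideal B) [Q.IsPrime] :
    {P : PrimeSpectrum (B ⊗[V] L) |
      P.asIdeal.comap (Algebra.TensorProduct.includeLeftRingHom : B →+* B ⊗[V] L) = Q}.Finite := by
  classical
  by_cases hQ : Q.comap (algebraMap V B) = ⊥
  · let D := B ⧸ Q
    haveI : IsLocalRing D := IsLocalRing.of_surjective' (Ideal.Quotient.mk Q) Ideal.Quotient.mk_surjective
    haveI : IsLocalHom (Ideal.Quotient.mk Q) := IsLocalHom.of_surjective _ Ideal.Quotient.mk_surjective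
    let g : V →+* D := (Ideal.Quotient.mk Q).comp (algebraMap V B)
    haveI : IsLocalHom g := RingHom.isLocalHom_comp _ _
    have hg : Function.Injective g := (RingHom.injective_iff_ker_eq_bot g).2 (by
      rw [← hQ, ← RingHom.comap_ker, Ideal.mk_ker])
    obtain ⟨n, hn⟩ := ConstantFieldBound.exists_finrank_bound V D g hg
    let K := FractionRing V
    let F := FractionRing D
    haveI : CharZero K := charZero_of_injective_algebraMap (IsFractionRing.injective V K)
    let iK : K →+* F := IsFractionRing.lift (A := V) (g := (algebraMap D F).comp g)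
      ((IsFractionRing.injective D F).comp hg)
    have hiK : ∀ v, iK (algebraMap V K v) = algebraMap V F v := fun v => by
      rw [show iK (algebraMap V K v) = algebraMap D F (g v) from IsLocalization.lift_eq _ v,
        IsScalarTower.algebraMap_apply V D F]
      rfl
    letI : Algebra K F := iK.toAlgebra
    haveI : IsScalarTower V K F := IsScalarTower.of_algebraMap_eq fun v => (hiK v).symm
    let iL : K →+* L := IsFractionRing.lift (A := V) (g := algebraMap V L) (FaithfulSMul.algebraMap_injective V L)
    letI : Algebra K L := iL.toAlgebra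
    haveI : IsScalarTower V K L :=
      IsScalarTower.of_algebraMap_eq fun v => (IsLocalization.lift_eq _ v).symm
    haveI : Algebra.IsAlgebraic K L := ⟨fun l => by
      obtain ⟨p, hp0, hp⟩ := Algebra.IsAlgebraic.isAlgebraic (R := V) l
      exact ⟨p.map (algebraMap V K), (Polynomial.map_ne_zero_iff (IsFractionRing.injective V K)).2 hp0,
        by rw [Polynomial.aeval_map_algebraMap, hp]⟩⟩
    -- the constants are finite
    have hbound : ∀ M : IntermediateField K F, FiniteDimensional K M → Module.finrank K M < n := fun M hM => by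
      haveI := hM
      letI : Algebra V M := ((algebraMap K M).comp (algebraMap V K)).toAlgebra
      haveI : IsScalarTower V K M := IsScalarTower.of_algebraMap_eq fun v => rfl
      exact hn M M.val.toRingHom (RingHom.ext fun v =>
        (hiK v).trans ((IsScalarTower.algebraMap_apply V D F v).trans rfl))
    haveI : FiniteDimensional K (algebraicClosure K F) := by
      have hex : ∃ d, ∃ M : IntermediateField K F, FiniteDimensional K M ∧ n - Module.finrank K M = d :=
        ⟨_, ⊥, inferInstance, rfl⟩
      obtain ⟨M, hM, hd⟩ := Nat.find_spec hex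
      haveI := hM
      have hle : algebraicClosure K F ≤ M := fun x hx => by
        haveI := IntermediateField.adjoin.finiteDimensional (mem_algebraicClosure_iff'.1 hx)
        let M' := M ⊔ IntermediateField.adjoin K {x}
        have hmin := Nat.find_le (h := hex) ⟨M', inferInstance, rfl⟩
        have h1 := hbound M' inferInstance
        have h2 := hbound M hM
        have heq : M = M' := IntermediateField.eq_of_le_of_finrank_le le_sup_left (by omega)
        rw [heq]
        exact (le_sup_right : IntermediateField.adjoin K {x} ≤ M') (IntermediateField.subset_adjoin K {x} rfl)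
      exact FiniteDimensional.of_injective (IntermediateField.inclusion hle).toLinearMap
        (IntermediateField.inclusion hle).injective
    haveI := ConstantTensor.finite_primeSpectrum K F L
    -- every prime over `Q` comes from the tensor product of fields
    let j : B →+* F := (algebraMap D F).comp (Ideal.Quotient.mk Q)
    let jA : B →ₐ[V] F ⊗[K] L :=
      { (Algebra.TensorProduct.includeLeftRingHom : F →+* F ⊗[K] L).comp j with
        commutes' := fun v => by
          show (j (algebraMap V B v)) ⊗ₜ[K] (1 : L) = algebraMap V (F ⊗[K] L) v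
          rw [Algebra.TensorProduct.algebraMap_apply]
          congr 1 }
    let lA : L →ₐ[V] F ⊗[K] L :=
      (Algebra.TensorProduct.includeRight : L →ₐ[K] F ⊗[K] L).restrictScalars V
    let Φ : B ⊗[V] L →ₐ[V] F ⊗[K] L := Algebra.TensorProduct.lift jA lA fun _ _ => Commute.all _ _
    refine ((Set.finite_univ (α := PrimeSpectrum (F ⊗[K] L))).image (PrimeSpectrum.comap Φ.toRingHom)).subset
      fun P hP => ?_
    change P.asIdeal.comap _ = Q at hP
    let κ := FractionRing ((B ⊗[V] L) ⧸ P.asIdeal)
    let π : B ⊗[V] L →+* κ := (algebraMap _ κ).comp (Ideal.Quotient.mk P.asIdeal)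
    have hπ : RingHom.ker π = P.asIdeal := by
      rw [← RingHom.comap_ker, (RingHom.injective_iff_ker_eq_bot _).1 (IsFractionRing.injective _ κ),
        ← RingHom.ker_eq_comap_bot, Ideal.mk_ker]
    let πB : D →+* κ := Ideal.Quotient.lift Q (π.comp Algebra.TensorProduct.includeLeftRingHom) fun b hb => by
      rw [← RingHom.mem_ker, ← RingHom.comap_ker, hπ, hP]; exact hb
    have hπB : Function.Injective πB := RingHom.lift_injective_of_ker_le_ideal Q _ (by
      rw [← RingHom.comap_ker, hπ, hP])
    let πF : F →+* κ := IsFractionRing.lift (A := D) hπB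
    let πL : L →+* κ := π.comp Algebra.TensorProduct.includeRight.toRingHom
    letI : Algebra K κ := (πL.comp (algebraMap K L)).toAlgebra
    have hKF : πF.comp (algebraMap K F) = πL.comp (algebraMap K L) := by
      refine IsLocalization.ringHom_ext (nonZeroDivisors V) (RingHom.ext fun v => ?_)
      show πF (iK (algebraMap V K v)) = πL (iL (algebraMap V K v))
      rw [hiK, IsScalarTower.algebraMap_apply V D F,
        show πF (algebraMap D F (algebraMap V D v)) = πB (algebraMap V D v) from IsLocalization.lift_eq _ _,
        show iL (algebraMap V K v) = algebraMap V L v from IsLocalization.lift_eq _ _]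
      show π ((algebraMap V B v) ⊗ₜ 1) = π (1 ⊗ₜ algebraMap V L v)
      rw [Algebra.algebraMap_eq_smul_one, Algebra.algebraMap_eq_smul_one, TensorProduct.smul_tmul]
    let Ψ : F ⊗[K] L →ₐ[K] κ := Algebra.TensorProduct.lift
      { πF with commutes' := fun r => RingHom.congr_fun hKF r }
      { πL with commutes' := fun r => rfl } fun _ _ => Commute.all _ _
    refine ⟨⟨RingHom.ker Ψ.toRingHom, RingHom.ker_isPrime _⟩, trivial, PrimeSpectrum.ext ?_⟩
    show (RingHom.ker Ψ.toRingHom).comap Φ.toRingHom = P.asIdeal
    rw [RingHom.comap_ker]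
    refine Eq.trans ?_ hπ
    congr 1
    refine RingHom.ext fun x => ?_
    induction x using TensorProduct.induction_on with
    | zero => simp
    | tmul b l =>
      show Ψ (Φ (b ⊗ₜ l)) = π (b ⊗ₜ l)
      have hπF : πF (j b) = π (b ⊗ₜ[V] (1 : L)) := IsLocalization.lift_eq _ _
      simp only [Φ, Algebra.TensorProduct.lift_tmul, jA, lA, AlgHom.coe_mk, RingHom.comp_apply,
        Algebra.TensorProduct.includeLeftRingHom_apply, AlgHom.restrictScalars_apply,
        Algebra.TensorProduct.includeRight_apply, Algebra.TensorProduct.tmul_mul_tmul, one_mul, mul_one, Ψ]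
      show πF (j b) * πL l = π (b ⊗ₜ l)
      rw [hπF]
      show π _ * π _ = _
      rw [← map_mul]
      congr 1
      simp
    | add x y hx hy => rw [map_add, map_add, hx, hy]
  · refine Set.finite_empty.subset fun P hP => hQ ?_
    change P.asIdeal.comap _ = Q at hP
    rw [← hP, Ideal.comap_comap,
      show (Algebra.TensorProduct.includeLeftRingHom : B →+* B ⊗[V] L).comp (algebraMap V B) =
        (Algebra.TensorProduct.includeRight : L →ₐ[V] B ⊗[V] L).toRingHom.comp (algebraMap V L) from
        RingHom.ext fun v => by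
          simp only [RingHom.comp_apply, Algebra.TensorProduct.includeLeftRingHom_apply, AlgHom.toRingHom_eq_coe,
            RingHom.coe_coe, Algebra.TensorProduct.includeRight_apply]
          rw [Algebra.algebraMap_eq_smul_one, Algebra.algebraMap_eq_smul_one, TensorProduct.smul_tmul],
      ← Ideal.comap_comap, Ideal.eq_bot_of_prime (P.asIdeal.comap _), ← RingHom.ker_eq_comap_bot,
      (RingHom.injective_iff_ker_eq_bot _).1 (FaithfulSMul.algebraMap_injective V L)]

include Rl in
/-- The algebraic Milnor fibre is Noetherian. -/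
theorem isNoetherianRing_tensor (hB : EtPBC.IsIndEtale Rl B) : IsNoetherianRing (L ⊗[V] B) := by
  classical
  suffices IsNoetherianRing (B ⊗[V] L) from
    isNoetherianRing_of_ringEquiv _ (Algebra.TensorProduct.comm V B L).toRingEquiv
  refine IsNoetherianRing.of_prime fun P hP => ?_
  haveI := hP
  let inB : B →+* B ⊗[V] L := Algebra.TensorProduct.includeLeftRingHom
  let q : Ideal Rl := (P.comap inB).under Rl
  let Sig : Set (PrimeSpectrum (B ⊗[V] L)) := {P' | (P'.asIdeal.comap inB).under Rl = q}
  have hfin : Sig.Finite := by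
    refine (((CAlgSmall.indEtale_noetherian_fibre hB q).1).biUnion
      fun Q _ => finite_over V L B Q.asIdeal).subset fun P' hP' => ?_
    exact Set.mem_iUnion₂.2 ⟨⟨P'.asIdeal.comap inB, inferInstance⟩, ⟨hP'.symm⟩, (show _ = _ from rfl)⟩
  choose S hS using fun x : B ⊗[V] L => TensorProduct.exists_finset x
  have hsep : ∀ P' : PrimeSpectrum (B ⊗[V] L), ∃ x : B ⊗[V] L, P'.asIdeal = P ∨ ¬ (x ∈ P ↔ x ∈ P'.asIdeal) :=
    fun P' => by
      by_cases h : P'.asIdeal = P
      · exact ⟨0, Or.inl h⟩
      · by_contra hc
        push_neg at hc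
        exact h (Ideal.ext fun x => ((hc x).2).symm)
  choose sep hsep using hsep
  let s : Finset B := hfin.toFinset.biUnion fun P' => (S (sep P')).image Prod.fst
  obtain ⟨E0, _, _, _, _, _, _, hrange⟩ := exists_stage Rl B hB s
  letI : Algebra V E0 := ((algebraMap Rl E0).comp (algebraMap V Rl)).toAlgebra
  haveI : IsScalarTower V Rl E0 := IsScalarTower.of_algebraMap_eq fun _ => rfl
  haveI : IsScalarTower V E0 B := IsScalarTower.of_algebraMap_eq fun v => by
    rw [IsScalarTower.algebraMap_apply V Rl B, IsScalarTower.algebraMap_apply V Rl E0,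
      ← IsScalarTower.algebraMap_apply Rl E0 B]
  haveI : Algebra.EssFiniteType V E0 := Algebra.EssFiniteType.comp V Rl E0
  let E := E0 ⊗[V] L
  let C := B ⊗[V] L
  let φ : E →ₐ[V] C := Algebra.TensorProduct.map (IsScalarTower.toAlgHom V E0 B) (AlgHom.id V L)
  letI : Algebra E C := φ.toRingHom.toAlgebra
  haveI : IsNoetherianRing E := by
    haveI : IsNoetherianRing (L ⊗[V] E0) := Algebra.EssFiniteType.isNoetherianRing L _
    exact isNoetherianRing_of_ringEquiv _ (Algebra.TensorProduct.comm V L E0).toRingEquiv
  haveI : IsScalarTower E0 E C := IsScalarTower.of_algebraMap_eq fun e => by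
    show algebraMap E0 C e = φ (algebraMap E0 E e)
    rw [Algebra.TensorProduct.algebraMap_apply, Algebra.TensorProduct.algebraMap_apply, Algebra.algebraMap_self,
      RingHom.id_apply, Algebra.TensorProduct.map_tmul, IsScalarTower.coe_toAlgHom', AlgHom.id_apply]
  haveI hpo : Algebra.IsPushout E0 B E C := Algebra.IsPushout.tensorProduct_tensorProduct V L E0 B
    (RingHom.ext fun l => by
      show φ ((1 : E0) ⊗ₜ l) = (1 : B) ⊗ₜ l
      simp only [φ]
      rw [Algebra.TensorProduct.map_tmul, map_one]; rfl)
  haveI : Algebra.IsPushout E0 E B C := hpo.symm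
  haveI : Algebra.WeaklyEtale E C :=
    HenselLib.weaklyEtale_of_equiv (Algebra.IsPushout.equiv E0 E B C)
  let PE : Ideal E := P.comap φ.toRingHom
  have huniq : ∀ P' : Ideal C, P'.IsPrime → P'.comap φ.toRingHom = PE → P' = P := by
    intro P' hP' h
    haveI := hP'
    have hmem : (⟨P', hP'⟩ : PrimeSpectrum (B ⊗[V] L)) ∈ Sig := by
      show ((P'.comap inB).comap (algebraMap Rl B)) = (P.comap inB).comap (algebraMap Rl B)
      have hfac : inB.comp (algebraMap Rl B) = φ.toRingHom.comp
          ((Algebra.TensorProduct.includeLeftRingHom : E0 →+* E).comp (algebraMap Rl E0)) :=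
        RingHom.ext fun r => by
          show (algebraMap Rl B r) ⊗ₜ[V] (1 : L) = φ (algebraMap Rl E0 r ⊗ₜ 1)
          simp only [φ]
          rw [Algebra.TensorProduct.map_tmul, map_one, IsScalarTower.algebraMap_apply Rl E0 B]; rfl
      rw [Ideal.comap_comap, Ideal.comap_comap, hfac, ← Ideal.comap_comap, h]
      rfl
    rcases hsep ⟨P', hP'⟩ with heq | hne
    · exact heq
    · exfalso
      refine hne ?_
      set x := sep ⟨P', hP'⟩ with hx
      have hxr : x ∈ φ.range := by
        rw [hS x]
        refine Subalgebra.sum_mem _ fun i hi => ?_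
        obtain ⟨e, he⟩ := hrange (Finset.mem_coe.2 (Finset.mem_biUnion.2
          ⟨⟨P', hP'⟩, hfin.mem_toFinset.2 hmem, Finset.mem_image_of_mem Prod.fst (hx ▸ hi)⟩))
        exact ⟨e ⊗ₜ i.2, by
          simp only [φ]
          show Algebra.TensorProduct.map _ _ (e ⊗ₜ[V] i.2) = _
          rw [Algebra.TensorProduct.map_tmul, IsScalarTower.coe_toAlgHom', he]; rfl⟩
      obtain ⟨e, he⟩ := hxr
      rw [← he]
      exact (SetLike.ext_iff.1 h e).symm
  have hmap : PE.map φ.toRingHom = P := by
    haveI : PE.IsPrime := Ideal.comap_isPrime _ _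
    haveI : IsReduced (C ⧸ PE.map (algebraMap E C)) := by
      haveI : Algebra.WeaklyEtale (E ⧸ PE) ((E ⧸ PE) ⊗[E] C) := inferInstance
      haveI : IsReduced ((E ⧸ PE) ⊗[E] C) := HenselLib.WEt.isReduced_of_weaklyEtale (A := E ⧸ PE) (B := (E ⧸ PE) ⊗[E] C)
      let e := ((Algebra.TensorProduct.quotIdealMapEquivTensorQuot C PE).toRingEquiv).trans
        (Algebra.TensorProduct.comm E C (E ⧸ PE)).toRingEquiv
      exact isReduced_of_injective e.toRingHom e.injective
    have hle : PE.map (algebraMap E C) ≤ P := Ideal.map_comap_le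
    refine le_antisymm hle ?_
    show P ≤ PE.map (algebraMap E C)
    rw [← ((Ideal.isRadical_iff_quotient_reduced (PE.map (algebraMap E C))).2 inferInstance).radical,
      ← Ideal.sInf_minimalPrimes]
    refine le_sInf fun P' hP' => ?_
    haveI : P'.IsPrime := hP'.1.1
    have hge : PE ≤ P'.comap (algebraMap E C) := Ideal.map_le_iff_le_comap.1 hP'.1.2
    haveI : P'.LiesOver (P'.comap (algebraMap E C)) := ⟨rfl⟩
    obtain ⟨P'', hP'', hP''p, hP''o⟩ := Ideal.exists_ideal_le_liesOver_of_le P' hge
    exact (huniq P'' hP''p hP''o.over.symm).ge.trans hP''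
  rw [← hmap]
  exact Ideal.FG.map (IsNoetherian.noetherian PE) φ.toRingHom

end Groth.Agent.CAlgH.MilnorFibre
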