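import Mathlib
import Groth.Prelude.Def_Found
import Groth.Agent.CAlgH.NagataComplete
import Groth.Agent.CAlgH.NagataFiniteType

/-! `R` N-2 implies `R[[X]]` N-2. -/
universe u
open CAlg

namespace Groth.Agent.CAlgH

theorem mem_of_almostIntegral {R K : Type u} [CommRing R] [IsDomain R] [IsNoetherianRing R] [IsIntegrallyClosed R]
    [Field K] [Algebra R K] [IsFractionRing R K] (c d : K) (hd : d ≠ 0)
    (h : ∀ n : ℕ, d * c ^ n ∈ (algebraMap R K).range) : c ∈ (algebraMap R K).range := by
  let N : Submodule R K := Submodule.span R (Set.range fun n : ℕ => c ^ n)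
  have hN : N.map (LinearMap.mulLeft R d) ≤ Subalgebra.toSubmodule (⊥ : Subalgebra R K) := by
    rw [Submodule.map_span, Submodule.span_le]
    rintro _ ⟨_, ⟨n, rfl⟩, rfl⟩
    obtain ⟨r, hr⟩ := h n
    exact Algebra.mem_bot.mpr ⟨r, hr⟩
  have hfg : N.FG := by
    apply Submodule.fg_of_fg_map_injective (LinearMap.mulLeft R d) (mul_right_injective₀ hd)
    haveI := isNoetherian_of_fg_of_noetherian _ (Subalgebra.fg_bot_toSubmodule (R := R) (A := K))
    exact Submodule.FG.of_le (Subalgebra.fg_bot_toSubmodule (R := R) (A := K)) hN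
  have h1 : (1 : K) ∈ N := Submodule.subset_span ⟨0, pow_zero c⟩
  have hc : IsIntegral R c := by
    refine isIntegral_of_smul_mem_submodule (M := K) N ?_ hfg c fun z hz => ?_
    · intro h
      exact one_ne_zero (h ▸ h1 : (1 : K) ∈ (⊥ : Submodule R K))
    · induction hz using Submodule.span_induction with
      | mem z hz => obtain ⟨n, rfl⟩ := hz; exact Submodule.subset_span ⟨n + 1, pow_succ' c n⟩
      | zero => simp
      | add a b _ _ ha hb => rw [smul_add]; exact N.add_mem ha hb
      | smul r a _ ha => rw [smul_comm]; exact N.smul_mem r ha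
  obtain ⟨r, hr⟩ := IsIntegrallyClosed.isIntegral_iff.mp hc
  exact ⟨r, hr⟩

theorem coeff_order_map_mul {R K : Type u} [CommRing R] [CommRing K] (ψ : R →+* K) (d : PowerSeries R) (w : PowerSeries K) :
    PowerSeries.coeff d.order.toNat (PowerSeries.map ψ d * w) =
      ψ (PowerSeries.coeff d.order.toNat d) * PowerSeries.constantCoeff w := by
  rw [PowerSeries.coeff_mul, Finset.sum_eq_single (d.order.toNat, 0)]
  · rw [PowerSeries.coeff_map, PowerSeries.coeff_zero_eq_constantCoeff_apply]
  · rintro ⟨i, j⟩ hij hne
    rw [Finset.HasAntidiagonal.mem_antidiagonal] at hij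
    have hlt : i < d.order.toNat := by
      rcases Nat.eq_zero_or_pos j with rfl | hj
      · simp only [add_zero] at hij; exact absurd (by rw [hij]) hne
      · simp only at hij; omega
    rw [PowerSeries.coeff_map, PowerSeries.coeff_of_lt_order i, map_zero, zero_mul]
    exact lt_of_lt_of_le (by exact_mod_cast hlt) (ENat.coe_toNat_le_self _)
  · intro h; exact absurd (Finset.HasAntidiagonal.mem_antidiagonal.mpr (add_zero _)) h

theorem exists_pow_denominator {A F : Type u} [CommRing A] [IsDomain A] [Field F] [Algebra A F] [IsFractionRing A F] {z : F}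
    (hz : IsIntegral A z) : ∃ D : A, D ≠ 0 ∧ ∀ n : ℕ, ∃ e : A, algebraMap A F D * z ^ n = algebraMap A F e := by
  classical
  obtain ⟨G, hG⟩ := hz.fg_adjoin_singleton
  obtain ⟨⟨D, hD⟩, hDG⟩ := IsLocalization.exist_integer_multiples_of_finset (nonZeroDivisors A) G
  refine ⟨D, nonZeroDivisors.ne_zero hD, fun n => ?_⟩
  have h0 : z ^ n ∈ Algebra.adjoin A ({z} : Set F) := pow_mem (Algebra.subset_adjoin (Set.mem_singleton z)) n
  have h1 : z ^ n ∈ Submodule.span A (G : Set F) := by rw [hG]; exact h0
  obtain ⟨w, hw⟩ : ∃ w, z ^ n = w := ⟨_, rfl⟩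
  rw [hw] at h1 ⊢
  clear hw
  induction h1 using Submodule.span_induction with
  | mem y hy =>
    obtain ⟨e, he⟩ := hDG y hy
    exact ⟨e, by rw [he, Algebra.smul_def]⟩
  | zero => exact ⟨0, by simp⟩
  | add u v _ _ hu hv =>
    obtain ⟨e, he⟩ := hu; obtain ⟨f, hf⟩ := hv
    exact ⟨e + f, by rw [map_add, mul_add, he, hf]⟩
  | smul r u _ hu =>
    obtain ⟨e, he⟩ := hu
    exact ⟨r * e, by rw [map_mul, Algebra.smul_def, mul_left_comm, he]⟩

theorem isIntegrallyClosed_of_almostIntegral {A B : Type u} [CommRing A] [IsDomain A] [CommRing B] [IsDomain B]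
    [IsIntegrallyClosed B] (φ : A →+* B) (hφ : Function.Injective φ)
    (h : ∀ (w : B) (d : A), d ≠ 0 → (∀ n : ℕ, φ d * w ^ n ∈ φ.range) → w ∈ φ.range) : IsIntegrallyClosed A := by
  let F := FractionRing A
  let G := FractionRing B
  have hg : Function.Injective ((algebraMap B G).comp φ) := (IsFractionRing.injective B G).comp hφ
  let ψ : F →+* G := IsFractionRing.lift hg
  have hψ : ∀ t, ψ (algebraMap A F t) = algebraMap B G (φ t) := fun t => IsFractionRing.lift_algebraMap hg t
  rw [isIntegrallyClosed_iff F]
  intro z hz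
  obtain ⟨D, hD, hbd⟩ := exists_pow_denominator hz
  have hw : IsIntegral B (ψ z) := by
    obtain ⟨P, hP, hP0⟩ := hz
    refine ⟨P.map φ, hP.map φ, ?_⟩
    have h1 := congrArg ψ hP0
    rw [Polynomial.hom_eval₂, map_zero] at h1
    rw [Polynomial.eval₂_map, ← RingHom.ext (f := ψ.comp (algebraMap A F)) (g := (algebraMap B G).comp φ) hψ]
    exact h1
  obtain ⟨w, hw⟩ := IsIntegrallyClosed.isIntegral_iff.mp hw
  obtain ⟨a, ha⟩ := h w D hD fun n => by
    obtain ⟨e, he⟩ := hbd n
    refine ⟨e, IsFractionRing.injective B G ?_⟩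
    rw [map_mul, map_pow, hw, ← hψ, ← hψ, ← map_pow, ← map_mul, he]
  exact ⟨a, ψ.injective (by rw [hψ, ha, hw])⟩

theorem isIntegrallyClosed_powerSeries (R : Type u) [CommRing R] [IsDomain R] [IsNoetherianRing R] [IsIntegrallyClosed R] :
    IsIntegrallyClosed (PowerSeries R) := by
  classical
  let K := FractionRing R
  let A := PowerSeries R
  let B := PowerSeries K
  let φ : A →+* B := PowerSeries.map (algebraMap R K)
  have hφ : Function.Injective φ := PowerSeries.map_injective _ (IsFractionRing.injective R K)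
  -- almost integral elements of `B` lie in `A`
  have key : ∀ (k : ℕ) (z : B) (d : A), d ≠ 0 → (∀ n : ℕ, φ d * z ^ n ∈ φ.range) → PowerSeries.coeff k z ∈ (algebraMap R K).range := by
    have lead : ∀ (z : B) (d : A), d ≠ 0 → (∀ n : ℕ, φ d * z ^ n ∈ φ.range) →
        PowerSeries.coeff 0 z ∈ (algebraMap R K).range := by
      intro z d hd h
      refine mem_of_almostIntegral _ (algebraMap R K (PowerSeries.coeff d.order.toNat d))
        ((map_ne_zero_iff _ (IsFractionRing.injective R K)).mpr (PowerSeries.coeff_order hd)) fun n => ?_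
      obtain ⟨f, hf⟩ := h n
      refine ⟨PowerSeries.coeff d.order.toNat f, ?_⟩
      have h1 := congrArg (PowerSeries.coeff d.order.toNat) hf
      rw [PowerSeries.coeff_map, coeff_order_map_mul (algebraMap R K) d, map_pow] at h1
      rwa [PowerSeries.coeff_zero_eq_constantCoeff_apply]
    intro k
    induction k with
    | zero => exact lead
    | succ k ih =>
      intro z d hd h
      obtain ⟨r, hr⟩ := lead z d hd h
      let z' : B := PowerSeries.mk fun i => PowerSeries.coeff (i + 1) z
      have hz : z = PowerSeries.X * z' + φ (PowerSeries.C r) := by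
        conv_lhs => rw [PowerSeries.eq_X_mul_shift_add_const z]
        rw [PowerSeries.map_C, hr, PowerSeries.coeff_zero_eq_constantCoeff_apply]
      have := ih z' d hd fun n => by
        have h2 : φ d * (z - φ (PowerSeries.C r)) ^ n ∈ φ.range := by
          rw [sub_eq_add_neg, add_pow, Finset.mul_sum]
          refine Subring.sum_mem _ fun i _ => ?_
          rw [show φ d * (z ^ i * (-φ (PowerSeries.C r)) ^ (n - i) * (n.choose i : B)) =
            (φ d * z ^ i) * ((-φ (PowerSeries.C r)) ^ (n - i) * (n.choose i : B)) by ring]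
          exact Subring.mul_mem _ (h i) (Subring.mul_mem _ (Subring.pow_mem _ (Subring.neg_mem _ (RingHom.mem_range.mpr ⟨_, rfl⟩)) _) (natCast_mem _ _))
        rw [hz, add_sub_cancel_right, mul_pow, mul_left_comm] at h2
        obtain ⟨f, hf⟩ := h2
        refine ⟨PowerSeries.mk fun i => PowerSeries.coeff (i + n) f, ?_⟩
        ext i
        have := congrArg (PowerSeries.coeff (i + n)) hf
        rw [PowerSeries.coeff_map, PowerSeries.coeff_X_pow_mul] at this
        rw [PowerSeries.coeff_map, PowerSeries.coeff_mk, this]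
      rwa [PowerSeries.coeff_mk] at this
  refine isIntegrallyClosed_of_almostIntegral φ hφ fun w d hd h => ?_
  choose c hc using fun k => key k w d hd h
  refine ⟨PowerSeries.mk c, ?_⟩
  ext k
  rw [PowerSeries.coeff_map, PowerSeries.coeff_mk, hc]

theorem isN2_powerSeries_of_normal (A : Type u) [CommRing A] [IsDomain A] [IsNoetherianRing A] [IsIntegrallyClosed A]
    (h : IsN2 A) : IsN2 (PowerSeries A) := by
  have := isIntegrallyClosed_powerSeries A
  have hker : RingHom.ker (PowerSeries.constantCoeff (R := A)) = Ideal.span {PowerSeries.X} := by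
    ext f; rw [RingHom.mem_ker, Ideal.mem_span_singleton, PowerSeries.X_dvd_iff]
  have : (Ideal.span {(PowerSeries.X : PowerSeries A)}).IsPrime := hker ▸ RingHom.ker_isPrime _
  let e : PowerSeries A ⧸ Ideal.span {(PowerSeries.X : PowerSeries A)} ≃+* A :=
    (Ideal.quotEquivOfEq hker.symm).trans (RingHom.quotientKerEquivOfSurjective PowerSeries.constantCoeff_surj)
  have hc : IsAdicComplete (Ideal.span {(PowerSeries.X : PowerSeries A)}) (PowerSeries A) := by
    have := isAdicComplete_mvPowerSeries Unit A
    rwa [Set.range_unique] at this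
  exact isN2_of_complete_of_quotient (PowerSeries A) PowerSeries.X (isN2_of_ringEquiv e.symm h)

theorem isN2_powerSeries_of_isN2 (R : Type u) [CommRing R] [IsDomain R] [IsNoetherianRing R] (h : IsN2 R) :
    IsN2 (PowerSeries R) := by
  classical
  let K := FractionRing R
  let C := integralClosure R K
  haveI : Module.Finite R C := isN2_apply h K K
  haveI : IsNoetherianRing C := IsNoetherianRing.of_finite R C
  haveI : IsIntegrallyClosed C := integralClosure.isIntegrallyClosedOfFiniteExtension K
  have hRC : Function.Injective (algebraMap R C) := fun a b hab =>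
    IsFractionRing.injective R K (congrArg Subtype.val hab)
  have hC2 : IsN2 C := isN2_of_finite_injective (algebraMap R C) hRC (RingHom.finite_algebraMap.mpr inferInstance) h
  have hC := isN2_powerSeries_of_normal C hC2
  letI : Algebra (PowerSeries R) (PowerSeries C) := (PowerSeries.map (algebraMap R C)).toAlgebra
  obtain ⟨G, hG⟩ := (inferInstance : Module.Finite R C).fg_top
  have hcomb : ∀ c : C, ∃ f : G → R, ∑ g : G, f g • (g : C) = c := fun c => by
    have hc : c ∈ Submodule.span R (Set.range fun g : G => (g : C)) := by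
      rw [show Set.range (fun g : G => (g : C)) = (G : Set C) from Subtype.range_coe, hG]; trivial
    exact (Submodule.mem_span_range_iff_exists_fun R).mp hc
  choose co hco using hcomb
  haveI : Module.Finite (PowerSeries R) (PowerSeries C) := by
    refine ⟨⟨G.image PowerSeries.C, eq_top_iff.mpr fun f _ => ?_⟩⟩
    have : f = ∑ g : G, PowerSeries.mk (fun n => co (PowerSeries.coeff n f) g) • PowerSeries.C (g : C) := by
      refine PowerSeries.ext fun n => ?_
      rw [map_sum]
      conv_lhs => rw [← hco (PowerSeries.coeff n f)]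
      refine Finset.sum_congr rfl fun g _ => ?_
      rw [Algebra.smul_def, Algebra.smul_def]
      show _ = PowerSeries.coeff n (PowerSeries.map (algebraMap R C) (PowerSeries.mk fun n => co (PowerSeries.coeff n f) g) * PowerSeries.C (g : C))
      rw [PowerSeries.coeff_mul_C, PowerSeries.coeff_map, PowerSeries.coeff_mk]
    rw [this]
    exact Submodule.sum_mem _ fun g _ => Submodule.smul_mem _ _ (Submodule.subset_span (Finset.mem_image_of_mem _ g.2))
  haveI : IsNoetherianRing (PowerSeries R) := inferInstance
  obtain ⟨F, _, _, _⟩ : ∃ (F : Type u) (_ : Field F) (_ : Algebra (PowerSeries C) F), IsFractionRing (PowerSeries C) F :=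
    ⟨FractionRing (PowerSeries C), inferInstance, inferInstance, inferInstance⟩
  letI : Algebra (PowerSeries R) F := ((algebraMap (PowerSeries C) F).comp (PowerSeries.map (algebraMap R C))).toAlgebra
  haveI : IsScalarTower (PowerSeries R) (PowerSeries C) F := IsScalarTower.of_algebraMap_eq fun _ => rfl
  have hinj : Function.Injective (algebraMap (PowerSeries R) F) :=
    (IsFractionRing.injective (PowerSeries C) F).comp (PowerSeries.map_injective _ hRC)
  haveI : FaithfulSMul (PowerSeries R) F := (faithfulSMul_iff_algebraMap_injective _ _).mpr hinj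
  obtain ⟨⟨d, hd⟩, hdG⟩ := IsLocalization.exist_integer_multiples_of_finset (nonZeroDivisors R) (G.image fun g : C => (g : K))
  have hd0 : d ≠ 0 := nonZeroDivisors.ne_zero hd
  have hdC : ∀ c : C, ∃ r : R, algebraMap R C r = d • c := by
    intro c
    have hc : c ∈ Submodule.span R (G : Set C) := hG ▸ Submodule.mem_top
    induction hc using Submodule.span_induction with
    | mem g hg =>
      obtain ⟨r, hr⟩ := hdG _ (Finset.mem_image_of_mem _ hg)
      exact ⟨r, Subtype.ext hr⟩
    | zero => exact ⟨0, by simp⟩
    | add a b _ _ ha hb =>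
      obtain ⟨r, hr⟩ := ha; obtain ⟨s, hs⟩ := hb
      exact ⟨r + s, by rw [map_add, hr, hs, smul_add]⟩
    | smul t a _ ha =>
      obtain ⟨r, hr⟩ := ha
      exact ⟨t * r, by rw [map_mul, hr, smul_comm, ← Algebra.smul_def]⟩
  choose dc hdc using hdC
  haveI : IsFractionRing (PowerSeries R) F := by
    refine IsFractionRing.of_field _ _ fun z => ?_
    obtain ⟨a, b, hb, rfl⟩ := IsFractionRing.div_surjective (PowerSeries C) z
    have hmap : ∀ a : PowerSeries C, algebraMap (PowerSeries R) F (PowerSeries.mk fun n => dc (PowerSeries.coeff n a)) =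
        algebraMap (PowerSeries C) F (PowerSeries.C (algebraMap R C d)) * algebraMap (PowerSeries C) F a := fun a => by
      rw [← map_mul, RingHom.algebraMap_toAlgebra, RingHom.comp_apply]
      congr 1
      ext n
      rw [PowerSeries.coeff_map, PowerSeries.coeff_mk, PowerSeries.coeff_C_mul, hdc, Algebra.smul_def]
    refine ⟨PowerSeries.mk fun n => dc (PowerSeries.coeff n a), PowerSeries.mk fun n => dc (PowerSeries.coeff n b), ?_⟩
    rw [hmap, hmap, mul_div_mul_left]
    refine (map_ne_zero_iff _ (IsFractionRing.injective _ F)).mpr fun h0 => hd0 (hRC ?_)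
    rw [map_zero]
    simpa using congrArg (PowerSeries.coeff 0) h0
  refine isN2_of F fun L _ _ _ _ _ => ?_
  letI : Algebra (PowerSeries C) L := ((algebraMap F L).comp (algebraMap (PowerSeries C) F)).toAlgebra
  haveI : IsScalarTower (PowerSeries C) F L := IsScalarTower.of_algebraMap_eq fun _ => rfl
  haveI : IsScalarTower (PowerSeries R) (PowerSeries C) L := IsScalarTower.of_algebraMap_eq fun t =>
    IsScalarTower.algebraMap_apply (PowerSeries R) F L t
  exact fin_ic_of_finite_base (B := PowerSeries C) (isN2_apply hC F L)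

theorem isN2_mvPowerSeries_of_normal (A : Type u) [CommRing A] [IsDomain A] [IsNoetherianRing A] [IsIntegrallyClosed A]
    (h : IsN2 A) : ∀ n : ℕ, ∃ _ : IsDomain (MvPowerSeries (Fin n) A), IsIntegrallyClosed (MvPowerSeries (Fin n) A) ∧
      IsNoetherianRing (MvPowerSeries (Fin n) A) ∧ IsN2 (MvPowerSeries (Fin n) A) := by
  intro n
  haveI := isDomain_mvPowerSeries_fin n A
  induction n with
  | zero =>
    let e := (MvPowerSeries.isEmptyEquiv (Fin 0) A).toRingEquiv.symm
    exact ⟨inferInstance, IsIntegrallyClosed.of_equiv e, isNoetherianRing_of_ringEquiv A e, isN2_of_ringEquiv e h⟩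
  | succ n ih =>
    haveI := isDomain_mvPowerSeries_fin n A
    obtain ⟨_, _, _, h2⟩ := ih inferInstance
    have := isIntegrallyClosed_powerSeries (MvPowerSeries (Fin n) A)
    let e : PowerSeries (MvPowerSeries (Fin n) A) ≃+* MvPowerSeries (Fin (n + 1)) A :=
      (MvPowerSeries.finSuccEquiv A n).toRingEquiv.symm
    exact ⟨inferInstance, IsIntegrallyClosed.of_equiv e, isNoetherianRing_of_ringEquiv _ e,
      isN2_of_ringEquiv e (isN2_powerSeries_of_normal _ h2)⟩

end Groth.Agent.CAlgH
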