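import Mathlib
import Groth.Agent.CAlgH.PowerSeriesComplete
import Groth.Agent.CAlgH.AdicSmoothModel
import Groth.Agent.CAlgH.AdicSmoothFlatness

/-! Substituting a regular system of parameters is bijective. -/
universe u
open IsLocalRing

namespace Groth.Agent.CAlgH

theorem bijective_ringEndo_of_map_maximalIdeal {R : Type u} [CommRing R] [IsLocalRing R] [IsNoetherianRing R]
    [hc : IsAdicComplete (maximalIdeal R) R] (φ : R →+* R) (hm : (maximalIdeal R).map φ = maximalIdeal R)
    (hres : ∀ x : R, ∃ y, x - φ y ∈ maximalIdeal R) : Function.Bijective φ := by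
  have hs : Function.Surjective φ := by
    haveI : IsHausdorff ((maximalIdeal R).map φ) R := by rw [hm]; exact hc.toIsHausdorff
    haveI : IsPrecomplete (maximalIdeal R) R := hc.toIsPrecomplete
    refine surjective_of_mk_map_comp_surjective (I := maximalIdeal R) φ fun z => ?_
    obtain ⟨x, rfl⟩ := Ideal.Quotient.mk_surjective z
    obtain ⟨y, hy⟩ := hres x
    refine ⟨y, (Ideal.Quotient.eq.mpr ?_).symm⟩
    rw [hm]
    exact hy
  exact ⟨AdicSmooth.injective_of_surjective_ringEndo φ hs, hs⟩

theorem subst_bijective_aux {Λ : Type u} [CommRing Λ] {n : ℕ} [IsLocalRing (MvPowerSeries (Fin n) Λ)]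
    [IsNoetherianRing (MvPowerSeries (Fin n) Λ)]
    [IsAdicComplete (maximalIdeal (MvPowerSeries (Fin n) Λ)) (MvPowerSeries (Fin n) Λ)]
    (c : Set Λ) (y : Fin n → MvPowerSeries (Fin n) Λ) (hy0 : ∀ i, MvPowerSeries.constantCoeff (y i) = 0)
    (hX : Ideal.span ((fun a => MvPowerSeries.C a) '' c ∪ Set.range MvPowerSeries.X) = maximalIdeal (MvPowerSeries (Fin n) Λ))
    (hy : Ideal.span ((fun a => MvPowerSeries.C a) '' c ∪ Set.range y) = maximalIdeal (MvPowerSeries (Fin n) Λ)) :
    Function.Bijective (MvPowerSeries.subst y : MvPowerSeries (Fin n) Λ → MvPowerSeries (Fin n) Λ) := by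
  have hs := MvPowerSeries.hasSubst_of_constantCoeff_zero hy0
  let φ := MvPowerSeries.substAlgHom (R := Λ) hs
  have hφ : ∀ f, φ f = MvPowerSeries.subst y f := fun f => MvPowerSeries.substAlgHom_apply hs f
  have hC : ∀ a, φ (MvPowerSeries.C a) = MvPowerSeries.C a := fun a => φ.commutes a
  have h := bijective_ringEndo_of_map_maximalIdeal φ.toRingHom (by
    conv_lhs => rw [← hX]
    rw [Ideal.map_span, Set.image_union, ← hy]
    congr 2
    · rw [Set.image_image]
      exact Set.image_congr fun a _ => hC a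
    · rw [← Set.range_comp]
      exact congrArg Set.range (funext fun i => MvPowerSeries.substAlgHom_X hs i))
    (fun x => ⟨MvPowerSeries.C (MvPowerSeries.constantCoeff x), by
      show x - φ (MvPowerSeries.C _) ∈ _
      rw [hC, ← hX]
      refine Ideal.span_mono Set.subset_union_right ?_
      rw [← AdicSmooth.ker_constantCoeff, RingHom.mem_ker, map_sub, MvPowerSeries.constantCoeff_C, sub_self]⟩)
  have he : (MvPowerSeries.subst y : MvPowerSeries (Fin n) Λ → MvPowerSeries (Fin n) Λ) = φ := funext fun f => (hφ f).symm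
  rw [he]
  exact h

end Groth.Agent.CAlgH
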