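import Mathlib
import Groth.Agent.CAlgH.SubstBijective
import Groth.Agent.CAlgH.NagataPowerSeries

/-!
# The theorem of Ramanujam and Samuel for power series rings
-/

universe u
open IsLocalRing

namespace Groth.Agent.CAlgH.RS

theorem finSuccEquiv_rename_succ {R : Type u} [CommRing R] {n : ℕ} (g : MvPowerSeries (Fin n) R) :
    MvPowerSeries.finSuccEquiv R n (MvPowerSeries.rename Fin.succ g) = PowerSeries.C g := by
  ext k x
  rw [MvPowerSeries.coeff_coeff_finSuccEquiv, PowerSeries.coeff_C]
  split_ifs with hk
  · subst hk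
    have h : x.cons 0 = x.embDomain (Fin.succEmb n) := by
      ext i
      cases i using Fin.cases with
      | zero =>
        rw [Finsupp.cons_zero, Finsupp.embDomain_notin_range]
        rintro ⟨j, hj⟩
        exact Fin.succ_ne_zero j hj
      | succ i => rw [Finsupp.cons_succ]; exact (Finsupp.embDomain_apply_self (Fin.succEmb n) x i).symm
    rw [h]
    exact MvPowerSeries.coeff_embDomain_rename (Fin.succEmb n) g x
  · rw [map_zero]
    refine MvPowerSeries.coeff_rename_eq_zero _ g ?_
    rintro ⟨y, hy⟩
    refine hk ?_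
    have := DFunLike.congr_fun hy (0 : Fin (n + 1))
    rw [Finsupp.cons_zero, Finsupp.mapDomain_notin_range _ _ (fun ⟨j, hj⟩ => Fin.succ_ne_zero j hj)] at this
    exact this.symm

/-- A nonzero power series does not vanish on some monomial curve, of exponent one in the last variable. -/
theorem exists_curve (k : Type u) [Field k] : ∀ (n : ℕ) (f : MvPowerSeries (Fin (n + 1)) k), f ≠ 0 →
    ∃ e : Fin (n + 1) → ℕ, (∀ i, 0 < e i) ∧ e (Fin.last n) = 1 ∧
      MvPowerSeries.subst (fun i => (PowerSeries.X : PowerSeries k) ^ e i) f ≠ 0 := by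
  intro n
  induction n with
  | zero =>
    intro f hf
    refine ⟨fun _ => 1, fun _ => one_pos, rfl, ?_⟩
    let e : Fin 1 ↪ Unit := ⟨fun _ => (), fun a b _ => Subsingleton.elim a b⟩
    have h := MvPowerSeries.rename_eq_subst (f := e) (p := f)
    intro h0
    refine hf (MvPowerSeries.rename_injective e ?_)
    rw [map_zero, h, ← h0]
    exact congrArg (MvPowerSeries.subst · f) (funext fun i => (pow_one _).symm)
  | succ n ih =>
    intro f hf
    let E := MvPowerSeries.finSuccEquiv k (n + 1)
    have hF : E f ≠ 0 := fun h => hf (E.injective (h.trans (map_zero E).symm))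
    set G := PowerSeries.divXPowOrder (E f) with hG
    have hg0 : PowerSeries.constantCoeff G ≠ 0 := fun h => hF (PowerSeries.constantCoeff_divXPowOrder_eq_zero_iff.1 h)
    set g0 := PowerSeries.constantCoeff G with hg0def
    obtain ⟨e', he', hlast, hne⟩ := ih g0 hg0
    set φ' : PowerSeries k := MvPowerSeries.subst (fun i => (PowerSeries.X : PowerSeries k) ^ e' i) g0 with hφ'
    let d := φ'.order.toNat
    let e : Fin (n + 2) → ℕ := Fin.cons (d + 1) e'
    have he : ∀ i, 0 < e i := fun i => by cases i using Fin.cases <;> simp [e, he']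
    have hs : MvPowerSeries.HasSubst (fun i => (PowerSeries.X : PowerSeries k) ^ e i) :=
      MvPowerSeries.hasSubst_of_constantCoeff_zero fun i => by
        show PowerSeries.constantCoeff _ = 0
        rw [map_pow, PowerSeries.constantCoeff_X, zero_pow (he i).ne']
    refine ⟨e, he, by rw [← Fin.succ_last]; exact hlast, fun h0 => ?_⟩
    let ψ : PowerSeries (MvPowerSeries (Fin (n + 1)) k) →+* PowerSeries k :=
      ((MvPowerSeries.substAlgHom (R := k) hs).toRingHom).comp E.symm.toAlgHom.toRingHom
    have hψX : ψ PowerSeries.X = PowerSeries.X ^ (d + 1) := by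
      show MvPowerSeries.substAlgHom (R := k) hs (E.symm PowerSeries.X) = _
      rw [← MvPowerSeries.finSuccEquiv_X_zero, AlgEquiv.symm_apply_apply, MvPowerSeries.substAlgHom_X hs]
      rfl
    have hψC : ∀ g, ψ (PowerSeries.C g) = MvPowerSeries.subst (fun i => (PowerSeries.X : PowerSeries k) ^ e' i) g := by
      intro g
      show MvPowerSeries.substAlgHom (R := k) hs (E.symm (PowerSeries.C g)) = _
      rw [← finSuccEquiv_rename_succ, AlgEquiv.symm_apply_apply, MvPowerSeries.rename_eq_subst,
        MvPowerSeries.substAlgHom_apply, MvPowerSeries.subst_comp_subst_apply (MvPowerSeries.HasSubst.X_comp Fin.succ) hs]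
      congr 1
      funext i
      rw [Function.comp_apply, MvPowerSeries.subst_X hs]
      rfl
    have hf' : ψ (E f) = 0 := by
      show MvPowerSeries.substAlgHom (R := k) hs (E.symm (E f)) = 0
      rw [AlgEquiv.symm_apply_apply, MvPowerSeries.substAlgHom_apply, h0]
    rw [← PowerSeries.X_pow_order_mul_divXPowOrder (f := E f), map_mul, map_pow, hψX, ← hG] at hf'
    have hG0 : ψ G = 0 := (mul_eq_zero.1 hf').resolve_left (pow_ne_zero _ (pow_ne_zero _ PowerSeries.X_ne_zero))
    rw [PowerSeries.eq_X_mul_shift_add_const G, map_add, map_mul, hψX, hψC, ← hg0def, ← hφ'] at hG0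
    have h1 := congrArg (PowerSeries.coeff d) hG0
    rw [map_add, map_zero, PowerSeries.coeff_X_pow_mul', if_neg (by omega), zero_add] at h1
    exact PowerSeries.coeff_order hne h1

theorem ker_map_eq {R : Type u} [CommRing R] [IsNoetherianRing R] (p : Ideal R) {f : PowerSeries R}
    (hf : PowerSeries.map (Ideal.Quotient.mk p) f = 0) : f ∈ p.map (PowerSeries.C (R := R)) := by
  obtain ⟨m, g, hg⟩ := Submodule.fg_iff_exists_fin_generating_family.1 (IsNoetherian.noetherian p)
  have hc : ∀ j, ∃ r : Fin m → R, ∑ i, r i • g i = PowerSeries.coeff j f := fun j => by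
    refine Submodule.mem_span_range_iff_exists_fun R |>.1 ?_
    rw [hg]
    have := congrArg (PowerSeries.coeff j) hf
    rw [PowerSeries.coeff_map, map_zero] at this
    exact Ideal.Quotient.eq_zero_iff_mem.1 this
  choose r hr using hc
  have e : f = ∑ i, PowerSeries.C (g i) * PowerSeries.mk fun j => r j i := PowerSeries.ext fun j => by
    rw [map_sum, ← hr j]
    refine Finset.sum_congr rfl fun i _ => ?_
    rw [PowerSeries.coeff_C_mul, PowerSeries.coeff_mk, smul_eq_mul, mul_comm]
  rw [e]
  exact Ideal.sum_mem _ fun i _ => Ideal.mul_mem_right _ _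
    (Ideal.mem_map_of_mem _ (hg ▸ Submodule.subset_span ⟨i, rfl⟩))

section core

variable (R : Type u) [CommRing R] [IsDomain R] [IsNoetherianRing R] [IsLocalRing R] [IsIntegrallyClosed R]
  [IsAdicComplete (maximalIdeal R) R]

/-- A height one prime of `R⟦X⟧` containing a series with nonzero reduction is principal. -/
theorem isPrincipal_of_residue_ne_zero (q : Ideal (PowerSeries R)) [q.IsPrime] (hq : q.height = 1)
    (f : PowerSeries R) (hfq : f ∈ q) (hf : PowerSeries.map (residue R) f ≠ 0) : Submodule.IsPrincipal q := by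
  obtain ⟨P, w, H⟩ := PowerSeries.exists_isWeierstrassFactorization hf
  have hPq : (P : PowerSeries R) ∈ q := by
    rw [H.eq_mul] at hfq
    exact ((‹q.IsPrime›).mem_or_mem hfq).resolve_right fun h =>
      (‹q.IsPrime›).ne_top (Ideal.eq_top_of_isUnit_mem _ h H.isUnit)
  have hmonic := H.isDistinguishedAt.monic
  -- `q` meets `R` in zero
  have hbot : q.comap (PowerSeries.C (R := R)) = ⊥ := by
    set p := q.comap (PowerSeries.C (R := R)) with hp
    haveI : p.IsPrime := Ideal.comap_isPrime _ _
    by_contra hne
    obtain ⟨a, hap, ha⟩ := Submodule.exists_mem_ne_zero_of_ne_bot hne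
    set I := RingHom.ker (PowerSeries.map (Ideal.Quotient.mk p)) with hI
    haveI : I.IsPrime := RingHom.ker_isPrime _
    have hle : I ≤ q := fun x hx => Ideal.map_le_iff_le_comap.2 le_rfl (ker_map_eq p hx)
    have hPI : (P : PowerSeries R) ∉ I := fun h => by
      have := congrArg (PowerSeries.coeff P.natDegree) (RingHom.mem_ker.1 h)
      rw [map_zero, PowerSeries.coeff_map, Polynomial.coeff_coe, hmonic.coeff_natDegree, map_one] at this
      exact one_ne_zero this
    have hI0 : I ≠ ⊥ := fun h => ha (PowerSeries.C_injective (a₁ := a) (a₂ := 0) (by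
      have : PowerSeries.C a ∈ I := by
        rw [hI, RingHom.mem_ker, PowerSeries.map_C, Ideal.Quotient.eq_zero_iff_mem.2 hap, map_zero]
      rw [h, Ideal.mem_bot] at this
      rw [this, map_zero]))
    have hlt : I < q := lt_of_le_of_ne hle fun e => hPI (e ▸ hPq)
    have h2 : I.height + 1 ≤ q.height := Ideal.height_add_one_le_of_lt_of_isPrime hlt
    have h3 : (⊥ : Ideal (PowerSeries R)).height + 1 ≤ I.height :=
      Ideal.height_add_one_le_of_lt_of_isPrime (bot_lt_iff_ne_bot.2 hI0)
    rw [Ideal.height_bot, zero_add] at h3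
    rw [hq] at h2
    exact absurd (le_trans (add_le_add h3 le_rfl) h2) (by decide)
  -- the polynomials in `q`
  let q0 : Ideal (Polynomial R) := q.comap (Polynomial.coeToPowerSeries.ringHom (R := R))
  haveI : q0.IsPrime := Ideal.comap_isPrime _ _
  let K := FractionRing R
  let ι : Polynomial R →+* Polynomial K := Polynomial.mapRingHom (algebraMap R K)
  letI : Algebra (Polynomial R) (Polynomial K) := ι.toAlgebra
  haveI : IsLocalization ((nonZeroDivisors R).map (Polynomial.C : R →+* Polynomial R)) (Polynomial K) :=
    Polynomial.isLocalization _ K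
  have hdisj : Disjoint (((nonZeroDivisors R).map (Polynomial.C : R →+* Polynomial R) : Submonoid (Polynomial R)) :
      Set (Polynomial R)) q0 := by
    refine Set.disjoint_left.2 ?_
    rintro _ ⟨a, ha, rfl⟩ h
    have : a ∈ q.comap (PowerSeries.C (R := R)) := by
      rw [Ideal.mem_comap]
      have h' : ((Polynomial.C a : Polynomial R) : PowerSeries R) ∈ q := h
      rwa [Polynomial.coe_C] at h'
    rw [hbot, Ideal.mem_bot] at this
    exact nonZeroDivisors.ne_zero ha this
  set J := q0.map ι with hJ
  haveI hJp : J.IsPrime := IsLocalization.isPrime_of_isPrime_disjoint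
    ((nonZeroDivisors R).map (Polynomial.C : R →+* Polynomial R)) (Polynomial K) q0 inferInstance hdisj
  have hJc : J.comap ι = q0 := IsLocalization.under_map_of_isPrime_disjoint
    ((nonZeroDivisors R).map (Polynomial.C : R →+* Polynomial R)) (Polynomial K) inferInstance hdisj
  obtain ⟨g', hg'⟩ := (IsPrincipalIdealRing.principal J).principal
  have hPJ : ι P ∈ J := Ideal.mem_map_of_mem _ hPq
  have hdvd : g' ∣ P.map (algebraMap R K) := by
    rw [show J = Ideal.span {g'} from hg'] at hPJ
    exact Ideal.mem_span_singleton.1 hPJ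
  obtain ⟨g, hg⟩ := IsIntegrallyClosed.eq_map_mul_C_of_dvd K hmonic hdvd
  have hg'0 : g' ≠ 0 := fun h => (Polynomial.map_ne_zero_iff (IsFractionRing.injective R K)).2 hmonic.ne_zero
    (zero_dvd_iff.1 (h ▸ hdvd))
  have hu : IsUnit (Polynomial.C g'.leadingCoeff) :=
    (isUnit_iff_ne_zero.2 (Polynomial.leadingCoeff_ne_zero.2 hg'0)).map Polynomial.C
  have hgmonic : g.Monic := by
    have := congrArg Polynomial.leadingCoeff hg
    rw [Polynomial.leadingCoeff_mul, Polynomial.leadingCoeff_C,
      Polynomial.leadingCoeff_map_of_injective (IsFractionRing.injective R K)] at this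
    have h1 : algebraMap R K g.leadingCoeff = 1 :=
      mul_right_cancel₀ (Polynomial.leadingCoeff_ne_zero.2 hg'0) (this.trans (one_mul _).symm)
    exact IsFractionRing.injective R K (h1.trans (map_one _).symm)
  have hJg : J = Ideal.span {g.map (algebraMap R K)} := by
    rw [show J = Ideal.span {g'} from hg', ← hg, Ideal.span_singleton_mul_right_unit hu]
  have hq0 : ∀ r ∈ q0, g ∣ r := fun r hr => by
    refine (Polynomial.map_dvd_map _ (IsFractionRing.injective R K) hgmonic).1 ?_
    exact Ideal.mem_span_singleton.1 (hJg ▸ Ideal.mem_map_of_mem ι hr)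
  have hgq : (g : PowerSeries R) ∈ q := by
    show g ∈ q0
    rw [← hJc]
    exact hJg.ge (Ideal.mem_span_singleton_self _)
  refine ⟨(g : PowerSeries R), le_antisymm (fun x hx => Ideal.mem_span_singleton.2 ?_)
    ((Ideal.span_singleton_le_iff_mem _).2 hgq)⟩
  have hdiv := (H.isDistinguishedAt.isWeierstrassDivisorAt').isWeierstrassDivisionAt_div_mod x
  obtain ⟨-, hx'⟩ := hdiv
  have hPg : (g : PowerSeries R) ∣ (P : PowerSeries R) := by
    obtain ⟨c, hc⟩ := hq0 P hPq
    exact ⟨(c : PowerSeries R), by rw [hc, Polynomial.coe_mul]⟩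
  have hr := (‹q.IsPrime›)
  rw [hx'] at hx ⊢
  refine dvd_add (hPg.mul_right _) ?_
  obtain ⟨c, hc⟩ := hq0 _ ((Ideal.add_mem_iff_right _ (Ideal.mul_mem_right _ q hPq)).1 hx)
  exact ⟨(c : PowerSeries R), by rw [← Polynomial.coe_mul, ← hc]; rfl⟩

end core

theorem isDomain_mvPowerSeries (A : Type u) [CommRing A] [IsDomain A] (n : ℕ) :
    IsDomain (MvPowerSeries (Fin n) A) := NoZeroDivisors.to_isDomain _

theorem isIntegrallyClosed_mvPowerSeries (A : Type u) [CommRing A] [IsDomain A] [IsNoetherianRing A]
    [IsIntegrallyClosed A] : ∀ n, IsIntegrallyClosed (MvPowerSeries (Fin n) A) := by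
  intro n
  induction n with
  | zero => exact IsIntegrallyClosed.of_equiv (MvPowerSeries.isEmptyEquiv (Fin 0) A).toRingEquiv.symm
  | succ n ih =>
    haveI := ih
    haveI := isDomain_mvPowerSeries A n
    haveI := isIntegrallyClosed_powerSeries (MvPowerSeries (Fin n) A)
    exact IsIntegrallyClosed.of_equiv (MvPowerSeries.finSuccEquiv A n).toRingEquiv.symm

section main

variable (A : Type u) [CommRing A] [IsDomain A] [IsNoetherianRing A] [IsLocalRing A] [IsIntegrallyClosed A]
  [IsAdicComplete (maximalIdeal A) A]

theorem isPrincipal_mvPowerSeries (n : ℕ) (q : Ideal (MvPowerSeries (Fin n) A)) [q.IsPrime] (hq : q.height = 1)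
    (hqm : ¬ q ≤ (maximalIdeal A).map (MvPowerSeries.C : A →+* MvPowerSeries (Fin n) A)) :
    Submodule.IsPrincipal q := by
  obtain ⟨f, hfq, hfm⟩ := Set.not_subset.1 hqm
  cases n with
  | zero =>
    exfalso
    refine hfm ?_
    have hsurj : f = MvPowerSeries.C (MvPowerSeries.constantCoeff f) := by
      ext d
      rw [Subsingleton.elim d 0, MvPowerSeries.coeff_C, if_pos rfl, MvPowerSeries.coeff_zero_eq_constantCoeff_apply]
    rw [hsurj]
    refine Ideal.mem_map_of_mem _ ((mem_maximalIdeal _).2 fun hu => ?_)
    exact (‹q.IsPrime›).ne_top (Ideal.eq_top_of_isUnit_mem _ hfq (hsurj ▸ hu.map _))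
  | succ n =>
    let k := ResidueField A
    have hf0 : MvPowerSeries.map (residue A) f ≠ 0 := fun h0 => hfm (by
      obtain ⟨s, hs⟩ := (IsNoetherian.noetherian (maximalIdeal A))
      have hc : ∀ d, MvPowerSeries.coeff d f ∈ maximalIdeal A := fun d => by
        rw [← residue_eq_zero_iff, ← MvPowerSeries.coeff_map, h0, map_zero]
      have hc' : ∀ d, ∃ r : ↥s → A, ∑ i, r i • (i : A) = MvPowerSeries.coeff d f := fun d => by
        refine Submodule.mem_span_range_iff_exists_fun A |>.1 ?_
        rw [show Set.range (fun i : ↥s => (i : A)) = (s : Set A) from Subtype.range_coe]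
        exact hs.ge (hc d)
      choose r hr using hc'
      have e : f = ∑ i : ↥s, MvPowerSeries.C (i : A) *
          (show MvPowerSeries (Fin (n + 1)) A from fun d => r d i) := MvPowerSeries.ext fun d => by
        rw [map_sum, ← hr d]
        refine Finset.sum_congr rfl fun i _ => ?_
        rw [MvPowerSeries.coeff_C_mul, smul_eq_mul, mul_comm]
        rfl
      rw [e]
      exact Ideal.sum_mem _ fun i _ => Ideal.mul_mem_right _ _
        (Ideal.mem_map_of_mem _ (hs.le (Submodule.subset_span i.2))))
    obtain ⟨e, he, hlast, hcurve⟩ := exists_curve k n _ hf0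
    haveI : IsLocalRing (MvPowerSeries (Fin (n + 1)) A) := inferInstance
    haveI := CAlgH.isAdicComplete_maximalIdeal_mvPowerSeries (R := A) (n := n + 1)
    let y : Fin (n + 1) → MvPowerSeries (Fin (n + 1)) A :=
      Fin.lastCases (MvPowerSeries.X 0) fun i => MvPowerSeries.X i.succ + MvPowerSeries.X 0 ^ e i.castSucc
    have hy0 : ∀ i, MvPowerSeries.constantCoeff (y i) = 0 := fun i => by
      cases i using Fin.lastCases with
      | last => simp [y]
      | cast i => simp [y, (he i.castSucc).ne']
    have hX : Ideal.span ((fun a => MvPowerSeries.C a) '' (maximalIdeal A : Set A) ∪ Set.range MvPowerSeries.X) =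
        maximalIdeal (MvPowerSeries (Fin (n + 1)) A) := by
      refine le_antisymm ?_ fun g hg => ?_
      · rw [Ideal.span_le]
        rintro _ (⟨a, ha, rfl⟩ | ⟨i, rfl⟩) <;>
          rw [SetLike.mem_coe, mem_maximalIdeal, mem_nonunits_iff, MvPowerSeries.isUnit_iff_constantCoeff]
        · rw [MvPowerSeries.constantCoeff_C]; exact (mem_maximalIdeal a).1 ha
        · rw [MvPowerSeries.constantCoeff_X]; exact not_isUnit_zero
      · rw [show g = MvPowerSeries.C (MvPowerSeries.constantCoeff g) +
          (g - MvPowerSeries.C (MvPowerSeries.constantCoeff g)) by ring]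
        refine Ideal.add_mem _ (Ideal.subset_span (Or.inl ⟨_, (mem_maximalIdeal _).2 fun hu =>
          (mem_maximalIdeal g).1 hg (MvPowerSeries.isUnit_iff_constantCoeff.2 hu), rfl⟩)) ?_
        refine Ideal.span_mono Set.subset_union_right ?_
        rw [← AdicSmooth.ker_constantCoeff, RingHom.mem_ker, map_sub, MvPowerSeries.constantCoeff_C, sub_self]
    have hy : Ideal.span ((fun a => MvPowerSeries.C a) '' (maximalIdeal A : Set A) ∪ Set.range y) =
        maximalIdeal (MvPowerSeries (Fin (n + 1)) A) := by
      rw [← hX]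
      refine le_antisymm (Ideal.span_le.2 ?_) (Ideal.span_le.2 ?_)
      · rintro _ (h | ⟨i, rfl⟩)
        · exact Ideal.subset_span (Or.inl h)
        cases i using Fin.lastCases with
        | last => simp only [y, Fin.lastCases_last]; exact Ideal.subset_span (Or.inr ⟨0, rfl⟩)
        | cast i =>
          simp only [y, Fin.lastCases_castSucc, SetLike.mem_coe]
          have h0 : (MvPowerSeries.X 0 : MvPowerSeries (Fin (n + 1)) A) ∈
              Ideal.span ((fun a => MvPowerSeries.C a) '' (maximalIdeal A : Set A) ∪ Set.range MvPowerSeries.X) :=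
            Ideal.subset_span (Or.inr ⟨0, rfl⟩)
          exact Ideal.add_mem _ (Ideal.subset_span (Or.inr ⟨i.succ, rfl⟩)) (Ideal.pow_mem_of_mem _ h0 _ (he _))
      · rintro _ (h | ⟨i, rfl⟩)
        · exact Ideal.subset_span (Or.inl h)
        have h0 : (MvPowerSeries.X 0 : MvPowerSeries (Fin (n + 1)) A) ∈
            Ideal.span ((fun a => MvPowerSeries.C a) '' (maximalIdeal A : Set A) ∪ Set.range y) :=
          Ideal.subset_span (Or.inr ⟨Fin.last n, by simp [y]⟩)
        cases i using Fin.cases with
        | zero => exact h0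
        | succ i =>
          rw [SetLike.mem_coe, show (MvPowerSeries.X i.succ : MvPowerSeries (Fin (n + 1)) A) =
            y i.castSucc - MvPowerSeries.X 0 ^ e i.castSucc by simp [y]]
          exact sub_mem (Ideal.subset_span (Or.inr ⟨_, rfl⟩)) (Ideal.pow_mem_of_mem _ h0 _ (he _))
    have hbij := subst_bijective_aux (maximalIdeal A : Set A) y hy0 hX hy
    have hs := MvPowerSeries.hasSubst_of_constantCoeff_zero hy0
    let σ : MvPowerSeries (Fin (n + 1)) A ≃+* MvPowerSeries (Fin (n + 1)) A :=
      RingEquiv.ofBijective (MvPowerSeries.substAlgHom (R := A) hs).toRingHom (by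
        have : (MvPowerSeries.subst y : MvPowerSeries (Fin (n + 1)) A → _) = MvPowerSeries.substAlgHom (R := A) hs :=
          funext fun g => (MvPowerSeries.substAlgHom_apply hs g).symm
        exact this ▸ hbij)
    let B' := MvPowerSeries (Fin n) A
    let τ : MvPowerSeries (Fin (n + 1)) A ≃+* PowerSeries B' := σ.trans (MvPowerSeries.finSuccEquiv A n).toRingEquiv
    haveI : IsDomain B' := isDomain_mvPowerSeries A n
    haveI : IsIntegrallyClosed B' := isIntegrallyClosed_mvPowerSeries A n
    haveI : IsAdicComplete (maximalIdeal B') B' := CAlgH.isAdicComplete_maximalIdeal_mvPowerSeries (R := A) (n := n)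
    haveI : (q.map τ.toRingHom).IsPrime := Ideal.map_isPrime_of_equiv τ
    have hqh : (q.map τ.toRingHom).height = 1 := (RingEquiv.height_map τ q).trans hq
    have hres : PowerSeries.map (residue B') (τ f) ≠ 0 := fun h0 => hcurve (by
      -- the line through the origin in the first variable
      let π : MvPowerSeries (Fin (n + 1)) A →+* PowerSeries k :=
        (PowerSeries.map ((residue A).comp (MvPowerSeries.constantCoeff (σ := Fin n) (R := A)))).comp
          (MvPowerSeries.finSuccEquiv A n).toAlgHom.toRingHom
      have hπ0 : π (σ f) = 0 := by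
        ext j
        have hj := congrArg (PowerSeries.coeff j) h0
        rw [PowerSeries.coeff_map, map_zero, residue_eq_zero_iff, mem_maximalIdeal, mem_nonunits_iff,
          MvPowerSeries.isUnit_iff_constantCoeff] at hj
        rw [map_zero]
        simp only [π, RingHom.comp_apply]
        rw [PowerSeries.coeff_map, RingHom.comp_apply, residue_eq_zero_iff, mem_maximalIdeal]
        exact hj
      let z : Fin (n + 1) → PowerSeries A := Fin.cases PowerSeries.X fun _ => 0
      have hz : MvPowerSeries.HasSubst z := MvPowerSeries.hasSubst_of_constantCoeff_zero fun i => by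
        cases i using Fin.cases with
        | zero => exact PowerSeries.constantCoeff_X
        | succ i => rfl
      have hπ : ∀ g, π g = MvPowerSeries.map (residue A) (MvPowerSeries.subst z g) := fun g => by
        refine PowerSeries.ext fun j => ?_
        simp only [π, RingHom.comp_apply, AlgHom.toRingHom_eq_coe, RingHom.coe_coe, AlgEquiv.toAlgHom_eq_coe, AlgEquiv.coe_algHom]
        rw [PowerSeries.coeff_map, RingHom.comp_apply, ← MvPowerSeries.coeff_zero_eq_constantCoeff_apply,
          MvPowerSeries.coeff_coeff_finSuccEquiv]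
        show residue A _ = MvPowerSeries.coeff (Finsupp.single () j) (MvPowerSeries.map (residue A) _)
        rw [MvPowerSeries.coeff_map, MvPowerSeries.coeff_subst hz]
        congr 1
        have hp : ∀ d : Fin (n + 1) →₀ ℕ, MvPowerSeries.coeff (Finsupp.single () j) (d.prod fun s e => z s ^ e) =
            if d = Finsupp.cons j 0 then 1 else 0 := fun d => by
          rw [Finsupp.prod_fintype _ _ (fun i => pow_zero _), Fin.prod_univ_succ]
          simp only [z, Fin.cases_zero, Fin.cases_succ]
          by_cases hd : ∀ i : Fin n, d i.succ = 0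
          · rw [Finset.prod_eq_one fun i _ => by rw [hd i, pow_zero], mul_one]
            show PowerSeries.coeff j _ = _
            rw [PowerSeries.coeff_X_pow]
            refine if_congr ⟨fun h => Finsupp.ext fun i => ?_, fun h => by rw [h, Finsupp.cons_zero]⟩ rfl rfl
            cases i using Fin.cases with
            | zero => rw [Finsupp.cons_zero, h]
            | succ i => rw [Finsupp.cons_succ, hd i]; rfl
          · obtain ⟨i, hi⟩ := not_forall.1 hd
            rw [Finset.prod_eq_zero (Finset.mem_univ i) (zero_pow hi), mul_zero, map_zero, if_neg]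
            rintro rfl
            exact hi (by rw [Finsupp.cons_succ]; rfl)
        rw [finsum_eq_single _ (Finsupp.cons j 0) fun d hd => by rw [hp, if_neg hd, smul_zero], hp, if_pos rfl,
          smul_eq_mul, mul_one]
      have hσ : σ f = MvPowerSeries.subst y f := MvPowerSeries.substAlgHom_apply hs f
      rw [hπ, hσ, MvPowerSeries.subst_comp_subst_apply hs hz,
        MvPowerSeries.map_subst (MvPowerSeries.hasSubst_of_constantCoeff_zero fun i =>
          MvPowerSeries.constantCoeff_subst_eq_zero hz (fun j => by
            cases j using Fin.cases with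
            | zero => exact PowerSeries.constantCoeff_X
            | succ j => rfl) (hy0 i))] at hπ0
      refine Eq.trans (congrArg (MvPowerSeries.subst · _) (funext fun i => ?_)) hπ0
      cases i using Fin.lastCases with
      | last =>
        simp only [y, Fin.lastCases_last]
        rw [hlast, pow_one, MvPowerSeries.subst_X hz]
        exact (PowerSeries.map_X (residue A)).symm
      | cast i =>
        simp only [y, Fin.lastCases_castSucc]
        rw [MvPowerSeries.subst_add hz, MvPowerSeries.subst_pow hz, MvPowerSeries.subst_X hz, MvPowerSeries.subst_X hz]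
        simp only [z, Fin.cases_zero, Fin.cases_succ, zero_add]
        exact ((map_pow (PowerSeries.map (residue A)) _ _).trans (by rw [PowerSeries.map_X])).symm)
    obtain ⟨g, hg⟩ := (isPrincipal_of_residue_ne_zero B' (q.map τ.toRingHom) hqh (τ f) (Ideal.mem_map_of_mem _ hfq) hres).principal
    refine ⟨τ.symm g, ?_⟩
    have h2 := congrArg (Ideal.map τ.symm.toRingHom) (show q.map τ.toRingHom = Ideal.span {g} from hg)
    rw [Ideal.map_map, Ideal.map_span, Set.image_singleton] at h2
    rw [show τ.symm.toRingHom.comp τ.toRingHom = RingHom.id _ from RingHom.ext τ.symm_apply_apply, Ideal.map_id] at h2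
    exact h2

end main

end Groth.Agent.CAlgH.RS
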