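import Groth.Agent.Synt15.Syntomic
import Groth.Agent.Synt15.Bridge
import Groth.Agent.Synt15.Conormal
import Groth.Agent.CAlgH.CIOpen
import Groth.Agent.Disc12.SyntomicPres
import Groth.Agent.FlatMorSlice.Regular
import Mathlib

/-!
# Cutting a smooth algebra by a projective module of equations gives a syntomic algebra

If `P` is smooth over `R`, `A₀` is syntomic over `R/I`, `P → A₀` is surjective with kernel
`(F) + IP`, and `E` is an idempotent matrix with `EF = F` which kills the relations of `F` in the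
conormal module, then `P/(F)` is syntomic near `V(I)`.
-/

set_option autoImplicit false
set_option linter.style.haveILetI false
universe u

open RingTheory.Sequence IsLocalRing

namespace Groth.Agent.CAlgH.SyntomicCut

attribute [local instance] CommAlg6.isLocalRing_fibLocRing

variable {R P : Type u} [CommRing R] [CommRing P] [Algebra R P]

/-- Lifts of a regular sequence generating an ideal in a fibre local ring. -/
theorem exists_fibReg (I : Ideal P) (Q : Ideal P) [Q.IsPrime]
    (hreg : CInt.IsRegularIdeal ((I.map (algebraMap P (Localization.AtPrime Q))).map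
      (Ideal.Quotient.mk ((Q.comap (algebraMap R P)).map (algebraMap R (Localization.AtPrime Q)))))) :
    ∃ rs : List P, Ideal.ofList rs ≤ I ∧ FlatMorSlice.FibReg R Q rs ∧
      ∀ x ∈ I, ∃ c ∉ Q, c * x ∈
        (Q.comap (algebraMap R P)).map (algebraMap R P) ⊔ Ideal.ofList rs := by
  classical
  let pQ : Ideal (Localization.AtPrime Q) :=
    (Q.comap (algebraMap R P)).map (algebraMap R _)
  obtain ⟨ts, hts, htsI⟩ := hreg
  have key : ∀ t ∈ ts, ∃ a ∈ I, ∃ u : EGA4.FibLocRing R P Q, IsUnit u ∧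
      Ideal.Quotient.mk pQ (algebraMap _ (Localization.AtPrime Q) a) = u * t := by
    intro t ht
    obtain ⟨y, hy, rfl⟩ := (Ideal.mem_map_iff_of_surjective _ Ideal.Quotient.mk_surjective).1
      (htsI.le (Ideal.subset_span ht))
    obtain ⟨⟨⟨a, ha⟩, s⟩, has⟩ := (IsLocalization.mem_map_algebraMap_iff Q.primeCompl _).1 hy
    refine ⟨a, ha, Ideal.Quotient.mk pQ (algebraMap _ _ s.1),
      (IsLocalization.map_units (Localization.AtPrime Q) s).map _, ?_⟩
    rw [← map_mul]
    exact congrArg _ (by rw [← has]; ring)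
  choose! a ha u hu hau using key
  let rs := ts.map a
  let ρ : P →+* EGA4.FibLocRing R P Q :=
    (Ideal.Quotient.mk pQ).comp (algebraMap _ (Localization.AtPrime Q))
  have htake : ∀ i, (Ideal.ofList (rs.take i)).map ρ = Ideal.ofList (ts.take i) := by
    intro i
    rw [Ideal.map_ofList]
    apply le_antisymm
    · refine Ideal.span_le.2 fun x hx => ?_
      simp only [rs, ← List.map_take, List.map_map, List.mem_map, Set.mem_setOf_eq] at hx
      obtain ⟨t, ht, rfl⟩ := hx
      show Ideal.Quotient.mk pQ (algebraMap _ _ (a t)) ∈ _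
      rw [hau t (List.mem_of_mem_take ht)]
      exact Ideal.mul_mem_left _ _ (Ideal.subset_span ht)
    · refine Ideal.span_le.2 fun t ht => ?_
      rw [SetLike.mem_coe, ← Ideal.unit_mul_mem_iff_mem _ (hu t (List.mem_of_mem_take ht)),
        ← hau t (List.mem_of_mem_take ht)]
      exact Ideal.subset_span (List.mem_map.2 ⟨a t, by rw [← List.map_take]; exact List.mem_map.2 ⟨t, ht, rfl⟩, rfl⟩)
  have hback : ∀ (J : Ideal P) (x : P), ρ x ∈ J.map ρ →
      ∃ c ∉ Q, c * x ∈ (Q.comap (algebraMap R P)).map (algebraMap R _) ⊔ J := by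
    intro J x hx
    have : algebraMap _ (Localization.AtPrime Q) x ∈
        ((Q.comap (algebraMap R P)).map (algebraMap R _) ⊔ J).map
          (algebraMap _ (Localization.AtPrime Q)) := by
      change Ideal.Quotient.mk pQ (algebraMap _ _ x) ∈ _ at hx
      rw [← Ideal.map_map, ← Ideal.mem_comap, Ideal.comap_map_of_surjective _ Ideal.Quotient.mk_surjective,
        ← RingHom.ker_eq_comap_bot, Ideal.mk_ker] at hx
      rw [Ideal.map_sup, Ideal.map_map, ← IsScalarTower.algebraMap_eq, sup_comm]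
      exact hx
    exact (IsLocalization.algebraMap_mem_map_algebraMap_iff Q.primeCompl _ _ _).1 this
  refine ⟨rs, Ideal.span_le.2 fun x hx => ?_, ?_, fun x hx => hback _ x ?_⟩
  · obtain ⟨t, ht, rfl⟩ := List.mem_map.1 hx
    exact ha t ht
  · intro i hi x ⟨c, hc, hcx⟩
    have hi' : i < ts.length := by simpa [rs] using hi
    apply hback
    rw [htake]
    have h1 : ρ (c * (rs[i] * x)) ∈ Ideal.ofList (ts.take i) := by
      have := Ideal.mem_map_of_mem ρ hcx
      rw [Ideal.map_sup, htake] at this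
      refine (sup_le ?_ le_rfl : _ ≤ Ideal.ofList (ts.take i)) this
      rw [Ideal.map_le_iff_le_comap, Ideal.map_le_iff_le_comap]
      intro r hr
      rw [Ideal.mem_comap, Ideal.mem_comap]
      show Ideal.Quotient.mk pQ
        (algebraMap P (Localization.AtPrime Q) (algebraMap R P r)) ∈ _
      rw [← IsScalarTower.algebraMap_apply, Ideal.Quotient.eq_zero_iff_mem.2 (Ideal.mem_map_of_mem _ hr)]
      exact zero_mem _
    have hcu : IsUnit (ρ c) :=
      (IsLocalization.map_units (Localization.AtPrime Q) (⟨c, hc⟩ : Q.primeCompl)).map (Ideal.Quotient.mk pQ)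
    rw [map_mul, map_mul, Ideal.unit_mul_mem_iff_mem _ hcu,
      show ρ rs[i] = u ts[i] * ts[i] by simp only [rs, List.getElem_map]; exact hau _ (List.getElem_mem _),
      mul_assoc, Ideal.unit_mul_mem_iff_mem _ (hu _ (List.getElem_mem _))] at h1
    exact (LCI15.isWeaklyRegular_iff_colon ts).1 hts.toIsWeaklyRegular i hi' _ h1
  · rw [show rs = rs.take rs.length from List.take_length.symm, htake,
      List.take_of_length_le (by simp [rs]), htsI]
    exact Ideal.mem_map_of_mem _ (Ideal.mem_map_of_mem _ hx)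

/-- Localization of a quotient at a prime. -/
theorem exists_quotient_atPrime (K : Ideal P) (Q : Ideal P) [Q.IsPrime] (hKQ : K ≤ Q)
    (qB : Ideal (P ⧸ K)) [qB.IsPrime] (hqB : qB = Q.map (Ideal.Quotient.mk K)) :
    Nonempty ((Localization.AtPrime Q ⧸ K.map (algebraMap P (Localization.AtPrime Q))) ≃ₐ[R]
      Localization.AtPrime qB) := by
  have hc : qB.comap (Ideal.Quotient.mk K) = Q := by
    rw [hqB, Ideal.comap_map_of_surjective _ Ideal.Quotient.mk_surjective, ← RingHom.ker_eq_comap_bot,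
      Ideal.mk_ker]
    exact sup_eq_left.2 hKQ
  subst hc
  let L := Localization.AtPrime (qB.comap (Ideal.Quotient.mk K))
  let T : Submonoid (P ⧸ K) := (qB.comap (Ideal.Quotient.mk K)).primeCompl.map (Ideal.Quotient.mk K)
  have hT : T = qB.primeCompl := by
    ext y
    refine ⟨fun ⟨x, hx, hxy⟩ => hxy ▸ hx, fun hy => ?_⟩
    obtain ⟨x, rfl⟩ := Ideal.Quotient.mk_surjective y
    exact ⟨x, hy, rfl⟩
  let θ := Ideal.quotientMap (K.map (algebraMap P L)) (algebraMap P L) (Ideal.le_comap_map (I := K))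
  letI : Algebra (P ⧸ K) (L ⧸ K.map (algebraMap P L)) := θ.toAlgebra
  haveI : IsScalarTower R (P ⧸ K) (L ⧸ K.map (algebraMap P L)) := IsScalarTower.of_algebraMap_eq fun r => by
    show algebraMap R (L ⧸ K.map (algebraMap P L)) r = θ (Ideal.Quotient.mk K (algebraMap R P r))
    rw [Ideal.quotientMap_mk, ← IsScalarTower.algebraMap_apply]
    rfl
  haveI : IsLocalization qB.primeCompl (L ⧸ K.map (algebraMap P L)) := by
    rw [← hT]
    exact Synt15.isLocalization_quotient_map (A := L) (qB.comap (Ideal.Quotient.mk K)).primeCompl K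
  exact ⟨(IsLocalization.algEquiv qB.primeCompl (L ⧸ K.map (algebraMap P L))
    (Localization.AtPrime qB)).restrictScalars R⟩

variable {A₀ : Type u} [CommRing A₀] [Algebra R A₀]

set_option maxHeartbeats 1000000 in
theorem mem_mul_sup (I : Ideal R) [Algebra (R ⧸ I) A₀] [IsScalarTower R (R ⧸ I) A₀]
    [Module.Flat (R ⧸ I) A₀] (q : P →ₐ[R] A₀) (hq : Function.Surjective q) (a : Ideal R) {x : P}
    (hx : x ∈ a.map (algebraMap R P)) (hx0 : q x = 0) :
    x ∈ a.map (algebraMap R P) * RingHom.ker q ⊔ I.map (algebraMap R P) := by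
  rw [Ideal.map, Ideal.span, Submodule.mem_span_image_iff_exists_fun] at hx
  obtain ⟨t, ht, c, hc⟩ := hx
  have hrel : ∑ i : t, (Ideal.Quotient.mk I (i : R)) • q (c i) = 0 := by
    rw [← hx0, ← hc, map_sum]
    exact Finset.sum_congr rfl fun i _ => by
      rw [smul_eq_mul, map_mul, AlgHom.commutes, ← Ideal.Quotient.algebraMap_eq,
        IsScalarTower.algebraMap_smul, Algebra.smul_def, mul_comm]
  obtain ⟨k, w, y, hy, hw⟩ := Module.Flat.isTrivialRelation_of_sum_smul_eq_zero (R := R ⧸ I) (M := A₀)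
    (f := fun i : t => Ideal.Quotient.mk I (i : R)) (x := fun i => q (c i)) hrel
  choose Y hY using fun j => hq (y j)
  choose v hv using fun i j => Ideal.Quotient.mk_surjective (w i j)
  let e : t → P := fun i => c i - ∑ j, v i j • Y j
  have he : ∀ i, e i ∈ RingHom.ker q := fun i => by
    rw [RingHom.mem_ker, map_sub, map_sum, show q (c i) = ∑ j, w i j • y j from hy i, sub_eq_zero]
    refine Finset.sum_congr rfl fun j _ => ?_
    rw [map_smul, hY, ← hv i j, ← Ideal.Quotient.algebraMap_eq, IsScalarTower.algebraMap_smul]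
  have hI : ∀ j, ∑ i : t, (i : R) * v i j ∈ I := fun j => by
    rw [← Ideal.Quotient.eq_zero_iff_mem, map_sum]
    simpa [hv] using hw j
  have hxe : x = ∑ i : t, algebraMap R P (i : R) * e i +
      ∑ j, algebraMap R P (∑ i : t, (i : R) * v i j) * Y j := by
    simp only [e, mul_sub, Finset.sum_sub_distrib, map_sum, Finset.sum_mul, Finset.mul_sum,
      Algebra.smul_def, map_mul, mul_assoc, ← hc, smul_eq_mul]
    rw [Finset.sum_comm (s := (Finset.univ : Finset (Fin k))), sub_add_cancel]
    exact Finset.sum_congr rfl fun i _ => mul_comm _ _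
  rw [hxe]
  exact Submodule.add_mem_sup
    (Ideal.sum_mem _ fun i _ => Ideal.mul_mem_mul (Ideal.mem_map_of_mem _ (ht i.2)) (he i))
    (Ideal.sum_mem _ fun j _ => Ideal.mul_mem_right _ _ (Ideal.mem_map_of_mem _ (hI j)))

/-- Transport along an equality of primes. -/
theorem regular_congr {Q Q' : Ideal P} [Q.IsPrime] [Q'.IsPrime] (h : Q = Q') (K : Ideal P)
    (hreg : CInt.IsRegularIdeal ((K.map (algebraMap P (Localization.AtPrime Q))).map
      (Ideal.Quotient.mk ((Q.comap (algebraMap R P)).map (algebraMap R (Localization.AtPrime Q)))))) :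
    CInt.IsRegularIdeal ((K.map (algebraMap P (Localization.AtPrime Q'))).map
      (Ideal.Quotient.mk ((Q'.comap (algebraMap R P)).map (algebraMap R (Localization.AtPrime Q'))))) := by
  subst h; exact hreg

/-- Transport along an equality of primes. -/
theorem ci_congr {B : Type u} [CommRing B] [Algebra R B] {q q' : Ideal B} [q.IsPrime] [q'.IsPrime] (h : q = q')
    (hci : Pi1.IsCompleteIntersection (EGA4.FibLocRing R B q)) :
    Pi1.IsCompleteIntersection (EGA4.FibLocRing R B q') := by
  subst h; exact hci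

omit [Algebra R P] in
/-- Nakayama step: the lifts generate the cut ideal near the point. -/
theorem exists_killer (Q : Ideal P) [Q.IsPrime] {m : ℕ} (F : Fin m → P) (pP IP : Ideal P) (hpQ : pP ≤ Q)
    (E : Matrix (Fin m) (Fin m) P) (hEF : ∀ j, ∑ k, E j k * F k = F j)
    (rs : List P) (hrsK : Ideal.ofList rs ≤ Ideal.span (Set.range F))
    (hgen : ∀ x ∈ Ideal.span (Set.range F), ∃ c ∉ Q, c * x ∈ pP ⊔ Ideal.ofList rs)
    (hflat : ∀ b ∈ pP, b ∈ Ideal.span (Set.range F) → b ∈ pP * Ideal.span (Set.range F) ⊔ IP)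
    (hkill : ∀ w : Fin m → P, ∑ j, w j * F j ∈ IP → ∀ k, ∑ j, w j * E j k ∈ Q) :
    ∃ G ∉ Q, ∀ x ∈ Ideal.span (Set.range F), G * x ∈ Ideal.ofList rs := by
  classical
  set K := Ideal.span (Set.range F) with hK
  have hstep : ∀ j, ∃ c ∉ Q, c * F j ∈ Ideal.ofList rs ⊔ Q * K := by
    intro j
    obtain ⟨c, hc, hcx⟩ := hgen (F j) (Ideal.subset_span ⟨j, rfl⟩)
    refine ⟨c, hc, ?_⟩
    obtain ⟨b, hb, r, hr, hbr⟩ := Submodule.mem_sup.1 hcx
    have hbK : b ∈ K := by
      rw [eq_sub_of_add_eq hbr]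
      exact sub_mem (Ideal.mul_mem_left _ _ (Ideal.subset_span ⟨j, rfl⟩)) (hrsK hr)
    obtain ⟨y, hy, i, hi, hyi⟩ := Submodule.mem_sup.1 (hflat b hb hbK)
    obtain ⟨s, hs⟩ := (Submodule.mem_span_range_iff_exists_fun P).1 hbK
    obtain ⟨s', hs'⟩ := (Submodule.mem_span_range_iff_exists_fun P).1
      ((Ideal.mul_le_right : pP * K ≤ K) hy)
    simp only [smul_eq_mul] at hs hs'
    have hsI : ∑ l, (s l - s' l) * F l ∈ IP := by
      simp only [sub_mul, Finset.sum_sub_distrib, hs, hs']
      rwa [← hyi, add_sub_cancel_left]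
    have hby : b - y = ∑ k, (∑ l, (s l - s' l) * E l k) * F k := by
      simp only [Finset.sum_mul]
      rw [Finset.sum_comm, ← hs, ← hs', ← Finset.sum_sub_distrib]
      refine Finset.sum_congr rfl fun l _ => ?_
      conv_lhs => rw [← sub_mul, ← hEF l, Finset.mul_sum]
      simp only [mul_assoc]
    rw [← hbr, add_comm]
    refine Submodule.add_mem_sup hr ?_
    rw [show b = (b - y) + y by ring, hby]
    exact add_mem (Ideal.sum_mem _ fun k _ => Ideal.mul_mem_mul (hkill _ hsI k)
      (Ideal.subset_span ⟨k, rfl⟩)) (Ideal.mul_mono_left hpQ hy)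
  refine Disc12.exists_smul_mem_of_le Q K (Ideal.ofList rs) Q
    (Submodule.fg_span (Set.finite_range F)) le_rfl fun x hx => ?_
  choose c hc hcF using hstep
  refine ⟨∏ j, c j, Q.primeCompl.prod_mem fun j _ => hc j, ?_⟩
  obtain ⟨w, rfl⟩ := (Submodule.mem_span_range_iff_exists_fun P).1 hx
  rw [Finset.mul_sum]
  refine Ideal.sum_mem _ fun j _ => ?_
  rw [smul_eq_mul, ← Finset.prod_erase_mul _ _ (Finset.mem_univ j), mul_assoc, mul_left_comm (c j)]
  exact Ideal.mul_mem_left _ _ (Ideal.mul_mem_left _ _ (hcF j))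

/-- Flatness of the cut algebra at the point. -/
theorem flat_atPrime_quotient (K Q : Ideal P) [Q.IsPrime] (hKQ : K ≤ Q) (qB : Ideal (P ⧸ K)) [qB.IsPrime]
    (hqB : qB = Q.map (Ideal.Quotient.mk K)) (rs : List P) (hrsK : Ideal.ofList rs ≤ K) (G : P)
    (hG : G ∉ Q) (hGK : ∀ x ∈ K, G * x ∈ Ideal.ofList rs)
    (h1 : Module.Flat R (LocalizedModule Q.primeCompl (P ⧸ Ideal.ofList rs))) :
    Module.Flat R (Localization.AtPrime qB) := by
  haveI := CAlgH.CIOpen.flat_quotient_localization Q (Ideal.ofList rs) h1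
  have he := CAlgH.CIOpen.map_eq_of_mul_mem (L := Localization.AtPrime Q) Q.primeCompl
    (G := G) hG hrsK hGK
  haveI : Module.Flat R (Localization.AtPrime Q ⧸ K.map (algebraMap P (Localization.AtPrime Q))) :=
    Module.Flat.of_linearEquiv (Ideal.quotientEquivAlgOfEq R he).toLinearEquiv
  obtain ⟨e₂⟩ := exists_quotient_atPrime (R := R) K Q hKQ qB hqB
  exact Module.Flat.of_linearEquiv e₂.symm.toLinearEquiv

variable [Algebra.Smooth R P]

set_option maxHeartbeats 2000000 in
theorem exists_syntomic_nhd (I : Ideal R) [Algebra (R ⧸ I) A₀] [IsScalarTower R (R ⧸ I) A₀]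
    (hA : Synt.IsSyntomic (R ⧸ I) A₀) (q : P →ₐ[R] A₀) (hq : Function.Surjective q)
    {m : ℕ} (F : Fin m → P)
    (hker : RingHom.ker q = Ideal.span (Set.range F) ⊔ I.map (algebraMap R P))
    (E : Matrix (Fin m) (Fin m) P) (hEF : ∀ j, ∑ k, E j k * F k = F j)
    (hkill : ∀ w : Fin m → P, ∑ j, w j * F j ∈ I.map (algebraMap R P) →
      ∀ k, q (∑ j, w j * E j k) = 0)
    (q₀ : Ideal A₀) [q₀.IsPrime] :
    ∃ g : P ⧸ Ideal.span (Set.range F), g ∉ (q₀.comap q).map (Ideal.Quotient.mk _) ∧
      Synt.IsSyntomic R (Localization.Away g) := by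
  classical
  haveI := hA.1
  haveI := hA.2.1
  set Q : Ideal P := q₀.comap q.toRingHom with hQd
  set p : Ideal R := Q.comap (algebraMap R P) with hpd
  set K : Ideal P := Ideal.span (Set.range F) with hK
  have hp : p = q₀.comap (algebraMap R A₀) := by
    rw [hpd, hQd, Ideal.comap_comap]; exact congrArg (fun φ => q₀.comap φ) q.comp_algebraMap
  have hIp : I ≤ p := fun r hr => by
    rw [hp, Ideal.mem_comap, IsScalarTower.algebraMap_apply R (R ⧸ I) A₀,
      Ideal.Quotient.algebraMap_eq, Ideal.Quotient.eq_zero_iff_mem.2 hr, map_zero]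
    exact zero_mem _
  have hkerQ : RingHom.ker q ≤ Q := fun x hx => by
    show q x ∈ q₀
    rw [RingHom.mem_ker.1 hx]; exact zero_mem _
  have hKker : K ≤ RingHom.ker q := hker ▸ le_sup_left
  -- the fibre ring of `A₀`
  obtain ⟨φ, hφ, hφk⟩ := CAlgH.CIOpen.exists_fib_surjection q hq q₀
  have hfib : Pi1.IsCompleteIntersection (EGA4.FibLocRing R A₀ q₀) := by
    have h1 := Synt15.ci_fibre_of_isSyntomic hA q₀
    let e : EGA4.FibLocRing (R ⧸ I) A₀ q₀ ≃+* EGA4.FibLocRing R A₀ q₀ := Ideal.quotEquivOfEq (by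
      rw [show q₀.comap (algebraMap R A₀) = (q₀.comap (algebraMap (R ⧸ I) A₀)).comap (Ideal.Quotient.mk I) by
          rw [Ideal.comap_comap, ← Ideal.Quotient.algebraMap_eq, ← IsScalarTower.algebraMap_eq],
        IsScalarTower.algebraMap_eq R (R ⧸ I) (Localization.AtPrime q₀), ← Ideal.map_map,
        Ideal.Quotient.algebraMap_eq, Ideal.map_comap_of_surjective _ Ideal.Quotient.mk_surjective])
    haveI : IsNoetherianRing (EGA4.FibLocRing (R ⧸ I) A₀ q₀) := by
      obtain ⟨Q', _, ⟨e'⟩⟩ := CommAlg6.exists_fiber_prime (A := R ⧸ I) q₀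
      haveI : Algebra.EssFiniteType (q₀.comap (algebraMap (R ⧸ I) A₀)).ResidueField
          (Localization.AtPrime Q') := Synt15.essFiniteType_atPrime Q'
      haveI := Algebra.EssFiniteType.isNoetherianRing (q₀.comap (algebraMap (R ⧸ I) A₀)).ResidueField
        (Localization.AtPrime Q')
      exact isNoetherianRing_of_ringEquiv _ e'
    haveI := isNoetherianRing_of_ringEquiv _ e
    exact (CAlgH.AvramovCI.isCompleteIntersection_iff_of_equiv e).1 h1
  haveI : IsRegularLocalRing (EGA4.FibLocRing R P Q) := Synt15.isRegularLocalRing_fib_of_smooth Q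
  haveI := isNoetherianRing_of_surjective _ _ φ hφ
  have hmapeq : ((RingHom.ker q.toRingHom).map (algebraMap P (Localization.AtPrime Q))).map
        (Ideal.Quotient.mk (p.map (algebraMap R (Localization.AtPrime Q)))) =
      (K.map (algebraMap P (Localization.AtPrime Q))).map
        (Ideal.Quotient.mk (p.map (algebraMap R (Localization.AtPrime Q)))) := by
    rw [show RingHom.ker q.toRingHom = K ⊔ I.map (algebraMap R P) from hker, Ideal.map_sup,
      Ideal.map_sup, Ideal.map_map (algebraMap R P), ← IsScalarTower.algebraMap_eq]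
    refine sup_eq_left.2 (le_trans ?_ bot_le)
    exact (Ideal.map_mono (Ideal.map_mono hIp)).trans (Ideal.map_quotient_self _).le
  have hreg := (CAlgH.CIPresentation.isCompleteIntersection_iff φ hφ).1 hfib
  rw [hφk] at hreg
  replace hreg := hmapeq ▸ hreg
  obtain ⟨rs, hrsK, hfr, hgen⟩ := exists_fibReg K Q hreg
  haveI : Module.Flat R P := inferInstance
  haveI : Module.Flat R (LocalizedModule Q.primeCompl P) := inferInstance
  obtain ⟨c₀, hc₀, -, hflat⟩ :=
    FlatMorSlice.exists_regular_sequence (A := R) ⟨Q, inferInstance⟩ inferInstance rs hfr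
  -- `rs` generate `K` near `Q`
  obtain ⟨G, hG, hGK⟩ := exists_killer Q F (p.map (algebraMap R P)) (I.map (algebraMap R P))
    Ideal.map_comap_le E hEF rs hrsK hgen
    (fun b hb hbK => by
      have h1 := mem_mul_sup I q hq p hb (hKker hbK)
      rwa [hker, Ideal.mul_sup, sup_assoc,
        sup_eq_right.2 (Ideal.mul_le_right : p.map (algebraMap R P) * I.map (algebraMap R P) ≤ _)] at h1)
    (fun w hw k => by
      show q _ ∈ q₀
      rw [hkill _ hw k]; exact zero_mem _)
  -- the point of the cut algebra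
  let B := P ⧸ K
  let π : P →ₐ[R] B := Ideal.Quotient.mkₐ R K
  have hKQ : K ≤ Q := hKker.trans hkerQ
  let qB : Ideal B := Q.map (Ideal.Quotient.mk K)
  haveI hqB : qB.IsPrime :=
    Ideal.map_isPrime_of_surjective Ideal.Quotient.mk_surjective (by rwa [Ideal.mk_ker])
  have hqBc : qB.comap π.toRingHom = Q := by
    show (Q.map (Ideal.Quotient.mk K)).comap (Ideal.Quotient.mk K) = Q
    rw [Ideal.comap_map_of_surjective _ Ideal.Quotient.mk_surjective, ← RingHom.ker_eq_comap_bot,
      Ideal.mk_ker]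
    exact sup_eq_left.2 hKQ
  haveI : Algebra.FinitePresentation R B :=
    Algebra.FinitePresentation.quotient (Submodule.fg_span (Set.finite_range F))
  have hflatQ : Module.Flat R (Localization.AtPrime qB) :=
    flat_atPrime_quotient K Q hKQ qB rfl rs hrsK G hG hGK (hflat Q hc₀)
  obtain ⟨ψ, hψ, hψk⟩ := CAlgH.CIOpen.exists_fib_surjection π Ideal.Quotient.mk_surjective qB
  haveI : IsRegularLocalRing (EGA4.FibLocRing R P (qB.comap π.toRingHom)) :=
    Synt15.isRegularLocalRing_fib_of_smooth _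
  haveI := isNoetherianRing_of_surjective _ _ ψ hψ
  have hci : Pi1.IsCompleteIntersection (EGA4.FibLocRing R B qB) := by
    rw [CAlgH.CIPresentation.isCompleteIntersection_iff ψ hψ, hψk,
      show RingHom.ker π.toRingHom = K from Ideal.mk_ker]
    exact regular_congr hqBc.symm K hreg
  have hpB : qB.comap (algebraMap R B) = p := by
    rw [hpd, ← hqBc, Ideal.comap_comap]; rfl
  obtain ⟨Qf, _, hQf⟩ := Synt15.exists_fibre_point (R := R) qB p hpB
  obtain ⟨g, hg, n, c, Fr, hFr, ⟨e⟩⟩ := Synt15.exists_relGCI_nhd R qB p hpB hflatQ Qf hQf (by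
    rw [Synt15.isCIOver_fibre_iff p Qf]
    exact ci_congr (show qB = Qf.comap (Algebra.TensorProduct.includeRight : B →ₐ[R] p.Fiber B) from hQf.symm) hci)
  exact ⟨g, hg, Synt15.isSyntomic_congr e.symm (Synt15.isSyntomic_relGCI hFr)⟩

end Groth.Agent.CAlgH.SyntomicCut
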