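import Groth.Agent.CAlgH.NLPerfect
import Groth.Agent.CAlgH.SyntomicCut
import Groth.Agent.LCI15.Conormal
import Groth.Agent.CAlgH3.ProjDim
import Mathlib

/-! Flat algebras of finite presentation with `NL` of tor amplitude `[-1,0]` are syntomic, hence LCI. -/

set_option autoImplicit false
set_option linter.style.haveILetI false
set_option backward.isDefEq.respectTransparency false
universe u

open CategoryTheory CategoryTheory.Limits IsLocalRing
attribute [local instance] HasDerivedCategory.standard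

namespace Groth.Agent.CAlgH.NLTorAmp

/-- Vasconcelos in a regular local ring. -/
theorem isRegularIdeal_of_coeff {R : Type u} [CommRing R] [IsRegularLocalRing R] (K : Ideal R) (hK : K ≠ ⊤)
    {r : ℕ} (f : Fin r → R) (hf : Ideal.span (Set.range f) = K)
    (hrel : ∀ a : Fin r → R, ∑ i, a i * f i ∈ K ^ 2 → ∀ i, a i ∈ K) : CInt.IsRegularIdeal K := by
  classical
  let c : Fin r → K.Cotangent := fun i => K.toCotangent ⟨f i, hf.le (Ideal.subset_span ⟨i, rfl⟩)⟩
  have hc : ∀ a : Fin r → R, ∑ i, Ideal.Quotient.mk K (a i) • c i =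
      K.toCotangent ⟨∑ i, a i * f i, Ideal.sum_mem _ fun i _ =>
        Ideal.mul_mem_left _ _ (hf.le (Ideal.subset_span ⟨i, rfl⟩))⟩ := by
    intro a
    rw [show (⟨∑ i, a i * f i, Ideal.sum_mem _ fun i _ =>
        Ideal.mul_mem_left _ _ (hf.le (Ideal.subset_span ⟨i, rfl⟩))⟩ : K) =
        ∑ i, a i • (⟨f i, hf.le (Ideal.subset_span ⟨i, rfl⟩)⟩ : K) from Subtype.ext (by simp), map_sum]
    refine Finset.sum_congr rfl fun i _ => ?_
    rw [map_smul]
    exact algebraMap_smul (R ⧸ K) (a i) (c i)
  have hli : LinearIndependent (R ⧸ K) c := by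
    rw [Fintype.linearIndependent_iff]
    intro g hg i
    choose a ha using fun i => Ideal.Quotient.mk_surjective (g i)
    rw [show g = fun i => Ideal.Quotient.mk K (a i) from funext fun i => (ha i).symm] at hg ⊢
    rw [hc, Ideal.toCotangent_eq_zero] at hg
    exact Ideal.Quotient.eq_zero_iff_mem.2 (hrel a hg i)
  have hsp : (⊤ : Submodule (R ⧸ K) K.Cotangent) ≤ Submodule.span (R ⧸ K) (Set.range c) := by
    intro x _
    obtain ⟨⟨y, hy⟩, rfl⟩ := K.toCotangent_surjective x
    obtain ⟨a, ha⟩ := (Submodule.mem_span_range_iff_exists_fun R).1 (hf.ge hy)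
    rw [Submodule.mem_span_range_iff_exists_fun]
    exact ⟨fun i => Ideal.Quotient.mk K (a i), (hc a).trans (congrArg _ (Subtype.ext ha))⟩
  let b := Module.Basis.mk hli hsp
  let e : (⊤ : Submodule (R ⧸ K) K.Cotangent) ≃ₗ[R ⧸ K] (Fin r → R ⧸ K) :=
    Submodule.topEquiv.trans b.equivFun
  obtain ⟨x, hx, hreg, hspan⟩ := LCI15.exists_regular_of_free_summand K
    (CAlgH3.pd_all (R := R) K) ⊤ ⊥ isCompl_top_bot e
  refine ⟨List.ofFn x, ⟨hreg, ?_⟩, ?_⟩
  swap
  · rw [show Ideal.ofList (List.ofFn x) = Ideal.span (Set.range x) from FlatMorKoszul.ofList_ofFn x]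
    refine le_antisymm (Ideal.span_le.2 (Set.range_subset_iff.2 hx)) ?_
    refine Submodule.le_of_le_smul_of_le_jacobson_bot (I := K) (IsNoetherian.noetherian K)
      ((IsLocalRing.le_maximalIdeal hK).trans (IsLocalRing.maximalIdeal_le_jacobson _)) fun y hy => ?_
    obtain ⟨w, hw⟩ := (Submodule.mem_span_range_iff_exists_fun (R ⧸ K)).1
      (hspan.ge (Submodule.mem_top (x := K.toCotangent ⟨y, hy⟩)))
    choose a ha using fun i => Ideal.Quotient.mk_surjective (w i)
    have h1 : K.toCotangent (∑ i, a i • (⟨x i, hx i⟩ : K)) = K.toCotangent ⟨y, hy⟩ := by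
      rw [← hw, map_sum]
      refine Finset.sum_congr rfl fun i _ => ?_
      rw [map_smul, ← ha i]
      exact (algebraMap_smul (R ⧸ K) (a i) (K.toCotangent ⟨x i, hx i⟩)).symm
    rw [Ideal.toCotangent_eq] at h1
    simp only [Submodule.coe_sum, Submodule.coe_smul_of_tower, smul_eq_mul] at h1
    rw [show y = ∑ i, a i * x i - (∑ i, a i * x i - y) by ring, smul_eq_mul, ← pow_two]
    exact sub_mem (Submodule.mem_sup_left (Ideal.sum_mem _ fun i _ =>
      Ideal.mul_mem_left _ _ (Ideal.subset_span ⟨i, rfl⟩))) (Submodule.mem_sup_right h1)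
  · intro h
    rw [smul_eq_mul, Ideal.mul_top] at h
    refine hK (top_le_iff.1 (h.le.trans (Ideal.span_le.2 ?_)))
    intro y hy
    obtain ⟨i, rfl⟩ := List.mem_ofFn.1 hy
    exact hx i

variable {A : Type u} [CommRing A]

/-- A flat conormal module at a point: local generators. -/
theorem exists_local_generators {P : Type u} [CommRing P] (I : Ideal P) (hI : I.FG)
    [Module.Flat (P ⧸ I) I.Cotangent] (Q : Ideal P) [Q.IsPrime] (hQ : I ≤ Q) :
    ∃ (r : ℕ) (f : Fin r → Localization.AtPrime Q),
      Ideal.span (Set.range f) = I.map (algebraMap P (Localization.AtPrime Q)) ∧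
      ∀ a : Fin r → Localization.AtPrime Q,
        ∑ i, a i * f i ∈ (I.map (algebraMap P (Localization.AtPrime Q))) ^ 2 →
          ∀ i, a i ∈ I.map (algebraMap P (Localization.AtPrime Q)) := by
  classical
  let L := Localization.AtPrime Q
  let J := I.map (algebraMap P L)
  have hJm : J ≤ maximalIdeal L := by
    show J ≤ _
    rw [← Localization.AtPrime.map_eq_maximalIdeal]; exact Ideal.map_mono hQ
  haveI : Nontrivial (L ⧸ J) := Ideal.Quotient.nontrivial_iff.2 fun h =>
    (IsLocalRing.maximalIdeal.isMaximal L).ne_top (top_le_iff.1 (h.ge.trans hJm))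
  haveI : IsLocalRing (L ⧸ J) := IsLocalRing.of_surjective' _ Ideal.Quotient.mk_surjective
  let θ := Ideal.quotientMap J (algebraMap P L) (Ideal.le_comap_map (I := I))
  letI alg : Algebra (P ⧸ I) (L ⧸ J) := θ.toAlgebra
  letI : Module (P ⧸ I) J.Cotangent := Module.compHom _ θ
  haveI : IsScalarTower (P ⧸ I) (L ⧸ J) J.Cotangent := .of_algebraMap_smul fun _ _ => rfl
  haveI : IsScalarTower P (P ⧸ I) J.Cotangent := .of_algebraMap_smul fun r x => by
    show θ (Ideal.Quotient.mk I r) • x = r • x
    rw [← algebraMap_smul L r x, ← algebraMap_smul (L ⧸ J) (algebraMap P L r) x]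
    rfl
  let φ : I.Cotangent →ₗ[P ⧸ I] J.Cotangent :=
    (Synt15.locCot (A := L) I).extendScalarsOfSurjective Ideal.Quotient.mk_surjective
  haveI : IsLocalization (Q.primeCompl.map (Ideal.Quotient.mk I)) (L ⧸ J) :=
    Synt15.isLocalization_quotient_map (A := L) Q.primeCompl I
  haveI : IsLocalizedModule (Q.primeCompl.map (Ideal.Quotient.mk I)) φ :=
    Synt15.isLocalizedModule_of_surjective (S := P ⧸ I) Q.primeCompl φ (by
      have : φ.restrictScalars P = Synt15.locCot (A := L) I := LinearMap.ext fun _ => rfl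
      rw [this]
      exact Synt15.isLocalizedModule_locCot Q.primeCompl I)
  haveI : Module.Flat (L ⧸ J) J.Cotangent :=
    Module.Flat.of_isLocalizedModule (Rp := L ⧸ J) (Q.primeCompl.map (Ideal.Quotient.mk I)) φ
  haveI : Module.Finite (L ⧸ J) J.Cotangent := by
    haveI : Module.Finite L J := Module.Finite.iff_fg.2 (hI.map _)
    haveI : Module.Finite L J.Cotangent := Module.Finite.of_surjective _ J.toCotangent_surjective
    exact Module.Finite.of_restrictScalars_finite L (L ⧸ J) J.Cotangent
  haveI : Module.Free (L ⧸ J) J.Cotangent := Module.free_of_flat_of_isLocalRing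
  let b := Module.finBasis (L ⧸ J) J.Cotangent
  choose f hf using fun i => J.toCotangent_surjective (b i)
  refine ⟨_, fun i => (f i : L), ?_, fun a ha => ?_⟩
  · refine le_antisymm (Ideal.span_le.2 (Set.range_subset_iff.2 fun i => (f i).2)) ?_
    refine Submodule.le_of_le_smul_of_le_jacobson_bot (I := J) (hI.map _)
      (hJm.trans (IsLocalRing.maximalIdeal_le_jacobson _)) fun y hy => ?_
    choose a ha using fun i => Ideal.Quotient.mk_surjective (b.repr (J.toCotangent ⟨y, hy⟩) i)
    have h1 : J.toCotangent (∑ i, a i • f i) = J.toCotangent ⟨y, hy⟩ := by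
      conv_rhs => rw [← b.sum_repr (J.toCotangent ⟨y, hy⟩)]
      rw [map_sum]
      refine Finset.sum_congr rfl fun i _ => ?_
      rw [map_smul, hf, ← ha i]
      exact (algebraMap_smul (L ⧸ J) (a i) (b i)).symm
    rw [Ideal.toCotangent_eq] at h1
    simp only [Submodule.coe_sum, Submodule.coe_smul_of_tower, smul_eq_mul] at h1
    rw [show y = ∑ i, a i * (f i : L) - (∑ i, a i * (f i : L) - y) by ring, smul_eq_mul, ← pow_two]
    exact sub_mem (Submodule.mem_sup_left (Ideal.sum_mem _ fun i _ =>
      Ideal.mul_mem_left _ _ (Ideal.subset_span ⟨i, rfl⟩))) (Submodule.mem_sup_right h1)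
  · have h1 : ∑ i, Ideal.Quotient.mk J (a i) • b i = 0 := by
      have h2 : J.toCotangent (∑ i, a i • f i) = 0 := by
        rw [Ideal.toCotangent_eq_zero]
        simpa using ha
      rw [← h2, map_sum]
      refine Finset.sum_congr rfl fun i _ => ?_
      rw [map_smul, hf]
      exact algebraMap_smul (L ⧸ J) (a i) (b i)
    exact fun i => Ideal.Quotient.eq_zero_iff_mem.1 (Fintype.linearIndependent_iff.1 b.linearIndependent _ h1 i)

attribute [local instance] CommAlg6.isLocalRing_fibLocRing

/-- Fibres of a flat presentation with flat conormal module are complete intersections. -/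
theorem ci_fibre {n : ℕ} {B : Type u} [CommRing B] [Algebra A B] [Module.Flat A B]
    (π : MvPolynomial (Fin n) A →ₐ[A] B) (hπ : Function.Surjective π)
    (hI : (RingHom.ker π.toRingHom).FG)
    [Module.Flat (MvPolynomial (Fin n) A ⧸ RingHom.ker π.toRingHom) (RingHom.ker π.toRingHom).Cotangent]
    (q : Ideal B) [q.IsPrime] : Pi1.IsCompleteIntersection (EGA4.FibLocRing A B q) := by
  classical
  set I := RingHom.ker π.toRingHom with hId
  set Q : Ideal (MvPolynomial (Fin n) A) := q.comap π.toRingHom with hQd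
  have hIQ : I ≤ Q := fun x hx => by
    show π x ∈ q
    rw [show π x = 0 from hx]; exact zero_mem _
  obtain ⟨φ, hφ, hφk⟩ := CAlgH.CIOpen.exists_fib_surjection π hπ q
  haveI : IsRegularLocalRing (EGA4.FibLocRing A (MvPolynomial (Fin n) A) Q) :=
    CAlgH.CIOpen.isRegularLocalRing_fib_mvPolynomial n Q
  haveI := isNoetherianRing_of_surjective _ _ φ hφ
  rw [CAlgH.CIPresentation.isCompleteIntersection_iff φ hφ, hφk]
  obtain ⟨r, f, hf, hrel⟩ := exists_local_generators I hI Q hIQ
  let L := Localization.AtPrime Q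
  let pL : Ideal L := (Q.comap (algebraMap A (MvPolynomial (Fin n) A))).map (algebraMap A L)
  let J := I.map (algebraMap (MvPolynomial (Fin n) A) L)
  haveI : Module.Flat A (L ⧸ J) := by
    haveI : (Q.map (Ideal.Quotient.mk I)).IsPrime :=
      Ideal.map_isPrime_of_surjective Ideal.Quotient.mk_surjective (by rwa [Ideal.mk_ker])
    obtain ⟨e⟩ := SyntomicCut.exists_quotient_atPrime (R := A) I Q hIQ (Q.map (Ideal.Quotient.mk I)) rfl
    haveI : Module.Flat A (MvPolynomial (Fin n) A ⧸ I) :=
      Module.Flat.of_linearEquiv (Ideal.quotientKerAlgEquivOfSurjective hπ).toLinearEquiv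
    haveI : Module.Flat (MvPolynomial (Fin n) A ⧸ I) (Localization.AtPrime (Q.map (Ideal.Quotient.mk I))) :=
      IsLocalization.flat _ (Q.map (Ideal.Quotient.mk I)).primeCompl
    haveI := Module.Flat.trans A (MvPolynomial (Fin n) A ⧸ I) (Localization.AtPrime (Q.map (Ideal.Quotient.mk I)))
    exact Module.Flat.of_linearEquiv e.toLinearEquiv
  show CInt.IsRegularIdeal (J.map (Ideal.Quotient.mk pL))
  have hne : J.map (Ideal.Quotient.mk pL) ≠ ⊤ := by
    have h := RingHom.ker_ne_top φ
    rw [hφk] at h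
    exact h
  refine isRegularIdeal_of_coeff _ hne (fun i => Ideal.Quotient.mk pL (f i)) ?_ ?_
  · show Ideal.span (Set.range (Ideal.Quotient.mk pL ∘ f)) = J.map (Ideal.Quotient.mk pL)
    rw [Set.range_comp, ← Ideal.map_span, hf]
  intro a ha i
  choose a' ha' using fun i => Ideal.Quotient.mk_surjective (a i)
  simp only [← ha', ← map_mul, ← map_sum, ← Ideal.map_pow] at ha ⊢
  obtain ⟨s, hs, hse⟩ := (Ideal.mem_map_iff_of_surjective _ Ideal.Quotient.mk_surjective).1 ha
  have hd : ∑ i, a' i * f i - s ∈ pL := Ideal.Quotient.eq.1 hse.symm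
  have hfJ : ∀ i, f i ∈ J := fun i => hf.le (Ideal.subset_span ⟨i, rfl⟩)
  have hdJ : ∑ i, a' i * f i - s ∈ J := sub_mem
    (Ideal.sum_mem _ fun i _ => Ideal.mul_mem_left _ _ (hfJ i)) (Ideal.pow_le_self two_ne_zero hs)
  have hpJ : pL * J = pL • Ideal.span (Set.range f) := by rw [hf]; rfl
  have hprod := CAlgH.CIOpen.mem_map_mul_of_flat_quotient _ J hdJ hd
  change ∑ i, a' i * f i - s ∈ pL * J at hprod
  rw [hpJ, Ideal.span, Submodule.mem_ideal_smul_span_iff_exists_sum] at hprod
  obtain ⟨ρ, hρ, hρe⟩ := hprod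
  rw [Finsupp.sum_fintype _ _ (by simp)] at hρe
  simp only [smul_eq_mul] at hρe
  have h1 := hrel (fun i => a' i - ρ i) (by
    simp only [sub_mul, Finset.sum_sub_distrib, hρe, sub_sub_cancel]
    exact hs) i
  rw [show a' i = (a' i - ρ i) + ρ i by ring, map_add, Ideal.Quotient.eq_zero_iff_mem.2 (hρ i), add_zero]
  exact Ideal.mem_map_of_mem _ h1

/-- Syntomic algebras are local complete intersection. -/
theorem isLCI_of_isSyntomic {B : Type u} [CommRing B] [Algebra A B] (hS : Synt.IsSyntomic A B) :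
    LCI.IsLCI A B := by
  haveI := hS.1
  haveI := hS.2.1
  obtain ⟨n, α, hα, hI⟩ := Algebra.FinitePresentation.out (R := A) (A := B)
  refine ⟨Algebra.FiniteType.of_surjective α hα, n, α, hα,
    (FlatMorKoszul.isKoszulRegularIdeal_iff _).2 fun Q hQ => ?_⟩
  set I := RingHom.ker α.toRingHom with hId
  haveI : Module.Flat A (MvPolynomial (Fin n) A ⧸ I) :=
    Module.Flat.of_linearEquiv (Ideal.quotientKerAlgEquivOfSurjective hα).toLinearEquiv
  let q : Ideal B := Q.asIdeal.map α
  haveI : q.IsPrime := Ideal.map_isPrime_of_surjective hα hQ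
  have hq : q.comap α.toRingHom = Q.asIdeal := by
    show (Q.asIdeal.map α).comap α = Q.asIdeal
    rw [Ideal.comap_map_of_surjective _ hα, ← RingHom.ker_eq_comap_bot]
    exact sup_eq_left.2 hQ
  obtain ⟨φ, hφ, hφk⟩ := CAlgH.CIOpen.exists_fib_surjection α hα q
  haveI : IsRegularLocalRing (EGA4.FibLocRing A (MvPolynomial (Fin n) A) (q.comap α.toRingHom)) :=
    CAlgH.CIOpen.isRegularLocalRing_fib_mvPolynomial n _
  haveI := isNoetherianRing_of_surjective _ _ φ hφ
  have hreg := hφk ▸ (CAlgH.CIPresentation.isCompleteIntersection_iff φ hφ).1 (Synt15.ci_fibre_of_isSyntomic hS q)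
  obtain ⟨rs, G, hG, hrsI, hgen, hcolon, -⟩ := CAlgH.CIOpen.exists_regular_generators I hI (q.comap α.toRingHom) hreg
  rw [hq] at hG
  let Lg := Localization.Away G
  have hw := CAlgH.CIOpen.isWeaklyRegular_localization (L := Lg) (Submonoid.powers G)
    (Submonoid.mem_powers G) hcolon
  have hl : rs.map (algebraMap _ Lg) = List.ofFn fun i : Fin rs.length => algebraMap _ Lg rs[i] := by
    conv_lhs => rw [← List.ofFn_get rs]
    rw [List.map_ofFn]; rfl
  refine ⟨G, hG, rs.length, fun i => rs[i],
    fun i => hrsI (Ideal.subset_span (List.getElem_mem _)), ?_, ?_⟩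
  · refine CAlgH.KoszulH1.kreg_of_isWeaklyRegular ?_
    rw [← hl]; exact hw
  · rw [CAlgH.CIOpen.map_eq_of_mul_mem (L := Lg) (Submonoid.powers G) (Submonoid.mem_powers G) hrsI hgen,
      Ideal.map_ofList, hl, FlatMorKoszul.ofList_ofFn]

variable {B : Type u} [CommRing B] [Algebra A B]

/-- Flatness of the conormal module of a presentation over `P/I` from flatness over `B`. -/
theorem flat_cotangent (E : Algebra.Extension.{u} A B) (h : Module.Flat B E.Cotangent) :
    Module.Flat (E.Ring ⧸ E.ker) E.ker.Cotangent := by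
  let e := NLPerfect.quotEquiv E
  have hsmul : ∀ (c : E.Ring ⧸ E.ker) (x : E.ker.Cotangent),
      (e c • Algebra.Extension.Cotangent.of x).val = c • x := by
    intro c x
    obtain ⟨c, rfl⟩ := Ideal.Quotient.mk_surjective c
    show (algebraMap E.Ring B c • Algebra.Extension.Cotangent.of x).val = Ideal.Quotient.mk E.ker c • x
    rw [algebraMap_smul, Algebra.Extension.Cotangent.val_smul']
    exact (algebraMap_smul (E.Ring ⧸ E.ker) c x).symm
  rw [Module.Flat.iff_forall_isTrivialRelation]
  intro l f x hx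
  have h0 : ∑ i, e (f i) • Algebra.Extension.Cotangent.of (x i) = (0 : E.Cotangent) := by
    refine (Algebra.Extension.cotangentEquivCotangentKer (P := E)).injective ?_
    rw [map_sum, map_zero, ← hx]
    exact Finset.sum_congr rfl fun i _ => hsmul (f i) (x i)
  obtain ⟨k, a, y, hxy, ha⟩ := Module.Flat.isTrivialRelation_of_sum_smul_eq_zero (R := B) (M := E.Cotangent) h0
  refine ⟨k, fun i j => e.symm (a i j), fun j => (y j).val, fun i => ?_, fun j => ?_⟩
  · have h1 := congrArg (Algebra.Extension.cotangentEquivCotangentKer (P := E)) (hxy i)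
    rw [map_sum] at h1
    refine h1.trans (Finset.sum_congr rfl fun j _ => ?_)
    rw [← hsmul, e.apply_symm_apply]
    rfl
  · apply e.injective
    simp only [map_sum, map_mul, e.apply_symm_apply, map_zero]
    exact ha j

/-- Flat, finitely presented, tor amplitude `[-1,0]` of `NL` gives syntomic. -/
theorem isSyntomic_of_torAmplitude [Module.Flat A B] [Algebra.FinitePresentation A B]
    (h : DRing.HasTorAmplitudeIn B (-1) 0 (LCI.NL A B)) : Synt.IsSyntomic A B := by
  obtain ⟨n, α, hα, hI⟩ := Algebra.FinitePresentation.out (R := A) (A := B)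
  have hval : MvPolynomial.aeval (R := A) (fun i => α (MvPolynomial.X i)) = α :=
    MvPolynomial.algHom_ext fun i => by simp
  let P : Algebra.Generators A B (Fin n) :=
    Algebra.Generators.ofSurjective (fun i => α (MvPolynomial.X i)) (by rw [hval]; exact hα)
  have hk : P.toExtension.ker = RingHom.ker α.toRingHom := by
    show RingHom.ker (MvPolynomial.aeval (R := A) fun i => α (MvPolynomial.X i)).toRingHom = _
    rw [hval]
  let M := NLCx.cx P.toExtension
  have hv : DRing.VanishesOutside M (-1) 0 := fun i hi =>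
    FlatMor12.NLBaseChange.cx_isZero P.toExtension i (by omega) (by omega)
  haveI : Module.Projective B (M.X 0) := by
    haveI : Module.Free B P.toExtension.CotangentSpace := Module.Free.of_basis P.cotangentSpaceBasis
    exact Module.Projective.of_equiv (FlatMor12.NLBaseChange.e₀ P.toExtension).toLinearEquiv.symm
  obtain ⟨e⟩ := NLPerfect.nonempty_NL_iso P
  obtain ⟨E, hE, hEf, ⟨e'⟩⟩ := h
  haveI := FlatMor12.NLBaseChange.flat_left M hv ⟨E, hE, hEf, ⟨e' ≪≫ e.symm⟩⟩
  haveI : Module.Flat B P.toExtension.Cotangent :=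
    Module.Flat.of_linearEquiv (FlatMor12.NLBaseChange.e₁ P.toExtension).toLinearEquiv.symm
  have hflat := flat_cotangent P.toExtension inferInstance
  haveI : Module.Flat (MvPolynomial (Fin n) A ⧸ RingHom.ker α.toRingHom) (RingHom.ker α.toRingHom).Cotangent := by
    revert hflat
    rw [← hk]
    exact id
  exact Synt15.isSyntomic_of_ci inferInstance inferInstance fun q _ => ci_fibre α hα hI q

theorem torAmplitude_iff_isLCI [Module.Flat A B] [Algebra.FinitePresentation A B] :
    DRing.HasTorAmplitudeIn B (-1) 0 (LCI.NL A B) ↔ LCI.IsLCI A B :=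
  ⟨fun h => isLCI_of_isSyntomic (isSyntomic_of_torAmplitude h), fun h => (NLPerfect.perfect_of_isLCI h).2⟩

end Groth.Agent.CAlgH.NLTorAmp
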