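import Groth.Agent.CAlgH.FlatDimension
import Groth.Agent.CAlgH.FibrePd
import Groth.Agent.FlatCrit.Tor
import Groth.Agent.CAlgH3.ProjDim
import Mathlib.RingTheory.Regular.RegularSequence

/-!
# Tor dimension over the base and projective dimension over a flat algebra with regular fibre
-/

universe u

set_option autoImplicit false

open TensorProduct Function IsLocalRing CategoryTheory RingTheory.Sequence

namespace Groth.Agent.CAlgH.RelativeTorDim

open FlatDimension

section General

variable {R : Type u} [CommRing R]

theorem flatDimLE_succ : ∀ {n : ℕ} {M : Type u} [AddCommGroup M] [Module R M],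
    FlatDimLE R n M → FlatDimLE R (n + 1) M
  | 0, M, _, _, h =>
    haveI : Module.Flat R M := h
    ⟨PUnit.{u + 1}, M, inferInstance, inferInstance, inferInstance, inferInstance, inferInstance,
      0, LinearMap.id, fun y => ⟨fun hy => ⟨default, hy.symm⟩, fun ⟨_, hy⟩ => hy.symm⟩,
      surjective_id, injective_of_subsingleton _, (Module.Flat.of_free : Module.Flat R PUnit.{u + 1})⟩
  | n + 1, M, _, _, h => by
    obtain ⟨L, P, _, _, _, _, _, i, p, hip, hp, hi, hL⟩ := h
    exact ⟨L, P, inferInstance, inferInstance, inferInstance, inferInstance, inferInstance, i, p,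
      hip, hp, hi, flatDimLE_succ hL⟩

theorem flatDimLE_mono {m n : ℕ} (hmn : m ≤ n) {M : Type u} [AddCommGroup M] [Module R M]
    (h : FlatDimLE R m M) : FlatDimLE R n M := by
  induction n, hmn using Nat.le_induction with
  | base => exact h
  | succ n _ ih => exact flatDimLE_succ ih

theorem torVanish_of_flatDimLE : ∀ (k : ℕ) {M : Type u} [AddCommGroup M] [Module R M],
    FlatDimLE R k M → ∀ (L : Type u) [AddCommGroup L] [Module R L],
      EGA43.PdFlat.Syz (R := R) k L → FlatCrit.TorVanish R L M
  | 0, M, _, _, h, L, _, _, _ =>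
    haveI : Module.Flat R M := h
    Tor15.torVanish_of_flat
  | k + 1, M, _, _, h, L, _, _, hL => by
    obtain ⟨L', P, _, _, _, _, _, i, p, hip, hp, hi, hL'⟩ := hL
    obtain ⟨K, F, _, _, _, _, _, j, q, hjq, hq, hj, hK⟩ := h
    exact Tor15.torVanish_shift hip hp hi hjq hq hj
      (Tor15.torVanish_symm (torVanish_of_flatDimLE k hK L' hL'))

theorem hasTorDimLE_of_flatDimLE {n : ℕ} {M : Type u} [AddCommGroup M] [Module R M]
    (h : FlatDimLE R n M) : DRing.HasTorDimLE R n M := by
  intro N _ _ p hp
  rcases p with - | - | k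
  · omega
  · obtain rfl : n = 0 := by omega
    haveI : Module.Flat R M := h
    exact ModuleCat.subsingleton_of_isZero
      ((CAlgH3.isZero_tor_one_iff M N).2 Tor15.torVanish_of_flat)
  · have h' := flatDimLE_mono (show n ≤ k + 1 by omega) h
    obtain ⟨F, _, _, hF, d, q, hq, h0, hd, hT⟩ := EGA43.PdFlat.exists_syzygy_data (R := R) M N
    have hs : ∀ m, EGA43.PdFlat.Syz (R := R) (m + 1) (LinearMap.range (d m)) := by
      intro m
      induction m with
      | zero =>
        exact ⟨N, F 0, inferInstance, inferInstance, inferInstance, inferInstance, hF 0,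
          (LinearMap.range (d 0)).subtype, q,
          by rw [LinearMap.exact_iff, Submodule.range_subtype, h0], hq,
          Submodule.injective_subtype _, trivial⟩
      | succ m ih =>
        exact ⟨_, F (m + 1), inferInstance, inferInstance, inferInstance, inferInstance,
          hF (m + 1), (LinearMap.range (d (m + 1))).subtype, (d m).rangeRestrict,
          by rw [LinearMap.exact_iff, LinearMap.ker_rangeRestrict, Submodule.range_subtype, hd],
          (d m).surjective_rangeRestrict, Submodule.injective_subtype _, ih⟩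
    exact ModuleCat.subsingleton_of_isZero ((hT k).2
      ((EGA43.PdFlat.torVanish_iff_exact (d (k + 2)) (d (k + 1)) (d k) (hd (k + 1)) (hd k)).1
        (Tor15.torVanish_symm (torVanish_of_flatDimLE (k + 1) h' _ (hs k)))))

theorem flatDimLE_of_pd : ∀ (n : ℕ) {M : Type u} [AddCommGroup M] [Module R M],
    CAlgH3.PD R (n + 1) M → FlatDimLE R n M
  | 0, M, _, _, h =>
    haveI := CAlgH3.pd_one_iff.1 h
    (inferInstance : Module.Flat R M)
  | n + 1, M, _, _, h => by
    let g : (M →₀ R) →ₗ[R] M := Finsupp.linearCombination R id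
    have hg : Surjective g := fun m => ⟨Finsupp.single m 1, by simp [g]⟩
    exact ⟨_, _, inferInstance, inferInstance, inferInstance, inferInstance, inferInstance,
      (LinearMap.ker g).subtype, g, LinearMap.exact_subtype_ker_map g, hg, Submodule.injective_subtype _,
      flatDimLE_of_pd n ((CAlgH3.pd_ker_iff hg n).1 h)⟩

/-- Quotients by weakly regular sequences have small projective dimension. -/
theorem pd_quotient : ∀ (rs : List R) {n : ℕ} (M : Type u) [AddCommGroup M] [Module R M],
    IsWeaklyRegular M rs → CAlgH3.PD R n M →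
      CAlgH3.PD R (n + rs.length) (M ⧸ (Ideal.ofList rs • (⊤ : Submodule R M)))
  | [], n, M, _, _, _, h =>
    (CAlgH3.pd_congr (Submodule.quotEquivOfEqBot _ (by simp))).2 h
  | x :: rs, n, M, _, _, hreg, h => by
    obtain ⟨hx, hrs⟩ := (isWeaklyRegular_cons_iff M x rs).1 hreg
    have h1 : CAlgH3.PD R (n + 1) (QuotSMulTop x M) :=
      (CAlgH3.pd_of_ses (LinearMap.lsmul R M x) (Submodule.mkQ _) hx (Submodule.mkQ_surjective _) (by
        rw [LinearMap.exact_iff, Submodule.ker_mkQ]
        ext y
        simp [Submodule.mem_smul_pointwise_iff_exists])).2.2 h (CAlgH3.pd_mono (Nat.le_succ n) h)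
    have h2 := pd_quotient rs (QuotSMulTop x M) hrs h1
    rw [List.length_cons, show n + (rs.length + 1) = n + 1 + rs.length by omega]
    exact (CAlgH3.pd_congr (Submodule.quotOfListConsSMulTopEquivQuotSMulTopInner M x rs)).2 h2

end General

section Fibre

variable {A T : Type u} [CommRing A] [IsLocalRing A] [IsNoetherianRing A] [CommRing T] [IsLocalRing T]
  [IsNoetherianRing T] [Algebra A T] [IsLocalHom (algebraMap A T)] [Module.Flat A T]
  [IsRegularLocalRing (T ⧸ (maximalIdeal A).map (algebraMap A T))]

omit [IsLocalRing A] [IsNoetherianRing A] in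
theorem isLocalHom_le [IsLocalRing A] :
    (maximalIdeal A).map (algebraMap A T) ≤ Ideal.jacobson ⊥ :=
  (IsLocalRing.map_maximalIdeal_le _).trans (maximalIdeal_le_jacobson _)

attribute [local instance] Algebra.TensorProduct.rightAlgebra in
theorem exists_pd_of_dim : ∀ (j : ℕ) (M : Type u) [AddCommGroup M] [Module T M] [Module A M]
    [IsScalarTower A T M] [Module.Finite T M],
    Tor15.Dim (R := A) j M (A ⧸ maximalIdeal A) → ∃ n : ℕ, CAlgH3.PD T (n + 1) M
  | 0, M, _, _, _, _, _, h => by
    have hflat : Module.Flat A M := FlatCrit.flat_of_rTensor_injective (S := T) (maximalIdeal A)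
      isLocalHom_le (Tor15.torVanish_symm h (maximalIdeal A).subtype (Submodule.mkQ _)
        (LinearMap.exact_subtype_mkQ (maximalIdeal A)) (Submodule.mkQ_surjective _) Subtype.val_injective)
      (FlatCrit.quotFlat_of_field _)
    let k := A ⧸ maximalIdeal A
    let D := T ⊗[A] k
    let e : (T ⧸ (maximalIdeal A).map (algebraMap A T)) ≃ₐ[T] D :=
      Algebra.TensorProduct.quotIdealMapEquivTensorQuot T (maximalIdeal A)
    have hD : IsRegularLocalRing D := IsRegularLocalRing.of_ringEquiv e.toRingEquiv
    have hTD : Surjective (algebraMap T D) := fun x => by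
      obtain ⟨y, rfl⟩ := e.surjective x
      obtain ⟨t, rfl⟩ := Ideal.Quotient.mk_surjective y
      exact ⟨t, (e.commutes t).symm⟩
    have : Algebra.IsPushout A k T D := Algebra.IsPushout.symm inferInstance
    exact ⟨_, FibrePd.pd_of_fibre (A := A) (k := k) hTD _ M (CAlgH3.pd_all (R := D) (D ⊗[T] M))⟩
  | j + 1, M, _, _, _, _, _, h => by
    obtain ⟨r, f, hf⟩ := Module.Finite.exists_fin' T M
    have : Module.Flat A (Fin r → T) := Module.Flat.trans A T _
    have : Module.Finite T (LinearMap.ker f) := Module.IsNoetherian.finite T _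
    obtain ⟨n, hn⟩ := exists_pd_of_dim j (LinearMap.ker f)
      (Tor15.dim_shift j ((LinearMap.ker f).subtype.restrictScalars A) (f.restrictScalars A)
        (LinearMap.exact_subtype_ker_map f) hf Subtype.val_injective h)
    exact ⟨n + 1, (CAlgH3.pd_ker_iff hf n).2 hn⟩

end Fibre

end Groth.Agent.CAlgH.RelativeTorDim
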