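import Groth.Agent.CAlgH.NLTorAmp
import Groth.Agent.CAlgH.RelativeTorDim
import Groth.Agent.FlatMorKoszul.Fibre
import Mathlib

/-! Finite tor dimension: tor amplitude `[-1,0]` of `NL` gives local complete intersection. -/

set_option autoImplicit false
set_option linter.style.haveILetI false
set_option backward.isDefEq.respectTransparency false
universe u

open CategoryTheory CategoryTheory.Limits IsLocalRing Function TensorProduct
attribute [local instance] HasDerivedCategory.standard

namespace Groth.Agent.CAlgH.NLTorDim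

open FlatDimension

/-- Generators with the coefficient property of an ideal of finite projective dimension in a Noetherian
local ring can be replaced by a regular sequence. -/
theorem exists_regular_of_coeff {R : Type u} [CommRing R] [IsLocalRing R] [IsNoetherianRing R]
    (K : Ideal R) (hK : K ≠ ⊤) {n : ℕ} (hpd : CAlgH3.PD R n K)
    {r : ℕ} (f : Fin r → R) (hf : Ideal.span (Set.range f) = K)
    (hrel : ∀ a : Fin r → R, ∑ i, a i * f i ∈ K ^ 2 → ∀ i, a i ∈ K) :
    ∃ x : Fin r → R, RingTheory.Sequence.IsWeaklyRegular R (List.ofFn x) ∧ Ideal.span (Set.range x) = K := by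
  classical
  let c : Fin r → K.Cotangent := fun i => K.toCotangent ⟨f i, hf.le (Ideal.subset_span ⟨i, rfl⟩)⟩
  have hc : ∀ a : Fin r → R, ∑ i, Ideal.Quotient.mk K (a i) • c i =
      K.toCotangent ⟨∑ i, a i * f i, Ideal.sum_mem _ fun i _ =>
        Ideal.mul_mem_left _ _ (hf.le (Ideal.subset_span ⟨i, rfl⟩))⟩ := by
    intro a
    rw [show (⟨∑ i, a i * f i, Ideal.sum_mem _ fun i _ =>
        Ideal.mul_mem_left _ _ (hf.le (Ideal.subset_span ⟨i, rfl⟩))⟩ : K) =
        ∑ i, a i • (⟨f i, hf.le (Ideal.subset_span ⟨i, rfl⟩)⟩ : K) from Subtype.ext (by simp), map_sum]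
    refine Finset.sum_congr rfl fun i _ => ?_
    rw [map_smul]
    exact algebraMap_smul (R ⧸ K) (a i) (c i)
  have hli : LinearIndependent (R ⧸ K) c := by
    rw [Fintype.linearIndependent_iff]
    intro g hg i
    choose a ha using fun i => Ideal.Quotient.mk_surjective (g i)
    rw [show g = fun i => Ideal.Quotient.mk K (a i) from funext fun i => (ha i).symm] at hg ⊢
    rw [hc, Ideal.toCotangent_eq_zero] at hg
    exact Ideal.Quotient.eq_zero_iff_mem.2 (hrel a hg i)
  have hsp : (⊤ : Submodule (R ⧸ K) K.Cotangent) ≤ Submodule.span (R ⧸ K) (Set.range c) := by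
    intro x _
    obtain ⟨⟨y, hy⟩, rfl⟩ := K.toCotangent_surjective x
    obtain ⟨a, ha⟩ := (Submodule.mem_span_range_iff_exists_fun R).1 (hf.ge hy)
    rw [Submodule.mem_span_range_iff_exists_fun]
    exact ⟨fun i => Ideal.Quotient.mk K (a i), (hc a).trans (congrArg _ (Subtype.ext ha))⟩
  let b := Module.Basis.mk hli hsp
  let e : (⊤ : Submodule (R ⧸ K) K.Cotangent) ≃ₗ[R ⧸ K] (Fin r → R ⧸ K) :=
    Submodule.topEquiv.trans b.equivFun
  obtain ⟨x, hx, hreg, hspan⟩ := LCI15.exists_regular_of_free_summand K hpd ⊤ ⊥ isCompl_top_bot e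
  refine ⟨x, hreg, ?_⟩
  refine le_antisymm (Ideal.span_le.2 (Set.range_subset_iff.2 hx)) ?_
  refine Submodule.le_of_le_smul_of_le_jacobson_bot (I := K) (IsNoetherian.noetherian K)
    ((IsLocalRing.le_maximalIdeal hK).trans (IsLocalRing.maximalIdeal_le_jacobson _)) fun y hy => ?_
  obtain ⟨w, hw⟩ := (Submodule.mem_span_range_iff_exists_fun (R ⧸ K)).1
    (hspan.ge (Submodule.mem_top (x := K.toCotangent ⟨y, hy⟩)))
  choose a ha using fun i => Ideal.Quotient.mk_surjective (w i)
  have h1 : K.toCotangent (∑ i, a i • (⟨x i, hx i⟩ : K)) = K.toCotangent ⟨y, hy⟩ := by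
    rw [← hw, map_sum]
    refine Finset.sum_congr rfl fun i _ => ?_
    rw [map_smul, ← ha i]
    exact (algebraMap_smul (R ⧸ K) (a i) (K.toCotangent ⟨x i, hx i⟩)).symm
  rw [Ideal.toCotangent_eq] at h1
  simp only [Submodule.coe_sum, Submodule.coe_smul_of_tower, smul_eq_mul] at h1
  rw [show y = ∑ i, a i * x i - (∑ i, a i * x i - y) by ring, smul_eq_mul, ← pow_two]
  exact sub_mem (Submodule.mem_sup_left (Ideal.sum_mem _ fun i _ =>
    Ideal.mul_mem_left _ _ (Ideal.subset_span ⟨i, rfl⟩))) (Submodule.mem_sup_right h1)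

section TorDim

variable {A A' B : Type u} [CommRing A] [CommRing A'] [CommRing B] [Algebra A A'] [Algebra A B]
  (S : Submonoid A) [IsLocalization S A']
  {M : Type u} [AddCommGroup M] [Module A M] [Module A' M] [IsScalarTower A A' M] [Module B M]
  [IsScalarTower A B M] [Module.Flat B M]

include S in
/-- `Tor₁` of a module over a localization with a module flat over `B`. -/
theorem torVanish_of_flat_tensor {L : Type u} [AddCommGroup L] [Module A L] [Module A' L]
    [IsScalarTower A A' L] (h : FlatCrit.TorVanish A B L) : FlatCrit.TorVanish A' M L := by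
  intro K F _ _ _ _ i p hip hp hi
  let _ : Module A K := Module.compHom K (algebraMap A A')
  let _ : Module A F := Module.compHom F (algebraMap A A')
  have : IsScalarTower A A' K := .of_algebraMap_smul fun _ _ => rfl
  have : IsScalarTower A A' F := .of_algebraMap_smul fun _ _ => rfl
  let iA := i.restrictScalars A
  have h1 : Injective (iA.rTensor B) := h iA (p.restrictScalars A) hip hp hi
  have h2 : Injective (iA.baseChange B) := (LinearMap.lTensor_inj_iff_rTensor_inj B iA).2 h1
  have h3 := Module.Flat.lTensor_preserves_injective_linearMap (M := M) _ h2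
  have hnat : ∀ y, iA.lTensor M (AlgebraTensorModule.cancelBaseChange A B B M K y) =
      AlgebraTensorModule.cancelBaseChange A B B M F ((iA.baseChange B).lTensor M y) := by
    intro y
    induction y using TensorProduct.induction_on with
    | zero => simp
    | tmul m z =>
      induction z using TensorProduct.induction_on with
      | zero => simp
      | tmul b k => simp
      | add z z' hz hz' => simp only [tmul_add, map_add, hz, hz']
    | add y y' hy hy' => simp only [map_add, hy, hy']
  have h4 : Injective (iA.lTensor M) := by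
    intro x y hxy
    obtain ⟨x, rfl⟩ := (AlgebraTensorModule.cancelBaseChange A B B M K).surjective x
    obtain ⟨y, rfl⟩ := (AlgebraTensorModule.cancelBaseChange A B B M K).surjective y
    rw [hnat, hnat] at hxy
    rw [h3 ((AlgebraTensorModule.cancelBaseChange A B B M F).injective hxy)]
  rw [← LinearMap.lTensor_inj_iff_rTensor_inj]
  let eK := IsLocalization.moduleTensorEquiv S A' M K
  let eF := IsLocalization.moduleTensorEquiv S A' M F
  have hnat' : ∀ y, eF (i.lTensor M y) = iA.lTensor M (eK y) := by
    intro y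
    induction y using TensorProduct.induction_on with
    | zero => simp
    | tmul m k => rfl
    | add y y' hy hy' => simp only [map_add, hy, hy']
  intro x y hxy
  refine eK.injective (h4 ?_)
  rw [← hnat', ← hnat', hxy]

include S in
/-- Tor dimension over a localization of a module flat over an algebra of finite flat dimension. -/
theorem dim_of_flatDimLE : ∀ (j k : ℕ) (N : Type u) [AddCommGroup N] [Module A N] [Module A' N]
    [IsScalarTower A A' N], EGA43.PdFlat.Syz (R := A) k N → FlatDimLE A (j + k) B →
      Tor15.Dim (R := A') j M N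
  | 0, k, N, _, _, _, _, hS, hB => by
    rw [Nat.zero_add] at hB
    exact Tor15.torVanish_symm (torVanish_of_flat_tensor (B := B) (M := M) S
      (Tor15.torVanish_symm (RelativeTorDim.torVanish_of_flatDimLE k hB N hS)))
  | j + 1, k, N, _, _, _, _, hS, hB => by
    let g : (N →₀ A') →ₗ[A'] N := Finsupp.linearCombination A' id
    have hg : Surjective g := fun n => ⟨Finsupp.single n 1, by simp [g]⟩
    have := IsLocalization.flat A' S
    have : Module.Flat A (N →₀ A') := Module.Flat.trans A A' _
    have hS' : EGA43.PdFlat.Syz (R := A) (k + 1) (LinearMap.ker g) :=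
      ⟨N, N →₀ A', inferInstance, inferInstance, inferInstance, inferInstance, inferInstance,
        (LinearMap.ker g).subtype.restrictScalars A, g.restrictScalars A,
        LinearMap.exact_subtype_ker_map g, hg, Subtype.val_injective, hS⟩
    have hrec : Tor15.Dim (R := A') j M (LinearMap.ker g) :=
      dim_of_flatDimLE j (k + 1) (LinearMap.ker g) hS' (by rwa [show j + (k + 1) = j + 1 + k by omega])
    exact ⟨_, _, inferInstance, inferInstance, inferInstance, inferInstance, inferInstance,
      (LinearMap.ker g).subtype, g, LinearMap.exact_subtype_ker_map g, hg, Subtype.val_injective, hrec⟩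

end TorDim

/-- An ideal with flat quotient over an algebra of finite flat dimension has finite projective dimension
in a flat local algebra with regular fibre. -/
theorem exists_pd_of_flat {A A' T B : Type u} [CommRing A] [CommRing A'] [CommRing T] [CommRing B]
    [IsLocalRing A'] [IsNoetherianRing A'] [IsLocalRing T] [IsNoetherianRing T]
    [Algebra A A'] (S : Submonoid A) [IsLocalization S A'] [Algebra A T] [Algebra A' T] [IsScalarTower A A' T]
    [IsLocalHom (algebraMap A' T)] [Module.Flat A' T]
    [IsRegularLocalRing (T ⧸ (maximalIdeal A').map (algebraMap A' T))]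
    (J : Ideal T) [Algebra A B] [Algebra B (T ⧸ J)] [IsScalarTower A B (T ⧸ J)] [Module.Flat B (T ⧸ J)]
    {d : ℕ} (hd : FlatDimLE A d B) : ∃ m : ℕ, CAlgH3.PD T m J := by
  have hdim : Tor15.Dim (R := A') d (T ⧸ J) (A' ⧸ maximalIdeal A') :=
    dim_of_flatDimLE (B := B) S d 0 _ trivial hd
  obtain ⟨m, hm⟩ := RelativeTorDim.exists_pd_of_dim (A := A') (T := T) d (T ⧸ J) hdim
  have h2 : CAlgH3.PD T (m + 2) (T ⧸ J) := CAlgH3.pd_mono (Nat.le_succ _) hm
  exact ⟨m + 1, (CAlgH3.pd_congr (LinearEquiv.ofEq _ _ (Submodule.ker_mkQ J))).1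
    ((CAlgH3.pd_ker_iff (f := Submodule.mkQ J) (Submodule.mkQ_surjective _) m).1 h2)⟩

/-- The same at a prime of a flat algebra with regular fibres. -/
theorem exists_pd_atPrime {A P : Type u} [CommRing A] [IsNoetherianRing A] [CommRing P] [IsNoetherianRing P]
    [Algebra A P] [Module.Flat A P] (I Q : Ideal P) [Q.IsPrime]
    [IsRegularLocalRing (EGA4.FibLocRing A P Q)]
    {d : ℕ} (hd : FlatDimLE A d (P ⧸ I)) :
    ∃ m : ℕ, CAlgH3.PD (Localization.AtPrime Q) m (I.map (algebraMap P (Localization.AtPrime Q))) := by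
  let T := Localization.AtPrime Q
  let J : Ideal T := I.map (algebraMap P T)
  let p : Ideal A := Q.comap (algebraMap A P)
  let A' := Localization.AtPrime p
  let φ := Localization.localRingHom p Q (algebraMap A P) rfl
  let _ : Algebra A' T := φ.toAlgebra
  have : IsScalarTower A A' T := IsScalarTower.of_algebraMap_eq fun a =>
    ((Localization.localRingHom_to_map p Q (algebraMap A P) rfl a).trans
      (IsScalarTower.algebraMap_apply A P T a).symm).symm
  have : IsLocalHom (algebraMap A' T) := Localization.isLocalHom_localRingHom p Q (algebraMap A P) rfl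
  have : Module.Flat A T :=
    haveI := IsLocalization.flat T Q.primeCompl
    Module.Flat.trans A P T
  have : Module.Flat A' T := (Module.flat_iff_of_isLocalization A' p.primeCompl T).2 this
  have : IsRegularLocalRing (T ⧸ (maximalIdeal A').map (algebraMap A' T)) := by
    rw [← Localization.AtPrime.map_eq_maximalIdeal, Ideal.map_map, ← IsScalarTower.algebraMap_eq]
    exact ‹IsRegularLocalRing (EGA4.FibLocRing A P Q)›
  let θ := Ideal.quotientMap J (algebraMap P T) (Ideal.le_comap_map (I := I))
  let _ : Algebra (P ⧸ I) (T ⧸ J) := θ.toAlgebra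
  have : IsScalarTower A (P ⧸ I) (T ⧸ J) := IsScalarTower.of_algebraMap_eq fun a => by
    show Ideal.Quotient.mk J (algebraMap A T a) =
      Ideal.Quotient.mk J (algebraMap P T (algebraMap A P a))
    rw [← IsScalarTower.algebraMap_apply]
  have : IsLocalization (Q.primeCompl.map (Ideal.Quotient.mk I)) (T ⧸ J) :=
    Synt15.isLocalization_quotient_map (A := T) Q.primeCompl I
  have := IsLocalization.flat (T ⧸ J) (Q.primeCompl.map (Ideal.Quotient.mk I))
  exact exists_pd_of_flat (A' := A') (B := P ⧸ I) p.primeCompl J hd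

variable {A : Type u} [CommRing A] [IsNoetherianRing A]

/-- A presentation with flat conormal module and finite tor dimension is Koszul regular. -/
theorem isKoszulRegularIdeal {n : ℕ} (I : Ideal (MvPolynomial (Fin n) A))
    [Module.Flat (MvPolynomial (Fin n) A ⧸ I) I.Cotangent]
    {d : ℕ} (hd : FlatDimLE A d (MvPolynomial (Fin n) A ⧸ I)) : LCI.IsKoszulRegularIdeal I := by
  classical
  refine (FlatMorKoszul.isKoszulRegularIdeal_iff I).2 fun Q hQ => ?_
  let T := Localization.AtPrime Q.asIdeal
  haveI := CAlgH.CIOpen.isRegularLocalRing_fib_mvPolynomial n Q.asIdeal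
  obtain ⟨m, hm⟩ := exists_pd_atPrime I Q.asIdeal hd
  obtain ⟨r, f, hf, hrel⟩ := NLTorAmp.exists_local_generators I (IsNoetherian.noetherian I) Q.asIdeal hQ
  set J := I.map (algebraMap (MvPolynomial (Fin n) A) T) with hJ
  have hne : J ≠ ⊤ := fun h => (IsLocalRing.maximalIdeal.isMaximal T).ne_top (top_le_iff.1 (h.ge.trans (by
    rw [← Localization.AtPrime.map_eq_maximalIdeal]; exact Ideal.map_mono hQ)))
  obtain ⟨x, hx, hspan⟩ := exists_regular_of_coeff J hne hm f hf hrel
  have hfac : ∀ i, ∃ (c : MvPolynomial (Fin n) A) (u : T), c ∈ I ∧ IsUnit u ∧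
      algebraMap _ T c = x i * u := by
    intro i
    obtain ⟨⟨c, t⟩, ht⟩ := (IsLocalization.mem_map_algebraMap_iff Q.asIdeal.primeCompl T).1
      (show x i ∈ J from hspan ▸ Ideal.subset_span ⟨i, rfl⟩)
    exact ⟨c, algebraMap (MvPolynomial (Fin n) A) T t, c.2, IsLocalization.map_units T t, ht.symm⟩
  choose c u hc hu hcu using hfac
  have hs : Ideal.span (Set.range fun i => algebraMap _ T (c i)) = Ideal.span (Set.range x) := by
    refine le_antisymm (Ideal.span_le.2 ?_) (Ideal.span_le.2 ?_)
    · rintro _ ⟨i, rfl⟩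
      show algebraMap _ T (c i) ∈ Ideal.span (Set.range x)
      rw [hcu]
      exact Ideal.mul_mem_right _ _ (Ideal.subset_span ⟨i, rfl⟩)
    · rintro _ ⟨i, rfl⟩
      refine (Ideal.mul_unit_mem_iff_mem _ (hu i)).1 ?_
      rw [← hcu]
      exact Ideal.subset_span ⟨i, rfl⟩
  exact FlatMorKoszul.KAt.of_atPrime hQ c hc
    (CAlgH.KoszulRegular.kreg_of_span_eq (CAlgH.KoszulH1.kreg_of_isWeaklyRegular hx) hs) (by rw [hs, hspan])

/-- Finite tor dimension and tor amplitude `[-1,0]` of `NL` give local complete intersection. -/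
theorem isLCI_of_torAmplitude {B : Type u} [CommRing B] [Algebra A B] [Algebra.FiniteType A B]
    (hB : DRing.HasFiniteTorDim A B) (h : DRing.HasTorAmplitudeIn B (-1) 0 (LCI.NL A B)) :
    LCI.IsLCI A B := by
  obtain ⟨n, α, hα⟩ := Algebra.FiniteType.iff_quotient_mvPolynomial''.1 ‹Algebra.FiniteType A B›
  have hval : MvPolynomial.aeval (R := A) (fun i => α (MvPolynomial.X i)) = α :=
    MvPolynomial.algHom_ext fun i => by simp
  let P : Algebra.Generators A B (Fin n) :=
    Algebra.Generators.ofSurjective (fun i => α (MvPolynomial.X i)) (by rw [hval]; exact hα)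
  have hk : P.toExtension.ker = RingHom.ker α.toRingHom := by
    show RingHom.ker (MvPolynomial.aeval (R := A) fun i => α (MvPolynomial.X i)).toRingHom = _
    rw [hval]
  let M := NLCx.cx P.toExtension
  have hv : DRing.VanishesOutside M (-1) 0 := fun i hi =>
    FlatMor12.NLBaseChange.cx_isZero P.toExtension i (by omega) (by omega)
  haveI : Module.Projective B (M.X 0) := by
    haveI : Module.Free B P.toExtension.CotangentSpace := Module.Free.of_basis P.cotangentSpaceBasis
    exact Module.Projective.of_equiv (FlatMor12.NLBaseChange.e₀ P.toExtension).toLinearEquiv.symm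
  obtain ⟨e⟩ := NLPerfect.nonempty_NL_iso P
  obtain ⟨E, hE, hEf, ⟨e'⟩⟩ := h
  haveI := FlatMor12.NLBaseChange.flat_left M hv ⟨E, hE, hEf, ⟨e' ≪≫ e.symm⟩⟩
  haveI : Module.Flat B P.toExtension.Cotangent :=
    Module.Flat.of_linearEquiv (FlatMor12.NLBaseChange.e₁ P.toExtension).toLinearEquiv.symm
  have hflat := NLTorAmp.flat_cotangent P.toExtension inferInstance
  haveI : Module.Flat (MvPolynomial (Fin n) A ⧸ RingHom.ker α.toRingHom) (RingHom.ker α.toRingHom).Cotangent := by
    revert hflat
    rw [← hk]
    exact id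
  obtain ⟨d, hd⟩ := hB
  exact ⟨inferInstance, n, α, hα, isKoszulRegularIdeal (RingHom.ker α.toRingHom)
    ((flatDimLE_of_hasTorDimLE hd).congr
      (Ideal.quotientKerAlgEquivOfSurjective hα).symm.toLinearEquiv)⟩

theorem torAmplitude_iff_isLCI {B : Type u} [CommRing B] [Algebra A B] [Algebra.FiniteType A B]
    (hB : DRing.HasFiniteTorDim A B) :
    DRing.HasTorAmplitudeIn B (-1) 0 (LCI.NL A B) ↔ LCI.IsLCI A B :=
  ⟨isLCI_of_torAmplitude hB, fun h => (NLPerfect.perfect_of_isLCI h).2⟩

end Groth.Agent.CAlgH.NLTorDim
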