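import Mathlib
import Groth.Prelude.Def_Found
import Groth.Agent.CAlgH.NagataFiniteType
import Groth.Agent.CAlgH.RegularSmooth
import Groth.Agent.HenselLib.HullNoeth

/-! The Nagata property descends along smooth surjective maps. -/

universe u
set_option autoImplicit false
open CAlg TensorProduct

namespace Groth.Agent.CAlgH.NagataDescent

/-- a field generated by a field `F` and the image of a finite extension of a subfield is finite over `F` -/
theorem finiteDimensional_of_gen {K L F E : Type u} [Field K] [Field L] [Field F] [Field E] [Algebra K L]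
    [FiniteDimensional K L] [Algebra F E] (h : K →+* F) (g : L →+* E)
    (hcomm : (algebraMap F E).comp h = g.comp (algebraMap K L))
    (hgen : ∀ z : E, ∀ W : IntermediateField F E, (∀ l, g l ∈ W) → z ∈ W) :
    FiniteDimensional F E := by
  let b := Module.finBasis K L
  let W := IntermediateField.adjoin F (Set.range fun i => g (b i))
  haveI : FiniteDimensional F W := IntermediateField.finiteDimensional_adjoin (by
    rintro _ ⟨i, rfl⟩
    exact (IsIntegral.of_finite K (b i)).map_of_comp_eq h g hcomm)
  have hW : ∀ l, g l ∈ W := fun l => by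
    rw [← b.sum_repr l, map_sum]
    refine W.sum_mem fun i _ => ?_
    rw [Algebra.smul_def, map_mul, show g (algebraMap K L (b.repr l i)) = algebraMap F E (h (b.repr l i)) from
      (RingHom.congr_fun hcomm _).symm]
    exact W.mul_mem (W.algebraMap_mem _) (IntermediateField.subset_adjoin F _ ⟨i, rfl⟩)
  have htop : W = ⊤ := eq_top_iff.mpr fun z _ => hgen z W hW
  exact LinearEquiv.finiteDimensional
    ((IntermediateField.equivOfEq htop).trans IntermediateField.topEquiv).toLinearEquiv

/-- the integral closure of `S` in a residue field of `S ⊗ L` is finite -/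
theorem finite_ic_residueField {R S L : Type u} [CommRing R] [IsDomain R] [CommRing S] [Algebra R S]
    (hS : IsNagata S) [Field L] [Algebra R L] [Algebra (FractionRing R) L]
    [IsScalarTower R (FractionRing R) L] [FiniteDimensional (FractionRing R) L]
    (E : Type u) [Field E] [Algebra (S ⊗[R] L) E] [Algebra S E] [IsScalarTower S (S ⊗[R] L) E]
    (hE : ∀ z : E, ∃ a b, z = algebraMap (S ⊗[R] L) E a / algebraMap (S ⊗[R] L) E b) :
    Module.Finite S (integralClosure S E) := by
  haveI := hS.1
  let K := FractionRing R
  let q := RingHom.ker (algebraMap S E)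
  haveI : q.IsPrime := RingHom.ker_isPrime _
  let F := FractionRing (S ⧸ q)
  letI : Algebra (S ⧸ q) E := (RingHom.kerLift (algebraMap S E)).toAlgebra
  haveI : IsScalarTower S (S ⧸ q) E := IsScalarTower.of_algebraMap_eq fun _ => rfl
  have hinj : Function.Injective (algebraMap (S ⧸ q) E) := RingHom.kerLift_injective (algebraMap S E)
  haveI : Module.IsTorsionFree (S ⧸ q) E := Module.isTorsionFree_iff_algebraMap_injective.mpr hinj
  letI : Algebra F E := FractionRing.liftAlgebra (S ⧸ q) E
  haveI : IsScalarTower (S ⧸ q) F E := FractionRing.isScalarTower_liftAlgebra (S ⧸ q) E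
  let g : L →+* E := (algebraMap (S ⊗[R] L) E).comp
    (Algebra.TensorProduct.includeRight : L →ₐ[R] S ⊗[R] L).toRingHom
  let j : R →+* F := (algebraMap (S ⧸ q) F).comp ((Ideal.Quotient.mk q).comp (algebraMap R S))
  have hjg : ∀ r, algebraMap F E (j r) = g (algebraMap R L r) := fun r => by
    simp only [j, RingHom.comp_apply]
    rw [← IsScalarTower.algebraMap_apply (S ⧸ q) F E]
    show algebraMap S E (algebraMap R S r) = _
    rw [IsScalarTower.algebraMap_apply S (S ⊗[R] L) E]
    show _ = algebraMap (S ⊗[R] L) E ((1 : S) ⊗ₜ[R] algebraMap R L r)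
    congr 1
    rw [Algebra.TensorProduct.algebraMap_apply, Algebra.algebraMap_self, RingHom.id_apply,
      Algebra.algebraMap_eq_smul_one, TensorProduct.smul_tmul, Algebra.algebraMap_eq_smul_one]
  have hj : Function.Injective j := by
    rw [injective_iff_map_eq_zero]
    intro r hr
    have h0 := hjg r
    rw [hr, map_zero] at h0
    have h1 := (_root_.map_eq_zero g).mp h0.symm
    rw [IsScalarTower.algebraMap_apply R K L, _root_.map_eq_zero] at h1
    exact (IsFractionRing.injective R K) (h1.trans (map_zero _).symm)
  haveI : FiniteDimensional F E := by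
    refine finiteDimensional_of_gen (IsFractionRing.lift (K := K) hj : K →+* F) g (IsLocalization.ringHom_ext (nonZeroDivisors R) ?_) ?_
    · ext r
      simp only [RingHom.comp_apply, IsFractionRing.lift_algebraMap]
      rw [hjg, ← IsScalarTower.algebraMap_apply R K L]
    · intro z W hW
      have hmem : ∀ t : S ⊗[R] L, algebraMap (S ⊗[R] L) E t ∈ W := fun t => by
        induction t using TensorProduct.induction_on with
        | zero => rw [map_zero]; exact W.zero_mem
        | tmul s l =>
          have h1 : s ⊗ₜ[R] l = algebraMap S (S ⊗[R] L) s * ((1 : S) ⊗ₜ[R] l) := by simp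
          rw [h1, map_mul, ← IsScalarTower.algebraMap_apply,
            IsScalarTower.algebraMap_apply S (S ⧸ q) E, IsScalarTower.algebraMap_apply (S ⧸ q) F E]
          exact W.mul_mem (W.algebraMap_mem _) (hW l)
        | add a b ha hb => rw [map_add]; exact W.add_mem ha hb
      obtain ⟨a, b, rfl⟩ := hE z
      exact W.div_mem (hmem a) (hmem b)
  exact fin_ic_of_finite_base (B := S ⧸ q) (isN2_apply (hS.2 q) F E)

theorem isN2_of_smooth_faithfullyFlat {R S : Type u} [CommRing R] [IsDomain R] [IsNoetherianRing R]
    [CommRing S] [Algebra R S] [Algebra.Smooth R S] [Module.FaithfullyFlat R S] (hS : IsNagata S) :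
    IsN2 R := by
  intro L _ _ _ _ hL
  haveI := hS.1
  haveI := hL
  let T := S ⊗[R] L
  let e : L ⊗[R] S ≃+* T := (Algebra.TensorProduct.comm R L S).toRingEquiv
  haveI : IsNoetherianRing (L ⊗[R] S) := Algebra.FiniteType.isNoetherianRing L _
  haveI : IsNoetherianRing T := isNoetherianRing_of_ringEquiv _ e
  haveI : IsReduced (L ⊗[R] S) := isReduced_of_smooth L _
  haveI : IsReduced T := isReduced_of_injective e.symm.toRingHom e.symm.injective
  let ι := {q : Ideal T // q ∈ minimalPrimes T}
  haveI : Finite ι := (minimalPrimes.finite_of_isNoetherianRing T).to_subtype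
  haveI hp : ∀ q : ι, q.1.IsPrime := fun q => q.2.1.1
  haveI : ∀ q : ι, Module.Finite S (integralClosure S q.1.ResidueField) := fun q => by
    refine finite_ic_residueField (R := R) (L := L) hS q.1.ResidueField fun z => ?_
    obtain ⟨x, y, hy, h⟩ := IsFractionRing.div_surjective (A := T ⧸ q.1) z
    obtain ⟨a, rfl⟩ := Ideal.Quotient.mk_surjective x
    obtain ⟨b, rfl⟩ := Ideal.Quotient.mk_surjective y
    exact ⟨a, b, h.symm⟩
  let R' := integralClosure R L
  let f : S ⊗[R] R' →ₐ[S] T := Algebra.TensorProduct.map (AlgHom.id S S) R'.val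
  have hf : Function.Injective f := by
    have := Module.Flat.lTensor_preserves_injective_linearMap (M := S) R'.val.toLinearMap Subtype.val_injective
    exact this
  let π : S ⊗[R] R' →ₗ[S] ((q : ι) → integralClosure S q.1.ResidueField) :=
    LinearMap.pi fun q => ((IsScalarTower.toAlgHom S T q.1.ResidueField).comp f).toLinearMap.codRestrict
      (integralClosure S q.1.ResidueField).toSubmodule fun t =>
        (Algebra.IsIntegral.isIntegral (R := S) t).map ((IsScalarTower.toAlgHom S T q.1.ResidueField).comp f)
  have hfin : Module.Finite S (S ⊗[R] R') := by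
    refine Module.Finite.of_injective π fun a b hab => hf ?_
    rw [← sub_eq_zero]
    have hmem : f a - f b ∈ nilradical T := by
      rw [nilradical, ← Ideal.sInf_minimalPrimes, Submodule.mem_sInf]
      intro q hq
      haveI : Ideal.IsPrime (q : Ideal T) := hq.1.1
      show f a - f b ∈ (q : Ideal T)
      rw [← Ideal.algebraMap_residueField_eq_zero (I := q), map_sub, sub_eq_zero]
      exact congrArg Subtype.val (congrFun hab ⟨q, hq⟩)
    exact (mem_nilradical.mp hmem).eq_zero
  exact Module.Finite.of_finite_tensorProduct_of_faithfullyFlat S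

theorem isNagata_of_smooth_faithfullyFlat (R S : Type u) [CommRing R] [CommRing S] [Algebra R S]
    [Algebra.Smooth R S] (hs : Function.Surjective (PrimeSpectrum.comap (algebraMap R S))) (hS : IsNagata S) :
    IsNagata R := by
  haveI := hS.1
  haveI : Module.FaithfullyFlat R S := Module.FaithfullyFlat.of_comap_surjective hs
  haveI : IsNoetherianRing R := HenselLib.isNoetherianRing_of_faithfullyFlat R S
  refine ⟨inferInstance, fun p _ => ?_⟩
  refine isN2_of_smooth_faithfullyFlat (S := (R ⧸ p) ⊗[R] S) ?_
  refine isNagata_of_ringEquiv (Algebra.TensorProduct.comm R S (R ⧸ p)).toRingEquiv ?_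
  exact isNagata_of_finiteType hS _

end Groth.Agent.CAlgH.NagataDescent
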