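import Mathlib
import Groth.Agent.HenselLib.FieldSmoothGR

/-! Néron blow-up: coordinates along a centre with separable residue field in the special fibre. -/

set_option autoImplicit false
universe u

open TensorProduct KaehlerDifferential IsLocalRing

namespace Groth.Agent.CAlgH.NeronBlowupParams

variable {R A : Type u} [CommRing R] [IsLocalRing R] [CommRing A] [Algebra R A] (p : Ideal A) [p.IsPrime] (π : R)
  (hπ : maximalIdeal R = Ideal.span {π}) (hπp : algebraMap R A π ∈ p)

/-- `m² + π`. -/
abbrev J : Ideal (Localization.AtPrime p) :=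
  maximalIdeal (Localization.AtPrime p) ^ 2 ⊔ Ideal.span {algebraMap R (Localization.AtPrime p) π}

/-- The first order neighbourhood. -/
abbrev P₁ : Type u := Localization.AtPrime p ⧸ J p π

/-- A copy of the first order neighbourhood, carrying the module structure through a section. -/
def W : Type u := P₁ p π

instance : CommRing (W p π) := inferInstanceAs (CommRing (P₁ p π))

include hπ in
theorem le_ker (r : R) (hr : r ∈ maximalIdeal R) : algebraMap R (P₁ p π) r = 0 := by
  rw [hπ] at hr
  obtain ⟨c, rfl⟩ := Ideal.mem_span_singleton'.1 hr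
  rw [map_mul]
  have : algebraMap R (P₁ p π) π = 0 :=
    Ideal.Quotient.eq_zero_iff_mem.2 (Submodule.mem_sup_right (Ideal.mem_span_singleton_self _))
  rw [this, mul_zero]

include hπp in
theorem J_le : J p π ≤ maximalIdeal (Localization.AtPrime p) := by
  refine sup_le (Ideal.pow_le_self two_ne_zero) ((Ideal.span_singleton_le_iff_mem _).2 ?_)
  rw [IsScalarTower.algebraMap_apply R A (Localization.AtPrime p), ← Localization.AtPrime.map_eq_maximalIdeal]
  exact Ideal.mem_map_of_mem _ hπp

include hπ hπp in
/-- An element of the centre with zero differential is in `m² + π`. -/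
theorem mem_of_D_eq_zero {L : Type u} [Field L] [Algebra (ResidueField R) L]
    [Algebra.IsGeometricallyReduced (ResidueField R) L] (ι : p.ResidueField →+* L)
    (hι : ∀ r : R, ι (algebraMap R p.ResidueField r) = algebraMap (ResidueField R) L (residue R r))
    (y : A) (hy : y ∈ p) (hd : (1 : p.ResidueField) ⊗ₜ[A] D R A y = 0) :
    algebraMap A (Localization.AtPrime p) y ∈ J p π := by
  let K := p.ResidueField
  letI : Algebra (ResidueField R) (P₁ p π) := (Ideal.Quotient.lift (maximalIdeal R) (algebraMap R (P₁ p π))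
    (le_ker p π hπ)).toAlgebra
  let π₁ : P₁ p π →+* K := Ideal.Quotient.factor (J_le p π hπp)
  letI : Algebra (ResidueField R) K := (π₁.comp (algebraMap (ResidueField R) (P₁ p π))).toAlgebra
  have hk : ∀ r, algebraMap (ResidueField R) K (residue R r) = algebraMap R K r := fun r => rfl
  let ιk : K →ₐ[ResidueField R] L :=
    { ι with
      commutes' := fun z => by
        obtain ⟨r, rfl⟩ := residue_surjective z
        show ι _ = _
        rw [hk, hι] }
  haveI : Algebra.IsGeometricallyReduced (ResidueField R) K :=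
    Algebra.IsGeometricallyReduced.of_injective ιk ι.injective
  haveI : Algebra.FormallySmooth (ResidueField R) K := HenselLib.formallySmooth_of_geometricallyReduced _ _
  let πa : P₁ p π →ₐ[ResidueField R] K := { π₁ with commutes' := fun z => rfl }
  have hπa : Function.Surjective πa := Ideal.Quotient.factor_surjective (J_le p π hπp)
  have hker : RingHom.ker (πa : P₁ p π →+* K) = (maximalIdeal (Localization.AtPrime p)).map (Ideal.Quotient.mk (J p π)) := by
    show RingHom.ker π₁ = _
    exact Ideal.Quotient.factor_ker (J_le p π hπp)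
  have hsq : RingHom.ker (πa : P₁ p π →+* K) ^ 2 = ⊥ := by
    rw [hker, ← Ideal.map_pow, eq_bot_iff, Ideal.map_le_iff_le_comap]
    intro z hz
    show Ideal.Quotient.mk (J p π) z ∈ (⊥ : Ideal _)
    rw [Ideal.mem_bot, Ideal.Quotient.eq_zero_iff_mem]
    exact Submodule.mem_sup_left hz
  let σ : K →ₐ[ResidueField R] P₁ p π :=
    Algebra.FormallySmooth.liftOfSurjective (AlgHom.id _ K) πa hπa ⟨2, hsq⟩
  have hσ : ∀ z, π₁ (σ z) = z := fun z => Algebra.FormallySmooth.liftOfSurjective_apply _ πa hπa _ z
  let N := RingHom.ker π₁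
  have hmul : ∀ a b : P₁ p π, a ∈ N → b ∈ N → a * b = 0 := fun a b ha hb => by
    have : a * b ∈ RingHom.ker (πa : P₁ p π →+* K) ^ 2 := by rw [sq]; exact Ideal.mul_mem_mul ha hb
    rwa [hsq] at this
  let σW : K →+* W p π := σ.toRingHom
  letI : Algebra K (W p π) := σW.toAlgebra
  letI instA : Module A (W p π) := Module.compHom _ (algebraMap A K)
  haveI : IsScalarTower A K (W p π) := IsScalarTower.of_algebraMap_smul fun _ _ => rfl
  letI : Algebra R (W p π) := inferInstanceAs (Algebra R (P₁ p π))
  let u : A →+* W p π := (Ideal.Quotient.mk (J p π)).comp (algebraMap A (Localization.AtPrime p))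
  have hu : ∀ a, π₁ (u a) = algebraMap A K a := fun a => rfl
  have hsm : ∀ (a : A) (w : W p π), a • w = σW (algebraMap A K a) * w := fun a w => rfl
  have hr : ∀ r : R, σW (algebraMap R K r) = algebraMap R (W p π) r := fun r => by
    show σ (algebraMap R K r) = _; rw [← hk, σ.commutes]; rfl
  let d : A →+ W p π :=
    { toFun := fun a => u a - σW (algebraMap A K a)
      map_zero' := by rw [map_zero, map_zero, map_zero, sub_zero]
      map_add' := fun a b => by rw [map_add, map_add, map_add]; ring }
  haveI : IsScalarTower R A (W p π) := IsScalarTower.of_algebraMap_smul fun r w => by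
    rw [hsm, ← IsScalarTower.algebraMap_apply, hr, Algebra.smul_def]
  let D₁ : Derivation R A (W p π) := Derivation.mk'
    { d with
      map_smul' := fun r a => by
        show u (r • a) - σW (algebraMap A K (r • a)) = r • (u a - σW (algebraMap A K a))
        rw [smul_sub, Algebra.smul_def r a, map_mul, map_mul, map_mul, ← IsScalarTower.algebraMap_apply, hr,
          Algebra.smul_def, Algebra.smul_def]
        rw [show u (algebraMap R A r) = algebraMap R (W p π) r from rfl] }
    (fun a b => by
      show u (a * b) - σW (algebraMap A K (a * b)) = a • (u b - σW (algebraMap A K b)) + b • (u a - σW (algebraMap A K a))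
      have h : (u a - σW (algebraMap A K a)) * (u b - σW (algebraMap A K b)) = (0 : W p π) := hmul (u a - σW (algebraMap A K a)) (u b - σW (algebraMap A K b))
        (by show π₁ _ = 0; exact sub_eq_zero.2 ((hu _).trans (hσ _).symm) ▸ (map_sub π₁ _ _)) (by show π₁ _ = 0; exact sub_eq_zero.2 ((hu _).trans (hσ _).symm) ▸ (map_sub π₁ _ _))
      rw [hsm, hsm]
      simp only [map_mul] at h ⊢
      linear_combination h)
  let l : K ⊗[A] Ω[A⁄R] →ₗ[K] W p π := LinearMap.liftBaseChange K D₁.liftKaehlerDifferential
  have h := congrArg l hd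
  rw [map_zero, LinearMap.liftBaseChange_tmul, one_smul, Derivation.liftKaehlerDifferential_comp_D] at h
  have h' : u y - σW (algebraMap A K y) = 0 := h
  rw [Ideal.algebraMap_residueField_eq_zero.2 hy, map_zero, sub_zero] at h'
  exact Ideal.Quotient.eq_zero_iff_mem.1 h'

variable [IsNoetherianRing A]

include hπ hπp in
/-- Coordinates: finitely many elements of the centre with independent differentials generating it
together with `π` at the centre. -/
theorem exists_params [Algebra.FiniteType R A] {L : Type u} [Field L] [Algebra (ResidueField R) L]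
    [Algebra.IsGeometricallyReduced (ResidueField R) L] (ι : p.ResidueField →+* L)
    (hι : ∀ r : R, ι (algebraMap R p.ResidueField r) = algebraMap (ResidueField R) L (residue R r)) :
    ∃ (κ : Type u) (_ : Fintype κ) (x : κ → A), (∀ i, x i ∈ p) ∧
      LinearIndependent p.ResidueField (fun i => (1 : p.ResidueField) ⊗ₜ[A] D R A (x i)) ∧
      ∀ y ∈ p, ∃ s ∉ p, ∃ (a : A) (c : κ → A), s * y = a * algebraMap R A π + ∑ i, c i * x i := by
  classical
  let K := p.ResidueField
  let D1 : A → K ⊗[A] Ω[A⁄R] := fun g => (1 : K) ⊗ₜ[A] D R A g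
  obtain ⟨bs, hbS, hbspan, hbli⟩ := exists_linearIndependent K (D1 '' (p : Set A))
  haveI : Module.Finite A Ω[A⁄R] := inferInstance
  haveI : Module.Finite K (K ⊗[A] Ω[A⁄R]) := inferInstance
  haveI := hbli.setFinite.fintype
  choose G hGp hG using fun x : bs => hbS x.2
  refine ⟨bs, inferInstance, G, hGp, by rw [show (fun i : bs => D1 (G i)) = _ from funext hG]; exact hbli, ?_⟩
  let P := Localization.AtPrime p
  let φ := algebraMap A P
  let M : Ideal A := Ideal.span (insert (algebraMap R A π) (Set.range G))
  have hD_mul : ∀ a b : A, b ∈ p → D1 (a * b) = algebraMap A K a • D1 b := by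
    intro a b hb
    simp only [D1]
    rw [Derivation.leibniz, tmul_add, tmul_smul, tmul_smul, algebraMap_smul]
    refine add_eq_left.2 ?_
    rw [← algebraMap_smul K b ((1 : K) ⊗ₜ[A] D R A a), Ideal.algebraMap_residueField_eq_zero.2 hb, zero_smul]
  have key : maximalIdeal P ≤ M.map φ ⊔ maximalIdeal P • maximalIdeal P := by
    conv_lhs => rw [← Localization.AtPrime.map_eq_maximalIdeal]
    refine Ideal.map_le_iff_le_comap.2 fun y hy => ?_
    have hy' : D1 y ∈ Submodule.span K (Set.range ((↑) : bs → K ⊗[A] Ω[A⁄R])) := by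
      rw [Subtype.range_coe, hbspan]; exact Submodule.subset_span ⟨y, hy, rfl⟩
    obtain ⟨c, hc⟩ := (Submodule.mem_span_range_iff_exists_fun K).mp hy'
    obtain ⟨⟨b, hb⟩, hint⟩ := IsLocalization.exist_integer_multiples_of_finite (nonZeroDivisors (A ⧸ p)) c
    obtain ⟨b, rfl⟩ := Ideal.Quotient.mk_surjective b
    have hbp : b ∉ p := fun h => nonZeroDivisors.ne_zero hb (Ideal.Quotient.eq_zero_iff_mem.mpr h)
    choose a' ha' using hint
    choose a ha using fun x => Ideal.Quotient.mk_surjective (a' x)
    have hz : D1 (b * y - ∑ i, a i * G i) = 0 := by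
      have : D1 (b * y - ∑ i, a i * G i) = D1 (b * y) - ∑ i, D1 (a i * G i) := by
        simp only [D1, map_sub, map_sum, tmul_sub, tmul_sum]
      rw [this, hD_mul b y hy, ← hc, Finset.smul_sum, sub_eq_zero]
      refine Finset.sum_congr rfl fun i _ => ?_
      rw [hD_mul _ _ (hGp i), show D1 (G i) = (i : K ⊗[A] Ω[A⁄R]) from hG i, smul_smul]
      congr 1
      rw [IsScalarTower.algebraMap_apply A (A ⧸ p) K, IsScalarTower.algebraMap_apply A (A ⧸ p) K (a i)]
      show algebraMap (A ⧸ p) K (Ideal.Quotient.mk p b) * c i = algebraMap (A ⧸ p) K (Ideal.Quotient.mk p (a i))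
      rw [ha i, ha' i, Algebra.smul_def]
    have hmem := mem_of_D_eq_zero p π hπ hπp ι hι _
      (sub_mem (Ideal.mul_mem_left _ b hy) (sum_mem fun i _ => Ideal.mul_mem_left _ _ (hGp i))) hz
    rw [Ideal.mem_comap]
    refine (Ideal.unit_mul_mem_iff_mem _ (IsLocalization.map_units P (⟨b, hbp⟩ : p.primeCompl))).1 ?_
    show φ b * φ y ∈ _
    rw [← map_mul, show b * y = (∑ i, a i * G i) + (b * y - ∑ i, a i * G i) by ring, map_add]
    refine add_mem (Submodule.mem_sup_left (Ideal.mem_map_of_mem _ (sum_mem fun i _ =>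
      Ideal.mul_mem_left _ _ (Ideal.subset_span (Set.mem_insert_of_mem _ ⟨i, rfl⟩))))) ?_
    refine (sup_le ?_ ?_ : J p π ≤ _) hmem
    · rw [sq]; exact le_sup_right
    · refine le_sup_of_le_left ((Ideal.span_singleton_le_iff_mem _).2 ?_)
      rw [IsScalarTower.algebraMap_apply R A P]
      exact Ideal.mem_map_of_mem _ (Ideal.subset_span (Set.mem_insert _ _))
  have hle : maximalIdeal P ≤ M.map φ :=
    Submodule.le_of_le_smul_of_le_jacobson_bot (IsNoetherian.noetherian _) (maximalIdeal_le_jacobson ⊥) key
  intro y hy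
  have h1 : φ y ∈ M.map φ := hle (by
    rw [← Localization.AtPrime.map_eq_maximalIdeal]; exact Ideal.mem_map_of_mem _ hy)
  rw [IsLocalization.algebraMap_mem_map_algebraMap_iff p.primeCompl P] at h1
  obtain ⟨s, hs, hsy⟩ := h1
  obtain ⟨a, z, hz, hz'⟩ := Ideal.mem_span_insert.1 hsy
  obtain ⟨c, hc⟩ := (Ideal.mem_span_range_iff_exists_fun).1 hz
  exact ⟨s, hs, a, c, by rw [hz', hc]⟩

end Groth.Agent.CAlgH.NeronBlowupParams
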