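import Mathlib
import Groth.Prelude.Def_BlowUp2
import Groth.Agent.SmoothLib.Quotient
import Groth.Agent.CAlgH.BlowupChartFlat
import Groth.Agent.CAlgH.NeronBlowupParams

/-! Néron's blow-up is smooth at the special point (smooth case). -/

set_option autoImplicit false
set_option backward.isDefEq.respectTransparency.types false
set_option maxHeartbeats 1000000
universe u

open TensorProduct KaehlerDifferential MvPolynomial BlowUp

namespace Groth.Agent.CAlgH.NeronBlowupSmooth

variable {R A : Type u} [CommRing R] [CommRing A] [Algebra R A]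

/-- A derivation extends to a polynomial ring, killing the variables. -/
theorem exists_derivation_extend {κ : Type u} {M : Type u} [CommRing M] [Algebra A M] [Algebra R M]
    [IsScalarTower R A M] [Algebra (MvPolynomial κ A) M] [IsScalarTower A (MvPolynomial κ A) M]
    [IsScalarTower R (MvPolynomial κ A) M] (δ : Derivation R A M) :
    ∃ D' : Derivation R (MvPolynomial κ A) M, (∀ a, D' (C a) = δ a) ∧ ∀ j, D' (X j) = 0 := by
  let φ₀ : A →+* TrivSqZeroExt M M :=
    { toFun := fun a => TrivSqZeroExt.inl (algebraMap A M a) + TrivSqZeroExt.inr (δ a)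
      map_one' := by simp
      map_zero' := by simp
      map_add' := fun a b => by simp only [map_add, TrivSqZeroExt.inl_add, TrivSqZeroExt.inr_add]; abel
      map_mul' := fun a b => by
        refine TrivSqZeroExt.ext (by simp) ?_
        simp only [TrivSqZeroExt.snd_mul, TrivSqZeroExt.snd_add, TrivSqZeroExt.fst_add, TrivSqZeroExt.snd_inl,
          TrivSqZeroExt.snd_inr, TrivSqZeroExt.fst_inl, TrivSqZeroExt.fst_inr, Derivation.leibniz, Algebra.smul_def, Algebra.algebraMap_self, RingHom.id_apply,
          smul_eq_mul, MulOpposite.smul_eq_mul_unop, MulOpposite.unop_op, zero_add, add_zero]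
        ring }
  let χ : κ → TrivSqZeroExt M M := fun j => TrivSqZeroExt.inl (algebraMap (MvPolynomial κ A) M (X j))
  let φ : MvPolynomial κ A →+* TrivSqZeroExt M M := eval₂Hom φ₀ χ
  have hfst : ∀ f, (φ f).fst = algebraMap (MvPolynomial κ A) M f := fun f => by
    induction f using MvPolynomial.induction_on with
    | C a => simp [φ, φ₀, IsScalarTower.algebraMap_apply A (MvPolynomial κ A) M]
    | add f g hf hg => simp [hf, hg]
    | mul_X f j hf => simp [φ, χ] at hf ⊢; rw [hf]
  have hs : ∀ r : R, (φ (algebraMap R (MvPolynomial κ A) r)).snd = 0 := fun r => by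
    rw [IsScalarTower.algebraMap_apply R A (MvPolynomial κ A)]
    simp [φ, φ₀]
  refine ⟨Derivation.mk'
    { toFun := fun f => (φ f).snd
      map_add' := fun f g => by simp
      map_smul' := fun r f => by
        rw [Algebra.smul_def, map_mul, TrivSqZeroExt.snd_mul, hs, hfst, smul_zero, add_zero, smul_eq_mul,
          ← IsScalarTower.algebraMap_apply, RingHom.id_apply, Algebra.smul_def] }
    (fun f g => by
      show (φ (f * g)).snd = f • (φ g).snd + g • (φ f).snd
      rw [map_mul, TrivSqZeroExt.snd_mul, hfst, hfst]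
      simp only [smul_eq_mul, MulOpposite.smul_eq_mul_unop, MulOpposite.unop_op, Algebra.smul_def]
      ring), fun a => ?_, fun j => ?_⟩
  · show (φ (C a)).snd = δ a
    simp [φ, φ₀]
  · show (φ (X j)).snd = 0
    simp [φ, χ]

variable (p : Ideal A) [p.IsPrime] {κ : Type u} [Fintype κ] (π : R) (x : κ → A)

/-- The relations `π T - x`. -/
noncomputable def rel (i : κ) : MvPolynomial κ A := C (algebraMap R A π) * X i - C (x i)

variable (hπp : algebraMap R A π ∈ p)
  (hli : LinearIndependent p.ResidueField (fun i => (1 : p.ResidueField) ⊗ₜ[A] D R A (x i)))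
  (Q : Ideal (MvPolynomial κ A)) [Q.IsPrime] (hQp : Q.comap C = p)

include hπp hli hQp in
theorem linearIndependent_rel :
    LinearIndependent Q.ResidueField (fun i => (1 : Q.ResidueField) ⊗ₜ[MvPolynomial κ A] D R (MvPolynomial κ A) (rel π x i)) := by
  classical
  let L := Q.ResidueField
  let K := p.ResidueField
  let f : K →+* L := Ideal.ResidueField.map p Q C hQp.symm
  rw [Fintype.linearIndependent_iff]
  intro c hc j
  obtain ⟨ev, hev⟩ := hli.repr.exists_extend
  let δK : Derivation R A K := (((ev.restrictScalars A).comp (TensorProduct.mk A K Ω[A⁄R] 1)).compDer (D R A)) |>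
    fun d => (((Finsupp.lapply j : (κ →₀ K) →ₗ[K] K).restrictScalars A).compDer d)
  letI : Algebra K L := f.toAlgebra
  haveI : IsScalarTower A K L := .of_algebraMap_eq fun a => (Ideal.ResidueField.map_algebraMap p Q C hQp.symm a).symm
  let δ : Derivation R A L := ((Algebra.linearMap K L).restrictScalars A).compDer δK
  obtain ⟨D', hD'C, hD'X⟩ := exists_derivation_extend (κ := κ) δ
  have hx : ∀ i, δ (x i) = if i = j then 1 else 0 := fun i => by
    show algebraMap K L ((ev ((1 : K) ⊗ₜ[A] D R A (x i))) j) = _
    have : ev ((1 : K) ⊗ₜ[A] D R A (x i)) = Finsupp.single i 1 := by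
      exact (LinearMap.congr_fun hev ⟨_, Submodule.subset_span ⟨i, rfl⟩⟩).trans (hli.repr_eq_single i _ rfl)
    rw [this, Finsupp.single_apply, apply_ite (algebraMap K L), map_one, map_zero]
  have hπ0 : algebraMap (MvPolynomial κ A) L (C (algebraMap R A π)) = 0 :=
    Ideal.algebraMap_residueField_eq_zero.2 (Ideal.mem_comap.1 (hQp ▸ hπp))
  have hrel : ∀ i, D' (rel π x i) = if i = j then -1 else 0 := fun i => by
    rw [rel, map_sub, Derivation.leibniz, hD'C, hD'C, hD'X, hx, smul_zero, zero_add,
      show δ (algebraMap R A π) = 0 from δ.map_algebraMap π, smul_zero, zero_sub]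
    split_ifs <;> simp
  let l : L ⊗[MvPolynomial κ A] Ω[MvPolynomial κ A⁄R] →ₗ[L] L := LinearMap.liftBaseChange L D'.liftKaehlerDifferential
  have h := congrArg l hc
  rw [map_sum, map_zero] at h
  simp only [map_smul, l, LinearMap.liftBaseChange_tmul, one_smul, Derivation.liftKaehlerDifferential_comp_D, hrel] at h
  rw [Finset.sum_eq_single j (fun i _ hi => by rw [if_neg hi, smul_zero]) (fun h' => absurd (Finset.mem_univ j) h'),
    if_pos rfl, smul_eq_mul, mul_neg, mul_one, neg_eq_zero] at h
  exact h

include hπp hli hQp in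
theorem isSmoothAt_rel [Algebra.FiniteType R A] [Algebra.IsSmoothAt R p]
    (P : Ideal (MvPolynomial κ A ⧸ Ideal.span (Set.range (rel π x)))) [P.IsPrime]
    (hP : Q = P.comap (Ideal.Quotient.mk _)) : Algebra.IsSmoothAt R P := by
  classical
  let B := Localization.AtPrime Q
  haveI : Algebra.FormallySmooth A B := Algebra.FormallySmooth.comp A (MvPolynomial κ A) B
  haveI : Algebra.IsSmoothAt R Q := by
    letI : Algebra (Localization.AtPrime p) B := (Localization.localRingHom p Q C hQp.symm).toAlgebra
    haveI : IsScalarTower A (Localization.AtPrime p) B := .of_algebraMap_eq fun a =>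
      ((Localization.localRingHom_to_map p Q C hQp.symm a).trans rfl).symm
    haveI : IsScalarTower R (Localization.AtPrime p) B := .of_algebraMap_eq fun r => by
      rw [IsScalarTower.algebraMap_apply R A (Localization.AtPrime p), ← IsScalarTower.algebraMap_apply A (Localization.AtPrime p) B,
        ← IsScalarTower.algebraMap_apply]
    haveI : Algebra.FormallySmooth (Localization.AtPrime p) B := Algebra.FormallySmooth.localization_base (R := A) p.primeCompl
    exact Algebra.FormallySmooth.comp R (Localization.AtPrime p) B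
  refine (SmoothLib.isSmoothAt_quotient_iff (R := R) (Ideal.span (Set.range (rel π x)))
    (Submodule.fg_span (Set.finite_range _)) P Q hP).2 ⟨Finset.univ.image (rel π x), ?_, ?_, ?_⟩
  · simp [Ideal.subset_span]
  · rw [Ideal.map_span]; simp
  · have hinj : Function.Injective (rel π x) := fun a b h =>
      (linearIndependent_rel p π x hπp hli Q hQp).injective (by simp [h])
    let e : κ ≃ ↥(Finset.univ.image (rel π x)) := Equiv.ofBijective (fun i => ⟨rel π x i, by simp⟩)
      ⟨fun a b h => hinj (congrArg Subtype.val h), fun g => by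
        obtain ⟨l, -, hl⟩ := Finset.mem_image.mp g.2
        exact ⟨l, Subtype.ext hl⟩⟩
    refine (linearIndependent_equiv e).mp ?_
    exact linearIndependent_rel p π x hπp hli Q hQp

theorem mul_mk' {I : Ideal A} (a : A) (y : A) (hy : y ∈ I) :
    (⟨IsLocalization.mk' (Localization.Away a) y ⟨a, Submonoid.mem_powers a⟩, Algebra.subset_adjoin ⟨y, hy, rfl⟩⟩ :
      affineAlgebra A I a) * algebraMap A _ a = algebraMap A _ y :=
  Subtype.ext (IsLocalization.mk'_spec (Localization.Away a) y ⟨a, Submonoid.mem_powers a⟩)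

section abstract

variable {I : Ideal A} {a : A}

/-- Maps out of an affine blow-up algebra. -/
theorem exists_lift {B : Type u} [CommRing B] [Algebra A B] (hreg : algebraMap A B a ∈ nonZeroDivisors B)
    (h : ∀ y ∈ I, ∃ z : B, z * algebraMap A B a = algebraMap A B y) :
    Nonempty (affineAlgebra A I a →ₐ[A] B) := by
  let L := Localization.Away (algebraMap A B a)
  let μ : Localization.Away a →ₐ[A] L :=
    IsLocalization.liftAlgHom (M := Submonoid.powers a) (f := Algebra.ofId A L) (by
      rintro ⟨_, n, rfl⟩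
      rw [map_pow]
      refine IsUnit.pow n ?_
      show IsUnit (algebraMap A L a)
      rw [IsScalarTower.algebraMap_apply A B L]
      exact IsLocalization.Away.algebraMap_isUnit (S := L) (algebraMap A B a))
  let j : B →ₐ[A] L := IsScalarTower.toAlgHom A B L
  have hj : Function.Injective j := IsLocalization.injective L (Submonoid.powers_le.mpr hreg)
  have hrange : ∀ a' : affineAlgebra A I a, μ a'.1 ∈ j.range := by
    rintro ⟨z, hz⟩
    show μ z ∈ j.range
    induction hz using Algebra.adjoin_induction with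
    | mem q hq =>
      obtain ⟨y, hy, rfl⟩ := hq
      obtain ⟨w, hw⟩ := h y hy
      refine ⟨w, (IsLocalization.Away.algebraMap_isUnit (S := L) (algebraMap A B a)).mul_left_injective ?_⟩
      show algebraMap B L w * _ = μ _ * _
      have h' : μ _ * μ (algebraMap A _ a) = μ (algebraMap A _ y) := (map_mul μ _ _).symm.trans
        (congrArg μ (IsLocalization.mk'_spec (Localization.Away a) y
          (⟨_, Submonoid.mem_powers a⟩ : Submonoid.powers a)))
      rw [μ.commutes, μ.commutes, IsScalarTower.algebraMap_apply A B L,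
        IsScalarTower.algebraMap_apply A B L y] at h'
      rw [← map_mul, hw]
      exact h'.symm
    | algebraMap r => rw [μ.commutes]; exact j.range.algebraMap_mem r
    | add a b _ _ ha hb => rw [map_add]; exact add_mem ha hb
    | mul a b _ _ ha hb => rw [map_mul]; exact mul_mem ha hb
  exact ⟨((AlgEquiv.ofInjective j hj).symm.toAlgHom).comp ((μ.comp (affineAlgebra A I a).val).codRestrict j.range hrange)⟩

/-- Maps out of an affine blow-up algebra are unique. -/
theorem hom_ext {B : Type u} [CommRing B] [Algebra A B] (hreg : algebraMap A B a ∈ nonZeroDivisors B)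
    (f g : affineAlgebra A I a →ₐ[A] B) : f = g := by
  refine AlgHom.ext ?_
  rintro ⟨z, hz⟩
  induction hz using Algebra.adjoin_induction with
  | mem q hq =>
    obtain ⟨y, hy, rfl⟩ := hq
    refine (mul_cancel_right_mem_nonZeroDivisors hreg).1 ?_
    have h := mul_mk' (I := I) a y hy
    have h1 := (map_mul f _ _).symm.trans ((congrArg f h).trans (f.commutes y))
    have h2 := (map_mul g _ _).symm.trans ((congrArg g h).trans (g.commutes y))
    rw [f.commutes] at h1
    rw [g.commutes] at h2
    exact h1.trans h2.symm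
  | algebraMap r => exact (f.commutes r).trans (g.commutes r).symm
  | add u v hu hv h1 h2 =>
    exact (map_add f ⟨u, hu⟩ ⟨v, hv⟩).trans ((congrArg₂ (· + ·) h1 h2).trans (map_add g ⟨u, hu⟩ ⟨v, hv⟩).symm)
  | mul u v hu hv h1 h2 =>
    exact (map_mul f ⟨u, hu⟩ ⟨v, hv⟩).trans ((congrArg₂ (· * ·) h1 h2).trans (map_mul g ⟨u, hu⟩ ⟨v, hv⟩).symm)

/-- The comparison of local rings. -/
theorem isSmoothAt_of_lift {C : Type u} [CommRing C] [Algebra A C] [Algebra R C] [IsScalarTower R A C]
    {E : Type u} [CommRing E] [Algebra A E] [Algebra R E] [IsScalarTower R A E]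
    (θ : C →ₐ[A] E) (P' : Ideal E) [P'.IsPrime]
    (hext : ∀ f g : E →ₐ[A] Localization.AtPrime P', f = g)
    (P : Ideal C) [P.IsPrime] (hP : P = P'.comap θ.toRingHom) [hs : Algebra.IsSmoothAt R P]
    (ρ : E →ₐ[A] Localization.AtPrime P)
    (hρ : ∀ c, ρ (θ c) = algebraMap C (Localization.AtPrime P) c) : Algebra.IsSmoothAt R P' := by
  let Cq := Localization.AtPrime P
  let B' := Localization.AtPrime P'
  let ν : Cq →+* B' := Localization.localRingHom P P' θ.toRingHom hP
  have hν : ∀ c, ν (algebraMap C Cq c) = algebraMap E B' (θ c) :=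
    fun c => Localization.localRingHom_to_map _ _ _ _ c
  have hνA : ∀ y, ν (algebraMap A Cq y) = algebraMap A B' y := fun y => by
    rw [IsScalarTower.algebraMap_apply A C Cq, hν, θ.commutes, ← IsScalarTower.algebraMap_apply]
  let νA : Cq →ₐ[A] B' := { ν with commutes' := hνA }
  have hνρ : ∀ a', ν (ρ a') = algebraMap E B' a' := fun a' =>
    congrArg (fun φ : E →ₐ[A] B' => φ a')
      (hext (νA.comp ρ) (IsScalarTower.toAlgHom A E B'))
  have hu : ∀ y : P'.primeCompl, IsUnit (ρ.toRingHom y.1) := fun y => by
    refine isUnit_of_map_unit ν _ ?_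
    show IsUnit (ν (ρ y.1))
    rw [hνρ]
    exact IsLocalization.map_units B' y
  let ρ' : B' →+* Cq := IsLocalization.lift hu
  have hρ' : ∀ a', ρ' (algebraMap E B' a') = ρ a' := fun a' => IsLocalization.lift_eq hu a'
  have h12 : ν.comp ρ' = RingHom.id B' := IsLocalization.ringHom_ext P'.primeCompl <| RingHom.ext fun a' => by
    simp only [RingHom.comp_apply, RingHom.id_apply, hρ', hνρ]
  have h21 : ρ'.comp ν = RingHom.id Cq := IsLocalization.ringHom_ext P.primeCompl <| RingHom.ext fun c => by
    simp only [RingHom.comp_apply, RingHom.id_apply, hν, hρ', hρ]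
    rfl
  let e : Cq ≃ₐ[R] B' := AlgEquiv.ofRingEquiv (f := RingEquiv.ofRingHom ν ρ' h12 h21) fun r => by
    show ν _ = _
    rw [IsScalarTower.algebraMap_apply R A Cq, hνA, ← IsScalarTower.algebraMap_apply]
  exact Algebra.FormallySmooth.of_equiv e

/-- Maps from the blow-up algebra to its localisations are unique. -/
theorem hext_localization (P' : Ideal (affineAlgebra A I a)) [P'.IsPrime] {B : Type u} [CommRing B] [Algebra A B]
    [Algebra (affineAlgebra A I a) B] [IsScalarTower A (affineAlgebra A I a) B] [IsLocalization.AtPrime B P']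
    (f g : affineAlgebra A I a →ₐ[A] B) : f = g := by
  have h : algebraMap A B a ∈ nonZeroDivisors B := by
    rw [IsScalarTower.algebraMap_apply A (affineAlgebra A I a) B]
    exact IsLocalization.map_nonZeroDivisors_le P'.primeCompl B
      ⟨_, BlowupChartFlat.mem_nonZeroDivisors I a, rfl⟩
  exact hom_ext h f g

/-- Regular elements of the base stay regular at a smooth point. -/
theorem mem_nonZeroDivisors_of_isSmoothAt {C : Type u} [CommRing C] [Algebra R C]
    [Algebra.FinitePresentation R C] (P : Ideal C) [P.IsPrime] [hs : Algebra.IsSmoothAt R P] {π : R}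
    (hπ : π ∈ nonZeroDivisors R) :
    algebraMap R (Localization.AtPrime P) π ∈ nonZeroDivisors (Localization.AtPrime P) := by
  let Cq := Localization.AtPrime P
  haveI : Module.Flat R Cq := by
    obtain ⟨h, hh, _⟩ := hs.exists_notMem_smooth
    haveI : Module.Flat R (Localization.Away h) := Algebra.Smooth.flat R _
    letI : Algebra (Localization.Away h) Cq := IsLocalization.localizationAlgebraOfSubmonoidLe (Localization.Away h) Cq
      (Submonoid.powers h) P.primeCompl (Submonoid.powers_le.mpr hh)
    haveI : IsScalarTower C (Localization.Away h) Cq :=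
      IsLocalization.localization_isScalarTower_of_submonoid_le (Localization.Away h) Cq (Submonoid.powers h) P.primeCompl (Submonoid.powers_le.mpr hh)
    haveI : IsScalarTower R (Localization.Away h) Cq := IsScalarTower.to₁₃₄ R C (Localization.Away h) Cq
    haveI := IsLocalization.isLocalization_of_submonoid_le (Localization.Away h) Cq
      (Submonoid.powers h) P.primeCompl (Submonoid.powers_le.mpr hh)
    haveI : Module.Flat (Localization.Away h) Cq :=
      IsLocalization.flat _ (P.primeCompl.map (algebraMap C (Localization.Away h)))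
    exact Module.Flat.trans R (Localization.Away h) Cq
  rw [mem_nonZeroDivisors_iff_right]
  intro z hz
  refine Module.Flat.isSMulRegular_of_nonZeroDivisors (M := Cq) hπ (show π • z = π • (0 : Cq) from ?_)
  rw [smul_zero, Algebra.smul_def, mul_comm, hz]

end abstract

omit [Fintype κ] in
theorem algHom_quotient_ext {B : Type u} [CommRing B] [Algebra A B] (J : Ideal (MvPolynomial κ A))
    (f g : MvPolynomial κ A ⧸ J →ₐ[A] B) (h : ∀ i, f (Ideal.Quotient.mk J (X i)) = g (Ideal.Quotient.mk J (X i))) :
    f = g :=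
  Ideal.Quotient.algHom_ext A (MvPolynomial.algHom_ext h)

omit [Fintype κ] in
theorem comp_eq {a : A} {x : κ → A} {B C E : Type u} [CommRing B] [CommRing C] [CommRing E] [Algebra A B] [Algebra A C]
    [Algebra A E] (θ : C →ₐ[A] E) (ρ : E →ₐ[A] B) (g : C →ₐ[A] B) (fr : κ → E) (T : κ → C)
    (hgen : ∀ f g : C →ₐ[A] B, (∀ i, f (T i) = g (T i)) → f = g) (hθ : ∀ i, θ (T i) = fr i)
    (hreg : algebraMap A B a ∈ nonZeroDivisors B) (hfr : ∀ i, fr i * algebraMap A E a = algebraMap A E (x i))
    (hT : ∀ i, g (T i) * algebraMap A B a = algebraMap A B (x i)) : ∀ c, ρ (θ c) = g c := fun c => by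
  refine AlgHom.congr_fun (hgen (ρ.comp θ) g fun i => ?_) c
  refine (mul_cancel_right_mem_nonZeroDivisors hreg).1 ?_
  rw [AlgHom.comp_apply, hθ, hT, ← ρ.commutes, ← map_mul, hfr i, ρ.commutes]

/-- `T i π = x i` in the quotient by the relations. -/
theorem mk_X_mul (i : κ) :
    (Ideal.Quotient.mk (Ideal.span (Set.range (rel π x)))) (X i) *
      algebraMap A (MvPolynomial κ A ⧸ Ideal.span (Set.range (rel π x))) (algebraMap R A π) =
      algebraMap A (MvPolynomial κ A ⧸ Ideal.span (Set.range (rel π x))) (x i) := by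
  show Ideal.Quotient.mk _ (X i) * Ideal.Quotient.mk _ (C (algebraMap R A π)) = Ideal.Quotient.mk _ (C (x i))
  rw [← map_mul, Ideal.Quotient.eq, mul_comm]
  exact Ideal.subset_span ⟨i, rfl⟩

/-- Comparison with an algebra having generators `T` with `T π = x`. -/
theorem isSmoothAt_of_generators {C E : Type u} [CommRing C] [CommRing E] [Algebra A C] [Algebra R C]
    [IsScalarTower R A C] [Algebra A E] [Algebra R E] [IsScalarTower R A E] [Algebra.FinitePresentation R C]
    (hπ0 : π ∈ nonZeroDivisors R)
    (hgen : ∀ y ∈ p, ∃ s ∉ p, ∃ (a : A) (c : κ → A), s * y = a * algebraMap R A π + ∑ i, c i * x i)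
    (θ : C →ₐ[A] E) (T : κ → C) (fr : κ → E) (hθ : ∀ i, θ (T i) = fr i)
    (hfr : ∀ i, fr i * algebraMap A E (algebraMap R A π) = algebraMap A E (x i))
    (hTx : ∀ i, T i * algebraMap A C (algebraMap R A π) = algebraMap A C (x i))
    (P' : Ideal E) [P'.IsPrime] (hP' : P'.comap (algebraMap A E) = p)
    (hext : ∀ f g : E →ₐ[A] Localization.AtPrime P', f = g)
    (hlift : ∀ (B : Type u) [CommRing B] [Algebra A B], algebraMap A B (algebraMap R A π) ∈ nonZeroDivisors B →
      (∀ y ∈ p, ∃ z : B, z * algebraMap A B (algebraMap R A π) = algebraMap A B y) → Nonempty (E →ₐ[A] B))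
    (P : Ideal C) [P.IsPrime] (hP : P = P'.comap θ.toRingHom) [Algebra.IsSmoothAt R P]
    (hgenC : ∀ f g : C →ₐ[A] Localization.AtPrime P, (∀ i, f (T i) = g (T i)) → f = g) :
    Algebra.IsSmoothAt R P' := by
  let Cq := Localization.AtPrime P
  have hreg : algebraMap A Cq (algebraMap R A π) ∈ nonZeroDivisors Cq := by
    rw [← IsScalarTower.algebraMap_apply]
    exact mem_nonZeroDivisors_of_isSmoothAt P hπ0
  have hT : ∀ i, algebraMap C Cq (T i) * algebraMap A Cq (algebraMap R A π) = algebraMap A Cq (x i) := fun i => by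
    rw [IsScalarTower.algebraMap_apply A C Cq, IsScalarTower.algebraMap_apply A C Cq (x i), ← map_mul, hTx]
  have hPc : ∀ a : A, a ∉ p → IsUnit (algebraMap A Cq a) := fun a ha => by
    rw [IsScalarTower.algebraMap_apply A C Cq]
    refine IsLocalization.map_units Cq (⟨algebraMap A C a, fun h => ha ?_⟩ : P.primeCompl)
    rw [← hP']
    rw [hP] at h
    show algebraMap A E a ∈ P'
    rw [← θ.commutes]
    exact h
  have hfrac : ∀ y ∈ p, ∃ z : Cq, z * algebraMap A Cq (algebraMap R A π) = algebraMap A Cq y := fun y hy => by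
    obtain ⟨s, hs, a, c, hsy⟩ := hgen y hy
    refine ⟨↑(hPc s hs).unit⁻¹ * (algebraMap A Cq a + ∑ i, algebraMap A Cq (c i) * algebraMap C Cq (T i)), ?_⟩
    refine (hPc s hs).mul_right_injective ?_
    show algebraMap A Cq s * _ = algebraMap A Cq s * _
    rw [← mul_assoc, ← mul_assoc, IsUnit.mul_val_inv, one_mul, ← map_mul, hsy, add_mul, Finset.sum_mul, map_add,
      map_mul, map_sum]
    simp only [map_mul, mul_assoc, hT]
  obtain ⟨ρ⟩ := hlift Cq hreg hfrac
  exact isSmoothAt_of_lift θ P' hext P hP ρ
    (comp_eq θ ρ (IsScalarTower.toAlgHom A C Cq) fr T hgenC hθ hreg hfr hT)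

include hπp in
/-- The blow-up chart at the prime agrees with the quotient by the relations, so is smooth there. -/
theorem isSmoothAt_chart_abstract [IsNoetherianRing R] (hπ0 : π ∈ nonZeroDivisors R) [Algebra.FiniteType R A]
    [Algebra.IsSmoothAt R p]
    (hli : LinearIndependent p.ResidueField (fun i => (1 : p.ResidueField) ⊗ₜ[A] D R A (x i)))
    (hgen : ∀ y ∈ p, ∃ s ∉ p, ∃ (a : A) (c : κ → A), s * y = a * algebraMap R A π + ∑ i, c i * x i)
    {A' : Type u} [CommRing A'] [Algebra A A'] [Algebra R A'] [IsScalarTower R A A'] (fr : κ → A')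
    (hfr : ∀ i, fr i * algebraMap A A' (algebraMap R A π) = algebraMap A A' (x i))
    (P' : Ideal A') [P'.IsPrime] (hP' : P'.comap (algebraMap A A') = p)
    (hext : ∀ f g : A' →ₐ[A] Localization.AtPrime P', f = g)
    (hlift : ∀ (B : Type u) [CommRing B] [Algebra A B], algebraMap A B (algebraMap R A π) ∈ nonZeroDivisors B →
      (∀ y ∈ p, ∃ z : B, z * algebraMap A B (algebraMap R A π) = algebraMap A B y) → Nonempty (A' →ₐ[A] B)) :
    Algebra.IsSmoothAt R P' := by
  classical
  let C₀ := MvPolynomial κ A ⧸ Ideal.span (Set.range (rel π x))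
  let θ₀ : MvPolynomial κ A →ₐ[A] A' := aeval fr
  have hθ₀ : ∀ z ∈ Ideal.span (Set.range (rel π x)), θ₀ z = 0 := fun z hz => by
    refine (Ideal.span_le (I := RingHom.ker θ₀.toRingHom)).2 ?_ hz
    rintro _ ⟨i, rfl⟩
    show θ₀ (rel π x i) = 0
    rw [rel, map_sub, map_mul, show θ₀ (C (algebraMap R A π)) = algebraMap A A' _ from θ₀.commutes _,
      show θ₀ (C (x i)) = algebraMap A A' (x i) from θ₀.commutes (x i), aeval_X, mul_comm, sub_eq_zero]
    exact hfr i
  let θ : C₀ →ₐ[A] A' := Ideal.Quotient.liftₐ _ θ₀ hθ₀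
  let P := P'.comap θ.toRingHom
  haveI : P.IsPrime := Ideal.IsPrime.comap _
  let Q : Ideal (MvPolynomial κ A) := P.comap (Ideal.Quotient.mk _)
  have hQp : Q.comap C = p := by
    refine Eq.trans ?_ hP'
    show ((P'.comap θ.toRingHom).comap (Ideal.Quotient.mk _)).comap C = _
    rw [Ideal.comap_comap, Ideal.comap_comap]
    exact congrArg (fun φ => Ideal.comap φ P') θ.comp_algebraMap
  haveI : Algebra.IsSmoothAt R P := isSmoothAt_rel p π x hπp hli Q hQp P rfl
  haveI : Algebra.FiniteType R (MvPolynomial κ A) := Algebra.FiniteType.trans (S := A) inferInstance inferInstance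
  haveI : Algebra.FiniteType R C₀ :=
    Algebra.FiniteType.of_surjective (Ideal.Quotient.mkₐ R _) Ideal.Quotient.mk_surjective
  haveI : Algebra.FinitePresentation R C₀ := Algebra.FinitePresentation.of_finiteType.mp inferInstance
  refine isSmoothAt_of_generators p π x hπ0 hgen θ (fun i => Ideal.Quotient.mk _ (X i)) fr
    (fun i => aeval_X fr i) hfr (fun i => mk_X_mul π x i) P' hP' hext hlift P rfl
    (fun f g h => algHom_quotient_ext _ f g h)

include hπp in
/-- The blow-up chart is smooth at a prime over the centre. -/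
theorem isSmoothAt_chart [IsNoetherianRing R] (hπ0 : π ∈ nonZeroDivisors R) [Algebra.FiniteType R A]
    [Algebra.IsSmoothAt R p] (hx : ∀ i, x i ∈ p)
    (hli : LinearIndependent p.ResidueField (fun i => (1 : p.ResidueField) ⊗ₜ[A] D R A (x i)))
    (hgen : ∀ y ∈ p, ∃ s ∉ p, ∃ (a : A) (c : κ → A), s * y = a * algebraMap R A π + ∑ i, c i * x i)
    (P' : Ideal (affineAlgebra A p (algebraMap R A π))) [P'.IsPrime] (hP' : P'.comap (algebraMap A _) = p) :
    Algebra.IsSmoothAt R P' :=
  isSmoothAt_chart_abstract p π x hπp hπ0 hli hgen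
    (fun i => ⟨_, Algebra.subset_adjoin ⟨x i, hx i, rfl⟩⟩) (fun i => mul_mk' (algebraMap R A π) (x i) (hx i))
    P' hP' (hext_localization P') (fun B _ _ h1 h2 => exists_lift h1 h2)

end Groth.Agent.CAlgH.NeronBlowupSmooth
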