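import Groth.Agent.CAlgH.RefinedNoether
import Groth.Agent.DimLib.Algebra
import Mathlib

/-! Noether normalisation adapted to a chain of primes, and completing such a chain. -/

set_option autoImplicit false
set_option backward.isDefEq.respectTransparency false

universe u

open MvPolynomial

namespace Groth.Agent.CAlgH.NoetherChain

open Groth.Agent.CAlgH.RefinedNoether (tailVars X_mem_tailVars finite_of_forall_X exists_refined sub_mem_of_forall)

theorem isIntegrallyClosed_mvPolynomial (k : Type u) [Field k] (n : ℕ) : IsIntegrallyClosed (MvPolynomial (Fin n) k) := by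
  have : UniqueFactorizationMonoid (MvPolynomial (Fin n) k) := inferInstance
  exact UniqueFactorizationMonoid.instIsIntegrallyClosed

variable {k : Type u} [Field k] {d : ℕ}

/-- The ideal of the variables below `a`. -/
noncomputable def head (k : Type u) [CommRing k] (d a : ℕ) : Ideal (MvPolynomial (Fin d) k) :=
  Ideal.span (MvPolynomial.X '' {l : Fin d | (l : ℕ) < a})

theorem X_mem_head {a : ℕ} {l : Fin d} (h : (l : ℕ) < a) : (X l : MvPolynomial (Fin d) k) ∈ head k d a :=
  Ideal.subset_span ⟨l, h, rfl⟩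

theorem head_le_iff {a : ℕ} {I : Ideal (MvPolynomial (Fin d) k)} :
    head k d a ≤ I ↔ ∀ l : Fin d, (l : ℕ) < a → X l ∈ I := by
  refine ⟨fun h l hl => h (X_mem_head hl), fun h => Ideal.span_le.2 ?_⟩
  rintro _ ⟨l, hl, rfl⟩
  exact h l hl

theorem head_mono {a b : ℕ} (h : a ≤ b) : head k d a ≤ head k d b :=
  head_le_iff.2 fun _ hl => X_mem_head (lt_of_lt_of_le hl h)

/-- The variables from `a` on. -/
noncomputable def inc (k : Type u) [CommRing k] (d a : ℕ) :
    MvPolynomial (Fin (d - a)) k →ₐ[k] MvPolynomial (Fin d) k :=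
  aeval fun j => X ⟨a + j.1, by omega⟩

/-- Kill the variables below `a`. -/
noncomputable def proj (k : Type u) [CommRing k] (d a : ℕ) :
    MvPolynomial (Fin d) k →ₐ[k] MvPolynomial (Fin (d - a)) k :=
  aeval fun l => if h : a ≤ (l : ℕ) then X ⟨l.1 - a, by omega⟩ else 0

theorem proj_inc (a : ℕ) (g : MvPolynomial (Fin (d - a)) k) : proj k d a (inc k d a g) = g := by
  have : (proj k d a).comp (inc k d a) = AlgHom.id k _ := MvPolynomial.algHom_ext fun j => by
    simp [proj, inc]
  exact DFunLike.congr_fun this g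

theorem surjective_proj (a : ℕ) : Function.Surjective (proj k d a) := fun g => ⟨_, proj_inc a g⟩

theorem sub_inc_proj_mem (a : ℕ) (g : MvPolynomial (Fin d) k) : inc k d a (proj k d a g) - g ∈ head k d a := by
  refine sub_mem_of_forall (head k d a) ((inc k d a).comp (proj k d a)) (fun l => ?_) g
  rcases le_or_gt a (l : ℕ) with h | h
  · have : (⟨a + (l.1 - a), by omega⟩ : Fin d) = l := Fin.ext (by simp; omega)
    simp [proj, inc, h, this]
  · simpa [proj, inc, not_le.2 h] using (head k d a).neg_mem (X_mem_head h)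

theorem proj_eq_zero_iff (a : ℕ) (g : MvPolynomial (Fin d) k) : proj k d a g = 0 ↔ g ∈ head k d a := by
  constructor
  · intro h
    have h2 := sub_inc_proj_mem (k := k) a g
    rw [h, map_zero, zero_sub] at h2
    exact neg_mem_iff.1 h2
  · intro h
    have : head k d a ≤ RingHom.ker (proj k d a) := head_le_iff.2 fun l hl => by
      simp [RingHom.mem_ker, proj, not_le.2 hl]
    exact this h

theorem comap_proj_comap_inc {a : ℕ} {p : Ideal (MvPolynomial (Fin d) k)} (hp : head k d a ≤ p) :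
    (p.comap (inc k d a)).comap (proj k d a) = p := by
  ext g
  have h1 := hp (sub_inc_proj_mem (k := k) a g)
  refine ⟨fun h => ?_, fun h => ?_⟩
  · have := p.sub_mem (show inc k d a (proj k d a g) ∈ p from h) h1
    rwa [sub_sub_cancel] at this
  · show inc k d a (proj k d a g) ∈ p
    have := p.add_mem h1 h
    rwa [sub_add_cancel] at this

theorem eq_of_comap_inc_eq {a : ℕ} {p q : Ideal (MvPolynomial (Fin d) k)} (hp : head k d a ≤ p)
    (hq : head k d a ≤ q) (h : p.comap (inc k d a) = q.comap (inc k d a)) : p = q := by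
  rw [← comap_proj_comap_inc hp, h, comap_proj_comap_inc hq]

theorem head_eq_ker (a : ℕ) : head k d a = (⊥ : Ideal (MvPolynomial (Fin (d - a)) k)).comap (proj k d a) := by
  ext g
  exact (proj_eq_zero_iff a g).symm

instance isPrime_head (a : ℕ) : (head k d a).IsPrime := by
  rw [head_eq_ker]
  exact Ideal.IsPrime.comap _

theorem dim_comap {R S : Type u} [CommRing R] [CommRing S] (f : R →+* S) (hf : f.IsIntegral) (q : Ideal S) :
    ringKrullDim (R ⧸ q.comap f) = ringKrullDim (S ⧸ q) := by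
  algebraize [f]
  show ringKrullDim (R ⧸ q.comap (algebraMap R S)) = _
  exact Groth.Agent.DimLib.ringKrullDim_eq_of_isIntegral
    (Ideal.algebraMap_quotient_injective (I := q) (R := R))

theorem dim_mvPolynomial (n : ℕ) : ringKrullDim (MvPolynomial (Fin n) k) = (n : WithBot ℕ∞) := by
  simp [ringKrullDim_eq_zero_of_field]

theorem dim_head (a : ℕ) : ringKrullDim (MvPolynomial (Fin d) k ⧸ head k d a) = ((d - a : ℕ) : WithBot ℕ∞) := by
  rw [head_eq_ker]
  refine (dim_comap (proj k d a).toRingHom (RingHom.isIntegral_of_surjective _ (surjective_proj a)) ⊥).trans ?_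
  rw [ringKrullDim_eq_of_ringEquiv (RingEquiv.quotientBot _), dim_mvPolynomial]

theorem eq_head {a : ℕ} {p : Ideal (MvPolynomial (Fin d) k)} [p.IsPrime] (hle : head k d a ≤ p)
    (hdim : ringKrullDim (MvPolynomial (Fin d) k ⧸ p) = ((d - a : ℕ) : WithBot ℕ∞)) : p = head k d a := by
  have h1 := Groth.Agent.DimLib.height_add_ringKrullDim_quotient (k := k) p
  have h2 := Groth.Agent.DimLib.height_add_ringKrullDim_quotient (k := k) (head k d a)
  rw [hdim] at h1
  rw [dim_head] at h2
  obtain ⟨x, hx⟩ := ENat.ne_top_iff_exists.1 (Ideal.height_ne_top_of_isPrime (I := p))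
  obtain ⟨y, hy⟩ := ENat.ne_top_iff_exists.1 (Ideal.height_ne_top_of_isPrime (I := head k d a))
  rw [← hx, dim_mvPolynomial] at h1
  rw [← hy, dim_mvPolynomial] at h2
  have : x = y := by
    have := h1.trans h2.symm
    have h3' : ((x + (d - a) : ℕ) : WithBot ℕ∞) = ((y + (d - a) : ℕ) : WithBot ℕ∞) := by
      simpa [Nat.cast_add, WithBot.coe_natCast] using this
    have h3 : x + (d - a) = y + (d - a) := Nat.cast_injective h3'
    omega
  have hfh : (head k d a).FiniteHeight := Ideal.finiteHeight_of_le hle (Ideal.IsPrime.ne_top inferInstance)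
  exact (Ideal.eq_of_le_of_height_le (I := head k d a) (J := p) hle (by rw [← hx, ← hy, this])).symm

theorem le_of_dim {R : Type u} [CommRing R] {I J : Ideal R} (hIJ : I ≤ J) {a b : ℕ} (hb : b ≤ d) (ha : a ≤ d)
    (hI : ringKrullDim (R ⧸ I) = ((d - a : ℕ) : WithBot ℕ∞))
    (hJ : ringKrullDim (R ⧸ J) = ((d - b : ℕ) : WithBot ℕ∞)) : a ≤ b := by
  have h := ringKrullDim_le_of_surjective _ (Ideal.Quotient.factor_surjective hIJ)
  rw [hI, hJ] at h
  have : d - b ≤ d - a := by exact_mod_cast h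
  omega

theorem step (A : Type u) [CommRing A] [Algebra k A] (f : MvPolynomial (Fin d) k →ₐ[k] A)
    (hf : f.toRingHom.Finite) (q : Ideal A) [q.IsPrime] (a b : ℕ) (ha : a ≤ d) (hb : b ≤ d)
    (hle : head k d a ≤ q.comap f) (hdim : ringKrullDim (A ⧸ q) = ((d - b : ℕ) : WithBot ℕ∞)) :
    ∃ Ψ : MvPolynomial (Fin d) k →ₐ[k] MvPolynomial (Fin d) k, Ψ.toRingHom.Finite ∧
      (∀ l : Fin d, (l : ℕ) < a → Ψ (X l) = X l) ∧ (q.comap f).comap Ψ = head k d b := by
  classical
  let p := q.comap f
  let p' := p.comap (inc k d a)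
  obtain ⟨r, hr, χ, hχ, hχp⟩ := exists_refined k (d - a) p'
  let rv : MvPolynomial (Fin (d - a)) k →ₐ[k] MvPolynomial (Fin (d - a)) k := rename Fin.rev
  have hrv : ∀ g, rv (rv g) = g := fun g => by
    simp only [rv, rename_rename]
    rw [show (Fin.rev ∘ Fin.rev : Fin (d - a) → Fin (d - a)) = id from funext Fin.rev_rev, rename_id_apply]
  let χ' := χ.comp rv
  have hχ' : χ'.toRingHom.Finite :=
    RingHom.Finite.comp hχ (RingHom.Finite.of_surjective _ (fun g => ⟨rv g, hrv g⟩))
  have hχ'p : p'.comap χ' = head k (d - a) (d - a - r) := by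
    have h1 : p'.comap χ' = (tailVars k (d - a) r).comap rv := by rw [← hχp]; rfl
    rw [h1]
    refine le_antisymm (fun g hg => ?_) (head_le_iff.2 fun l hl => ?_)
    · have h2 : (tailVars k (d - a) r).map rv ≤ head k (d - a) (d - a - r) := by
        rw [tailVars, Ideal.map_span, Ideal.span_le]
        rintro _ ⟨_, ⟨⟨i, hi⟩, rfl⟩, rfl⟩
        simp only [rv, rename_X]
        exact X_mem_head (by rw [Fin.val_rev]; omega)
      have h3 := h2 (Ideal.mem_map_of_mem rv (show rv g ∈ tailVars k (d - a) r from hg))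
      rwa [hrv] at h3
    · show rv (X l) ∈ tailVars k (d - a) r
      simp only [rv, rename_X]
      exact X_mem_tailVars (by rw [Fin.val_rev]; omega)
  have hdimp : ringKrullDim (MvPolynomial (Fin d) k ⧸ p) = ((d - b : ℕ) : WithBot ℕ∞) :=
    (dim_comap f.toRingHom (RingHom.IsIntegral.of_finite hf) q).trans hdim
  have hab : a ≤ b := le_of_dim hle hb ha (dim_head a) hdimp
  have hr' : r = d - b := by
    have e1 : ringKrullDim (MvPolynomial (Fin (d - a)) k ⧸ p'.comap χ') =
        ringKrullDim (MvPolynomial (Fin (d - a)) k ⧸ p') := dim_comap χ'.toRingHom (RingHom.IsIntegral.of_finite hχ') p'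
    have e2 : ringKrullDim (MvPolynomial (Fin d) k ⧸ p'.comap (proj k d a)) =
        ringKrullDim (MvPolynomial (Fin (d - a)) k ⧸ p') :=
      dim_comap (proj k d a).toRingHom (RingHom.isIntegral_of_surjective _ (surjective_proj a)) p'
    rw [hχ'p, dim_head] at e1
    rw [show p'.comap (proj k d a) = p from comap_proj_comap_inc hle, hdimp, ← e1] at e2
    have : d - b = d - a - (d - a - r) := by exact_mod_cast e2
    omega
  let Ψ : MvPolynomial (Fin d) k →ₐ[k] MvPolynomial (Fin d) k :=
    aeval fun l => if h : a ≤ (l : ℕ) then inc k d a (χ' (X ⟨l.1 - a, by omega⟩)) else X l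
  have hΨlow : ∀ l : Fin d, (l : ℕ) < a → Ψ (X l) = X l := fun l hl => by simp [Ψ, not_le.2 hl]
  have hΨinc : Ψ.comp (inc k d a) = (inc k d a).comp χ' := MvPolynomial.algHom_ext fun j => by
    simp [Ψ, inc]
  have hΨfin : Ψ.toRingHom.Finite := finite_of_forall_X Ψ fun l => by
    by_cases hl : a ≤ (l : ℕ)
    · obtain ⟨P, hP, hP0⟩ := RingHom.IsIntegral.of_finite hχ' (X (⟨l.1 - a, by omega⟩ : Fin (d - a)))
      refine ⟨P.map (inc k d a).toRingHom, hP.map _, ?_⟩
      rw [Polynomial.eval₂_map]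
      have h1 : Ψ.toRingHom.comp (inc k d a).toRingHom = (inc k d a).toRingHom.comp χ'.toRingHom :=
        congrArg AlgHom.toRingHom hΨinc
      have h2 : (X l : MvPolynomial (Fin d) k) = (inc k d a).toRingHom (X ⟨l.1 - a, by omega⟩) := by
        have : (⟨a + (l.1 - a), by omega⟩ : Fin d) = l := Fin.ext (by simp; omega)
        simp [inc, this]
      rw [h1, h2, ← Polynomial.hom_eval₂, hP0, map_zero]
    · have := Ψ.toRingHom.isIntegralElem_map (x := X l)
      rwa [show Ψ.toRingHom (X l) = X l from hΨlow l (not_le.1 hl)] at this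
  refine ⟨Ψ, hΨfin, hΨlow, ?_⟩
  refine eq_head (head_le_iff.2 fun l hl => ?_)
    ((dim_comap Ψ.toRingHom (RingHom.IsIntegral.of_finite hΨfin) p).trans hdimp)
  show Ψ (X l) ∈ p
  by_cases hla : a ≤ (l : ℕ)
  · have h1 : (X ⟨l.1 - a, by omega⟩ : MvPolynomial (Fin (d - a)) k) ∈ p'.comap χ' := by
      rw [hχ'p]; exact X_mem_head (by simp only []; omega)
    simp only [Ψ, aeval_X, dif_pos hla]
    exact h1
  · rw [hΨlow l (not_le.1 hla)]
    exact hle (X_mem_head (not_le.1 hla))

theorem exists_adapted (A : Type u) [CommRing A] [IsDomain A] [Algebra k A] [Algebra.FiniteType k A]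
    (hd : ringKrullDim A = (d : WithBot ℕ∞)) {r : ℕ} (q : Fin r → PrimeSpectrum A) (hq : StrictMono q)
    (h : Fin r → ℕ) (hh : ∀ i, h i ≤ d)
    (hdim : ∀ i, ringKrullDim (A ⧸ (q i).asIdeal) = ((d - h i : ℕ) : WithBot ℕ∞)) :
    ∃ φ : MvPolynomial (Fin d) k →ₐ[k] A, φ.toRingHom.Finite ∧ Function.Injective φ ∧
      ∀ i, (q i).asIdeal.comap φ = head k d (h i) := by
  classical
  have main : ∀ m, m ≤ r → ∃ φ : MvPolynomial (Fin d) k →ₐ[k] A, φ.toRingHom.Finite ∧
      ∀ i : Fin r, i.1 < m → (q i).asIdeal.comap φ = head k d (h i) := by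
    intro m
    induction m with
    | zero =>
      intro _
      obtain ⟨s, g, -, hfin, hs, -⟩ := Groth.Agent.DimLib.exists_normalization (k := k) (A := A)
      obtain rfl : s = d := by
        have := hs.symm.trans hd
        exact_mod_cast this
      exact ⟨g, hfin, fun i hi => absurd hi (Nat.not_lt_zero _)⟩
    | succ m ih =>
      intro hm
      obtain ⟨φ, hfin, hcomap⟩ := ih (by omega)
      let j : Fin r := ⟨m, by omega⟩
      obtain ⟨a, ha, hle, hbelow⟩ : ∃ a, a ≤ d ∧ head k d a ≤ (q j).asIdeal.comap φ ∧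
          ∀ i : Fin r, i.1 < m → h i ≤ a := by
        cases m with
        | zero =>
          exact ⟨0, Nat.zero_le _, head_le_iff.2 fun l hl => absurd hl (Nat.not_lt_zero _),
            fun i hi => absurd hi (Nat.not_lt_zero _)⟩
        | succ m' =>
          let i₀ : Fin r := ⟨m', by omega⟩
          refine ⟨h i₀, hh _, ?_, fun i hi => ?_⟩
          · rw [← hcomap i₀ (Nat.lt_succ_self _)]
            exact Ideal.comap_mono (hq (show i₀ < j from Nat.lt_succ_self m')).le
          · exact le_of_dim (hq.monotone (show i ≤ i₀ from Nat.lt_succ_iff.1 hi)) (hh _) (hh _)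
              (hdim i) (hdim i₀)
      obtain ⟨Ψ, hΨ, hlow, hΨj⟩ := step A φ hfin (q j).asIdeal a (h j) ha (hh j) hle (hdim j)
      refine ⟨φ.comp Ψ, RingHom.Finite.comp hfin hΨ, fun i hi => ?_⟩
      rcases Nat.lt_succ_iff_lt_or_eq.1 hi with hi' | hi'
      · have h1 : (q i).asIdeal.comap (φ.comp Ψ) = (head k d (h i)).comap Ψ := by
          rw [← hcomap i hi']; rfl
        rw [h1]
        refine eq_head (head_le_iff.2 fun l hl => ?_)
          ((dim_comap Ψ.toRingHom (RingHom.IsIntegral.of_finite hΨ) _).trans (dim_head _))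
        show Ψ (X l) ∈ head k d (h i)
        rw [hlow l (lt_of_lt_of_le hl (hbelow i hi'))]
        exact X_mem_head hl
      · obtain rfl : i = j := Fin.ext hi'
        exact hΨj
  obtain ⟨φ, hfin, hcomap⟩ := main r le_rfl
  refine ⟨φ, hfin, ?_, fun i => hcomap i i.2⟩
  have h0 : (⊥ : Ideal A).comap φ = head k d 0 := by
    refine eq_head (head_le_iff.2 fun l hl => absurd hl (Nat.not_lt_zero _)) ?_
    rw [show ringKrullDim (MvPolynomial (Fin d) k ⧸ (⊥ : Ideal A).comap φ) = ringKrullDim (A ⧸ (⊥ : Ideal A))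
      from dim_comap φ.toRingHom (RingHom.IsIntegral.of_finite hfin) ⊥,
      ringKrullDim_eq_of_ringEquiv (RingEquiv.quotientBot _), hd, Nat.sub_zero]
  rw [injective_iff_map_eq_zero]
  intro g hg
  have : g ∈ head k d 0 := h0.le (show g ∈ (⊥ : Ideal A).comap φ from hg)
  rwa [head, show {l : Fin d | (l : ℕ) < 0} = ∅ by ext; simp, Set.image_empty, Ideal.span_empty,
    Ideal.mem_bot] at this

theorem eq_of_comap_eq (A : Type u) [CommRing A] [Algebra k A] (φ : MvPolynomial (Fin d) k →ₐ[k] A)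
    (hfin : φ.toRingHom.Finite) {I J : Ideal A} [I.IsPrime] [J.IsPrime] (hIJ : I ≤ J)
    (h : I.comap φ = J.comap φ) : I = J := by
  let _ : Algebra (MvPolynomial (Fin d) k) A := φ.toRingHom.toAlgebra
  have : Algebra.IsIntegral (MvPolynomial (Fin d) k) A := ⟨fun x => RingHom.IsIntegral.of_finite hfin x⟩
  by_contra hne
  exact (Groth.Agent.DimLib.strictMono_comap_of_isIntegral (R := MvPolynomial (Fin d) k) (S := A)
    (show (⟨I, inferInstance⟩ : PrimeSpectrum A) < ⟨J, inferInstance⟩ from lt_of_le_of_ne hIJ fun e => hne (congrArg PrimeSpectrum.asIdeal e))).ne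
    (PrimeSpectrum.ext h)

set_option synthInstance.maxHeartbeats 1000000 in
/-- Going down between two lifts. -/
theorem exists_between (A : Type u) [CommRing A] [Algebra k A] (φ : MvPolynomial (Fin d) k →ₐ[k] A)
    (hfin : φ.toRingHom.Finite) {a j b : ℕ} (haj : a ≤ j) (hjb : j ≤ b) (qa Qb : Ideal A) [qa.IsPrime]
    [Qb.IsPrime] (hqa : qa.comap φ = head k d a) (hQb : Qb.comap φ = head k d b) (hle : qa ≤ Qb) :
    ∃ Q : Ideal A, Q.IsPrime ∧ qa ≤ Q ∧ Q ≤ Qb ∧ Q.comap φ = head k d j := by
  let mk := Ideal.Quotient.mk qa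
  let g : MvPolynomial (Fin (d - a)) k →+* A ⧸ qa := (mk.comp φ.toRingHom).comp (inc k d a).toRingHom
  have hg : g.comp (proj k d a).toRingHom = mk.comp φ.toRingHom := RingHom.ext fun x =>
    Ideal.Quotient.eq.2 (show φ (inc k d a (proj k d a x)) - φ x ∈ qa by
      rw [← map_sub]; exact hqa.ge (sub_inc_proj_mem a x))
  have hginj : Function.Injective g := by
    rw [injective_iff_map_eq_zero]
    intro x hx
    have : inc k d a x ∈ head k d a := hqa.le ((Ideal.Quotient.eq_zero_iff_mem (I := qa) (a := φ (inc k d a x))).1 (show mk (φ (inc k d a x)) = 0 from hx))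
    rwa [← proj_eq_zero_iff, proj_inc] at this
  have hgint : g.IsIntegral := by
    refine RingHom.IsIntegral.tower_top (proj k d a).toRingHom g ?_
    rw [hg]
    exact RingHom.IsIntegral.trans _ _ (RingHom.IsIntegral.of_finite hfin) (RingHom.isIntegral_of_surjective _ Ideal.Quotient.mk_surjective)
  let _ : Algebra (MvPolynomial (Fin (d - a)) k) (A ⧸ qa) := g.toAlgebra
  have : Algebra.IsIntegral (MvPolynomial (Fin (d - a)) k) (A ⧸ qa) := ⟨hgint⟩
  have : FaithfulSMul (MvPolynomial (Fin (d - a)) k) (A ⧸ qa) := (faithfulSMul_iff_algebraMap_injective _ _).2 hginj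
  have : IsIntegrallyClosed (MvPolynomial (Fin (d - a)) k) := isIntegrallyClosed_mvPolynomial k (d - a)
  have : Algebra.HasGoingDown (MvPolynomial (Fin (d - a)) k) (A ⧸ qa) := inferInstance
  let Qbar := Qb.map mk
  have hcm : Qbar.comap mk = Qb := by
    rw [Ideal.comap_map_of_surjective _ Ideal.Quotient.mk_surjective, ← RingHom.ker_eq_comap_bot, Ideal.mk_ker,
      sup_eq_left.2 hle]
  have : Qbar.IsPrime := Ideal.map_isPrime_of_surjective Ideal.Quotient.mk_surjective (by rwa [Ideal.mk_ker])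
  have hover : Qbar.comap (algebraMap (MvPolynomial (Fin (d - a)) k) (A ⧸ qa)) = (head k d b).comap (inc k d a) := by
    rw [← hQb, ← hcm]; rfl
  have : Qbar.LiesOver ((head k d b).comap (inc k d a)) := ⟨hover.symm⟩
  obtain ⟨P, hPle, hP, hPo⟩ := Ideal.exists_ideal_le_liesOver_of_le (p := (head k d j).comap (inc k d a))
    (q := (head k d b).comap (inc k d a)) Qbar (Ideal.comap_mono (head_mono hjb))
  refine ⟨P.comap mk, inferInstance, ?_, (Ideal.comap_mono hPle).trans hcm.le, ?_⟩
  · exact le_trans (Ideal.mk_ker (I := qa)).ge (Ideal.ker_le_comap _)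
  · refine eq_of_comap_inc_eq (a := a) ?_ (head_mono haj) hPo.over.symm
    exact hqa.ge.trans (Ideal.comap_mono (le_trans (Ideal.mk_ker (I := qa)).ge (Ideal.ker_le_comap _)))

theorem exists_complete (A : Type u) [CommRing A] [IsDomain A] [Algebra k A] {r : ℕ}
    (q : Fin r → PrimeSpectrum A) (hq : StrictMono q) (h : Fin r → ℕ) (hh : ∀ i, h i ≤ d)
    (φ : MvPolynomial (Fin d) k →ₐ[k] A) (hfin : φ.toRingHom.Finite) (hinj : Function.Injective φ)
    (hcomap : ∀ i, (q i).asIdeal.comap φ = head k d (h i)) :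
    ∃ Q : ℕ → PrimeSpectrum A, (∀ j, j ≤ d → (Q j).asIdeal.comap φ = head k d j) ∧
      (∀ j, j < d → Q j < Q (j + 1)) ∧ ∀ i, Q (h i) = q i := by
  classical
  have hlower : ∀ j, ∃ (a : ℕ) (qa : PrimeSpectrum A), a ≤ j ∧ qa.asIdeal.comap φ = head k d a ∧
      (∀ i, h i ≤ j → q i ≤ qa) ∧ ∀ P : PrimeSpectrum A, (∀ i, h i ≤ j → q i ≤ P) → qa ≤ P := by
    intro j
    let S := Finset.univ.filter fun i => h i ≤ j
    by_cases hS : S.Nonempty
    · refine ⟨h (S.max' hS), q (S.max' hS), (Finset.mem_filter.1 (S.max'_mem hS)).2, hcomap _, fun i hi => ?_,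
        fun P hP => hP _ (Finset.mem_filter.1 (S.max'_mem hS)).2⟩
      exact hq.monotone (Finset.le_max' S i (Finset.mem_filter.2 ⟨Finset.mem_univ _, hi⟩))
    · refine ⟨0, ⟨⊥, Ideal.isPrime_bot⟩, Nat.zero_le _, ?_, fun i hi => absurd ⟨i, Finset.mem_filter.2
        ⟨Finset.mem_univ _, hi⟩⟩ hS, fun P _ => show (⊥ : Ideal A) ≤ P.asIdeal from bot_le⟩
      rw [head, show {l : Fin d | (l : ℕ) < 0} = ∅ by ext; simp, Set.image_empty, Ideal.span_empty]
      exact Ideal.comap_bot_of_injective _ hinj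
  have main : ∀ m, m ≤ d → ∃ Q : ℕ → PrimeSpectrum A, ∀ j, d - m ≤ j → j ≤ d →
      (Q j).asIdeal.comap φ = head k d j ∧ (j < d → Q j ≤ Q (j + 1)) ∧ ∀ i, h i ≤ j → q i ≤ Q j := by
    intro m
    induction m with
    | zero =>
      intro _
      obtain ⟨a, qa, ha, hqa, hup, -⟩ := hlower d
      let _ : Algebra (MvPolynomial (Fin d) k) A := φ.toRingHom.toAlgebra
      have : Algebra.IsIntegral (MvPolynomial (Fin d) k) A := ⟨fun x => RingHom.IsIntegral.of_finite hfin x⟩
      obtain ⟨T, hT, hTp, hTc⟩ := Ideal.exists_ideal_over_prime_of_isIntegral_of_isPrime (head k d d) qa.asIdeal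
        (show qa.asIdeal.comap φ ≤ _ from hqa.le.trans (head_mono ha))
      refine ⟨fun _ => ⟨T, hTp⟩, fun j hj hjd => ?_⟩
      obtain rfl : j = d := by omega
      exact ⟨hTc, fun hlt => absurd hlt (lt_irrefl _), fun i hi => (hup i hi).trans hT⟩
    | succ m ih =>
      intro hm
      obtain ⟨Q, hQ⟩ := ih (by omega)
      let j₀ := d - (m + 1)
      have hj₀ : j₀ + 1 = d - m := by omega
      obtain ⟨hc, -, hup1⟩ := hQ (j₀ + 1) hj₀.ge (by omega)
      obtain ⟨a, qa, ha, hqa, hup, hleast⟩ := hlower j₀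
      have hle : qa ≤ Q (j₀ + 1) := hleast _ fun i hi => hup1 i (by omega)
      obtain ⟨T, hTp, hT1, hT2, hTc⟩ := exists_between A φ hfin ha (Nat.le_succ j₀) qa.asIdeal
        (Q (j₀ + 1)).asIdeal hqa hc hle
      refine ⟨Function.update Q j₀ ⟨T, hTp⟩, fun j hj hjd => ?_⟩
      rcases eq_or_lt_of_le (show j₀ ≤ j from hj) with rfl | hlt
      · rw [Function.update_self, Function.update_of_ne (Nat.succ_ne_self _)]
        exact ⟨hTc, fun _ => hT2, fun i hi => (hup i hi).trans hT1⟩
      · rw [Function.update_of_ne (by omega), Function.update_of_ne (by omega)]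
        exact hQ j (by omega) hjd
  obtain ⟨Q, hQ⟩ := main d le_rfl
  have hQ' := fun j hj => hQ j (by omega) hj
  refine ⟨Q, fun j hj => (hQ' j hj).1, fun j hj => lt_of_le_of_ne ((hQ' j hj.le).2.1 hj) fun e => ?_, fun i => ?_⟩
  · have e1 : head k d j = head k d (j + 1) := by
      rw [← (hQ' j hj.le).1, ← (hQ' (j + 1) hj).1, e]
    have e2 := dim_head (k := k) (d := d) j
    rw [e1, dim_head] at e2
    have : d - (j + 1) = d - j := by exact_mod_cast e2
    omega
  · have hle := (hQ' (h i) (hh i)).2.2 i le_rfl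
    exact (PrimeSpectrum.ext (eq_of_comap_eq A φ hfin hle ((hcomap i).trans (hQ' (h i) (hh i)).1.symm))).symm

end Groth.Agent.CAlgH.NoetherChain
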