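import Groth.Agent.CAlgH.SepFin
import Groth.Agent.CAlgH.EtaleHull
import Mathlib

/-!
# Noetherian intermediate rings of a strict henselization
-/

set_option autoImplicit false
set_option linter.style.haveILetI false
universe u

open IsLocalRing Polynomial

namespace Groth.Agent.CAlgH.NoetherianIntermediate

section core

variable (B S D : Type u) [CommRing B] [HenselianLocalRing B] [IsNoetherianRing B]
  [CommRing S] [IsLocalRing S] [Algebra B S] [IsLocalHom (algebraMap B S)] [Hensel.IsStrictHenselization B S]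
  [Algebra.IsIntegral B S] [CommRing D] [IsLocalRing D] [Algebra B D] [IsLocalHom (algebraMap B D)]
  [Algebra D S] [IsScalarTower B D S]

/-- Modulo a minimal prime, a subalgebra with finite separable residue extension is finite. -/
theorem exists_finite_image (hres : ∀ d : D, ∃ b : B, d - algebraMap B D b ∈ maximalIdeal D)
    (hintD : Algebra.IsIntegral B D) (Q : Ideal S) [Q.IsPrime]
    (hsep : ∀ (L : Type u) [Field L]
      (g : integralClosure (D ⧸ Q.comap (algebraMap D S)) (FractionRing (D ⧸ Q.comap (algebraMap D S))) →+* L),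
      Function.Surjective g →
      SepFin.SepFin ((g.comp (algebraMap (D ⧸ Q.comap (algebraMap D S)) _)).comp (Ideal.Quotient.mk _))) :
    ∃ D'' : Subalgebra B (S ⧸ Q), Module.Finite B D'' ∧ ∀ x : D, Ideal.Quotient.mk Q (algebraMap D S x) ∈ D'' := by
  classical
  haveI := hintD
  let r : Ideal D := Q.comap (algebraMap D S)
  let F := FractionRing (S ⧸ Q)
  let M := FractionRing (D ⧸ r)
  let i : D ⧸ r →+* S ⧸ Q := Ideal.quotientMap Q (algebraMap D S) le_rfl
  let j : M →+* F := IsFractionRing.lift (A := D ⧸ r) (g := (algebraMap (S ⧸ Q) F).comp i)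
    ((IsFractionRing.injective (S ⧸ Q) F).comp Ideal.quotientMap_injective)
  have hj : ∀ d : D, j (algebraMap (D ⧸ r) M (Ideal.Quotient.mk r d)) =
      algebraMap (S ⧸ Q) F (Ideal.Quotient.mk Q (algebraMap D S d)) := fun d => IsLocalization.lift_eq _ _
  have hj0 : ∀ b : B, j (algebraMap (D ⧸ r) M (Ideal.Quotient.mk r (algebraMap B D b))) = algebraMap B F b :=
    fun b => by rw [hj, ← IsScalarTower.algebraMap_apply B D S, IsScalarTower.algebraMap_apply B (S ⧸ Q) F]; rfl
  let G : Subalgebra B (S ⧸ Q) :=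
    { carrier := {a | algebraMap (S ⧸ Q) F a ∈ j.fieldRange}
      mul_mem' := fun {a b} ha hb => by
        show algebraMap (S ⧸ Q) F (a * b) ∈ j.fieldRange
        rw [map_mul]; exact mul_mem ha hb
      add_mem' := fun {a b} ha hb => by
        show algebraMap (S ⧸ Q) F (a + b) ∈ j.fieldRange
        rw [map_add]; exact add_mem ha hb
      algebraMap_mem' := fun b => ⟨_, (hj0 b).trans (IsScalarTower.algebraMap_apply B (S ⧸ Q) F b)⟩ }
  have hex : ∀ a : G, ∃ m : M, j m = algebraMap (S ⧸ Q) F a := fun a => a.2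
  choose φ hφ using hex
  let N := integralClosure (D ⧸ r) M
  let φN : G →+* N :=
    { toFun := fun a => ⟨φ a, by
        obtain ⟨q, hm, h0⟩ := Algebra.IsIntegral.isIntegral (R := B) (a : S ⧸ Q)
        refine ⟨q.map ((Ideal.Quotient.mk r).comp (algebraMap B D)), hm.map _, j.injective ?_⟩
        rw [eval₂_map, hom_eval₂, map_zero, hφ,
          show j.comp ((algebraMap (D ⧸ r) M).comp ((Ideal.Quotient.mk r).comp (algebraMap B D))) =
            (algebraMap (S ⧸ Q) F).comp (algebraMap B (S ⧸ Q)) from RingHom.ext fun b =>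
              (hj0 b).trans (IsScalarTower.algebraMap_apply B (S ⧸ Q) F b), ← hom_eval₂, h0, map_zero]⟩
      map_one' := Subtype.ext (j.injective (by simp [hφ]))
      map_mul' := fun a b => Subtype.ext (j.injective (by simp [hφ]))
      map_zero' := Subtype.ext (j.injective (by simp [hφ]))
      map_add' := fun a b => Subtype.ext (j.injective (by simp [hφ])) }
  obtain ⟨L, _, pi, hpi⟩ : ∃ (L : Type u) (_ : Field L) (pi : N →+* L), Function.Surjective pi := by
    obtain ⟨m, hm⟩ := Ideal.exists_maximal N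
    exact ⟨N ⧸ m, Ideal.Quotient.field m, Ideal.Quotient.mk m, Ideal.Quotient.mk_surjective⟩
  let fD : D →+* L := (pi.comp (algebraMap (D ⧸ r) N)).comp (Ideal.Quotient.mk r)
  let g : G →+* L := pi.comp φN
  have hg0 : g.comp (algebraMap B G) = fD.comp (algebraMap B D) := by
    refine RingHom.ext fun b => congrArg pi (Subtype.ext (j.injective ?_))
    exact ((hφ _).trans (IsScalarTower.algebraMap_apply B (S ⧸ Q) F b).symm).trans (hj0 b).symm
  have hkD : RingHom.ker fD = maximalIdeal D := eq_maximalIdeal (by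
    haveI : (RingHom.ker pi).IsMaximal := RingHom.ker_isMaximal_of_surjective pi hpi
    rw [← RingHom.comap_ker, ← RingHom.comap_ker]
    haveI : ((RingHom.ker pi).comap (algebraMap (D ⧸ r) N)).IsMaximal :=
      Ideal.isMaximal_comap_of_isIntegral_of_isMaximal _
    exact Ideal.comap_isMaximal_of_surjective _ Ideal.Quotient.mk_surjective)
  have hkB : ∀ b ∈ maximalIdeal B, fD (algebraMap B D b) = 0 := fun b hb => by
    rw [← RingHom.mem_ker, hkD, mem_maximalIdeal, mem_nonunits_iff]
    exact fun h => hb (isUnit_of_map_unit _ b h)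
  obtain ⟨n, s, hs⟩ := hsep L pi hpi
  letI : Algebra B L := (fD.comp (algebraMap B D)).toAlgebra
  let V : Submodule B (L) := Submodule.span B (Set.range s)
  let gl : G →ₐ[B] L := { g with commutes' := fun b => RingHom.congr_fun hg0 b }
  -- the stages
  let Good : Subalgebra B (S ⧸ Q) → Prop := fun D'' => Module.Finite B D'' ∧ D'' ≤ G ∧
    ∃ _ : IsLocalRing D'', Algebra.FormallyUnramified B D''
  have hstage : ∀ T : Finset D, ∃ D'', Good D'' ∧ ∀ x ∈ T, Ideal.Quotient.mk Q (algebraMap D S x) ∈ D'' := by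
    intro T
    let t : Finset F := T.image fun x => algebraMap (S ⧸ Q) F (Ideal.Quotient.mk Q (algebraMap D S x))
    obtain ⟨D'', hset, hfin, hunr, hloc, -⟩ :=
      StrictHenselQuotientStage.exists_finite_unramified (A := B) Q t
    have hLj : Subfield.closure (Set.range (algebraMap B F) ∪ (t : Set F)) ≤ j.fieldRange :=
      Subfield.closure_le.mpr (by
        rintro z (⟨b, rfl⟩ | hz)
        · exact ⟨_, hj0 b⟩
        · obtain ⟨x, -, rfl⟩ := Finset.mem_image.1 hz
          exact ⟨_, hj x⟩)
    refine ⟨D'', ⟨hfin, fun a ha => hLj (hset.le ha), hloc, hunr⟩, fun x hx => ?_⟩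
    rw [← SetLike.mem_coe, hset]
    exact Subfield.subset_closure (Or.inr (Finset.mem_image_of_mem _ hx))
  -- residue images
  have key : ∀ D'' (h : Good D''),
      (∀ (a : S ⧸ Q) (ha : a ∈ D''), gl ⟨a, h.2.1 ha⟩ ∈ V) ∧
      (∀ (a : S ⧸ Q) (ha : a ∈ D''), gl ⟨a, h.2.1 ha⟩ = 0 →
        a ∈ (maximalIdeal B) • Subalgebra.toSubmodule D'') := by
    intro D'' h
    obtain ⟨hfin, hle, hloc, hunr⟩ := h
    haveI := hfin
    haveI := hloc
    haveI := hunr
    haveI : IsLocalHom (algebraMap B D'') := ((local_hom_TFAE (algebraMap B D'')).out 4 0).mp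
      (eq_maximalIdeal (Ideal.isMaximal_comap_of_isIntegral_of_isMaximal _))
    let g' : D'' →+* L := g.comp (Subalgebra.inclusion hle).toRingHom
    have hg' : ∀ a : D'', g' a = gl ⟨a, hle a.2⟩ := fun a => rfl
    have hg'0 : g'.comp (algebraMap B D'') = fD.comp (algebraMap B D) := by
      rw [← hg0]; rfl
    have hkg : maximalIdeal D'' ≤ RingHom.ker g' := by
      rw [← Algebra.FormallyUnramified.map_maximalIdeal (R := B), Ideal.map_le_iff_le_comap]
      intro b hb
      rw [Ideal.mem_comap, RingHom.mem_ker, ← RingHom.comp_apply g', hg'0]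
      exact hkB b hb
    refine ⟨fun a ha => ?_, fun a ha h0 => ?_⟩
    · haveI : Algebra.IsSeparable (ResidueField B) (ResidueField D'') := inferInstance
      let z := residue D'' ⟨a, ha⟩
      obtain ⟨q, hq⟩ := Polynomial.map_surjective (residue B) residue_surjective (minpoly (ResidueField B) z)
      have hev : ∀ p : B[X], aeval z (p.map (residue B)) = residue D'' (aeval (⟨a, ha⟩ : D'') p) := fun p => by
        rw [show residue B = algebraMap B (ResidueField B) from rfl, aeval_map_algebraMap,
          show residue D'' (aeval (⟨a, ha⟩ : D'') p) =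
            IsScalarTower.toAlgHom B D'' (ResidueField D'') (aeval (⟨a, ha⟩ : D'') p) from rfl,
          ← aeval_algHom_apply]
        rfl
      have h1 : aeval (⟨a, ha⟩ : D'') q ∈ maximalIdeal D'' := by
        rw [← residue_eq_zero_iff, ← hev, hq, minpoly.aeval]
      have h2 : IsUnit (aeval (⟨a, ha⟩ : D'') (derivative q)) := by
        rw [← residue_ne_zero_iff_isUnit, ← hev, ← derivative_map, hq]
        exact (Algebra.IsSeparable.isSeparable (ResidueField B) z).aeval_derivative_ne_zero (minpoly.aeval _ _)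
      have hev2 : ∀ p : B[X], (p.map (algebraMap B D)).eval₂ fD (g' ⟨a, ha⟩) = g' (aeval (⟨a, ha⟩ : D'') p) :=
        fun p => by rw [eval₂_map, aeval_def, hom_eval₂, hg'0]
      obtain ⟨c, hc⟩ := hs (g' ⟨a, ha⟩) (q.map (algebraMap B D))
        (by rw [show (pi.comp (algebraMap (D ⧸ r) N)).comp (Ideal.Quotient.mk r) = fD from rfl, hev2]; exact hkg h1)
        (by rw [show (pi.comp (algebraMap (D ⧸ r) N)).comp (Ideal.Quotient.mk r) = fD from rfl, derivative_map, hev2]
            exact (h2.map g').ne_zero)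
      rw [← hg' ⟨a, ha⟩, hc]
      refine Submodule.sum_mem _ fun k _ => ?_
      obtain ⟨b, hb⟩ := hres (c k)
      rw [← hkD, RingHom.mem_ker, map_sub, sub_eq_zero] at hb
      rw [show ((pi.comp (algebraMap (D ⧸ r) N)).comp (Ideal.Quotient.mk r)) (c k) = fD (c k) from rfl, hb]
      rw [show fD (algebraMap B D b) * s k = b • s k from (Algebra.smul_def b (s k)).symm]
      exact Submodule.smul_mem V b (Submodule.subset_span ⟨k, rfl⟩)
    · have hmax : (⟨a, ha⟩ : D'') ∈ maximalIdeal D'' := by
        rw [mem_maximalIdeal, mem_nonunits_iff]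
        exact fun hu => (hu.map g').ne_zero h0
      rw [← Algebra.FormallyUnramified.map_maximalIdeal (R := B)] at hmax
      have h3 : (⟨a, ha⟩ : D'') ∈ (maximalIdeal B) • (⊤ : Submodule B D'') := by
        rw [Ideal.smul_top_eq_map]; exact hmax
      have h4 := Submodule.mem_map_of_mem (f := D''.val.toLinearMap) h3
      rw [Submodule.map_smul'', Submodule.map_top] at h4
      refine Submodule.smul_mono le_rfl ?_ h4
      rintro _ ⟨y, rfl⟩
      exact y.2
  let W : ∀ D'' (_ : Good D''), Submodule B V := fun D'' h =>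
    ((Subalgebra.toSubmodule D'').comap G.val.toLinearMap |>.map gl.toLinearMap).comap V.subtype
  haveI : Module.Finite B V := Module.Finite.span_of_finite B (Set.finite_range s)
  have hne : ({w | ∃ D'' h, W D'' h = w} : Set (Submodule B V)).Nonempty := by
    obtain ⟨D'', h, -⟩ := hstage ∅
    exact ⟨_, D'', h, rfl⟩
  obtain ⟨w, ⟨D₀, h₀, rfl⟩, hmax⟩ := wellFounded_gt.has_min {w : Submodule B V | ∃ D'' h, W D'' h = w} hne
  haveI := h₀.1
  refine ⟨D₀, h₀.1, fun x => ?_⟩
  -- enlarge the maximal stage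
  obtain ⟨gen, hgen⟩ := (Module.Finite.iff_fg (N := Subalgebra.toSubmodule D₀)).1 h₀.1
  let t' : Finset F := insert (algebraMap (S ⧸ Q) F (Ideal.Quotient.mk Q (algebraMap D S x)))
    (gen.image fun a => algebraMap (S ⧸ Q) F a)
  obtain ⟨D₁, hset, hfin, hunr, hloc, -⟩ := StrictHenselQuotientStage.exists_finite_unramified (A := B) Q t'
  have hLj : Subfield.closure (Set.range (algebraMap B F) ∪ (t' : Set F)) ≤ j.fieldRange :=
    Subfield.closure_le.mpr (by
      rintro z (⟨b, rfl⟩ | hz)
      · exact ⟨_, hj0 b⟩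
      · rcases Finset.mem_insert.1 hz with rfl | hz
        · exact ⟨_, hj x⟩
        · obtain ⟨a, ha, rfl⟩ := Finset.mem_image.1 hz
          exact h₀.2.1 (hgen.le (Submodule.subset_span ha)))
  have h₁ : Good D₁ := ⟨hfin, fun a ha => hLj (hset.le ha), hloc, hunr⟩
  have h01 : D₀ ≤ D₁ := fun a ha => by
    refine Submodule.span_le.2 (show (gen : Set (S ⧸ Q)) ⊆ Subalgebra.toSubmodule D₁ from fun y hy => ?_) (hgen.ge ha)
    show y ∈ (D₁ : Set (S ⧸ Q))
    rw [hset]
    exact Subfield.subset_closure (Or.inr (Finset.mem_insert_of_mem (Finset.mem_image_of_mem _ hy)))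
  have hW : W D₁ h₁ = W D₀ h₀ := by
    have hle : W D₀ h₀ ≤ W D₁ h₁ := by
      rintro v ⟨⟨a, haG⟩, ha, he⟩
      exact ⟨⟨a, haG⟩, h01 ha, he⟩
    exact (hle.eq_or_lt.resolve_right fun hlt => hmax _ ⟨D₁, h₁, rfl⟩ hlt).symm
  have hsub : Subalgebra.toSubmodule D₁ ≤ Subalgebra.toSubmodule D₀ := by
    haveI := hfin
    refine Submodule.le_of_le_smul_of_le_jacobson_bot (Module.Finite.iff_fg.1 hfin)
      (IsLocalRing.maximalIdeal_le_jacobson ⊥) fun a ha => ?_
    have h1 : (⟨gl ⟨a, h₁.2.1 ha⟩, (key D₁ h₁).1 a ha⟩ : V) ∈ W D₁ h₁ := by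
      exact Submodule.mem_comap.2 (Submodule.mem_map.2 ⟨⟨a, h₁.2.1 ha⟩, ha, rfl⟩)
    rw [hW] at h1
    obtain ⟨⟨a₀, ha₀G⟩, ha₀, he⟩ := Submodule.mem_map.1 (Submodule.mem_comap.1 h1)
    have he' : gl ⟨a - a₀, sub_mem (h₁.2.1 ha) ha₀G⟩ = 0 := by
      rw [show (⟨a - a₀, sub_mem (h₁.2.1 ha) ha₀G⟩ : G) = ⟨a, h₁.2.1 ha⟩ - ⟨a₀, ha₀G⟩ from rfl, map_sub, sub_eq_zero]
      exact he.symm
    have h2 := (key D₁ h₁).2 (a - a₀) (sub_mem ha (h01 ha₀)) he'
    rw [← add_sub_cancel a₀ a]
    exact add_mem (Submodule.mem_sup_left ha₀) (Submodule.mem_sup_right h2)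
  apply hsub
  show _ ∈ (D₁ : Set (S ⧸ Q))
  rw [hset]
  exact Subfield.subset_closure (Or.inr (Finset.mem_insert_self _ _))

end core

variable (A S : Type u) [CommRing A] [HenselianLocalRing A] [IsReduced A] [IsNoetherianRing A]
  [CommRing S] [IsLocalRing S] [Algebra A S] [IsLocalHom (algebraMap A S)]
  [Hensel.IsStrictHenselization A S]

theorem isNoetherianRing_iff (D : Subalgebra A S) :
    IsNoetherianRing D ↔
      ∀ (M : Ideal (integralClosure D (FractionRing D))) [M.IsMaximal],
        FiniteDimensional (Subfield.closure (Set.range ((algebraMap (integralClosure D (FractionRing D)) M.ResidueField).comp (algebraMap D (integralClosure D (FractionRing D)))))) (separableClosure (Subfield.closure (Set.range ((algebraMap (integralClosure D (FractionRing D)) M.ResidueField).comp (algebraMap D (integralClosure D (FractionRing D)))))) M.ResidueField) := by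
  classical
  haveI : IsReduced S := (S2747.result A S).2 inferInstance
  haveI := EtaleHull.isLocalHom_sub D
  haveI : IsLocalRing D := EssEt6.isLocalRing_of_isLocalHom _
  haveI : IsReduced D := isReduced_of_injective (algebraMap D S) Subtype.val_injective
  rw [SepFin.residue_condition_iff]
  refine ⟨fun hN L _ g hg => haveI := hN; SepFin.sepFin_of_noetherian D L g hg, fun h => ?_⟩
  obtain ⟨B, _, _, _, hBD, _, _, hres⟩ := EtaleHull.exists_hull D
  haveI := EtaleHull.isIntegral_strict A S
  haveI : Algebra.IsIntegral B S := Algebra.IsIntegral.tower_top A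
  letI : Algebra B D := (Subalgebra.inclusion hBD).toRingHom.toAlgebra
  haveI : IsScalarTower B D S := IsScalarTower.of_algebraMap_eq fun _ => rfl
  haveI : IsLocalHom (algebraMap B D) := ⟨fun b hb => IsUnit.of_map (algebraMap B S) b (hb.map (algebraMap D S))⟩
  have hintD : Algebra.IsIntegral B D := ⟨fun x =>
    (isIntegral_algHom_iff (IsScalarTower.toAlgHom B D S) Subtype.val_injective).1
      (Algebra.IsIntegral.isIntegral (R := B) (x : S))⟩
  have hres' : ∀ d : D, ∃ b : B, d - algebraMap B D b ∈ maximalIdeal D := fun d => by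
    obtain ⟨b, hb, hdb⟩ := hres d d.2
    refine ⟨⟨b, hb⟩, ?_⟩
    rw [mem_maximalIdeal, mem_nonunits_iff] at hdb ⊢
    exact fun hu => hdb (hu.map (algebraMap D S))
  haveI : IsNoetherianRing S := EssEt6.isNoetherianRing_strict (A := A) ‹_›
  haveI : Finite (minimalPrimes S) := (minimalPrimes.finite_of_isNoetherianRing S).to_subtype
  letI := Fintype.ofFinite (minimalPrimes S)
  -- the minimal primes of `D` are contractions
  have hcontr : ∀ p ∈ minimalPrimes D, ∃ Q ∈ minimalPrimes S, Q.comap (algebraMap D S) = p := by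
    intro p hp
    obtain ⟨P, hP, hPp⟩ :=
      Ideal.exists_comap_eq_of_mem_minimalPrimes_of_injective (f := algebraMap D S) Subtype.val_injective p hp
    obtain ⟨Q, hQ, hQP⟩ := Ideal.exists_minimalPrimes_le (I := (⊥ : Ideal S)) (J := P) bot_le
    haveI : Q.IsPrime := hQ.1.1
    exact ⟨Q, hQ, le_antisymm ((Ideal.comap_mono hQP).trans hPp.le)
      (hp.2 ⟨inferInstance, bot_le⟩ ((Ideal.comap_mono hQP).trans hPp.le))⟩
  haveI : Finite (minimalPrimes D) := by
    choose c hc hc' using fun p : minimalPrimes D => hcontr p.1 p.2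
    exact Finite.of_injective (fun p => (⟨c p, hc p⟩ : minimalPrimes S)) fun p p' hpp => Subtype.ext (by
      rw [← hc' p, ← hc' p', show c p = c p' from congrArg Subtype.val hpp])
  letI := Fintype.ofFinite (minimalPrimes D)
  haveI hp : ∀ p : minimalPrimes D, p.1.IsPrime := fun p => p.2.1.1
  obtain ⟨e, he⟩ := Unibr10.exists_normalization_equiv (S := fun p : minimalPrimes D => D ⧸ p.1)
    (fun p => Ideal.Quotient.mk p.1) (fun p => Ideal.Quotient.mk_surjective)
    (fun i j hij => by
      obtain ⟨a, ha, ha'⟩ := SetLike.not_le_iff_exists.mp fun hle : j.1 ≤ i.1 =>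
        hij (Subtype.ext (le_antisymm (i.2.2 ⟨hp j, bot_le⟩ hle) hle))
      exact ⟨a, Ideal.Quotient.eq_zero_iff_mem.2 ha, fun h0 => ha' (Ideal.Quotient.eq_zero_iff_mem.1 h0)⟩)
    (fun x hx => by
      have : x ∈ nilradical D := by
        rw [nilradical, Ideal.zero_eq_bot, ← Ideal.sInf_minimalPrimes, Submodule.mem_sInf]
        exact fun p hp => Ideal.Quotient.eq_zero_iff_mem.1 (hx ⟨p, hp⟩)
      rwa [nilradical_eq_zero, Ideal.zero_eq_bot, Ideal.mem_bot] at this)
  have hQ : ∀ Q : minimalPrimes S, ∃ D'' : Subalgebra B (S ⧸ Q.1), Module.Finite B D'' ∧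
      ∀ x : D, Ideal.Quotient.mk Q.1 (algebraMap D S x) ∈ D'' := by
    intro Q
    haveI : Q.1.IsPrime := Q.2.1.1
    haveI := EssEt6.flat_strict (A := B) S
    let r : Ideal D := Q.1.comap (algebraMap D S)
    have hr : r ∈ minimalPrimes D := by
      haveI := hintD
      refine ⟨⟨inferInstance, bot_le⟩, fun r' hr' hle => ?_⟩
      by_contra hne
      obtain ⟨y, hy, hy'⟩ := SetLike.not_le_iff_exists.1 hne
      haveI := hr'.1
      have hQD : r.comap (algebraMap B D) = Q.1.comap (algebraMap B S) := by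
        rw [Ideal.comap_comap, ← IsScalarTower.algebraMap_eq]
      have hlt : r'.comap (algebraMap B D) < r.comap (algebraMap B D) :=
        Ideal.comap_lt_comap_of_integral_mem_sdiff hle ⟨hy, hy'⟩ (Algebra.IsIntegral.isIntegral y)
      exact hlt.not_ge (hQD.le.trans ((StrictHenselExtended.comap_mem_minimalPrimes B S Q.1 Q.2).2
        ⟨inferInstance, bot_le⟩ (hlt.le.trans hQD.le)))
    refine exists_finite_image B S D hres' hintD Q.1 fun L _ g hg => ?_
    let ev := Pi.evalRingHom (fun p : minimalPrimes D => integralClosure (D ⧸ p.1) (FractionRing (D ⧸ p.1))) ⟨r, hr⟩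
    have hev : Function.Surjective ev := fun y => ⟨Function.update 0 ⟨r, hr⟩ y, Function.update_self _ _ _⟩
    have h1 := h L ((g.comp ev).comp e.toRingHom) ((hg.comp hev).comp e.surjective)
    have h2 : ((g.comp ev).comp e.toRingHom).comp
        (algebraMap D (integralClosure D (FractionRing D))) =
        (g.comp (algebraMap (D ⧸ r) _)).comp (Ideal.Quotient.mk r) :=
      RingHom.ext fun d => congrArg g (he d ⟨r, hr⟩)
    rwa [h2] at h1
  choose D'' hfin hmem using hQ
  let Φ : D →ₗ[B] Π Q : minimalPrimes S, D'' Q :=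
    LinearMap.pi fun Q => LinearMap.codRestrict (Subalgebra.toSubmodule (D'' Q))
      ((Ideal.Quotient.mkₐ B Q.1).toLinearMap.comp (IsScalarTower.toAlgHom B D S).toLinearMap) (hmem Q)
  have hΦ : Function.Injective Φ := by
    intro x y hxy
    have h0 : algebraMap D S x - algebraMap D S y ∈ nilradical S := by
      rw [nilradical, Ideal.zero_eq_bot, ← Ideal.sInf_minimalPrimes, Submodule.mem_sInf]
      exact fun Q hQ => Ideal.Quotient.eq.1 (congrArg Subtype.val (congrFun hxy ⟨Q, hQ⟩))
    rw [nilradical_eq_zero, Ideal.zero_eq_bot, Ideal.mem_bot, sub_eq_zero] at h0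
    exact Subtype.val_injective h0
  haveI : IsNoetherian B (Π Q : minimalPrimes S, D'' Q) := by
    haveI := hfin
    infer_instance
  haveI : IsNoetherian B D := isNoetherian_of_injective Φ hΦ
  exact isNoetherian_of_tower B ‹IsNoetherian B D›

end Groth.Agent.CAlgH.NoetherianIntermediate
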