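import Groth.Agent.CAlgH.FiniteJacobsonCompletion
import Groth.Agent.CommAlg6.NormalTensor
import Groth.Agent.CommAlg6.FibreSk
import Groth.Agent.Desc19b.NormalSmooth
import Mathlib

/-!
# Normality of the completion descends to normal finite subalgebras
-/

set_option autoImplicit false
set_option linter.style.haveILetI false
universe u

open IsLocalRing TensorProduct

namespace Groth.Agent.CAlgH.NormalFinite

/-- The completion of a finite algebra at the ideal of the maximal ideal is `C ⊗ Â`. -/
theorem exists_map_completion_equiv (A C : Type u) [CommRing A] [IsLocalRing A] [IsNoetherianRing A] [CommRing C]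
    [Algebra A C] [Module.Finite A C] :
    Nonempty (AdicCompletion ((maximalIdeal A).map (algebraMap A C)) C ≃+* C ⊗[A] EGA4.Cpl A) := by
  let Ah := EGA4.Cpl A
  let T := Ah ⊗[A] C
  haveI : IsNoetherianRing Ah := Groth.Agent.Matlis6.isNoetherianRing_adicCompletion _
  haveI : Module.Flat A Ah := AdicCompletion.flat_of_isNoetherian _
  haveI : Module.FaithfullyFlat A Ah :=
    haveI := isLocalHom_algebraMap_cpl A
    Module.FaithfullyFlat.of_flat_of_isLocalHom
  haveI : IsAdicComplete (maximalIdeal Ah) Ah := inferInstance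
  haveI : Module.Finite Ah T := Module.Finite.base_change A Ah C
  letI : Algebra C T := Algebra.TensorProduct.rightAlgebra
  haveI : Module.FaithfullyFlat C T :=
    Module.FaithfullyFlat.of_linearEquiv C (C ⊗[A] Ah) (Algebra.TensorProduct.commRight A C Ah).toLinearEquiv.symm
  let J := (maximalIdeal A).map (algebraMap A C)
  let JT := J.map (algebraMap C T)
  have hmT : JT = (maximalIdeal Ah).map (algebraMap Ah T) := by
    symm
    show (maximalIdeal Ah).map (algebraMap Ah T) = ((maximalIdeal A).map (algebraMap A C)).map (algebraMap C T)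
    rw [AdicCompletion.maximalIdeal_eq_map, Ideal.map_map, Ideal.map_map, ← IsScalarTower.algebraMap_eq]
    refine congrArg (fun f => Ideal.map f (maximalIdeal A)) (RingHom.ext fun a => ?_)
    exact (AlgHom.commutes (Algebra.TensorProduct.includeRight : C →ₐ[A] T) a).symm
  haveI : IsAdicComplete JT T := by
    rw [hmT]
    exact (IsAdicComplete.map_algebraMap_iff _ _).mpr (Groth.Agent.AdicRing.isAdicComplete_of_finite _ T)
  have hker : ∀ j, (JT ^ j).comap (algebraMap C T) = J ^ j := fun j => by
    rw [← Ideal.map_pow]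
    exact Ideal.comap_map_eq_self_of_faithfullyFlat (A := C) (B := T) _
  have hsurj : ∀ j (y : T), ∃ r, y - algebraMap C T r ∈ JT ^ j := by
    intro j y
    induction y using TensorProduct.induction_on with
    | zero => exact ⟨0, by simp⟩
    | tmul x c =>
      haveI := isLocalHom_algebraMap_cpl A
      obtain ⟨a, ha⟩ := exists_sub_mem_pow (algebraMap A Ah) AdicCompletion.maximalIdeal_eq_map.symm
        (fun z => by
          obtain ⟨a, ha⟩ := Ideal.Quotient.mk_surjective (AdicCompletion.evalOneₐ (maximalIdeal A) z)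
          refine ⟨a, ?_⟩
          rw [AdicCompletion.maximalIdeal_eq_map, ← AdicCompletion.ker_evalOneₐ_eq_map _ (IsNoetherian.noetherian _),
            RingHom.mem_ker, map_sub, sub_eq_zero]
          exact ha.symm.trans (AlgHom.commutes _ a).symm) j x
      refine ⟨a • c, ?_⟩
      have e1 : x ⊗ₜ[A] c - algebraMap C T (a • c) = algebraMap Ah T (x - algebraMap A Ah a) * ((1 : Ah) ⊗ₜ[A] c) := by
        show x ⊗ₜ[A] c - (1 : Ah) ⊗ₜ[A] (a • c) = ((x - algebraMap A Ah a) ⊗ₜ[A] (1 : C)) * ((1 : Ah) ⊗ₜ[A] c)
        rw [Algebra.TensorProduct.tmul_mul_tmul, mul_one, one_mul, TensorProduct.sub_tmul,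
          ← TensorProduct.smul_tmul, Algebra.smul_def, mul_one]
      rw [e1]
      refine Ideal.mul_mem_right _ _ ?_
      rw [hmT, ← Ideal.map_pow]
      exact Ideal.mem_map_of_mem _ ha
    | add x z hx hz =>
      obtain ⟨r, hr⟩ := hx
      obtain ⟨s, hs⟩ := hz
      exact ⟨r + s, by rw [map_add, add_sub_add_comm]; exact add_mem hr hs⟩
  obtain ⟨e, -⟩ := completion_equiv_of_quotients J JT (algebraMap C T) hker hsurj
  exact ⟨e.trans (Algebra.TensorProduct.comm A Ah C).toRingEquiv⟩

/-- Normality of a tensor product passes to localizations of a factor. -/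
theorem isNormalRing_tensor_localization (R A B S : Type u) [CommRing R] [CommRing A] [CommRing B] [CommRing S]
    [Algebra R A] [Algebra R B] [Algebra R S] [Algebra A B] [IsScalarTower R A B] (M : Submonoid A)
    [IsLocalization M B] (h : EGA4.IsNormalRing (A ⊗[R] S)) : EGA4.IsNormalRing (B ⊗[R] S) := by
  let f : A ⊗[R] S →ₐ[A] B ⊗[R] S :=
    Algebra.TensorProduct.map (Algebra.ofId A B) (AlgHom.id R S)
  letI : Algebra (A ⊗[R] S) (B ⊗[R] S) := f.toRingHom.toAlgebra
  haveI : IsScalarTower A (A ⊗[R] S) (B ⊗[R] S) := IsScalarTower.of_algebraMap_eq fun a => (f.commutes a).symm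
  haveI : IsLocalization (Algebra.algebraMapSubmonoid (A ⊗[R] S) M) (B ⊗[R] S) :=
    IsLocalization.tensorProduct_tensorProduct R S M B (by
      ext s
      show f ((1 : A) ⊗ₜ s) = (1 : B) ⊗ₜ s
      rw [Algebra.TensorProduct.map_tmul, map_one, AlgHom.id_apply])
  exact CommAlg6.NormalTensor.isNormalRing_localization (Algebra.algebraMapSubmonoid (A ⊗[R] S) M) h

/-- In a normal ring the kernel of a localization at a prime is a minimal prime. -/
theorem ker_atPrime {R : Type u} [CommRing R] (hR : EGA4.IsNormalRing R) (p : Ideal R) [p.IsPrime] :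
    RingHom.ker (algebraMap R (Localization.AtPrime p)) ∈ minimalPrimes R ∧
      RingHom.ker (algebraMap R (Localization.AtPrime p)) ≤ p ∧
      ∀ r : Ideal R, r.IsPrime → r ≤ p → RingHom.ker (algebraMap R (Localization.AtPrime p)) ≤ r := by
  obtain ⟨_, -⟩ := hR p
  have key : ∀ r : Ideal R, r.IsPrime → r ≤ p → RingHom.ker (algebraMap R (Localization.AtPrime p)) ≤ r := by
    intro r hr hrp x hx
    obtain ⟨⟨s, hs⟩, hsx⟩ := (IsLocalization.map_eq_zero_iff p.primeCompl (Localization.AtPrime p) x).1 hx
    exact (hr.mem_or_mem (hsx ▸ r.zero_mem : s * x ∈ r)).resolve_left fun h => hs (hrp h)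
  refine ⟨?_, key p inferInstance le_rfl, key⟩
  rw [minimalPrimes_eq_minimals]
  exact ⟨RingHom.ker_isPrime _, fun r hr hle => key r hr (hle.trans (key p inferInstance le_rfl))⟩

/-- In a normal Noetherian ring a minimal prime is generated by an idempotent. -/
theorem exists_idempotent_of_minimalPrime {R : Type u} [CommRing R] [IsNoetherianRing R]
    (hR : EGA4.IsNormalRing R) {q : Ideal R} (hq : q ∈ minimalPrimes R) :
    ∃ e : R, IsIdempotentElem e ∧ q = Ideal.span {e} := by
  refine (Ideal.isIdempotentElem_iff_of_fg q (IsNoetherian.noetherian q)).1 (le_antisymm Ideal.mul_le_right ?_)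
  intro x hx
  refine Ideal.mem_of_localization_maximal fun M _ => ?_
  by_cases hqM : q ≤ M
  · haveI := (hq : q ∈ (⊥ : Ideal R).minimalPrimes).1.1
    obtain ⟨h1, h2, h3⟩ := ker_atPrime hR M
    rw [minimalPrimes_eq_minimals] at hq h1
    have : q ≤ RingHom.ker (algebraMap R (Localization.AtPrime M)) := hq.2 h1.1 (h3 q hq.1 hqM)
    rw [RingHom.mem_ker.1 (this hx)]
    exact zero_mem _
  · obtain ⟨t, htq, htM⟩ := SetLike.not_le_iff_exists.1 hqM
    have ht : IsUnit (algebraMap R (Localization.AtPrime M) t) :=
      IsLocalization.map_units (Localization.AtPrime M) (⟨t, htM⟩ : M.primeCompl)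
    have := Ideal.mem_map_of_mem (algebraMap R (Localization.AtPrime M)) (Ideal.mul_mem_mul htq hx)
    rw [map_mul] at this
    exact (Ideal.unit_mul_mem_iff_mem _ ht).1 this

/-- Normality at primes over `p` from a faithfully flat chart over `B_p`. -/
theorem normal_atPrime_of_chart (B T D : Type u) [CommRing B] [CommRing T] [CommRing D] [Algebra B T] [Algebra B D]
    (p : Ideal B) [p.IsPrime] [Algebra (Localization.AtPrime p) D] [IsScalarTower B (Localization.AtPrime p) D]
    [Module.FaithfullyFlat (Localization.AtPrime p) D] (hN : EGA4.IsNormalRing (D ⊗[B] T))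
    (P : Ideal T) [P.IsPrime] (hP : P.comap (algebraMap B T) = p) :
    IsDomain (Localization.AtPrime P) ∧ IsIntegrallyClosed (Localization.AtPrime P) := by
  let Bp := Localization.AtPrime p
  let W := Bp ⊗[B] T
  have hW' : EGA4.IsNormalRing (W ⊗[Bp] D) :=
    CommAlg6.isNormalRing_of_ringEquiv ((Algebra.TensorProduct.comm Bp W D).toRingEquiv.trans
      (Algebra.TensorProduct.cancelBaseChange B Bp Bp D T).toRingEquiv).symm hN
  have hW : EGA4.IsNormalRing W := Desc19b.isNormalRing_of_faithfullyFlat W (W ⊗[Bp] D) hW'
  letI : Algebra T W := Algebra.TensorProduct.rightAlgebra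
  haveI : IsLocalization (Algebra.algebraMapSubmonoid T p.primeCompl) W := IsLocalization.tensorRight (S := T) (A := Bp) p.primeCompl
  have hd : Disjoint (Algebra.algebraMapSubmonoid T p.primeCompl : Set T) (P : Set T) := by
    rw [Set.disjoint_left]
    rintro _ ⟨b, hb, rfl⟩ h
    exact hb (hP ▸ h : b ∈ p)
  let P' : Ideal W := P.map (algebraMap T W)
  haveI : P'.IsPrime := IsLocalization.isPrime_of_isPrime_disjoint _ W P inferInstance hd
  have hc : P'.comap (algebraMap T W) = P := IsLocalization.comap_map_of_isPrime_disjoint _ W inferInstance hd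
  obtain ⟨h1, h2⟩ := hW P'
  haveI := h1
  haveI := h2
  obtain ⟨e, -⟩ := CAlgH3.isLocalization_atPrime_under (Algebra.algebraMapSubmonoid T p.primeCompl) P'
  have he : Nonempty (Localization.AtPrime P ≃+* Localization.AtPrime P') := by
    have : IsLocalization.AtPrime (Localization.AtPrime P') P := by
      have := IsLocalization.isLocalization_isLocalization_atPrime_isLocalization
        (Algebra.algebraMapSubmonoid T p.primeCompl) (Localization.AtPrime P') P'
      simpa only [hc] using this
    exact ⟨(IsLocalization.algEquiv P.primeCompl _ _).toRingEquiv⟩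
  obtain ⟨e⟩ := he
  exact ⟨e.toMulEquiv.isDomain, IsIntegrallyClosed.of_equiv (R := Localization.AtPrime P') e.symm⟩

/-- A faithfully flat chart over `B_p` for a finite injective extension of a normal ring into a normal ring,
at a prime of height at most one. -/
theorem exists_chart (B C : Type u) [CommRing B] [CommRing C] [IsNoetherianRing B] [Algebra B C] [Module.Finite B C]
    (hinj : Function.Injective (algebraMap B C)) (hB : EGA4.IsNormalRing B) (hC : EGA4.IsNormalRing C)
    (p : Ideal B) [p.IsPrime] (hp : p.height ≤ 1) (T : Type u) [CommRing T] [Algebra B T]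
    (hN : EGA4.IsNormalRing (C ⊗[B] T)) :
    ∃ (D : Type u) (_ : CommRing D) (_ : Algebra B D) (_ : Algebra (Localization.AtPrime p) D),
      IsScalarTower B (Localization.AtPrime p) D ∧ Module.FaithfullyFlat (Localization.AtPrime p) D ∧
        EGA4.IsNormalRing (D ⊗[B] T) := by
  haveI : IsNoetherianRing C := IsNoetherianRing.of_finite B C
  obtain ⟨hdom, hic⟩ := hB p
  haveI := hdom
  haveI := hic
  obtain ⟨hp0, hp0p, hp0min⟩ := ker_atPrime hB p
  let p0 := RingHom.ker (algebraMap B (Localization.AtPrime p))
  haveI : p0.IsPrime := RingHom.ker_isPrime _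
  obtain ⟨q1, hq1, hq1p⟩ := Ideal.exists_comap_eq_of_mem_minimalPrimes_of_injective hinj p0 hp0
  haveI := hq1
  obtain ⟨q, hq, hqq1⟩ := Ideal.exists_minimalPrimes_le (J := q1) (I := (⊥ : Ideal C)) bot_le
  haveI : q.IsPrime := hq.1.1
  have hqp : q.comap (algebraMap B C) = p0 := by
    have : q.comap (algebraMap B C) ≤ p0 := hq1p ▸ Ideal.comap_mono hqq1
    refine le_antisymm this (hp0min _ inferInstance (this.trans hp0p))
  obtain ⟨e, he, hqe⟩ := exists_idempotent_of_minimalPrime hC hq
  let E := C ⧸ q
  haveI : IsLocalization.Away (1 - e) E := by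
    show IsLocalization.Away (1 - e) (C ⧸ q)
    rw [hqe]
    have := IsLocalization.Away.quotient_of_isIdempotentElem he.one_sub
    rwa [sub_sub_cancel] at this
  have hEN : EGA4.IsNormalRing (E ⊗[B] T) :=
    isNormalRing_tensor_localization B C E T (Submonoid.powers (1 - e)) hN
  have hker : RingHom.ker (algebraMap B E) = p0 := by
    rw [← hqp]
    ext b
    exact Ideal.Quotient.eq_zero_iff_mem
  let M := Algebra.algebraMapSubmonoid E p.primeCompl
  let D := Localization M
  have hM : M ≤ nonZeroDivisors E := by
    rintro _ ⟨b, hb, rfl⟩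
    refine mem_nonZeroDivisors_of_ne_zero fun h => hb (hp0p ?_)
    rw [show RingHom.ker (algebraMap B (Localization.AtPrime p)) = p0 from rfl, ← hker]
    exact h
  haveI : IsDomain D := IsLocalization.isDomain_localization hM
  letI : Algebra (Localization.AtPrime p) D := localizationAlgebra p.primeCompl E
  haveI : IsScalarTower B (Localization.AtPrime p) D :=
    isScalarTower_localizationAlgebra p.primeCompl E
  haveI : Module.Finite (Localization.AtPrime p) D := Module.Finite.of_isLocalization B E p.primeCompl
  have hinjD : Function.Injective (algebraMap (Localization.AtPrime p) D) := by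
    rw [injective_iff_map_eq_zero]
    intro z hz
    obtain ⟨b, s, rfl⟩ := IsLocalization.exists_mk'_eq p.primeCompl z
    have h1 : algebraMap B D b = 0 := by
      rw [IsScalarTower.algebraMap_apply B (Localization.AtPrime p) D, ← IsLocalization.mk'_spec (Localization.AtPrime p) b s,
        map_mul, hz, zero_mul]
    rw [IsScalarTower.algebraMap_apply B E D] at h1
    have h2 : b ∈ RingHom.ker (algebraMap B E) :=
      (IsLocalization.injective D hM (h1.trans (map_zero _).symm) : algebraMap B E b = 0)
    rw [hker] at h2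
    rw [IsLocalization.mk'_eq_mul_mk'_one, RingHom.mem_ker.1 h2, zero_mul]
  haveI : Module.IsTorsionFree (Localization.AtPrime p) D :=
    Module.isTorsionFree_iff_algebraMap_injective.2 hinjD
  haveI : IsPrincipalIdealRing (Localization.AtPrime p) := by
    have hd : ringKrullDim (Localization.AtPrime p) ≤ 1 := by
      rw [IsLocalization.AtPrime.ringKrullDim_eq_height p (Localization.AtPrime p)]
      exact WithBot.coe_le_coe.2 hp
    let Rp := Localization.AtPrime p
    have hdim : ringKrullDim Rp ≤ 1 := hd
    have h4 : IsIntegrallyClosed Rp ∧ ∀ P : Ideal Rp, P ≠ ⊥ → P.IsPrime → P = maximalIdeal Rp :=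
      ⟨inferInstance, fun P hP hP' => by
        by_contra hne
        have h1 := CAlgH3.ringKrullDim_quotient_add_one_le (lt_of_le_of_ne (le_maximalIdeal hP'.ne_top) hne)
        have h2 := CAlgH3.ringKrullDim_quotient_add_one_le (p := (⊥ : Ideal Rp)) (q := P) (bot_lt_iff_ne_bot.2 hP)
        rw [ringKrullDim_eq_of_ringEquiv (RingEquiv.quotientBot Rp)] at h2
        have h3 := ((add_le_add h1 le_rfl).trans h2).trans hdim
        rw [ringKrullDim_eq_zero_of_isField ((Ideal.Quotient.maximal_ideal_iff_isField_quotient _).1 (maximalIdeal.isMaximal Rp))] at h3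
        exact absurd h3 (by decide)⟩
    have : IsPrincipalIdealRing Rp := ((tfae_of_isNoetherianRing_of_isLocalRing_of_isDomain Rp).out 3 0 rfl rfl).1 h4
    exact this
  haveI : Module.Free (Localization.AtPrime p) D := Module.free_of_finite_type_torsion_free'
  refine ⟨D, inferInstance, inferInstance, inferInstance, inferInstance, inferInstance, ?_⟩
  exact isNormalRing_tensor_localization B E D T M hEN

/-- The main statement: normality of the completion descends to a normal finite subalgebra. -/
theorem isNormalRing_tensor_completion (A B C : Type u) [CommRing A] [IsLocalRing A] [IsNoetherianRing A]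
    [CommRing B] [CommRing C] [Algebra A B] [Algebra A C] [Algebra B C] [IsScalarTower A B C]
    [Module.Finite A B] [Module.Finite A C] (hinj : Function.Injective (algebraMap B C))
    (hB : EGA4.IsNormalRing B) (hC : EGA4.IsNormalRing (C ⊗[A] EGA4.Cpl A)) :
    EGA4.IsNormalRing (B ⊗[A] EGA4.Cpl A) := by
  let Ah := EGA4.Cpl A
  haveI : IsNoetherianRing Ah := Groth.Agent.Matlis6.isNoetherianRing_adicCompletion _
  haveI : Module.Flat A Ah := AdicCompletion.flat_of_isNoetherian _
  haveI : Module.FaithfullyFlat A Ah :=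
    haveI := isLocalHom_algebraMap_cpl A
    Module.FaithfullyFlat.of_flat_of_isLocalHom
  haveI : IsNoetherianRing B := IsNoetherianRing.of_finite A B
  haveI : Module.Finite B C := Module.Finite.of_restrictScalars_finite A B C
  let T := B ⊗[A] Ah
  haveI : Module.Finite Ah (Ah ⊗[A] B) := Module.Finite.base_change A Ah B
  haveI : IsNoetherianRing (Ah ⊗[A] B) := IsNoetherianRing.of_finite Ah _
  haveI : IsNoetherianRing T :=
    isNoetherianRing_of_ringEquiv _ (Algebra.TensorProduct.comm A Ah B).toRingEquiv
  have hCn : EGA4.IsNormalRing C := Desc19b.isNormalRing_of_faithfullyFlat C (C ⊗[A] Ah) hC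
  have hCT : EGA4.IsNormalRing (C ⊗[B] T) :=
    CommAlg6.isNormalRing_of_ringEquiv (Algebra.TensorProduct.cancelBaseChange A B B C Ah).toRingEquiv.symm hC
  have low : ∀ (P : Ideal T) [P.IsPrime], (P.comap (algebraMap B T)).height ≤ 1 →
      IsDomain (Localization.AtPrime P) ∧ IsIntegrallyClosed (Localization.AtPrime P) := fun P _ hh => by
    obtain ⟨D, _, _, _, _, _, hD⟩ := exists_chart B C hinj hB hCn (P.comap (algebraMap B T)) hh T hCT
    exact normal_atPrime_of_chart B T D _ hD P rfl
  obtain ⟨hR, hS⟩ := CAlgH3.normal_localization_iff.1 hB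
  refine CAlgH3.normal_localization_iff.2 ⟨fun P _ hP => ?_, (CAlgH3.hasSk_self_iff 2).2 fun P _ => ?_⟩
  · obtain ⟨h1, -⟩ := CommAlg6.local_fibre (A := B) P
    have hle : ringKrullDim (Localization.AtPrime (P.comap (algebraMap B T))) ≤ ringKrullDim (Localization.AtPrime P) := by
      rw [h1]
      rcases subsingleton_or_nontrivial (EGA4.FibLocRing B T P) with hs | hs
      · exfalso
        have : ringKrullDim (Localization.AtPrime P) = ⊥ := by
          rw [h1, ringKrullDim_eq_bot_of_subsingleton (R := EGA4.FibLocRing B T P), WithBot.add_bot]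
        exact (ringKrullDim_nonneg_of_nontrivial (R := Localization.AtPrime P)).not_gt (this ▸ WithBot.bot_lt_coe (0 : ℕ∞))
      · exact le_add_of_nonneg_right ringKrullDim_nonneg_of_nontrivial
    rw [IsLocalization.AtPrime.ringKrullDim_eq_height (P.comap (algebraMap B T)) (Localization.AtPrime _),
      IsLocalization.AtPrime.ringKrullDim_eq_height P (Localization.AtPrime P), WithBot.coe_le_coe] at hle
    obtain ⟨_, _⟩ := low P (hle.trans hP)
    refine CAlgH3.isRegularLocalRing_of_normal_dim_le_one ?_
    rw [IsLocalization.AtPrime.ringKrullDim_eq_height P (Localization.AtPrime P)]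
    exact WithBot.coe_le_coe.2 hP
  · by_cases hh : (P.comap (algebraMap B T)).height ≤ 1
    · obtain ⟨_, _⟩ := low P hh
      by_cases h2 : 2 ≤ ringKrullDim (Localization.AtPrime P)
      · exact min_le_of_left_le (WithBot.coe_le_coe.2 (CAlgH3.two_le_depth_of_normal h2))
      · have hreg : IsRegularLocalRing (Localization.AtPrime P) := by
          refine CAlgH3.isRegularLocalRing_of_normal_dim_le_one ?_
          rw [IsLocalization.AtPrime.ringKrullDim_eq_height P (Localization.AtPrime P)] at h2 ⊢
          rw [show (2 : WithBot ℕ∞) = ((2 : ℕ∞) : WithBot ℕ∞) from rfl, WithBot.coe_le_coe, not_le] at h2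
          exact WithBot.coe_le_coe.2 ((ENat.lt_add_one_iff ENat.one_ne_top).1 (by rwa [one_add_one_eq_two]))
        rw [CAlgH3.depth_eq_ringKrullDim]
        exact min_le_right _ _
    · obtain ⟨-, h2, -⟩ := CommAlg6.local_fibre (A := B) P
      have h3 := (CAlgH3.hasSk_self_iff 2).1 hS (P.comap (algebraMap B T))
      have h4 : (2 : WithBot ℕ∞) ≤ ringKrullDim (Localization.AtPrime (P.comap (algebraMap B T))) := by
        rw [IsLocalization.AtPrime.ringKrullDim_eq_height (P.comap (algebraMap B T)) (Localization.AtPrime (P.comap (algebraMap B T)))]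
        exact WithBot.coe_le_coe.2 (Order.add_one_le_of_lt (not_le.1 hh) |>.trans' (by norm_num))
      rw [Nat.cast_ofNat, min_eq_left h4] at h3
      rw [h2]
      exact (min_le_left _ _).trans (h3.trans (WithBot.coe_le_coe.2 le_self_add))

end Groth.Agent.CAlgH.NormalFinite
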