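import Groth.Agent.CAlgH.WEtRegular
import Groth.Agent.S9413
import Groth.Agent.CommAlg6.FibreAt
import Mathlib

/-!
# Normality of homomorphisms cancels along weakly etale maps
-/

set_option autoImplicit false
set_option linter.style.haveILetI false
universe u

open IsLocalRing TensorProduct

namespace Groth.Agent.CAlgH.NormalCancel

theorem eq_zero_atPrime_of_flat_surjective {R S : Type u} [CommRing R] [CommRing S] (f : R →+* S)
    (hf : f.Flat) (hs : Function.Surjective f) {x : R} (hx : f x = 0) (Q : Ideal S) [Q.IsPrime] :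
    algebraMap R (Localization.AtPrime (Q.comap f)) x = 0 := by
  let g := Localization.localRingHom (Q.comap f) Q f rfl
  letI : Algebra (Localization.AtPrime (Q.comap f)) (Localization.AtPrime Q) := g.toAlgebra
  haveI : Module.Flat (Localization.AtPrime (Q.comap f)) (Localization.AtPrime Q) :=
    RingHom.flat_algebraMap_iff.1 (RingHom.Flat.localRingHom hf Q (Q.comap f) rfl)
  haveI : IsLocalHom (algebraMap (Localization.AtPrime (Q.comap f)) (Localization.AtPrime Q)) :=
    Localization.isLocalHom_localRingHom _ _ _ rfl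
  haveI : Module.FaithfullyFlat (Localization.AtPrime (Q.comap f)) (Localization.AtPrime Q) :=
    Module.FaithfullyFlat.of_flat_of_isLocalHom
  refine FaithfulSMul.algebraMap_injective (Localization.AtPrime (Q.comap f)) (Localization.AtPrime Q) ?_
  show g _ = g 0
  rw [Localization.localRingHom_to_map, hx, map_zero, map_zero]

/-- A surjection that is an isomorphism on local rings preserves normality. -/
theorem isNormalRing_of_surjective_local_iso {T T' : Type u} [CommRing T] [CommRing T'] (φ : T →+* T')
    (hs : Function.Surjective φ)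
    (h : ∀ (Q : Ideal T') [Q.IsPrime] (x : T), φ x = 0 → algebraMap T (Localization.AtPrime (Q.comap φ)) x = 0)
    (hT : EGA4.IsNormalRing T) : EGA4.IsNormalRing T' := by
  intro Q _
  obtain ⟨h1, h2⟩ := hT (Q.comap φ)
  haveI := h1
  haveI := h2
  let g := Localization.localRingHom (Q.comap φ) Q φ rfl
  have hsurj : Function.Surjective g := by
    intro z
    obtain ⟨a, ⟨b, hb⟩, rfl⟩ := IsLocalization.exists_mk'_eq Q.primeCompl z
    obtain ⟨a', rfl⟩ := hs a
    obtain ⟨b', rfl⟩ := hs b
    exact ⟨IsLocalization.mk' _ a' (⟨b', hb⟩ : (Q.comap φ).primeCompl), Localization.localRingHom_mk' _ _ _ _ _ _⟩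
  have hinj : Function.Injective g := by
    rw [injective_iff_map_eq_zero]
    intro z hz
    obtain ⟨a, b, rfl⟩ := IsLocalization.exists_mk'_eq (Q.comap φ).primeCompl z
    rw [Localization.localRingHom_mk', IsLocalization.mk'_eq_zero_iff] at hz
    obtain ⟨⟨c, hc⟩, hca⟩ := hz
    obtain ⟨c', rfl⟩ := hs c
    have h0 := h Q (c' * a) (by rw [map_mul]; exact hca)
    rw [map_mul] at h0
    have hu : IsUnit (algebraMap T (Localization.AtPrime (Q.comap φ)) c') :=
      IsLocalization.map_units (Localization.AtPrime (Q.comap φ)) (⟨c', hc⟩ : (Q.comap φ).primeCompl)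
    rw [IsLocalization.mk'_eq_mul_mk'_one, hu.mul_right_eq_zero.1 h0, zero_mul]
  let e := RingEquiv.ofBijective g ⟨hinj, hsurj⟩
  exact ⟨e.symm.toMulEquiv.isDomain, IsIntegrallyClosed.of_equiv e⟩

/-- Base change to a field is a local isomorphism along a flat multiplication map. -/
theorem isNormalRing_tensor_cancel (A B C K : Type u) [CommRing A] [CommRing B] [CommRing C] [CommRing K]
    [Algebra A B] [Algebra A C] [Algebra B C] [IsScalarTower A B C] [Algebra A K] [Algebra B K] [IsScalarTower A B K]
    (hfl : (Algebra.TensorProduct.lmul' A (S := B)).Flat) (hT : EGA4.IsNormalRing (K ⊗[A] C)) :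
    EGA4.IsNormalRing (K ⊗[B] C) := by
  let φ : K ⊗[A] C →ₐ[A] K ⊗[B] C := Algebra.TensorProduct.lift
    ((Algebra.TensorProduct.includeLeft : K →ₐ[B] K ⊗[B] C).restrictScalars A)
    ((Algebra.TensorProduct.includeRight : C →ₐ[B] K ⊗[B] C).restrictScalars A) fun _ _ => Commute.all _ _
  have hφ : ∀ k c, φ (k ⊗ₜ[A] c) = k ⊗ₜ[B] c := fun k c => by
    rw [Algebra.TensorProduct.lift_tmul]
    show (k ⊗ₜ[B] (1 : C)) * ((1 : K) ⊗ₜ[B] c) = _
    rw [Algebra.TensorProduct.tmul_mul_tmul, mul_one, one_mul]
  have hs : Function.Surjective φ := fun y => by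
    induction y using TensorProduct.induction_on with
    | zero => exact ⟨0, map_zero _⟩
    | tmul k c => exact ⟨k ⊗ₜ[A] c, hφ k c⟩
    | add a b ha hb =>
      obtain ⟨a', rfl⟩ := ha
      obtain ⟨b', rfl⟩ := hb
      exact ⟨a' + b', map_add _ _ _⟩
  refine isNormalRing_of_surjective_local_iso φ.toRingHom hs (fun Q _ x hx => ?_) hT
  let P := Q.comap φ.toRingHom
  let TQ := Localization.AtPrime P
  let l : K ⊗[A] C →+* TQ := algebraMap _ TQ
  let ι : B ⊗[A] B →ₐ[A] K ⊗[A] C :=
    Algebra.TensorProduct.map (IsScalarTower.toAlgHom A B K) (IsScalarTower.toAlgHom A B C)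
  have hι : ∀ z, φ (ι z) = algebraMap B (K ⊗[B] C) (Algebra.TensorProduct.lmul' A z) := by
    intro z
    induction z using TensorProduct.induction_on with
    | zero => simp
    | tmul a b =>
      rw [Algebra.TensorProduct.map_tmul, hφ, Algebra.TensorProduct.lmul'_apply_tmul,
        Algebra.TensorProduct.algebraMap_apply, map_mul, IsScalarTower.coe_toAlgHom', IsScalarTower.coe_toAlgHom',
        Algebra.algebraMap_eq_smul_one (R := B) (A := C) b, TensorProduct.tmul_smul, TensorProduct.smul_tmul',
        Algebra.smul_def, mul_comm]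
    | add a b ha hb => simp only [map_add, ha, hb]
  have heq : ∀ b : B, l (algebraMap B K b ⊗ₜ[A] (1 : C)) = l ((1 : K) ⊗ₜ[A] algebraMap B C b) := by
    intro b
    let z : B ⊗[A] B := b ⊗ₜ 1 - 1 ⊗ₜ b
    have hz : Algebra.TensorProduct.lmul' A z = 0 := by simp [z]
    let q0 := Q.comap (algebraMap B (K ⊗[B] C))
    have h0 := eq_zero_atPrime_of_flat_surjective (Algebra.TensorProduct.lmul' A (S := B)).toRingHom hfl
      (fun y => ⟨y ⊗ₜ 1, by simp⟩) hz q0
    obtain ⟨⟨c, hc⟩, hcz⟩ := (IsLocalization.map_eq_zero_iff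
      (q0.comap (Algebra.TensorProduct.lmul' A (S := B)).toRingHom).primeCompl
      (Localization.AtPrime (q0.comap (Algebra.TensorProduct.lmul' A (S := B)).toRingHom)) z).1 h0
    have hcP : ι c ∉ P := fun hmem => hc (by
      show algebraMap B (K ⊗[B] C) (Algebra.TensorProduct.lmul' A c) ∈ Q
      rw [← hι]; exact hmem)
    have hu : IsUnit (l (ι c)) := IsLocalization.map_units TQ (⟨ι c, hcP⟩ : P.primeCompl)
    have h1 : l (ι c) * l (ι z) = 0 := by
      rw [← map_mul, ← map_mul]
      show l (ι (c * z)) = 0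
      rw [show c * z = 0 from hcz, map_zero, map_zero]
    have h2 := hu.mul_right_eq_zero.1 h1
    rw [show ι z = algebraMap B K b ⊗ₜ[A] (1 : C) - (1 : K) ⊗ₜ[A] algebraMap B C b by
      simp [z, ι], map_sub, sub_eq_zero] at h2
    exact h2
  have halg : ∀ b : B, algebraMap B TQ b = l (algebraMap B K b ⊗ₜ[A] (1 : C)) := fun b => by
    rw [IsScalarTower.algebraMap_apply B (K ⊗[A] C) TQ, Algebra.TensorProduct.algebraMap_apply]
  let fK : K →ₐ[B] TQ :=
    { l.comp (Algebra.TensorProduct.includeLeftRingHom : K →+* K ⊗[A] C) with commutes' := fun b => (halg b).symm }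
  let fC : C →ₐ[B] TQ :=
    { l.comp (Algebra.TensorProduct.includeRight : C →ₐ[A] K ⊗[A] C).toRingHom with
      commutes' := fun b => (heq b).symm.trans (halg b).symm }
  let ψ : K ⊗[B] C →ₐ[B] TQ := Algebra.TensorProduct.lift fK fC fun _ _ => Commute.all _ _
  have hψ : ∀ y, ψ (φ y) = l y := by
    intro y
    induction y using TensorProduct.induction_on with
    | zero => simp
    | tmul k c =>
      rw [hφ, Algebra.TensorProduct.lift_tmul]
      show l (k ⊗ₜ[A] (1 : C)) * l ((1 : K) ⊗ₜ[A] c) = _
      rw [← map_mul, Algebra.TensorProduct.tmul_mul_tmul, mul_one, one_mul]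
    | add a b ha hb => simp only [map_add, ha, hb]
  show l x = 0
  rw [← hψ, show φ x = 0 from hx, map_zero]

/-- Normality of a homomorphism cancels along a map with flat multiplication. -/
theorem isNormalHom_of_weaklyEtale_comp (A B C : Type u) [CommRing A] [CommRing B] [CommRing C] [Algebra A B]
    [Algebra A C] [Algebra B C] [IsScalarTower A B C] [Algebra.WeaklyEtale A B] (h : EGA4.IsNormalHom A C) :
    EGA4.IsNormalHom B C := by
  haveI := h.1
  refine ⟨HenselLib.WEt.flat_of_flat_lmul (Algebra.WeaklyEtale.flat_lmul' A B) C, fun P _ k' _ _ _ => ?_⟩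
  letI : Algebra B k' := ((algebraMap P.ResidueField k').comp (algebraMap B P.ResidueField)).toAlgebra
  haveI : IsScalarTower B P.ResidueField k' := IsScalarTower.of_algebraMap_eq fun _ => rfl
  letI : Algebra A k' := ((algebraMap B k').comp (algebraMap A B)).toAlgebra
  haveI : IsScalarTower A B k' := IsScalarTower.of_algebraMap_eq fun _ => rfl
  let p := RingHom.ker (algebraMap A k')
  haveI : p.IsPrime := RingHom.ker_isPrime _
  letI : Algebra p.ResidueField k' :=
    (Ideal.ResidueField.lift p (algebraMap A k') le_rfl fun x hx => isUnit_iff_ne_zero.mpr fun h0 => hx h0).toAlgebra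
  haveI : IsScalarTower A p.ResidueField k' :=
    IsScalarTower.of_algebraMap_eq fun x => (Ideal.ResidueField.lift_algebraMap p _ _ _ x).symm
  have hk : EGA4.IsNormalRing k' := fun q _ => by
    haveI : IsDomain (Localization.AtPrime q) := IsLocalization.isDomain_localization q.primeCompl_le_nonZeroDivisors
    exact ⟨inferInstance, isIntegrallyClosed_of_isLocalization _ q.primeCompl q.primeCompl_le_nonZeroDivisors⟩
  have h1 : EGA4.IsNormalRing (p.Fiber C ⊗[p.ResidueField] k') :=
    S9413.result p.ResidueField (p.Fiber C) k' (h.2 p) hk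
  have h2 : EGA4.IsNormalRing (k' ⊗[A] C) :=
    CommAlg6.isNormalRing_of_ringEquiv ((Algebra.TensorProduct.comm p.ResidueField (p.Fiber C) k').toRingEquiv.trans
      (Algebra.TensorProduct.cancelBaseChange A p.ResidueField p.ResidueField k' C).toRingEquiv) h1
  exact CommAlg6.isNormalRing_of_ringEquiv
    (Algebra.TensorProduct.cancelBaseChange B P.ResidueField P.ResidueField k' C).toRingEquiv.symm
    (isNormalRing_tensor_cancel A B C k' (Algebra.WeaklyEtale.flat_lmul' A B) h2)

/-- Normal homomorphisms are invariant under isomorphisms of the target. -/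
theorem isNormalHom_of_algEquiv {A C D : Type u} [CommRing A] [CommRing C] [CommRing D] [Algebra A C] [Algebra A D]
    (e : C ≃ₐ[A] D) (h : EGA4.IsNormalHom A C) : EGA4.IsNormalHom A D := by
  haveI := h.1
  refine ⟨Module.Flat.of_linearEquiv e.symm.toLinearEquiv, fun p _ k' _ _ hk => ?_⟩
  exact CommAlg6.isNormalRing_of_ringEquiv
    (Algebra.TensorProduct.congr (AlgEquiv.refl : k' ≃ₐ[p.ResidueField] k')
      (Algebra.TensorProduct.congr (AlgEquiv.refl : p.ResidueField ≃ₐ[p.ResidueField] p.ResidueField) e)).toRingEquiv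
    (h.2 p k' hk)

end Groth.Agent.CAlgH.NormalCancel
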