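import Groth.Agent.CAlgH.KoszulSeq
import Mathlib.RingTheory.Filtration

/-!
# Normal flatness and regular sequences
-/

universe u

set_option autoImplicit false

open RingTheory.Sequence IsLocalRing TensorProduct

namespace Groth.Agent.CAlgH.NormallyFlatRegular

variable {A : Type u} [CommRing A] (J : Ideal A)

theorem mem_pow_smul_top {k d : ℕ} (x : ↥(J ^ k)) :
    x ∈ J ^ d • (⊤ : Submodule A ↥(J ^ k)) ↔ (x : A) ∈ J ^ (k + d) := by
  have h : Submodule.map (Submodule.subtype (J ^ k)) (J ^ d • (⊤ : Submodule A ↥(J ^ k))) = J ^ (k + d) := by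
    rw [Submodule.map_smul'', Submodule.map_top, Submodule.range_subtype, smul_eq_mul, ← pow_add, add_comm]
  rw [← h]
  exact (Submodule.mem_map.trans ⟨fun ⟨y, hy, hyx⟩ => Subtype.ext (a1 := y) hyx ▸ hy, fun hx => ⟨x, hx, rfl⟩⟩).symm

theorem isWeaklyRegular_gr (fs : List A) (hreg : IsWeaklyRegular (A ⧸ J) fs) (M : Type u) [AddCommGroup M]
    [Module A M] [Module (A ⧸ J) M] [IsScalarTower A (A ⧸ J) M] [Module.Flat (A ⧸ J) M] :
    IsWeaklyRegular M fs := by
  have h' := (isWeaklyRegular_map_algebraMap_iff (A ⧸ J) (A ⧸ J) fs).2 hreg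
  have h2 := h'.isWeaklyRegular_rTensor (M₂ := M)
  exact (isWeaklyRegular_map_algebraMap_iff (A ⧸ J) M fs).1
    (((TensorProduct.lid (A ⧸ J) M).isWeaklyRegular_congr _).1 h2)

theorem isWeaklyRegular_truncation (hflat : ∀ k : ℕ, Module.Flat (A ⧸ J) (↥(J ^ k) ⧸ (J • (⊤ : Submodule A ↥(J ^ k)))))
    (fs : List A) (hreg : IsWeaklyRegular (A ⧸ J) fs) (k : ℕ) :
    ∀ d, IsWeaklyRegular (↥(J ^ k) ⧸ (J ^ d • (⊤ : Submodule A ↥(J ^ k)))) fs := by
  intro d
  induction d with
  | zero =>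
    have : Subsingleton (↥(J ^ k) ⧸ (J ^ 0 • (⊤ : Submodule A ↥(J ^ k)))) := by
      rw [pow_zero, Ideal.one_eq_top, Submodule.top_smul]
      exact Submodule.Quotient.subsingleton_iff.2 rfl
    exact ⟨fun i h x y _ => (Submodule.mkQ_surjective _).subsingleton.elim x y⟩
  | succ d ih =>
    have hle : J ^ (k + d) ≤ J ^ k := Ideal.pow_le_pow_right (Nat.le_add_right k d)
    let i₀ : ↥(J ^ (k + d)) →ₗ[A] (↥(J ^ k) ⧸ (J ^ (d + 1) • (⊤ : Submodule A ↥(J ^ k)))) :=
      (Submodule.mkQ _).comp (Submodule.inclusion hle)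
    have hk : J • (⊤ : Submodule A ↥(J ^ (k + d))) = LinearMap.ker i₀ := by
      ext x
      have h1 := mem_pow_smul_top J (d := 1) x
      rw [show (J ^ 1 : Ideal A) = J from pow_one J] at h1
      rw [h1, LinearMap.mem_ker]
      show _ ↔ Submodule.mkQ _ (Submodule.inclusion hle x) = 0
      rw [Submodule.mkQ_apply, Submodule.Quotient.mk_eq_zero, mem_pow_smul_top, ← add_assoc]
      rfl
    let i := Submodule.liftQ _ i₀ hk.le
    have hpd : J ^ (d + 1) • (⊤ : Submodule A ↥(J ^ k)) ≤ J ^ d • ⊤ :=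
      Submodule.smul_mono_left (Ideal.pow_le_pow_right (Nat.le_succ d))
    let p := Submodule.factor hpd
    refine KoszulSeq.isWeaklyRegular_extension fs i p ?_ (Submodule.factor_surjective hpd) ?_
      (isWeaklyRegular_gr J fs hreg _ ) ih
    · rw [← LinearMap.ker_eq_bot]
      exact Submodule.ker_liftQ_eq_bot _ _ _ hk.ge
    · rw [LinearMap.exact_iff]
      ext z
      obtain ⟨z, rfl⟩ := Submodule.mkQ_surjective _ z
      rw [LinearMap.mem_ker, show p (Submodule.mkQ _ z) = Submodule.mkQ _ z from rfl, Submodule.mkQ_apply,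
        Submodule.Quotient.mk_eq_zero, mem_pow_smul_top, Submodule.range_liftQ, LinearMap.mem_range]
      constructor
      · intro hz
        exact ⟨⟨z, hz⟩, rfl⟩
      · rintro ⟨x, hx⟩
        have h2 := (Submodule.Quotient.eq _).1 hx
        rw [mem_pow_smul_top] at h2
        have h3 : (z : A) = (x : A) - ((Submodule.inclusion hle x : A) - (z : A)) := (sub_sub_self _ _).symm
        rw [h3]
        exact Ideal.sub_mem _ x.2 (Ideal.pow_le_pow_right (by omega) h2)

theorem isWeaklyRegular_pow [IsLocalRing A] [IsNoetherianRing A] (hJ : J ≠ ⊤)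
    (hflat : ∀ k : ℕ, Module.Flat (A ⧸ J) (↥(J ^ k) ⧸ (J • (⊤ : Submodule A ↥(J ^ k)))))
    (fs : List A) (hreg : IsWeaklyRegular (A ⧸ J) fs) (k : ℕ) : IsWeaklyRegular ↥(J ^ k) fs := by
  rw [isWeaklyRegular_iff]
  intro i hi
  rw [isSMulRegular_quotient_iff_mem_of_smul_mem]
  intro z hz
  let P : Submodule A ↥(J ^ k) := Ideal.ofList (fs.take i) • ⊤
  have key : ∀ d, Submodule.Quotient.mk (p := P) z ∈ J ^ d • (⊤ : Submodule A (↥(J ^ k) ⧸ P)) := by
    intro d
    have hd := (isWeaklyRegular_iff _ fs).1 (isWeaklyRegular_truncation J hflat fs hreg k d) i hi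
    rw [isSMulRegular_quotient_iff_mem_of_smul_mem] at hd
    have hmap : Ideal.ofList (fs.take i) • (⊤ : Submodule A (↥(J ^ k) ⧸ (J ^ d • (⊤ : Submodule A ↥(J ^ k))))) =
        P.map (Submodule.mkQ _) := by
      rw [Submodule.map_smul'', Submodule.map_top, Submodule.range_mkQ]
    have hz' := hd (Submodule.mkQ _ z) (by
      rw [← map_smul, hmap]; exact Submodule.mem_map_of_mem hz)
    rw [hmap, ← Submodule.mem_comap, Submodule.comap_map_mkQ] at hz'
    obtain ⟨a, ha, b, hb, hab⟩ := Submodule.mem_sup.1 hz'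
    rw [← hab, Submodule.Quotient.mk_add, (Submodule.Quotient.mk_eq_zero P).2 hb, add_zero]
    rw [← Submodule.range_mkQ P, ← Submodule.map_top, ← Submodule.map_smul'']
    exact Submodule.mem_map_of_mem ha
  have h0 := (Submodule.mem_iInf _).2 key
  rw [Ideal.iInf_pow_smul_eq_bot_of_isLocalRing J hJ, Submodule.mem_bot, Submodule.Quotient.mk_eq_zero] at h0
  exact h0

end Groth.Agent.CAlgH.NormallyFlatRegular
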