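import Groth.Agent.CAlgH.ExcellentNormal
import Groth.Agent.CAlgH.RegularLocal
import Groth.Agent.CAlgH.RegularDescent
import Groth.Agent.CommAlg6.GeomNormalBase
import Groth.Agent.AdicRing.ComplHom
import Mathlib

/-!
# `(1 + J)⁻¹A` and the `J`-adic completion
-/

set_option autoImplicit false
set_option linter.style.haveILetI false
universe u

open TensorProduct

namespace Groth.Agent.CAlgH.OnePlus

variable {A : Type u} [CommRing A] [IsNoetherianRing A] (J : Ideal A)

/-- The reduction of the completion is `A/J`. -/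
theorem exists_quotient_equiv : ∃ e : A ⧸ J ≃+* AdicCompletion J A ⧸ J.map (algebraMap A (AdicCompletion J A)),
    ∀ a, e (Ideal.Quotient.mk J a) = Ideal.Quotient.mk _ (algebraMap A (AdicCompletion J A) a) := by
  let B := AdicCompletion J A
  let f : A →+* B ⧸ J.map (algebraMap A B) := (Ideal.Quotient.mk _).comp (algebraMap A B)
  have hker : RingHom.ker f = J := by
    refine le_antisymm (fun a ha => ?_) fun a ha => Ideal.Quotient.eq_zero_iff_mem.2 (Ideal.mem_map_of_mem _ ha)
    have h1 : algebraMap A B a ∈ J.map (algebraMap A B) := Ideal.Quotient.eq_zero_iff_mem.1 ha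
    have h2 : AdicCompletion.evalₐ J 1 (algebraMap A B a) = 0 := by
      have := (Groth.Agent.FSchLib.ker_evalₐ J (IsNoetherian.noetherian J) 1).ge
      exact this (by rw [pow_one]; exact h1)
    rw [Groth.Agent.FSchLib.evalₐ_algebraMap, Ideal.Quotient.eq_zero_iff_mem, pow_one] at h2
    exact h2
  let e := (Ideal.quotEquivOfEq hker.symm).trans
    (RingHom.quotientKerEquivOfSurjective
      (Groth.Agent.AdicRing.surjective_mk_algebraMap_completion J (IsNoetherian.noetherian J)))
  exact ⟨e, fun _ => rfl⟩

theorem isUnit_algebraMap (T : Submonoid A) (hT : T = MonoidHom.mker (Ideal.Quotient.mk J)) (t : T) :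
    IsUnit (algebraMap A (AdicCompletion J A) t) := by
  obtain ⟨e, he⟩ := exists_quotient_equiv J
  refine Ideal.isUnit_of_sub_one_mem_jacobson_bot _ ?_
  refine Groth.Agent.FSchLib.map_le_jacobson J (IsNoetherian.noetherian J) ?_
  have h : (t : A) ∈ MonoidHom.mker (Ideal.Quotient.mk J) := hT ▸ t.2
  rw [← Ideal.Quotient.eq, ← he, show Ideal.Quotient.mk J t = 1 from h, map_one, map_one]

/-- `(1+J)⁻¹A → Â` exists and is faithfully flat. -/
theorem exists_algebra (T : Submonoid A) (hT : T = MonoidHom.mker (Ideal.Quotient.mk J)) :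
    ∃ (_ : Algebra (Localization T) (AdicCompletion J A)),
      IsScalarTower A (Localization T) (AdicCompletion J A) ∧
      Module.FaithfullyFlat (Localization T) (AdicCompletion J A) := by
  let B := AdicCompletion J A
  let C := Localization T
  letI : Algebra C B := (IsLocalization.lift (isUnit_algebraMap J T hT)).toAlgebra
  haveI hst : IsScalarTower A C B := IsScalarTower.of_algebraMap_eq fun x => (IsLocalization.lift_eq (isUnit_algebraMap J T hT) x).symm
  refine ⟨inferInstance, hst, ?_⟩
  haveI : Module.Flat A B := AdicCompletion.flat_of_isNoetherian _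
  haveI : Module.Flat C B := (Module.flat_iff_of_isLocalization C T B).2 inferInstance
  refine ⟨fun m hm => ?_⟩
  let p := m.comap (algebraMap A C)
  have hdisj : ∀ t ∈ T, t ∉ p := fun t ht htp =>
    hm.ne_top (Ideal.eq_top_of_isUnit_mem _ htp (IsLocalization.map_units C ⟨t, ht⟩))
  have hsum : p ⊔ J ≠ ⊤ := fun h => by
    obtain ⟨a, ha, b, hb, hab⟩ := Submodule.mem_sup.1 ((Ideal.eq_top_iff_one _).1 h)
    refine hdisj a ?_ ha
    rw [hT]
    show Ideal.Quotient.mk J a = 1
    rw [← map_one (Ideal.Quotient.mk J), Ideal.Quotient.eq, ← hab]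
    simpa using J.neg_mem hb
  intro htop
  apply hsum
  rw [Ideal.smul_top_eq_map] at htop
  have h1 : m.map (algebraMap C B) = ⊤ := by
    rw [eq_top_iff]; intro x hx
    have : x ∈ (m.map (algebraMap C B)).restrictScalars C := htop.symm ▸ Submodule.mem_top
    exact this
  rw [show m = p.map (algebraMap A C) from (IsLocalization.map_comap T C m).symm, Ideal.map_map,
    ← IsScalarTower.algebraMap_eq] at h1
  obtain ⟨e, he⟩ := exists_quotient_equiv J
  have h2 : (p.map (Ideal.Quotient.mk J)).map (e : A ⧸ J →+* B ⧸ J.map (algebraMap A B)) = ⊤ := by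
    rw [Ideal.map_map, show (e : A ⧸ J →+* B ⧸ J.map (algebraMap A B)).comp (Ideal.Quotient.mk J) =
      (Ideal.Quotient.mk _).comp (algebraMap A B) from RingHom.ext he, ← Ideal.map_map, h1, Ideal.map_top]
  have h3 : p.map (Ideal.Quotient.mk J) = ⊤ := by
    rw [← Ideal.comap_map_of_bijective (e : A ⧸ J →+* B ⧸ J.map (algebraMap A B)) e.bijective (I := p.map _), h2,
      Ideal.comap_top]
  have h4 := congrArg (Ideal.comap (Ideal.Quotient.mk J)) h3
  rwa [Ideal.comap_map_of_surjective _ Ideal.Quotient.mk_surjective, ← RingHom.ker_eq_comap_bot, Ideal.mk_ker,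
    Ideal.comap_top] at h4

theorem isNormalRing_iff (hJ : J ≠ ⊤) (hf : EGA4.IsNormalHom A (AdicCompletion J A))
    (T : Submonoid A) (hT : T = MonoidHom.mker (Ideal.Quotient.mk J)) :
    EGA4.IsNormalRing (Localization T) ↔ EGA4.IsNormalRing (AdicCompletion J A) := by
  obtain ⟨_, hst, hff⟩ := exists_algebra J T hT
  haveI := hst
  haveI := hff
  let B := AdicCompletion J A
  let C := Localization T
  haveI : IsNoetherianRing B := Groth.Agent.Matlis6.isNoetherianRing_adicCompletion _
  haveI : IsNoetherianRing C := IsLocalization.isNoetherianRing T _ inferInstance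
  refine ⟨fun h => Groth.Agent.CommAlg6.isNormalRing_of_normal_fibres h fun P _ => ?_,
    Groth.Agent.CommAlg6.isNormalRing_descend⟩
  let e := (IsLocalization.algebraTensorEquiv T C P.ResidueField B).toRingEquiv
  haveI := Groth.Agent.CommAlg6.isNoetherianRing_fiber (B := B) P
  haveI : IsNoetherianRing (P.ResidueField ⊗[A] B) := isNoetherianRing_of_ringEquiv _ e
  exact Groth.Agent.CommAlg6.isNormalRing_of_ringEquiv e.symm
    (Groth.Agent.CommAlg6.isNormalRing_normalHom_field hf P.ResidueField)

theorem isRegularRing_iff' (hJ : J ≠ ⊤) (hf : CAlg.IsRegularHom A (AdicCompletion J A))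
    (T : Submonoid A) (hT : T = MonoidHom.mker (Ideal.Quotient.mk J)) :
    IsRegularRing (Localization T) ↔ IsRegularRing (AdicCompletion J A) := by
  obtain ⟨_, hst, hff⟩ := exists_algebra J T hT
  haveI := hst
  haveI := hff
  haveI : IsNoetherianRing (AdicCompletion J A) := Groth.Agent.Matlis6.isNoetherianRing_adicCompletion _
  refine ⟨fun h => ?_, fun h => ?_⟩
  · exact Groth.Agent.CAlgH.isRegularRing_of_isRegularHom
      (Groth.Agent.CAlgH.isRegularHom_of_isLocalization_base A (Localization T) _ T hf)
  · exact Groth.Agent.CAlgH.isRegularRing_of_faithfullyFlat (Localization T) (AdicCompletion J A)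

/-- A ring with connected spectrum has only trivial idempotents. -/
theorem idempotent_of_connected {R : Type u} [CommRing R] [ConnectedSpace (PrimeSpectrum R)] (e : R)
    (he : IsIdempotentElem e) : e = 0 ∨ e = 1 := by
  rcases isClopen_iff.1 (PrimeSpectrum.isClopen_iff.2 ⟨e, he, rfl⟩ :
    IsClopen (PrimeSpectrum.basicOpen e : Set (PrimeSpectrum R))) with h | h
  · left
    refine PrimeSpectrum.basicOpen_injOn_isIdempotentElem he IsIdempotentElem.zero ?_
    rw [PrimeSpectrum.basicOpen_zero]
    exact SetLike.coe_injective h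
  · right
    refine PrimeSpectrum.basicOpen_injOn_isIdempotentElem he IsIdempotentElem.one ?_
    rw [PrimeSpectrum.basicOpen_one]
    exact SetLike.coe_injective h

theorem connected_of_idempotent {R : Type u} [CommRing R] [Nontrivial R]
    (h : ∀ e : R, IsIdempotentElem e → e = 0 ∨ e = 1) : ConnectedSpace (PrimeSpectrum R) := by
  haveI : Nonempty (PrimeSpectrum R) := inferInstance
  haveI : PreconnectedSpace (PrimeSpectrum R) := preconnectedSpace_iff_clopen.2 fun s hs => by
    obtain ⟨e, he, rfl⟩ := PrimeSpectrum.isClopen_iff.1 hs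
    rcases h e he with rfl | rfl
    · left; rw [PrimeSpectrum.basicOpen_zero]; rfl
    · right; rw [PrimeSpectrum.basicOpen_one]; rfl
  exact ⟨inferInstance⟩

theorem isDomain_iff (hJ : J ≠ ⊤) (hn : EGA4.IsNormalRing (AdicCompletion J A)) :
    IsDomain (AdicCompletion J A) ↔ ConnectedSpace (PrimeSpectrum (A ⧸ J)) := by
  let B := AdicCompletion J A
  let J' := J.map (algebraMap A B)
  haveI : IsNoetherianRing B := Groth.Agent.Matlis6.isNoetherianRing_adicCompletion _
  haveI : Nontrivial (A ⧸ J) := Ideal.Quotient.nontrivial_iff.2 hJ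
  obtain ⟨e, -⟩ := exists_quotient_equiv J
  haveI : Nontrivial (B ⧸ J') := e.symm.toEquiv.nontrivial
  haveI : Nontrivial B := (Ideal.Quotient.mk J').domain_nontrivial
  haveI : IsAdicComplete J' B := AdicCompletion.isAdicComplete_self J (IsNoetherian.noetherian _)
  constructor
  · intro hd
    refine connected_of_idempotent fun x hx => ?_
    obtain ⟨a₀, ha₀⟩ := Ideal.Quotient.mk_surjective (e x)
    have hx' : IsIdempotentElem (e x) := hx.map e
    have h2 : IsUnit ((2 * e x - 1) : B ⧸ J') := IsUnit.of_mul_eq_one (2 * e x - 1) (by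
      have : e x * e x = e x := hx'
      linear_combination 4 * this)
    obtain ⟨a, ha, haJ⟩ := HenselianRing.is_henselian (I := J') (Polynomial.X ^ 2 - Polynomial.X : Polynomial B)
      (by monicity!) a₀ (by
        simp only [Polynomial.eval_sub, Polynomial.eval_pow, Polynomial.eval_X]
        rw [← Ideal.Quotient.eq_zero_iff_mem, map_sub, map_pow, ha₀, sq, hx', sub_self]) (by
        simp only [Polynomial.derivative_sub, Polynomial.derivative_X_pow, Polynomial.derivative_X]
        have h3 : IsUnit (Ideal.Quotient.mk J' (2 * a₀ - 1)) := by rw [map_sub, map_mul, map_ofNat, map_one, ha₀]; exact h2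
        simpa using h3)
    rw [← e.injective.eq_iff (b := 0), ← e.injective.eq_iff (b := 1), map_zero, map_one, ← ha₀,
      ← Ideal.Quotient.eq.2 haJ]
    simp only [Polynomial.IsRoot, Polynomial.eval_sub, Polynomial.eval_pow, Polynomial.eval_X] at ha
    rcases mul_eq_zero.1 (show a * (a - 1) = 0 by linear_combination ha) with h | h
    · left; rw [h, map_zero]
    · right; rw [sub_eq_zero.1 h, map_one]
  · intro hc
    refine Groth.Agent.CommAlg6.NormalTensor.isDomain_of_no_idempotent hn fun b hb => ?_
    have key : ∀ c : B, IsIdempotentElem c → c ∈ J' → c = 0 := fun c hc' hcJ => by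
      have hu : IsUnit (1 - c) := by
        refine Ideal.isUnit_of_sub_one_mem_jacobson_bot _ ?_
        rw [sub_sub_cancel_left]
        exact neg_mem (Groth.Agent.FSchLib.map_le_jacobson J (IsNoetherian.noetherian J) hcJ)
      exact (hu.mul_left_eq_zero).1 (by rw [mul_sub, mul_one, hc', sub_self])
    rcases idempotent_of_connected (e.symm (Ideal.Quotient.mk J' b)) ((hb.map _).map e.symm) with h | h
    · left
      refine key b hb (Ideal.Quotient.eq_zero_iff_mem.1 ?_)
      rw [← e.apply_symm_apply (Ideal.Quotient.mk J' b), h, map_zero]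
    · right
      refine (sub_eq_zero.1 (key (1 - b) hb.one_sub (Ideal.Quotient.eq_zero_iff_mem.1 ?_))).symm
      rw [map_sub, map_one, ← e.apply_symm_apply (Ideal.Quotient.mk J' b), h, map_one, sub_self]

end Groth.Agent.CAlgH.OnePlus
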