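import Mathlib
import Groth.Agent.CommAlg4.SigmaLinGen
import Groth.Agent.CommAlg4.LangFixed

/-! Decomposition of p-linear endomorphisms over algebraically closed fields. -/

set_option autoImplicit false
universe u v

namespace Groth.Agent.CAlgH.PLinearDecomp

open CommAlg4.SigmaLinGen

variable {p : ℕ} [Fact p.Prime] {k : Type u} [Field k] [CharP k p] {V : Type v} [AddCommGroup V] [Module k V]
  (F : V →+ V) (hF : ∀ (a : k) (v : V), F (a • v) = a ^ p • F v)

include hF in
theorem linearIndependent_fixed (s : Finset V) (hs : ∀ v ∈ s, F v = v)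
    (hz : ∀ c : s → ℤ, (∑ v : s, c v • (v : V)) = 0 → ∀ v : s, (p : ℤ) ∣ c v) :
    LinearIndependent k (fun v : s => (v : V)) := by
  classical
  induction s using Finset.induction_on with
  | empty => exact linearIndependent_empty_type
  | insert a s ha ih =>
    have hz' : ∀ c : V → ℤ, ∑ v ∈ insert a s, c v • v = 0 → ∀ v ∈ insert a s, (p : ℤ) ∣ c v := by
      intro c hc v hv
      exact hz (fun w => c w.1) ((Finset.sum_coe_sort (insert a s) (fun w => c w • w)).trans hc) ⟨v, hv⟩
    have hli : LinearIndependent k (fun v : s => (v : V)) := by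
      refine ih (fun v hv => hs v (Finset.mem_insert_of_mem hv)) fun c hc v => ?_
      let c' : V → ℤ := fun w => if h : w ∈ s then c ⟨w, h⟩ else 0
      have h := hz' c' (by
        rw [Finset.sum_insert ha, ← Finset.sum_coe_sort s]
        simpa [c', ha] using hc) v (Finset.mem_insert_of_mem v.2)
      simpa [c'] using h
    have hnot : a ∉ Submodule.span k (s : Set V) := by
      intro hmem
      obtain ⟨c, -, hc⟩ := Submodule.mem_span_finset.1 hmem
      have hfix : ∀ v ∈ s, c v ^ p = c v := by
        have h1 : ∑ v ∈ s, c v ^ p • v = a := by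
          conv_rhs => rw [← hs a (Finset.mem_insert_self a s), ← hc, map_sum]
          exact Finset.sum_congr rfl fun v hv => by rw [hF, hs v (Finset.mem_insert_of_mem hv)]
        have h2 : ∑ v : s, (c v.1 ^ p - c v.1) • (v : V) = 0 := by
          simp only [sub_smul, Finset.sum_sub_distrib]
          rw [Finset.sum_coe_sort s (fun v => c v ^ p • v), Finset.sum_coe_sort s (fun v => c v • v), h1, hc, sub_self]
        exact fun v hv => sub_eq_zero.1 (Fintype.linearIndependent_iff.1 hli _ h2 ⟨v, hv⟩)
      have hint : ∀ v ∈ s, ∃ n : ℤ, (n : k) = c v := fun v hv =>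
        (mem_bot_iff_intCast p k).1 ((Subfield.mem_bot_iff_pow_eq_self k p).2 (hfix v hv))
      choose! n hn using hint
      have h := hz' (fun v => if v = a then -1 else n v) (by
        rw [Finset.sum_insert ha, if_pos rfl, Finset.sum_congr rfl (fun v hv => by
          rw [if_neg (fun h : v = a => ha (h ▸ hv))])]
        rw [show ∑ v ∈ s, n v • v = a from (Finset.sum_congr rfl fun v hv => by
          rw [← Int.cast_smul_eq_zsmul k, hn v hv]).trans hc]
        simp) a (Finset.mem_insert_self a s)
      rw [if_pos rfl, dvd_neg, Int.natCast_dvd] at h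
      exact (Fact.out : p.Prime).one_lt.ne' (Nat.dvd_one.1 h)
    have := (linearIndepOn_id_insert (K := k) (s := (s : Set V)) (by simpa using ha)).2 ⟨hli, hnot⟩
    rw [← Finset.coe_insert] at this
    exact this

include hF in
theorem isCompl [IsAlgClosed k] [FiniteDimensional k V] :
    IsCompl (Submodule.span k {v : V | F v = v}) (Submodule.span k {v : V | ∃ m : ℕ, (⇑F)^[m] v = 0}) := by
  let T : V →ₛₗ[frobenius k p] V :=
    { toFun := F
      map_add' := map_add F
      map_smul' := fun a v => by simp only [frobenius_def]; exact hF a v }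
  have hn : Submodule.span k {v : V | ∃ m : ℕ, (⇑F)^[m] v = 0} = nil T :=
    le_antisymm (Submodule.span_le.2 fun v hv => hv) fun v hv => Submodule.subset_span hv
  have hc : Submodule.span k {v : V | F v = v} = core T := by
    refine le_antisymm (Submodule.span_le.2 fun v hv => ?_) ?_
    · show v ∈ ⨅ n, U T n
      exact Submodule.mem_iInf _ |>.2 fun n => Submodule.subset_span ⟨v, Function.iterate_fixed hv n⟩
    · let φ : core T →+ core T :=
        { toFun := fun v => ⟨F v.1, map_core T v.2⟩
          map_zero' := Subtype.ext (map_zero F)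
          map_add' := fun x y => Subtype.ext (map_add F x.1 y.1) }
      have h := CommAlg4.LangFixed.span_fixed_eq_top (q := p) (Fact.out : p.Prime).two_le φ
        (fun a v => Subtype.ext (hF a v.1))
        ((injective_iff_map_eq_zero φ).2 fun v hv => Subtype.ext (injOn_core T v.2 (n := 1) (congrArg Subtype.val hv)))
      intro v hv
      have h' : (⟨v, hv⟩ : core T) ∈ Submodule.span k {w : core T | φ w = w} := h ▸ Submodule.mem_top
      have h'' := Submodule.mem_map_of_mem (f := (core T).subtype) h'
      rw [Submodule.map_span] at h''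
      refine Submodule.span_mono ?_ h''
      rintro _ ⟨w, hw, rfl⟩
      exact congrArg Subtype.val hw
  rw [hn, hc]
  refine ⟨disjoint_iff.2 (eq_bot_iff.2 fun v ⟨h1, m, h2⟩ => injOn_core T h1 h2), codisjoint_iff.2 (eq_top_iff.2 ?_)⟩
  intro v _
  obtain ⟨u, hu, hvu⟩ := exists_decomp T (fun a => by
    obtain ⟨b, hb⟩ := IsAlgClosed.exists_pow_nat_eq a (Fact.out : p.Prime).pos
    exact ⟨b, hb⟩) v
  exact Submodule.mem_sup.2 ⟨u, hu, v - u, hvu, by abel⟩

end Groth.Agent.CAlgH.PLinearDecomp
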