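import Groth.Agent.ParaF29.Local
import Groth.Agent.PicLib.FlatTriv
import Groth.Agent.Et18.Descent
import Mathlib

/-! # Descent of parafactoriality along flat local homomorphisms with zero-dimensional fibre -/

set_option autoImplicit false
set_option backward.isDefEq.respectTransparency.types false
universe u

open CategoryTheory CategoryTheory.Limits AlgebraicGeometry Opposite TopologicalSpace
open Groth.Agent.PicLib Groth.Agent.Coherent Groth.Agent.AmpleLib

namespace Groth.Agent.CAlgH.RS

theorem bijective_opensι_appTop_iff {X : Scheme.{u}} (U : X.Opens) :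
    Function.Bijective U.ι.appTop ↔ Function.Bijective (res (le_top : U ≤ (⊤ : X.Opens))) := by
  rw [Scheme.Opens.ι_appTop]
  have key : ∀ {V : X.Opens}, V = U →
      (Function.Bijective (res (le_top : V ≤ (⊤ : X.Opens))) ↔ Function.Bijective (res (le_top : U ≤ (⊤ : X.Opens)))) := by
    intro V e; subst e; rfl
  exact key U.ι_image_top

theorem bijective_of_isPushout_faithfullyFlat {R S T P : CommRingCat.{u}} {f : R ⟶ S} {g : R ⟶ T}
    {inl : S ⟶ P} {inr : T ⟶ P} (h : IsPushout f g inl inr) (hf : f.hom.FaithfullyFlat)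
    (hinl : Function.Bijective inl) : Function.Bijective g := by
  algebraize [f.hom, g.hom, inl.hom, inr.hom, inl.hom.comp f.hom]
  have : IsScalarTower R T P := .of_algebraMap_eq' <| congr($(h.1.1).hom)
  have hp : Algebra.IsPushout R S T P := CommRingCat.isPushout_iff_isPushout.mp h
  haveI : Module.FaithfullyFlat R S := hf
  have hb : Function.Bijective (algebraMap S (TensorProduct R S T)) := by
    have e := Algebra.IsPushout.equiv R S T P
    have he : (algebraMap S (TensorProduct R S T)) = (e.symm.toRingEquiv.toRingHom).comp (algebraMap S P) := by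
      ext s; exact (e.symm.commutes s).symm
    rw [he, RingHom.coe_comp]
    exact e.symm.bijective.comp hinl
  exact Module.FaithfullyFlat.bijective_of_tensorProduct hb

theorem isParafactorial_descent (A B : Type u) [CommRing A] [CommRing B] [IsLocalRing A] [IsLocalRing B]
    [IsNoetherianRing A] [Algebra A B] [IsLocalHom (algebraMap A B)] [Module.Flat A B]
    (hfib : ∀ q : Ideal B, q.IsPrime → (IsLocalRing.maximalIdeal A).map (algebraMap A B) ≤ q → q = IsLocalRing.maximalIdeal B)
    (hB : ParaF.IsParafactorialLocalRing B) : ParaF.IsParafactorialLocalRing A := by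
  obtain ⟨hresB, hpicB⟩ := (ParaF29.isParafactorialLocalRing_iff B).1 hB
  let s : Spec (CommRingCat.of B) ⟶ Spec (CommRingCat.of A) := Spec.map (CommRingCat.ofHom (algebraMap A B))
  let U := FEt.puncturedSpec A
  have hff : (CommRingCat.ofHom (algebraMap A B)).hom.FaithfullyFlat := by
    rw [CommRingCat.hom_ofHom, RingHom.faithfullyFlat_algebraMap_iff]
    exact Module.FaithfullyFlat.of_flat_of_isLocalHom
  obtain ⟨hsflat, hssurj⟩ := (flat_and_surjective_SpecMap_iff _).2 hff
  haveI : Flat s := hsflat
  haveI : Surjective s := hssurj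
  have hpre : s ⁻¹ᵁ U = FEt.puncturedSpec B := by
    ext q
    refine not_congr ⟨fun h => ?_, fun h => ?_⟩
    · refine PrimeSpectrum.ext (hfib _ (PrimeSpectrum.isPrime q) (Ideal.map_le_iff_le_comap.2 ?_))
      exact (congrArg PrimeSpectrum.asIdeal h).ge
    · rw [h]
      exact PrimeSpectrum.ext (((IsLocalRing.local_hom_TFAE (algebraMap A B)).out 0 4).1 ‹IsLocalHom (algebraMap A B)›)
  haveI : IsNoetherianRing (CommRingCat.of A) := inferInstanceAs (IsNoetherianRing A)
  haveI : IsLocallyNoetherian (U : Scheme.{u}) := isLocallyNoetherian_of_isOpenImmersion U.ι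
  haveI : QuasiCompact U.ι := inferInstance
  haveI : CompactSpace (U : Scheme.{u}) := (quasiCompact_iff_compactSpace U.ι).mp inferInstance
  haveI : QuasiSeparatedSpace (U : Scheme.{u}) := (quasiSeparated_iff_quasiSeparatedSpace U.ι).mp inferInstance
  -- the pullback is the punctured spectrum of `B`
  have hrange : Set.range (pullback.snd U.ι s) = Set.range (FEt.puncturedSpec B).ι := by
    rw [IsOpenImmersion.range_pullbackSnd, Scheme.Opens.range_ι, Scheme.Opens.opensRange_ι]
    rw [← hpre]
  let e := IsOpenImmersion.isoOfRangeEq (pullback.snd U.ι s) (FEt.puncturedSpec B).ι hrange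
  have he : e.hom ≫ (FEt.puncturedSpec B).ι = pullback.snd U.ι s := IsOpenImmersion.lift_fac _ _ _
  have hsnd : Function.Bijective (pullback.snd U.ι s).appTop := by
    rw [← he, Scheme.Hom.comp_appTop]
    haveI : IsIso e.hom.appTop := inferInstanceAs (IsIso (Scheme.Γ.map e.hom.op))
    exact (ConcreteCategory.bijective_of_isIso e.hom.appTop).comp ((bijective_opensι_appTop_iff _).2 hresB)
  -- descend the sections
  have hsff : s.appTop.hom.FaithfullyFlat := Flat.flat_and_surjective_iff_faithfullyFlat_of_isAffine s |>.1 ⟨hsflat, hssurj⟩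
  have hres : Function.Bijective U.ι.appTop :=
    bijective_of_isPushout_faithfullyFlat
      (Groth.Agent.Et18.isPushout_appTop_of_flat (IsPullback.of_hasPullback U.ι s)).flip hsff hsnd
  refine (ParaF29.isParafactorialLocalRing_iff A).2 ⟨(bijective_opensι_appTop_iff U).1 hres, fun L hL => ?_⟩
  obtain ⟨W, m, hW, hle⟩ := exists_gen_near U.ι hres hL (fun _ : PUnit.{1} => CommRingCat.of B) (fun _ => s)
    (fun Z hZ => (Flat.isQuotientMap_of_surjective s).isClosed_preimage.1 (hZ PUnit.unit))
    (fun p => ⟨PUnit.unit, s.surjective p⟩)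
    (fun _ => by
      have h1 : ∀ a : PicM (FEt.puncturedSpec B : Scheme.{u}), a = 1 := fun a => by
        obtain ⟨M, hM, rfl⟩ := PicM.exists_eq_of a
        exact (PicM.of_eq_one_iff hM).2 (hpicB M hM)
      have h2 := PicM.pull_pull e.inv e.hom (PicM.pull (pullback.fst U.ι s) (PicM.of hL))
      rw [h1 (PicM.pull e.inv _), map_one, e.hom_inv_id, PicM.pull_id] at h2
      exact h2.symm)
    (IsLocalRing.closedPoint A)
  obtain rfl := ParaF29.eq_top_of_closedPoint_mem A hW
  have hgen : IsGen L ⊤ m := by
    have h := (isGen_glocus (L := L) m).restrict (show (⊤ : (FEt.puncturedSpec A : Scheme.{u}).Opens) ≤ glocus L m from hle)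
    rwa [resM_resM, resM_self] at h
  haveI : IsIso (unitDesc L m) := isIso_of_isGen _ (by rw [unitVal_unitDesc, resM_self]; exact hgen)
  exact ⟨(asIso (unitDesc L m)).symm⟩

end Groth.Agent.CAlgH.RS
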