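import Groth.Agent.CAlgH3.Depth
import Mathlib.RingTheory.Filtration
import Mathlib.RingTheory.Regular.RegularSequence

/-!
# Depth from a filtration with free graded pieces
-/

set_option autoImplicit false

universe u

open IsLocalRing RingTheory.Sequence

namespace Groth.Agent.CAlgH.ParaGr

variable {A : Type u} [CommRing A] (J : Ideal A)

/-- The graded piece `J^n/J^(n+1)`. -/
abbrev Gr (n : ℕ) : Type u := ↥(J ^ n) ⧸ (J • (⊤ : Submodule A ↥(J ^ n)))

variable {J}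

theorem mk_smul_top_iff (I : Ideal A) {n : ℕ} (a : ↥(J ^ n)) :
    (Submodule.Quotient.mk a : Gr J n) ∈ I • (⊤ : Submodule A (Gr J n)) ↔ a.1 ∈ I * J ^ n ⊔ J ^ (n + 1) := by
  have h1 : (I • (⊤ : Submodule A (Gr J n))).comap (J • (⊤ : Submodule A ↥(J ^ n))).mkQ =
      I • ⊤ ⊔ J • ⊤ := by
    conv_lhs => rw [← Submodule.range_mkQ (J • (⊤ : Submodule A ↥(J ^ n))), ← Submodule.map_top,
      ← Submodule.map_smul'']
    rw [Submodule.comap_map_mkQ, sup_comm]
  have h2 : (I • (⊤ : Submodule A ↥(J ^ n)) ⊔ J • ⊤).map (J ^ n).subtype = I * J ^ n ⊔ J ^ (n + 1) := by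
    rw [Submodule.map_sup, Submodule.map_smul'', Submodule.map_smul'', Submodule.map_top,
      Submodule.range_subtype, pow_succ']
    rfl
  rw [← h2, ← Submodule.mkQ_apply, ← Submodule.mem_comap, h1]
  exact (Submodule.injective_subtype (J ^ n)).mem_set_image.symm

theorem mk_eq_zero_iff {n : ℕ} (a : ↥(J ^ n)) :
    (Submodule.Quotient.mk a : Gr J n) = 0 ↔ a.1 ∈ J ^ (n + 1) := by
  simpa using mk_smul_top_iff (⊥ : Ideal A) a

theorem mem_smul_top_of_regular {I : Ideal A} {x : A}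
    (hx : IsSMulRegular ((A ⧸ J) ⧸ (I • ⊤ : Submodule A (A ⧸ J))) x)
    {n : ℕ} [Module.Free (A ⧸ J) (Gr J n)] (g : Gr J n) (h : x • g ∈ I • (⊤ : Submodule A (Gr J n))) :
    g ∈ I • (⊤ : Submodule A (Gr J n)) := by
  let b := Module.Free.chooseBasis (A ⧸ J) (Gr J n)
  have hc : ∀ i, b.coord i g ∈ I • (⊤ : Submodule A (A ⧸ J)) := fun i => by
    have h' : ((b.coord i).restrictScalars A) (x • g) ∈ I • (⊤ : Submodule A (A ⧸ J)) :=
      Submodule.smul_top_le_comap_smul_top I _ h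
    rw [map_smul] at h'
    exact (isSMulRegular_quotient_iff_mem_of_smul_mem (I • ⊤ : Submodule A (A ⧸ J)) x).1 hx _ h'
  rw [← b.linearCombination_repr g, Finsupp.linearCombination_apply]
  refine Submodule.sum_mem _ fun i _ => ?_
  exact Submodule.smul_top_le_comap_smul_top I
    ((LinearMap.toSpanSingleton (A ⧸ J) (Gr J n) (b i)).restrictScalars A) (hc i)

variable (J) in
/-- `I` meets the filtration strictly. -/
def Strict (I : Ideal A) : Prop :=
  ∀ n, ∀ a ∈ J ^ n, a ∈ I ⊔ J ^ (n + 1) → a ∈ I * J ^ n ⊔ J ^ (n + 1)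

variable [IsNoetherianRing A] [IsLocalRing A]

theorem mem_of_forall_mem_sup (hJ : J ≠ ⊤) {I : Ideal A} {a : A} (h : ∀ n, a ∈ I ⊔ J ^ n) : a ∈ I := by
  rw [← Ideal.Quotient.eq_zero_iff_mem]
  have h0 := Ideal.iInf_pow_smul_eq_bot_of_isLocalRing (M := A ⧸ I) J hJ
  refine (Submodule.mem_bot A).1 (h0 ▸ (Submodule.mem_iInf _).2 fun n => ?_)
  obtain ⟨i, hi, c, hc, rfl⟩ := Submodule.mem_sup.1 (h n)
  rw [map_add, Ideal.Quotient.eq_zero_iff_mem.2 hi, zero_add]
  have h1 : c • (1 : A ⧸ I) ∈ J ^ n • (⊤ : Submodule A (A ⧸ I)) := Submodule.smul_mem_smul hc Submodule.mem_top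
  rwa [Algebra.smul_def, mul_one] at h1

variable (hfree : ∀ n, Module.Free (A ⧸ J) (Gr J n))
include hfree

theorem mem_of_mul_mem {I : Ideal A} {x : A}
    (hx : IsSMulRegular ((A ⧸ J) ⧸ (I • ⊤ : Submodule A (A ⧸ J))) x) (hI : Strict J I) {n : ℕ} {a : A}
    (ha : a ∈ J ^ n) (h : x * a ∈ I ⊔ J ^ (n + 1)) : a ∈ I * J ^ n ⊔ J ^ (n + 1) := by
  haveI := hfree n
  refine (mk_smul_top_iff I (⟨a, ha⟩ : ↥(J ^ n))).1 (mem_smul_top_of_regular hx _ ?_)
  rw [← Submodule.Quotient.mk_smul]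
  exact (mk_smul_top_iff I _).2 (hI n _ ((J ^ n).mul_mem_left x ha) h)

theorem mem_sup_pow {I : Ideal A} {x : A}
    (hx : IsSMulRegular ((A ⧸ J) ⧸ (I • ⊤ : Submodule A (A ⧸ J))) x) (hI : Strict J I) {a : A} {n : ℕ}
    (h : x * a ∈ I ⊔ J ^ n) : ∀ k, k ≤ n → a ∈ I ⊔ J ^ k := by
  intro k hk
  induction k with
  | zero => exact Submodule.mem_sup_right (by simp)
  | succ k ih =>
    obtain ⟨i, hi, c, hc, rfl⟩ := Submodule.mem_sup.1 (ih (Nat.le_of_succ_le hk))
    have h1 : x * c ∈ I ⊔ J ^ (k + 1) := by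
      have h2 := sup_le_sup_left (Ideal.pow_le_pow_right hk) I h
      rw [mul_add] at h2
      exact (Submodule.add_mem_iff_right _ (Submodule.mem_sup_left (I.mul_mem_left x hi))).1 h2
    exact add_mem (Submodule.mem_sup_left hi)
      (sup_le_sup_right (Ideal.mul_le_left : I * J ^ k ≤ I) (J ^ (k + 1)) (mem_of_mul_mem hfree hx hI hc h1))

theorem Strict.sup_span {I : Ideal A} {x : A}
    (hx : IsSMulRegular ((A ⧸ J) ⧸ (I • ⊤ : Submodule A (A ⧸ J))) x) (hI : Strict J I) :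
    Strict J (I ⊔ Ideal.span {x}) := by
  intro n a ha h
  rw [sup_assoc] at h
  obtain ⟨i, hi, r, hr, rfl⟩ := Submodule.mem_sup.1 h
  obtain ⟨y, hy, e, he, rfl⟩ := Submodule.mem_sup.1 hr
  obtain ⟨c, rfl⟩ := Ideal.mem_span_singleton'.1 hy
  have h1 : x * c ∈ I ⊔ J ^ n := by
    rw [show x * c = (i + (c * x + e) - e) - i by ring]
    exact sub_mem (Submodule.mem_sup_right (sub_mem ha (Ideal.pow_le_pow_right n.le_succ he)))
      (Submodule.mem_sup_left hi)
  obtain ⟨i', hi', c', hc', rfl⟩ := Submodule.mem_sup.1 (mem_sup_pow hfree hx hI h1 n le_rfl)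
  have h2 : i + ((i' + c') * x + e) - c' * x ∈ I * J ^ n ⊔ J ^ (n + 1) := by
    refine hI n _ (sub_mem ha ((J ^ n).mul_mem_right x hc')) ?_
    rw [show i + ((i' + c') * x + e) - c' * x = (i + i' * x) + e by ring]
    exact add_mem (Submodule.mem_sup_left (add_mem hi (I.mul_mem_right x hi'))) (Submodule.mem_sup_right he)
  have h3 : c' * x ∈ (I ⊔ Ideal.span {x}) * J ^ n := by
    rw [mul_comm c']
    exact Ideal.mul_mem_mul (Submodule.mem_sup_right (Ideal.mem_span_singleton_self x)) hc'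
  have := add_mem ((sup_le_sup_right (Ideal.mul_mono_left (le_sup_left : I ≤ I ⊔ Ideal.span {x})) (J ^ (n + 1)) :) h2) (Submodule.mem_sup_left h3)
  rwa [sub_add_cancel] at this

theorem le_depth (hJ : J ≠ ⊤) [IsLocalRing (A ⧸ J)] {r : ℕ}
    (hd : (r : ℕ∞) ≤ _root_.LocCoh.depth (A ⧸ J) (A ⧸ J)) : (r : ℕ∞) ≤ _root_.LocCoh.depth A A := by
  haveI : Nontrivial (A ⧸ J) := Ideal.Quotient.nontrivial_iff.2 hJ
  rw [CAlgH3.depth_quotient_ring J] at hd
  obtain ⟨rs, hlen, hmem, hreg⟩ :=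
    (LocCoh.natCast_le_idealDepth_iff_exists _ _ CAlgH3.maximal_smul_top_ne_top r).1 hd
  have hstrict : ∀ i, i ≤ rs.length → Strict J (Ideal.ofList (rs.take i)) := by
    intro i hi
    induction i with
    | zero =>
      intro n a ha h
      simp only [List.take_zero, Ideal.ofList_nil, bot_sup_eq, Ideal.bot_mul] at h ⊢
      exact h
    | succ i ih =>
      rw [List.take_succ_eq_append_getElem hi, Ideal.ofList_append, Ideal.ofList_singleton]
      exact (ih (by omega)).sup_span hfree (hreg.regular_mod_prev i hi)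
  have hw : IsWeaklyRegular A rs := ⟨fun i hi => isSMulRegular_quotient_iff_mem_of_smul_mem _ _ |>.2 fun a ha => by
    rw [smul_eq_mul, Ideal.mul_top] at ha ⊢
    exact mem_of_forall_mem_sup hJ fun k =>
      mem_sup_pow hfree (hreg.regular_mod_prev i hi) (hstrict i hi.le) (Submodule.mem_sup_left ha) k le_rfl⟩
  exact (LocCoh.natCast_le_idealDepth_iff_exists _ _ CAlgH3.maximal_smul_top_ne_top r).2
    ⟨rs, hlen, hmem, hw, fun h => CAlgH3.maximal_smul_top_ne_top (R := A) (M := A)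
      (eq_top_iff.2 (h.le.trans (Submodule.smul_mono (Ideal.span_le.2 fun r hr => hmem r hr) le_rfl)))⟩

end Groth.Agent.CAlgH.ParaGr
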