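import Groth.Agent.CAlgH.ParaGrDepth
import Mathlib.LinearAlgebra.TensorProduct.Quotient
import Mathlib.RingTheory.Flat.Basic
import Mathlib.RingTheory.TensorProduct.Free

/-!
# Graded pieces of an extended maximal ideal under flat maps
-/

set_option autoImplicit false

universe u

open IsLocalRing
open scoped TensorProduct

namespace Groth.Agent.CAlgH.ParaGr

variable (A B : Type u) [CommRing A] [CommRing B] [Algebra A B] [IsLocalRing A] [Module.Flat A B]

theorem range_powMap (I : Ideal A) :
    LinearMap.range ((TensorProduct.AlgebraTensorModule.rid A B B).toLinearMap ∘ₗ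
      TensorProduct.AlgebraTensorModule.lTensor B B I.subtype) = I.map (algebraMap A B) := by
  apply le_antisymm
  · rintro _ ⟨z, rfl⟩
    induction z using TensorProduct.induction_on with
    | zero => rw [map_zero]; exact zero_mem _
    | tmul b a =>
      show (a : A) • b ∈ I.map (algebraMap A B)
      rw [Algebra.smul_def]
      exact Ideal.mul_mem_right _ _ (Ideal.mem_map_of_mem _ a.2)
    | add x y hx hy => rw [map_add]; exact add_mem hx hy
  · rw [Ideal.map_le_iff_le_comap]
    intro a ha
    exact ⟨(1 : B) ⊗ₜ ⟨a, ha⟩, show a • (1 : B) = _ by rw [Algebra.smul_def, mul_one]⟩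

/-- Flat base change of an ideal. -/
noncomputable def idealTensorEquiv (I : Ideal A) : B ⊗[A] I ≃ₗ[B] ↥(I.map (algebraMap A B)) :=
  (LinearEquiv.ofInjective _ ((TensorProduct.AlgebraTensorModule.rid A B B).injective.comp
    (Module.Flat.lTensor_preserves_injective_linearMap (M := B) I.subtype I.injective_subtype))) ≪≫ₗ
    LinearEquiv.ofEq _ _ (range_powMap A B I)

theorem free_gr (n : ℕ) :
    Module.Free (B ⧸ (maximalIdeal A).map (algebraMap A B)) (Gr ((maximalIdeal A).map (algebraMap A B)) n) := by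
  letI : Field (A ⧸ maximalIdeal A) := Ideal.Quotient.field _
  let J := (maximalIdeal A).map (algebraMap A B)
  let B0 := B ⧸ J
  let P := ↥(maximalIdeal A ^ n)
  haveI : Module.Free B0 (B0 ⊗[A] P) := Module.Free.of_equiv
    (TensorProduct.AlgebraTensorModule.cancelBaseChange A (A ⧸ maximalIdeal A) B0 B0 P)
  let e1 : Gr J n ≃ₗ[B] (B ⧸ J) ⊗[B] ↥(J ^ n) := (TensorProduct.quotTensorEquivQuotSMul _ J).symm
  let e2 : (B ⧸ J) ⊗[B] ↥(J ^ n) ≃ₗ[B0] B0 ⊗[A] P :=
    TensorProduct.AlgebraTensorModule.congr (LinearEquiv.refl B0 B0)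
      ((LinearEquiv.ofEq (J ^ n) ((maximalIdeal A ^ n).map (algebraMap A B)) (Ideal.map_pow _ _ _).symm) ≪≫ₗ
        (idealTensorEquiv A B (maximalIdeal A ^ n)).symm) ≪≫ₗ
    TensorProduct.AlgebraTensorModule.cancelBaseChange A B B0 B0 P
  exact Module.Free.of_equiv (LinearEquiv.extendScalarsOfSurjective Ideal.Quotient.mk_surjective e1 ≪≫ₗ e2).symm

end Groth.Agent.CAlgH.ParaGr
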