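import Groth.Agent.CAlgH.PicPunctBasic
import Groth.Agent.LocCoh.ExtVanishing
import Groth.Agent.LocCoh.DepthLocal
import Groth.Agent.LocCoh.IdealTransform
import Groth.Agent.CAlgH3.Depth

/-!
# Injectivity of restriction of Picard groups to a hypersurface, module form
-/

set_option autoImplicit false

universe u

open CategoryTheory CategoryTheory.Abelian IsLocalRing
open scoped Pointwise TensorProduct

namespace Groth.Agent.CAlgH.PicPunct

open Groth.Agent.UPLib (GenAt)

section extend

variable {R : Type u} [CommRing R] [IsNoetherianRing R] [IsLocalRing R]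

theorem supportDim_le_zero_of_torsion {C : Type u} [AddCommGroup C] [Module R C]
    (h : ∀ x : C, ∃ m : ℕ, ∀ b ∈ maximalIdeal R ^ m, b • x = 0) :
    Module.supportDim R C ≤ ((0 : ℕ) : WithBot ℕ∞) := by
  have hsub : Subsingleton (Module.support R C) := by
    refine ⟨fun a b => Subtype.ext ?_⟩
    have key : ∀ a : Module.support R C, a.1.asIdeal = maximalIdeal R := fun a => by
      obtain ⟨x, hx⟩ := Module.mem_support_iff'.1 a.2
      refine le_antisymm (le_maximalIdeal a.1.2.ne_top) fun r hr => ?_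
      obtain ⟨m, hm⟩ := h x
      by_contra hra
      exact hx (r ^ m) (fun h' => hra (a.1.2.mem_of_pow_mem m h')) (hm _ (Ideal.pow_mem_pow hr m))
    exact PrimeSpectrum.ext ((key a).trans (key b).symm)
  exact Order.krullDim_nonpos_of_subsingleton

variable {F : Type u} [AddCommGroup F] [Module R F] [Module.Finite R F]

/-- Over a ring of depth three, maps on a submodule with quotient the ring away from the closed point extend. -/
theorem exists_extend (hd : (3 : ℕ∞) ≤ _root_.LocCoh.depth R R) (K : Submodule R F)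
    (φ : (F ⧸ K) →ₗ[R] R) (hφ : OffIso (maximalIdeal R) φ) (h : K →ₗ[R] R) :
    ∃ H : F →ₗ[R] R, ∀ k : K, H k.1 = h k := by
  have hd' : ((3 : ℕ) : ℕ∞) ≤ _root_.LocCoh.depth R R := hd
  let I : Submodule R R := LinearMap.range φ
  have hK : ∀ i, i < 3 → Subsingleton (Ext (ModuleCat.of R (LinearMap.ker φ)) (ModuleCat.of R R) i) :=
    fun i hi => LocCoh.subsingleton_ext_of_supportDim_add_lt R hd' 0 _
      (supportDim_le_zero_of_torsion fun x => by
        obtain ⟨m, hm⟩ := hφ.ker x.1 x.2
        exact ⟨m, fun b hb => Subtype.ext (hm b hb)⟩) i (by omega)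
  have hC : ∀ i, i < 3 → Subsingleton (Ext (ModuleCat.of R (R ⧸ I)) (ModuleCat.of R R) i) :=
    fun i hi => LocCoh.subsingleton_ext_of_supportDim_add_lt R hd' 0 _
      (supportDim_le_zero_of_torsion fun x => by
        obtain ⟨y, rfl⟩ := Submodule.Quotient.mk_surjective _ x
        obtain ⟨m, hm⟩ := hφ.coker y
        exact ⟨m, fun b hb => (Submodule.Quotient.mk_eq_zero _).2 (hm b hb)⟩) i (by omega)
  have h0 : Subsingleton (Ext (ModuleCat.of R R) (ModuleCat.of R R) 1) := by
    refine subsingleton_of_forall_eq 0 fun e => ?_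
    exact Ext.eq_zero_of_projective e
  have hI : Subsingleton (Ext (ModuleCat.of R I) (ModuleCat.of R R) 1) :=
    (LocCoh.extPre_surjective R (f := I.subtype) (g := I.mkQ) I.injective_subtype I.mkQ_surjective
      (LinearMap.exact_subtype_mkQ I) 1 (hC 2 (by omega))).subsingleton
  have hM : Subsingleton (Ext (ModuleCat.of R (F ⧸ K)) (ModuleCat.of R R) 1) :=
    LocCoh.subsingleton_ext_middle R (f := (LinearMap.ker φ).subtype) (g := φ.rangeRestrict)
      (LinearMap.ker φ).injective_subtype φ.surjective_rangeRestrict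
      (fun x => ⟨fun hx => ⟨⟨x, congrArg Subtype.val hx⟩, rfl⟩, fun ⟨y, hy⟩ => hy ▸ Subtype.ext y.2⟩)
      1 (hK 1 (by omega)) hI
  obtain ⟨e, he⟩ := LocCoh.extPre_surjective R (f := K.subtype) (g := K.mkQ) K.injective_subtype
    K.mkQ_surjective (LinearMap.exact_subtype_mkQ K) 0 hM (Ext.mk₀ (ModuleCat.ofHom h))
  obtain ⟨H, rfl⟩ := (Ext.mk₀_bijective _ _).2 e
  rw [LocCoh.extPre_apply, Ext.mk₀_comp_mk₀] at he
  exact ⟨H.hom, fun k => ConcreteCategory.congr_hom ((Ext.mk₀_bijective _ _).1 he) k⟩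

end extend

variable {A : Type u} [CommRing A] [IsNoetherianRing A] [IsLocalRing A] {t : A}
  {M : Type u} [AddCommGroup M] [Module A M] [Module.Finite A M]

/-- A map to the reduction modulo a regular element lifts. -/
theorem exists_lift (ht : t ∈ maximalIdeal A) (hreg : IsSMulRegular A t) [IsLocalRing (A ⧸ Ideal.span {t})]
    (hd : (3 : ℕ∞) ≤ _root_.LocCoh.depth (A ⧸ Ideal.span {t}) (A ⧸ Ideal.span {t}))
    (hM : IsSMulRegular M t) (φ : M →ₗ[A] A ⧸ Ideal.span {t})
    (hker : ∀ x, φ x = 0 → ∃ m : ℕ, ∀ b ∈ maximalIdeal A ^ m, ∃ y, b • x = t • y)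
    (hcok : ∀ y, ∃ m : ℕ, ∀ b ∈ maximalIdeal A ^ m, b • y ∈ LinearMap.range φ) :
    ∃ ψ : M →ₗ[A] A, ∀ x, Ideal.Quotient.mk (Ideal.span {t}) (ψ x) = φ x := by
  classical
  let B := A ⧸ Ideal.span {t}
  let mkB : A →+* B := Ideal.Quotient.mk (Ideal.span {t})
  have hmk : ∀ a, algebraMap A B a = mkB a := fun _ => rfl
  obtain ⟨n, π, hπ⟩ := Module.Finite.exists_fin' A M
  let K : Submodule A (Fin n → A) := LinearMap.ker π
  let q : (Fin n → A) →ₗ[A] (Fin n → B) := (Algebra.linearMap A B).compLeft (Fin n)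
  have hq : Function.Surjective q := fun v => by
    choose w hw using fun i => Ideal.Quotient.mk_surjective (v i)
    exact ⟨w, funext hw⟩
  have hq0 : ∀ v, q v = 0 → ∃ z, v = t • z := fun v hv => by
    choose z hz using fun i => Ideal.mem_span_singleton'.1 (Ideal.Quotient.eq_zero_iff_mem.1 (congrFun hv i))
    exact ⟨z, funext fun i => (hz i).symm.trans (mul_comm _ _)⟩
  let K' : Submodule B (Fin n → B) :=
    { carrier := q '' K
      add_mem' := by
        rintro _ _ ⟨a, ha, rfl⟩ ⟨b, hb, rfl⟩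
        exact ⟨a + b, add_mem ha hb, map_add _ _ _⟩
      zero_mem' := ⟨0, zero_mem _, map_zero _⟩
      smul_mem' := by
        rintro c _ ⟨a, ha, rfl⟩
        obtain ⟨c, rfl⟩ := Ideal.Quotient.mk_surjective c
        exact ⟨c • a, Submodule.smul_mem _ _ ha, (map_smul q c a).trans (algebra_compatible_smul B c (q a))⟩ }
  -- the map on the free module
  let Φ : (Fin n → B) →ₗ[B] B := Fintype.linearCombination B fun i => φ (π (Pi.single i 1))
  have hΦ : ∀ v, Φ (q v) = φ (π v) := fun v => by
    conv_rhs => rw [← Finset.univ_sum_single v, map_sum, map_sum]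
    rw [Fintype.linearCombination_apply]
    refine Finset.sum_congr rfl fun i _ => ?_
    have hs : (Pi.single i (v i) : Fin n → A) = v i • Pi.single i 1 := by
      rw [← Pi.single_smul', smul_eq_mul, mul_one]
    rw [hs, map_smul, map_smul]
    exact (algebra_compatible_smul B (v i) (φ (π (Pi.single i 1)))).symm
  have hK' : K' ≤ LinearMap.ker Φ := by
    rintro _ ⟨a, ha, rfl⟩
    rw [LinearMap.mem_ker, hΦ, show π a = 0 from ha, map_zero]
  let φ' : ((Fin n → B) ⧸ K') →ₗ[B] B := K'.liftQ Φ hK'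
  have hm : (maximalIdeal B) = (maximalIdeal A).map mkB :=
    (IsLocalRing.map_maximalIdeal_of_surjective _ Ideal.Quotient.mk_surjective).symm
  have hpow : ∀ {m : ℕ} {b : B}, b ∈ maximalIdeal B ^ m → ∃ a ∈ maximalIdeal A ^ m, mkB a = b := fun {m b} hb => by
    rw [hm, ← Ideal.map_pow] at hb
    exact (Ideal.mem_map_iff_of_surjective mkB Ideal.Quotient.mk_surjective).1 hb
  have hφ' : OffIso (maximalIdeal B) φ' := by
    refine ⟨fun z hz => ?_, fun y => ?_⟩
    · obtain ⟨v, rfl⟩ := Submodule.Quotient.mk_surjective _ z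
      obtain ⟨x, rfl⟩ := hq v
      obtain ⟨m, hm'⟩ := hker (π x) (by rw [← hΦ]; exact hz)
      refine ⟨m, fun b hb => ?_⟩
      obtain ⟨a, ha, rfl⟩ := hpow hb
      obtain ⟨y, hy⟩ := hm' a ha
      obtain ⟨w, rfl⟩ := hπ y
      rw [← Submodule.Quotient.mk_smul, Submodule.Quotient.mk_eq_zero]
      refine ⟨a • x - t • w, show π (a • x - t • w) = 0 by rw [map_sub, map_smul, map_smul, hy, sub_self], ?_⟩
      rw [map_sub, map_smul, map_smul]
      have : t • q w = 0 := by
        rw [algebra_compatible_smul B t (q w), hmk, Ideal.Quotient.eq_zero_iff_mem.2 (Ideal.mem_span_singleton_self t),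
          zero_smul]
      rw [this, sub_zero]
      exact algebra_compatible_smul B a (q x)
    · obtain ⟨m, hm'⟩ := hcok y
      refine ⟨m, fun b hb => ?_⟩
      obtain ⟨a, ha, rfl⟩ := hpow hb
      obtain ⟨x, hx⟩ := hm' a ha
      obtain ⟨v, rfl⟩ := hπ x
      refine ⟨Submodule.Quotient.mk (q v), ?_⟩
      rw [Submodule.liftQ_apply, hΦ, hx]
      exact algebra_compatible_smul B a y
  let res : ((Fin n → A) →ₗ[A] A) →ₗ[A] (K →ₗ[A] A) := LinearMap.lcomp A A K.subtype
  -- every functional on the kernel extends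
  have hext : ∀ η : K →ₗ[A] A, η ∈ LinearMap.range res := by
    have hfin : Module.Finite A (K →ₗ[A] A) := by
      obtain ⟨r, ρ, hρ⟩ := Module.Finite.exists_fin' A K
      exact Module.Finite.of_injective (LinearMap.lcomp A A ρ) fun a b hab => LinearMap.ext fun x => by
        obtain ⟨y, rfl⟩ := hρ x
        exact LinearMap.congr_fun hab y
    suffices htop : (⊤ : Submodule A (K →ₗ[A] A)) ≤ LinearMap.range res from fun η => htop Submodule.mem_top
    refine Submodule.le_of_le_smul_of_le_jacobson_bot Module.Finite.fg_top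
      (IsLocalRing.maximalIdeal_le_jacobson _) fun η _ => ?_
    have hwell : ∀ a b : K, q a.1 = q b.1 → mkB (η a) = mkB (η b) := fun a b hab => by
      obtain ⟨z, hz⟩ := hq0 (a.1 - b.1) (by rw [map_sub, hab, sub_self])
      have hzK : z ∈ K := hM (show t • π z = t • 0 by
        rw [← map_smul, ← hz, smul_zero, map_sub, show π a.1 = 0 from a.2, show π b.1 = 0 from b.2, sub_zero])
      have hab' : a - b = t • (⟨z, hzK⟩ : K) := Subtype.ext hz
      rw [← sub_eq_zero, ← map_sub, ← map_sub, hab', map_smul, Ideal.Quotient.eq_zero_iff_mem]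
      exact Ideal.mul_mem_right _ _ (Ideal.mem_span_singleton_self t)
    have hrep : ∀ v : K', ∃ a : K, q a.1 = v.1 := fun v => by
      obtain ⟨a, ha, e⟩ := v.2
      exact ⟨⟨a, ha⟩, e⟩
    choose rep hrep' using hrep
    let h : K' →ₗ[B] B :=
      { toFun := fun v => mkB (η (rep v))
        map_add' := fun v w => by
          rw [← map_add mkB, ← map_add η]
          refine hwell _ _ ?_
          rw [hrep', Submodule.coe_add, Submodule.coe_add, map_add, hrep', hrep']
        map_smul' := fun c v => by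
          obtain ⟨c, rfl⟩ := Ideal.Quotient.mk_surjective c
          show mkB (η (rep (mkB c • v))) = mkB c • mkB (η (rep v))
          rw [smul_eq_mul, ← map_mul, ← smul_eq_mul, ← map_smul η]
          refine hwell _ _ ?_
          rw [hrep', Submodule.coe_smul, Submodule.coe_smul, map_smul, hrep']
          exact (algebra_compatible_smul B c v.1).symm }
    obtain ⟨H, hH⟩ := exists_extend hd K' φ' hφ' h
    choose c hc using fun i => Ideal.Quotient.mk_surjective (H (Pi.single i 1))
    let Z : (Fin n → A) →ₗ[A] A := Fintype.linearCombination A c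
    have hZ : ∀ v, mkB (Z v) = H (q v) := fun v => by
      conv_rhs => rw [← Finset.univ_sum_single (q v), map_sum]
      rw [Fintype.linearCombination_apply, map_sum]
      refine Finset.sum_congr rfl fun i _ => ?_
      have hs : (Pi.single i (q v i) : Fin n → B) = q v i • Pi.single i 1 := by
        rw [← Pi.single_smul', smul_eq_mul, mul_one]
      rw [hs, LinearMap.map_smul H, ← hc i]
      exact map_mul mkB _ _
    have hdiv : ∀ k : K, ∃ d, η k - Z k.1 = t * d := fun k => by
      have h1 : mkB (η k - Z k.1) = 0 := by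
        rw [map_sub, hZ, sub_eq_zero]
        have := hH ⟨q k.1, k.1, k.2, rfl⟩
        rw [this]
        exact hwell k _ (hrep' ⟨q k.1, k.1, k.2, rfl⟩).symm
      obtain ⟨d, hd⟩ := Ideal.mem_span_singleton'.1 (Ideal.Quotient.eq_zero_iff_mem.1 h1)
      exact ⟨d, hd.symm.trans (mul_comm _ _)⟩
    choose d hd' using hdiv
    let η' : K →ₗ[A] A :=
      { toFun := d
        map_add' := fun a b => hreg (show t * d (a + b) = t * (d a + d b) by
          rw [mul_add, ← hd', ← hd', ← hd', map_add, Submodule.coe_add, map_add]; ring)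
        map_smul' := fun r a => hreg (show t * d (r • a) = t * (r * d a) by
          rw [mul_left_comm, ← hd', ← hd', map_smul, Submodule.coe_smul, map_smul, smul_eq_mul, smul_eq_mul]; ring) }
    have hη : η = res Z + t • η' := LinearMap.ext fun k => by
      show η k = Z k.1 + t * d k
      rw [← hd']; ring
    rw [hη]
    exact add_mem (Submodule.mem_sup_left ⟨Z, rfl⟩)
      (Submodule.mem_sup_right (Submodule.smul_mem_smul ht Submodule.mem_top))
  choose c hc using fun i => Ideal.Quotient.mk_surjective (φ (π (Pi.single i 1)))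
  let ψ0 : (Fin n → A) →ₗ[A] A := Fintype.linearCombination A c
  have hψ0 : ∀ v, mkB (ψ0 v) = φ (π v) := fun v => by
    rw [← hΦ, Fintype.linearCombination_apply, Fintype.linearCombination_apply, map_sum]
    refine Finset.sum_congr rfl fun i _ => ?_
    rw [← hc i, smul_eq_mul]
    exact map_mul mkB _ _
  have hdiv : ∀ k : K, ∃ d, ψ0 k.1 = t * d := fun k => by
    have h1 : mkB (ψ0 k.1) = 0 := by rw [hψ0, show π k.1 = 0 from k.2, map_zero]
    obtain ⟨d, hd⟩ := Ideal.mem_span_singleton'.1 (Ideal.Quotient.eq_zero_iff_mem.1 h1)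
    exact ⟨d, hd.symm.trans (mul_comm _ _)⟩
  choose d hd' using hdiv
  let η : K →ₗ[A] A :=
    { toFun := d
      map_add' := fun a b => hreg (show t * d (a + b) = t * (d a + d b) by
        rw [mul_add, ← hd', ← hd', ← hd', Submodule.coe_add, map_add])
      map_smul' := fun r a => hreg (show t * d (r • a) = t * (r * d a) by
        rw [mul_left_comm, ← hd', ← hd', Submodule.coe_smul, map_smul, smul_eq_mul]) }
  obtain ⟨Z, hZ⟩ := hext η
  let ψ1 := ψ0 - t • Z
  have hker1 : LinearMap.ker π ≤ LinearMap.ker ψ1 := fun v hv => by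
    have := LinearMap.congr_fun hZ ⟨v, hv⟩
    change Z v = d ⟨v, hv⟩ at this
    show ψ0 v - t * Z v = 0
    rw [this, ← hd', sub_self]
  let e := π.quotKerEquivOfSurjective hπ
  refine ⟨(K.liftQ ψ1 hker1).comp e.symm.toLinearMap, fun x => ?_⟩
  obtain ⟨v, rfl⟩ := hπ x
  have he : e.symm (π v) = Submodule.Quotient.mk v := e.symm_apply_eq.2 rfl
  show mkB ((K.liftQ ψ1 hker1) (e.symm (π v))) = φ (π v)
  rw [he, Submodule.liftQ_apply]
  show mkB (ψ0 v - t * Z v) = φ (π v)
  rw [map_sub, hψ0, map_mul, show mkB t = 0 from Ideal.Quotient.eq_zero_iff_mem.2 (Ideal.mem_span_singleton_self t),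
    zero_mul, sub_zero]

/-- A lift of a trivialisation on the hypersurface is a trivialisation. -/
theorem offIso_of_lift (ht : t ∈ maximalIdeal A)
    (ha : ∀ p : PrimeSpectrum A, ringKrullDim (A ⧸ p.asIdeal) = 1 →
      (2 : ℕ∞) ≤ _root_.LocCoh.depth (Localization.AtPrime p.asIdeal) (Localization.AtPrime p.asIdeal))
    (hM : InvAway (maximalIdeal A) M) (ψ : M →ₗ[A] A)
    (hcok : ∀ y : A, ∃ m : ℕ, ∀ b ∈ maximalIdeal A ^ m, ∃ x, b * y - ψ x ∈ Ideal.span {t}) :
    OffIso (maximalIdeal A) ψ := by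
  have hcl : ∀ q : Ideal A, q.IsPrime → t ∈ q → LinearMap.range ψ ≤ q → q = maximalIdeal A := by
    intro q hq htq hIq
    refine le_antisymm (le_maximalIdeal hq.ne_top) fun a haM => ?_
    obtain ⟨m, hm⟩ := hcok 1
    obtain ⟨x, hx⟩ := hm (a ^ m) (Ideal.pow_mem_pow haM m)
    refine hq.mem_of_pow_mem m ?_
    have h1 : a ^ m * 1 - ψ x ∈ q := (Ideal.span_singleton_le_iff_mem q).2 htq hx
    have h2 := q.add_mem h1 (hIq ⟨x, rfl⟩)
    rwa [sub_add_cancel, mul_one] at h2
  have key : ∀ q : Ideal A, q.IsPrime → LinearMap.range ψ ≤ q → q = maximalIdeal A := by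
    intro q0 hq0 hI0
    by_contra hne0
    obtain ⟨p, hpmin, hpq⟩ := Ideal.exists_minimalPrimes_le (J := q0) (I := LinearMap.range ψ) hI0
    have hp : p.IsPrime := hpmin.1.1
    have hIp : LinearMap.range ψ ≤ p := hpmin.1.2
    have hpm : p < maximalIdeal A :=
      lt_of_le_of_ne (le_maximalIdeal hp.ne_top) fun e => hne0 (le_antisymm (le_maximalIdeal hq0.ne_top) (e ▸ hpq))
    have hmin : maximalIdeal A ∈ (p ⊔ Ideal.span {t}).minimalPrimes :=
      ⟨⟨(maximalIdeal.isMaximal A).isPrime,
        sup_le hpm.le ((Ideal.span_singleton_le_iff_mem _).2 ht)⟩, fun r hr hrm =>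
          le_of_eq (hcl r hr.1 (hr.2 (Submodule.mem_sup_right (Ideal.mem_span_singleton_self t)))
            (hIp.trans (le_sup_left.trans hr.2))).symm⟩
    have hdim : ringKrullDim (A ⧸ p) = 1 := by
      refine LocCoh.ringKrullDim_quotient_eq_one_of_maximal p ht (fun htp => hpm.ne (hcl p hp htp hIp)) ?_
      intro r hr h1 h2
      by_contra htr
      haveI := hr
      let B := A ⧸ p
      let mkp : A →+* B := Ideal.Quotient.mk p
      have hkr : RingHom.ker mkp ≤ r := by rw [Ideal.mk_ker]; exact h1.le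
      haveI : (r.map mkp).IsPrime := Ideal.map_isPrime_of_surjective Ideal.Quotient.mk_surjective hkr
      haveI : ((maximalIdeal A).map mkp).IsPrime := Ideal.map_isPrime_of_surjective Ideal.Quotient.mk_surjective
        (by rw [Ideal.mk_ker]; exact hpm.le)
      have hmmin : (maximalIdeal A).map mkp ∈ (Ideal.span {mkp t}).minimalPrimes := by
        refine ⟨⟨inferInstance, (Ideal.span_singleton_le_iff_mem _).2 (Ideal.mem_map_of_mem _ ht)⟩, fun Q hQ hQm => ?_⟩
        have hle : p ⊔ Ideal.span {t} ≤ Q.comap mkp := by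
          refine sup_le (fun a ha => ?_) ((Ideal.span_singleton_le_iff_mem _).2 (hQ.2 (Ideal.mem_span_singleton_self _)))
          rw [Ideal.mem_comap, Ideal.Quotient.eq_zero_iff_mem.2 ha]
          exact zero_mem _
        haveI := hQ.1
        have := hmin.2 (y := Q.comap mkp) ⟨inferInstance, hle⟩ (le_maximalIdeal (Ideal.IsPrime.ne_top inferInstance))
        exact (Ideal.map_mono this).trans Ideal.map_comap_le
      have hht : ((maximalIdeal A).map mkp).height ≤ 1 :=
        Ideal.height_le_one_of_isPrincipal_of_mem_minimalPrimes _ _ hmmin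
      have hlt1 : (⊥ : Ideal B) < r.map mkp := by
        refine bot_lt_iff_ne_bot.2 fun h0 => h1.not_ge fun a ha => ?_
        exact Ideal.Quotient.eq_zero_iff_mem.1 ((Ideal.mem_bot).1 (h0 ▸ Ideal.mem_map_of_mem _ ha))
      have hlt2 : r.map mkp < (maximalIdeal A).map mkp := by
        refine lt_of_le_of_ne (Ideal.map_mono h2.le) fun he => h2.ne ?_
        rw [← (Ideal.comap_map_of_surjective mkp Ideal.Quotient.mk_surjective r).trans
            (sup_eq_left.2 (by rw [← RingHom.ker_eq_comap_bot]; exact hkr)), he,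
          Ideal.comap_map_of_surjective mkp Ideal.Quotient.mk_surjective,
          sup_eq_left.2 (by rw [← RingHom.ker_eq_comap_bot, Ideal.mk_ker]; exact hpm.le)]
      haveI : (⊥ : Ideal B).IsPrime := Ideal.isPrime_bot
      have a1 := Ideal.height_add_one_le_of_lt_of_isPrime hlt1
      have a2 := Ideal.height_add_one_le_of_lt_of_isPrime hlt2
      have : (2 : ℕ∞) ≤ 1 := by
        calc (2 : ℕ∞) ≤ (r.map mkp).height + 1 := by
              calc (2 : ℕ∞) = 1 + 1 := rfl
                _ ≤ _ := by gcongr; exact le_trans le_add_self a1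
          _ ≤ _ := a2.trans hht
      exact absurd this (by decide)
    have hdep := ha ⟨p, hp⟩ hdim
    change (2 : ℕ∞) ≤ _root_.LocCoh.depth (Localization.AtPrime p) (Localization.AtPrime p) at hdep
    haveI := hp
    let L := Localization.AtPrime p
    obtain ⟨x, hx⟩ := hM p (not_le_of_gt hpm)
    have hpr : Ideal.map (algebraMap A L) (LinearMap.range ψ) = Ideal.span {algebraMap A L (ψ x)} := by
      refine le_antisymm (Ideal.map_le_iff_le_comap.2 ?_)
        ((Ideal.span_singleton_le_iff_mem _).2 (Ideal.mem_map_of_mem _ ⟨x, rfl⟩))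
      rintro _ ⟨y, rfl⟩
      obtain ⟨s, hs, a, e⟩ := hx.surj y
      rw [Ideal.mem_comap]
      refine (Ideal.unit_mul_mem_iff_mem _ (IsLocalization.map_units L (⟨s, hs⟩ : p.primeCompl))).1 ?_
      rw [← map_mul, ← smul_eq_mul, ← map_smul, e, map_smul, smul_eq_mul, map_mul]
      exact Ideal.mul_mem_left _ _ (Ideal.mem_span_singleton_self _)
    have hmin' : maximalIdeal L ∈ (Ideal.span {algebraMap A L (ψ x)}).minimalPrimes := by
      rw [← hpr]
      refine ⟨⟨(maximalIdeal.isMaximal L).isPrime, Ideal.map_le_iff_le_comap.2 ?_⟩, fun Q hQ hQm => ?_⟩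
      · rw [← IsLocalization.AtPrime.under_maximalIdeal L p] at hIp
        exact hIp
      · haveI := hQ.1
        have hcp : Q.comap (algebraMap A L) ≤ p :=
          (Ideal.comap_mono hQm).trans (IsLocalization.AtPrime.under_maximalIdeal L p).le
        have := hpmin.2 (y := Q.comap (algebraMap A L)) ⟨inferInstance, Ideal.map_le_iff_le_comap.1 hQ.2⟩ hcp
        rw [← IsLocalization.map_under p.primeCompl L (maximalIdeal L), IsLocalization.AtPrime.under_maximalIdeal L p]
        exact Ideal.map_le_iff_le_comap.2 this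
    have hh : (maximalIdeal L).height ≤ 1 := Ideal.height_le_one_of_isPrincipal_of_mem_minimalPrimes _ _ hmin'
    obtain ⟨P, hP⟩ := associatedPrimes.nonempty L L
    have hdd := (CAlgH3.depth_le_ringKrullDim_quotient hP).trans (ringKrullDim_quotient_le P)
    rw [← IsLocalRing.maximalIdeal_height_eq_ringKrullDim] at hdd
    have hdd' := (hdep.trans (WithBot.coe_le_coe.1 hdd)).trans hh
    exact absurd hdd' (by decide)
  have hsurj : ∀ p : Ideal A, p.IsPrime → ¬ maximalIdeal A ≤ p → ∃ x, ψ x ∉ p := by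
    intro p hp hpm
    by_contra h
    push Not at h
    exact hpm (key p hp (by rintro _ ⟨x, rfl⟩; exact h x)).ge
  refine OffIso.of_local (fun p hp hpm y hy => ?_) fun p hp hpm y => ?_
  · obtain ⟨t', ht'⟩ := hM p hpm
    obtain ⟨z, hz⟩ := hsurj p hp hpm
    obtain ⟨s, hs, a, e⟩ := ht'.surj y
    obtain ⟨r, hr, c, e'⟩ := ht'.surj z
    have hψt : ψ t' ∉ p := fun h => by
      have h' := congrArg ψ e'
      rw [map_smul, map_smul, smul_eq_mul, smul_eq_mul] at h'
      exact (hp.mem_or_mem (h' ▸ p.mul_mem_left c h)).elim hr hz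
    refine ⟨ψ t' * s, mul_mem (show ψ t' ∈ p.primeCompl from hψt) hs, ?_⟩
    have h0 : a * ψ t' = 0 := by
      have := congrArg ψ e
      rw [map_smul, map_smul, hy, smul_zero, smul_eq_mul] at this
      exact this.symm
    rw [mul_smul, e, smul_smul, mul_comm, h0, zero_smul]
  · obtain ⟨z, hz⟩ := hsurj p hp hpm
    exact ⟨ψ z, hz, y • z, by rw [map_smul, smul_eq_mul, smul_eq_mul, mul_comm]⟩

/-- Injectivity on modules. -/
theorem exists_offIso_of_reduction (ht : t ∈ maximalIdeal A) (hreg : IsSMulRegular A t)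
    [IsLocalRing (A ⧸ Ideal.span {t})]
    (hd : (3 : ℕ∞) ≤ _root_.LocCoh.depth (A ⧸ Ideal.span {t}) (A ⧸ Ideal.span {t}))
    (hH0 : Subsingleton (_root_.LocCoh.H (maximalIdeal (A ⧸ Ideal.span {t})) 0 (A ⧸ Ideal.span {t})))
    (ha : ∀ p : PrimeSpectrum A, ringKrullDim (A ⧸ p.asIdeal) = 1 →
      (2 : ℕ∞) ≤ _root_.LocCoh.depth (Localization.AtPrime p.asIdeal) (Localization.AtPrime p.asIdeal))
    (hM : InvAway (maximalIdeal A) M)
    (w : (A ⧸ Ideal.span {t}) ⊗[A] M →ₗ[A ⧸ Ideal.span {t}] A ⧸ Ideal.span {t})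
    (hw : OffIso (maximalIdeal (A ⧸ Ideal.span {t})) w) :
    ∃ v : M →ₗ[A] A, OffIso (maximalIdeal A) v := by
  let B := A ⧸ Ideal.span {t}
  have hm : maximalIdeal B = (maximalIdeal A).map (Ideal.Quotient.mk (Ideal.span {t})) :=
    (IsLocalRing.map_maximalIdeal_of_surjective _ Ideal.Quotient.mk_surjective).symm
  have hmem : ∀ {m : ℕ} {a : A}, a ∈ maximalIdeal A ^ m → algebraMap A B a ∈ maximalIdeal B ^ m := fun {m a} ha => by
    rw [hm, ← Ideal.map_pow]; exact Ideal.mem_map_of_mem _ ha
  let φ0 : M →ₗ[A] B := (w.restrictScalars A).comp (TensorProduct.mk A B M 1)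
  let Γ : Submodule A M :=
    { carrier := {x | ∃ m : ℕ, ∀ b ∈ maximalIdeal A ^ m, b • x = 0}
      add_mem' := by
        rintro x y ⟨m, hx⟩ ⟨n, hy⟩
        exact ⟨max m n, fun b hb => by
          rw [smul_add, hx b (Ideal.pow_le_pow_right (le_max_left m n) hb),
            hy b (Ideal.pow_le_pow_right (le_max_right m n) hb), add_zero]⟩
      zero_mem' := ⟨0, fun b _ => smul_zero b⟩
      smul_mem' := by
        rintro c x ⟨m, hx⟩
        exact ⟨m, fun b hb => by rw [smul_comm, hx b hb, smul_zero]⟩ }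
  have hΓ : Γ ≤ LinearMap.ker φ0 := by
    rintro x ⟨m, hx⟩
    have htors : φ0 x ∈ LocCoh.powTorsion (maximalIdeal B) B := by
      refine ⟨m, fun b hb => ?_⟩
      rw [hm, ← Ideal.map_pow] at hb
      obtain ⟨a, ha, rfl⟩ := (Ideal.mem_map_iff_of_surjective _ Ideal.Quotient.mk_surjective).1 hb
      show algebraMap A B a • φ0 x = 0
      rw [algebraMap_smul, ← map_smul, hx a ha, map_zero]
    exact congrArg Subtype.val
      ((LocCoh.H0Equiv (I := maximalIdeal B) (M := B)).symm.toEquiv.subsingleton.elim ⟨φ0 x, htors⟩ 0)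
  let φ : (M ⧸ Γ) →ₗ[A] B := Γ.liftQ φ0 hΓ
  have hπ : OffIso (maximalIdeal A) Γ.mkQ :=
    ⟨fun x hx => (Submodule.Quotient.mk_eq_zero Γ).1 hx, fun y => by
      obtain ⟨x, rfl⟩ := Submodule.Quotient.mk_surjective Γ y
      exact ⟨0, fun b _ => ⟨b • x, rfl⟩⟩⟩
  have hM' : InvAway (maximalIdeal A) (M ⧸ Γ) := hM.map_offIso hπ
  have hreg' : IsSMulRegular (M ⧸ Γ) t := by
    rw [isSMulRegular_iff_right_eq_zero_of_smul]
    intro z hz
    obtain ⟨x, rfl⟩ := Submodule.Quotient.mk_surjective Γ z
    rw [← Submodule.Quotient.mk_smul, Submodule.Quotient.mk_eq_zero] at hz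
    rw [Submodule.Quotient.mk_eq_zero]
    obtain ⟨m, hm'⟩ := hz
    refine exists_pow_kill_of_local fun p _ hp => ?_
    obtain ⟨b, hb, hbp⟩ := exists_notMem_of_pow (m := m) hp
    obtain ⟨g, hg⟩ := hM p hp
    obtain ⟨s, hs, a, e⟩ := hg.surj x
    obtain ⟨r, hr, e'⟩ := hg.inj (b * t * a) (by
      rw [mul_smul, ← e, mul_smul, smul_comm t s, smul_comm b s, hm' b hb, smul_zero])
    have h0 : r * b * a = 0 := hreg (show t * (r * b * a) = t * 0 by rw [mul_zero, ← e']; ring)
    exact ⟨r * b * s, mul_mem (mul_mem hr hbp) hs, by rw [mul_smul, e, smul_smul, h0, zero_smul]⟩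
  obtain ⟨ψ, hψ⟩ := exists_lift (M := M ⧸ Γ) ht hreg hd hreg' φ (fun z hz => by
      obtain ⟨x, rfl⟩ := Submodule.Quotient.mk_surjective Γ z
      obtain ⟨m, hm'⟩ := hw.ker ((1 : B) ⊗ₜ[A] x) hz
      refine ⟨m, fun b hb => ?_⟩
      have h1 := hm' _ (hmem hb)
      rw [algebraMap_smul, ← TensorProduct.tmul_smul] at h1
      have h2 := congrArg (TensorProduct.quotTensorEquivQuotSMul M (Ideal.span {t})) h1
      rw [map_zero, show (1 : B) = Ideal.Quotient.mk (Ideal.span {t}) 1 from rfl,
        TensorProduct.quotTensorEquivQuotSMul_mk_tmul, one_smul, Submodule.Quotient.mk_eq_zero,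
        Submodule.ideal_span_singleton_smul] at h2
      obtain ⟨y, -, hy⟩ := (Submodule.mem_smul_pointwise_iff_exists _ _ _).1 h2
      exact ⟨Submodule.Quotient.mk y, by rw [← Submodule.Quotient.mk_smul, ← hy]; rfl⟩)
    (fun y => by
      obtain ⟨m, hm'⟩ := hw.coker y
      refine ⟨m, fun b hb => ?_⟩
      obtain ⟨z, hz⟩ := hm' _ (hmem hb)
      rw [algebraMap_smul] at hz
      rw [← hz]
      clear hz
      induction z using TensorProduct.induction_on with
      | zero => rw [map_zero]; exact zero_mem _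
      | tmul c x =>
        obtain ⟨c, rfl⟩ := Ideal.Quotient.mk_surjective c
        refine ⟨Submodule.Quotient.mk (c • x), ?_⟩
        show φ0 (c • x) = w _
        rw [map_smul, show (Ideal.Quotient.mk (Ideal.span {t}) c) ⊗ₜ[A] x = c • ((1 : B) ⊗ₜ[A] x) by
          rw [TensorProduct.smul_tmul', Algebra.smul_def, mul_one]; rfl, LinearMap.map_smul_of_tower]
        rfl
      | add z z' h h' => rw [map_add]; exact add_mem h h')
  refine ⟨ψ.comp Γ.mkQ, (offIso_of_lift ht ha hM' ψ fun y => ?_).comp hπ⟩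
  obtain ⟨m, hm'⟩ := hw.coker (algebraMap A B y)
  refine ⟨m, fun b hb => ?_⟩
  obtain ⟨z, hz⟩ := hm' _ (hmem hb)
  have hr : ∀ z, ∃ x : M, w z = φ0 x := fun z => by
    induction z using TensorProduct.induction_on with
    | zero => exact ⟨0, by rw [map_zero, map_zero]⟩
    | tmul c x =>
      obtain ⟨c, rfl⟩ := Ideal.Quotient.mk_surjective c
      refine ⟨c • x, ?_⟩
      rw [map_smul, show (Ideal.Quotient.mk (Ideal.span {t}) c) ⊗ₜ[A] x = c • ((1 : B) ⊗ₜ[A] x) by
        rw [TensorProduct.smul_tmul', Algebra.smul_def, mul_one]; rfl, LinearMap.map_smul_of_tower]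
      rfl
    | add z z' h h' =>
      obtain ⟨a, ha'⟩ := h
      obtain ⟨c, hc⟩ := h'
      exact ⟨a + c, by rw [map_add, map_add, ha', hc]⟩
  obtain ⟨x, hx⟩ := hr z
  refine ⟨Submodule.Quotient.mk x, Ideal.Quotient.eq_zero_iff_mem.1 ?_⟩
  rw [map_sub, hψ, show φ (Submodule.Quotient.mk x) = φ0 x from rfl, ← hx, hz, smul_eq_mul, map_mul]
  exact sub_self _

end Groth.Agent.CAlgH.PicPunct
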