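import Groth.Agent.CAlgH.ParaGrDepth
import Groth.Agent.CAlgH.PicPunctInj

/-!
# Lifting trivialisations away from the closed point along a filtration with free graded pieces
-/

set_option autoImplicit false

universe u

open CategoryTheory CategoryTheory.Abelian IsLocalRing

namespace Groth.Agent.CAlgH.ParaGr

open Groth.Agent.UPLib (GenAt)
open Groth.Agent.CAlgH.PicPunct

section factor

variable {R : Type u} [CommRing R] [IsNoetherianRing R] [IsLocalRing R]

theorem eq_zero_of_pow_kill (hd : (1 : ℕ∞) ≤ _root_.LocCoh.depth R R) {y : R} {m : ℕ}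
    (h : ∀ b ∈ maximalIdeal R ^ m, b * y = 0) : y = 0 := by
  obtain ⟨x, hx, hreg⟩ := CAlgH3.exists_regular_of_one_le_depth (R := R) (M := R) hd
  exact (hreg.pow m).right_eq_zero_of_smul (h _ (Ideal.pow_mem_pow hx m))

variable {N : Type u} [AddCommGroup N] [Module R N]

/-- Over a ring of depth two, a map which is bijective away from the closed point generates the dual. -/
theorem exists_factor (hd : (2 : ℕ∞) ≤ _root_.LocCoh.depth R R) {φ : N →ₗ[R] R}
    (hφ : OffIso (maximalIdeal R) φ) (h : N →ₗ[R] R) : ∃ c : R, ∀ x, h x = φ x * c := by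
  have hd' : ((2 : ℕ) : ℕ∞) ≤ _root_.LocCoh.depth R R := hd
  have hd1 : (1 : ℕ∞) ≤ _root_.LocCoh.depth R R := le_trans (by decide) hd
  have hk : LinearMap.ker φ ≤ LinearMap.ker h := fun x hx => by
    obtain ⟨m, hm⟩ := hφ.ker x hx
    exact eq_zero_of_pow_kill hd1 fun b hb => by rw [← smul_eq_mul, ← map_smul, hm b hb, map_zero]
  let I : Submodule R R := LinearMap.range φ
  let h' : I →ₗ[R] R := (LinearMap.ker φ).liftQ h hk ∘ₗ φ.quotKerEquivRange.symm.toLinearMap
  have hC : Subsingleton (Ext (ModuleCat.of R (R ⧸ I)) (ModuleCat.of R R) 1) :=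
    LocCoh.subsingleton_ext_of_supportDim_add_lt R hd' 0 _
      (supportDim_le_zero_of_torsion fun x => by
        obtain ⟨y, rfl⟩ := Submodule.Quotient.mk_surjective _ x
        obtain ⟨m, hm⟩ := hφ.coker y
        exact ⟨m, fun b hb => (Submodule.Quotient.mk_eq_zero _).2 (hm b hb)⟩) 1 (by omega)
  obtain ⟨e, he⟩ := LocCoh.extPre_surjective R (f := I.subtype) (g := I.mkQ) I.injective_subtype
    I.mkQ_surjective (LinearMap.exact_subtype_mkQ I) 0 hC (Ext.mk₀ (ModuleCat.ofHom h'))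
  obtain ⟨H, rfl⟩ := (Ext.mk₀_bijective _ _).2 e
  rw [LocCoh.extPre_apply, Ext.mk₀_comp_mk₀] at he
  refine ⟨H.hom 1, fun x => ?_⟩
  have h1 : H.hom (φ x) = h' ⟨φ x, x, rfl⟩ :=
    ConcreteCategory.congr_hom ((Ext.mk₀_bijective _ _).1 he) ⟨φ x, x, rfl⟩
  have h2 : h' ⟨φ x, x, rfl⟩ = h x := by
    show (LinearMap.ker φ).liftQ h hk (φ.quotKerEquivRange.symm ⟨φ x, _⟩) = h x
    rw [LinearMap.quotKerEquivRange_symm_apply_image φ x ⟨x, rfl⟩]
    rfl
  rw [← h2, ← h1, ← smul_eq_mul, ← map_smul, smul_eq_mul, mul_one]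

variable {G : Type u} [AddCommGroup G] [Module R G] [Module.Free R G] [Module.Finite R G]

theorem eq_zero_of_pow_kill_free (hd : (1 : ℕ∞) ≤ _root_.LocCoh.depth R R) {g : G} {m : ℕ}
    (h : ∀ b ∈ maximalIdeal R ^ m, b • g = 0) : g = 0 := by
  refine (Module.Free.chooseBasis R G).forall_coord_eq_zero_iff.1 fun i => ?_
  exact eq_zero_of_pow_kill hd fun b hb => by rw [← smul_eq_mul, ← map_smul, h b hb, map_zero]

theorem exists_factor_free (hd : (2 : ℕ∞) ≤ _root_.LocCoh.depth R R) {φ : N →ₗ[R] R}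
    (hφ : OffIso (maximalIdeal R) φ) (h : N →ₗ[R] G) : ∃ c : G, ∀ x, h x = φ x • c := by
  let b := Module.Free.chooseBasis R G
  choose c hc using fun i => exists_factor hd hφ (b.coord i ∘ₗ h)
  refine ⟨∑ i, c i • b i, fun x => ?_⟩
  conv_lhs => rw [← b.sum_repr (h x)]
  rw [Finset.smul_sum]
  exact Finset.sum_congr rfl fun i _ => by rw [smul_smul, ← hc i x]; rfl

theorem exists_extend_free (hd : (3 : ℕ∞) ≤ _root_.LocCoh.depth R R) {F : Type u} [AddCommGroup F] [Module R F]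
    [Module.Finite R F] (K : Submodule R F) (φ : (F ⧸ K) →ₗ[R] R) (hφ : OffIso (maximalIdeal R) φ)
    (h : K →ₗ[R] G) : ∃ H : F →ₗ[R] G, ∀ k : K, H k.1 = h k := by
  let b := Module.Free.chooseBasis R G
  choose H hH using fun i => exists_extend hd K φ hφ (b.coord i ∘ₗ h)
  refine ⟨∑ i, (H i).smulRight (b i), fun k => ?_⟩
  rw [LinearMap.sum_apply, ← b.sum_repr (h k)]
  exact Finset.sum_congr rfl fun i _ => by rw [LinearMap.smulRight_apply, hH i k]; rfl

end factor

section dual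

variable {A : Type u} [CommRing A] [IsNoetherianRing A] {M : Type u} [AddCommGroup M] [Module A M] [Module.Finite A M]

/-- A functional on `M` which is nonzero at a generator at `p`. -/
theorem exists_dual_notMem {p : Ideal A} [p.IsPrime] {t : M} (ht : GenAt p.primeCompl t) :
    ∃ g : M →ₗ[A] A, g t ∉ p := by
  classical
  obtain ⟨n, π, hπ⟩ := Module.Finite.exists_fin' A M
  choose s hs a ha using fun i => ht.surj (π (Pi.single i 1))
  let S := ∏ i, s i
  have hS : S ∈ p.primeCompl := prod_mem fun i _ => hs i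
  have hdvd : ∀ i, ∃ c, S = s i * c := fun i => Finset.dvd_prod_of_mem s (Finset.mem_univ i)
  choose c hc using hdvd
  let g0 : (Fin n → A) →ₗ[A] A := Fintype.linearCombination A fun i => c i * a i
  have hg0 : ∀ v, g0 v • t = S • π v := fun v => by
    conv_rhs => rw [← Finset.univ_sum_single v, map_sum, Finset.smul_sum]
    rw [Fintype.linearCombination_apply, Finset.sum_smul]
    refine Finset.sum_congr rfl fun i _ => ?_
    rw [show (Pi.single i (v i) : Fin n → A) = v i • Pi.single i 1 by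
      rw [← Pi.single_smul', smul_eq_mul, mul_one], map_smul, smul_comm S, hc i, mul_comm (s i), mul_smul, ha i]
    simp [smul_eq_mul, mul_smul]
  obtain ⟨K, hK⟩ := IsNoetherian.noetherian (LinearMap.ker π)
  have hkill : ∀ k : K, ∃ q ∈ p.primeCompl, q * g0 k.1 = 0 := fun k => ht.inj _ (by
    have hk : π k.1 = 0 := by
      have : k.1 ∈ LinearMap.ker π := hK ▸ Submodule.subset_span k.2
      exact this
    rw [hg0, hk, smul_zero])
  choose q hq hq' using hkill
  let Q := ∏ k : K, q k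
  have hQ : Q ∈ p.primeCompl := prod_mem fun k _ => hq k
  have hker : LinearMap.ker π ≤ LinearMap.ker (Q • g0) := by
    rw [← hK, Submodule.span_le]
    intro k hk
    obtain ⟨d, hd⟩ := Finset.dvd_prod_of_mem q (Finset.mem_univ (⟨k, hk⟩ : K))
    show Q * g0 k = 0
    rw [show Q = q ⟨k, hk⟩ * d from hd, mul_comm (q _), mul_assoc, hq' ⟨k, hk⟩, mul_zero]
  obtain ⟨f, rfl⟩ := hπ t
  refine ⟨(LinearMap.ker π).liftQ (Q • g0) hker ∘ₗ (π.quotKerEquivOfSurjective hπ).symm.toLinearMap, fun hmem => ?_⟩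
  have he : (π.quotKerEquivOfSurjective hπ).symm (π f) = Submodule.Quotient.mk f :=
    (π.quotKerEquivOfSurjective hπ).symm_apply_eq.2 rfl
  change (LinearMap.ker π).liftQ (Q • g0) hker ((π.quotKerEquivOfSurjective hπ).symm (π f)) ∈ p at hmem
  rw [he, Submodule.liftQ_apply] at hmem
  change Q * g0 f ∈ p at hmem
  obtain ⟨r, hr, hr'⟩ := ht.inj (g0 f - S) (by rw [sub_smul, hg0, sub_self])
  have h1 : r * g0 f = r * S := by rwa [mul_sub, sub_eq_zero] at hr'
  exact (‹p.IsPrime›.mem_or_mem hmem).elim hQ fun h2 =>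
    (mul_mem hr hS : r * S ∈ p.primeCompl) (h1 ▸ p.mul_mem_left r h2)

end dual

variable {A : Type u} [CommRing A] [IsNoetherianRing A] [IsLocalRing A] {J : Ideal A}

theorem pow_mem_pow_quotient [IsLocalRing (A ⧸ J)] {m : ℕ} {b : A ⧸ J} (hb : b ∈ maximalIdeal (A ⧸ J) ^ m) :
    ∃ a ∈ maximalIdeal A ^ m, Ideal.Quotient.mk J a = b := by
  rw [← IsLocalRing.map_maximalIdeal_of_surjective (Ideal.Quotient.mk J) Ideal.Quotient.mk_surjective,
    ← Ideal.map_pow] at hb
  exact (Ideal.mem_map_iff_of_surjective _ Ideal.Quotient.mk_surjective).1 hb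

theorem mk_mem_pow_quotient [IsLocalRing (A ⧸ J)] {m : ℕ} {a : A} (ha : a ∈ maximalIdeal A ^ m) :
    Ideal.Quotient.mk J a ∈ maximalIdeal (A ⧸ J) ^ m := by
  rw [← IsLocalRing.map_maximalIdeal_of_surjective (Ideal.Quotient.mk J) Ideal.Quotient.mk_surjective,
    ← Ideal.map_pow]
  exact Ideal.mem_map_of_mem _ ha

/-- A functional on a finite module lies in a submodule as soon as it does so modulo all powers of `J`. -/
theorem mem_of_approx (hJ : J ≠ ⊤) {P : Type u} [AddCommGroup P] [Module A P] [Module.Finite A P]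
    (R' : Submodule A (P →ₗ[A] A)) (η : P →ₗ[A] A)
    (h : ∀ n : ℕ, ∃ r ∈ R', ∀ x, η x - r x ∈ J ^ n) : η ∈ R' := by
  classical
  obtain ⟨s, ρ, hρ⟩ := Module.Finite.exists_fin' A P
  let ev : (P →ₗ[A] A) →ₗ[A] (Fin s → A) := LinearMap.pi fun i => LinearMap.applyₗ (ρ (Pi.single i 1))
  have hev : Function.Injective ev := fun f g hfg => LinearMap.ext fun x => by
    obtain ⟨v, rfl⟩ := hρ x
    conv_lhs => rw [← Finset.univ_sum_single v]
    conv_rhs => rw [← Finset.univ_sum_single v]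
    simp only [map_sum]
    refine Finset.sum_congr rfl fun i _ => ?_
    rw [show (Pi.single i (v i) : Fin s → A) = v i • Pi.single i 1 by
      rw [← Pi.single_smul', smul_eq_mul, mul_one], map_smul, map_smul, map_smul]
    exact congrArg (v i • ·) (congrFun hfg i)
  haveI : Module.Finite A (P →ₗ[A] A) := Module.Finite.of_injective ev hev
  obtain ⟨c, hc⟩ := Ideal.exists_pow_inf_eq_pow_smul J (LinearMap.range ev)
  have hV : ∀ (n : ℕ) (f : P →ₗ[A] A), (∀ x, f x ∈ J ^ (n + c)) → f ∈ J ^ n • (⊤ : Submodule A (P →ₗ[A] A)) := by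
    intro n f hf
    have h1 : ev f ∈ J ^ (n + c) • (⊤ : Submodule A (Fin s → A)) ⊓ LinearMap.range ev := by
      refine ⟨?_, f, rfl⟩
      rw [← Finset.univ_sum_single (ev f)]
      refine Submodule.sum_mem _ fun i _ => ?_
      rw [show (Pi.single i (ev f i) : Fin s → A) = ev f i • Pi.single i 1 by
        rw [← Pi.single_smul', smul_eq_mul, mul_one]]
      exact Submodule.smul_mem_smul (hf _) Submodule.mem_top
    rw [hc (n + c) (Nat.le_add_left c n), Nat.add_sub_cancel] at h1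
    have h2 : ev f ∈ J ^ n • LinearMap.range ev := Submodule.smul_mono le_rfl inf_le_right h1
    rw [LinearMap.range_eq_map, ← Submodule.map_smul''] at h2
    obtain ⟨g, hg, hgf⟩ := h2
    exact hev hgf ▸ hg
  rw [← Submodule.Quotient.mk_eq_zero R']
  have h0 := Ideal.iInf_pow_smul_eq_bot_of_isLocalRing (M := (P →ₗ[A] A) ⧸ R') J hJ
  refine (Submodule.mem_bot A).1 (h0 ▸ (Submodule.mem_iInf _).2 fun n => ?_)
  obtain ⟨r, hr, hr'⟩ := h (n + c)
  have h1 := Submodule.mem_map_of_mem (f := R'.mkQ) (hV n (η - r) hr')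
  rw [Submodule.map_smul'', map_sub, Submodule.mkQ_apply, Submodule.mkQ_apply,
    (Submodule.Quotient.mk_eq_zero R').2 hr, sub_zero] at h1
  exact Submodule.smul_mono le_rfl le_top h1

variable {M : Type u} [AddCommGroup M] [Module A M] [Module.Finite A M]

/-- A relation with coefficients in `J` is a combination with coefficients in `J` of relations, away from the
closed point. -/
theorem exists_pow_smul_mem (hM : InvAway (maximalIdeal A) M) {r : ℕ} {π : (Fin r → A) →ₗ[A] M}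
    (hπ : Function.Surjective π) {k : Fin r → A} (hk : π k = 0) (hkJ : ∀ i, k i ∈ J) :
    ∃ m : ℕ, ∀ b ∈ maximalIdeal A ^ m, b • k ∈ J • LinearMap.ker π := by
  classical
  refine (torsMem_of_local fun p _ hp => ?_).exists_pow
  obtain ⟨t, ht⟩ := hM p hp
  obtain ⟨f, rfl⟩ := hπ t
  choose s hs a ha using fun i => ht.surj (π (Pi.single i 1))
  let S := ∏ i, s i
  have hdvd : ∀ i, ∃ c, S = s i * c := fun i => Finset.dvd_prod_of_mem s (Finset.mem_univ i)
  choose c hc using hdvd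
  let u : Fin r → (Fin r → A) := fun i => S • Pi.single i 1 - (c i * a i) • f
  have hu : ∀ i, u i ∈ LinearMap.ker π := fun i => by
    show π (u i) = 0
    rw [map_sub, map_smul, map_smul, hc i, mul_comm (s i), mul_smul, ha i, smul_smul, sub_self]
  have hk' : S • k = (∑ i, k i • u i) + (∑ i, k i * (c i * a i)) • f := by
    conv_lhs => rw [← Finset.univ_sum_single k, Finset.smul_sum]
    rw [Finset.sum_smul, ← Finset.sum_add_distrib]
    refine Finset.sum_congr rfl fun i _ => ?_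
    rw [smul_sub, ← mul_smul (k i) (c i * a i) f, sub_add_cancel, smul_comm (k i)]
    simp only [← Pi.single_smul', smul_eq_mul, mul_one]
  have hsum : π (∑ i, k i • u i) = 0 := Submodule.sum_mem _ fun i _ => Submodule.smul_mem _ _ (hu i)
  obtain ⟨q, hq, hq'⟩ := ht.inj (∑ i, k i * (c i * a i)) (by
    have := congrArg π hk'
    rw [map_smul, hk, smul_zero, map_add, hsum, zero_add, map_smul] at this
    exact this.symm)
  refine ⟨q * S, mul_mem hq (prod_mem fun i _ => hs i), ?_⟩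
  rw [mul_smul, hk', smul_add, smul_smul q (∑ i, k i * (c i * a i)) f, hq', zero_smul, add_zero, Finset.smul_sum]
  refine Submodule.sum_mem _ fun i _ => ?_
  rw [smul_smul]
  exact Submodule.smul_mem_smul (J.mul_mem_left q (hkJ i)) (hu i)

variable [IsLocalRing (A ⧸ J)] (hfree : ∀ n, Module.Free (A ⧸ J) (Gr J n))
  (hM : InvAway (maximalIdeal A) M)
  {w : M ⧸ (J • ⊤ : Submodule A M) →ₗ[A ⧸ J] A ⧸ J} (hw : OffIso (maximalIdeal (A ⧸ J)) w)

include hfree hM hw in
/-- One step of lifting. -/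
theorem exists_step (hd : (3 : ℕ∞) ≤ _root_.LocCoh.depth (A ⧸ J) (A ⧸ J)) {r : ℕ} {π : (Fin r → A) →ₗ[A] M}
    (hπ : Function.Surjective π) {n : ℕ} (f : (Fin r → A) →ₗ[A] A) (hf : ∀ k, π k = 0 → f k ∈ J ^ n) :
    ∃ Z : (Fin r → A) →ₗ[A] A, (∀ v, Z v ∈ J ^ n) ∧ ∀ k, π k = 0 → f k - Z k ∈ J ^ (n + 1) := by
  classical
  haveI := hfree n
  haveI : Module.Finite (A ⧸ J) (Gr J n) := Module.Finite.of_restrictScalars_finite A _ _
  have hd1 : (1 : ℕ∞) ≤ _root_.LocCoh.depth (A ⧸ J) (A ⧸ J) := le_trans (by decide) hd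
  let K := LinearMap.ker π
  let q : (Fin r → A) →ₗ[A] (Fin r → A ⧸ J) := (Algebra.linearMap A (A ⧸ J)).compLeft (Fin r)
  have hq : Function.Surjective q := fun v => by
    choose x hx using fun i => Ideal.Quotient.mk_surjective (v i)
    exact ⟨x, funext hx⟩
  let mk0 : M →ₗ[A] M ⧸ (J • ⊤ : Submodule A M) := Submodule.mkQ _
  let Φ : (Fin r → A ⧸ J) →ₗ[A ⧸ J] M ⧸ (J • ⊤ : Submodule A M) :=
    Fintype.linearCombination (A ⧸ J) fun i => mk0 (π (Pi.single i 1))
  have hΦ : ∀ v, Φ (q v) = mk0 (π v) := fun v => by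
    conv_rhs => rw [← Finset.univ_sum_single v, map_sum, map_sum]
    rw [Fintype.linearCombination_apply]
    refine Finset.sum_congr rfl fun i _ => ?_
    rw [show (Pi.single i (v i) : Fin r → A) = v i • Pi.single i 1 by
      rw [← Pi.single_smul', smul_eq_mul, mul_one], map_smul, map_smul]
    exact (algebra_compatible_smul (A ⧸ J) (v i) (mk0 (π (Pi.single i 1)))).symm
  have hΦs : Function.Surjective Φ := fun z => by
    obtain ⟨x, rfl⟩ := Submodule.Quotient.mk_surjective _ z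
    obtain ⟨v, rfl⟩ := hπ x
    exact ⟨q v, hΦ v⟩
  let K' := LinearMap.ker Φ
  let φ' : ((Fin r → A ⧸ J) ⧸ K') →ₗ[A ⧸ J] A ⧸ J := w ∘ₗ (Φ.quotKerEquivOfSurjective hΦs).toLinearMap
  have hφ' : OffIso (maximalIdeal (A ⧸ J)) φ' := by
    refine ⟨fun z hz => ?_, fun y => ?_⟩
    · obtain ⟨m, hm⟩ := hw.ker _ hz
      exact ⟨m, fun b hb => (Φ.quotKerEquivOfSurjective hΦs).injective (by
        rw [map_smul, map_zero]; exact hm b hb)⟩
    · obtain ⟨m, hm⟩ := hw.coker y
      refine ⟨m, fun b hb => ?_⟩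
      obtain ⟨z, hz⟩ := hm b hb
      exact ⟨(Φ.quotKerEquivOfSurjective hΦs).symm z, by
        show w ((Φ.quotKerEquivOfSurjective hΦs) _) = _
        rw [LinearEquiv.apply_symm_apply, hz]⟩
  let η : K →ₗ[A] Gr J n :=
    (J • (⊤ : Submodule A ↥(J ^ n))).mkQ ∘ₗ (f ∘ₗ K.subtype).codRestrict (J ^ n) fun k => hf k.1 k.2
  have hwell : ∀ k : K, q k.1 = 0 → η k = 0 := fun k hk => by
    obtain ⟨m, hm⟩ := exists_pow_smul_mem hM hπ k.2 fun i => Ideal.Quotient.eq_zero_iff_mem.1 (congrFun hk i)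
    refine eq_zero_of_pow_kill_free (R := A ⧸ J) hd1 (m := m) fun b hb => ?_
    obtain ⟨a, ha, rfl⟩ := pow_mem_pow_quotient hb
    have h1 : f (a • k.1) ∈ J ^ (n + 1) := by
      have h2 : f (a • k.1) ∈ (J • K).map f := Submodule.mem_map_of_mem (hm a ha)
      rw [Submodule.map_smul'', pow_succ'] at *
      exact Submodule.smul_mono le_rfl (Submodule.map_le_iff_le_comap.2 hf) h2
    refine Eq.trans ?_ ((mk_eq_zero_iff (⟨f (a • k.1), hf _ (K.smul_mem a k.2)⟩ : ↥(J ^ n))).2 h1)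
    exact ((algebra_compatible_smul (A ⧸ J) a (η k)).symm.trans (η.map_smul a k).symm)
  have hrep : ∀ v : K', ∃ k : K, q k.1 = v.1 := fun v => by
    obtain ⟨x, hx⟩ := hq v.1
    have h1 : π x ∈ (J • (⊤ : Submodule A (Fin r → A))).map π := by
      rw [Submodule.map_smul'', Submodule.map_top, LinearMap.range_eq_top.2 hπ]
      refine (Submodule.Quotient.mk_eq_zero _).1 ((hΦ x).symm.trans ?_)
      rw [hx]; exact v.2
    obtain ⟨y, hy, hxy⟩ := h1
    refine ⟨⟨x - y, show π (x - y) = 0 by rw [map_sub, hxy, sub_self]⟩, ?_⟩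
    show q (x - y) = v.1
    rw [map_sub, hx]
    have : q y = 0 := funext fun i => Ideal.Quotient.eq_zero_iff_mem.2 (by
      have h2 : y i ∈ J • (⊤ : Submodule A A) := Submodule.smul_top_le_comap_smul_top J (LinearMap.proj i) hy
      rwa [smul_eq_mul, Ideal.mul_top] at h2)
    rw [this, sub_zero]
  choose rep hrep using hrep
  have hwell' : ∀ a b : K, q a.1 = q b.1 → η a = η b := fun a b hab => by
    rw [← sub_eq_zero, ← map_sub]
    exact hwell _ (by rw [Submodule.coe_sub, map_sub, hab, sub_self])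
  let h : K' →ₗ[A ⧸ J] Gr J n :=
    { toFun := fun v => η (rep v)
      map_add' := fun v v' => by
        rw [← map_add η]
        exact hwell' _ _ (by rw [hrep, Submodule.coe_add, Submodule.coe_add, map_add, hrep, hrep])
      map_smul' := fun c v => by
        obtain ⟨c, rfl⟩ := Ideal.Quotient.mk_surjective c
        refine (hwell' _ (c • rep v) ?_).trans ((η.map_smul c _).trans (algebra_compatible_smul (A ⧸ J) c _))
        rw [hrep, Submodule.coe_smul, Submodule.coe_smul, map_smul, hrep]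
        exact (algebra_compatible_smul (A ⧸ J) c v.1).symm }
  obtain ⟨H, hH⟩ := exists_extend_free hd K' φ' hφ' h
  choose z hz using fun i => Submodule.Quotient.mk_surjective _ (H (Pi.single i 1))
  let Z : (Fin r → A) →ₗ[A] ↥(J ^ n) := Fintype.linearCombination A z
  have hZ : ∀ v, (Submodule.Quotient.mk (Z v) : Gr J n) = H (q v) := fun v => by
    conv_rhs => rw [← Finset.univ_sum_single (q v), map_sum]
    rw [Fintype.linearCombination_apply, ← Submodule.mkQ_apply, map_sum]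
    refine Finset.sum_congr rfl fun i _ => ?_
    rw [show (Pi.single i (q v i) : Fin r → A ⧸ J) = q v i • Pi.single i 1 by
      rw [← Pi.single_smul', smul_eq_mul, mul_one], map_smul H, ← hz i, map_smul, Submodule.mkQ_apply]
    exact algebra_compatible_smul (A ⧸ J) (v i) _
  refine ⟨(J ^ n).subtype ∘ₗ Z, fun v => (Z v).2, fun k hk => ?_⟩
  refine (mk_eq_zero_iff (⟨f k, hf k hk⟩ - Z k : ↥(J ^ n))).1 ?_
  have hkK' : q k ∈ K' := by
    show Φ (q k) = 0
    rw [hΦ, hk, map_zero]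
  rw [Submodule.Quotient.mk_sub, hZ, show H (q k) = h ⟨q k, hkK'⟩ from hH ⟨q k, hkK'⟩, sub_eq_zero]
  exact hwell' ⟨k, hk⟩ (rep ⟨q k, hkK'⟩) (hrep ⟨q k, hkK'⟩).symm

include hfree hM hw in
/-- The trivialisation lifts. -/
theorem exists_lift_gr (hJ : J ≠ ⊤) (hd : (3 : ℕ∞) ≤ _root_.LocCoh.depth (A ⧸ J) (A ⧸ J)) :
    ∃ ψ : M →ₗ[A] A, ∀ x, Ideal.Quotient.mk J (ψ x) = w (Submodule.Quotient.mk x) := by
  classical
  obtain ⟨r, π, hπ⟩ := Module.Finite.exists_fin' A M
  let φ : M →ₗ[A] A ⧸ J := w.restrictScalars A ∘ₗ (J • ⊤ : Submodule A M).mkQ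
  choose c hc using fun i => Ideal.Quotient.mk_surjective (φ (π (Pi.single i 1)))
  let φ0 : (Fin r → A) →ₗ[A] A := Fintype.linearCombination A c
  have hφ0 : ∀ v, Ideal.Quotient.mk J (φ0 v) = φ (π v) := fun v => by
    conv_rhs => rw [← Finset.univ_sum_single v, map_sum, map_sum]
    rw [Fintype.linearCombination_apply, map_sum]
    refine Finset.sum_congr rfl fun i _ => ?_
    rw [show (Pi.single i (v i) : Fin r → A) = v i • Pi.single i 1 by
      rw [← Pi.single_smul', smul_eq_mul, mul_one], map_smul π, map_smul φ, ← hc i, smul_eq_mul, map_mul]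
    exact (Algebra.smul_def (v i) (Ideal.Quotient.mk J (c i))).symm
  have happ : ∀ n : ℕ, ∃ fn : (Fin r → A) →ₗ[A] A,
      (∀ v, φ0 v - fn v ∈ J) ∧ ∀ k, π k = 0 → fn k ∈ J ^ (n + 1) := by
    intro n
    induction n with
    | zero =>
      refine ⟨φ0, fun v => by simp, fun k hk => ?_⟩
      rw [zero_add, pow_one, ← Ideal.Quotient.eq_zero_iff_mem, hφ0, hk, map_zero]
    | succ n ih =>
      obtain ⟨fn, h1, h2⟩ := ih
      obtain ⟨Z, hZ1, hZ2⟩ := exists_step hfree hM hw hd hπ fn h2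
      refine ⟨fn - Z, fun v => ?_, hZ2⟩
      rw [LinearMap.sub_apply, sub_sub_eq_add_sub, add_comm, ← add_sub_assoc', add_comm]
      exact add_mem (h1 v) (Ideal.pow_le_self n.succ_ne_zero (hZ1 v))
  let R' : Submodule A (LinearMap.ker π →ₗ[A] A) :=
    { carrier := {η | ∃ Z : (Fin r → A) →ₗ[A] A, (∀ v, Z v ∈ J) ∧ ∀ k : LinearMap.ker π, Z k.1 = η k}
      add_mem' := by
        rintro _ _ ⟨Z, h1, h2⟩ ⟨Z', h1', h2'⟩
        exact ⟨Z + Z', fun v => add_mem (h1 v) (h1' v), fun k => congrArg₂ (· + ·) (h2 k) (h2' k)⟩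
      zero_mem' := ⟨0, fun v => zero_mem _, fun k => rfl⟩
      smul_mem' := by
        rintro a _ ⟨Z, h1, h2⟩
        exact ⟨a • Z, fun v => J.mul_mem_left a (h1 v), fun k => congrArg (a • ·) (h2 k)⟩ }
  obtain ⟨Z, hZ1, hZ2⟩ : φ0 ∘ₗ (LinearMap.ker π).subtype ∈ R' := by
    refine mem_of_approx hJ R' _ fun n => ?_
    obtain ⟨fn, h1, h2⟩ := happ n
    refine ⟨(φ0 - fn) ∘ₗ (LinearMap.ker π).subtype, ⟨φ0 - fn, h1, fun k => rfl⟩, fun k => ?_⟩
    show φ0 k.1 - (φ0 k.1 - fn k.1) ∈ J ^ n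
    rw [sub_sub_cancel]
    exact Ideal.pow_le_pow_right n.le_succ (h2 k.1 k.2)
  have hker : LinearMap.ker π ≤ LinearMap.ker (φ0 - Z) := fun v hv => by
    show φ0 v - Z v = 0
    rw [sub_eq_zero]
    exact (hZ2 ⟨v, hv⟩).symm
  refine ⟨(LinearMap.ker π).liftQ (φ0 - Z) hker ∘ₗ (π.quotKerEquivOfSurjective hπ).symm.toLinearMap, fun x => ?_⟩
  obtain ⟨v, rfl⟩ := hπ x
  have he : (π.quotKerEquivOfSurjective hπ).symm (π v) = Submodule.Quotient.mk v :=
    (π.quotKerEquivOfSurjective hπ).symm_apply_eq.2 rfl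
  show Ideal.Quotient.mk J ((LinearMap.ker π).liftQ (φ0 - Z) hker ((π.quotKerEquivOfSurjective hπ).symm (π v))) = _
  rw [he, Submodule.liftQ_apply, LinearMap.sub_apply, map_sub, hφ0, Ideal.Quotient.eq_zero_iff_mem.2 (hZ1 v), sub_zero]
  rfl

include hfree hM hw in
/-- The lift is an isomorphism away from the closed point. -/
theorem exists_offIso (hJ : J ≠ ⊤) (hd : (3 : ℕ∞) ≤ _root_.LocCoh.depth (A ⧸ J) (A ⧸ J)) :
    ∃ v : M →ₗ[A] A, OffIso (maximalIdeal A) v := by
  obtain ⟨ψ, hψ⟩ := exists_lift_gr hfree hM hw hJ hd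
  have hgen : ∀ g : M →ₗ[A] A, ∃ a : A, a • ψ = g := by
    intro g
    refine Submodule.mem_span_singleton.1 (mem_of_approx hJ (A ∙ ψ) g fun n => ?_)
    induction n with
    | zero => exact ⟨0, zero_mem _, fun x => by simp⟩
    | succ n ih =>
      obtain ⟨_, hr, hr'⟩ := ih
      obtain ⟨a, rfl⟩ := Submodule.mem_span_singleton.1 hr
      haveI := hfree n
      haveI : Module.Finite (A ⧸ J) (Gr J n) := Module.Finite.of_restrictScalars_finite A _ _
      let h0 : M →ₗ[A] Gr J n :=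
        (J • (⊤ : Submodule A ↥(J ^ n))).mkQ ∘ₗ (g - a • ψ).codRestrict (J ^ n) hr'
      have hh0 : (J • ⊤ : Submodule A M) ≤ LinearMap.ker h0 := by
        refine Submodule.smul_le.2 fun j hj x _ => ?_
        show h0 (j • x) = 0
        rw [map_smul]
        obtain ⟨y, hy⟩ := Submodule.Quotient.mk_surjective _ (h0 x)
        rw [← hy, ← Submodule.Quotient.mk_smul, Submodule.Quotient.mk_eq_zero]
        exact Submodule.smul_mem_smul hj Submodule.mem_top
      let h : M ⧸ (J • ⊤ : Submodule A M) →ₗ[A ⧸ J] Gr J n :=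
        LinearMap.extendScalarsOfSurjective Ideal.Quotient.mk_surjective ((J • ⊤ : Submodule A M).liftQ h0 hh0)
      obtain ⟨c, hc⟩ := exists_factor_free (le_trans (by decide) hd) hw h
      obtain ⟨c0, rfl⟩ := Submodule.Quotient.mk_surjective _ c
      refine ⟨(a + c0.1) • ψ, Submodule.smul_mem _ _ (Submodule.mem_span_singleton_self ψ), fun x => ?_⟩
      have h1 := hc (Submodule.Quotient.mk x)
      rw [show h (Submodule.Quotient.mk x) = h0 x from rfl, ← hψ x] at h1
      have h2 : (Submodule.Quotient.mk (⟨_, hr' x⟩ - ψ x • c0 : ↥(J ^ n)) : Gr J n) = 0 := by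
        rw [Submodule.Quotient.mk_sub, sub_eq_zero]
        exact h1.trans (algebra_compatible_smul (A ⧸ J) (ψ x) _).symm
      rw [mk_eq_zero_iff] at h2
      convert h2 using 1
      show g x - (a + c0.1) * ψ x = g x - a * ψ x - ψ x * c0.1
      ring
  have hkey : ∀ (p : Ideal A) [p.IsPrime] (_ : ¬ maximalIdeal A ≤ p) (t : M), GenAt p.primeCompl t → ψ t ∉ p := by
    intro p _ _ t ht hmem
    obtain ⟨g, hg⟩ := exists_dual_notMem ht
    obtain ⟨a, rfl⟩ := hgen g
    exact hg (p.mul_mem_left a hmem)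
  refine ⟨ψ, OffIso.of_local (fun p _ hp y hy => ?_) fun p _ hp y => ?_⟩
  · obtain ⟨t, ht⟩ := hM p hp
    obtain ⟨s, hs, a, e⟩ := ht.surj y
    refine ⟨ψ t * s, mul_mem (show ψ t ∈ p.primeCompl from hkey p hp t ht) hs, ?_⟩
    have h0 : a * ψ t = 0 := by
      have := congrArg ψ e
      rw [map_smul, map_smul, hy, smul_zero, smul_eq_mul] at this
      exact this.symm
    rw [mul_smul, e, smul_smul, mul_comm, h0, zero_smul]
  · obtain ⟨t, ht⟩ := hM p hp
    exact ⟨ψ t, hkey p hp t ht, y • t, by rw [map_smul, smul_eq_mul, smul_eq_mul, mul_comm]⟩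

omit [IsNoetherianRing A] [Module.Finite A M] in
/-- Reduction modulo `J` of a module free of rank one away from the closed point. -/
theorem invAway_quotient (hM : InvAway (maximalIdeal A) M) :
    InvAway (maximalIdeal (A ⧸ J)) (M ⧸ (J • ⊤ : Submodule A M)) := by
  intro q _ hq
  have hp : ¬ maximalIdeal A ≤ q.comap (Ideal.Quotient.mk J) := fun h => hq (by
    rw [← IsLocalRing.map_maximalIdeal_of_surjective (Ideal.Quotient.mk J) Ideal.Quotient.mk_surjective]
    exact Ideal.map_le_iff_le_comap.2 h)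
  obtain ⟨t, ht⟩ := hM (q.comap (Ideal.Quotient.mk J)) hp
  have hloc : ∀ x ∈ (J • ⊤ : Submodule A M), ∃ s ∈ (q.comap (Ideal.Quotient.mk J)).primeCompl,
      ∃ c ∈ J, s • x = c • t := by
    intro x hx
    induction hx using Submodule.smul_induction_on' with
    | smul j hj x _ =>
      obtain ⟨s, hs, a, e⟩ := ht.surj x
      exact ⟨s, hs, j * a, J.mul_mem_right a hj, by rw [smul_comm, e, mul_smul]⟩
    | add x _ y _ hx hy =>
      obtain ⟨s, hs, c, hc, e⟩ := hx
      obtain ⟨s', hs', c', hc', e'⟩ := hy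
      refine ⟨s * s', mul_mem hs hs', s' * c + s * c', add_mem (J.mul_mem_left _ hc) (J.mul_mem_left _ hc'), ?_⟩
      rw [smul_add, add_smul, mul_comm s s', mul_smul, e, mul_comm s' s, mul_smul, e', smul_smul, smul_smul]
  refine ⟨Submodule.Quotient.mk t, fun x => ?_, fun a ha => ?_⟩
  · obtain ⟨x, rfl⟩ := Submodule.Quotient.mk_surjective _ x
    obtain ⟨s, hs, a, e⟩ := ht.surj x
    refine ⟨Ideal.Quotient.mk J s, hs, Ideal.Quotient.mk J a, ?_⟩
    show (Submodule.Quotient.mk (s • x) : M ⧸ (J • ⊤ : Submodule A M)) = Submodule.Quotient.mk (a • t)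
    rw [e]
  · obtain ⟨a, rfl⟩ := Ideal.Quotient.mk_surjective a
    obtain ⟨s, hs, c, hc, e⟩ := hloc (a • t) ((Submodule.Quotient.mk_eq_zero _).1 ha)
    obtain ⟨r, hr, h0⟩ := ht.inj (s * a - c) (by rw [sub_smul, mul_smul, e, sub_self])
    refine ⟨Ideal.Quotient.mk J (r * s), mul_mem hr hs, ?_⟩
    rw [← map_mul, Ideal.Quotient.eq_zero_iff_mem]
    rw [mul_sub, sub_eq_zero, ← mul_assoc] at h0
    exact h0 ▸ J.mul_mem_left r hc

end Groth.Agent.CAlgH.ParaGr
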