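import Groth.Agent.CAlgH.PicPunctSurj
import Groth.Agent.LocCoh.DepthLocal

/-!
# The restriction of Picard groups to a hypersurface in depth four
-/

set_option autoImplicit false
set_option backward.isDefEq.respectTransparency false

universe u

open CategoryTheory CategoryTheory.Limits AlgebraicGeometry IsLocalRing Opposite TopologicalSpace
open Groth.Agent.Formal2Lib Groth.Agent.Formal2Lib.Punct
open scoped TensorProduct

namespace Groth.Agent.CAlgH.PicPunct

theorem picTrivial_of_iso {X Y : Scheme.{u}} (c : X ≅ Y) (h : ParaF.PicTrivial X) : ParaF.PicTrivial Y := by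
  intro L hL
  obtain ⟨i⟩ := h _ (PicLoc.isInvertible_pullback c.hom hL)
  obtain ⟨u⟩ := nonempty_pullback_unit c.inv
  exact ⟨(pullbackInvIso c L).symm ≪≫ (Scheme.Modules.pullback c.inv).mapIso i ≪≫ u⟩

theorem picTrivial_of_surjective {X Y : Scheme.{u}} (g : X ⟶ Y) (hg : Formal2.PicPullbackSurjective g)
    (h : ParaF.PicTrivial Y) : ParaF.PicTrivial X := by
  intro L hL
  obtain ⟨K, hK, ⟨i⟩⟩ := hg L hL
  obtain ⟨k⟩ := h K hK
  obtain ⟨u⟩ := nonempty_pullback_unit g
  exact ⟨i.symm ≪≫ (Scheme.Modules.pullback g).mapIso k ≪≫ u⟩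

variable {A : Type u} [CommRing A] [IsNoetherianRing A] [IsLocalRing A] {t : A}
  (ht : t ∈ maximalIdeal A) (hreg : IsSMulRegular A t) [IsLocalRing (A ⧸ Ideal.span {t})]
  [IsAdicComplete (Ideal.span {t}) A]
  (hd : (4 : ℕ∞) ≤ _root_.LocCoh.depth (A ⧸ Ideal.span {t}) (A ⧸ Ideal.span {t}))
  (he : ∀ p : PrimeSpectrum A, t ∉ p.asIdeal → ringKrullDim (A ⧸ p.asIdeal) = 1 →
    ParaF.PicTrivial (↑(FEt.puncturedSpec (Localization.AtPrime p.asIdeal)) : Scheme.{u}))

include ht hreg hd he

theorem picPullbackSurjective_of_depth :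
    Formal2.PicPullbackSurjective (Formal2.specQuotMap A t ∣_ FEt.puncturedSpec A) := by
  have hH : ∀ i < 4, Subsingleton (_root_.LocCoh.H (maximalIdeal A) i (A ⧸ Ideal.span {t})) :=
    (LocCoh.natCast_le_idealDepth_iff_H (I := maximalIdeal A) (M := A ⧸ Ideal.span {t}) (n := 4)).1
      (hd.trans_eq (CAlgH3.depth_quotient_ring _))
  haveI := hH 1 (by omega)
  haveI := hH 2 (by omega)
  refine picPullbackSurjective_restrict ht
    (mem_nonZeroDivisors_iff_right.2 fun x hx => hreg (by simpa [mul_comm] using hx)) inferInstance inferInstance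
    (hH 3 (by omega)) fun q _ htq hmax => ?_
  exact he ⟨q, inferInstance⟩ htq (LocCoh.ringKrullDim_quotient_eq_one_of_maximal q ht htq
    fun s hs hqs _ => by_contra fun hts => hqs.ne' (hmax s hs hqs.le hts))

theorem picPullbackSurjective_subscheme :
    Formal2.PicPullbackSurjective ((Formal2.specQuotMap A t).ker.comap (FEt.puncturedSpec A).ι).subschemeι := by
  haveI : IsClosedImmersion (Formal2.specQuotMap A t) :=
    IsClosedImmersion.spec_of_surjective _ Ideal.Quotient.mk_surjective
  obtain ⟨e, he'⟩ := exists_iso_subscheme (Formal2.specQuotMap A t) (FEt.puncturedSpec A)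
  exact surjective_comp_iso e _ (he' ▸ picPullbackSurjective_of_depth ht hreg hd he)

theorem picTrivial_quotient (h : ParaF.PicTrivial (↑(FEt.puncturedSpec A) : Scheme.{u})) :
    ParaF.PicTrivial (↑(FEt.puncturedSpec (A ⧸ Ideal.span {t})) : Scheme.{u}) := by
  refine picTrivial_of_iso ((Spec (CommRingCat.of (A ⧸ Ideal.span {t}))).isoOfEq ?_)
    (picTrivial_of_surjective _ (picPullbackSurjective_of_depth ht hreg hd he) h)
  rw [Punct.puncturedSpec_eq, Punct.puncturedSpec_eq, ← IsLocalRing.map_maximalIdeal_of_surjective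
    (algebraMap A (A ⧸ Ideal.span {t})) Ideal.Quotient.mk_surjective]
  exact Opens.ext (Set.ext fun (q : PrimeSpectrum (A ⧸ Ideal.span {t})) =>
    not_congr (Ideal.map_le_iff_le_comap (f := algebraMap A (A ⧸ Ideal.span {t}))).symm)

end Groth.Agent.CAlgH.PicPunct
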