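import Groth.Agent.CAlgH.PicPunctBridge
import Groth.Prelude.Def_Formal2
import Groth.Prelude.Def_ParaF
import Groth.Prelude.Def_StMod
import Groth.Agent.ParaF29.Local

/-!
# Picard groups of punctured spectra through modules
-/

set_option autoImplicit false
set_option backward.isDefEq.respectTransparency false

universe u

open CategoryTheory CategoryTheory.Limits AlgebraicGeometry Opposite TopologicalSpace
open Groth.Agent.Formal2Lib Groth.Agent.Formal2Lib.Punct
open scoped TensorProduct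

namespace Groth.Agent.CAlgH.PicPunct

/-- Pullback of the structure sheaf. -/
theorem nonempty_pullback_unit {X Y : Scheme.{u}} (g : X ⟶ Y) :
    Nonempty ((Scheme.Modules.pullback g).obj (Coh.structureModule Y) ≅ Coh.structureModule X) := by
  haveI := StMod.opensMap_final g
  haveI : IsIso (SheafOfModules.pullbackObjUnitToUnit g.toRingCatSheafHom) := inferInstance
  exact ⟨asIso (SheafOfModules.pullbackObjUnitToUnit g.toRingCatSheafHom)⟩

/-- Going back along an isomorphism of schemes. -/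
noncomputable def pullbackInvIso {X Y : Scheme.{u}} (c : X ≅ Y) (L : Y.Modules) :
    (Scheme.Modules.pullback c.inv).obj ((Scheme.Modules.pullback c.hom).obj L) ≅ L :=
  (Scheme.Modules.pullbackComp c.inv c.hom).app L ≪≫ (Scheme.Modules.pullbackCongr c.inv_hom_id).app L ≪≫
    (Scheme.Modules.pullbackId Y).app L

noncomputable def pullbackHomIso {X Y : Scheme.{u}} (c : X ≅ Y) (L : X.Modules) :
    (Scheme.Modules.pullback c.hom).obj ((Scheme.Modules.pullback c.inv).obj L) ≅ L :=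
  pullbackInvIso c.symm L

theorem injective_comp_iso {X X' Y : Scheme.{u}} (e : X ≅ X') (g : X' ⟶ Y)
    (h : Formal2.PicPullbackInjective (e.hom ≫ g)) : Formal2.PicPullbackInjective g := by
  rintro L hL ⟨i⟩
  obtain ⟨u⟩ := nonempty_pullback_unit e.hom
  exact h L hL ⟨((Scheme.Modules.pullbackComp e.hom g).app L).symm ≪≫ (Scheme.Modules.pullback e.hom).mapIso i ≪≫ u⟩

theorem surjective_comp_iso {X X' Y : Scheme.{u}} (e : X ≅ X') (g : X' ⟶ Y)
    (h : Formal2.PicPullbackSurjective (e.hom ≫ g)) : Formal2.PicPullbackSurjective g := by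
  intro L hL
  obtain ⟨K, hK, ⟨i⟩⟩ := h _ (PicLoc.isInvertible_pullback e.hom hL)
  exact ⟨K, hK, ⟨(pullbackInvIso e _).symm ≪≫
    (Scheme.Modules.pullback e.inv).mapIso ((Scheme.Modules.pullbackComp e.hom g).app K ≪≫ i) ≪≫
    pullbackInvIso e L⟩⟩

variable {A : Type u} [CommRing A] [IsNoetherianRing A] (𝔞 : Ideal A)

/-- Trivial Picard group through modules. -/
theorem picTrivial_of_modules
    (h : ∀ (M : Type u) [AddCommGroup M] [Module A M] [Module.Finite A M], InvAway 𝔞 M →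
      ∃ w : M →ₗ[A] A, OffIso 𝔞 w) :
    ParaF.PicTrivial (↑(LocCoh.puncturedOpen A 𝔞) : Scheme.{u}) := by
  intro L hL
  obtain ⟨M, hM, ⟨e⟩, hinv⟩ := exists_invAway_model (R := CommRingCat.of A) 𝔞 L hL
  obtain ⟨w, hw⟩ := h M hinv
  obtain ⟨i⟩ := nonempty_iso_of_offIso (R := CommRingCat.of A) 𝔞 (M := M) (N := ModuleCat.of A A) (w := w) hw
  exact ⟨e.symm ≪≫ i ≪≫ unitIso (R := CommRingCat.of A) 𝔞⟩

theorem exists_offIso_of_picTrivial (hA : ∀ i : ℕ, i < 2 → Subsingleton (LocCoh.H 𝔞 i A))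
    (h : ParaF.PicTrivial (↑(LocCoh.puncturedOpen A 𝔞) : Scheme.{u}))
    (M : Type u) [AddCommGroup M] [Module A M] [Module.Finite A M] (hM : InvAway 𝔞 M) :
    ∃ w : M →ₗ[A] A, OffIso 𝔞 w := by
  obtain ⟨e⟩ := h _ (isInvertible_T (R := CommRingCat.of A) 𝔞 (ModuleCat.of A M) hM)
  exact exists_offIso_of_iso (R := CommRingCat.of A) 𝔞 hA (M := ModuleCat.of A M) e

variable {B : Type u} [CommRing B] [IsNoetherianRing B] [Algebra A B]

/-- Trivial kernel of pullback through modules. -/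
theorem picPullbackInjective_of_modules (U : (Spec (CommRingCat.of A)).Opens)
    (hU : U = LocCoh.puncturedOpen A 𝔞)
    (hB : ∀ i : ℕ, i < 2 → Subsingleton (LocCoh.H (𝔞.map (algebraMap A B)) i B))
    (h : ∀ (M : Type u) [AddCommGroup M] [Module A M] [Module.Finite A M], InvAway 𝔞 M →
      (∃ w : B ⊗[A] M →ₗ[B] B, OffIso (𝔞.map (algebraMap A B)) w) → ∃ v : M →ₗ[A] A, OffIso 𝔞 v) :
    Formal2.PicPullbackInjective (Spec.map (CommRingCat.ofHom (algebraMap A B)) ∣_ U) := by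
  subst hU
  rintro L hL ⟨i⟩
  obtain ⟨M, hM, ⟨e⟩, hinv⟩ := exists_invAway_model (R := CommRingCat.of A) 𝔞 L hL
  obtain ⟨c, hc⟩ := exists_pullback_T 𝔞 (𝔞.map (algebraMap A B)) rfl
  obtain ⟨ec⟩ := hc M
  obtain ⟨uc⟩ := nonempty_pullback_unit c.inv
  let j : (T (R := CommRingCat.of B) (𝔞.map (algebraMap A B))).obj (ModuleCat.of B (B ⊗[A] M)) ≅
      Coh.structureModule (US (R := CommRingCat.of B) (𝔞.map (algebraMap A B))) :=
    (pullbackInvIso c _).symm ≪≫ (Scheme.Modules.pullback c.inv).mapIso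
      (ec ≪≫ (Scheme.Modules.pullback _).mapIso e ≪≫ i) ≪≫ uc
  obtain ⟨w, hw⟩ := exists_offIso_of_iso (R := CommRingCat.of B) _ hB j
  obtain ⟨v, hv⟩ := h M hinv ⟨w, hw⟩
  obtain ⟨k⟩ := nonempty_iso_of_offIso (R := CommRingCat.of A) 𝔞 (M := M) (N := ModuleCat.of A A) (w := v) hv
  exact ⟨e.symm ≪≫ k ≪≫ unitIso (R := CommRingCat.of A) 𝔞⟩

/-- Surjectivity of pullback through modules. -/
theorem picPullbackSurjective_of_modules (U : (Spec (CommRingCat.of A)).Opens)
    (hU : U = LocCoh.puncturedOpen A 𝔞)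
    (h : ∀ (M₀ : Type u) [AddCommGroup M₀] [Module B M₀] [Module.Finite B M₀],
      InvAway (𝔞.map (algebraMap A B)) M₀ →
      ∃ (M : Type u) (_ : AddCommGroup M) (_ : Module A M) (_ : Module.Finite A M), InvAway 𝔞 M ∧
        ∃ w : B ⊗[A] M →ₗ[B] M₀, OffIso (𝔞.map (algebraMap A B)) w) :
    Formal2.PicPullbackSurjective (Spec.map (CommRingCat.ofHom (algebraMap A B)) ∣_ U) := by
  subst hU
  intro L' hL'
  obtain ⟨c, hc⟩ := exists_pullback_T 𝔞 (𝔞.map (algebraMap A B)) rfl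
  obtain ⟨M₀, hM₀, ⟨e⟩, hinv₀⟩ := exists_invAway_model (R := CommRingCat.of B) _
    ((Scheme.Modules.pullback c.inv).obj L') (PicLoc.isInvertible_pullback c.inv hL')
  obtain ⟨M, _, _, hM, hinv, w, hw⟩ := h M₀ hinv₀
  obtain ⟨k⟩ := nonempty_iso_of_offIso (R := CommRingCat.of B) _ (M := ModuleCat.of B (B ⊗[A] M)) (N := M₀) (w := w) hw
  obtain ⟨ec⟩ := hc (ModuleCat.of A M)
  exact ⟨_, isInvertible_T (R := CommRingCat.of A) 𝔞 (ModuleCat.of A M) hinv,
    ⟨ec.symm ≪≫ (Scheme.Modules.pullback c.hom).mapIso (k ≪≫ e) ≪≫ pullbackHomIso c L'⟩⟩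

/-- The restriction of a quotient map to an open and the closed subscheme it cuts out. -/
theorem exists_iso_subscheme {X Y : Scheme.{u}} (g : X ⟶ Y) [IsClosedImmersion g] (U : Y.Opens) :
    ∃ e : (↑(g ⁻¹ᵁ U) : Scheme.{u}) ≅ (g.ker.comap U.ι).subscheme,
      e.hom ≫ (g.ker.comap U.ι).subschemeι = g ∣_ U := by
  have hk : (g ∣_ U).ker = g.ker.comap U.ι :=
    Groth.Agent.FlatMorThick.ker_eq_comap_of_isPullback (isPullback_morphismRestrict g U)
  rw [← hk]
  haveI : IsClosedImmersion (g ∣_ U) := inferInstance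
  exact ⟨asIso (g ∣_ U).toImage, (g ∣_ U).toImage_imageι⟩

end Groth.Agent.CAlgH.PicPunct
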