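import Groth.Agent.CAlgH.PicPunctInj
import Groth.Agent.CAlgH.PicPunctCriteria
import Groth.Agent.CAlgH3.Depth

/-!
# Restriction of Picard groups to a hypersurface: injectivity and parafactoriality
-/

set_option autoImplicit false
set_option backward.isDefEq.respectTransparency false

universe u

open CategoryTheory CategoryTheory.Limits AlgebraicGeometry IsLocalRing
open Groth.Agent.Formal2Lib
open scoped TensorProduct Pointwise

namespace Groth.Agent.CAlgH.PicPunct

open Groth.Agent.UPLib (GenAt)

/-- A generator at a prime gives one after base change. -/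
theorem genAt_tmul {A B : Type u} [CommRing A] [CommRing B] [Algebra A B] {M : Type u} [AddCommGroup M]
    [Module A M] (p : Ideal B) [p.IsPrime] {t : M} (ht : GenAt (p.comap (algebraMap A B)).primeCompl t) :
    GenAt p.primeCompl ((1 : B) ⊗ₜ[A] t) := by
  let q := p.comap (algebraMap A B)
  refine ⟨fun z => ?_, fun b hb => ?_⟩
  · induction z using TensorProduct.induction_on with
    | zero => exact ⟨1, one_mem _, 0, by simp⟩
    | tmul c y =>
      obtain ⟨s, hs, a, e⟩ := ht.surj y
      refine ⟨algebraMap A B s, hs, c * algebraMap A B a, ?_⟩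
      rw [algebraMap_smul, ← TensorProduct.tmul_smul, e, TensorProduct.tmul_smul,
        mul_comm, mul_smul, algebraMap_smul, TensorProduct.smul_tmul' c, smul_eq_mul, mul_one]
    | add y z hy hz =>
      obtain ⟨s, hs, a, e⟩ := hy
      obtain ⟨r, hr, c, e'⟩ := hz
      refine ⟨s * r, mul_mem hs hr, r * a + s * c, ?_⟩
      rw [smul_add, mul_comm s r, mul_smul, e, mul_comm r s, mul_smul, e', add_smul, mul_smul, mul_smul]
  · let Bp := Localization.AtPrime p
    let e := LinearEquiv.ofBijective _ ht.bijective
    let j : Localization q.primeCompl →ₐ[A] Bp := IsLocalization.liftAlgHom (M := q.primeCompl)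
      (f := Algebra.ofId A Bp) fun s => by
        show IsUnit (algebraMap A Bp s)
        rw [IsScalarTower.algebraMap_apply A B Bp]
        exact IsLocalization.map_units Bp (⟨algebraMap A B s, s.2⟩ : p.primeCompl)
    let co : M →ₗ[A] Bp :=
      j.toLinearMap ∘ₗ (e.symm.toLinearMap.restrictScalars A) ∘ₗ LocalizedModule.mkLinearMap q.primeCompl M
    have hco : co t = 1 := by
      show j (e.symm (LocalizedModule.mk t (1 : q.primeCompl))) = 1
      rw [show e.symm (LocalizedModule.mk t (1 : q.primeCompl)) = 1 from e.symm_apply_eq.2 (by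
        show LocalizedModule.mk t (1 : q.primeCompl) = (1 : Localization q.primeCompl) • LocalizedModule.mk t (1 : q.primeCompl)
        rw [one_smul]), map_one]
    let ext : B ⊗[A] M →ₗ[B] Bp := LinearMap.liftBaseChange B co
    have he : ext (b • ((1 : B) ⊗ₜ[A] t)) = algebraMap B Bp b := by
      rw [map_smul]
      show b • ((1 : B) • co t) = algebraMap B Bp b
      rw [one_smul, hco, Algebra.smul_def, mul_one]
    rw [hb, map_zero] at he
    obtain ⟨s, hs⟩ := (IsLocalization.map_eq_zero_iff p.primeCompl Bp b).1 he.symm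
    exact ⟨s, s.2, hs⟩

/-- Freeness of rank one away from a closed set is stable under base change. -/
theorem InvAway.baseChange {A B : Type u} [CommRing A] [CommRing B] [Algebra A B] {𝔞 : Ideal A}
    {M : Type u} [AddCommGroup M] [Module A M] (hM : InvAway 𝔞 M) :
    InvAway (𝔞.map (algebraMap A B)) (B ⊗[A] M) := fun p _ hp =>
  let ⟨_, ht⟩ := hM (p.comap (algebraMap A B)) fun h => hp (Ideal.map_le_iff_le_comap.2 h)
  ⟨_, genAt_tmul p ht⟩

variable {A : Type u} [CommRing A] [IsNoetherianRing A] [IsLocalRing A]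

theorem depth_quotient_span_add_one {t : A} (ht : t ∈ maximalIdeal A) (hreg : IsSMulRegular A t)
    [IsLocalRing (A ⧸ Ideal.span {t})] :
    _root_.LocCoh.depth (A ⧸ Ideal.span {t}) (A ⧸ Ideal.span {t}) + 1 = _root_.LocCoh.depth A A := by
  rw [CAlgH3.depth_quotient_ring]
  have he : (t • ⊤ : Submodule A A) = (Ideal.span {t} : Submodule A A) := by
    rw [← Submodule.ideal_span_singleton_smul, smul_eq_mul, Ideal.mul_top]
  refine Eq.trans ?_ (LocCoh.idealDepth_quotSMulTop_add_one (M := A) (I := maximalIdeal A) ht hreg)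
  exact congrArg (· + 1) (CAlgH3.idealDepth_congr _ (Submodule.quotEquivOfEq _ _ he.symm))

theorem subsingleton_H_of_depth {n : ℕ} (h : (n : ℕ∞) ≤ _root_.LocCoh.depth A A) :
    ∀ i < n, Subsingleton (_root_.LocCoh.H (maximalIdeal A) i A) :=
  (LocCoh.natCast_le_idealDepth_iff_H (I := maximalIdeal A) (M := A) (n := n)).1 h

variable {t : A} (ht : t ∈ maximalIdeal A) (hreg : IsSMulRegular A t) [IsLocalRing (A ⧸ Ideal.span {t})]
  (ha : ∀ p : PrimeSpectrum A, ringKrullDim (A ⧸ p.asIdeal) = 1 →
    (2 : ℕ∞) ≤ _root_.LocCoh.depth (Localization.AtPrime p.asIdeal) (Localization.AtPrime p.asIdeal))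
  (hd : (3 : ℕ∞) ≤ _root_.LocCoh.depth (A ⧸ Ideal.span {t}) (A ⧸ Ideal.span {t}))

include ht hreg ha hd

theorem exists_offIso_of_baseChange (M : Type u) [AddCommGroup M] [Module A M] [Module.Finite A M]
    (hM : InvAway (maximalIdeal A) M)
    (hw : ∃ w : (A ⧸ Ideal.span {t}) ⊗[A] M →ₗ[A ⧸ Ideal.span {t}] A ⧸ Ideal.span {t},
      OffIso ((maximalIdeal A).map (algebraMap A (A ⧸ Ideal.span {t}))) w) :
    ∃ v : M →ₗ[A] A, OffIso (maximalIdeal A) v := by
  obtain ⟨w, hw⟩ := hw
  have hm : (maximalIdeal A).map (algebraMap A (A ⧸ Ideal.span {t})) = maximalIdeal (A ⧸ Ideal.span {t}) :=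
    IsLocalRing.map_maximalIdeal_of_surjective _ Ideal.Quotient.mk_surjective
  rw [hm] at hw
  exact exists_offIso_of_reduction ht hreg hd (subsingleton_H_of_depth (n := 3) hd 0 (by omega)) ha hM w hw

/-- Trivial kernel of restriction to the hypersurface. -/
theorem picPullbackInjective_restrict :
    Formal2.PicPullbackInjective (Formal2.specQuotMap A t ∣_ FEt.puncturedSpec A) := by
  refine picPullbackInjective_of_modules (A := A) (B := A ⧸ Ideal.span {t}) (maximalIdeal A)
    (FEt.puncturedSpec A) (Punct.puncturedSpec_eq A) ?_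
    (fun M _ _ _ hM hw => exists_offIso_of_baseChange ht hreg ha hd M hM hw)
  rw [show (maximalIdeal A).map (algebraMap A (A ⧸ Ideal.span {t})) = maximalIdeal (A ⧸ Ideal.span {t}) from
    IsLocalRing.map_maximalIdeal_of_surjective _ Ideal.Quotient.mk_surjective]
  exact fun i hi => subsingleton_H_of_depth (n := 3) hd i (by omega)

/-- Trivial kernel for the closed subscheme of the punctured spectrum. -/
theorem picPullbackInjective_subscheme :
    Formal2.PicPullbackInjective ((Formal2.specQuotMap A t).ker.comap (FEt.puncturedSpec A).ι).subschemeι := by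
  haveI : IsClosedImmersion (Formal2.specQuotMap A t) :=
    IsClosedImmersion.spec_of_surjective _ Ideal.Quotient.mk_surjective
  obtain ⟨e, he⟩ := exists_iso_subscheme (Formal2.specQuotMap A t) (FEt.puncturedSpec A)
  exact injective_comp_iso e _ (he ▸ picPullbackInjective_restrict ht hreg ha hd)

/-- Parafactoriality lifts from the hypersurface. -/
theorem picTrivial_of_quotient
    (h : ParaF.PicTrivial (↑(FEt.puncturedSpec (A ⧸ Ideal.span {t})) : Scheme.{u})) :
    ParaF.PicTrivial (↑(FEt.puncturedSpec A) : Scheme.{u}) := by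
  rw [Punct.puncturedSpec_eq] at h
  rw [Punct.puncturedSpec_eq]
  refine picTrivial_of_modules (maximalIdeal A) fun M _ _ _ hM => exists_offIso_of_baseChange ht hreg ha hd M hM ?_
  rw [show (maximalIdeal A).map (algebraMap A (A ⧸ Ideal.span {t})) = maximalIdeal (A ⧸ Ideal.span {t}) from
    IsLocalRing.map_maximalIdeal_of_surjective _ Ideal.Quotient.mk_surjective]
  refine exists_offIso_of_picTrivial _ (fun i hi => subsingleton_H_of_depth (n := 3) hd i (by omega)) h _ ?_
  rw [← IsLocalRing.map_maximalIdeal_of_surjective (algebraMap A (A ⧸ Ideal.span {t})) Ideal.Quotient.mk_surjective]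
  exact hM.baseChange

theorem isParafactorial_of_quotient (h : ParaF.IsParafactorialLocalRing (A ⧸ Ideal.span {t})) :
    ParaF.IsParafactorialLocalRing A := by
  have h2 := picTrivial_of_quotient ht hreg ha hd
    ((ParaF29.isParafactorialLocalRing_iff _).1 h).2
  refine (ParaF29.isParafactorialLocalRing_iff A).2 ⟨ParaF29.bijective_res_of_depth A ?_, h2⟩
  rw [← depth_quotient_span_add_one ht hreg]
  exact le_trans (le_trans (by decide : (2 : ℕ∞) ≤ 3) hd) le_self_add

end Groth.Agent.CAlgH.PicPunct
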