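import Groth.Agent.CAlgH.ParaGrLift
import Groth.Agent.CAlgH.PicPunctHyp
import Mathlib.RingTheory.Localization.AtPrime.Basic
import Mathlib.RingTheory.Spectrum.Prime.Noetherian

/-!
# Modules free of rank one away from a closed set with parafactorial local rings along it
-/

set_option autoImplicit false
set_option backward.isDefEq.respectTransparency false

universe u

open IsLocalRing
open scoped TensorProduct

namespace Groth.Agent.CAlgH.ParaStalk

open Groth.Agent.UPLib (GenAt)
open Groth.Agent.CAlgH.PicPunct Groth.Agent.CAlgH.ParaGr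

variable {R : Type u} [CommRing R] [IsNoetherianRing R] {M : Type u} [AddCommGroup M] [Module R M] [Module.Finite R M]

/-- A functional which is nonzero at a local generator generates the dual locally. -/
theorem genAt_dual {p : Ideal R} [p.IsPrime] {t : M} (ht : GenAt p.primeCompl t) {g : M →ₗ[R] R} (hg : g t ∉ p) :
    GenAt p.primeCompl g := by
  classical
  obtain ⟨n, π, hπ⟩ := Module.Finite.exists_fin' R M
  choose s hs a ha using fun i => ht.surj (π (Pi.single i 1))
  let S := ∏ i, s i
  have hS : S ∈ p.primeCompl := prod_mem fun i _ => hs i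
  refine ⟨fun h => ⟨S * g t, mul_mem hS hg, S * h t, LinearMap.ext fun x => ?_⟩, fun r hr => ⟨g t, hg, ?_⟩⟩
  · obtain ⟨v, rfl⟩ := hπ x
    rw [← Finset.univ_sum_single v]
    simp only [map_sum, LinearMap.smul_apply, Finset.smul_sum]
    refine Finset.sum_congr rfl fun i _ => ?_
    rw [show (Pi.single i (v i) : Fin n → R) = v i • Pi.single i 1 by
      rw [← Pi.single_smul', smul_eq_mul, mul_one], map_smul, map_smul, map_smul]
    obtain ⟨c, hc⟩ := Finset.dvd_prod_of_mem s (Finset.mem_univ i)
    have h1 : s i * h (π (Pi.single i 1)) = a i * h t := by rw [← smul_eq_mul, ← map_smul, ha i, map_smul, smul_eq_mul]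
    have h2 : s i * g (π (Pi.single i 1)) = a i * g t := by rw [← smul_eq_mul, ← map_smul, ha i, map_smul, smul_eq_mul]
    simp only [smul_eq_mul, S, hc]
    linear_combination (v i * c * g t) * h1 - (v i * c * h t) * h2
  · rw [mul_comm, ← smul_eq_mul, ← LinearMap.smul_apply, hr, LinearMap.zero_apply]

theorem exists_genAt_dual {p : Ideal R} [p.IsPrime] {t : M} (ht : GenAt p.primeCompl t) :
    ∃ g : M →ₗ[R] R, GenAt p.primeCompl g :=
  let ⟨g, hg⟩ := exists_dual_notMem ht
  ⟨g, genAt_dual ht hg⟩

/-- Scalars killing a map which is bijective away from the closed point vanish. -/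
theorem eq_zero_of_mul_range {A : Type u} [CommRing A] [IsNoetherianRing A] [IsLocalRing A]
    (hd : (1 : ℕ∞) ≤ _root_.LocCoh.depth A A) {N : Type u} [AddCommGroup N] [Module A N] {w : N →ₗ[A] A}
    (hw : OffIso (maximalIdeal A) w) {a : A} (h : ∀ z, a * w z = 0) : a = 0 := by
  obtain ⟨m, hm⟩ := hw.coker 1
  refine eq_zero_of_pow_kill hd (m := m) fun b hb => ?_
  obtain ⟨z, hz⟩ := hm b hb
  rw [mul_comm, show b = w z by rw [hz, smul_eq_mul, mul_one], h z]

/-- The dual is free of rank one at a prime with parafactorial local ring if it is so at the smaller primes. -/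
theorem exists_genAt_step {p : Ideal R} [p.IsPrime]
    (hd : (2 : ℕ∞) ≤ _root_.LocCoh.depth (Localization.AtPrime p) (Localization.AtPrime p))
    (hpic : ∀ (N : Type u) [AddCommGroup N] [Module (Localization.AtPrime p) N] [Module.Finite (Localization.AtPrime p) N],
      InvAway (maximalIdeal (Localization.AtPrime p)) N →
      ∃ w : N →ₗ[Localization.AtPrime p] Localization.AtPrime p, OffIso (maximalIdeal (Localization.AtPrime p)) w)
    (hlt : ∀ (q : Ideal R) [q.IsPrime], q < p → ∃ v : M →ₗ[R] R, GenAt q.primeCompl v) :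
    ∃ v : M →ₗ[R] R, GenAt p.primeCompl v := by
  classical
  let A := Localization.AtPrime p
  haveI : IsNoetherianRing A := IsLocalization.isNoetherianRing p.primeCompl A inferInstance
  have hd1 : (1 : ℕ∞) ≤ _root_.LocCoh.depth A A := le_trans (by decide) hd
  let N := M →ₗ[R] R
  haveI : Module.Finite R N := by
    obtain ⟨r, ρ, hρ⟩ := Module.Finite.exists_fin' R M
    exact Module.Finite.of_injective (LinearMap.lcomp R R ρ) fun a b hab => LinearMap.ext fun x => by
      obtain ⟨y, rfl⟩ := hρ x
      exact LinearMap.congr_fun hab y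
  have hN : InvAway (maximalIdeal A) (A ⊗[R] N) := fun q _ hq => by
    have hle : q.comap (algebraMap R A) ≤ p :=
      (Ideal.comap_mono (IsLocalRing.le_maximalIdeal (Ideal.IsPrime.ne_top ‹_›))).trans
        (IsLocalization.AtPrime.under_maximalIdeal A p).le
    have hne : q.comap (algebraMap R A) ≠ p := fun e => hq (by
      rw [← Localization.AtPrime.map_eq_maximalIdeal, Ideal.map_le_iff_le_comap, e])
    obtain ⟨v, hv⟩ := hlt _ (lt_of_le_of_ne hle hne)
    exact ⟨_, genAt_tmul q hv⟩
  obtain ⟨w, hw⟩ := hpic (A ⊗[R] N) hN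
  -- evaluation at an element
  let ev : M →ₗ[R] (A ⊗[R] N →ₗ[A] A) :=
    (LinearMap.liftBaseChangeEquiv (R := R) (M := N) (N := A) A).toLinearMap.restrictScalars R ∘ₗ
      (LinearMap.compRight R (Algebra.linearMap R A) ∘ₗ LinearMap.applyₗ)
  have hev : ∀ (x : M) (g : N), ev x ((1 : A) ⊗ₜ g) = algebraMap R A (g x) := fun x g => by
    show (1 : A) • algebraMap R A (g x) = _
    rw [one_smul]
  choose c hc using fun x => exists_factor hd hw (ev x)
  have huniq : ∀ {a b : A}, (∀ z, w z * a = w z * b) → a = b := fun {a b} h => by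
    rw [← sub_eq_zero]
    exact eq_zero_of_mul_range hd1 hw fun z => by rw [sub_mul, mul_comm a, mul_comm b, h z, sub_self]
  let cl : M →ₗ[R] A :=
    { toFun := c
      map_add' := fun x y => huniq fun z => by
        rw [← hc, map_add, LinearMap.add_apply, hc, hc, mul_add]
      map_smul' := fun r x => huniq fun z => by
        rw [← hc, map_smul, LinearMap.smul_apply, hc, RingHom.id_apply, Algebra.smul_def, Algebra.smul_def]
        ring }
  haveI : Module.FinitePresentation R M := Module.finitePresentation_of_finite R M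
  obtain ⟨v, ⟨s, hs⟩, hv⟩ :=
    Module.FinitePresentation.exists_lift_of_isLocalizedModule p.primeCompl (Algebra.linearMap R A) cl
  have hv' : ∀ x, algebraMap R A (v x) = algebraMap R A s * c x := fun x => by
    have := LinearMap.congr_fun hv x
    simp only [LinearMap.comp_apply, Algebra.linearMap_apply, LinearMap.smul_apply, Submonoid.smul_def,
      Algebra.smul_def] at this
    exact this
  refine ⟨v, fun g => ?_, fun r hr => ?_⟩
  · obtain ⟨b, ⟨t, ht⟩, hbt⟩ := IsLocalization.exists_mk'_eq p.primeCompl (w ((1 : A) ⊗ₜ[R] g))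
    have key : ∀ x, algebraMap R A (t * s * g x) = algebraMap R A (b * v x) := fun x => by
      have h1 : w ((1 : A) ⊗ₜ[R] g) * algebraMap R A t = algebraMap R A b := by
        rw [← hbt]; exact IsLocalization.mk'_spec A b (⟨t, ht⟩ : p.primeCompl)
      rw [map_mul, map_mul, map_mul, hv', ← hev x g, hc]
      linear_combination algebraMap R A s * c x * h1
    obtain ⟨⟨u, hu⟩, he⟩ := Module.Finite.exists_smul_of_comp_eq_of_isLocalizedModule p.primeCompl
      (Algebra.linearMap R A) ((t * s) • g) (b • v) (LinearMap.ext key)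
    refine ⟨u * (t * s), mul_mem hu (mul_mem ht hs), u * b, ?_⟩
    rw [mul_smul, mul_smul u b]
    exact he
  · have h0 : algebraMap R A r = 0 := by
      have hsu : IsUnit (algebraMap R A s) := IsLocalization.map_units A (⟨s, hs⟩ : p.primeCompl)
      have hrc : ∀ x, algebraMap R A r * c x = 0 := fun x => by
        have h1 := LinearMap.congr_fun hr x
        rw [LinearMap.smul_apply, LinearMap.zero_apply, smul_eq_mul] at h1
        refine hsu.mul_right_eq_zero.1 ?_
        rw [mul_left_comm, ← hv', ← map_mul, h1, map_zero]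
      refine eq_zero_of_mul_range hd1 hw fun z => ?_
      induction z using TensorProduct.induction_on with
      | zero => rw [map_zero, mul_zero]
      | tmul a g =>
        have h1 : ∀ x, algebraMap R A (r * g x) = 0 := fun x => by
          rw [map_mul, ← hev, hc, mul_left_comm, hrc, mul_zero]
        obtain ⟨⟨u, hu⟩, he⟩ := Module.Finite.exists_smul_of_comp_eq_of_isLocalizedModule p.primeCompl
          (Algebra.linearMap R A) (r • g) 0 (LinearMap.ext fun x => (h1 x).trans (map_zero (algebraMap R A)).symm)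
        have hu' : IsUnit (algebraMap R A u) := IsLocalization.map_units A (⟨u, hu⟩ : p.primeCompl)
        have he' : u • (r • g) = 0 := he.trans (smul_zero _)
        refine hu'.mul_right_eq_zero.1 ?_
        rw [← mul_assoc, ← map_mul, ← Algebra.smul_def, ← LinearMap.map_smul_of_tower, TensorProduct.smul_tmul',
          TensorProduct.smul_tmul, mul_smul, he', TensorProduct.tmul_zero, map_zero]
      | add y z hy hz => rw [map_add, mul_add, hy, hz, add_zero]
    obtain ⟨⟨u, hu⟩, he⟩ := (IsLocalization.map_eq_zero_iff p.primeCompl A r).1 h0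
    exact ⟨u, hu, he⟩

/-- The dual is free of rank one everywhere. -/
theorem invAway_dual {𝔞 : Ideal R} (hM : InvAway 𝔞 M)
    (h : ∀ (p : Ideal R) [p.IsPrime], 𝔞 ≤ p →
      (2 : ℕ∞) ≤ _root_.LocCoh.depth (Localization.AtPrime p) (Localization.AtPrime p) ∧
      ∀ (N : Type u) [AddCommGroup N] [Module (Localization.AtPrime p) N] [Module.Finite (Localization.AtPrime p) N],
        InvAway (maximalIdeal (Localization.AtPrime p)) N →
        ∃ w : N →ₗ[Localization.AtPrime p] Localization.AtPrime p, OffIso (maximalIdeal (Localization.AtPrime p)) w)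
    (p : Ideal R) [p.IsPrime] : ∃ v : M →ₗ[R] R, GenAt p.primeCompl v := by
  suffices H : ∀ (n : ℕ) (p : Ideal R) [p.IsPrime], p.height ≤ n → ∃ v : M →ₗ[R] R, GenAt p.primeCompl v by
    obtain ⟨n, hn⟩ := ENat.ne_top_iff_exists.1 (Ideal.height_ne_top (Ideal.IsPrime.ne_top ‹_›) : p.height ≠ ⊤)
    exact H n p hn.symm.le
  intro n
  induction n with
  | zero =>
    intro p _ hp
    by_cases hap : 𝔞 ≤ p
    · refine exists_genAt_step (h p hap).1 (h p hap).2 fun q _ hqp => ?_
      have := (Ideal.height_add_one_le_of_lt_of_isPrime hqp).trans hp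
      exact absurd (le_trans le_add_self this) (by decide)
    · obtain ⟨t, ht⟩ := hM p hap
      exact exists_genAt_dual ht
  | succ n ih =>
    intro p _ hp
    by_cases hap : 𝔞 ≤ p
    · refine exists_genAt_step (h p hap).1 (h p hap).2 fun q _ hqp => ih q ?_
      have := (Ideal.height_add_one_le_of_lt_of_isPrime hqp).trans hp
      exact (ENat.add_le_add_iff_right ENat.one_ne_top).1 (by exact_mod_cast this)
    · obtain ⟨t, ht⟩ := hM p hap
      exact exists_genAt_dual ht

/-- The double dual extends a module free of rank one away from the closed set. -/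
theorem exists_extension {𝔞 : Ideal R} (hM : InvAway 𝔞 M)
    (h : ∀ (p : Ideal R) [p.IsPrime], 𝔞 ≤ p →
      (2 : ℕ∞) ≤ _root_.LocCoh.depth (Localization.AtPrime p) (Localization.AtPrime p) ∧
      ∀ (N : Type u) [AddCommGroup N] [Module (Localization.AtPrime p) N] [Module.Finite (Localization.AtPrime p) N],
        InvAway (maximalIdeal (Localization.AtPrime p)) N →
        ∃ w : N →ₗ[Localization.AtPrime p] Localization.AtPrime p, OffIso (maximalIdeal (Localization.AtPrime p)) w) :
    ∃ (P : Type u) (_ : AddCommGroup P) (_ : Module R P) (_ : Module.Finite R P),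
      InvAway (⊤ : Ideal R) P ∧ (∀ (p : Ideal R) [p.IsPrime], ∃ t : P, GenAt p.primeCompl t) ∧
      ∃ e : M →ₗ[R] P, OffIso 𝔞 e := by
  haveI hfin : ∀ (X : Type u) [AddCommGroup X] [Module R X] [Module.Finite R X], Module.Finite R (X →ₗ[R] R) := by
    intro X _ _ _
    obtain ⟨r, ρ, hρ⟩ := Module.Finite.exists_fin' R X
    exact Module.Finite.of_injective (LinearMap.lcomp R R ρ) fun a b hab => LinearMap.ext fun x => by
      obtain ⟨y, rfl⟩ := hρ x
      exact LinearMap.congr_fun hab y
  haveI := hfin M
  let N := M →ₗ[R] R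
  have hN : ∀ (p : Ideal R) [p.IsPrime], ∃ t : N →ₗ[R] R, GenAt p.primeCompl t := fun p _ => by
    obtain ⟨v, hv⟩ := invAway_dual hM h p
    exact exists_genAt_dual hv
  refine ⟨N →ₗ[R] R, inferInstance, inferInstance, hfin N, fun p _ _ => hN p, hN, LinearMap.applyₗ, ?_⟩
  have key : ∀ (p : Ideal R) [p.IsPrime], ¬ 𝔞 ≤ p → ∃ t : M, GenAt p.primeCompl t ∧
      GenAt p.primeCompl (LinearMap.applyₗ t : N →ₗ[R] R) := fun p _ hp => by
    obtain ⟨t, ht⟩ := hM p hp
    obtain ⟨g, hg⟩ := exists_dual_notMem ht
    exact ⟨t, ht, genAt_dual (genAt_dual ht hg) (show (LinearMap.applyₗ t : N →ₗ[R] R) g ∉ p from hg)⟩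
  refine OffIso.of_local (fun p _ hp y hy => ?_) fun p _ hp φ => ?_
  · obtain ⟨t, ht, ht'⟩ := key p hp
    obtain ⟨s, hs, a, e⟩ := ht.surj y
    obtain ⟨r, hr, e'⟩ := ht'.inj a (by rw [← map_smul, ← e, map_smul, hy, smul_zero])
    exact ⟨r * s, mul_mem hr hs, by rw [mul_smul, e, smul_smul, e', zero_smul]⟩
  · obtain ⟨t, ht, ht'⟩ := key p hp
    obtain ⟨s, hs, a, e⟩ := ht'.surj φ
    exact ⟨s, hs, a • t, by rw [map_smul]; exact e.symm⟩

end Groth.Agent.CAlgH.ParaStalk
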