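import Groth.Agent.Formal2Lib.SecUTorsion
import Groth.Agent.ParaF29.Pair
import Groth.Agent.LocCoh.Local
import Groth.Agent.CAlgH.DepthCriterion
import Groth.Agent.CAlgH3.Depth

/-!
# Hartogs extension forces depth two
-/

set_option autoImplicit false
set_option backward.isDefEq.respectTransparency false

universe u

open CategoryTheory CategoryTheory.Limits AlgebraicGeometry Opposite TopologicalSpace
open Groth.Agent.Coherent Groth.Agent.Formal2Lib Groth.Agent.Formal2Lib.SecU

namespace Groth.Agent.CAlgH.ParaStalk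

theorem idealDepth_of_hb {R : CommRingCat.{u}} [IsNoetherianRing R] (𝔟 : Ideal R)
    (h : ParaF29.HB (LocCoh.puncturedOpen R 𝔟)) : (2 : ℕ∞) ≤ _root_.LocCoh.idealDepth 𝔟 R := by
  let O : ModuleCat.{u} R := ModuleCat.of R R
  obtain ⟨e, he⟩ := SecU.exists_DT_equiv 𝔟 O
  have hinv : PicF.IsInvertible (tilde (R := R) O) := ParaF29.isInvertible_structureModule (X := Spec R)
  have hres : Function.Bijective (resM (tilde (R := R) O) (le_top : LocCoh.puncturedOpen R 𝔟 ≤ ⊤)) := by
    have key : ∀ {W : (Spec R).Opens} (_ : W = ⊤ ⊓ LocCoh.puncturedOpen R 𝔟) (hle : W ≤ ⊤),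
        Function.Bijective (resM (tilde (R := R) O) hle) := by
      intro W e hle; subst e; exact ParaF29.bijective_resM h hinv ⊤
    exact key (top_inf_eq _).symm le_top
  have htop : Function.Bijective ((tilde.toOpen (R := R) O ⊤).hom) :=
    ConcreteCategory.bijective_of_isIso (tilde.toOpen (R := R) O ⊤)
  have hunit : Function.Bijective (unit (LocCoh.puncturedOpen R 𝔟) O) := by
    have hfun : (secV (LocCoh.puncturedOpen R 𝔟) (tilde (R := R) O)) ∘ unit (LocCoh.puncturedOpen R 𝔟) O =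
        resM (tilde (R := R) O) (le_top : LocCoh.puncturedOpen R 𝔟 ≤ ⊤) ∘ (tilde.toOpen (R := R) O ⊤).hom := by
      funext x
      refine ((secV _ _).apply_symm_apply _).trans ?_
      exact (Misc15.Koszul.rho_res O le_top x).symm
    exact (Function.Bijective.of_comp_iff' (secV _ (tilde (R := R) O)).bijective _).1 (hfun ▸ hres.comp htop)
  have hDT : Function.Bijective (_root_.LocCoh.toDT 𝔟 R) :=
    (Function.Bijective.of_comp_iff' e.bijective _).1 (show Function.Bijective (e ∘ _) from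
      (funext he : e ∘ _root_.LocCoh.toDT 𝔟 R = unit _ O) ▸ hunit)
  refine (LocCoh.natCast_le_idealDepth_iff_H (I := 𝔟) (M := R) (n := 2)).2 fun i hi => ?_
  match i, hi with
  | 0, _ =>
    rw [LocCoh.subsingleton_H0_iff, ← LocCoh.ker_toDT, LinearMap.ker_eq_bot]
    exact hDT.1
  | 1, _ => exact LocCoh.subsingleton_H1_of_toDT_surjective hDT.2

theorem depth_atPrime_of_idealDepth {R : Type u} [CommRing R] [IsNoetherianRing R] {𝔟 : Ideal R}
    (h : (2 : ℕ∞) ≤ _root_.LocCoh.idealDepth 𝔟 R) (p : Ideal R) [p.IsPrime] (hp : 𝔟 ≤ p) :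
    (2 : ℕ∞) ≤ _root_.LocCoh.depth (Localization.AtPrime p) (Localization.AtPrime p) := by
  have hne : 𝔟 • (⊤ : Submodule R R) ≠ ⊤ := by
    rw [smul_eq_mul, Ideal.mul_top]
    exact ne_top_of_le_ne_top (Ideal.IsPrime.ne_top ‹_›) hp
  obtain ⟨rs, hlen, hmem, hreg⟩ := (LocCoh.natCast_le_idealDepth_iff_exists 𝔟 R hne 2).1 h
  obtain ⟨fs, hfs, hfm, hfr⟩ : ∃ fs : List R, fs.length = 2 ∧ (∀ f ∈ fs, f ∈ 𝔟) ∧ RingTheory.Sequence.IsWeaklyRegular R fs := by
    refine ⟨rs.take 2, List.length_take_of_le hlen, fun f hf => hmem f (List.mem_of_mem_take hf), ?_⟩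
    have h2 := hreg.toIsWeaklyRegular
    rw [← List.take_append_drop 2 rs, RingTheory.Sequence.isWeaklyRegular_append_iff] at h2
    exact h2.1
  have h3 := (DepthCriterion.depth_ge_iff R 𝔟 2).2 ⟨fs, hfs, hfm, hfr⟩ p hp
  exact h3.trans_eq (CAlgH3.depth_congr
    (IsLocalizedModule.iso p.primeCompl (Algebra.linearMap R (Localization.AtPrime p)) |>.extendScalarsOfIsLocalization p.primeCompl _))

end Groth.Agent.CAlgH.ParaStalk
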