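import Groth.Agent.CAlgH.PicPunctBiject
import Groth.Agent.FEtFF.PurityCI
import Groth.Agent.CAlgH.CILocalization
import Groth.Agent.S9549

/-!
# Picard groups of punctured spectra of complete intersections
-/

set_option autoImplicit false
set_option backward.isDefEq.respectTransparency false

universe u

open CategoryTheory CategoryTheory.Limits AlgebraicGeometry IsLocalRing Opposite TopologicalSpace
open Groth.Agent.Formal2Lib Groth.Agent.Formal2Lib.Punct
open Groth.Agent.FEtFF.PurityCI

namespace Groth.Agent.CAlgH.PicPunct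

theorem picTrivial_of_ringEquiv {A B : Type u} [CommRing A] [CommRing B] [IsLocalRing A] [IsLocalRing B]
    (e : A ≃+* B) (h : ParaF.PicTrivial (↑(FEt.puncturedSpec A) : Scheme.{u})) :
    ParaF.PicTrivial (↑(FEt.puncturedSpec B) : Scheme.{u}) := by
  haveI : IsLocalHom (e.toRingHom : A →+* B) := ⟨fun a ha => by simpa using ha.map e.symm.toRingHom⟩
  let g := Spec.map (CommRingCat.ofHom (e.toRingHom : A →+* B))
  haveI : IsIso g := inferInstanceAs (IsIso (Scheme.Spec.mapIso e.toCommRingCatIso.op).hom)
  have hU : g ⁻¹ᵁ FEt.puncturedSpec A = FEt.puncturedSpec B :=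
    Opens.ext (Set.ext fun p => not_congr (Groth.Agent.FEtFF.PurityTransfer.comap_eq_closedPoint_iff
      (e.toRingHom : A →+* B) (by
        refine le_trans ?_ Ideal.le_radical
        intro b hb
        rw [← e.apply_symm_apply b]
        refine Ideal.mem_map_of_mem _ ?_
        rw [IsLocalRing.mem_maximalIdeal, mem_nonunits_iff] at hb ⊢
        exact fun h => hb (by simpa using h.map e.toRingHom)) p))
  exact picTrivial_of_iso ((asIso (g ∣_ FEt.puncturedSpec A)).symm ≪≫ (Spec (CommRingCat.of B)).isoOfEq hU) h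

/-- Descent of trivial Picard groups along faithfully flat local maps. -/
theorem picTrivial_of_faithfullyFlat {A B : Type u} [CommRing A] [IsNoetherianRing A] [IsLocalRing A]
    [CommRing B] [IsNoetherianRing B] [IsLocalRing B] [Algebra A B] [Module.FaithfullyFlat A B]
    (hm : (maximalIdeal A).map (algebraMap A B) = maximalIdeal B)
    (hA : (2 : ℕ∞) ≤ _root_.LocCoh.depth A A)
    (h : ParaF.PicTrivial (↑(FEt.puncturedSpec B) : Scheme.{u})) :
    ParaF.PicTrivial (↑(FEt.puncturedSpec A) : Scheme.{u}) := by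
  intro L hL
  let g := Spec.map (CommRingCat.ofHom (algebraMap A B))
  have hU : FEt.puncturedSpec B = g ⁻¹ᵁ FEt.puncturedSpec A := by
    rw [Punct.puncturedSpec_eq, Punct.puncturedSpec_eq, ← hm]
    exact Opens.ext (Set.ext fun (q : PrimeSpectrum B) =>
      not_congr (Ideal.map_le_iff_le_comap (f := algebraMap A B)))
  have hd : ((2 : ℕ) : ℕ∞) ≤ _root_.LocCoh.idealDepth ((maximalIdeal A).map (algebraMap A B)) B :=
    (show ((2 : ℕ) : ℕ∞) ≤ _root_.LocCoh.idealDepth (maximalIdeal A) A from hA).trans
      ((((Groth.Agent.LocCoh.idealDepth_baseChange B (maximalIdeal A) A).2 ‹_›).symm).le.trans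
        (le_of_eq (CAlgH3.idealDepth_congr _ (TensorProduct.AlgebraTensorModule.rid A B B))))
  exact Punct.nonempty_iso_of_pullback (maximalIdeal A)
    ((LocCoh.natCast_le_idealDepth_iff_H (I := (maximalIdeal A).map (algebraMap A B)) (M := B) (n := 2)).1 hd)
    (FEt.puncturedSpec A) (Punct.puncturedSpec_eq A) L (Groth.Agent.PicLib.isCoh_of_isInvertible hL)
    (picTrivial_of_iso ((Spec (CommRingCat.of B)).isoOfEq hU) h _ (PicLoc.isInvertible_pullback _ hL))

theorem four_le_depth {S : Type u} [CommRing S] [IsRegularLocalRing S] (l : List S)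
    (hm : ∀ x ∈ l, x ∈ maximalIdeal S) (hl : RevRegular l) (hd : l.length + 4 ≤ (maximalIdeal S).spanFinrank)
    [IsLocalRing (S ⧸ Ideal.ofList l)] :
    (4 : ℕ∞) ≤ _root_.LocCoh.depth (S ⧸ Ideal.ofList l) (S ⧸ Ideal.ofList l) := by
  rw [CAlgH3.depth_quotient_ring]
  have h := depth_quotient l hm hl
  rw [CAlgH3.depth_eq_spanFinrank] at h
  generalize _root_.LocCoh.depth S (S ⧸ Ideal.ofList l) = d at h ⊢
  cases d with
  | top => exact le_top
  | coe d =>
    have : d + l.length = (maximalIdeal S).spanFinrank := by exact_mod_cast h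
    exact_mod_cast (by omega : 4 ≤ d)

theorem eq_maximalIdeal_of_dim_one {A : Type u} [CommRing A] [IsLocalRing A] {p q : Ideal A} [p.IsPrime] [q.IsPrime]
    (hp : ringKrullDim (A ⧸ p) = 1) (hpq : p < q) : q = maximalIdeal A := by
  by_contra hne
  have h2 : q < maximalIdeal A := lt_of_le_of_ne (le_maximalIdeal (Ideal.IsPrime.ne_top ‹_›)) hne
  rw [ringKrullDim_quotient] at hp
  let a : PrimeSpectrum.zeroLocus (R := A) (p : Set A) := ⟨⟨p, inferInstance⟩, show (p : Set A) ⊆ p from subset_rfl⟩
  let b : PrimeSpectrum.zeroLocus (R := A) (p : Set A) := ⟨⟨q, inferInstance⟩, show (p : Set A) ⊆ q from hpq.le⟩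
  let c : PrimeSpectrum.zeroLocus (R := A) (p : Set A) :=
    ⟨⟨maximalIdeal A, inferInstance⟩, show (p : Set A) ⊆ maximalIdeal A from hpq.le.trans h2.le⟩
  have := Order.LTSeries.length_le_krullDim
    (⟨2, ![a, b, c], fun i => by
      fin_cases i
      · exact (show a < b from hpq)
      · exact (show b < c from h2)⟩ : LTSeries (PrimeSpectrum.zeroLocus (R := A) (p : Set A)))
  rw [hp] at this
  exact absurd (show (2 : WithBot ℕ∞) ≤ 1 from this) (by decide)

/-- Quotients of regular local rings by regular sequences of dimension at least four. -/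
theorem picTrivial_quotient_regular : ∀ (r : ℕ) (S : Type u) [CommRing S] [IsRegularLocalRing S] (l : List S),
    l.length = r → (∀ x ∈ l, x ∈ maximalIdeal S) → RevRegular l → r + 4 ≤ (maximalIdeal S).spanFinrank →
    ∀ [IsLocalRing (S ⧸ Ideal.ofList l)],
      ParaF.PicTrivial (↑(FEt.puncturedSpec (S ⧸ Ideal.ofList l)) : Scheme.{u}) := by
  intro r
  induction r with
  | zero =>
    intro S _ _ l hl _ _ _ _
    obtain rfl := List.length_eq_zero_iff.1 hl
    exact picTrivial_of_ringEquiv
      ((RingEquiv.quotientBot S).symm.trans (Ideal.quotEquivOfEq Ideal.ofList_nil.symm)) (S9549.result S)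
  | succ r ih =>
    intro S _ _ l₀ hl₀ hm₀ hreg₀ hd _
    obtain ⟨f, l, rfl⟩ : ∃ f l, l₀ = f :: l := by
      cases l₀ with
      | nil => simp at hl₀
      | cons f l => exact ⟨f, l, rfl⟩
    rw [List.length_cons] at hl₀
    let T := AdicCompletion (maximalIdeal S) S
    haveI : IsRegularLocalRing T := (S0548.result S).1 inferInstance
    haveI : Module.Flat S T := AdicCompletion.flat_of_isNoetherian _
    haveI : Module.FaithfullyFlat S T := Module.FaithfullyFlat.of_flat_of_isLocalHom
    have hmT : maximalIdeal T = (maximalIdeal S).map (algebraMap S T) := AdicCompletion.maximalIdeal_eq_map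
    have hdT : r + 1 + 4 ≤ (maximalIdeal T).spanFinrank := by
      refine hd.trans ?_
      have h1 : _root_.LocCoh.depth S S ≤ _root_.LocCoh.depth T T :=
        le_trans le_self_add CAlgH3.depth_add_depth_fibre_le_self
      rw [CAlgH3.depth_eq_spanFinrank, CAlgH3.depth_eq_spanFinrank] at h1
      exact_mod_cast h1
    let f' := algebraMap S T f
    let l' := l.map (algebraMap S T)
    have hm : ∀ x ∈ f' :: l', x ∈ maximalIdeal T := by
      intro x hx
      rw [show f' :: l' = (f :: l).map (algebraMap S T) from rfl, List.mem_map] at hx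
      obtain ⟨y, hy, rfl⟩ := hx
      rw [hmT]
      exact Ideal.mem_map_of_mem _ (hm₀ y hy)
    have hreg : RevRegular (f' :: l') := revRegular_map (T := T) (f :: l) hreg₀
    have hne : ∀ m : List T, (∀ x ∈ m, x ∈ maximalIdeal T) → IsLocalRing (T ⧸ Ideal.ofList m) := fun m hm => by
      haveI : Nontrivial (T ⧸ Ideal.ofList m) := Ideal.Quotient.nontrivial_iff.2 fun h =>
        (maximalIdeal.isMaximal T).ne_top (top_le_iff.1 (h ▸ Ideal.span_le.2 hm))
      exact .of_surjective' _ Ideal.Quotient.mk_surjective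
    haveI := hne l' fun x hx => hm x (List.mem_cons_of_mem _ hx)
    haveI := hne (f' :: l') hm
    let I := Ideal.ofList (f :: l)
    have hI : I.map (algebraMap S T) = Ideal.ofList (f' :: l') := Ideal.map_ofList _ _
    haveI : IsLocalRing (T ⧸ I.map (algebraMap S T)) := hI ▸ hne (f' :: l') hm
    let A := T ⧸ Ideal.ofList l'
    let g : A := Ideal.Quotient.mk _ f'
    haveI : IsLocalHom (Ideal.Quotient.mk (Ideal.ofList l')) := IsLocalHom.of_surjective _ Ideal.Quotient.mk_surjective
    have hgm : g ∈ maximalIdeal A := fun h => hm f' List.mem_cons_self (isUnit_of_map_unit (Ideal.Quotient.mk _) f' h)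
    have hgreg : IsSMulRegular A g := by
      refine isSMulRegular_iff_right_eq_zero_of_smul.2 fun x hx => ?_
      obtain ⟨a, rfl⟩ := Ideal.Quotient.mk_surjective x
      rw [smul_eq_mul, ← map_mul, Ideal.Quotient.eq_zero_iff_mem] at hx
      exact Ideal.Quotient.eq_zero_iff_mem.2 (hreg.2 a hx)
    haveI : IsAdicComplete (maximalIdeal A) A := by
      haveI : IsAdicComplete (maximalIdeal T) A := AdicRing.isAdicComplete_of_finite (maximalIdeal T) A
      have hmA : (maximalIdeal T).map (algebraMap T A) = maximalIdeal A :=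
        IsLocalRing.map_maximalIdeal_of_surjective _ Ideal.Quotient.mk_surjective
      rw [← hmA]
      exact (IsAdicComplete.map_algebraMap_iff (maximalIdeal T) A).2 ‹_›
    haveI : IsAdicComplete (Ideal.span {g}) A := CAlgMisc1.isAdicComplete_of_le _ (maximalIdeal A)
      ((Ideal.span_singleton_le_iff_mem _).2 hgm) (IsNoetherian.noetherian _) A
    let e : T ⧸ Ideal.ofList (f' :: l') ≃+* A ⧸ Ideal.span {g} :=
      (Ideal.quotEquivOfEq (by rw [Ideal.ofList_cons, sup_comm])).trans
        ((DoubleQuot.quotQuotEquivQuotSup (Ideal.ofList l') (Ideal.span {f'})).symm.trans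
          (Ideal.quotEquivOfEq (by rw [Ideal.map_span, Set.image_singleton])))
    haveI : Nontrivial (A ⧸ Ideal.span {g}) := e.injective.nontrivial
    haveI : IsLocalRing (A ⧸ Ideal.span {g}) := .of_surjective' _ Ideal.Quotient.mk_surjective
    have hd4 : (4 : ℕ∞) ≤ _root_.LocCoh.depth (A ⧸ Ideal.span {g}) (A ⧸ Ideal.span {g}) := by
      rw [CAlgH3.depth_ringEquiv e.symm]
      exact four_le_depth (f' :: l') hm hreg (by rw [List.length_cons, List.length_map]; omega)
    have hB : ParaF.PicTrivial (↑(FEt.puncturedSpec (T ⧸ I.map (algebraMap S T))) : Scheme.{u}) := by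
      refine picTrivial_of_ringEquiv (e.symm.trans (Ideal.quotEquivOfEq hI.symm))
        (picTrivial_quotient hgm hgreg hd4 (fun ⟨p, _⟩ hgp hp1 => ?_)
          (ih T l' (by rw [List.length_map]; omega) (fun x hx => hm x (List.mem_cons_of_mem _ hx)) hreg.1 (by omega)))
      let P := p.comap (Ideal.Quotient.mk (Ideal.ofList l'))
      let SP := Localization.AtPrime P
      have hlP : Ideal.ofList l' ≤ P := fun x hx => by
        rw [Ideal.mem_comap, Ideal.Quotient.eq_zero_iff_mem.2 hx]; exact p.zero_mem
      haveI : IsRegularLocalRing SP := CAlgH3.isRegularLocalRing_localization P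
      have hd' : (maximalIdeal T).spanFinrank ≤ (maximalIdeal SP).spanFinrank + 1 :=
        spanFinrank_localization f' P (hm f' List.mem_cons_self) fun q hq hPq hfq => by
          haveI : (q.map (Ideal.Quotient.mk (Ideal.ofList l'))).IsPrime :=
            Ideal.map_isPrime_of_surjective Ideal.Quotient.mk_surjective (by rw [Ideal.mk_ker]; exact hlP.trans hPq)
          have hq' : q.map (Ideal.Quotient.mk (Ideal.ofList l')) = maximalIdeal A := by
            refine eq_maximalIdeal_of_dim_one hp1 (lt_of_le_of_ne (fun x hx => ?_) fun he =>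
              hgp (he ▸ Ideal.mem_map_of_mem _ hfq))
            obtain ⟨a, rfl⟩ := Ideal.Quotient.mk_surjective x
            exact Ideal.mem_map_of_mem _ (hPq hx)
          refine le_antisymm (le_maximalIdeal hq.ne_top) fun x hx => ?_
          have hx' : Ideal.Quotient.mk (Ideal.ofList l') x ∈ q.map (Ideal.Quotient.mk _) := by
            rw [hq']; exact fun h => hx (isUnit_of_map_unit (Ideal.Quotient.mk _) x h)
          exact (Ideal.mem_quotient_iff_mem (hlP.trans hPq)).1 hx'
      obtain ⟨eP, -⟩ := CAlgH3.exists_quotientLocalEquiv (Ideal.ofList l') p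
      have hmap : (Ideal.ofList l').map (algebraMap T SP) = Ideal.ofList (l'.map (algebraMap T SP)) := Ideal.map_ofList _ _
      let eP' := (Ideal.quotEquivOfEq hmap.symm).trans eP
      have hmem : ∀ x ∈ l'.map (algebraMap T SP), x ∈ maximalIdeal SP := by
        intro x hx
        obtain ⟨y, hy, rfl⟩ := List.mem_map.1 hx
        exact (IsLocalization.AtPrime.to_map_mem_maximal_iff SP P _).2 (hlP (Ideal.subset_span hy))
      haveI : Nontrivial (SP ⧸ Ideal.ofList (l'.map (algebraMap T SP))) := eP'.symm.injective.nontrivial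
      haveI : IsLocalRing (SP ⧸ Ideal.ofList (l'.map (algebraMap T SP))) := .of_surjective' _ Ideal.Quotient.mk_surjective
      exact picTrivial_of_ringEquiv eP' (ih SP (l'.map (algebraMap T SP))
        (by rw [List.length_map, List.length_map]; omega) hmem (revRegular_map (T := SP) l' hreg.1) (by omega))
    haveI : Module.Flat (S ⧸ I) (T ⧸ I.map (algebraMap S T)) := CommAlg6.flat_quotient_map I
    haveI : IsLocalHom (algebraMap (S ⧸ I) (T ⧸ I.map (algebraMap S T))) := ⟨fun x hx => by
      obtain ⟨a, rfl⟩ := Ideal.Quotient.mk_surjective x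
      haveI : IsLocalHom (Ideal.Quotient.mk (I.map (algebraMap S T))) := IsLocalHom.of_surjective _ Ideal.Quotient.mk_surjective
      exact (isUnit_of_map_unit (algebraMap S T) a (isUnit_of_map_unit (Ideal.Quotient.mk _) _ hx)).map _⟩
    haveI : Module.FaithfullyFlat (S ⧸ I) (T ⧸ I.map (algebraMap S T)) := Module.FaithfullyFlat.of_flat_of_isLocalHom
    refine picTrivial_of_faithfullyFlat (B := T ⧸ I.map (algebraMap S T)) ?_
      (le_trans (by decide : (2 : ℕ∞) ≤ 4) (four_le_depth (f :: l) hm₀ hreg₀ (by rw [List.length_cons]; omega))) hB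
    refine le_antisymm (IsLocalRing.map_maximalIdeal_le _) ?_
    intro x hx
    obtain ⟨y, rfl⟩ := Ideal.Quotient.mk_surjective x
    have hy : y ∈ (maximalIdeal S).map (algebraMap S T) := by
      rw [← hmT]; exact fun h => hx (h.map _)
    haveI : IsLocalHom (Ideal.Quotient.mk I) := IsLocalHom.of_surjective _ Ideal.Quotient.mk_surjective
    have hle : ((maximalIdeal S).map (algebraMap S T)).map (Ideal.Quotient.mk (I.map (algebraMap S T))) ≤
        (maximalIdeal (S ⧸ I)).map (algebraMap (S ⧸ I) (T ⧸ I.map (algebraMap S T))) := by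
      rw [Ideal.map_map, ← IsLocalRing.map_maximalIdeal_of_surjective (Ideal.Quotient.mk I) Ideal.Quotient.mk_surjective,
        Ideal.map_map]
      exact le_of_eq rfl
    exact hle (Ideal.mem_map_of_mem _ hy)

theorem picTrivial_of_isRegular {B : Type u} [CommRing B] [IsRegularLocalRing B] (rs : List B)
    (hm : ∀ r ∈ rs, r ∈ maximalIdeal B) (hreg : RingTheory.Sequence.IsRegular B rs)
    {C : Type u} [CommRing C] [IsLocalRing C] (e : C ≃+* B ⧸ Ideal.span {r | r ∈ rs})
    (hd : (4 : WithBot ℕ∞) ≤ ringKrullDim C) :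
    ParaF.PicTrivial (↑(FEt.puncturedSpec C) : Scheme.{u}) ∧ (4 : ℕ∞) ≤ _root_.LocCoh.depth C C := by
  have hset : Ideal.ofList rs.reverse = Ideal.span {r | r ∈ rs} := by rw [ofList_reverse]
  let e' : B ⧸ Ideal.ofList rs.reverse ≃+* C := (Ideal.quotEquivOfEq hset).trans e.symm
  haveI : Nontrivial (B ⧸ Ideal.ofList rs.reverse) := e'.symm.injective.nontrivial
  haveI : IsLocalRing (B ⧸ Ideal.ofList rs.reverse) := .of_surjective' _ Ideal.Quotient.mk_surjective
  have hrev := revRegular_of_isWeaklyRegular rs hreg.toIsWeaklyRegular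
  have hmem : ∀ x ∈ rs.reverse, x ∈ maximalIdeal B := fun x hx => hm x (List.mem_reverse.1 hx)
  haveI := CAlgH3.isCohenMacaulayLocalRing_of_regular (R := B)
  have hdim : (4 : WithBot ℕ∞) + rs.length ≤ ((maximalIdeal B).spanFinrank : WithBot ℕ∞) := by
    rw [IsRegularLocalRing.spanFinrank_maximalIdeal]
    calc (4 : WithBot ℕ∞) + rs.length ≤ ringKrullDim C + rs.length := add_le_add hd le_rfl
      _ = ringKrullDim (B ⧸ Ideal.ofList rs) + rs.length := by
          rw [ringKrullDim_eq_of_ringEquiv (e.trans (Ideal.quotEquivOfEq rfl))]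
      _ = ringKrullDim B := ringKrullDim_add_length_eq_ringKrullDim_of_isRegular rs hreg
  have hd4 : rs.reverse.length + 4 ≤ (maximalIdeal B).spanFinrank := by
    rw [List.length_reverse]
    have h1 : ((4 + rs.length : ℕ) : WithBot ℕ∞) ≤ ((maximalIdeal B).spanFinrank : WithBot ℕ∞) := by exact_mod_cast hdim
    have : 4 + rs.length ≤ (maximalIdeal B).spanFinrank := by exact_mod_cast h1
    omega
  exact ⟨picTrivial_of_ringEquiv e' (picTrivial_quotient_regular rs.reverse.length B rs.reverse rfl hmem hrev hd4),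
    (CAlgH3.depth_ringEquiv e') ▸ four_le_depth rs.reverse hmem hrev hd4⟩

theorem picTrivial_of_completeIntersection (A : Type u) [CommRing A] [IsNoetherianRing A] [IsLocalRing A]
    (hA : Pi1.IsCompleteIntersection A) (hd : (4 : WithBot ℕ∞) ≤ ringKrullDim A) :
    ParaF.PicTrivial (↑(FEt.puncturedSpec A) : Scheme.{u}) := by
  obtain ⟨B, _, _, rs, hm, hreg, ⟨e⟩⟩ := hA
  let C := AdicCompletion (maximalIdeal A) A
  haveI : IsNoetherianRing C := Matlis6.isNoetherianRing_adicCompletion _
  haveI : Module.Flat A C := AdicCompletion.flat_of_isNoetherian _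
  haveI : Module.FaithfullyFlat A C := Module.FaithfullyFlat.of_flat_of_isLocalHom
  obtain ⟨hC, hdC⟩ := picTrivial_of_isRegular rs hm hreg e (by rw [CommAlg6.ringKrullDim_completion]; exact hd)
  refine picTrivial_of_faithfullyFlat (B := C) AdicCompletion.maximalIdeal_eq_map.symm ?_ hC
  rw [← depth_eq_of_map_eq A C AdicCompletion.maximalIdeal_eq_map.symm]
  exact le_trans (by decide) hdC

theorem isParafactorial_of_absCompleteIntersection (A : Type u) [CommRing A] [IsNoetherianRing A] [IsLocalRing A]
    (hA : SGA2.IsAbsCompleteIntersection A) (hd : (4 : WithBot ℕ∞) ≤ ringKrullDim A) :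
    ParaF.IsParafactorialLocalRing A := by
  obtain ⟨B, _, _, rs, hm, hreg, ⟨e⟩⟩ := hA
  obtain ⟨h1, h2⟩ := picTrivial_of_isRegular rs hm hreg e hd
  exact (ParaF29.isParafactorialLocalRing_iff A).2
    ⟨ParaF29.bijective_res_of_depth A (le_trans (by decide) h2), h1⟩

end Groth.Agent.CAlgH.PicPunct
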