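import Groth.Agent.CAlgH.PicPunctSurj

/-!
# Invertible modules on a punctured hypersurface extend to a neighbourhood
-/

set_option autoImplicit false
set_option backward.isDefEq.respectTransparency false

universe u

open CategoryTheory CategoryTheory.Limits AlgebraicGeometry IsLocalRing Opposite TopologicalSpace
open Groth.Agent.Formal2Lib Groth.Agent.Formal2Lib.Punct
open scoped TensorProduct

namespace Groth.Agent.CAlgH.PicPunct

open Groth.Agent.UPLib (GenAt)

/-- The pullback of `T M` along a restriction of the closed subscheme is `T` of the base change. -/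
theorem exists_pullback_T_resLE {A B : Type u} [CommRing A] [CommRing B] [Algebra A B] (𝔞 : Ideal A)
    (𝔟 : Ideal B) (V : (Spec (CommRingCat.of B)).Opens) (hV : V = LocCoh.puncturedOpen B 𝔟)
    (h : V ≤ Spec.map (CommRingCat.ofHom (algebraMap A B)) ⁻¹ᵁ LocCoh.puncturedOpen A 𝔞) :
    ∀ M : ModuleCat.{u} A, Nonempty ((Scheme.Modules.pullback ((Spec (CommRingCat.of B)).isoOfEq hV).hom).obj
          ((T (R := CommRingCat.of B) 𝔟).obj (ModuleCat.of B (B ⊗[A] M))) ≅
          (Scheme.Modules.pullback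
              ((Spec.map (CommRingCat.ofHom (algebraMap A B))).resLE (LocCoh.puncturedOpen A 𝔞) V h)).obj
            ((T (R := CommRingCat.of A) 𝔞).obj M)) := by
  let g := Spec.map (CommRingCat.ofHom (algebraMap A B))
  let U0 := LocCoh.puncturedOpen A 𝔞
  intro M
  obtain ⟨a⟩ := Groth.Agent.S2265.result A B M
  let X : (Spec (CommRingCat.of A)).Modules := tilde (R := CommRingCat.of A) M
  let i1 : (Scheme.Modules.pullback V.ι).obj ((Scheme.Modules.pullback g).obj X) ≅
      (Scheme.Modules.pullback (g.resLE U0 V h)).obj ((Scheme.Modules.pullback U0.ι).obj X) :=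
    (Scheme.Modules.pullbackComp V.ι g).app X ≪≫
      (Scheme.Modules.pullbackCongr (g.resLE_comp_ι h).symm).app X ≪≫
      ((Scheme.Modules.pullbackComp (g.resLE U0 V h) U0.ι).app X).symm
  let i2 : (Scheme.Modules.pullback V.ι).obj
        (tilde (R := CommRingCat.of B) (ModuleCat.of B (B ⊗[A] M))) ≅
      (Scheme.Modules.pullback (g.resLE U0 V h)).obj ((T (R := CommRingCat.of A) 𝔞).obj M) :=
    (Scheme.Modules.pullback V.ι).mapIso a.symm ≪≫ i1 ≪≫
      (Scheme.Modules.pullback (g.resLE U0 V h)).mapIso ((Scheme.Modules.restrictFunctorIsoPullback U0.ι).app X).symm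
  have hc : ((Spec (CommRingCat.of B)).isoOfEq hV).hom ≫ jU (R := CommRingCat.of B) 𝔟 = V.ι := Scheme.isoOfEq_hom_ι _ _
  exact ⟨(Scheme.Modules.pullback _).mapIso ((Scheme.Modules.restrictFunctorIsoPullback
      (jU (R := CommRingCat.of B) 𝔟)).app _) ≪≫
    (Scheme.Modules.pullbackComp _ (jU (R := CommRingCat.of B) 𝔟)).app _ ≪≫
    (Scheme.Modules.pullbackCongr hc).app _ ≪≫ i2⟩

variable {A : Type u} [CommRing A] [IsNoetherianRing A] [IsLocalRing A] {f : A}
  (hf : f ∈ maximalIdeal A) (hnzd : f ∈ nonZeroDivisors A) [IsAdicComplete (Ideal.span {f}) A]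
  (h₁ : Module.Finite A (_root_.LocCoh.H (maximalIdeal A) 1 (A ⧸ Ideal.span {f})))
  (h₂ : Module.Finite A (_root_.LocCoh.H (maximalIdeal A) 2 (A ⧸ Ideal.span {f})))
  (h₃ : Subsingleton (_root_.LocCoh.H (maximalIdeal A) 3 (A ⧸ Ideal.span {f})))

include hf hnzd h₁ h₂ h₃

/-- Invertible modules on the punctured hypersurface extend to an open neighbourhood. -/
theorem exists_extension_nbhd
    (L₀ : (↑(Formal2.specQuotMap A f ⁻¹ᵁ FEt.puncturedSpec A) : Scheme.{u}).Modules)
    (hL₀ : PicF.IsInvertible L₀) :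
    ∃ (U' : (Spec (CommRingCat.of A)).Opens) (_ : U' ≤ FEt.puncturedSpec A)
      (h : Formal2.specQuotMap A f ⁻¹ᵁ FEt.puncturedSpec A ≤ Formal2.specQuotMap A f ⁻¹ᵁ U')
      (L : (↑U' : Scheme.{u}).Modules), PicF.IsInvertible L ∧
        Nonempty ((Scheme.Modules.pullback ((Formal2.specQuotMap A f).resLE U' _ h)).obj L ≅ L₀) := by
  let B := A ⧸ Ideal.span {f}
  let 𝔟 := (maximalIdeal A).map (algebraMap A B)
  have hV : Formal2.specQuotMap A f ⁻¹ᵁ FEt.puncturedSpec A = LocCoh.puncturedOpen B 𝔟 := by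
    rw [Punct.puncturedSpec_eq]
    exact Opens.ext (Set.ext fun (q : PrimeSpectrum B) =>
      not_congr (Ideal.map_le_iff_le_comap (f := algebraMap A B)).symm)
  let c₀ := (Spec (CommRingCat.of B)).isoOfEq hV
  obtain ⟨N₀, hN₀, ⟨e⟩, hinv₀⟩ := exists_invAway_model (R := CommRingCat.of B) 𝔟
    ((Scheme.Modules.pullback c₀.inv).obj L₀) (PicLoc.isInvertible_pullback c₀.inv hL₀)
  letI : Module A N₀ := Module.compHom N₀ (algebraMap A B)
  haveI : IsScalarTower A B N₀ := .of_algebraMap_smul fun _ _ => rfl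
  obtain ⟨H⟩ := exists_hLift (M₀ := N₀) hf hnzd h₁ h₂ h₃ hinv₀
  let 𝔞 : Ideal A := Ideal.span {a | a ∈ maximalIdeal A ∧ ∀ (p : Ideal A) [p.IsPrime], a ∉ p → H.Good p}
  have hinv : InvAway 𝔞 H.M := fun p _ hp => by
    by_contra hg
    exact hp (Ideal.span_le.2 fun a ha => by_contra fun hap => hg (ha.2 p hap))
  have h : Formal2.specQuotMap A f ⁻¹ᵁ FEt.puncturedSpec A ≤
      Formal2.specQuotMap A f ⁻¹ᵁ LocCoh.puncturedOpen A 𝔞 := by
    rw [Punct.puncturedSpec_eq]
    intro q hq hle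
    let p : Ideal A := (show PrimeSpectrum B from q).asIdeal.comap (algebraMap A B)
    haveI : p.IsPrime := Ideal.IsPrime.comap _
    have hfp : f ∈ p := by
      rw [Ideal.mem_comap, show algebraMap A B f = 0 from
        Ideal.Quotient.eq_zero_iff_mem.2 (Ideal.mem_span_singleton_self f)]
      exact zero_mem _
    have hp : ¬ maximalIdeal A ≤ p := hq
    obtain ⟨τ, -, hτ, -⟩ := H.gen p hfp fun e => hp e.ge
    obtain ⟨g, hg, hgen⟩ := exists_powers_genAt hτ
    obtain ⟨a₀, ha₀, ha₀p⟩ := Set.not_subset.1 hp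
    have hmem : g * a₀ ∈ 𝔞 := Ideal.subset_span ⟨Ideal.mul_mem_left _ _ ha₀, fun r _ hr =>
      ⟨_, hgen.mono (Submonoid.powers_le.2 fun hgr => hr (r.mul_mem_right _ hgr))⟩⟩
    exact ((Ideal.IsPrime.mem_or_mem inferInstance (hle hmem)).elim hg ha₀p)
  have hU : LocCoh.puncturedOpen A 𝔞 ≤ FEt.puncturedSpec A := by
    rw [Punct.puncturedSpec_eq]
    exact fun q hq hle => hq fun x hx => hle ((Ideal.span_le.2 fun a ha => ha.1) hx)
  have hc := exists_pullback_T_resLE 𝔞 𝔟 _ hV h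
  obtain ⟨i⟩ := H.nonempty_T_iso (M₀ := N₀)
  obtain ⟨ec⟩ := hc (ModuleCat.of A H.M)
  let e' : (T (R := CommRingCat.of B) 𝔟).obj (ModuleCat.of B (B ⊗[A] H.M)) ≅
      (Scheme.Modules.pullback c₀.inv).obj L₀ :=
    i ≪≫ e
  exact ⟨_, hU, h, _, isInvertible_T (R := CommRingCat.of A) 𝔞 (ModuleCat.of A H.M) hinv,
    ⟨ec.symm ≪≫ (Scheme.Modules.pullback c₀.hom).mapIso e' ≪≫ pullbackHomIso c₀ L₀⟩⟩

end Groth.Agent.CAlgH.PicPunct
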