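import Groth.Agent.CAlgH.ParaStalkAlg
import Groth.Agent.CAlgH.ParaStalkDepth
import Groth.Agent.CAlgH.PicPunctNbhd
import Groth.Agent.CAlgH.PicPunctCI
import Groth.Agent.ParaF29.Local
import Groth.Agent.Rat20Lib.Hartogs
import Groth.Agent.UfdExt24.Trivial

/-!
# Parafactorial pairs and parafactorial local rings
-/

set_option autoImplicit false
set_option backward.isDefEq.respectTransparency false

universe u

open CategoryTheory CategoryTheory.Limits AlgebraicGeometry IsLocalRing Opposite TopologicalSpace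
open Groth.Agent.Formal2Lib Groth.Agent.Formal2Lib.Punct Groth.Agent.Coherent
open scoped TensorProduct

namespace Groth.Agent.CAlgH.ParaStalk

open Groth.Agent.UPLib (GenAt)
open Groth.Agent.CAlgH.PicPunct
open Groth.Agent.PicLib (IsGen res)

/-- Depth two and trivial Picard group of the punctured spectrum. -/
def Good (A : Type u) [CommRing A] [IsLocalRing A] : Prop :=
  (2 : ℕ∞) ≤ _root_.LocCoh.depth A A ∧ ParaF.PicTrivial (↑(FEt.puncturedSpec A) : Scheme.{u})

theorem good_iff (A : Type u) [CommRing A] [IsLocalRing A] [IsNoetherianRing A] :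
    ParaF.IsParafactorialLocalRing A ↔ Good A := by
  rw [ParaF29.isParafactorialLocalRing_iff]
  refine ⟨fun ⟨hb, hp⟩ => ⟨?_, hp⟩, fun ⟨hd, hp⟩ => ⟨ParaF29.bijective_res_of_depth A hd, hp⟩⟩
  exact idealDepth_of_hb (R := CommRingCat.of A) (maximalIdeal A)
    (Punct.puncturedSpec_eq A ▸ (ParaF29.hb_punctured_iff A).2 hb)

theorem Good.of_ringEquiv {A B : Type u} [CommRing A] [CommRing B] [IsLocalRing A] [IsLocalRing B] (e : A ≃+* B)
    (h : Good A) : Good B :=
  ⟨h.1.trans_eq (CAlgH3.depth_ringEquiv e), picTrivial_of_ringEquiv e h.2⟩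

theorem isGen_of_iso {X : Scheme.{u}} {L M : X.Modules} (e : L ≅ M) {U : X.Opens} {s : Γ(L, U)} (hs : IsGen L U s) :
    IsGen M U (e.hom.app U s) := fun V h => by
  have hb := ConcreteCategory.bijective_of_isIso (C := AddCommGrpCat) (e.hom.app V)
  convert hb.comp (hs V h) using 1
  funext r
  show r • resM M h (e.hom.app U s) = e.hom.app V (r • resM L h s)
  rw [Scheme.Modules.Hom.app_smul]
  congr 1
  exact (app_resM e.hom h s).symm

variable {R : CommRingCat.{u}} [IsNoetherianRing R]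

/-- A module generated at a prime gives a generator of its restriction to the punctured scheme near that prime. -/
theorem exists_isGen_T (𝔞 : Ideal R) (P : ModuleCat.{u} R) [Module.Finite R P] (z : PrimeSpectrum R) {t : P}
    (ht : GenAt z.asIdeal.primeCompl t) :
    ∃ (N : (Spec R).Opens) (s : Γ((T 𝔞).obj P, jU 𝔞 ⁻¹ᵁ N)), z ∈ N ∧ IsGen ((T 𝔞).obj P) (jU 𝔞 ⁻¹ᵁ N) s := by
  haveI : Coh.IsQCoh (tilde P) := inferInstanceAs ((tilde P).IsQuasicoherent)
  obtain ⟨g, hg, hgen⟩ := exists_powers_genAt ht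
  let a := UPLib.topEquiv P t
  let W := AmpleLib.glocus (tilde P) a
  have hy : z ∈ W := UPLib.le_glocus_of_genAt _ g (UPLib.genAt_congr (UPLib.topEquiv P) hgen)
    (show z ∈ specBasicOpen g from hg)
  have hs := AmpleLib.isGen_glocus (L := tilde P) a
  let j := jU 𝔞
  let s := resM (tilde P) (le_top : W ≤ ⊤) a
  refine ⟨W, ((tilde P).restrictAppIso j _).inv (resM (tilde P) (j.image_preimage_le W) s), hy, fun W' hW => ?_⟩
  have hb := hs (j ''ᵁ W') ((j.image_mono hW).trans (j.image_preimage_le W))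
  have hb3 := ConcreteCategory.bijective_of_isIso (j.appIso W').inv
  have hb2 := ConcreteCategory.bijective_of_isIso ((tilde P).restrictAppIso j W').hom
  refine (Function.Bijective.of_comp_iff' hb2 _).1 ?_
  convert hb.comp hb3 using 1
  funext r
  refine (Scheme.Modules.smul_restrictAppIso_hom_apply j (tilde P) W' r _).trans ?_
  show _ • _ = _ • _
  rw [← resM_resM (tilde P) (j.image_preimage_le W) (j.image_mono hW) s]
  rfl

/-- Local triviality along a closed set with parafactorial local rings. -/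
theorem locTriv_jU (𝔞 : Ideal R)
    (h : ∀ (p : Ideal R) [p.IsPrime], 𝔞 ≤ p → Good (Localization.AtPrime p)) :
    ParaF29.LocTriv (jU 𝔞) := by
  intro L hL z
  obtain ⟨M, hM, ⟨e⟩, hinv⟩ := exists_invAway_model 𝔞 L hL
  obtain ⟨P, _, _, hP, -, hgen, w, hw⟩ := exists_extension hinv fun p _ hp => by
    refine ⟨(h p hp).1, fun N _ _ _ hN => ?_⟩
    haveI : IsNoetherianRing (Localization.AtPrime p) := IsLocalization.isNoetherianRing p.primeCompl _ inferInstance
    exact exists_offIso_of_picTrivial (maximalIdeal (Localization.AtPrime p))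
      (subsingleton_H_of_depth (A := Localization.AtPrime p) (n := 2) (h p hp).1)
      (Punct.puncturedSpec_eq (Localization.AtPrime p) ▸ (h p hp).2) N hN
  obtain ⟨i⟩ := nonempty_iso_of_offIso 𝔞 (M := M) (N := ModuleCat.of R P) (w := w) hw
  haveI : Module.Finite R (ModuleCat.of R P) := hP
  obtain ⟨t, ht⟩ := hgen (show PrimeSpectrum R from z).asIdeal
  obtain ⟨N, s, hz, hs⟩ := exists_isGen_T 𝔞 (ModuleCat.of R P) z ht
  exact ⟨N, hz, _, isGen_of_iso (i.symm ≪≫ e) hs⟩

/-- Parafactorial pairs have parafactorial local rings, affine form. -/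
theorem good_of_pair (p : Ideal R) [p.IsPrime] (hb : ParaF29.HB (LocCoh.puncturedOpen R p))
    (hl : ParaF29.LT (LocCoh.puncturedOpen R p)) : Good (Localization.AtPrime p) := by
  classical
  let A := Localization.AtPrime p
  haveI : IsNoetherianRing A := IsLocalization.isNoetherianRing p.primeCompl A inferInstance
  have hd := depth_atPrime_of_idealDepth (idealDepth_of_hb p hb) p le_rfl
  refine ⟨hd, ?_⟩
  rw [Punct.puncturedSpec_eq]
  refine picTrivial_of_modules (maximalIdeal A) fun M₀ _ _ _ hM₀ => ?_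
  letI : Module R M₀ := Module.compHom M₀ (algebraMap R A)
  haveI : IsScalarTower R A M₀ := .of_algebraMap_smul fun _ _ => rfl
  obtain ⟨S, hS⟩ := (Module.Finite.fg_top : (⊤ : Submodule A M₀).FG)
  let M : Submodule R M₀ := Submodule.span R (S : Set M₀)
  haveI : Module.Finite R M := Module.Finite.span_of_finite R S.finite_toSet
  let j : M →ₗ[R] M₀ := M.subtype
  have hsurj : ∀ y : M₀, ∃ s ∈ p.primeCompl, ∃ x : M, s • y = j x := fun y => by
    have hy : y ∈ Submodule.span A (S : Set M₀) := hS ▸ Submodule.mem_top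
    induction hy using Submodule.span_induction with
    | mem y hy => exact ⟨1, one_mem _, ⟨y, Submodule.subset_span hy⟩, one_smul _ _⟩
    | zero => exact ⟨1, one_mem _, 0, by simp⟩
    | add y y' _ _ h h' =>
      obtain ⟨s, hs, x, e⟩ := h
      obtain ⟨s', hs', x', e'⟩ := h'
      exact ⟨s * s', mul_mem hs hs', s' • x + s • x', by
        rw [smul_add, map_add, map_smul, map_smul, ← e, ← e', mul_comm s s', mul_smul, mul_comm s' s, mul_smul]⟩
    | smul c y _ h =>
      obtain ⟨s, hs, x, e⟩ := h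
      obtain ⟨a, ⟨t, ht⟩, rfl⟩ := IsLocalization.exists_mk'_eq p.primeCompl c
      refine ⟨t * s, mul_mem ht hs, a • x, ?_⟩
      rw [map_smul, ← e, ← algebraMap_smul A, ← algebraMap_smul A a, ← algebraMap_smul A s, smul_smul, smul_smul,
        ← IsLocalization.mk'_spec A a (⟨t, ht⟩ : p.primeCompl), map_mul]
      congr 1
      ring
  haveI : IsLocalizedModule p.primeCompl j :=
    { map_units := fun x => (Module.End.isUnit_iff _).2 (by
        have hu := IsLocalization.map_units A x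
        have hfun : ⇑(algebraMap R (Module.End R M₀) x) = fun y => algebraMap R A x • y :=
          funext fun y => (algebraMap_smul A (x : R) y).symm
        rw [hfun]
        exact hu.smul_bijective)
      surj := fun y => by
        obtain ⟨s, hs, x, e⟩ := hsurj y
        exact ⟨⟨x, ⟨s, hs⟩⟩, e⟩
      exists_of_eq := fun h => ⟨1, by rw [M.injective_subtype h]⟩ }
  let φ : A ⊗[R] M ≃ₗ[A] M₀ := (IsLocalizedModule.isBaseChange p.primeCompl A j).equiv
  let 𝔟 : Ideal R := Ideal.span {c | ∀ (q : Ideal R) [q.IsPrime], c ∉ q → ∃ x : M, GenAt q.primeCompl x}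
  have hM : InvAway 𝔟 M := fun q _ hq => by
    by_contra hn
    exact hq (Ideal.span_le.2 fun c hc => by_contra fun hcq => hn (hc q hcq))
  -- generators at the smaller primes
  have hsmall : ∀ (q : Ideal R) [q.IsPrime], q < p → ∃ x : M, GenAt q.primeCompl x := fun q _ hqp => by
    let Q : Ideal A := q.map (algebraMap R A)
    have hdisj : Disjoint (p.primeCompl : Set R) q := Set.disjoint_left.2 fun a ha haq => ha (hqp.le haq)
    haveI : Q.IsPrime := IsLocalization.isPrime_of_isPrime_disjoint p.primeCompl A q inferInstance hdisj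
    have hcomap : Q.comap (algebraMap R A) = q := IsLocalization.under_map_of_isPrime_disjoint p.primeCompl A inferInstance hdisj
    have hQ : ¬ maximalIdeal A ≤ Q := fun h => hqp.ne (le_antisymm hqp.le
      ((IsLocalization.AtPrime.under_maximalIdeal A p).ge.trans ((Ideal.comap_mono h).trans hcomap.le)))
    have hout : ∀ r : R, r ∉ q → algebraMap R A r ∈ Q.primeCompl := fun r hr h => hr (hcomap.le h)
    obtain ⟨t₀, ht₀⟩ := hM₀ Q hQ
    obtain ⟨s, hs, x, e⟩ := hsurj t₀
    refine ⟨x, fun y => ?_, fun r hr => ?_⟩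
    · obtain ⟨σ, hσ, α, e1⟩ := ht₀.surj (j y)
      obtain ⟨a, ⟨s₁, hs₁⟩, rfl⟩ := IsLocalization.exists_mk'_eq p.primeCompl σ
      obtain ⟨b, ⟨s₂, hs₂⟩, rfl⟩ := IsLocalization.exists_mk'_eq p.primeCompl α
      have haq : a ∉ q := fun h => hσ ((IsLocalization.mk'_mem_iff (S := A) (I := Q) (y := ⟨s₁, hs₁⟩)).2 (Ideal.mem_map_of_mem _ h))
      refine ⟨a * s₂ * s, fun h => ?_, s₁ * b, M.injective_subtype ?_⟩
      · exact ((Ideal.IsPrime.mem_or_mem ‹_› h).elim (fun h' => (Ideal.IsPrime.mem_or_mem ‹_› h').elim haq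
          fun h'' => hs₂ (hqp.le h'')) fun h' => hs (hqp.le h'))
      · show j ((a * s₂ * s) • y) = j ((s₁ * b) • x)
        rw [map_smul, map_smul, ← e, ← algebraMap_smul A, ← algebraMap_smul A (s₁ * b), ← algebraMap_smul A s t₀,
          map_mul, map_mul, map_mul, ← IsLocalization.mk'_spec A a (⟨s₁, hs₁⟩ : p.primeCompl),
          ← IsLocalization.mk'_spec A b (⟨s₂, hs₂⟩ : p.primeCompl)]
        have e2 := congrArg (fun v => (algebraMap R A s₁ * algebraMap R A s₂ * algebraMap R A s) • v) e1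
        simp only [smul_smul] at e2 ⊢
        convert e2 using 2 <;> ring
    · obtain ⟨σ, hσ, e1⟩ := ht₀.inj (algebraMap R A (r * s)) (by
        rw [algebraMap_smul, mul_smul, e, ← map_smul, hr, map_zero])
      obtain ⟨a, ⟨s₁, hs₁⟩, rfl⟩ := IsLocalization.exists_mk'_eq p.primeCompl σ
      have haq : a ∉ q := fun h => hσ ((IsLocalization.mk'_mem_iff (S := A) (I := Q) (y := ⟨s₁, hs₁⟩)).2 (Ideal.mem_map_of_mem _ h))
      have e2 : algebraMap R A (a * (r * s)) = 0 := by
        rw [map_mul, ← IsLocalization.mk'_spec A a (⟨s₁, hs₁⟩ : p.primeCompl), mul_right_comm, e1, zero_mul]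
      obtain ⟨⟨u, hu⟩, he⟩ := (IsLocalization.map_eq_zero_iff p.primeCompl A _).1 e2
      refine ⟨u * a * s, fun h => ?_, by rw [← he]; ring⟩
      exact ((Ideal.IsPrime.mem_or_mem ‹_› h).elim (fun h' => (Ideal.IsPrime.mem_or_mem ‹_› h').elim
        (fun h'' => hu (hqp.le h'')) haq) fun h' => hs (hqp.le h'))
  -- a neighbourhood
  have hrad : maximalIdeal A ≤ (𝔟.map (algebraMap R A)).radical := by
    rw [Ideal.radical_eq_sInf]
    refine le_sInf fun Q ⟨hQ, hQp⟩ => ?_
    haveI := hQp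
    have hle : Q.comap (algebraMap R A) ≤ p :=
      (Ideal.comap_mono (IsLocalRing.le_maximalIdeal hQp.ne_top)).trans (IsLocalization.AtPrime.under_maximalIdeal A p).le
    rcases hle.lt_or_eq with hlt | heq
    · exfalso
      obtain ⟨x, hx⟩ := hsmall _ hlt
      obtain ⟨c, hc, hgen⟩ := exists_powers_genAt hx
      exact hc (Ideal.map_le_iff_le_comap.1 hQ (Ideal.subset_span fun q _ hcq =>
        ⟨x, hgen.mono (Submonoid.powers_le.2 hcq)⟩))
    · rw [← Localization.AtPrime.map_eq_maximalIdeal, Ideal.map_le_iff_le_comap]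
      exact heq.ge
  obtain ⟨k, hk⟩ := Ideal.exists_pow_le_of_le_radical_of_fg hrad (IsNoetherian.noetherian (maximalIdeal A))
  obtain ⟨G, hG⟩ := IsNoetherian.noetherian (p ^ k)
  have hden : ∀ x : G, ∃ u ∈ p.primeCompl, u * (x : R) ∈ 𝔟 := fun x => by
    have h1 : algebraMap R A (x : R) ∈ 𝔟.map (algebraMap R A) := hk (by
      rw [← Localization.AtPrime.map_eq_maximalIdeal, ← Ideal.map_pow]
      exact Ideal.mem_map_of_mem _ (hG ▸ Submodule.subset_span x.2))
    obtain ⟨u, hu, h⟩ := (IsLocalization.algebraMap_mem_map_algebraMap_iff p.primeCompl A 𝔟 _).1 h1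
    exact ⟨u, hu, h⟩
  choose u hu hu' using hden
  let g := ∏ x : G, u x
  have hg : g ∈ p.primeCompl := prod_mem fun x _ => hu x
  have hgp : ∀ y ∈ p ^ k, g * y ∈ 𝔟 := fun y hy => by
    rw [← hG] at hy
    induction hy using Submodule.span_induction with
    | mem y hy =>
      obtain ⟨d, hd⟩ := Finset.dvd_prod_of_mem u (Finset.mem_univ (⟨y, hy⟩ : G))
      rw [show g = u ⟨y, hy⟩ * d from hd, mul_right_comm]
      exact 𝔟.mul_mem_right d (hu' ⟨y, hy⟩)
    | zero => simp
    | add y y' _ _ h h' => rw [mul_add]; exact add_mem h h'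
    | smul c y _ h => rw [smul_eq_mul, mul_left_comm]; exact 𝔟.mul_mem_left c h
  let 𝔠 : Ideal R := p * Ideal.span {g}
  have hM' : InvAway 𝔠 M := fun q _ hq => hM q fun hle => hq (by
    intro y hy
    by_contra hyq
    have hgq : g ∉ q := fun h => hyq ((Ideal.mul_le_right.trans ((Ideal.span_singleton_le_iff_mem q).2 h) :
      𝔠 ≤ q) hy)
    have hpq : ¬ p ≤ q := fun h => hyq ((Ideal.mul_le_left.trans h : 𝔠 ≤ q) hy)
    obtain ⟨b, hb', hbq⟩ := exists_notMem_of_pow (m := k) hpq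
    exact (Ideal.IsPrime.mem_or_mem ‹_› (hle (hgp b hb'))).elim hgq hbq)
  haveI : Module.Finite R (ModuleCat.of R M) := ‹Module.Finite R M›
  let L := (T 𝔠).obj (ModuleCat.of R M)
  have hL : PicF.IsInvertible L := isInvertible_T 𝔠 (ModuleCat.of R M) hM'
  -- local triviality near the prime
  let V : (Spec R).Opens := PrimeSpectrum.basicOpen g
  have hU : LocCoh.puncturedOpen R 𝔠 = V ⊓ LocCoh.puncturedOpen R p := Opens.ext (Set.ext fun (q : PrimeSpectrum R) => by
    show ¬ ((𝔠 : Set R) ⊆ q.asIdeal) ↔ g ∉ q.asIdeal ∧ ¬ ((p : Set R) ⊆ q.asIdeal)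
    refine ⟨fun h => ⟨fun hgq => h ?_, fun hpq => h ?_⟩, fun ⟨h1, h2⟩ h => ?_⟩
    · show 𝔠 ≤ q.asIdeal
      exact le_trans Ideal.mul_le_right ((Ideal.span_singleton_le_iff_mem _).2 hgq)
    · show 𝔠 ≤ q.asIdeal
      exact le_trans Ideal.mul_le_left hpq
    · exact ((q.isPrime.mul_le).1 (show 𝔠 ≤ q.asIdeal from h)).elim h2 fun h' =>
        h1 (h' (Ideal.mem_span_singleton_self g)))
  have hle : LocCoh.puncturedOpen R 𝔠 ≤ V := hU.le.trans inf_le_left
  let j' := (Spec R).homOfLE hle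
  have hj' : j'.opensRange = V.ι ⁻¹ᵁ LocCoh.puncturedOpen R p := by
    show ((Spec R).homOfLE hle).opensRange = _
    rw [Scheme.opensRange_homOfLE, hU]
    exact Opens.ext (Set.ext fun q => ⟨fun h => h.2, fun h => ⟨q.2, h⟩⟩)
  obtain ⟨N, hpN, s, hs⟩ := ParaF29.locTriv_of_LT hl V.ι j' hj' L hL ⟨⟨p, inferInstance⟩, hg⟩
  -- pull back to the local ring
  let σ₀ : Spec (CommRingCat.of A) ⟶ Spec R := Spec.map (CommRingCat.ofHom (algebraMap R A))
  have hσ : LocCoh.puncturedOpen A (maximalIdeal A) ≤ σ₀ ⁻¹ᵁ LocCoh.puncturedOpen R 𝔠 := by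
    intro (q : PrimeSpectrum A) hq
    show ¬ ((𝔠 : Set R) ⊆ q.asIdeal.comap (algebraMap R A))
    intro h
    refine hq (show maximalIdeal A ≤ q.asIdeal from ?_)
    have h' : 𝔠.map (algebraMap R A) ≤ q.asIdeal := Ideal.map_le_iff_le_comap.2 h
    rw [show 𝔠 = p * Ideal.span {g} from rfl, Ideal.map_mul, Localization.AtPrime.map_eq_maximalIdeal,
      Ideal.map_span, Set.image_singleton,
      Ideal.span_singleton_eq_top.2 (IsLocalization.map_units A (⟨g, hg⟩ : p.primeCompl)), Ideal.mul_top] at h'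
    exact h'
  obtain ⟨ec⟩ := exists_pullback_T_resLE (A := R) (B := A) 𝔠 (maximalIdeal A) _ rfl hσ (ModuleCat.of R M)
  let σ := σ₀.resLE (LocCoh.puncturedOpen R 𝔠) (LocCoh.puncturedOpen A (maximalIdeal A)) hσ
  have hpre : ∀ w, w ∈ σ ⁻¹ᵁ (j' ⁻¹ᵁ N) := fun w => by
    show j' (σ w) ∈ N
    have h1 : V.ι (j' (σ w)) = σ₀ ((LocCoh.puncturedOpen A (maximalIdeal A)).ι w) := by
      rw [← Scheme.Hom.comp_apply, ← Scheme.Hom.comp_apply,
        show j' ≫ V.ι = (LocCoh.puncturedOpen R 𝔠).ι from Scheme.homOfLE_ι _ _, Scheme.Hom.resLE_comp_ι,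
        Scheme.Hom.comp_apply]
    have hsp : j' (σ w) ⤳ (⟨⟨p, inferInstance⟩, hg⟩ : V) := by
      refine (Scheme.Opens.ι V).isOpenEmbedding.isInducing.specializes_iff.1 ?_
      show V.ι (j' (σ w)) ⤳ _
      rw [h1]
      refine (PrimeSpectrum.le_iff_specializes _ _).1 ?_
      show ((LocCoh.puncturedOpen A (maximalIdeal A)).ι w : PrimeSpectrum A).asIdeal.comap (algebraMap R A) ≤ p
      exact (Ideal.comap_mono (IsLocalRing.le_maximalIdeal (PrimeSpectrum.isPrime _).ne_top)).trans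
        (IsLocalization.AtPrime.under_maximalIdeal A p).le
    exact hsp.mem_open N.isOpen hpN
  have hgenσ := (PicLib.isGen_pullSec σ hs hL).restrict (show (⊤ : (↑(LocCoh.puncturedOpen A (maximalIdeal A)) : Scheme.{u}).Opens) ≤ _ from fun w _ => hpre w)
  let sσ : Γ((Scheme.Modules.pullback σ).obj L, ⊤) :=
    resM _ (show (⊤ : (↑(LocCoh.puncturedOpen A (maximalIdeal A)) : Scheme.{u}).Opens) ≤ _ from fun w _ => hpre w)
      (PicLib.pullSec σ s)
  haveI := PicLib.isIso_of_isGen (unitDesc _ sσ) (by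
    rw [unitVal_unitDesc, PicLib.resM_self]; exact hgenσ)
  let eT : (T (R := CommRingCat.of A) (maximalIdeal A)).obj (ModuleCat.of A (A ⊗[R] M)) ≅
      Coh.structureModule (US (R := CommRingCat.of A) (maximalIdeal A)) :=
    (pullbackInvIso ((Spec (CommRingCat.of A)).isoOfEq rfl) _).symm ≪≫
      (Scheme.Modules.pullback _).mapIso (ec ≪≫ (asIso (unitDesc _ sσ)).symm) ≪≫ (nonempty_pullback_unit _).some
  obtain ⟨w, hw⟩ := exists_offIso_of_iso (R := CommRingCat.of A) (maximalIdeal A)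
    (subsingleton_H_of_depth (A := A) (n := 2) hd) eT
  refine ⟨(show A ⊗[R] M →ₗ[A] A from w) ∘ₗ φ.symm.toLinearMap, fun y hy => ?_, fun y => ?_⟩
  · obtain ⟨m, hm⟩ := hw.ker _ hy
    exact ⟨m, fun b hb => φ.symm.injective (by rw [map_smul, map_zero]; exact hm b hb)⟩
  · obtain ⟨m, hm⟩ := hw.coker y
    refine ⟨m, fun b hb => ?_⟩
    obtain ⟨x, hx⟩ := hm b hb
    exact ⟨φ x, (congrArg (show A ⊗[R] M →ₗ[A] A from w) (φ.symm_apply_apply x)).trans hx⟩

omit [IsNoetherianRing R]

theorem hb_preimage {X Y : Scheme.{u}} (i : Y ⟶ X) [IsOpenImmersion i] {U : X.Opens} (h : ParaF29.HB U) :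
    ParaF29.HB (i ⁻¹ᵁ U) := fun Q => by
  have he : i ''ᵁ (Q ⊓ i ⁻¹ᵁ U) = (i ''ᵁ Q) ⊓ U := by
    ext z
    constructor
    · rintro ⟨w, ⟨hw, hwU⟩, rfl⟩; exact ⟨⟨w, hw, rfl⟩, hwU⟩
    · rintro ⟨⟨w, hw, rfl⟩, hwU⟩; exact ⟨w, ⟨hw, hwU⟩, rfl⟩
  have hb := h.bij he (i.image_mono inf_le_left)
  have h1 := ConcreteCategory.bijective_of_isIso (i.appIso Q).inv
  have h2 := ConcreteCategory.bijective_of_isIso (i.appIso (Q ⊓ i ⁻¹ᵁ U)).inv
  refine (Function.Bijective.of_comp_iff' h2 _).1 ?_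
  convert hb.comp h1 using 1
  funext r
  exact ConcreteCategory.congr_hom (Scheme.Hom.appIso_inv_naturality i (homOfLE (inf_le_left : Q ⊓ i ⁻¹ᵁ U ≤ Q)).op) r

theorem lt_preimage {X Y : Scheme.{u}} (i : Y ⟶ X) [IsOpenImmersion i] {U : X.Opens} (h : ParaF29.LT U) :
    ParaF29.LT (i ⁻¹ᵁ U) := fun V => by
  refine ParaF29.locTriv_of_LT h (V.ι ≫ i) _ ?_
  rw [ParaF29.opensRange_homOfLE_inf, Scheme.Hom.comp_preimage]

/-- A pair is parafactorial iff the local rings along it are. -/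
theorem isParafactorialPair_iff_stalks {X : Scheme.{u}} [IsLocallyNoetherian X] (Y : Closeds X) :
    ParaF.IsParafactorialPair X Y ↔
      ∀ y : X, y ∈ Y → ParaF.IsParafactorialLocalRing (X.presheaf.stalk y) := by
  rw [ParaF29.isParafactorialPair_iff]
  constructor
  · rintro ⟨hb, hl⟩ y hy
    obtain ⟨_, ⟨W, hW, rfl⟩, hyW, -⟩ :=
      X.isBasis_affineOpens.exists_subset_of_mem_open (Set.mem_univ y) isOpen_univ
    haveI : IsNoetherianRing Γ(X, W) := IsLocallyNoetherian.component_noetherian ⟨W, hW⟩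
    let U' : X.Opens := ⟨(closure {y})ᶜ, isClosed_closure.isOpen_compl⟩
    have hU : Y.compl ≤ U' := fun x hx hx' => hx (closure_minimal (Set.singleton_subset_iff.2 hy) Y.isClosed hx')
    let P := hW.primeIdealOf ⟨y, hyW⟩
    have hP : hW.fromSpec P = y := hW.fromSpec_primeIdealOf ⟨y, hyW⟩
    have hpre : hW.fromSpec ⁻¹ᵁ U' = LocCoh.puncturedOpen Γ(X, W) P.asIdeal :=
      Opens.ext (Set.ext fun (q : PrimeSpectrum Γ(X, W)) => by
        show hW.fromSpec q ∉ closure {y} ↔ ¬ (P.asIdeal : Set Γ(X, W)) ⊆ q.asIdeal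
        rw [← specializes_iff_mem_closure, ← hP, hW.fromSpec.isOpenEmbedding.isInducing.specializes_iff]
        exact not_congr (PrimeSpectrum.le_iff_specializes P q).symm)
    have hgood := good_of_pair P.asIdeal
      (hpre ▸ hb_preimage hW.fromSpec (ParaF29.hb_mono hU hb))
      (hpre ▸ lt_preimage hW.fromSpec (ParaF29.lt_mono hU hb hl))
    letI := X.presheaf.algebra_section_stalk (⟨y, hyW⟩ : W)
    haveI : IsLocalization.AtPrime (X.presheaf.stalk y) P.asIdeal := hW.isLocalization_stalk ⟨y, hyW⟩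
    let e := IsLocalization.algEquiv P.asIdeal.primeCompl (Localization.AtPrime P.asIdeal) (X.presheaf.stalk y)
    haveI : IsNoetherianRing (X.presheaf.stalk y) :=
      IsLocalization.isNoetherianRing P.asIdeal.primeCompl _ inferInstance
    exact (good_iff _).2 (hgood.of_ringEquiv e.toRingEquiv)
  · intro h
    have hd : ∀ x : X, x ∉ Y.compl → (2 : ℕ∞) ≤ _root_.LocCoh.depth (X.presheaf.stalk x) (X.presheaf.stalk x) :=
      fun x hx => ((good_iff _).1 (h x (not_not.1 hx))).1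
    refine ⟨fun W => Rat20Lib.res_bijective Y.compl hd W, fun V => ?_⟩
    refine ParaF29.locTriv_of_ranges V.ι _ ParaF29.opensRange_homOfLE_inf fun z => ?_
    obtain ⟨W, hW, hzW, hWV⟩ := exists_isAffineOpen_mem_and_subset (x := V.ι z) (U := V) z.2
    haveI : IsNoetherianRing Γ(X, W) := IsLocallyNoetherian.component_noetherian ⟨W, hW⟩
    obtain ⟨S, hS⟩ := (PrimeSpectrum.isClosed_iff_zeroLocus _).1 (hW.fromSpec ⁻¹ᵁ Y.compl).isOpen.isClosed_compl
    let 𝔞 : Ideal Γ(X, W) := Ideal.span S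
    have hrange : (jU (R := Γ(X, W)) 𝔞).opensRange = hW.fromSpec ⁻¹ᵁ Y.compl := by
      rw [Scheme.Opens.opensRange_ι]
      refine Opens.ext (compl_inj_iff.1 ?_)
      rw [hS, ← PrimeSpectrum.zeroLocus_span]
      exact compl_compl _
    refine ⟨_, _, hW.fromSpec, inferInstance, jU (R := Γ(X, W)) 𝔞, inferInstance, hrange,
      ⟨hW.primeIdealOf ⟨_, hzW⟩, hW.fromSpec_primeIdealOf ⟨_, hzW⟩⟩, ?_, locTriv_jU 𝔞 fun p hp hap => ?_⟩
    · rw [Scheme.Opens.opensRange_ι, hW.opensRange_fromSpec]; exact hWV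
    · let x := hW.fromSpec (⟨p, hp⟩ : PrimeSpectrum Γ(X, W))
      have hxW : x ∈ W := by rw [← SetLike.mem_coe, ← hW.range_fromSpec]; exact ⟨_, rfl⟩
      have hxY : x ∈ Y := by
        by_contra hx
        have hx' : (⟨p, hp⟩ : PrimeSpectrum Γ(X, W)) ∈ (jU (R := Γ(X, W)) 𝔞).opensRange := by rw [hrange]; exact hx
        rw [Scheme.Opens.opensRange_ι] at hx'
        exact hx' hap
      haveI h1 := hW.isLocalization_stalk' ⟨p, hp⟩ hxW
      letI := TopCat.Presheaf.algebra_section_stalk X.presheaf (⟨x, hxW⟩ : W)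
      haveI : IsLocalization.AtPrime (X.presheaf.stalk x) p := h1
      let e := IsLocalization.algEquiv p.primeCompl (X.presheaf.stalk x) (Localization.AtPrime p)
      exact ((good_iff _).1 (h x hxY)).of_ringEquiv e.toRingEquiv

end Groth.Agent.CAlgH.ParaStalk
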