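import Groth.Agent.LocCoh.TightClosed
import Groth.Agent.CAlgH3.RegularCore
import Mathlib

/-! Parameters with an annihilator condition. -/

universe u

namespace Groth.Agent.CAlgH.Parameters

theorem exists_parameters {Λ : Type u} [CommRing Λ] [IsNoetherianRing Λ] (I q : Ideal Λ)
    [q.IsPrime] (n e d : ℕ) (hn : 0 < n) (he : 0 < e)
    (hpow : (q ^ n).map (algebraMap Λ (Localization.AtPrime q)) ≤ I.map (algebraMap Λ (Localization.AtPrime q)))
    [IsRegularLocalRing (Localization.AtPrime q)] (hd : ringKrullDim (Localization.AtPrime q) = d) :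
    ∃ (N : ℕ) (π : Fin d → Λ), 0 < N ∧
      Ideal.span (Set.range fun i => algebraMap Λ (Localization.AtPrime q) (π i)) =
        q.map (algebraMap Λ (Localization.AtPrime q)) ∧
      (∀ i, π i ^ N ∈ I) ∧
      ∀ i : Fin d, ∀ x : Λ ⧸ Ideal.span (Set.range fun j : {j : Fin d // (j : ℕ) < (i : ℕ)} => π j ^ e),
        Ideal.Quotient.mk _ (π i) ^ 2 * x = 0 → Ideal.Quotient.mk _ (π i) * x = 0 := by
  classical
  let L := Localization.AtPrime q
  let ι := algebraMap Λ L
  haveI : _root_.LocCoh.IsCohenMacaulayLocalRing L := CAlgH3.isCohenMacaulayLocalRing_of_regular L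
  have hmax : q.map ι = IsLocalRing.maximalIdeal L := Localization.AtPrime.map_eq_maximalIdeal
  have hsf : (IsLocalRing.maximalIdeal L).spanFinrank = d := by
    have h : ((IsLocalRing.maximalIdeal L).spanFinrank : WithBot ℕ∞) = ringKrullDim L :=
      IsRegularLocalRing.spanFinrank_maximalIdeal
    rw [hd] at h
    exact_mod_cast h
  obtain ⟨f, hf⟩ : ∃ f : Fin d → L, Ideal.span (Set.range f) = IsLocalRing.maximalIdeal L := by
    obtain ⟨rs, hlen, hrs, -⟩ := CAlgH3.exists_isRegular_ofList_eq_maximalIdeal (R := L)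
    rw [hsf] at hlen
    refine ⟨fun i => rs.get (Fin.cast hlen.symm i), ?_⟩
    rw [← hrs, Ideal.ofList]
    congr 1
    ext x
    simp only [Set.mem_range, Set.mem_setOf_eq, List.mem_iff_get]
    exact ⟨fun ⟨i, hi⟩ => ⟨_, hi⟩, fun ⟨i, hi⟩ => ⟨Fin.cast hlen i, hi⟩⟩
  -- representatives in `q`
  choose a s has using fun i => IsLocalization.exists_mk'_eq q.primeCompl (f i)
  have haq : ∀ i, a i ∈ q := fun i => by
    have h : f i ∈ IsLocalRing.maximalIdeal L := hf ▸ Ideal.subset_span ⟨i, rfl⟩
    rw [← has] at h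
    exact (IsLocalization.AtPrime.mk'_mem_maximal_iff L q (a i) (s i)).1 h
  have haI : ∀ i, ∃ t ∈ q.primeCompl, t * a i ^ n ∈ I := fun i =>
    (IsLocalization.algebraMap_mem_map_algebraMap_iff q.primeCompl L I _).1
      (hpow (Ideal.mem_map_of_mem _ (Ideal.pow_mem_pow (haq i) n)))
  choose t ht htI using haI
  -- inductively kill the torsion
  have key : ∀ k, k ≤ d → ∃ u : Fin d → q.primeCompl, ∀ i : Fin d, (i : ℕ) < k →
      ∀ x, ((u i : Λ) * t i * a i) ^ 2 * x ∈ Ideal.span (Set.range fun j : {j : Fin d // (j : ℕ) < (i : ℕ)} =>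
        ((u j : Λ) * t j * a j) ^ e) → ((u i : Λ) * t i * a i) * x ∈ Ideal.span (Set.range fun j : {j : Fin d // (j : ℕ) < (i : ℕ)} =>
        ((u j : Λ) * t j * a j) ^ e) := by
    intro k
    induction k with
    | zero => exact fun _ => ⟨fun _ => 1, fun i h => absurd h (Nat.not_lt_zero _)⟩
    | succ k ih =>
      intro hk
      obtain ⟨u, hu⟩ := ih (Nat.le_of_succ_le hk)
      let i₀ : Fin d := ⟨k, hk⟩
      let J : Ideal Λ := Ideal.span (Set.range fun j : {j : Fin d // (j : ℕ) < k} => ((u j : Λ) * t j * a j) ^ e)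
      obtain ⟨g, hg⟩ := (IsNoetherian.noetherian ((J.map ι).comap ι) : ((J.map ι).comap ι).FG)
      choose! w hw hwJ using fun x (hx : x ∈ g) =>
        (IsLocalization.algebraMap_mem_map_algebraMap_iff q.primeCompl L J x).1
          (show x ∈ (J.map ι).comap ι from hg.le (Ideal.subset_span hx))
      let T : q.primeCompl := ⟨∏ x ∈ g, w x, prod_mem hw⟩
      have hT : ∀ x, ι x ∈ J.map ι → (T : Λ) * x ∈ J := by
        intro x hx
        have hx' : x ∈ Ideal.span (g : Set Λ) := hg.ge hx
        refine Submodule.span_induction (p := fun x _ => (T : Λ) * x ∈ J) (fun y hy => ?_) (by simp) (fun y z _ _ hy hz => by rw [mul_add]; exact add_mem hy hz)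
          (fun r y _ hy => by rw [smul_eq_mul, mul_left_comm]; exact J.mul_mem_left r hy) hx'
        show (∏ x ∈ g, w x) * y ∈ J
        rw [← Finset.mul_prod_erase g w hy, mul_assoc, mul_left_comm]
        exact J.mul_mem_left _ (hwJ y hy)
      refine ⟨Function.update u i₀ T, fun i hi x hx => ?_⟩
      have hsame : ∀ j : Fin d, (j : ℕ) < k → Function.update u i₀ T j = u j := fun j hj =>
        Function.update_of_ne (fun h => by rw [h] at hj; exact lt_irrefl k hj) _ _
      rcases Nat.lt_succ_iff_lt_or_eq.1 hi with hik | hik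
      · have hE : (fun j : {j : Fin d // (j : ℕ) < (i : ℕ)} => ((Function.update u i₀ T j : Λ) * t j * a j) ^ e) =
            fun j : {j : Fin d // (j : ℕ) < (i : ℕ)} => ((u j : Λ) * t j * a j) ^ e :=
          funext fun j => by rw [hsame j (j.2.trans hik)]
        rw [hE, hsame i hik] at hx ⊢
        exact hu i hik x hx
      · obtain rfl : i = i₀ := Fin.ext hik
        have hE : (fun j : {j : Fin d // (j : ℕ) < (i₀ : ℕ)} => ((Function.update u i₀ T j : Λ) * t j * a j) ^ e) =
            fun j : {j : Fin d // (j : ℕ) < (i₀ : ℕ)} => ((u j : Λ) * t j * a j) ^ e :=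
          funext fun j => by rw [hsame j j.2]
        rw [hE, Function.update_self] at hx ⊢
        change _ ∈ J at hx
        show _ ∈ J
        -- a system of parameters
        have hunit : ∀ j : Fin d, ∀ v : q.primeCompl, IsUnit (ι ((v : Λ) * t j)) := fun j v =>
          IsLocalization.map_units L (v * ⟨t j, ht j⟩)
        let b : Fin d → L := fun j => if j = i₀ then ι ((T : Λ) * t j * a j) else ι ((u j : Λ) * t j * a j)
        have hb : LocCoh.IsSop L d b := by
          refine ⟨hd, ?_⟩
          have hle : Ideal.span (Set.range b) = IsLocalRing.maximalIdeal L := by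
            have hfb : ∀ j, Associated (b j) (f j) := by
              intro j
              have h1 : Associated (f j) (ι (a j)) :=
                ⟨(IsLocalization.map_units L (s j)).unit, by rw [IsUnit.unit_spec, ← has]; exact IsLocalization.mk'_spec L (a j) (s j)⟩
              refine Associated.trans ?_ h1.symm
              simp only [b]
              split_ifs
              · rw [map_mul]; exact associated_unit_mul_left _ _ (hunit j T)
              · rw [map_mul]; exact associated_unit_mul_left _ _ (hunit j (u j))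
            refine le_antisymm (Ideal.span_le.2 ?_) (hf ▸ Ideal.span_le.2 ?_)
            · rintro _ ⟨j, rfl⟩
              obtain ⟨v, hv⟩ := (hfb j).symm
              rw [← hv]
              exact Ideal.mul_mem_right _ _ (hf ▸ Ideal.subset_span ⟨j, rfl⟩)
            · rintro _ ⟨j, rfl⟩
              obtain ⟨v, hv⟩ := hfb j
              rw [← hv]
              exact Ideal.mul_mem_right _ _ (Ideal.subset_span ⟨j, rfl⟩)
          rw [hle]
          exact (IsLocalRing.maximalIdeal.isMaximal L).isPrime.radical
        have hb' := hb.pow (fun j => if j = i₀ then 1 else e) (fun j => by split_ifs <;> omega)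
        let c : Fin d → L := fun j => b j ^ (if j = i₀ then 1 else e)
        have hci : c i₀ = ι ((T : Λ) * t i₀ * a i₀) := by simp [c, b]
        have hreg := hb'.isWeaklyRegular.regular_mod_prev k (by rw [List.length_ofFn]; exact hk)
        have hJmap : Ideal.ofList ((List.ofFn c).take k) = J.map ι := by
          rw [Ideal.ofList, Ideal.map_span, ← Set.range_comp]
          congr 1
          ext y
          simp only [Set.mem_setOf_eq, Set.mem_range, Function.comp_apply]
          constructor
          · intro hy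
            obtain ⟨j, hj, rfl⟩ := List.mem_take_iff_getElem.1 hy
            have hjk : j < k := lt_of_lt_of_le hj (min_le_left _ _)
            refine ⟨⟨⟨j, hjk.trans hk⟩, hjk⟩, ?_⟩
            have hne : (⟨j, hjk.trans hk⟩ : Fin d) ≠ i₀ := fun h => hjk.ne (Fin.ext_iff.1 h)
            simp [List.getElem_ofFn, c, b, hne]
          · rintro ⟨⟨j, hj⟩, rfl⟩
            refine List.mem_take_iff_getElem.2 ⟨j, by simp [hj, j.2], ?_⟩
            have hne : j ≠ i₀ := fun h => hj.ne (Fin.ext_iff.1 h)
            simp [List.getElem_ofFn, c, b, hne]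
        have hnzd : ∀ y, c i₀ * y ∈ J.map ι → y ∈ J.map ι := by
          intro y hy
          have h := isSMulRegular_iff_right_eq_zero_of_smul.1 hreg (Submodule.Quotient.mk y) (by
            rw [← Submodule.Quotient.mk_smul, Submodule.Quotient.mk_eq_zero, smul_eq_mul (Ideal.ofList _) (⊤ : Ideal L),
              Ideal.mul_top, hJmap, List.getElem_ofFn]
            exact hy)
          rw [Submodule.Quotient.mk_eq_zero, smul_eq_mul, Ideal.mul_top, hJmap] at h
          exact h
        have h1 : ι x ∈ J.map ι := by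
          refine hnzd _ (hnzd _ ?_)
          rw [hci, ← map_mul, ← map_mul, ← mul_assoc, ← pow_two]
          exact Ideal.mem_map_of_mem _ hx
        rw [show (T : Λ) * t i₀ * a i₀ * x = t i₀ * a i₀ * ((T : Λ) * x) by ring]
        exact J.mul_mem_left _ (hT x h1)
  obtain ⟨u, hu⟩ := key d le_rfl
  let π : Fin d → Λ := fun i => (u i : Λ) * t i * a i
  refine ⟨n, π, hn, ?_, fun i => ?_, fun i x hx => ?_⟩
  · rw [hmax, ← hf]
    refine le_antisymm (Ideal.span_le.2 ?_) (Ideal.span_le.2 ?_)
    · rintro _ ⟨i, rfl⟩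
      rw [hf, ← hmax]
      exact Ideal.mem_map_of_mem _ (Ideal.mul_mem_left _ _ (haq i))
    · rintro _ ⟨i, rfl⟩
      have hu' : IsUnit (ι ((s i : Λ) * ((u i : Λ) * t i))) :=
        IsLocalization.map_units L (s i * (u i * ⟨t i, ht i⟩))
      rw [SetLike.mem_coe, ← Ideal.unit_mul_mem_iff_mem _ hu']
      have : ι ((s i : Λ) * ((u i : Λ) * t i)) * f i = ι (π i) := by
        rw [map_mul, mul_right_comm, ← has, IsLocalization.mk'_spec', ← map_mul]
        congr 1
        show a i * ((u i : Λ) * t i) = (u i : Λ) * t i * a i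
        ring
      rw [this]
      exact Ideal.subset_span ⟨i, rfl⟩
  · rw [show π i ^ n = ((u i : Λ) ^ n * t i ^ (n - 1)) * (t i * a i ^ n) by
      obtain ⟨m, rfl⟩ : ∃ m, n = m + 1 := ⟨n - 1, by omega⟩
      simp only [π, Nat.add_sub_cancel]
      ring]
    exact I.mul_mem_left _ (htI i)
  · obtain ⟨x, rfl⟩ := Ideal.Quotient.mk_surjective x
    rw [← map_pow, ← map_mul, Ideal.Quotient.eq_zero_iff_mem] at hx
    rw [← map_mul, Ideal.Quotient.eq_zero_iff_mem]
    exact hu i i.2 x hx

end Groth.Agent.CAlgH.Parameters
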