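import Mathlib.RingTheory.Spectrum.Prime.FreeLocus
import Mathlib.RingTheory.LocalRing.Module
import Mathlib.Algebra.Homology.ShortComplex.ModuleCat
import Mathlib.Algebra.Homology.HomologicalComplex
import Mathlib.Algebra.Homology.ShortComplex.HomologicalComplex

/-! The Euler characteristic of a perfect complex with cohomology of positive codimension vanishes. -/

universe u

set_option autoImplicit false

open CategoryTheory CategoryTheory.Limits

namespace Groth.Agent.CAlgH.PerfectEulerZero

theorem sum_finrank_eq_zero {R : Type u} [CommRing R] [IsLocalRing R] (M : ℤ → Type u)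
    [∀ i, AddCommGroup (M i)] [∀ i, Module R (M i)] [∀ i, Module.Finite R (M i)] [∀ i, Module.Projective R (M i)]
    (d : ∀ i, M i →ₗ[R] M (i + 1)) (hex : ∀ i, Function.Exact (d i) (d (i + 1))) (N : ℕ)
    (hN : ∀ i : ℤ, i < -N ∨ (N : ℤ) ≤ i → Subsingleton (M i)) :
    ∑ k ∈ Finset.range (2 * N), (((k : ℤ) - N).negOnePow : ℤ) * (Module.finrank R (M ((k : ℤ) - N)) : ℤ) = 0 := by
  have key : ∀ (k : ℕ) (j : ℤ), (N : ℤ) ≤ j + k →
      Module.Finite R (LinearMap.ker (d j)) ∧ Module.Free R (LinearMap.ker (d j)) := by
    intro k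
    induction k with
    | zero =>
      intro j hj
      haveI := hN j (Or.inr (by simpa using hj))
      exact ⟨inferInstance, inferInstance⟩
    | succ k ih =>
      intro j hj
      obtain ⟨hf, hfree⟩ := ih (j + 1) (by push_cast at hj; omega)
      let g := LinearMap.codRestrict (LinearMap.ker (d (j + 1))) (d j) fun x => (hex j).apply_apply_eq_zero x
      have hsurj : Function.Surjective g := fun y => by
        obtain ⟨x, hx⟩ := (hex j y.1).1 y.2
        exact ⟨x, Subtype.ext hx⟩
      obtain ⟨s, hs⟩ := Module.projective_lifting_property g LinearMap.id hsurj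
      let pr : M j →ₗ[R] LinearMap.ker (d j) :=
        LinearMap.codRestrict _ (LinearMap.id - s ∘ₗ g) fun x => by
          have : g (x - s (g x)) = 0 := by
            rw [map_sub, show g (s (g x)) = g x from LinearMap.congr_fun hs (g x), sub_self]
          exact congrArg Subtype.val this
      have hpr : pr ∘ₗ (LinearMap.ker (d j)).subtype = LinearMap.id := LinearMap.ext fun x => Subtype.ext (by
        have : g x.1 = 0 := Subtype.ext x.2
        simp [pr, this])
      haveI : Module.Finite R (LinearMap.ker (d j)) :=
        Module.Finite.of_surjective pr fun x => ⟨x.1, LinearMap.congr_fun hpr x⟩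
      haveI : Module.Projective R (LinearMap.ker (d j)) := Module.Projective.of_split _ pr hpr
      exact ⟨inferInstance, Module.free_of_flat_of_isLocalRing⟩
  have key' : ∀ j, Module.Finite R (LinearMap.ker (d j)) ∧ Module.Free R (LinearMap.ker (d j)) := fun j =>
    key (N - j).toNat j (by omega)
  let f : ℤ → ℤ := fun j => (j.negOnePow : ℤ) * (Module.finrank R (LinearMap.ker (d j)) : ℤ)
  have hstep : ∀ j : ℤ, (j.negOnePow : ℤ) * (Module.finrank R (M j) : ℤ) = f j - f (j + 1) := by
    intro j
    obtain ⟨hf, hfree⟩ := key' j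
    obtain ⟨hf', hfree'⟩ := key' (j + 1)
    let g := LinearMap.codRestrict (LinearMap.ker (d (j + 1))) (d j) fun x => (hex j).apply_apply_eq_zero x
    have hsurj : Function.Surjective g := fun y => by
      obtain ⟨x, hx⟩ := (hex j y.1).1 y.2
      exact ⟨x, Subtype.ext hx⟩
    have hgex : Function.Exact (LinearMap.ker (d j)).subtype g := fun x => by
      simp only [Set.mem_range, Submodule.coe_subtype, Subtype.exists, exists_prop, exists_eq_right, LinearMap.mem_ker]
      exact ⟨fun h => congrArg Subtype.val h, fun h => Subtype.ext h⟩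
    obtain ⟨s, hs⟩ := Module.projective_lifting_property g LinearMap.id hsurj
    obtain ⟨e, -, -⟩ := hgex.splitSurjectiveEquiv (Submodule.injective_subtype _) ⟨s, hs⟩
    simp only [f, e.finrank_eq, Module.finrank_prod, Int.negOnePow_succ]
    push_cast
    ring
  have hf0 : ∀ j : ℤ, j < -N ∨ (N : ℤ) ≤ j → f j = 0 := by
    intro j hj
    haveI := hN j hj
    simp [f, Module.finrank_zero_of_subsingleton]
  have hlo : f (-(N : ℤ)) = 0 := by
    have h0 := hstep (-(N : ℤ) - 1)
    haveI := hN (-(N : ℤ) - 1) (Or.inl (by omega))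
    rw [hf0 (-(N : ℤ) - 1) (Or.inl (by omega)), Module.finrank_zero_of_subsingleton, sub_add_cancel] at h0
    simpa using h0
  calc ∑ k ∈ Finset.range (2 * N), (((k : ℤ) - N).negOnePow : ℤ) * (Module.finrank R (M ((k : ℤ) - N)) : ℤ)
      = ∑ k ∈ Finset.range (2 * N), (f ((k : ℤ) - N) - f (((k + 1 : ℕ) : ℤ) - N)) :=
        Finset.sum_congr rfl fun k _ => by
          rw [hstep]; congr 2; push_cast; ring
    _ = 0 := by
      rw [Finset.sum_range_sub' (fun k : ℕ => f ((k : ℤ) - N)), hf0 (((2 * N : ℕ) : ℤ) - N) (Or.inr (by push_cast; omega))]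
      simpa using hlo

theorem main {A : Type u} [CommRing A]
    (P : CochainComplex (ModuleCat.{u} A) ℤ) (s : Finset ℤ)
    (hP : ∀ i : ℤ, Module.Finite A (P.X i) ∧ Module.Projective A (P.X i))
    (hs : ∀ i : ℤ, i ∉ s → IsZero (P.X i))
    (hsupp : ∀ q : PrimeSpectrum A, q.asIdeal ∈ minimalPrimes A →
      ∀ i : ℤ, Subsingleton (LocalizedModule q.asIdeal.primeCompl (P.homology i))) :
    ∀ x : PrimeSpectrum A,
      (s.sum fun i => ((i.negOnePow : ℤˣ) : ℤ) * (Module.rankAtStalk (R := A) (P.X i) x : ℤ)) = 0 := by
  intro x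
  obtain ⟨q₀, hq₀, hqx⟩ := Ideal.exists_minimalPrimes_le (bot_le : (⊥ : Ideal A) ≤ x.asIdeal)
  haveI : q₀.IsPrime := hq₀.1.1
  let q : PrimeSpectrum A := ⟨q₀, inferInstance⟩
  haveI hfin : ∀ i, Module.Finite A (P.X i) := fun i => (hP i).1
  haveI hproj : ∀ i, Module.Projective A (P.X i) := fun i => (hP i).2
  have hrk : ∀ i, Module.rankAtStalk (R := A) (P.X i) x = Module.rankAtStalk (R := A) (P.X i) q := fun i =>
    (Module.rankAtStalk_eq_of_le_of_finite_of_flat (P.X i) (show q ≤ x from hqx)).symm
  simp only [hrk]
  let S := q₀.primeCompl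
  let R := Localization.AtPrime q₀
  let M : ℤ → Type u := fun i => LocalizedModule S (P.X i)
  let d : ∀ i, M i →ₗ[R] M (i + 1) := fun i => LocalizedModule.map S (P.d i (i + 1)).hom
  haveI : ∀ i, Module.Finite R (M i) := fun i =>
    Module.Finite.of_isLocalizedModule S (LocalizedModule.mkLinearMap S (P.X i))
  haveI : ∀ i, Module.Projective R (M i) := fun i =>
    Module.Projective.of_equiv (LocalizedModule.equivTensorProduct S (P.X i)).symm
  have hd : ∀ i (m : P.X i) (u : S), d i (LocalizedModule.mk m u) =
      LocalizedModule.mk ((P.d i (i + 1)).hom m) u := fun i m u => IsLocalizedModule.map_LocalizedModules S _ m u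
  have hex : ∀ i, Function.Exact (d i) (d (i + 1)) := by
    intro i y
    constructor
    · intro hy
      induction y using LocalizedModule.induction_on with
      | _ m u =>
        rw [hd, ← LocalizedModule.zero_mk u, LocalizedModule.mk_eq] at hy
        obtain ⟨v, hv⟩ := hy
        simp only [smul_zero] at hv
        let e := ((P.isoSc' i (i + 1) (i + 1 + 1) (by simp) (by simp)))
        let S' := P.sc' i (i + 1) (i + 1 + 1)
        haveI : Subsingleton (LocalizedModule S S'.homology) := by
          haveI := hsupp q hq₀ (i + 1)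
          exact ((IsLocalizedModule.mapEquiv S (LocalizedModule.mkLinearMap S (P.homology (i + 1)))
            (LocalizedModule.mkLinearMap S S'.homology) R (ShortComplex.homologyMapIso e).toLinearEquiv).symm.toEquiv.subsingleton)
        have hm : (P.d (i + 1) (i + 1 + 1)).hom (((v : A) * (u : A)) • m) = 0 := by
          rw [map_smul, mul_smul]
          exact hv
        let z : S'.moduleCatLeftHomologyData.H :=
          Submodule.Quotient.mk (⟨((v : A) * (u : A)) • m, hm⟩ : LinearMap.ker S'.g.hom)
        let c := S'.moduleCatHomologyIso.inv.hom z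
        have hc : LocalizedModule.mkLinearMap S S'.homology c = 0 := Subsingleton.elim _ _
        rw [← map_zero (LocalizedModule.mkLinearMap S S'.homology), IsLocalizedModule.eq_iff_exists S] at hc
        obtain ⟨t, ht⟩ := hc
        have hz : (t : A) • z = 0 := by
          have := congrArg S'.moduleCatHomologyIso.hom.hom ht
          simp only [smul_zero, map_zero, c] at this
          rw [Submonoid.smul_def, map_smul] at this
          simpa using this
        have hz' : (Submodule.Quotient.mk ((t : A) • (⟨((v : A) * (u : A)) • m, hm⟩ : LinearMap.ker S'.g.hom)) :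
            S'.moduleCatLeftHomologyData.H) = 0 := hz
        rw [Submodule.Quotient.mk_eq_zero] at hz'
        obtain ⟨w, hw⟩ := hz'
        refine ⟨LocalizedModule.mk w (t * v * u * u), ?_⟩
        rw [hd, LocalizedModule.mk_eq]
        refine ⟨1, ?_⟩
        have hw' : (P.d i (i + 1)).hom w = (t : A) • ((v : A) * (u : A)) • m := congrArg Subtype.val hw
        simp only [one_smul, Submonoid.smul_def, Submonoid.coe_mul, hw', smul_smul]
        congr 1
        ring
    · rintro ⟨z, rfl⟩
      induction z using LocalizedModule.induction_on with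
      | _ m u =>
        rw [hd, hd, ← LinearMap.comp_apply, ← ModuleCat.hom_comp, HomologicalComplex.d_comp_d]
        simp
  let N := s.sup Int.natAbs + 1
  have hmem : ∀ i ∈ s, i.natAbs < N := fun i hi => Nat.lt_succ_of_le (Finset.le_sup (f := Int.natAbs) hi)
  have hsub : ∀ i, i ∉ s → Subsingleton (M i) := fun i hi => by
    haveI := ModuleCat.subsingleton_of_isZero (hs i hi)
    infer_instance
  have hmain := sum_finrank_eq_zero M d hex N fun i hi => hsub i fun h => by have := hmem i h; omega
  refine Eq.trans ?_ hmain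
  rw [← Finset.sum_image (f := fun i : ℤ => (i.negOnePow : ℤ) * (Module.finrank R (M i) : ℤ))
    (g := fun k : ℕ => (k : ℤ) - N) (fun a _ b _ h => by simpa using h)]
  refine Finset.sum_subset (fun i hi => Finset.mem_image.2
    ⟨(i + N).toNat, Finset.mem_range.2 (by have := hmem i hi; omega), by have := hmem i hi; omega⟩) fun i _ hi => ?_
  haveI := hsub i hi
  simp [Module.rankAtStalk, M, R, S, q, Module.finrank_zero_of_subsingleton]

end Groth.Agent.CAlgH.PerfectEulerZero
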