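import Groth.Agent.CAlgH3.Factorial
import Groth.Agent.CAlgH.InjModA.Main
import Mathlib.RingTheory.PicardGroup
import Mathlib.RingTheory.Flat.TorsionFree

/-!
# Picard group of the generic fibre of a local scheme over a valuation ring with regular closed fibre
-/

set_option autoImplicit false
set_option backward.isDefEq.respectTransparency false
set_option linter.style.haveILetI false

universe u

open TensorProduct Function IsLocalRing

namespace Groth.Agent.CAlgH.PicGenericFibre

open Groth.Agent CAlgH3

attribute [local instance] Algebra.TensorProduct.rightAlgebra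

/-- A stably free invertible module is free. -/
theorem free_of_isStablyFree {S : Type u} [CommRing S] [Nontrivial S] (P : Type u) [AddCommGroup P]
    [Module S P] [Module.Invertible S P] [Module.IsStablyFree S P] : Module.Free S P := by
  classical
  obtain ⟨N, _, _, _, _, _⟩ := Module.IsStablyFree.exist_free_prod S P
  let n := Module.finrank S N
  have hp : Module.finrank S (P × N) = n + 1 := by
    obtain ⟨m, hm⟩ := Ideal.exists_maximal S
    let _ := Ideal.Quotient.field m
    let k := S ⧸ m
    rw [← Module.finrank_baseChange (R := k) (S := S) (M' := P × N), (TensorProduct.prodRight S k k P N).finrank_eq,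
      Module.finrank_prod, Module.finrank_baseChange (R := k) (S := S) (M' := N), add_comm,
      Module.Invertible.finrank_eq_one k (k ⊗[S] P)]
  let e : S ≃ₗ[S] ⋀[S]^(n + 1) (P × N) :=
    (Module.nonempty_linearEquiv_of_finrank_eq_one <| by rw [exteriorPower.finrank_eq, hp, Nat.choose_self]).some
  let bN : Module.Basis (Fin n) S N := Module.finBasis S N
  let F : ⋀[S]^(n + 1) (P × N) →ₗ[S] P :=
    exteriorPower.alternatingMapLinearEquiv (AlternatingMap.alternatizeUncurryFin (cofactorLin bN))
  have hF : Surjective F := fun z => ⟨exteriorPower.ιMulti S (n + 1) (Fin.cons (z, 0) fun i ↦ (0, bN i)), by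
    simp [F, cofactorLin, AlternatingMap.alternatizeUncurryFin_apply, Fin.sum_univ_succ, Module.Basis.det_self]⟩
  exact Module.Free.of_equiv (LinearEquiv.ofBijective (F ∘ₗ e.toLinearMap)
    (Module.Invertible.bijective_of_surjective (hF.comp e.surjective)))

theorem flat_ker {R F M : Type u} [CommRing R] [AddCommGroup F] [Module R F] [Module.Flat R F]
    [AddCommGroup M] [Module R M] [Module.Flat R M] (f : F →ₗ[R] M) (hf : Surjective f) :
    Module.Flat R (LinearMap.ker f) := by
  rw [Module.Flat.iff_lTensor_preserves_injective_linearMap]
  intro X Y _ _ _ _ i hi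
  have hX := LinearMap.lTensor_injective_of_exact_of_flat f hf (LinearMap.ker f).subtype Subtype.val_injective
    (LinearMap.exact_subtype_ker_map f) X
  have hX' : Injective ((LinearMap.ker f).subtype.rTensor X) :=
    (LinearMap.lTensor_inj_iff_rTensor_inj (M := X) (f := (LinearMap.ker f).subtype)).1 hX
  refine Injective.of_comp (f := (LinearMap.ker f).subtype.rTensor Y) ?_
  rw [← LinearMap.coe_comp, LinearMap.rTensor_comp_lTensor, ← LinearMap.lTensor_comp_rTensor,
    LinearMap.coe_comp]
  exact (Module.Flat.lTensor_preserves_injective_linearMap i hi).comp hX'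

section

variable {R A : Type u} [CommRing R] [IsLocalRing R] [CommRing A] [IsLocalRing A] [Algebra R A]
  [IsLocalHom (algebraMap R A)] [Algebra.EssFiniteType R A] [Module.Flat R A]

theorem finitePresentation_of_flat (M : Type u) [AddCommGroup M] [Module A M] [Module R M]
    [IsScalarTower R A M] [Module.Finite A M] [Module.Flat R M] : Module.FinitePresentation A M :=
  (InjModA.injMod_linear_ess (B := A) (LinearMap.id : M →ₗ[R] M) fun _ hx => hx).2.2

omit [Algebra.EssFiniteType R A] [Module.Flat R A] in
theorem isLocalRing_fibre : IsLocalRing (ResidueField R ⊗[R] A) := by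
  let ι : A →ₐ[R] ResidueField R ⊗[R] A := Algebra.TensorProduct.includeRight
  have hι : Surjective ι :=
    TensorProduct.mk_surjective R A (ResidueField R) residue_surjective
  have : Nontrivial (ResidueField R ⊗[R] A) := by
    let f : ResidueField R ⊗[R] A →ₐ[R] ResidueField A :=
      Algebra.TensorProduct.lift (Ideal.Quotient.liftₐ (maximalIdeal R) (Algebra.ofId R (ResidueField A)) fun a ha => by
        show algebraMap R (ResidueField A) a = 0
        rw [IsScalarTower.algebraMap_apply R A (ResidueField A)]
        exact (residue_eq_zero_iff _).2 (map_nonunit (algebraMap R A) a ha))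
        (IsScalarTower.toAlgHom R A (ResidueField A)) fun _ _ => .all _ _
    exact f.toRingHom.domain_nontrivial
  exact .of_surjective' ι.toRingHom hι

variable (hreg : IsRegularRing (ResidueField R ⊗[R] A)) (S : Type u) [CommRing S] [Algebra A S]
  [Module.Flat A S]

include hreg in
theorem isRegularLocalRing_fibre : IsRegularLocalRing (ResidueField R ⊗[R] A) := by
  have := isLocalRing_fibre (R := R) (A := A)
  let e : Localization.AtPrime (maximalIdeal (ResidueField R ⊗[R] A)) ≃+* ResidueField R ⊗[R] A :=
    (IsLocalization.atUnits (ResidueField R ⊗[R] A) (maximalIdeal (ResidueField R ⊗[R] A)).primeCompl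
      fun x hx => of_not_not fun hu => hx ((mem_maximalIdeal _).2 hu)).symm.toRingEquiv
  exact IsRegularLocalRing.of_ringEquiv e

/-- Induction on the projective dimension of the closed fibre. -/
theorem isStablyFree_of_pd [IsNoetherianRing (ResidueField R ⊗[R] A)] :
    ∀ (n : ℕ) (M : Type u) [AddCommGroup M] [Module A M] [Module R M] [IsScalarTower R A M]
      [Module.Finite A M] [Module.Flat R M],
      PD (ResidueField R ⊗[R] A) (n + 1) ((ResidueField R ⊗[R] A) ⊗[A] M) →
      Module.Projective S (S ⊗[A] M) → Module.IsStablyFree S (S ⊗[A] M) := by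
  let Ab := ResidueField R ⊗[R] A
  have := isLocalRing_fibre (R := R) (A := A)
  have hcomm : ∀ (M : Type u) [AddCommGroup M] [Module A M] [Module R M] [IsScalarTower R A M]
      [Module.Flat R M] {F : Type u} [AddCommGroup F] [Module A F] [Module R F] [IsScalarTower R A F]
      (f : F →ₗ[A] M), Surjective f → Injective ((LinearMap.ker f).subtype.baseChange Ab) := by
    intro M _ _ _ _ _ F _ _ _ _ f hf
    let e := fun (X : Type u) [AddCommGroup X] [Module A X] [Module R X] [IsScalarTower R A X] =>
      (((TensorProduct.comm A Ab X).restrictScalars R).trans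
        ((LinearEquiv.lTensor X ((Algebra.TensorProduct.commRight R A (ResidueField R)).symm.toLinearEquiv)).restrictScalars R)).trans
        ((AlgebraTensorModule.cancelBaseChange R A A X (ResidueField R)).restrictScalars R)
    have hinj := (LinearMap.lTensor_inj_iff_rTensor_inj (M := ResidueField R) (f := (LinearMap.ker f).subtype.restrictScalars R)).1
      (LinearMap.lTensor_injective_of_exact_of_flat (f.restrictScalars R) hf ((LinearMap.ker f).subtype.restrictScalars R)
        Subtype.val_injective (LinearMap.exact_subtype_ker_map f) (ResidueField R))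
    have hnat : ∀ z, e F ((LinearMap.ker f).subtype.baseChange Ab z) =
        ((LinearMap.ker f).subtype.restrictScalars R).rTensor (ResidueField R) (e (LinearMap.ker f) z) := fun z => by
      induction z using TensorProduct.induction_on with
      | zero => simp
      | add x y hx hy => simp only [map_add, hx, hy]
      | tmul a x =>
        induction a using TensorProduct.induction_on with
        | zero => simp
        | add a b ha hb => simp only [add_tmul, map_add, ha, hb]
        | tmul c b =>
          show AlgebraTensorModule.cancelBaseChange R A A F (ResidueField R) ((x : F) ⊗ₜ[A] (b ⊗ₜ[R] c)) =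
            ((LinearMap.ker f).subtype.restrictScalars R).rTensor (ResidueField R)
              (AlgebraTensorModule.cancelBaseChange R A A (LinearMap.ker f) (ResidueField R) (x ⊗ₜ[A] (b ⊗ₜ[R] c)))
          rw [AlgebraTensorModule.cancelBaseChange_tmul, AlgebraTensorModule.cancelBaseChange_tmul, LinearMap.rTensor_tmul]
          rfl
    intro a b hab
    apply (e (LinearMap.ker f)).injective
    apply hinj
    rw [← hnat, ← hnat, hab]
  intro n
  induction n with
  | zero =>
    intro M _ _ _ _ _ _ h _
    have := pd_one_iff.1 h
    have : Module.Free Ab (Ab ⊗[A] M) := Module.free_of_flat_of_isLocalRing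
    let b := Module.Free.chooseBasis Ab (Ab ⊗[A] M)
    have hι : Surjective (algebraMap A Ab) := TensorProduct.mk_surjective R A (ResidueField R) residue_surjective
    choose l hl using fun i => TensorProduct.mk_surjective A M Ab hι (b i)
    let f : (Module.Free.ChooseBasisIndex Ab (Ab ⊗[A] M) → A) →ₗ[A] M := Fintype.linearCombination A l
    have hkA : IsLocalHom (algebraMap A Ab) := .of_surjective _ hι
    -- reduction to the residue field of `A`
    let kA := ResidueField A
    let ψ : Ab →ₐ[R] kA :=
      Algebra.TensorProduct.lift (Ideal.Quotient.liftₐ (maximalIdeal R) (Algebra.ofId R kA) fun a ha => by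
        show algebraMap R kA a = 0
        rw [IsScalarTower.algebraMap_apply R A kA]
        exact (residue_eq_zero_iff _).2 (map_nonunit (algebraMap R A) a ha))
        (IsScalarTower.toAlgHom R A kA) fun _ _ => .all _ _
    let _ : Algebra Ab kA := ψ.toRingHom.toAlgebra
    have : IsScalarTower A Ab kA := .of_algebraMap_eq fun x => by
      show _ = ψ ((1 : ResidueField R) ⊗ₜ[R] x)
      rw [Algebra.TensorProduct.lift_tmul, map_one, one_mul]
      rfl
    have hzero : ∀ (X : Type u) [AddCommGroup X] [Module A X] [Module.Finite A X],
        Subsingleton (Ab ⊗[A] X) → Subsingleton X := fun X _ _ _ hX => by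
      have : Subsingleton (kA ⊗[A] X) :=
        (AlgebraTensorModule.cancelBaseChange A Ab Ab kA X).symm.toEquiv.subsingleton
      exact IsLocalRing.subsingleton_tensorProduct.1 this
    have hfs : Surjective f := by
      have hsub : Subsingleton (Ab ⊗[A] (M ⧸ LinearMap.range f)) := by
        have hg : Surjective ((LinearMap.range f).mkQ.baseChange Ab) :=
          LinearMap.lTensor_surjective Ab (Submodule.mkQ_surjective _)
        refine subsingleton_of_forall_eq 0 fun z => ?_
        obtain ⟨z, rfl⟩ := hg z
        have hmem : z ∈ Submodule.span Ab (Set.range b) := by rw [b.span_eq]; trivial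
        refine (show Submodule.span Ab (Set.range b) ≤ LinearMap.ker _ from Submodule.span_le.2 ?_) hmem
        rintro _ ⟨i, rfl⟩
        show (LinearMap.range f).mkQ.baseChange Ab (b i) = 0
        rw [← hl i, TensorProduct.mk_apply, LinearMap.baseChange_tmul, Submodule.mkQ_apply,
          (Submodule.Quotient.mk_eq_zero _).2 (show l i ∈ LinearMap.range f from ⟨Pi.single i 1, by simp [f]⟩), tmul_zero]
      have := hzero _ hsub
      exact LinearMap.range_eq_top.1 (Submodule.Quotient.subsingleton_iff.1 this)
    have hM : Module.FinitePresentation A M := finitePresentation_of_flat (R := R) M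
    have : Module.Finite A (LinearMap.ker f) := Module.Finite.iff_fg.2 (Module.FinitePresentation.fg_ker f hfs)
    have hbij : Bijective (f.baseChange Ab) := by
      refine OrzechProperty.bijective_of_surjective_of_finrank_le _ (LinearMap.lTensor_surjective Ab hfs) ?_
      rw [Module.finrank_baseChange, Module.finrank_pi, Module.finrank_eq_card_chooseBasisIndex Ab (Ab ⊗[A] M)]
    have : Subsingleton (Ab ⊗[A] LinearMap.ker f) := by
      refine subsingleton_of_forall_eq 0 fun z => hcomm M f hfs ?_
      apply hbij.1
      rw [map_zero, map_zero]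
      show f.lTensor Ab ((LinearMap.ker f).subtype.lTensor Ab z) = 0
      rw [← LinearMap.comp_apply, ← LinearMap.lTensor_comp, LinearMap.comp_ker_subtype, LinearMap.lTensor_zero,
        LinearMap.zero_apply]
    have := hzero _ this
    have hfi : Injective f := LinearMap.ker_eq_bot.1 Submodule.eq_bot_of_subsingleton
    have : Module.Free A M := Module.Free.of_equiv (LinearEquiv.ofBijective f ⟨hfi, hfs⟩)
    infer_instance
  | succ n ih =>
    intro M _ _ _ _ _ _ h hproj
    obtain ⟨m, f, hf⟩ := Module.Finite.exists_fin' A M
    have hM : Module.FinitePresentation A M := finitePresentation_of_flat (R := R) M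
    have : Module.Finite A (LinearMap.ker f) := Module.Finite.iff_fg.2 (Module.FinitePresentation.fg_ker f hf)
    have : Module.Flat R (Fin m → A) := Module.Flat.trans R A _
    have : Module.Flat R (LinearMap.ker f) := flat_ker (f.restrictScalars R) hf
    have hex' : Exact ((LinearMap.ker f).subtype.baseChange Ab) (f.baseChange Ab) :=
      lTensor_exact Ab (LinearMap.exact_subtype_ker_map f) hf
    have hpd : PD Ab (n + 1) (Ab ⊗[A] LinearMap.ker f) := by
      refine (pd_congr ?_).2 ((pd_ker_iff (F := Ab ⊗[A] (Fin m → A)) (f := f.baseChange Ab)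
        (LinearMap.lTensor_surjective Ab hf) n).1 h)
      exact (LinearEquiv.ofInjective _ (hcomm M f hf)).trans
        (LinearEquiv.ofEq _ _ (LinearMap.exact_iff.1 hex').symm)
    let g := f.baseChange S
    let i := (LinearMap.ker f).subtype.baseChange S
    have hg : Surjective g := LinearMap.lTensor_surjective S hf
    have hi : Injective i := Module.Flat.lTensor_preserves_injective_linearMap (M := S) _ Subtype.val_injective
    have hex : Exact i g := Module.Flat.lTensor_exact S (LinearMap.exact_subtype_ker_map f)
    obtain ⟨l, hl⟩ := Module.projective_lifting_property g LinearMap.id hg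
    let e := (hex.splitSurjectiveEquiv hi ⟨l, hl⟩).1
    have : Module.Projective S (S ⊗[A] LinearMap.ker f) :=
      Module.Projective.of_split (e.symm.toLinearMap ∘ₗ LinearMap.inl S _ _) (LinearMap.fst S _ _ ∘ₗ e.toLinearMap)
        (LinearMap.ext fun z => by simp)
    have := ih _ hpd this
    obtain ⟨N, _, _, _, _, _⟩ := Module.IsStablyFree.exist_free_prod S (S ⊗[A] LinearMap.ker f)
    have : Module.Free S ((S ⊗[A] M) × ((S ⊗[A] LinearMap.ker f) × N)) :=
      Module.Free.of_equiv (((e.trans (LinearEquiv.prodComm S _ _)).prodCongr (LinearEquiv.refl S N)).trans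
        (LinearEquiv.prodAssoc S (S ⊗[A] M) (S ⊗[A] LinearMap.ker f) N))
    exact Module.IsStablyFree.of_free_prod S _ ((S ⊗[A] LinearMap.ker f) × N)

end

theorem subsingleton_pic {R A : Type u} [CommRing R] [IsDomain R] [ValuationRing R] [CommRing A]
    [IsLocalRing A] [Algebra R A] [IsLocalHom (algebraMap R A)] [Module.Flat R A] [Algebra.EssFiniteType R A]
    (hreg : IsRegularRing (ResidueField R ⊗[R] A)) :
    Subsingleton (CommRing.Pic (FractionRing R ⊗[R] A)) := by
  classical
  have := isRegularLocalRing_fibre hreg
  let S := FractionRing R ⊗[R] A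
  rw [CommRing.Pic.subsingleton_iff]
  intro L _ _ _
  rcases subsingleton_or_nontrivial S with hS | hS
  · have : Subsingleton L := Module.subsingleton S L
    infer_instance
  let T := Algebra.algebraMapSubmonoid A (nonZeroDivisors R)
  have : IsLocalization T S := (Algebra.isLocalization_iff_isPushout (nonZeroDivisors R) (FractionRing R)).2 inferInstance
  have : Module.Flat A S := IsLocalization.flat S T
  obtain ⟨G, hG⟩ := (Module.finite_def (R := S) (M := L)).1 inferInstance
  let _ : Module A L := Module.compHom L (algebraMap A S)
  have : IsScalarTower A S L := .of_algebraMap_smul fun _ _ => rfl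
  let _ : Module R L := Module.compHom L (algebraMap R S)
  have : IsScalarTower R S L := ⟨fun r s x => by
    show _ = algebraMap R S r • (s • x)
    rw [smul_smul, ← Algebra.smul_def]⟩
  have : IsScalarTower R A L := .of_algebraMap_smul fun r x => by
    show algebraMap A S (algebraMap R A r) • x = algebraMap R S r • x
    rw [← IsScalarTower.algebraMap_apply R A S]
  let M : Submodule A L := Submodule.span A (G : Set L)
  have : Module.Finite A M := Module.Finite.iff_fg.2 ⟨G, rfl⟩
  have hu : ∀ t : T, IsUnit (algebraMap A S t) := IsLocalization.map_units S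
  have : Module.Flat R M := by
    refine Module.Flat.flat_iff_torsion_eq_bot_of_isBezout.2 (Submodule.isTorsionFree_iff_torsion_eq_bot.1 ?_)
    refine Module.IsTorsionFree.of_smul_eq_zero fun r x hrx => or_iff_not_imp_left.2 fun hr => ?_
    have h1 : algebraMap A S (algebraMap R A r) • (x : L) = 0 := by
      rw [algebraMap_smul, algebraMap_smul]
      exact congrArg Subtype.val hrx
    exact Subtype.ext ((IsUnit.smul_eq_zero (hu ⟨_, r, mem_nonZeroDivisors_of_ne_zero hr, rfl⟩)).1 h1)
  have hloc : IsLocalizedModule T M.subtype :=
    { map_units := fun t => (Module.End.isUnit_iff _).2 ⟨fun x y h => (hu t).smul_left_cancel.1 (by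
          rw [algebraMap_smul, algebraMap_smul]; exact h), fun y => by
        obtain ⟨v, hv⟩ := (hu t).exists_right_inv
        refine ⟨v • y, ?_⟩
        show (t : A) • v • y = y
        rw [← algebraMap_smul S (t : A), smul_smul, hv, one_smul]⟩
      surj := fun y => by
        have hy : y ∈ Submodule.span S (G : Set L) := hG ▸ Submodule.mem_top
        induction hy using Submodule.span_induction with
        | mem g hg => exact ⟨(⟨g, Submodule.subset_span hg⟩, 1), by simp⟩
        | zero => exact ⟨(0, 1), by simp⟩
        | add x y _ _ hx hy =>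
          obtain ⟨⟨x', t⟩, hx⟩ := hx
          obtain ⟨⟨y', t'⟩, hy⟩ := hy
          refine ⟨((t' : A) • x' + (t : A) • y', t * t'), ?_⟩
          simp only [Submonoid.smul_def, Submonoid.coe_mul, map_add, map_smul] at hx hy ⊢
          rw [← hx, ← hy, smul_add, mul_smul, mul_smul, smul_comm (t : A) (t' : A) x]
        | smul s x _ hx =>
          obtain ⟨⟨a, t⟩, hs⟩ := IsLocalization.surj T s
          obtain ⟨⟨x', t'⟩, hx⟩ := hx
          refine ⟨(a • x', t * t'), ?_⟩
          simp only [Submonoid.smul_def, Submonoid.coe_mul, map_smul] at hx ⊢
          rw [← hx, ← algebraMap_smul S a, ← algebraMap_smul S ((t : A) * (t' : A)),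
            ← algebraMap_smul S (t' : A) x, smul_smul, smul_smul, map_mul, ← hs]
          congr 1
          ring
      exists_of_eq := fun h => ⟨1, by rw [Subtype.ext h]⟩ }
  have hbc : IsBaseChange S M.subtype := IsLocalizedModule.isBaseChange T S M.subtype
  have : Module.Invertible S L := ‹_›
  have : Module.Projective S (S ⊗[A] M) := Module.Projective.of_equiv hbc.equiv.symm
  have := isStablyFree_of_pd (R := R) (A := A) S _ M (pd_finite _) this
  have : Module.IsStablyFree S L := Module.IsStablyFree.equiv (R := S) (M := S ⊗[A] M) hbc.equiv
  exact free_of_isStablyFree L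

end Groth.Agent.CAlgH.PicGenericFibre
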