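import Groth.Agent.UPLib.SpecInv
import Groth.Agent.Formal2Lib.SatBasic
import Mathlib.RingTheory.Noetherian.Basic
import Mathlib.RingTheory.Ideal.Maps

/-!
# Modules which are free of rank one away from a closed set
-/

set_option autoImplicit false

universe u v

namespace Groth.Agent.CAlgH.PicPunct

open Groth.Agent.UPLib (GenAt)
open Groth.Agent.Formal2Lib.Sat (TorsMem)

variable {A : Type u} [CommRing A] {𝔞 : Ideal A}
variable {M N : Type u} [AddCommGroup M] [Module A M] [AddCommGroup N] [Module A N]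

/-- Free of rank one at every prime not containing `𝔞`. -/
def InvAway (𝔞 : Ideal A) (M : Type u) [AddCommGroup M] [Module A M] : Prop :=
  ∀ (p : Ideal A) [p.IsPrime], ¬ 𝔞 ≤ p → ∃ t : M, GenAt p.primeCompl t

/-- An isomorphism away from `𝔞`: torsion kernel and cokernel. -/
structure OffIso (𝔞 : Ideal A) (w : M →ₗ[A] N) : Prop where
  ker : ∀ x, w x = 0 → ∃ m : ℕ, ∀ b ∈ 𝔞 ^ m, b • x = 0
  coker : ∀ y, ∃ m : ℕ, ∀ b ∈ 𝔞 ^ m, b • y ∈ LinearMap.range w

theorem torsMem_of_local {S : Submodule A M} {x : M}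
    (h : ∀ (p : Ideal A) [p.IsPrime], ¬ 𝔞 ≤ p → ∃ s ∈ p.primeCompl, s • x ∈ S) : TorsMem 𝔞 S x := by
  intro a ha
  let C : Ideal A := S.comap (LinearMap.toSpanSingleton A M x)
  have : a ∈ C.radical := by
    rw [Ideal.radical_eq_sInf, Submodule.mem_sInf]
    rintro p ⟨hCp, hp⟩
    by_contra hap
    obtain ⟨s, hs, hsx⟩ := h p fun hle => hap (hle ha)
    exact hs (hCp hsx)
  exact this

theorem exists_pow_kill_of_local [IsNoetherianRing A] {x : M}
    (h : ∀ (p : Ideal A) [p.IsPrime], ¬ 𝔞 ≤ p → ∃ s ∈ p.primeCompl, s • x = 0) :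
    ∃ m : ℕ, ∀ b ∈ 𝔞 ^ m, b • x = 0 := by
  obtain ⟨m, hm⟩ := (torsMem_of_local (S := (⊥ : Submodule A M)) fun p _ hp => by
    simpa using h p hp).exists_pow
  exact ⟨m, fun b hb => (Submodule.mem_bot A).1 (hm b hb)⟩

theorem exists_notMem_of_pow {m : ℕ} {p : Ideal A} [p.IsPrime] (hp : ¬ 𝔞 ≤ p) :
    ∃ b ∈ 𝔞 ^ m, b ∈ p.primeCompl := by
  obtain ⟨a, ha, hap⟩ := Set.not_subset.1 hp
  exact ⟨a ^ m, Ideal.pow_mem_pow ha m, fun h => hap (Ideal.IsPrime.mem_of_pow_mem ‹_› m h)⟩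

theorem OffIso.exists_ker {w : M →ₗ[A] N} (h : OffIso 𝔞 w) (p : Ideal A) [p.IsPrime] (hp : ¬ 𝔞 ≤ p)
    {x : M} (hx : w x = 0) : ∃ s ∈ p.primeCompl, s • x = 0 := by
  obtain ⟨m, hm⟩ := h.ker x hx
  obtain ⟨b, hb, hbp⟩ := exists_notMem_of_pow (m := m) hp
  exact ⟨b, hbp, hm b hb⟩

theorem OffIso.exists_coker {w : M →ₗ[A] N} (h : OffIso 𝔞 w) (p : Ideal A) [p.IsPrime] (hp : ¬ 𝔞 ≤ p)
    (y : N) : ∃ s ∈ p.primeCompl, ∃ x, w x = s • y := by
  obtain ⟨m, hm⟩ := h.coker y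
  obtain ⟨b, hb, hbp⟩ := exists_notMem_of_pow (m := m) hp
  exact ⟨b, hbp, hm b hb⟩

theorem OffIso.of_local [IsNoetherianRing A] {w : M →ₗ[A] N}
    (h1 : ∀ (p : Ideal A) [p.IsPrime], ¬ 𝔞 ≤ p → ∀ x, w x = 0 → ∃ s ∈ p.primeCompl, s • x = 0)
    (h2 : ∀ (p : Ideal A) [p.IsPrime], ¬ 𝔞 ≤ p → ∀ y, ∃ s ∈ p.primeCompl, ∃ x, w x = s • y) :
    OffIso 𝔞 w where
  ker x hx := exists_pow_kill_of_local fun p _ hp => h1 p hp x hx
  coker y := by
    obtain ⟨m, hm⟩ := (torsMem_of_local (S := LinearMap.range w) fun p _ hp => h2 p hp y).exists_pow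
    exact ⟨m, hm⟩

theorem OffIso.comp [IsNoetherianRing A] {P : Type u} [AddCommGroup P] [Module A P] {w : M →ₗ[A] N}
    {v : N →ₗ[A] P} (hv : OffIso 𝔞 v) (hw : OffIso 𝔞 w) : OffIso 𝔞 (v ∘ₗ w) :=
  OffIso.of_local (fun p _ hp x hx => by
      obtain ⟨s, hs, h⟩ := hv.exists_ker p hp (x := w x) hx
      obtain ⟨t, ht, h'⟩ := hw.exists_ker p hp (x := s • x) (by rw [map_smul, h])
      exact ⟨t * s, mul_mem ht hs, by rw [mul_smul, h']⟩)
    fun p _ hp y => by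
      obtain ⟨s, hs, x, hx⟩ := hv.exists_coker p hp y
      obtain ⟨t, ht, z, hz⟩ := hw.exists_coker p hp x
      exact ⟨t * s, mul_mem ht hs, z, by rw [LinearMap.comp_apply, hz, map_smul, hx, mul_smul]⟩

theorem GenAt_map {w : M →ₗ[A] N} (h : OffIso 𝔞 w) (p : Ideal A) [p.IsPrime] (hp : ¬ 𝔞 ≤ p) {t : M}
    (ht : GenAt p.primeCompl t) : GenAt p.primeCompl (w t) := by
  refine ⟨fun y => ?_, fun a ha => ?_⟩
  · obtain ⟨s, hs, x, hx⟩ := h.exists_coker p hp y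
    obtain ⟨r, hr, a, e⟩ := ht.surj x
    exact ⟨r * s, mul_mem hr hs, a, by rw [mul_smul, ← hx, ← map_smul, e, map_smul]⟩
  · obtain ⟨s, hs, e⟩ := h.exists_ker p hp (x := a • t) (by rw [map_smul, ha])
    obtain ⟨r, hr, e'⟩ := ht.inj (s * a) (by rw [mul_smul, e])
    exact ⟨r * s, mul_mem hr hs, by rw [mul_assoc, e']⟩

theorem exists_genAt_of_map {w : M →ₗ[A] N} (h : OffIso 𝔞 w) (p : Ideal A) [p.IsPrime] (hp : ¬ 𝔞 ≤ p)
    (ht : ∃ t : N, GenAt p.primeCompl t) : ∃ t : M, GenAt p.primeCompl t := by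
  obtain ⟨t, ht⟩ := ht
  obtain ⟨s, hs, x, hx⟩ := h.exists_coker p hp t
  refine ⟨x, fun y => ?_, fun a ha => ?_⟩
  · obtain ⟨r, hr, a, e⟩ := ht.surj (w y)
    obtain ⟨q, hq, e'⟩ := h.exists_ker p hp (x := (s * r) • y - a • x)
      (by rw [map_sub, map_smul, map_smul, hx, mul_smul, e, smul_comm, sub_self])
    refine ⟨q * (s * r), mul_mem hq (mul_mem hs hr), q * a, ?_⟩
    rw [smul_sub, sub_eq_zero] at e'
    rw [mul_smul, mul_smul q a, e']
  · obtain ⟨r, hr, e⟩ := ht.inj (a * s) (by rw [mul_smul, ← hx, ← map_smul, ha, map_zero])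
    exact ⟨r * s, mul_mem hr hs, by rw [← e]; ring⟩

theorem InvAway.of_offIso {w : M →ₗ[A] N} (h : OffIso 𝔞 w) (hN : InvAway 𝔞 N) : InvAway 𝔞 M :=
  fun p _ hp => exists_genAt_of_map h p hp (hN p hp)

theorem InvAway.map_offIso {w : M →ₗ[A] N} (h : OffIso 𝔞 w) (hM : InvAway 𝔞 M) : InvAway 𝔞 N :=
  fun p _ hp => let ⟨_, ht⟩ := hM p hp; ⟨_, GenAt_map h p hp ht⟩

theorem invAway_self (𝔞 : Ideal A) : InvAway 𝔞 A := fun p _ _ =>
  ⟨1, fun x => ⟨1, p.primeCompl.one_mem, x, by simp⟩,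
    fun a ha => ⟨1, p.primeCompl.one_mem, by simpa using ha⟩⟩

/-- A generator at a prime generates after inverting one element. -/
theorem exists_powers_genAt [IsNoetherianRing A] [Module.Finite A M] {p : Ideal A} [p.IsPrime] {t : M}
    (ht : GenAt p.primeCompl t) : ∃ g ∈ p.primeCompl, GenAt (Submonoid.powers g) t := by
  classical
  obtain ⟨S, hS⟩ := (Module.Finite.fg_top : (⊤ : Submodule A M).FG)
  obtain ⟨K, hK⟩ := IsNoetherian.noetherian (LinearMap.ker (LinearMap.toSpanSingleton A M t))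
  have h1 : ∀ x : M, ∃ s ∈ p.primeCompl, s • x ∈ A ∙ t := fun x => by
    obtain ⟨s, hs, a, e⟩ := ht.surj x
    exact ⟨s, hs, e ▸ Submodule.smul_mem _ _ (Submodule.mem_span_singleton_self t)⟩
  have h2 : ∀ a : K, ∃ s ∈ p.primeCompl, s * (a : A) = 0 := fun a => ht.inj a (by
    have : (a : A) ∈ LinearMap.ker (LinearMap.toSpanSingleton A M t) := hK ▸ Submodule.subset_span a.2
    exact this)
  choose s hs hs' using h1
  choose r hr hr' using h2
  refine ⟨(∏ x ∈ S, s x) * ∏ a : K, r a,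
    mul_mem (prod_mem fun x _ => hs x) (prod_mem fun a _ => hr a), fun x => ?_, fun a ha => ?_⟩
  · refine ⟨_, Submonoid.mem_powers _, ?_⟩
    have hx : x ∈ Submodule.span A (S : Set M) := hS ▸ Submodule.mem_top
    suffices h : ((∏ x ∈ S, s x) * ∏ a : K, r a) • x ∈ A ∙ t by
      obtain ⟨a, e⟩ := Submodule.mem_span_singleton.1 h
      exact ⟨a, e.symm⟩
    induction hx using Submodule.span_induction with
    | mem y hy =>
      obtain ⟨c, hc⟩ := Finset.dvd_prod_of_mem s (Finset.mem_coe.1 hy)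
      rw [hc, show s y * c * (∏ a : K, r a) = (c * ∏ a : K, r a) * s y by ring, mul_smul]
      exact Submodule.smul_mem _ _ (hs' y)
    | zero => rw [smul_zero]; exact zero_mem _
    | add y z _ _ hy hz => rw [smul_add]; exact add_mem hy hz
    | smul c y _ hy => rw [smul_comm]; exact Submodule.smul_mem _ _ hy
  · refine ⟨_, Submonoid.mem_powers _, ?_⟩
    have hx : a ∈ Submodule.span A (K : Set A) := hK ▸ (show a ∈ LinearMap.ker _ from ha)
    clear ha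
    induction hx using Submodule.span_induction with
    | mem y hy =>
      obtain ⟨c, hc⟩ := Finset.dvd_prod_of_mem r (Finset.mem_univ (⟨y, hy⟩ : K))
      rw [hc, show (∏ x ∈ S, s x) * (r ⟨y, hy⟩ * c) * y = (∏ x ∈ S, s x) * c * (r ⟨y, hy⟩ * y) by ring,
        show r ⟨y, hy⟩ * y = 0 from hr' ⟨y, hy⟩, mul_zero]
    | zero => rw [mul_zero]
    | add y z _ _ hy hz => rw [mul_add, hy, hz, add_zero]
    | smul c y _ hy => rw [smul_eq_mul, mul_left_comm, hy, mul_zero]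

end Groth.Agent.CAlgH.PicPunct
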