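import Groth.Agent.CAlgH.PicPunctBasic
import Groth.Agent.Formal2Lib.PicCompletion
import Groth.Agent.Formal2Lib.PuncturedAlgz
import Groth.Agent.ParaF29.Basic
import Groth.Agent.FlatMorThick.FiniteOrder
import Groth.Agent.AmpleLib.Local
import Groth.Agent.PicLib.FormalGen
import Groth.Agent.UPLib.SecKernel

/-!
# Invertible modules on punctured affine schemes as modules free of rank one away from a closed set
-/

set_option autoImplicit false
set_option backward.isDefEq.respectTransparency false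

universe u

open CategoryTheory CategoryTheory.Limits AlgebraicGeometry Opposite TopologicalSpace
open Groth.Agent.Coherent Groth.Agent.Coherent.Serre Groth.Agent.Formal2Lib
open scoped TensorProduct

namespace Groth.Agent.CAlgH.PicPunct

open Groth.Agent.Formal2Lib.Punct
open Groth.Agent.UPLib (GenAt)

variable {R : CommRingCat.{u}} (𝔞 : Ideal R)

/-- `T` of the ring is the structure sheaf. -/
noncomputable def unitIso : (T 𝔞).obj (ModuleCat.of R R) ≅ Coh.structureModule (US 𝔞) :=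
  Scheme.Modules.restrictUnitIso (jU 𝔞)

theorem nonempty_iso_of_offIso [IsNoetherianRing R] {M N : ModuleCat.{u} R} {w : M →ₗ[R] N}
    (h : OffIso 𝔞 w) : Nonempty ((T 𝔞).obj M ≅ (T 𝔞).obj N) :=
  have := isIso_T_of_torsion 𝔞 w h.ker h.coker
  ⟨asIso ((T 𝔞).map (ModuleCat.ofHom w))⟩

theorem exists_offIso_of_iso [IsNoetherianRing R]
    (h : ∀ i : ℕ, i < 2 → Subsingleton (_root_.LocCoh.H 𝔞 i R)) {M : ModuleCat.{u} R}
    (e : (T 𝔞).obj M ≅ Coh.structureModule (US 𝔞)) :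
    ∃ w : M →ₗ[R] R, OffIso 𝔞 w := by
  obtain ⟨w, h1, h2, -, -⟩ := exists_generator 𝔞 (unit_bijective 𝔞 h) M (e ≪≫ (unitIso 𝔞).symm)
  exact ⟨w, h1, h2⟩

/-- An invertible module on the punctured scheme has a model free of rank one away from the closed set. -/
theorem exists_invAway_model [IsNoetherianRing R] (L : (US 𝔞).Modules) (hL : PicF.IsInvertible L) :
    ∃ M : ModuleCat.{u} R, Module.Finite R M ∧ Nonempty ((T 𝔞).obj M ≅ L) ∧ InvAway 𝔞 M := by
  obtain ⟨M, hM, ⟨e⟩⟩ := exists_model 𝔞 L (Groth.Agent.PicLib.isCoh_of_isInvertible hL)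
  refine ⟨M, hM, ⟨e⟩, fun p _ hp => ?_⟩
  let x : US 𝔞 := ⟨(⟨p, inferInstance⟩ : PrimeSpectrum R), hp⟩
  obtain ⟨V, hxV, ⟨eV⟩⟩ := hL x
  obtain ⟨_, ⟨b, rfl⟩, hxb, hb⟩ := PrimeSpectrum.isTopologicalBasis_basic_opens.exists_subset_of_mem_open
    (show jU 𝔞 x ∈ jU 𝔞 ''ᵁ V from ⟨x, hxV, rfl⟩) (jU 𝔞 ''ᵁ V).2
  have hbU : D b ≤ LocCoh.puncturedOpen R 𝔞 := fun y hy => by
    obtain ⟨z, -, rfl⟩ := hb hy
    exact z.2
  have hle : jU 𝔞 ⁻¹ᵁ D b ≤ V := fun y hy => by
    obtain ⟨z, hz, hzy⟩ := hb hy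
    rwa [← (jU 𝔞).isOpenEmbedding.injective hzy]
  let O : ModuleCat.{u} R := ModuleCat.of R R
  let eV' : (Scheme.Modules.restrictFunctor V.ι).obj ((T 𝔞).obj M) ≅
      (Scheme.Modules.restrictFunctor V.ι).obj ((T 𝔞).obj O) :=
    (Scheme.Modules.restrictFunctor V.ι).mapIso e ≪≫ eV ≪≫ (Scheme.Modules.restrictUnitIso V.ι).symm ≪≫
      (Scheme.Modules.restrictFunctor V.ι).mapIso (unitIso 𝔞).symm
  obtain ⟨β, hβ⟩ := exists_sections_equiv 𝔞 V eV' (jU 𝔞 ⁻¹ᵁ D b) hle
  let βl : Γ(P 𝔞 ((T 𝔞).obj M), D b) ≃ₗ[R] Γ(P 𝔞 ((T 𝔞).obj O), D b) :=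
    AddEquiv.toLinearEquiv β fun c y => by
      rw [← smul_app 𝔞 _ c (D b) y]
      exact (hβ c y).trans (smul_app 𝔞 _ c (D b) _)
  have h1 := isLocalizedModule_lam 𝔞 M hbU
  have h2 := isLocalizedModule_lam 𝔞 O hbU
  obtain ⟨⟨m, ⟨_, k, rfl⟩⟩, hm⟩ := IsLocalizedModule.surj (Submonoid.powers b) (lam 𝔞 M b)
    (βl.symm (lam 𝔞 O b (1 : R)))
  replace hm : βl (lam 𝔞 M b m) = b ^ k • lam 𝔞 O b (1 : R) := by
    refine βl.symm.injective ?_
    rw [LinearEquiv.symm_apply_apply, map_smul]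
    exact hm.symm
  refine ⟨m, GenAt.mono (S := Submonoid.powers b) ⟨fun y => ?_, fun a ha => ?_⟩ (Submonoid.powers_le.2 hxb)⟩
  · obtain ⟨⟨r, ⟨_, j, rfl⟩⟩, hr⟩ := IsLocalizedModule.surj (Submonoid.powers b) (lam 𝔞 O b) (βl (lam 𝔞 M b y))
    change b ^ j • βl (lam 𝔞 M b y) = lam 𝔞 O b r at hr
    have h3 : lam 𝔞 M b (b ^ (j + k) • y) = lam 𝔞 M b ((show R from r) • m) := by
      refine βl.injective ?_
      rw [map_smul, map_smul, map_smul, map_smul, hm, smul_comm, ← map_smul (lam 𝔞 O b)]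
      rw [show (show R from r) • (1 : R) = (r : R) from mul_one _, pow_add, mul_comm, mul_smul, hr]
    obtain ⟨⟨_, i, rfl⟩, hi⟩ := IsLocalizedModule.exists_of_eq (S := Submonoid.powers b) h3
    exact ⟨b ^ i * b ^ (j + k), mul_mem ⟨i, rfl⟩ ⟨j + k, rfl⟩, b ^ i * (show R from r),
      by rw [mul_smul, mul_smul]; exact hi⟩
  · have h3 : lam 𝔞 O b (a * b ^ k : R) = lam 𝔞 O b (0 : R) := by
      have := congrArg (fun z => βl (lam 𝔞 M b z)) ha
      simp only [map_smul, map_zero, hm, smul_smul] at this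
      rw [← map_smul] at this
      simp only [map_zero]
      rw [← this]
      exact congrArg _ (mul_one _).symm
    obtain ⟨⟨_, i, rfl⟩, hi⟩ := IsLocalizedModule.exists_of_eq (S := Submonoid.powers b) h3
    refine ⟨b ^ i * b ^ k, mul_mem ⟨i, rfl⟩ ⟨k, rfl⟩, ?_⟩
    have hi' : b ^ i * (a * b ^ k) = b ^ i * 0 := hi
    linear_combination hi'

/-- A module free of rank one away from the closed set gives an invertible module. -/
theorem isInvertible_T [IsNoetherianRing R] (M : ModuleCat.{u} R) [Module.Finite R M] (h : InvAway 𝔞 M) :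
    PicF.IsInvertible ((T 𝔞).obj M) := by
  haveI : Coh.IsQCoh (tilde M) := inferInstanceAs ((tilde M).IsQuasicoherent)
  refine Groth.Agent.PicLib.isInvertible_of_gens fun y => ?_
  obtain ⟨t, ht⟩ := h (jU 𝔞 y).asIdeal y.2
  obtain ⟨g, hg, hgen⟩ := exists_powers_genAt ht
  let a := UPLib.topEquiv M t
  let W := AmpleLib.glocus (tilde M) a
  have hy : jU 𝔞 y ∈ W := UPLib.le_glocus_of_genAt _ g (UPLib.genAt_congr (UPLib.topEquiv M) hgen)
    (show jU 𝔞 y ∈ specBasicOpen g from hg)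
  have hs := AmpleLib.isGen_glocus (L := tilde M) a
  let j := jU 𝔞
  let s := resM (tilde M) (le_top : W ≤ ⊤) a
  refine ⟨j ⁻¹ᵁ W, hy, ((tilde M).restrictAppIso j _).inv (resM (tilde M) (j.image_preimage_le W) s),
    fun W' hW => ?_⟩
  have hb := hs (j ''ᵁ W') ((j.image_mono hW).trans (j.image_preimage_le W))
  have hb3 := ConcreteCategory.bijective_of_isIso (j.appIso W').inv
  have hb2 := ConcreteCategory.bijective_of_isIso ((tilde M).restrictAppIso j W').hom
  refine (Function.Bijective.of_comp_iff' hb2 _).1 ?_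
  convert hb.comp hb3 using 1
  funext r
  refine (Scheme.Modules.smul_restrictAppIso_hom_apply j (tilde M) W' r _).trans ?_
  show _ • _ = _ • _
  rw [← resM_resM (tilde M) (j.image_preimage_le W) (j.image_mono hW) s]
  rfl

/-- The pullback of `T M` along the closed subscheme is `T` of the base change. -/
theorem exists_pullback_T {A B : Type u} [CommRing A] [CommRing B] [Algebra A B] (𝔞 : Ideal A) (𝔟 : Ideal B)
    (hb : 𝔟 = 𝔞.map (algebraMap A B)) :
    ∃ c : (↑(Spec.map (CommRingCat.ofHom (algebraMap A B)) ⁻¹ᵁ LocCoh.puncturedOpen A 𝔞) : Scheme.{u}) ≅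
        US (R := CommRingCat.of B) 𝔟,
      ∀ M : ModuleCat.{u} A, Nonempty ((Scheme.Modules.pullback c.hom).obj
          ((T (R := CommRingCat.of B) 𝔟).obj (ModuleCat.of B (B ⊗[A] M))) ≅
          (Scheme.Modules.pullback (Spec.map (CommRingCat.ofHom (algebraMap A B)) ∣_ LocCoh.puncturedOpen A 𝔞)).obj
            ((T (R := CommRingCat.of A) 𝔞).obj M)) := by
  let g := Spec.map (CommRingCat.ofHom (algebraMap A B))
  let U0 := LocCoh.puncturedOpen A 𝔞
  let V := g ⁻¹ᵁ U0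
  have hV : V = LocCoh.puncturedOpen B 𝔟 := Opens.ext (Set.ext fun (q : PrimeSpectrum B) => by
    subst hb
    show (¬ (𝔞 : Set A) ⊆ (q.asIdeal.comap (algebraMap A B) : Set A)) ↔
      ¬ ((𝔞.map (algebraMap A B) : Ideal B) : Set B) ⊆ (q.asIdeal : Set B)
    exact not_congr (Ideal.map_le_iff_le_comap (f := algebraMap A B)).symm)
  refine ⟨(Spec (CommRingCat.of B)).isoOfEq hV, fun M => ?_⟩
  obtain ⟨a⟩ := Groth.Agent.S2265.result A B M
  let X : (Spec (CommRingCat.of A)).Modules := tilde (R := CommRingCat.of A) M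
  let i1 : (Scheme.Modules.pullback V.ι).obj ((Scheme.Modules.pullback g).obj X) ≅
      (Scheme.Modules.pullback (g ∣_ U0)).obj ((Scheme.Modules.pullback U0.ι).obj X) :=
    (Scheme.Modules.pullbackComp V.ι g).app X ≪≫
      (Scheme.Modules.pullbackCongr (morphismRestrict_ι g U0).symm).app X ≪≫
      ((Scheme.Modules.pullbackComp (g ∣_ U0) U0.ι).app X).symm
  let i2 : (Scheme.Modules.pullback V.ι).obj
        (tilde (R := CommRingCat.of B) (ModuleCat.of B (B ⊗[A] M))) ≅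
      (Scheme.Modules.pullback (g ∣_ U0)).obj ((T (R := CommRingCat.of A) 𝔞).obj M) :=
    (Scheme.Modules.pullback V.ι).mapIso a.symm ≪≫ i1 ≪≫
      (Scheme.Modules.pullback (g ∣_ U0)).mapIso ((Scheme.Modules.restrictFunctorIsoPullback U0.ι).app X).symm
  have hc : ((Spec (CommRingCat.of B)).isoOfEq hV).hom ≫ jU (R := CommRingCat.of B) 𝔟 = V.ι := Scheme.isoOfEq_hom_ι _ _
  exact ⟨(Scheme.Modules.pullback _).mapIso ((Scheme.Modules.restrictFunctorIsoPullback
      (jU (R := CommRingCat.of B) 𝔟)).app _) ≪≫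
    (Scheme.Modules.pullbackComp _ (jU (R := CommRingCat.of B) 𝔟)).app _ ≪≫
    (Scheme.Modules.pullbackCongr hc).app _ ≪≫ i2⟩

end Groth.Agent.CAlgH.PicPunct
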