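import Groth.Agent.CAlgH.PicPunctBridge
import Groth.Agent.PicDef15.Cech
import Groth.Agent.CAlgH3.PuncturedCoh

/-!
# Čech two-cocycles modulo an element on a punctured affine scheme
-/

set_option autoImplicit false
set_option backward.isDefEq.respectTransparency false

universe u

open CategoryTheory CategoryTheory.Limits AlgebraicGeometry Opposite TopologicalSpace
open Groth.Agent.Coherent Groth.Agent.Formal2Lib

namespace Groth.Agent.CAlgH.PicPunct

open Groth.Agent.Formal2Lib.Punct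

section rings

variable {A : Type u} [CommRing A]

/-- `y` refines `x`: `x` becomes a unit after inverting `y`. -/
def Dv (x y : A) : Prop := IsUnit (algebraMap A (Localization.Away y) x)

theorem Dv.refl (x : A) : Dv x x := IsLocalization.Away.algebraMap_isUnit x

theorem Dv.mul {x x' y : A} (h : Dv x y) (h' : Dv x' y) : Dv (x * x') y := by
  rw [Dv, map_mul]; exact IsUnit.mul h h'

theorem Dv.of_dvd {x y : A} (h : x ∣ y) : Dv x y :=
  isUnit_of_dvd_unit (map_dvd (algebraMap A (Localization.Away y)) h) (Dv.refl y)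

/-- Restriction between basic localisations. -/
noncomputable def res {x y : A} (h : Dv x y) : Localization.Away x →ₐ[A] Localization.Away y :=
  IsLocalization.liftAlgHom (M := Submonoid.powers x) (f := Algebra.ofId A (Localization.Away y))
    fun s => by
      obtain ⟨_, k, rfl⟩ := s
      show IsUnit (algebraMap A (Localization.Away y) (x ^ k))
      rw [map_pow]; exact h.pow k

theorem algHom_ext {x : A} {B : Type*} [CommRing B] [Algebra A B] (f g : Localization.Away x →ₐ[A] B)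
    (a : Localization.Away x) : f a = g a := by
  rw [show f = g from IsLocalization.algHom_ext (Submonoid.powers x) (Subsingleton.elim _ _)]

theorem Dv.trans {x y z : A} (h : Dv x y) (h' : Dv y z) : Dv x z := by
  have h1 := h.map (res h').toRingHom
  rwa [AlgHom.toRingHom_eq_coe, RingHom.coe_coe, AlgHom.commutes] at h1

theorem res_res {x y z : A} (h : Dv x y) (h' : Dv y z) (a : Localization.Away x) :
    res h' (res h a) = res (h.trans h') a := algHom_ext ((res h').comp (res h)) _ a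

theorem res_self {x : A} (h : Dv x x) (a : Localization.Away x) : res h a = a :=
  algHom_ext (res h) (AlgHom.id A _) a

theorem Dv.mul_left {x x' y : A} (h : Dv (x * x') y) : Dv x y := by
  rw [Dv, map_mul] at h; exact isUnit_of_mul_isUnit_left h

theorem Dv.mul_right {x x' y : A} (h : Dv (x * x') y) : Dv x' y := by
  rw [Dv, map_mul] at h; exact isUnit_of_mul_isUnit_right h

/-- The element in a localisation. -/
noncomputable abbrev im (f : A) (x : A) : Localization.Away x := algebraMap A _ f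

theorem dvd_res {f x y : A} (h : Dv x y) {n : ℕ} {a : Localization.Away x} (ha : im f x ^ n ∣ a) :
    im f y ^ n ∣ res h a := by
  obtain ⟨c, rfl⟩ := ha
  exact ⟨res h c, by rw [map_mul, map_pow, AlgHom.commutes]⟩

theorem im_mem_nonZeroDivisors {f : A} (hf : f ∈ nonZeroDivisors A) (x : A) :
    im f x ∈ nonZeroDivisors (Localization.Away x) := by
  rw [mem_nonZeroDivisors_iff_right]
  intro c hc
  obtain ⟨⟨a, s⟩, hs⟩ := IsLocalization.surj (Submonoid.powers x) c
  have h0 : algebraMap A (Localization.Away x) (a * f) = 0 := by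
    rw [map_mul, ← hs, mul_right_comm, hc, zero_mul]
  obtain ⟨t, ht⟩ := (IsLocalization.map_eq_zero_iff (Submonoid.powers x) _ _).1 h0
  have ha : (t : A) * a = 0 := (mem_nonZeroDivisors_iff_right.1 hf) _ (by rw [mul_assoc]; exact ht)
  have : algebraMap A (Localization.Away x) a = 0 :=
    (IsLocalization.map_eq_zero_iff (Submonoid.powers x) _ _).2 ⟨t, ha⟩
  rw [this] at hs
  exact (IsLocalization.map_units (Localization.Away x) s).mul_left_eq_zero.1 hs

/-- Elements of `𝔞` generating it up to radical. -/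
structure Gens {r : ℕ} (𝔞 : Ideal A) (g : Fin r → A) : Prop where
  mem : ∀ i, g i ∈ 𝔞
  le_radical : 𝔞 ≤ (Ideal.span (Set.range g)).radical

end rings

section cech

variable {R : CommRingCat.{u}} (𝔞 : Ideal R)

theorem ρ_trans (G : (US 𝔞).Modules) {V W : (Spec R).Opens} (h : W ≤ V) (x : N 𝔞 G) :
    ((modulesSpecToSheaf.obj (P 𝔞 G)).obj.map (homOfLE h).op).hom (ρ 𝔞 G V x) = ρ 𝔞 G W x :=
  (ConcreteCategory.congr_hom ((modulesSpecToSheaf.obj (P 𝔞 G)).obj.map_comp
    (homOfLE (le_top : V ≤ ⊤)).op (homOfLE h).op) x).symm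

variable (G : (US 𝔞).Modules) (q₀ : (R : Type u) →ₗ[R] N 𝔞 G)

/-- Sections over basic opens from elements of localisations. -/
noncomputable def phi (y : R) : Localization.Away y →ₗ[R] Γ(P 𝔞 G, D y) :=
  IsLocalizedModule.lift (Submonoid.powers y) (Algebra.linearMap R (Localization.Away y))
    (ρ 𝔞 G (D y) ∘ₗ q₀)
    fun s => by
      obtain ⟨_, k, rfl⟩ := s
      rw [map_pow]
      exact (Scheme.Modules.isUnit_algebraMap_end_of_le_basicOpen (M := P 𝔞 G) y le_rfl).pow k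

theorem phi_algebraMap (y : R) (a : R) : phi 𝔞 G q₀ y (algebraMap R _ a) = ρ 𝔞 G (D y) (q₀ a) :=
  IsLocalizedModule.lift_apply (Submonoid.powers y) (Algebra.linearMap R (Localization.Away y)) _ _ a

theorem D_le_of_dv {y z : R} (h : Dv y z) : D z ≤ D y := fun x hx hy => by
  obtain ⟨v, hv⟩ := IsUnit.exists_left_inv h
  obtain ⟨⟨a, ⟨_, k, rfl⟩⟩, hs⟩ := IsLocalization.surj (Submonoid.powers z) v
  have h1 : algebraMap R (Localization.Away z) (a * y) = algebraMap R _ (z ^ k) := by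
    rw [map_mul, ← hs, mul_right_comm, hv, one_mul]
  obtain ⟨⟨_, m, rfl⟩, hm⟩ := IsLocalization.exists_of_eq (M := Submonoid.powers z) h1
  have hz : z ^ (m + k) ∈ x.asIdeal := by
    rw [pow_add, ← hm]
    exact x.asIdeal.mul_mem_left _ (x.asIdeal.mul_mem_left _ hy)
  exact hx (x.2.mem_of_pow_mem _ hz)

theorem phi_res {y z : R} (h : Dv y z) (a : Localization.Away y) :
    resM G ((jU 𝔞).preimage_mono (D_le_of_dv h)) (phi 𝔞 G q₀ y a) = phi 𝔞 G q₀ z (res h a) := by
  let rs : Γ(P 𝔞 G, D y) →ₗ[R] Γ(P 𝔞 G, D z) :=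
    ((modulesSpecToSheaf.obj (P 𝔞 G)).obj.map (homOfLE (D_le_of_dv h)).op).hom
  have key : rs ∘ₗ phi 𝔞 G q₀ y = phi 𝔞 G q₀ z ∘ₗ (res h).toLinearMap := by
    refine IsLocalizedModule.ext (Submonoid.powers y) (Algebra.linearMap R (Localization.Away y))
      (fun s => ?_) (LinearMap.ext fun a => ?_)
    · obtain ⟨_, k, rfl⟩ := s
      rw [map_pow]
      exact (Scheme.Modules.isUnit_algebraMap_end_of_le_basicOpen y (D_le_of_dv h)).pow k
    · show rs (phi 𝔞 G q₀ y (algebraMap R _ a)) = phi 𝔞 G q₀ z (res h (algebraMap R _ a))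
      rw [phi_algebraMap, AlgHom.commutes, phi_algebraMap]
      exact ρ_trans 𝔞 G (D_le_of_dv h) _
  exact LinearMap.congr_fun key a

variable {f : R}

theorem phi_eq_zero_of_dvd (hf : q₀ f = 0) {y : R} (a : Localization.Away y) (ha : im f y ^ 1 ∣ a) :
    phi 𝔞 G q₀ y a = 0 := by
  obtain ⟨d, rfl⟩ := ha
  have hu : ∀ s : Submonoid.powers y, Function.Bijective
      ((algebraMap R (Module.End R Γ(P 𝔞 G, D y))) s) := fun s => by
    obtain ⟨_, k, rfl⟩ := s
    rw [map_pow]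
    exact (Module.End.isUnit_iff _).1 ((Scheme.Modules.isUnit_algebraMap_end_of_le_basicOpen (M := P 𝔞 G) y le_rfl).pow k)
  obtain ⟨⟨b, s⟩, hs⟩ := IsLocalization.surj (Submonoid.powers y) d
  refine (hu s).1 ?_
  rw [Module.algebraMap_end_apply, Module.algebraMap_end_apply, smul_zero, ← map_smul, Algebra.smul_def,
    pow_one, mul_left_comm, mul_comm (algebraMap R _ (s : R)) d, hs, ← map_mul, phi_algebraMap,
    show f * b = b • f from mul_comm _ _, map_smul, hf, smul_zero, map_zero]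

theorem dvd_of_phi_eq_zero {y : R}
    (hker : ∀ b : R, ρ 𝔞 G (D y) (q₀ b) = 0 → ∃ t : Submonoid.powers y, f ∣ (t : R) * b)
    (a : Localization.Away y) (ha : phi 𝔞 G q₀ y a = 0) : im f y ^ 1 ∣ a := by
  obtain ⟨⟨b, s⟩, hs⟩ := IsLocalization.surj (Submonoid.powers y) a
  obtain ⟨t, d, hd⟩ := hker b (by rw [← phi_algebraMap, ← hs, mul_comm, ← Algebra.smul_def, map_smul, ha, smul_zero])
  rw [pow_one]
  refine ((IsLocalization.map_units (Localization.Away y) t).mul
    (IsLocalization.map_units (Localization.Away y) s)).dvd_mul_left.1 ⟨algebraMap R _ d, ?_⟩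
  rw [mul_assoc, mul_comm (algebraMap R _ (s : R)) a, hs, ← map_mul, ← map_mul]
  exact congrArg _ hd

theorem phi_surjective {y : R}
    (hsurj : ∀ z, ∃ (b : R) (s : Submonoid.powers y), (s : R) • z = ρ 𝔞 G (D y) (q₀ b)) :
    Function.Surjective (phi 𝔞 G q₀ y) := by
  intro z
  obtain ⟨b, s, hs⟩ := hsurj z
  refine ⟨IsLocalization.mk' (Localization.Away y) b s, ?_⟩
  have hu : Function.Bijective ((algebraMap R (Module.End R Γ(P 𝔞 G, D y))) s) := by
    obtain ⟨_, k, rfl⟩ := s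
    rw [map_pow]
    exact (Module.End.isUnit_iff _).1 ((Scheme.Modules.isUnit_algebraMap_end_of_le_basicOpen (M := P 𝔞 G) y le_rfl).pow k)
  refine hu.1 ?_
  rw [Module.algebraMap_end_apply, Module.algebraMap_end_apply, ← map_smul, Algebra.smul_def,
    mul_comm, IsLocalization.mk'_spec, phi_algebraMap, hs]

variable [IsNoetherianRing R]

/-- A two-cocycle modulo `f` is a coboundary modulo `f`. -/
theorem exists_coboundary_of_sheaf [Coh.IsQCoh G] {r : ℕ} (g : Fin r → R) (hg : Gens 𝔞 g)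
    (hf : q₀ f = 0)
    (hker : ∀ y : R, D y ≤ LocCoh.puncturedOpen R 𝔞 → ∀ b : R, ρ 𝔞 G (D y) (q₀ b) = 0 →
      ∃ t : Submonoid.powers y, f ∣ (t : R) * b)
    (hsurj : ∀ y : R, D y ≤ LocCoh.puncturedOpen R 𝔞 → ∀ z, ∃ (b : R) (s : Submonoid.powers y),
      (s : R) • z = ρ 𝔞 G (D y) (q₀ b))
    (h2 : Subsingleton (Coh.HH (US 𝔞) G 2))
    (c : ∀ i j k, Localization.Away (g i * g j * g k))
    (hc : ∀ i j k l (y : R) (hi : Dv (g i) y) (hj : Dv (g j) y) (hk : Dv (g k) y) (hl : Dv (g l) y),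
      im f y ^ 1 ∣ res ((hj.mul hk).mul hl) (c j k l) - res ((hi.mul hk).mul hl) (c i k l) +
        res ((hi.mul hj).mul hl) (c i j l) - res ((hi.mul hj).mul hk) (c i j k)) :
    ∃ e : ∀ i j, Localization.Away (g i * g j), ∀ i j k (y : R) (hi : Dv (g i) y) (hj : Dv (g j) y) (hk : Dv (g k) y),
      im f y ^ 1 ∣ res ((hi.mul hj).mul hk) (c i j k) -
        (res (hj.mul hk) (e j k) - res (hi.mul hk) (e i k) + res (hi.mul hj) (e i j)) := by
  classical
  have hmem : ∀ i, g i ∈ 𝔞 := hg.mem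
  have hD : ∀ i, D (g i) ≤ LocCoh.puncturedOpen R 𝔞 := fun i => D_le 𝔞 (hmem i)
  -- the cover
  let W : ULift.{u} (Fin r) → (US 𝔞).Opens := fun i => jU 𝔞 ⁻¹ᵁ D (g i.down)
  have hcov : ⨆ i, W i = ⊤ := by
    refine top_le_iff.1 fun x _ => ?_
    by_contra hno
    refine x.2 fun a ha => ?_
    refine (Ideal.IsPrime.radical_le_iff (jU 𝔞 x).2).2 (Ideal.span_le.2 ?_) (hg.le_radical ha)
    rintro _ ⟨i, rfl⟩
    exact not_not.1 fun hn => hno (Opens.mem_iSup.2 ⟨⟨i⟩, hn⟩)
  have hWaff : ∀ i, IsAffineOpen (W i) := fun i => by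
    refine IsAffineOpen.preimage_of_isOpenImmersion ?_ (jU 𝔞) ?_
    · exact IsAffineOpen.Spec_basicOpen (g i.down)
    · rw [Scheme.Opens.opensRange_ι]
      exact hD _
  haveI : (US 𝔞).IsSeparated := by
    refine ⟨?_⟩
    rw [← terminal.comp_from (jU 𝔞)]
    infer_instance
  have hW2 : ∀ i j, W i ⊓ W j = jU 𝔞 ⁻¹ᵁ D (g i.down * g j.down) := fun i j => by
    rw [show D (g i.down * g j.down) = D (g i.down) ⊓ D (g j.down) from PrimeSpectrum.basicOpen_mul _ _]
    rfl
  have hW3 : ∀ i j k, W i ⊓ W j ⊓ W k = jU 𝔞 ⁻¹ᵁ D (g i.down * g j.down * g k.down) := fun i j k => by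
    rw [show D (g i.down * g j.down * g k.down) = D (g i.down) ⊓ D (g j.down) ⊓ D (g k.down) from
      (PrimeSpectrum.basicOpen_mul _ _).trans (congrArg (· ⊓ _) (PrimeSpectrum.basicOpen_mul _ _))]
    rfl
  let c' : ∀ i j k, Γ(G, W i ⊓ W j ⊓ W k) := fun i j k =>
    resM G (hW3 i j k).le (phi 𝔞 G q₀ _ (c i.down j.down k.down))
  obtain ⟨e', he'⟩ := PicDef15.exists_coboundary_two W hcov hWaff G h2 c' (fun i j k l V hi hj hk hl => by
    let y := g i.down * g j.down * g k.down * g l.down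
    have hV : V ≤ jU 𝔞 ⁻¹ᵁ D y := by
      rw [show D y = D (g i.down) ⊓ D (g j.down) ⊓ D (g k.down) ⊓ D (g l.down) from
        (PrimeSpectrum.basicOpen_mul _ _).trans (congrArg (· ⊓ _) ((PrimeSpectrum.basicOpen_mul _ _).trans
          (congrArg (· ⊓ _) (PrimeSpectrum.basicOpen_mul _ _))))]
      exact le_inf (le_inf (le_inf hi hj) hk) hl
    have di : Dv (g i.down) y := ((Dv.refl y).mul_left.mul_left.mul_left)
    have dj : Dv (g j.down) y := ((Dv.refl y).mul_left.mul_left.mul_right)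
    have dk : Dv (g k.down) y := ((Dv.refl y).mul_left.mul_right)
    have dl : Dv (g l.down) y := (Dv.refl y).mul_right
    have hkey : ∀ a b d (hab : Dv (g (ULift.down a) * g (ULift.down b) * g (ULift.down d)) y) (hle' : V ≤ W a ⊓ W b ⊓ W d),
        resM G hle' (c' a b d) = resM G hV (phi 𝔞 G q₀ y (res hab (c a.down b.down d.down))) := fun a b d hab hle' => by
      rw [← phi_res 𝔞 G q₀ hab]
      exact (resM_resM G _ _ _).trans (resM_resM G _ _ _).symm
    rw [hkey j k l ((dj.mul dk).mul dl), hkey i k l ((di.mul dk).mul dl), hkey i j l ((di.mul dj).mul dl),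
      hkey i j k ((di.mul dj).mul dk)]
    erw [← map_sub, ← map_add, ← map_sub, ← map_sub, ← map_add, ← map_sub]
    erw [phi_eq_zero_of_dvd 𝔞 G q₀ hf _ (hc i.down j.down k.down l.down y di dj dk dl), map_zero])
  have hbd : ∀ i j : Fin r, D (g i * g j) ≤ LocCoh.puncturedOpen R 𝔞 := fun i j =>
    (D_le_of_dv (Dv.of_dvd (dvd_mul_right (g i) (g j)))).trans (hD i)
  let z : ∀ i j : Fin r, Γ(P 𝔞 G, D (g i * g j)) := fun i j => resM G (hW2 ⟨i⟩ ⟨j⟩).ge (e' ⟨i⟩ ⟨j⟩)
  choose e he using fun i j => phi_surjective 𝔞 G q₀ (hsurj _ (hbd i j)) (z i j)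
  refine ⟨e, fun i j k y hi hj hk => ?_⟩
  let y0 := g i * g j * g k
  have hy0 : Dv y0 y := (hi.mul hj).mul hk
  have di : Dv (g i) y0 := (Dv.refl y0).mul_left.mul_left
  have dj : Dv (g j) y0 := (Dv.refl y0).mul_left.mul_right
  have dk : Dv (g k) y0 := (Dv.refl y0).mul_right
  suffices h : im f y0 ^ 1 ∣ c i j k - (res (dj.mul dk) (e j k) - res (di.mul dk) (e i k) + res (di.mul dj) (e i j)) by
    have := dvd_res hy0 h
    simpa only [map_sub, map_add, res_res] using this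
  refine dvd_of_phi_eq_zero 𝔞 G q₀ (hker y0 ((D_le_of_dv di).trans (hD i))) _ ?_
  have hV : jU 𝔞 ⁻¹ᵁ D y0 ≤ W ⟨i⟩ ⊓ W ⟨j⟩ ⊓ W ⟨k⟩ := (hW3 ⟨i⟩ ⟨j⟩ ⟨k⟩).ge
  have h := he' ⟨i⟩ ⟨j⟩ ⟨k⟩ _ (hV.trans (inf_le_left.trans inf_le_left)) (hV.trans (inf_le_left.trans inf_le_right))
    (hV.trans inf_le_right)
  have hkey : ∀ a b (hab : Dv (g a * g b) y0) (hle' : jU 𝔞 ⁻¹ᵁ D y0 ≤ W ⟨a⟩ ⊓ W ⟨b⟩),
      resM G hle' (e' ⟨a⟩ ⟨b⟩) = phi 𝔞 G q₀ y0 (res hab (e a b)) := fun a b hab hle' => by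
    rw [← phi_res 𝔞 G q₀ hab, he]
    exact (resM_resM G _ _ _).symm
  rw [hkey j k (dj.mul dk), hkey i k (di.mul dk), hkey i j (di.mul dj)] at h
  rw [map_sub, map_add, map_sub, ← h]
  exact sub_eq_zero.2 ((PicLib.resM_self G le_rfl _).symm.trans (resM_resM G _ _ _).symm)

omit G q₀ in
/-- A two-cocycle modulo `f` is a coboundary modulo `f`. -/
theorem exists_coboundary_mod {r : ℕ} (g : Fin r → R) (hg : Gens 𝔞 g)
    (h₃ : Subsingleton (_root_.LocCoh.H 𝔞 3 (R ⧸ Ideal.span ({f} : Set R))))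
    (c : ∀ i j k, Localization.Away (g i * g j * g k))
    (hc : ∀ i j k l (y : R) (hi : Dv (g i) y) (hj : Dv (g j) y) (hk : Dv (g k) y) (hl : Dv (g l) y),
      im f y ^ 1 ∣ res ((hj.mul hk).mul hl) (c j k l) - res ((hi.mul hk).mul hl) (c i k l) +
        res ((hi.mul hj).mul hl) (c i j l) - res ((hi.mul hj).mul hk) (c i j k)) :
    ∃ e : ∀ i j, Localization.Away (g i * g j), ∀ i j k (y : R) (hi : Dv (g i) y) (hj : Dv (g j) y) (hk : Dv (g k) y),
      im f y ^ 1 ∣ res ((hi.mul hj).mul hk) (c i j k) -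
        (res (hj.mul hk) (e j k) - res (hi.mul hk) (e i k) + res (hi.mul hj) (e i j)) := by
  let Q : ModuleCat.{u} R := ModuleCat.of R (R ⧸ Ideal.span ({f} : Set R))
  let q : (R : Type u) →ₗ[R] Q := Submodule.mkQ _
  have hq : Function.Surjective q := Submodule.mkQ_surjective _
  have := isQCoh_T 𝔞 Q
  refine exists_coboundary_of_sheaf 𝔞 ((T 𝔞).obj Q) (((adj 𝔞).unit.app Q).hom ∘ₗ q) g hg ?_ ?_ ?_ ?_ c hc
  · show ((adj 𝔞).unit.app Q).hom (q f) = 0
    rw [show q f = 0 from (Submodule.Quotient.mk_eq_zero _).2 (Ideal.mem_span_singleton_self f)]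
    exact map_zero _
  · intro y hy b hb
    have := isLocalizedModule_lam 𝔞 Q hy
    obtain ⟨t, ht⟩ := (IsLocalizedModule.eq_zero_iff (Submonoid.powers y) (lam 𝔞 Q y) (m := q b)).1 hb
    change (t : R) • q b = 0 at ht
    rw [← map_smul] at ht
    exact ⟨t, Ideal.mem_span_singleton.1 ((Submodule.Quotient.mk_eq_zero _).1 ht)⟩
  · intro y hy z
    have := isLocalizedModule_lam 𝔞 Q hy
    obtain ⟨⟨x, s⟩, hs⟩ := IsLocalizedModule.surj (Submonoid.powers y) (lam 𝔞 Q y) z
    obtain ⟨a, rfl⟩ := hq x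
    exact ⟨a, s, hs⟩
  · obtain ⟨e⟩ := Groth.Agent.CAlgH3.PuncturedCoh.nonempty_main 𝔞 Q 1
    exact e.toEquiv.subsingleton

end cech

end Groth.Agent.CAlgH.PicPunct
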