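import Groth.Agent.CAlgH.PicPunctCriteria
import Groth.Agent.CAlgH.PicPunctHyp

/-!
# Extending a module free of rank one across isolated points of the punctured spectrum
-/

set_option autoImplicit false
set_option backward.isDefEq.respectTransparency false

universe u

open CategoryTheory CategoryTheory.Limits AlgebraicGeometry IsLocalRing
open Groth.Agent.Formal2Lib Groth.Agent.Formal2Lib.Punct

namespace Groth.Agent.CAlgH.PicPunct

open Groth.Agent.UPLib (GenAt)

theorem exists_pow_kill {L : Type u} [CommRing L] [IsNoetherianRing L] (I : Ideal L) {V : Type u} [AddCommGroup V]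
    [Module L V] [Module.Finite L V] (K : Submodule L V) (h : ∀ x ∈ K, ∃ m : ℕ, ∀ b ∈ I ^ m, b • x = 0) :
    ∃ e, ∀ x ∈ K, ∀ b ∈ I ^ e, b • x = 0 := by
  obtain ⟨S, hS⟩ := IsNoetherian.noetherian K
  choose! m hm using h
  refine ⟨S.sup m, fun x hx b hb => ?_⟩
  rw [← hS] at hx
  induction hx using Submodule.span_induction with
  | mem y hy => exact hm y (hS ▸ Submodule.subset_span hy) b (Ideal.pow_le_pow_right (Finset.le_sup (f := m) (Finset.mem_coe.1 hy)) hb)
  | zero => rw [smul_zero]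
  | add _ _ _ _ h1 h2 => rw [smul_add, h1, h2, add_zero]
  | smul c _ _ h1 => rw [smul_comm, h1, smul_zero]

theorem exists_pow_inf_eq_bot {L : Type u} [CommRing L] [IsNoetherianRing L] (I : Ideal L) {V : Type u} [AddCommGroup V]
    [Module L V] [Module.Finite L V] (K : Submodule L V) (h : ∀ x ∈ K, ∃ m : ℕ, ∀ b ∈ I ^ m, b • x = 0) :
    ∃ n, ∀ x ∈ I ^ n • (⊤ : Submodule L V), x ∈ K → x = 0 := by
  obtain ⟨e, he⟩ := exists_pow_kill I K h
  obtain ⟨k, hk⟩ := I.exists_pow_inf_eq_pow_smul K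
  refine ⟨k + e, fun x hx hxK => ?_⟩
  have h1 : x ∈ I ^ (k + e - k) • (I ^ k • ⊤ ⊓ K) := (hk (k + e) (by omega)).le ⟨hx, hxK⟩
  rw [Nat.add_sub_cancel_left] at h1
  refine (Submodule.mem_bot L).1 ((Submodule.smul_le.2 fun b hb y hy => ?_) h1)
  exact (Submodule.mem_bot L).2 (he y hy.2 b hb)

section local_

variable {L : CommRingCat.{u}} [IsNoetherianRing L]

/-- A trivialisation on the punctured scheme gives a map from a power of the ideal. -/
theorem exists_hom_pow_of_iso (𝔞 : Ideal L) (V : ModuleCat.{u} L) [Module.Finite L V]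
    (e : (T 𝔞).obj V ≅ Coh.structureModule (US 𝔞)) :
    ∃ (n : ℕ) (φ : ↥(𝔞 ^ n) →ₗ[L] V), Function.Injective φ ∧
      ∀ y : V, ∃ j : ℕ, ∀ b ∈ 𝔞 ^ j, b • y ∈ LinearMap.range φ := by
  let O : ModuleCat.{u} L := ModuleCat.of L L
  let ψ : (T 𝔞).obj V ≅ (T 𝔞).obj O := e ≪≫ (unitIso 𝔞).symm
  let uV : (V : Type u) →ₗ[L] N 𝔞 ((T 𝔞).obj V) := ((adj 𝔞).unit.app V).hom
  let uO : (L : Type u) →ₗ[L] N 𝔞 ((T 𝔞).obj O) := ((adj 𝔞).unit.app O).hom
  let F := (Nmap 𝔞 ψ.hom).hom
  let G := (Nmap 𝔞 ψ.inv).hom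
  have hGF : ∀ x, G (F x) = x := fun x => by
    refine (ConcreteCategory.congr_hom (Functor.map_comp (Coh.push (jU 𝔞) ⋙ moduleSpecΓFunctor) ψ.hom ψ.inv) x).symm.trans ?_
    rw [ψ.hom_inv_id, CategoryTheory.Functor.map_id]
    rfl
  have hFG : ∀ y, F (G y) = y := fun y => by
    refine (ConcreteCategory.congr_hom (Functor.map_comp (Coh.push (jU 𝔞) ⋙ moduleSpecΓFunctor) ψ.inv ψ.hom) y).symm.trans ?_
    rw [ψ.inv_hom_id, CategoryTheory.Functor.map_id]
    rfl
  have := isQCoh_T 𝔞 V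
  have := isQCoh_T 𝔞 O
  have htK : ∀ x ∈ LinearMap.ker uV, ∃ m : ℕ, ∀ b ∈ 𝔞 ^ m, b • x = 0 := fun x hx => by
    obtain ⟨m, hm⟩ := (torsMem_ker_unit 𝔞 V x hx).exists_pow
    exact ⟨m, fun b hb => (Submodule.mem_bot L).1 (hm b hb)⟩
  have htO : ∀ x ∈ LinearMap.ker uO, ∃ m : ℕ, ∀ b ∈ 𝔞 ^ m, b • x = 0 := fun x hx => by
    obtain ⟨m, hm⟩ := (torsMem_ker_unit 𝔞 O x hx).exists_pow
    exact ⟨m, fun b hb => (Submodule.mem_bot L).1 (hm b hb)⟩
  obtain ⟨cV, hcV⟩ := exists_pow_inf_eq_bot 𝔞 (LinearMap.ker uV) htK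
  obtain ⟨eV, heV⟩ := exists_pow_kill 𝔞 (LinearMap.ker uV) htK
  obtain ⟨cO, hcO⟩ := exists_pow_inf_eq_bot 𝔞 (LinearMap.ker uO) htO
  let z := G (uO (1 : L))
  have hz : ∀ a : L, G (uO a) = a • z := fun a => by
    rw [← map_smul G, ← map_smul uO, show a • (1 : L) = a from mul_one a]
  obtain ⟨m0, hm0⟩ := (torsMem_range_unit 𝔞 V z).exists_pow
  let n := cV + m0 + cO
  have hex : ∀ b : ↥(𝔞 ^ n), ∃ x, x ∈ 𝔞 ^ cV • (⊤ : Submodule L V) ∧ uV x = (b : L) • z := by
    intro b
    obtain ⟨b, hb'⟩ := b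
    show ∃ x, x ∈ 𝔞 ^ cV • (⊤ : Submodule L V) ∧ uV x = b • z
    have hb : b ∈ 𝔞 ^ cV * 𝔞 ^ m0 := by
      rw [← pow_add]; exact Ideal.pow_le_pow_right (by omega) hb'
    clear hb'
    induction hb using Submodule.mul_induction_on' with
    | mem_mul_mem b1 hb1 b2 hb2 =>
      obtain ⟨x2, hx2⟩ := hm0 b2 hb2
      exact ⟨b1 • x2, Submodule.smul_mem_smul hb1 Submodule.mem_top,
        by rw [map_smul, show uV x2 = b2 • z from hx2, mul_smul]⟩
    | add _ _ _ _ hx hy =>
      obtain ⟨x, hx1, hx2⟩ := hx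
      obtain ⟨y, hy1, hy2⟩ := hy
      exact ⟨x + y, add_mem hx1 hy1, by rw [map_add, hx2, hy2, add_smul]⟩
  choose φ hφm hφ using hex
  have huniq : ∀ {x x' : V}, x ∈ 𝔞 ^ cV • (⊤ : Submodule L V) → x' ∈ 𝔞 ^ cV • (⊤ : Submodule L V) →
      uV x = uV x' → x = x' := fun hx hx' h =>
    sub_eq_zero.1 (hcV _ (sub_mem hx hx') (LinearMap.mem_ker.2 (by rw [map_sub, h, sub_self])))
  let Φ : ↥(𝔞 ^ n) →ₗ[L] V :=
    { toFun := φ
      map_add' := fun a b => huniq (hφm _) (add_mem (hφm _) (hφm _))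
        (by rw [map_add, hφ, hφ, hφ, Submodule.coe_add, add_smul])
      map_smul' := fun c b => huniq (hφm _) (Submodule.smul_mem _ _ (hφm _))
        (by rw [map_smul, RingHom.id_apply, hφ, hφ, Submodule.coe_smul, smul_eq_mul, mul_smul]) }
  refine ⟨n, Φ, (injective_iff_map_eq_zero Φ).2 fun b hb => ?_, fun y => ?_⟩
  · have h0 : uO (b : L) = 0 := by
      rw [← hFG (uO (b : L)), hz, ← hφ, show φ b = 0 from hb, map_zero, map_zero]
    refine Subtype.ext (hcO (b : L) ?_ h0)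
    rw [smul_eq_mul, Ideal.mul_top]
    exact Ideal.pow_le_pow_right (by omega) b.2
  · obtain ⟨j, hj⟩ := (torsMem_range_unit 𝔞 O (F (uV y))).exists_pow
    refine ⟨eV + n + j, fun b hb => ?_⟩
    rw [pow_add, pow_add] at hb
    induction hb using Submodule.mul_induction_on' with
    | mem_mul_mem c hc b hb =>
      obtain ⟨a₀, ha⟩ := hj b hb
      obtain ⟨a, rfl⟩ : ∃ a : (L : Type u), a = a₀ := ⟨a₀, rfl⟩
      induction hc using Submodule.mul_induction_on' with
      | mem_mul_mem e he d hd =>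
        have hda : d * a ∈ 𝔞 ^ n := Ideal.mul_mem_right _ _ hd
        refine ⟨e • ⟨d * a, hda⟩, ?_⟩
        have hu : uV (φ ⟨d * a, hda⟩) = uV ((d * b) • y) := by
          rw [hφ, map_smul uV]
          show (d * a) • z = (d * b) • uV y
          rw [mul_smul, ← hz, show uO a = b • F (uV y) from ha, map_smul G, hGF, ← mul_smul]
        have hk : φ ⟨d * a, hda⟩ - (d * b) • y ∈ LinearMap.ker uV := by
          rw [LinearMap.mem_ker, map_sub, hu, sub_self]
        have := heV _ hk e he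
        rw [smul_sub, sub_eq_zero] at this
        rw [map_smul]
        show e • φ _ = _
        rw [this, smul_smul, mul_assoc]
      | add _ _ _ _ h1 h2 => rw [add_mul, add_smul]; exact add_mem h1 h2
    | add _ _ _ _ h1 h2 => rw [add_smul]; exact add_mem h1 h2

end local_

variable {A : Type u} [CommRing A] [IsNoetherianRing A] [IsLocalRing A]

/-- Modify a module at one closed point of the punctured spectrum. -/
theorem exists_fix (q : Ideal A) [q.IsPrime]
    (hq : ∀ r : Ideal A, r.IsPrime → q ≤ r → r = q ∨ r = maximalIdeal A)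
    (M : Type u) [AddCommGroup M] [Module A M] [Module.Finite A M]
    (hgen : ∀ p : Ideal A, ∀ [p.IsPrime], p < q → ∃ x : M, GenAt p.primeCompl x)
    (htriv : Formal2.PicTrivial (↑(FEt.puncturedSpec (Localization.AtPrime q)) : Scheme.{u})) :
    ∃ (M₁ : Submodule A M) (M' : Type u) (_ : AddCommGroup M') (_ : Module A M') (j : M₁ →ₗ[A] M'),
      Module.Finite A M' ∧ (∃ x : M', GenAt q.primeCompl x) ∧
      ∀ (p : Ideal A) [p.IsPrime], p ≠ q → p ≠ maximalIdeal A →
        (∀ y : M, ∃ s ∈ p.primeCompl, s • y ∈ M₁) ∧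
          ∀ x : M₁, GenAt p.primeCompl x → GenAt p.primeCompl (j x) := by
  classical
  let L := Localization.AtPrime q
  let V := LocalizedModule q.primeCompl M
  let lm : M →ₗ[A] V := LocalizedModule.mkLinearMap q.primeCompl M
  have hinv : InvAway (maximalIdeal L) V := by
    intro P _ hP
    let p := P.comap (algebraMap A L)
    have hpq : p ≤ q := (Ideal.comap_mono (le_maximalIdeal (Ideal.IsPrime.ne_top ‹_›))).trans
      (IsLocalization.AtPrime.under_maximalIdeal L q).le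
    have hne : p ≠ q := fun e => hP (by
      refine ((IsLocalization.map_under q.primeCompl L (maximalIdeal L)).symm.trans ?_).trans_le
        (Ideal.map_comap_le (f := algebraMap A L) (K := P))
      rw [IsLocalization.AtPrime.under_maximalIdeal L q]
      exact congrArg _ e.symm)
    obtain ⟨x, hx⟩ := hgen p (lt_of_le_of_ne hpq hne)
    refine ⟨lm x, fun z => ?_, fun c hc => ?_⟩
    · induction z using LocalizedModule.induction_on with
      | h y s =>
        obtain ⟨r, hr, a, e⟩ := hx.surj y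
        refine ⟨algebraMap A L r, hr, Localization.mk a s, ?_⟩
        rw [algebraMap_smul, LocalizedModule.smul'_mk, e, LocalizedModule.mkLinearMap_apply,
          LocalizedModule.mk_smul_mk, mul_one]
    · obtain ⟨⟨a, s⟩, rfl⟩ : ∃ p : A × q.primeCompl, Localization.mk p.1 p.2 = c :=
        Localization.induction_on c fun p => ⟨p, rfl⟩
      rw [LocalizedModule.mkLinearMap_apply, LocalizedModule.mk_smul_mk, mul_one, ← LocalizedModule.zero_mk 1,
        LocalizedModule.mk_eq] at hc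
      obtain ⟨u, hu⟩ := hc
      simp only [one_smul, smul_zero, Submonoid.smul_def, ← mul_smul] at hu
      obtain ⟨r, hr, e⟩ := hx.inj _ hu
      refine ⟨algebraMap A L r * algebraMap A L u, mul_mem hr (fun h => u.2 (hpq h)), ?_⟩
      rw [mul_assoc, ← Localization.mk_one_eq_algebraMap, ← Localization.mk_one_eq_algebraMap, Localization.mk_mul,
        Localization.mk_mul, e, Localization.mk_zero]
  obtain ⟨n, φ, hinj, hcok⟩ : ∃ (n : ℕ) (φ : ↥(maximalIdeal L ^ n) →ₗ[L] V), Function.Injective φ ∧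
      ∀ y : V, ∃ j : ℕ, ∀ b ∈ maximalIdeal L ^ j, b • y ∈ LinearMap.range φ := by
    rw [Punct.puncturedSpec_eq] at htriv
    obtain ⟨e⟩ := htriv _ (isInvertible_T (R := CommRingCat.of L) (maximalIdeal L) (ModuleCat.of L V) hinv)
    exact exists_hom_pow_of_iso (L := CommRingCat.of L) (maximalIdeal L) (ModuleCat.of L V) e
  have hmap : maximalIdeal L = q.map (algebraMap A L) := by
    rw [← IsLocalization.map_under q.primeCompl L (maximalIdeal L), IsLocalization.AtPrime.under_maximalIdeal L q]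
  let ρ : ↥(q ^ n) →ₗ[A] ↥(maximalIdeal L ^ n) :=
    { toFun := fun i => ⟨algebraMap A L i, by rw [hmap, ← Ideal.map_pow]; exact Ideal.mem_map_of_mem _ i.2⟩
      map_add' := fun i k => Subtype.ext (map_add (algebraMap A L) _ _)
      map_smul' := fun c i => Subtype.ext (by
        show algebraMap A L (c * (i : A)) = c • algebraMap A L (i : A)
        rw [map_mul, Algebra.smul_def]) }
  haveI : Module.FinitePresentation A ↥(q ^ n) := Module.finitePresentation_of_finite A _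
  obtain ⟨φ₀, s₀, hφ₀⟩ := Module.FinitePresentation.exists_lift_of_isLocalizedModule q.primeCompl lm
    ((φ.restrictScalars A).comp ρ)
  have hφ₀' : ∀ i, lm (φ₀ i) = (s₀ : A) • φ (ρ i) := fun i => LinearMap.congr_fun hφ₀ i
  have hkerq : ∀ i, φ₀ i = 0 → ∃ s ∈ q.primeCompl, s * (i : A) = 0 := fun i hi => by
    have h1 : φ (ρ i) = 0 := by
      have := hφ₀' i
      rw [hi, map_zero] at this
      exact ((Module.End.isUnit_iff _).1 (IsLocalizedModule.map_units lm s₀)).1
        (show (s₀ : A) • φ (ρ i) = (s₀ : A) • 0 by rw [← this, smul_zero])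
    obtain ⟨s, hs⟩ := (IsLocalization.map_eq_zero_iff q.primeCompl L (i : A)).1
      (congrArg Subtype.val (hinj (h1.trans (map_zero φ).symm)))
    exact ⟨s, s.2, hs⟩
  have hcokq : ∀ y : M, ∃ j : ℕ, ∀ a ∈ q ^ j, ∃ s ∈ q.primeCompl, s • a • y ∈ LinearMap.range φ₀ := fun y => by
    obtain ⟨j, hj⟩ := hcok (lm y)
    refine ⟨j, fun a ha => ?_⟩
    obtain ⟨ξ, hξ⟩ := hj (algebraMap A L a) (by rw [hmap, ← Ideal.map_pow]; exact Ideal.mem_map_of_mem _ ha)
    obtain ⟨⟨⟨i, hi⟩, s⟩, his⟩ := (IsLocalization.mem_map_algebraMap_iff q.primeCompl L (I := q ^ n) (z := (ξ : L))).1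
      (by rw [Ideal.map_pow, ← hmap]; exact ξ.2)
    have h1 : lm (φ₀ ⟨i, hi⟩) = lm (((s₀ : A) * s * a) • y) := by
      have he : ρ ⟨i, hi⟩ = (s : A) • ξ := Subtype.ext (by
        show algebraMap A L i = (s : A) • (ξ : L)
        rw [Algebra.smul_def, mul_comm]; exact his.symm)
      rw [hφ₀', he, LinearMap.map_smul_of_tower, hξ, algebraMap_smul, map_smul, mul_smul, mul_smul]
    obtain ⟨u, hu⟩ := IsLocalizedModule.exists_of_eq (S := q.primeCompl) h1
    refine ⟨u * (s₀ * s), mul_mem u.2 (mul_mem s₀.2 s.2), (u : A) • ⟨i, hi⟩, ?_⟩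
    rw [map_smul]
    refine (show (u : A) • φ₀ ⟨i, hi⟩ = (u : A) • ((s₀ : A) * s * a) • y from hu).trans ?_
    rw [smul_smul, smul_smul]
    congr 1
    ring
  choose jy hjy using hcokq
  obtain ⟨S, hS⟩ := (Module.Finite.fg_top : (⊤ : Submodule A M).FG)
  let t := S.sup jy
  let W : Submodule A M :=
    { carrier := {z | ∃ s ∈ q.primeCompl, s • z ∈ LinearMap.range φ₀}
      add_mem' := by
        rintro x y ⟨s, hs, hx⟩ ⟨r, hr, hy⟩
        refine ⟨s * r, mul_mem hs hr, ?_⟩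
        rw [smul_add]
        refine add_mem ?_ ?_
        · rw [mul_comm, mul_smul]; exact Submodule.smul_mem _ r hx
        · rw [mul_smul]; exact Submodule.smul_mem _ s hy
      zero_mem' := ⟨1, one_mem _, by rw [smul_zero]; exact zero_mem _⟩
      smul_mem' := by
        rintro c x ⟨s, hs, hx⟩
        exact ⟨s, hs, by rw [smul_comm]; exact Submodule.smul_mem _ c hx⟩ }
  have hW : q ^ t • (⊤ : Submodule A M) ≤ W := by
    rw [← hS]
    refine Submodule.smul_le.2 fun a ha y hy => ?_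
    induction hy using Submodule.span_induction with
    | mem w hw => exact hjy w a (Ideal.pow_le_pow_right (Finset.le_sup (f := jy) (Finset.mem_coe.1 hw)) ha)
    | zero => rw [smul_zero]; exact zero_mem _
    | add _ _ _ _ h1 h2 => rw [smul_add]; exact add_mem h1 h2
    | smul c _ _ h1 => rw [smul_comm]; exact Submodule.smul_mem _ c h1
  let M₁ : Submodule A M := LinearMap.range φ₀ ⊔ q ^ t • ⊤
  have hM₁ : M₁ ≤ W := sup_le (fun z hz => ⟨1, one_mem _, by rwa [one_smul]⟩) hW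
  let φ₁ : ↥(q ^ n) →ₗ[A] M₁ := φ₀.codRestrict M₁ fun i => Submodule.mem_sup_left ⟨i, rfl⟩
  let K : Submodule A (M₁ × A) := LinearMap.range (φ₁.prod (-(q ^ n).subtype))
  let j : M₁ →ₗ[A] (M₁ × A) ⧸ K := K.mkQ.comp (LinearMap.inl A M₁ A)
  refine ⟨M₁, (M₁ × A) ⧸ K, inferInstance, inferInstance, j, inferInstance,
    ⟨Submodule.Quotient.mk ((0 : M₁), (1 : A)), fun z => ?_, fun a ha => ?_⟩, fun p _ hpq hpm => ⟨fun y => ?_, fun x hx => ?_⟩⟩
  · obtain ⟨⟨m, a⟩, rfl⟩ := Submodule.Quotient.mk_surjective K z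
    obtain ⟨s, hs, i, hi⟩ := hM₁ m.2
    refine ⟨s, hs, (i : A) + s * a, ?_⟩
    rw [← Submodule.Quotient.mk_smul, ← Submodule.Quotient.mk_smul, Submodule.Quotient.eq]
    refine ⟨i, Prod.ext (Subtype.ext ?_) ?_⟩
    · show φ₀ i = s • (m : M) - (((i : A) + s * a) • (0 : M₁)).1
      rw [smul_zero, Submodule.coe_zero, sub_zero, hi]
    · show -(i : A) = s * a - ((i : A) + s * a) * 1
      ring
  · rw [← Submodule.Quotient.mk_smul, Submodule.Quotient.mk_eq_zero] at ha
    obtain ⟨i, hi⟩ := ha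
    have h1 : φ₀ i = 0 := by
      have := congrArg (fun z : M₁ × A => (z.1 : M)) hi
      simpa [φ₁] using this
    have h2 : -(i : A) = a := by
      have := congrArg Prod.snd hi
      simpa using this
    obtain ⟨s, hs, e⟩ := hkerq i h1
    exact ⟨s, hs, by rw [← h2, mul_neg, e, neg_zero]⟩
  all_goals
    obtain ⟨e, he, hep⟩ : ∃ e ∈ q, e ∈ p.primeCompl := Set.not_subset.1 fun hle =>
      (hq p inferInstance hle).elim hpq hpm
  · exact ⟨e ^ t, pow_mem hep t, Submodule.mem_sup_right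
      (Submodule.smul_mem_smul (Ideal.pow_mem_pow he t) Submodule.mem_top)⟩
  · refine ⟨fun z => ?_, fun a ha => ?_⟩
    · obtain ⟨⟨m, a⟩, rfl⟩ := Submodule.Quotient.mk_surjective K z
      let ea : ↥(q ^ n) := ⟨e ^ n * a, Ideal.mul_mem_right _ _ (Ideal.pow_mem_pow he n)⟩
      obtain ⟨r, hr, c, hc⟩ := hx.surj (e ^ n • m + φ₁ ea)
      refine ⟨r * e ^ n, mul_mem hr (pow_mem hep n), c, ?_⟩
      rw [mul_smul, ← Submodule.Quotient.mk_smul, ← Submodule.Quotient.mk_smul, ← map_smul j c x, ← hc]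
      show Submodule.Quotient.mk _ = Submodule.Quotient.mk ((r • (e ^ n • m + φ₁ ea) : M₁), (0 : A))
      rw [Submodule.Quotient.eq]
      refine ⟨-(r • ea), ?_⟩
      refine Prod.ext ?_ ?_
      · show φ₁ (-(r • ea)) = r • e ^ n • m - r • (e ^ n • m + φ₁ ea)
        rw [map_neg, map_smul, smul_add, sub_add_cancel_left]
      · show -(-(r • ea) : ↥(q ^ n)).1 = r * (e ^ n * a) - 0
        simp [ea]
    · rw [← map_smul] at ha
      change Submodule.Quotient.mk ((a • x : M₁), (0 : A)) = 0 at ha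
      obtain ⟨i, hi⟩ := (Submodule.Quotient.mk_eq_zero K).1 ha
      have hi0 : i = 0 := Subtype.ext (neg_eq_zero.1 (congrArg Prod.snd hi))
      have h1 : φ₁ i = a • x := congrArg Prod.fst hi
      rw [hi0, map_zero] at h1
      exact hx.inj a h1.symm

end Groth.Agent.CAlgH.PicPunct
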