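import Groth.Agent.CAlgH.PicPunctTower
import Groth.Agent.Formal2Lib.PuncturedAlgz
import Mathlib.RingTheory.Filtration

/-!
# Algebraizing a module free of rank one on a hypersurface of a punctured spectrum
-/

set_option autoImplicit false

universe u

namespace Groth.Agent.CAlgH.PicPunct

open Groth.Agent.Formal2Lib Groth.Agent.Formal2Lib.Sat
open Groth.Agent.UPLib (GenAt)

variable {R : CommRingCat.{u}} {f : R} {M₀ : Type u} [AddCommGroup M₀] [Module R M₀]

/-- A free generator modulo `f` after inverting `S`. -/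
structure GenF (f : R) (S : Submonoid R) (t : M₀) : Prop where
  surj : ∀ x : M₀, ∃ s ∈ S, ∃ a : R, s • x = a • t
  inj : ∀ a : R, a • t = 0 → ∃ s ∈ S, f ∣ s * a

theorem algebraMap_qr_eq_zero_iff {n : ℕ} {x : R} (a : R) :
    algebraMap R (Qr f n x) a = 0 ↔ ∃ k : ℕ, f ^ (n + 1) ∣ x ^ k * a := by
  rw [← AlgHom.commutes (qmk f n x) a, qmk_eq_zero_iff]
  constructor
  · rintro ⟨d, hd⟩
    obtain ⟨⟨c, ⟨_, m, rfl⟩⟩, hc⟩ := IsLocalization.surj (Submonoid.powers x) d
    have hc' : d * algebraMap R _ (x ^ m) = algebraMap R _ c := hc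
    obtain ⟨⟨_, j, rfl⟩, hj⟩ := IsLocalization.exists_of_eq (M := Submonoid.powers x)
      (show algebraMap R (Localization.Away x) (a * x ^ m) = algebraMap R _ (f ^ (n + 1) * c) by
        rw [map_mul, map_mul, map_pow, map_pow, ← hc', hd, ← map_pow, ← map_pow, map_pow]; ring)
    refine ⟨j + m, x ^ j * c, ?_⟩
    have hj' : x ^ j * (a * x ^ m) = x ^ j * (f ^ (n + 1) * c) := hj
    rw [pow_add]
    linear_combination hj'
  · rintro ⟨k, d, hd⟩
    obtain ⟨v, hv⟩ := ((Dv.refl x).pow k).exists_right_inv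
    refine ⟨v * algebraMap R _ d, ?_⟩
    have hd' := congrArg (algebraMap R (Localization.Away x)) hd
    rw [map_mul, map_mul, map_pow, map_pow] at hd'
    linear_combination v * hd' - algebraMap R (Localization.Away x) a * hv

theorem exists_algebraMap_qr {n : ℕ} {x : R} (q : Qr f n x) :
    ∃ (k : ℕ) (a : R), x ^ k • q = algebraMap R (Qr f n x) a := by
  obtain ⟨d, rfl⟩ := qmk_surjective f n x q
  obtain ⟨⟨c, ⟨_, m, rfl⟩⟩, hc⟩ := IsLocalization.surj (Submonoid.powers x) d
  refine ⟨m, c, ?_⟩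
  rw [← map_smul, ← AlgHom.commutes (qmk f n x)]
  exact congrArg _ ((Algebra.smul_def _ _).trans ((mul_comm _ _).trans hc))

/-- The map from the reduction to its localisation. -/
noncomputable def toQr (f x : R) : (R ⧸ Ideal.span ({f} : Set R)) →ₗ[R] Qr f 0 x :=
  Submodule.liftQ _ (Algebra.linearMap R (Qr f 0 x)) (by
    rw [Ideal.span, Submodule.span_le, Set.singleton_subset_iff]
    exact (algebraMap_qr_eq_zero_iff f).2 ⟨0, by rw [pow_zero, one_mul, zero_add, pow_one]⟩)

theorem toQr_mk (x a : R) : toQr f x (Submodule.Quotient.mk a) = algebraMap R (Qr f 0 x) a := rfl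

theorem isLocalizedModule_toQr (x : R) : IsLocalizedModule (Submonoid.powers x) (toQr f x) where
  map_units := by
    rintro ⟨_, k, rfl⟩
    rw [Module.End.isUnit_iff]
    exact isUnit_end (f := f) (n := 0) (Dv.refl x) k
  surj q := by
    obtain ⟨k, a, e⟩ := exists_algebraMap_qr q
    exact ⟨⟨Submodule.Quotient.mk a, ⟨_, k, rfl⟩⟩, e⟩
  exists_of_eq {z z'} h := by
    obtain ⟨a, rfl⟩ := Submodule.Quotient.mk_surjective _ z
    obtain ⟨b, rfl⟩ := Submodule.Quotient.mk_surjective _ z'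
    rw [toQr_mk, toQr_mk, ← sub_eq_zero, ← map_sub] at h
    obtain ⟨k, hk⟩ := (algebraMap_qr_eq_zero_iff _).1 h
    refine ⟨⟨_, k, rfl⟩, (Submodule.Quotient.eq _).2 ?_⟩
    rw [zero_add, pow_one, ← Ideal.mem_span_singleton, mul_sub] at hk
    exact hk

variable {r : ℕ} {g : Fin r → R} {t : Fin r → M₀}

/-- The coordinate in a generator. -/
theorem exists_coord (ht : ∀ i, GenF f (Submonoid.powers (g i)) (t i)) (i : Fin r) :
    ∃ co : M₀ →ₗ[R] Qr f 0 (g i), ∀ (x : M₀) (k : ℕ) (a : R), g i ^ k • x = a • t i →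
      g i ^ k • co x = algebraMap R (Qr f 0 (g i)) a := by
  have hs : ∀ x : M₀, ∃ (k : ℕ) (a : R), g i ^ k • x = a • t i := fun x => by
    obtain ⟨_, ⟨k, rfl⟩, a, e⟩ := (ht i).surj x
    exact ⟨k, a, e⟩
  choose k a hka using hs
  choose co hco using fun x => (isUnit_end (f := f) (n := 0) (Dv.refl (g i)) (k x)).2
    (algebraMap R (Qr f 0 (g i)) (a x))
  have hco' : ∀ x, g i ^ k x • co x = algebraMap R (Qr f 0 (g i)) (a x) := hco
  have spec : ∀ (x : M₀) (j : ℕ) (b : R), g i ^ j • x = b • t i →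
      g i ^ j • co x = algebraMap R (Qr f 0 (g i)) b := fun x j b h => by
    obtain ⟨_, ⟨m, rfl⟩, hm⟩ := (ht i).inj (g i ^ j * a x - g i ^ k x * b) (by
      rw [sub_smul, mul_smul, mul_smul, ← hka, ← h, smul_comm, sub_self])
    have h0 : algebraMap R (Qr f 0 (g i)) (g i ^ j * a x - g i ^ k x * b) = 0 :=
      (algebraMap_qr_eq_zero_iff _).2 ⟨m, by rwa [zero_add, pow_one]⟩
    rw [map_sub, map_mul, map_mul, sub_eq_zero, ← smul_qr f (g i ^ j), ← smul_qr f (g i ^ k x), ← hco', smul_comm] at h0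
    exact smul_cancel f (Dv.refl (g i)) (k x) h0
  refine ⟨⟨⟨co, fun x y => ?_⟩, fun c x => ?_⟩, spec⟩
  · refine smul_cancel f (Dv.refl (g i)) (k x + k y) ?_
    rw [smul_add, spec (x + y) (k x + k y) (g i ^ k y * a x + g i ^ k x * a y) (by
      rw [smul_add, add_smul, mul_smul, mul_smul, ← hka, ← hka, smul_smul, smul_smul, ← pow_add, ← pow_add,
        add_comm (k y)]),
      spec x (k x + k y) (g i ^ k y * a x) (by rw [mul_smul, ← hka, smul_smul, ← pow_add, add_comm (k y)]),
      spec y (k x + k y) (g i ^ k x * a y) (by rw [mul_smul, ← hka, smul_smul, ← pow_add]), map_add]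
  · refine smul_cancel f (Dv.refl (g i)) (k x) ?_
    rw [RingHom.id_apply, spec (c • x) (k x) (c * a x) (by rw [smul_comm, hka, mul_smul]), smul_comm, hco', smul_qr,
      map_mul]

/-- Sections with the same component agree after a power. -/
theorem Cocycle.exists_pow_eq {n : ℕ} (c : Cocycle f g (n + 1)) (l : Fin r) (v w : ↥c.sect) (h : c.pr l v = c.pr l w) :
    ∃ k : ℕ, g l ^ k • v = g l ^ k • w := by
  obtain ⟨k, hk⟩ := c.exists_kill l (v - w) (by
    show c.pr l v - c.pr l w = 0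
    rw [h, sub_self])
  refine ⟨k, Subtype.ext (funext fun i => sub_eq_zero.1 ?_)⟩
  have := congrArg (fun z : ↥c.sect => z.1 i) hk
  rw [show (0 : ↥c.sect).1 i = 0 from rfl] at this
  show g l ^ k • v.1 i - g l ^ k • w.1 i = 0
  rw [← smul_sub]
  exact this

variable [IsNoetherianRing R] [Module.Finite R M₀] {𝔞 : Ideal R}

/-- The cocycle of a module free of rank one modulo `f`, with the comparison map. -/
theorem exists_cocycle_of_gens (hg : Gens 𝔞 g) (hM₀ : ∀ x : M₀, f • x = 0)
    (ht : ∀ i, GenF f (Submonoid.powers (g i)) (t i)) :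
    ∃ (c : Cocycle f g 1) (π₀ : M₀ →ₗ[R] c.sect),
      (∀ l (x : M₀) (k : ℕ) (a : R), g l ^ k • x = a • t l →
        g l ^ k • c.pr l (π₀ x) = algebraMap R (Qr f 0 (g l)) a) ∧
      (∀ l (x : M₀), c.pr l (π₀ x) = 0 → ∃ k, g l ^ k • x = 0) ∧
      ∀ y : ↥c.sect, TorsMem (M := ↥c.sect) 𝔞 (LinearMap.range π₀) y := by
  choose co hco using exists_coord ht
  have hone : ∀ i, co i (t i) = 1 := fun i => by
    have := hco i (t i) 0 1 (by rw [pow_zero, one_smul])
    rwa [pow_zero, one_smul, map_one] at this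
  choose u hu using fun i j => qmk_surjective f 0 (g i * g j) (qres f 0 (dv_right (g i) (g j)) (co j (t i)))
  have hU : ∀ i j (y : R) (hi : Dv (g i) y) (hj : Dv (g j) y),
      qmk f 0 y (res (hi.mul hj) (u i j)) = qres f 0 hj (co j (t i)) := fun i j y hi hj => by
    rw [← qres_mk f (hi.mul hj), hu, qres_qres]
  have hco2 : ∀ i j (y : R) (hi : Dv (g i) y) (hj : Dv (g j) y) (x : M₀),
      qres f 0 hi (co i x) * qres f 0 hj (co j (t i)) = qres f 0 hj (co j x) := fun i j y hi hj x => by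
    obtain ⟨_, ⟨k, rfl⟩, a, e⟩ := (ht i).surj x
    refine smul_cancel f hi k ?_
    rw [← smul_mul_assoc, ← map_smul, hco i x k a e, AlgHom.commutes, ← smul_qr, ← map_smul, ← map_smul (co j),
      ← e, map_smul (co j), map_smul]
  let c : Cocycle f g 1 :=
    { u := u
      one := fun i => by
        rw [← qmk_eq_iff f (n := 0), hu, hone, map_one, map_one]
      mul := fun i j k y hi hj hk => by
        rw [← qmk_eq_iff f (n := 0), map_mul, hU i j y hi hj, hU j k y hj hk, hU i k y hi hk]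
        exact hco2 j k y hj hk (t i) }
  have hcU : ∀ i j (y : R) (hi : Dv (g i) y) (hj : Dv (g j) y), c.U i j y hi hj = qres f 0 hj (co j (t i)) := hU
  let π₀ : M₀ →ₗ[R] c.sect := (LinearMap.pi co).codRestrict _ fun x i j => by
    rw [hcU]
    exact hco2 i j _ _ _ x
  refine ⟨c, π₀, fun l x k a h => hco l x k a h, fun l x hx => ?_, fun y => torsMem_of_gens hg fun l => ?_⟩
  · obtain ⟨_, ⟨k, rfl⟩, a, e⟩ := (ht l).surj x
    obtain ⟨m, d, hd⟩ := (algebraMap_qr_eq_zero_iff a).1 ((hco l x k a e).symm.trans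
      (by rw [show co l x = 0 from hx, smul_zero]))
    refine ⟨m + k, ?_⟩
    rw [pow_add, mul_smul, e, smul_smul, hd, zero_add, pow_one, mul_comm f, mul_smul, hM₀, smul_zero]
  · obtain ⟨k, a, e⟩ := exists_algebraMap_qr (c.pr l y)
    obtain ⟨m, hm⟩ := c.exists_pow_eq l (g l ^ k • y) (π₀ (a • t l)) (by
      rw [map_smul, e]
      show _ = co l (a • t l)
      rw [map_smul, hone, smul_qr, mul_one])
    refine ⟨m + k, g l ^ m • (a • t l), ?_⟩
    rw [map_smul, pow_add, mul_smul]
    exact hm.symm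

/-- The stabilisation condition for the tower of a cocycle. -/
theorem exists_stab_tower (hg : Gens 𝔞 g) (hM₀ : ∀ x : M₀, f • x = 0)
    (ht : ∀ i, GenF f (Submonoid.powers (g i)) (t i)) (T : Tower 𝔞 f) (π₀ : M₀ →ₗ[R] T.N 0)
    (hker : ∀ x, π₀ x = 0 → ∀ l, ∃ k, g l ^ k • x = 0)
    (hcok : ∀ y, TorsMem 𝔞 (LinearMap.range π₀) y)
    (h₁ : Module.Finite R (_root_.LocCoh.H 𝔞 1 (R ⧸ Ideal.span ({f} : Set R))))
    (h₂ : Module.Finite R (_root_.LocCoh.H 𝔞 2 (R ⧸ Ideal.span ({f} : Set R)))) :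
    Module.Finite R (T.N 0) ∧ ∃ c, ∀ n (h : c ≤ n) (y : T.N n), ∃ z, y - T.up h z ∈ LinearMap.range (T.q n) := by
  classical
  let B := R ⧸ Ideal.span ({f} : Set R)
  have := Module.finitePresentation_of_finite R M₀
  obtain ⟨S, hS⟩ := (Module.Finite.fg_top : (⊤ : Submodule R M₀).FG)
  -- kernels are killed uniformly
  have hkill : ∀ (l : Fin r) (K : Submodule R M₀), (∀ z ∈ K, ∃ k, g l ^ k • z = 0) → ∃ k, ∀ z ∈ K, g l ^ k • z = 0 := by
    intro l K hK
    obtain ⟨U, hU⟩ := IsNoetherian.noetherian K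
    choose! k hk using hK
    refine ⟨U.sup k, fun z hz => ?_⟩
    rw [← hU] at hz
    induction hz using Submodule.span_induction with
    | mem w hw => rw [pow_smul_split (g l) (Finset.le_sup (f := k) (Finset.mem_coe.1 hw)),
        hk w (hU ▸ Submodule.subset_span hw), smul_zero]
    | zero => rw [smul_zero]
    | add _ _ _ _ ha hb => rw [smul_add, ha, hb, add_zero]
    | smul c _ _ ha => rw [smul_comm, ha, smul_zero]
  have hloc : ∀ j, ∃ (c : M₀ →ₗ[R] B) (d : B →ₗ[R] M₀) (E : ℕ),
      LinearMap.ker π₀ ≤ LinearMap.ker c ∧ ∀ x, π₀ (d (c x)) = g j ^ E • π₀ x := fun j => by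
    obtain ⟨co, hco⟩ := exists_coord ht j
    have := isLocalizedModule_toQr (f := f) (g j)
    obtain ⟨φ, ⟨_, e, rfl⟩, hφ⟩ := Module.FinitePresentation.exists_lift_of_isLocalizedModule
      (Submonoid.powers (g j)) (toQr f (g j)) co
    have hφ' : ∀ x, toQr f (g j) (φ x) = g j ^ e • co x := fun x => LinearMap.congr_fun hφ x
    let d : B →ₗ[R] M₀ := Submodule.liftQ _ (LinearMap.toSpanSingleton R M₀ (t j)) (by
      rw [Ideal.span, Submodule.span_le, Set.singleton_subset_iff]
      exact hM₀ (t j))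
    have hd : ∀ x, ∃ k, g j ^ k • (d (φ x) - g j ^ e • x) = 0 := fun x => by
      obtain ⟨a, ha⟩ := Submodule.Quotient.mk_surjective _ (φ x)
      obtain ⟨_, ⟨k, rfl⟩, b, hb⟩ := (ht j).surj x
      have h0 : algebraMap R (Qr f 0 (g j)) (g j ^ k * a - g j ^ e * b) = 0 := by
        rw [map_sub, map_mul, map_mul, ← smul_qr f (g j ^ k), ← smul_qr f (g j ^ e), ← toQr_mk, ha, hφ',
          ← hco x k b hb, smul_comm, sub_self]
      obtain ⟨m, w, hw⟩ := (algebraMap_qr_eq_zero_iff _).1 h0
      refine ⟨m + k, ?_⟩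
      rw [← ha, show d (Submodule.Quotient.mk a) = a • t j from rfl, pow_add, mul_smul, smul_sub,
        smul_comm (g j ^ k) (g j ^ e), hb, smul_smul (g j ^ k), smul_smul (g j ^ e), ← sub_smul, smul_smul, hw,
        zero_add, pow_one, mul_comm f, mul_smul, hM₀, smul_zero]
    choose k hk using hd
    let K := S.sup k
    have hKid : ∀ x, g j ^ K • (d (φ x) - g j ^ e • x) = 0 := fun x => by
      have hx : x ∈ Submodule.span R (S : Set M₀) := hS ▸ Submodule.mem_top
      induction hx using Submodule.span_induction with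
      | mem w hw => rw [pow_smul_split (g j) (Finset.le_sup (f := k) (Finset.mem_coe.1 hw)), hk w, smul_zero]
      | zero => rw [map_zero, map_zero, smul_zero, sub_zero, smul_zero]
      | add a b _ _ ha hb =>
        rw [map_add, map_add, smul_add (g j ^ e), add_sub_add_comm, smul_add, ha, hb, add_zero]
      | smul c a _ ha =>
        rw [map_smul, map_smul, smul_comm (g j ^ e), ← smul_sub, smul_comm, ha, smul_zero]
    obtain ⟨K2, hK2⟩ := hkill j (LinearMap.ker π₀) fun z hz => hker z hz j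
    refine ⟨g j ^ (K2 + K) • φ, d, K2 + (K + e), fun z hz => ?_, fun x => ?_⟩
    · show g j ^ (K2 + K) • φ z = 0
      rw [← map_smul, add_comm, pow_add, mul_smul, hK2 z hz, smul_zero, map_zero]
    · show π₀ (d (g j ^ (K2 + K) • φ x)) = g j ^ (K2 + (K + e)) • π₀ x
      have := hKid x
      rw [smul_sub, sub_eq_zero] at this
      rw [map_smul, pow_add, mul_smul, this, smul_smul, smul_smul, ← pow_add, ← pow_add, map_smul, add_assoc]
  choose c0 d0 E hc0 hdc using hloc
  let M : Submodule R (T.N 0) := LinearMap.range π₀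
  let ι := ULift.{u} (Fin r)
  let c : ∀ j, M →ₗ[R] B := fun j =>
    (Submodule.liftQ _ (c0 j) (hc0 j)).comp π₀.quotKerEquivRange.symm.toLinearMap
  have hc : ∀ j x, c j (π₀.rangeRestrict x) = c0 j x := fun j x => by
    show (Submodule.liftQ _ (c0 j) (hc0 j)) (π₀.quotKerEquivRange.symm (π₀.rangeRestrict x)) = c0 j x
    rw [show π₀.quotKerEquivRange.symm (π₀.rangeRestrict x) = Submodule.Quotient.mk x from
      π₀.quotKerEquivRange.symm_apply_eq.2 rfl]
    rfl
  let d : ∀ j, B →ₗ[R] M := fun j => π₀.rangeRestrict.comp (d0 j)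
  have hdcM : ∀ j m, d j (c j m) = g j ^ E j • m := fun j m => by
    obtain ⟨x, rfl⟩ := π₀.surjective_rangeRestrict m
    rw [hc]
    exact Subtype.ext (hdc j x)
  let C : M →ₗ[R] ι → B := LinearMap.pi fun p => c p.down
  let Ee : (ι → B) →ₗ[R] (ι × ι → B) := LinearMap.pi fun p => (LinearMap.proj p.2).comp
    (g p.1.down ^ E p.1.down • LinearMap.id - C.comp ((d p.1.down).comp (LinearMap.proj p.1)))
  have hEC : ∀ m, Ee (C m) = 0 := fun m => funext fun p => by
    show (g p.1.down ^ E p.1.down • C m - C (d p.1.down (c p.1.down m))) p.2 = 0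
    rw [hdcM, map_smul, sub_self]
    rfl
  have hexact : ∀ q, Ee q = 0 → TorsMem 𝔞 (LinearMap.range C) q := fun q hq =>
    torsMem_of_gens hg fun j =>
      ⟨E j, d j (q ⟨j⟩), (sub_eq_zero.1 (funext fun i => congrFun hq (⟨j⟩, i))).symm⟩
  have hM : ∀ y, TorsMem 𝔞 M y := hcok
  have hCinj : Function.Injective C := (injective_iff_map_eq_zero _).2 fun m hm =>
    Subtype.ext ((T.sat 0).sep m.1 (Sat.mem_powTorsion_iff.2 (torsMem_of_gens hg fun j => by
      refine ⟨E j, (Submodule.mem_bot R).2 ?_⟩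
      have h := hdcM j m
      rw [show c j m = 0 from congrFun hm ⟨j⟩, map_zero] at h
      exact (congrArg Subtype.val h).symm)))
  obtain ⟨J, _, _, gJ, hJ, hgJ⟩ := Groth.Agent.LocCoh.exists_injective_embedding (R := R) (ι → B)
  have h1pi := Sat.finite_H_pi (ι := ι) h₁
  have hH := Sat.finite_coker_toDT (𝔞 := 𝔞) C Ee hEC hexact gJ hgJ (Sat.finite_DT (Sat.finite_H_pi h₁))
    (Sat.finite_H_pi h₂)
  refine ⟨?_, T.exists_stab (J := J) M hM (gJ.comp C) (hgJ.comp hCinj) hH⟩
  have := Sat.finite_DT (M := ι → B) (𝔞 := 𝔞) h1pi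
  have hCd : Module.Finite R (_root_.LocCoh.DT 𝔞 M) :=
    Module.Finite.of_injective (Groth.Agent.LocCoh.DTmap C)
      (Groth.Agent.LocCoh.DTmap_injective C (by rw [LinearMap.ker_eq_bot.2 hCinj]; exact bot_le))
  have hb : Function.Bijective (Groth.Agent.LocCoh.DTmap (I := 𝔞) M.subtype) := by
    refine Groth.Agent.LocCoh.DTmap_bijective _ (by rw [Submodule.ker_subtype]; exact bot_le) fun q => ?_
    obtain ⟨x, rfl⟩ := Submodule.Quotient.mk_surjective _ q
    obtain ⟨m, hm⟩ := (hM x).exists_pow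
    exact ⟨m, fun a ha => by
      rw [← Submodule.Quotient.mk_smul, Submodule.Quotient.mk_eq_zero, Submodule.range_subtype]
      exact hm a ha⟩
  have := Module.Finite.equiv (LinearEquiv.ofBijective _ hb)
  exact Module.Finite.equiv (LinearEquiv.ofBijective _ (T.sat 0).bijective).symm

theorem GenAt.smul_of_notMem {p : Ideal R} [p.IsPrime] {M : Type u} [AddCommGroup M] [Module R M] {x : M}
    (h : GenAt p.primeCompl x) {u : R} (hu : u ∈ p.primeCompl) : GenAt p.primeCompl (u • x) := by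
  refine ⟨fun y => ?_, fun a ha => ?_⟩
  · obtain ⟨s, hs, a, e⟩ := h.surj y
    exact ⟨u * s, mul_mem hu hs, a, by rw [mul_smul, e, smul_comm]⟩
  · obtain ⟨s, hs, e⟩ := h.inj (a * u) (by rwa [mul_smul])
    exact ⟨s * u, mul_mem hs hu, by rw [← e]; ring⟩

/-- Formal algebraization: a finite module which is free of rank one along the hypersurface and reduces to
the given one. -/
theorem exists_formal_lift [IsAdicComplete (Ideal.span ({f} : Set R)) R] (hf : f ∈ nonZeroDivisors R)
    (hg : Gens 𝔞 g) (hM₀ : ∀ x : M₀, f • x = 0) (ht : ∀ i, GenF f (Submonoid.powers (g i)) (t i))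
    (h₁ : Module.Finite R (_root_.LocCoh.H 𝔞 1 (R ⧸ Ideal.span ({f} : Set R))))
    (h₂ : Module.Finite R (_root_.LocCoh.H 𝔞 2 (R ⧸ Ideal.span ({f} : Set R))))
    (h₃ : Subsingleton (_root_.LocCoh.H 𝔞 3 (R ⧸ Ideal.span ({f} : Set R)))) :
    ∃ (M : Type u) (_ : AddCommGroup M) (_ : Module R M) (P : Type u) (_ : AddCommGroup P) (_ : Module R P)
      (a : P →ₗ[R] M) (b : P →ₗ[R] M₀), Module.Finite R M ∧ Module.Finite R P ∧
        ∀ (p : Ideal R) [p.IsPrime], f ∈ p → ¬ 𝔞 ≤ p →
          ∃ τ : P, GenAt p.primeCompl τ ∧ GenAt p.primeCompl (a τ) ∧ GenF f p.primeCompl (b τ) := by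
  classical
  obtain ⟨c₀, π₀, hπv, hπk, hπc⟩ := exists_cocycle_of_gens hg hM₀ ht
  obtain ⟨c, hc0, hc⟩ := exists_system hg hf h₃ c₀
  subst hc0
  let T := tower hg hf c hc
  obtain ⟨hN0, hstab⟩ := exists_stab_tower hg hM₀ ht T π₀
    (fun x hx l => hπk l x ((congrArg ((c 0).pr l) hx).trans (map_zero _))) hπc h₁ h₂
  obtain ⟨M, _, _, p, hfin, hcomp, hkerp, hcokp⟩ := T.exists_module hN0 hstab
  let P : Submodule R (M × M₀) :=
    { carrier := {z | (show ↥(c 0).sect from p 0 z.1) = π₀ z.2}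
      add_mem' := fun {z z'} hz hz' => by
        show (show ↥(c 0).sect from p 0 (z.1 + z'.1)) = π₀ (z.2 + z'.2)
        rw [map_add, map_add π₀, ← hz, ← hz']
        rfl
      zero_mem' := by
        show (show ↥(c 0).sect from p 0 (0 : M)) = π₀ (0 : M₀)
        rw [map_zero, map_zero π₀]
        rfl
      smul_mem' := fun b {z} hz => by
        show (show ↥(c 0).sect from p 0 (b • z.1)) = π₀ (b • z.2)
        rw [map_smul, map_smul π₀, ← hz]
        rfl }
  refine ⟨M, inferInstance, inferInstance, P, inferInstance, inferInstance,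
    (LinearMap.fst R M M₀).comp P.subtype, (LinearMap.snd R M M₀).comp P.subtype, hfin, inferInstance,
    fun q _ hfq haq => ?_⟩
  obtain ⟨l, hl⟩ : ∃ l, g l ∈ q.primeCompl := by
    by_contra h
    push Not at h
    exact haq fun a ha => (Ideal.IsPrime.radical_le_iff ‹_›).2
      (Ideal.span_le.2 (by rintro _ ⟨l, rfl⟩; exact not_not.1 (h l))) (hg.le_radical ha)
  -- a generator at the index
  obtain ⟨k₀, w, hw⟩ := (c 0).exists_sect l 1
  obtain ⟨k₁, x, hx⟩ := hcokp 0 (show T.N 0 from w) (g l) (hg.mem l)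
  let pr : ∀ k, M →ₗ[R] Qr f k (g l) := fun k => ((c k).pr l).comp (show M →ₗ[R] ↥(c k).sect from p k)
  have hx0 : pr 0 x = algebraMap R (Qr f 0 (g l)) (g l ^ (k₁ + k₀)) := by
    show (c 0).pr l (show ↥(c 0).sect from p 0 x) = _
    rw [hx]
    show (c 0).pr l (g l ^ k₁ • w) = _
    rw [map_smul, hw, smul_smul, ← pow_add, smul_qr, mul_one]
  have hpr : ∀ k y, qtr f k (g l) (pr (k + 1) y) = pr k y := fun k y => congrArg ((c k).pr l) (hcomp k y)
  have hsurj : ∀ y : M, ∃ m a, ∃ z : M, g l ^ m • y = a • x + f • z := fun y => by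
    obtain ⟨k, a, e⟩ := exists_algebraMap_qr (pr 0 y)
    obtain ⟨m, hm⟩ := (c 0).exists_kill l (show ↥(c 0).sect from p 0 (g l ^ (k₁ + k₀ + k) • y - a • x)) (by
      show pr 0 (g l ^ (k₁ + k₀ + k) • y - a • x) = 0
      rw [map_sub, map_smul, map_smul, hx0, pow_add_smul, e, smul_qr, smul_qr, mul_comm, sub_self])
    obtain ⟨z, hz⟩ := hkerp 0 (g l ^ m • (g l ^ (k₁ + k₀ + k) • y - a • x)) (by rw [map_smul]; exact hm)
    refine ⟨m + (k₁ + k₀ + k), g l ^ m * a, z, ?_⟩
    rw [zero_add, pow_one, smul_sub, smul_smul, smul_smul, ← pow_add] at hz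
    rw [hz, add_sub_cancel]
  have hgenM : GenAt q.primeCompl x := by
    refine ⟨fun y => ?_, fun a ha => ?_⟩
    · let L := Localization.AtPrime q
      let ML := LocalizedModule q.primeCompl M
      let lm := LocalizedModule.mkLinearMap q.primeCompl M
      let Nx : Submodule L ML := Submodule.span L {lm x}
      have htop : (⊤ : Submodule L ML) ≤ Nx := by
        refine Submodule.le_of_le_smul_of_le_jacobson_bot (I := IsLocalRing.maximalIdeal L) Module.Finite.fg_top
          (IsLocalRing.maximalIdeal_le_jacobson _) fun z _ => ?_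
        induction z using LocalizedModule.induction_on with
        | h y s =>
          obtain ⟨m, a, z, e⟩ := hsurj y
          let u : q.primeCompl := ⟨g l ^ m, pow_mem hl m⟩
          have e1 : LocalizedModule.mk y s = (Localization.mk a (u * s) : L) • lm x +
              algebraMap R L f • LocalizedModule.mk z (u * s) := by
            rw [LocalizedModule.mkLinearMap_apply, LocalizedModule.mk_smul_mk, mul_one, algebraMap_smul,
              LocalizedModule.smul'_mk, LocalizedModule.mk_add_mk, LocalizedModule.mk_eq]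
            refine ⟨1, ?_⟩
            simp only [one_smul, Submonoid.smul_def, Submonoid.coe_mul]
            rw [← smul_add, ← e, smul_smul, smul_smul]
            congr 1
            show g l ^ m * ↑s * (g l ^ m * ↑s) = ↑s * (g l ^ m * ↑s) * g l ^ m
            ring
          rw [e1]
          refine add_mem (Submodule.mem_sup_left (Submodule.smul_mem _ _ (Submodule.mem_span_singleton_self _)))
            (Submodule.mem_sup_right (Submodule.smul_mem_smul ?_ Submodule.mem_top))
          exact (IsLocalization.AtPrime.to_map_mem_maximal_iff L q f).2 hfq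
      obtain ⟨c', hc'⟩ := Submodule.mem_span_singleton.1 (htop (Submodule.mem_top (x := lm y)))
      obtain ⟨⟨a, s⟩, rfl⟩ : ∃ p : R × q.primeCompl, Localization.mk p.1 p.2 = c' :=
        Localization.induction_on c' fun p => ⟨p, rfl⟩
      rw [LocalizedModule.mkLinearMap_apply, LocalizedModule.mkLinearMap_apply, LocalizedModule.mk_smul_mk, mul_one,
        LocalizedModule.mk_eq] at hc'
      obtain ⟨v, hv⟩ := hc'
      simp only [one_smul, Submonoid.smul_def] at hv
      exact ⟨v * s, mul_mem v.2 s.2, v * a, by rw [mul_smul, mul_smul]; exact hv.symm⟩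
    · let L := Localization.AtPrime q
      have hk : ∀ k, IsUnit (pr k x) := by
        intro k
        induction k with
        | zero => rw [hx0, map_pow]; exact (isUnit_qr f (Dv.refl _)).pow _
        | succ k ih =>
          have hu : IsUnit (qtr f k (g l) (pr (k + 1) x)) := (hpr k x).symm ▸ ih
          obtain ⟨v, hv⟩ := hu.exists_right_inv
          obtain ⟨v', rfl⟩ : ∃ v', qtr f k (g l) v' = v := by
            obtain ⟨d, rfl⟩ := qmk_surjective f k (g l) v
            exact ⟨qmk f (k + 1) (g l) d, qtr_mk f k (g l) d⟩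
          rw [← map_mul] at hv
          obtain ⟨z, hz⟩ : ∃ z, pr (k + 1) x * v' = z + 1 := ⟨_, (sub_add_cancel _ 1).symm⟩
          have hz0 : qtr f k (g l) z = 0 := by
            rw [hz, map_add, map_one] at hv
            simpa using hv
          have hnil : IsNilpotent z := by
            obtain ⟨d, rfl⟩ := qmk_surjective f (k + 1) (g l) z
            obtain ⟨e, rfl⟩ := (qmk_eq_zero_iff f d).1 hz0
            refine ⟨2, ?_⟩
            rw [← map_pow, qmk_eq_zero_iff, mul_pow, ← pow_mul]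
            exact dvd_mul_of_dvd_left (pow_dvd_pow _ (by omega)) _
          exact isUnit_of_mul_isUnit_left (hz ▸ hnil.isUnit_add_one)
      have hmem : ∀ k, algebraMap R L a ∈ Ideal.span {algebraMap R L f} ^ k := fun k => by
        cases k with
        | zero => rw [pow_zero, Ideal.one_eq_top]; exact Submodule.mem_top
        | succ k =>
          have h0 : algebraMap R (Qr f k (g l)) a = 0 := by
            refine (hk k).mul_left_eq_zero.1 ?_
            rw [← smul_qr, ← map_smul, ha, map_zero]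
          obtain ⟨m, d, hd⟩ := (algebraMap_qr_eq_zero_iff a).1 h0
          rw [Ideal.span_singleton_pow, Ideal.mem_span_singleton]
          refine (IsUnit.dvd_mul_left (IsLocalization.map_units L (⟨g l ^ m, pow_mem hl m⟩ : q.primeCompl))).1 ?_
          rw [← map_mul, hd, map_mul, map_pow]
          exact dvd_mul_right _ _
      have hbot : algebraMap R L a = 0 := by
        have hle : Ideal.span {algebraMap R L f} ≠ ⊤ := fun h =>
          (Ideal.span_singleton_eq_top.1 h) |> (IsLocalization.AtPrime.isUnit_to_map_iff L q f).1 |> (· hfq)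
        have := Submodule.mem_iInf _ |>.2 hmem
        rwa [Ideal.iInf_pow_eq_bot_of_isLocalRing _ hle, Ideal.mem_bot] at this
      obtain ⟨s, hs⟩ := (IsLocalization.map_eq_zero_iff q.primeCompl L a).1 hbot
      exact ⟨s, s.2, hs⟩
  -- the element of the fibre product
  obtain ⟨j, x₀, hx₀⟩ := hπc (show ↥(c 0).sect from p 0 x) (g l) (hg.mem l)
  let τ : P := ⟨(g l ^ j • x, x₀), by
    show (show ↥(c 0).sect from p 0 (g l ^ j • x)) = π₀ x₀
    rw [map_smul]
    exact hx₀.symm⟩
  have hgx := GenAt.smul_of_notMem hgenM (pow_mem hl j)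
  refine ⟨τ, ⟨fun y => ?_, fun a ha => hgx.inj a (congrArg (fun z : P => z.1.1) ha)⟩, hgx, ?_⟩
  · obtain ⟨s, hs, a, e⟩ := hgx.surj y.1.1
    have h0 : π₀ (s • y.1.2 - a • x₀) = 0 := by
      have e1 : (show ↥(c 0).sect from p 0 y.1.1) = π₀ y.1.2 := y.2
      have e2 : (show ↥(c 0).sect from p 0 (g l ^ j • x)) = π₀ x₀ := τ.2
      rw [map_sub, map_smul, map_smul, ← e1, ← e2]
      show s • p 0 y.1.1 - a • p 0 (g l ^ j • x) = 0
      rw [← map_smul, ← map_smul, e, sub_self]
    obtain ⟨k, hk⟩ := hπk l _ (by rw [h0]; exact map_zero _)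
    rw [smul_sub, sub_eq_zero] at hk
    refine ⟨g l ^ k * s, mul_mem (pow_mem hl k) hs, g l ^ k * a, Subtype.ext (Prod.ext ?_ ?_)⟩
    · show (g l ^ k * s) • y.1.1 = (g l ^ k * a) • (g l ^ j • x)
      rw [mul_smul, e, mul_smul]
    · show (g l ^ k * s) • y.1.2 = (g l ^ k * a) • x₀
      rw [mul_smul, hk, mul_smul]
  · show GenF f q.primeCompl x₀
    obtain ⟨_, ⟨k, rfl⟩, a, e⟩ := (ht l).surj x₀
    have hval : algebraMap R (Qr f 0 (g l)) (g l ^ (k + (j + (k₁ + k₀))) - a) = 0 := by
      rw [map_sub, ← hπv l x₀ k a e, hx₀, sub_eq_zero]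
      refine Eq.trans ?_ (congrArg (g l ^ k • ·) (map_smul ((c 0).pr l) (g l ^ j) _).symm)
      show _ = g l ^ k • g l ^ j • pr 0 x
      rw [hx0, smul_qr, smul_qr, ← map_mul, ← map_mul]
      exact congrArg _ (by ring)
    obtain ⟨m, hm⟩ := (algebraMap_qr_eq_zero_iff _).1 hval
    have ha : a ∈ q.primeCompl := fun ha => by
      rw [zero_add, pow_one] at hm
      have h1 : g l ^ m * (g l ^ (k + (j + (k₁ + k₀))) - a) ∈ q := Ideal.mem_of_dvd _ hm hfq
      refine pow_mem hl (k + (j + (k₁ + k₀))) ?_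
      have h2 := (Ideal.IsPrime.mem_or_mem ‹_› h1).resolve_left (pow_mem hl m)
      simpa using q.add_mem h2 ha
    refine ⟨fun y => ?_, fun b hb => ?_⟩
    · obtain ⟨_, ⟨k', rfl⟩, a', e'⟩ := (ht l).surj y
      refine ⟨a * g l ^ k', mul_mem ha (pow_mem hl k'), a' * g l ^ k, ?_⟩
      rw [mul_smul, e', mul_smul, e, smul_comm]
    · obtain ⟨_, ⟨i, rfl⟩, hi⟩ := (ht l).inj (b * a) (by rw [mul_smul, ← e, smul_comm, hb, smul_zero])
      exact ⟨g l ^ i * a, mul_mem (pow_mem hl i) ha, by rwa [mul_assoc, mul_comm a b]⟩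

end Groth.Agent.CAlgH.PicPunct
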