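import Groth.Agent.CAlgH.PicPunctCech

/-!
# Lifting unit cocycles through the powers of an element
-/

set_option autoImplicit false

universe u

namespace Groth.Agent.CAlgH.PicPunct

variable {R : CommRingCat.{u}} (𝔞 : Ideal R) (f : R) {r : ℕ} (g : Fin r → R)

/-- A cocycle of units modulo `f ^ n` on the cover by the basic opens of `g`. -/
structure Cocycle (n : ℕ) where
  u : ∀ i j, Localization.Away (g i * g j)
  one : ∀ i, im f (g i * g i) ^ n ∣ u i i - 1
  mul : ∀ i j k (y : R) (hi : Dv (g i) y) (hj : Dv (g j) y) (hk : Dv (g k) y),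
    im f y ^ n ∣ res (hi.mul hj) (u i j) * res (hj.mul hk) (u j k) - res (hi.mul hk) (u i k)

variable {f g}

/-- The transition function at a refinement. -/
noncomputable abbrev Cocycle.E {n : ℕ} (c : Cocycle f g n) (i j : Fin r) (y : R) (hi : Dv (g i) y) (hj : Dv (g j) y) :
    Localization.Away y := res (hi.mul hj) (c.u i j)

theorem Cocycle.one_at {n : ℕ} (c : Cocycle f g n) (i : Fin r) (y : R) (hi : Dv (g i) y) :
    im f y ^ n ∣ c.E i i y hi hi - 1 := by
  have := dvd_res (hi.mul hi) (c.one i)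
  rwa [map_sub, map_one] at this

theorem Cocycle.inv_at {n : ℕ} (c : Cocycle f g n) (i j : Fin r) (y : R) (hi : Dv (g i) y) (hj : Dv (g j) y) :
    im f y ^ n ∣ c.E i j y hi hj * c.E j i y hj hi - 1 := by
  have h := dvd_add (c.mul i j i y hi hj hi) (c.one_at i y hi)
  rwa [sub_add_sub_cancel] at h

variable [IsNoetherianRing R]

theorem Cocycle.exists_step (hg : Gens 𝔞 g) (hf : f ∈ nonZeroDivisors R)
    (h₃ : Subsingleton (_root_.LocCoh.H 𝔞 3 (R ⧸ Ideal.span ({f} : Set R)))) {n : ℕ} (hn : 1 ≤ n)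
    (c : Cocycle f g n) :
    ∃ c' : Cocycle f g (n + 1), ∀ i j, im f (g i * g j) ^ n ∣ c'.u i j - c.u i j := by
  classical
  have hreg : ∀ (y : R) {a : Localization.Away y}, im f y ^ n * a = 0 → a = 0 := fun y a ha =>
    (mem_nonZeroDivisors_iff_left.1 (pow_mem (im_mem_nonZeroDivisors hf y) n)) a ha
  have h1n : ∀ (y : R) {a : Localization.Away y}, im f y ^ n ∣ a → im f y ^ 1 ∣ a := fun y a ha =>
    (pow_dvd_pow _ hn).trans ha
  choose C hC using fun i j k => c.mul i j k (g i * g j * g k) ((Dv.refl _).mul_left.mul_left)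
    ((Dv.refl _).mul_left.mul_right) (Dv.refl _).mul_right
  have hCy : ∀ i j k (y : R) (hi : Dv (g i) y) (hj : Dv (g j) y) (hk : Dv (g k) y),
      c.E i j y hi hj * c.E j k y hj hk - c.E i k y hi hk = im f y ^ n * res ((hi.mul hj).mul hk) (C i j k) := by
    intro i j k y hi hj hk
    have := congrArg (res ((hi.mul hj).mul hk)) (hC i j k)
    simpa only [map_sub, map_mul, map_pow, AlgHom.commutes, res_res] using this
  let D : ∀ i j k, Localization.Away (g i * g j * g k) := fun i j k =>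
    C i j k * res (((Dv.refl (g i * g j * g k)).mul_right).mul ((Dv.refl (g i * g j * g k)).mul_left.mul_left)) (c.u k i)
  have hD : ∀ i j k (y : R) (hi : Dv (g i) y) (hj : Dv (g j) y) (hk : Dv (g k) y),
      res ((hi.mul hj).mul hk) (D i j k) = res ((hi.mul hj).mul hk) (C i j k) * c.E k i y hk hi := by
    intro i j k y hi hj hk
    simp only [D, map_mul, res_res]
  obtain ⟨e, he⟩ := exists_coboundary_mod 𝔞 g hg h₃ D (fun i j k l y hi hj hk hl => by
    rw [hD j k l y hj hk hl, hD i k l y hi hk hl, hD i j l y hi hj hl, hD i j k y hi hj hk]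
    let F := im f y
    let E := fun a b (ha : Dv (g a) y) (hb : Dv (g b) y) => c.E a b y ha hb
    have e1 := hCy i j k y hi hj hk
    have e2 := hCy i k l y hi hk hl
    have e3 := hCy j k l y hj hk hl
    have e4 := hCy i j l y hi hj hl
    have hex : res ((hi.mul hk).mul hl) (C i k l) + res ((hi.mul hj).mul hk) (C i j k) * E k l hk hl -
        res ((hi.mul hj).mul hl) (C i j l) - E i j hi hj * res ((hj.mul hk).mul hl) (C j k l) = 0 := by
      refine hreg y ?_
      linear_combination (-(E k l hk hl)) * e1 - e2 + e4 + (E i j hi hj) * e3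
    obtain ⟨d1, hd1⟩ := h1n y (c.mul k l i y hk hl hi)
    obtain ⟨d2, hd2⟩ := h1n y (c.mul l i j y hl hi hj)
    rw [pow_one] at hd1 hd2 ⊢
    refine ⟨res ((hi.mul hj).mul hk) (C i j k) * d1 - res ((hj.mul hk).mul hl) (C j k l) * d2, ?_⟩
    linear_combination (-(E l i hl hi)) * hex + res ((hi.mul hj).mul hk) (C i j k) * hd1 -
      res ((hj.mul hk).mul hl) (C j k l) * hd2)
  let u' : ∀ i j, Localization.Away (g i * g j) := fun i j => c.u i j * (1 - im f (g i * g j) ^ n * e i j)
  have hu' : ∀ i j, im f (g i * g j) ^ n ∣ u' i j - c.u i j := fun i j =>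
    ⟨-(c.u i j * e i j), by ring⟩
  have hmul : ∀ i j k (y : R) (hi : Dv (g i) y) (hj : Dv (g j) y) (hk : Dv (g k) y),
      im f y ^ (n + 1) ∣ res (hi.mul hj) (u' i j) * res (hj.mul hk) (u' j k) - res (hi.mul hk) (u' i k) := by
    intro i j k y hi hj hk
    simp only [u', map_mul, map_sub, map_one, map_pow, AlgHom.commutes]
    obtain ⟨d, hd⟩ := h1n y (c.mul i j k y hi hj hk)
    obtain ⟨w, hw⟩ := h1n y (c.inv_at k i y hk hi)
    obtain ⟨v, hv⟩ := he i j k y hi hj hk
    rw [hD i j k y hi hj hk] at hv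
    have e1 := hCy i j k y hi hj hk
    rw [pow_one] at hd hw hv
    obtain ⟨m, rfl⟩ : ∃ m, n = m + 1 := ⟨n - 1, by omega⟩
    set F := im f y with hF
    set a := c.E i j y hi hj
    set b := c.E j k y hj hk
    set z := c.E i k y hi hk
    set z' := c.E k i y hk hi
    set C0 := res ((hi.mul hj).mul hk) (C i j k)
    set p := res (hi.mul hj) (e i j)
    set q := res (hj.mul hk) (e j k)
    set s := res (hi.mul hk) (e i k)
    refine ⟨z * v - C0 * w - d * (p + q) + F ^ m * (a * b) * (p * q), ?_⟩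
    linear_combination e1 + (F ^ (m + 1) * z) * hv - (F ^ (m + 1) * C0) * hw -
      (F ^ (m + 1) * (p + q)) * hd
  refine ⟨⟨u', fun i => ?_, hmul⟩, hu'⟩
  have hgi : Dv (g i) (g i * g i) := (Dv.refl _).mul_left
  obtain ⟨v, hv⟩ := hmul i i i (g i * g i) hgi hgi hgi
  rw [res_self] at hv
  obtain ⟨b, hb⟩ := dvd_add (hu' i i) (c.one i)
  rw [sub_add_sub_cancel] at hb
  obtain ⟨m, rfl⟩ : ∃ m, n = m + 1 := ⟨n - 1, by omega⟩
  refine ⟨v - im f (g i * g i) ^ m * b ^ 2, ?_⟩
  linear_combination hv - (u' i i - 1 + im f (g i * g i) ^ (m + 1) * b) * hb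

end Groth.Agent.CAlgH.PicPunct
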