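import Groth.Agent.CAlgH.PicPunctFormal
import Groth.Agent.CAlgH.PicPunctFix

/-!
# Surjectivity of restriction of Picard groups of punctured spectra to a hypersurface
-/

set_option autoImplicit false
set_option backward.isDefEq.respectTransparency false

universe u

open CategoryTheory CategoryTheory.Limits AlgebraicGeometry IsLocalRing
open Groth.Agent.Formal2Lib Groth.Agent.Formal2Lib.Punct
open scoped TensorProduct

namespace Groth.Agent.CAlgH.PicPunct

open Groth.Agent.UPLib (GenAt)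

variable {A : Type u} [CommRing A] [IsNoetherianRing A] [IsLocalRing A] {f : A}

theorem not_between {p : Ideal A} [p.IsPrime] {a : A} (ha : a ∈ maximalIdeal A)
    (hcl : ∀ r : Ideal A, r.IsPrime → a ∈ r → p ≤ r → r = maximalIdeal A) {r : Ideal A} [r.IsPrime]
    (h1 : p < r) : r = maximalIdeal A := by
  by_contra hne
  have h2 : r < maximalIdeal A := lt_of_le_of_ne (le_maximalIdeal (Ideal.IsPrime.ne_top ‹_›)) hne
  let B := A ⧸ p
  let mkp : A →+* B := Ideal.Quotient.mk p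
  have hkr : RingHom.ker mkp ≤ r := by rw [Ideal.mk_ker]; exact h1.le
  haveI : (r.map mkp).IsPrime := Ideal.map_isPrime_of_surjective Ideal.Quotient.mk_surjective hkr
  haveI : ((maximalIdeal A).map mkp).IsPrime := Ideal.map_isPrime_of_surjective Ideal.Quotient.mk_surjective
    (by rw [Ideal.mk_ker]; exact (h1.trans h2).le)
  have hmmin : (maximalIdeal A).map mkp ∈ (Ideal.span {mkp a}).minimalPrimes := by
    refine ⟨⟨inferInstance, (Ideal.span_singleton_le_iff_mem _).2 (Ideal.mem_map_of_mem _ ha)⟩, fun Q hQ _ => ?_⟩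
    haveI := hQ.1
    have := hcl (Q.comap mkp) inferInstance (hQ.2 (Ideal.mem_span_singleton_self _)) (fun x hx => by
      rw [Ideal.mem_comap, Ideal.Quotient.eq_zero_iff_mem.2 hx]
      exact zero_mem _)
    rw [← this]
    exact Ideal.map_comap_le
  have hlt1 : (⊥ : Ideal B) < r.map mkp := by
    refine bot_lt_iff_ne_bot.2 fun h0 => h1.not_ge fun x hx => ?_
    exact Ideal.Quotient.eq_zero_iff_mem.1 ((Ideal.mem_bot).1 (h0 ▸ Ideal.mem_map_of_mem _ hx))
  have hlt2 : r.map mkp < (maximalIdeal A).map mkp := by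
    refine lt_of_le_of_ne (Ideal.map_mono h2.le) fun he => h2.ne ?_
    rw [← (Ideal.comap_map_of_surjective mkp Ideal.Quotient.mk_surjective r).trans
        (sup_eq_left.2 (by rw [← RingHom.ker_eq_comap_bot]; exact hkr)), he,
      Ideal.comap_map_of_surjective mkp Ideal.Quotient.mk_surjective,
      sup_eq_left.2 (by rw [← RingHom.ker_eq_comap_bot, Ideal.mk_ker]; exact (h1.trans h2).le)]
  haveI : (⊥ : Ideal B).IsPrime := Ideal.isPrime_bot
  have a1 := Ideal.height_add_one_le_of_lt_of_isPrime hlt1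
  have a2 := Ideal.height_add_one_le_of_lt_of_isPrime hlt2
  have : (2 : ℕ∞) ≤ 1 := by
    calc (2 : ℕ∞) ≤ (r.map mkp).height + 1 := by
          calc (2 : ℕ∞) = 1 + 1 := rfl
            _ ≤ _ := by gcongr; exact le_trans le_add_self a1
      _ ≤ _ := a2.trans (Ideal.height_le_one_of_isPrincipal_of_mem_minimalPrimes _ _ hmmin)
  exact absurd this (by decide)

variable (f) (M₀ : Type u) [AddCommGroup M₀] [Module A M₀]

/-- A finite module with a comparison to a module on the hypersurface. -/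
structure HLift where
  M : Type u
  P : Type u
  [acgM : AddCommGroup M]
  [modM : Module A M]
  [finM : Module.Finite A M]
  [acgP : AddCommGroup P]
  [modP : Module A P]
  [finP : Module.Finite A P]
  a : P →ₗ[A] M
  b : P →ₗ[A] M₀
  gen : ∀ (p : Ideal A) [p.IsPrime], f ∈ p → p ≠ maximalIdeal A →
    ∃ τ : P, GenAt p.primeCompl τ ∧ GenAt p.primeCompl (a τ) ∧ GenF (R := CommRingCat.of A) f p.primeCompl (b τ)

attribute [instance] HLift.acgM HLift.modM HLift.finM HLift.acgP HLift.modP HLift.finP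

variable {f M₀}

/-- The module is free of rank one at a prime. -/
def HLift.Good (H : HLift f M₀) (p : Ideal A) [p.IsPrime] : Prop := ∃ x : H.M, GenAt p.primeCompl x

theorem genAt_restrict {p : Ideal A} [p.IsPrime] {M : Type u} [AddCommGroup M] [Module A M] {N : Submodule A M}
    {x : N} (h : GenAt p.primeCompl (x : M)) : GenAt p.primeCompl x :=
  ⟨fun y => let ⟨s, hs, a, e⟩ := h.surj y.1; ⟨s, hs, a, Subtype.ext e⟩,
    fun a ha => h.inj a (congrArg Subtype.val ha)⟩

theorem GenF.smul_of_notMem {p : Ideal A} [p.IsPrime] {x : M₀}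
    (h : GenF (R := CommRingCat.of A) f p.primeCompl x) {u : A} (hu : u ∈ p.primeCompl) :
    GenF (R := CommRingCat.of A) f p.primeCompl (u • x) := by
  refine ⟨fun y => ?_, fun a ha => ?_⟩
  · obtain ⟨s, hs, a, e⟩ := h.surj y
    refine ⟨(u * s : A), mul_mem hu hs, a, ?_⟩
    show (u * s) • y = (show A from a) • u • x
    rw [mul_smul, show (show A from s) • y = (show A from a) • x from e, smul_comm]
  · obtain ⟨s, hs, d, hd⟩ := h.inj ((show A from a) * u : A) (show ((show A from a) * u) • x = 0 by rwa [mul_smul])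
    refine ⟨(show A from s) * u, mul_mem hs hu, d, ?_⟩
    show (show A from s) * u * (show A from a) = _
    rw [← hd]; ring

/-- One step of the extension. -/
theorem HLift.exists_fix (H : HLift f M₀) (q : Ideal A) [q.IsPrime] (hfq : f ∉ q)
    (hq : ∀ r : Ideal A, r.IsPrime → q ≤ r → r = q ∨ r = maximalIdeal A)
    (hgood : ∀ p : Ideal A, ∀ [p.IsPrime], p < q → H.Good p)
    (htriv : Formal2.PicTrivial (↑(FEt.puncturedSpec (Localization.AtPrime q)) : Scheme.{u})) :
    ∃ H' : HLift f M₀, H'.Good q ∧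
      ∀ (p : Ideal A) [p.IsPrime], p ≠ q → p ≠ maximalIdeal A → H.Good p → H'.Good p := by
  obtain ⟨M₁, M', _, _, j, hfin, hgenq, hloc⟩ := PicPunct.exists_fix q hq H.M hgood htriv
  let a₁ : ↥(M₁.comap H.a) →ₗ[A] M₁ := H.a.restrict fun _ h => h
  refine ⟨{ M := M', P := ↥(M₁.comap H.a), a := j.comp a₁, b := H.b.comp (M₁.comap H.a).subtype,
            gen := fun p _ hfp hpm => ?_ }, hgenq, fun p _ hpq hpm hp => ?_⟩
  · obtain ⟨τ, h1, h2, h3⟩ := H.gen p hfp hpm
    obtain ⟨hs, hj⟩ := hloc p (fun e => hfq (e ▸ hfp)) hpm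
    obtain ⟨s, hs, hsτ⟩ := hs (H.a τ)
    let τ' : ↥(M₁.comap H.a) := ⟨s • τ, show H.a (s • τ) ∈ M₁ by rw [map_smul]; exact hsτ⟩
    refine ⟨τ', genAt_restrict (GenAt.smul_of_notMem (R := CommRingCat.of A) h1 hs),
      hj (a₁ τ') (genAt_restrict ?_), ?_⟩
    · show GenAt p.primeCompl (H.a (s • τ))
      rw [map_smul]
      exact GenAt.smul_of_notMem (R := CommRingCat.of A) h2 hs
    · show GenF (R := CommRingCat.of A) f p.primeCompl (H.b (s • τ))
      rw [map_smul]
      exact h3.smul_of_notMem hs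
  · obtain ⟨x, hx⟩ := hp
    obtain ⟨hs, hj⟩ := hloc p hpq hpm
    obtain ⟨s, hs, hsx⟩ := hs x
    exact ⟨j ⟨s • x, hsx⟩, hj _ (genAt_restrict (GenAt.smul_of_notMem (R := CommRingCat.of A) hx hs))⟩

/-- Extend to the whole punctured spectrum. -/
theorem HLift.exists_invAway (H : HLift f M₀) (hf : f ∈ maximalIdeal A)
    (h₅ : ∀ (q : Ideal A) [q.IsPrime], f ∉ q → (∀ (q' : Ideal A), q'.IsPrime → q ≤ q' → f ∉ q' → q' = q) →
      Formal2.PicTrivial (↑(FEt.puncturedSpec (Localization.AtPrime q)) : Scheme.{u})) :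
    ∃ H' : HLift f M₀, InvAway (maximalIdeal A) H'.M := by
  classical
  have hgoodpow : ∀ (p : Ideal A) [p.IsPrime], H.Good p → ∃ g ∈ p.primeCompl,
      ∀ (r : Ideal A) [r.IsPrime], g ∉ r → H.Good r := fun p _ ⟨x, hx⟩ => by
    obtain ⟨g, hg, hgx⟩ := exists_powers_genAt hx
    exact ⟨g, hg, fun r _ hr => ⟨x, hgx.mono (Submonoid.powers_le.2 hr)⟩⟩
  let J : Ideal A :=
    { carrier := {a | ∀ (p : Ideal A) [p.IsPrime], a ∉ p → H.Good p}
      add_mem' := fun {a b} ha hb p _ h => by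
        by_cases hap : a ∈ p
        · exact hb p fun hbp => h (p.add_mem hap hbp)
        · exact ha p hap
      zero_mem' := fun p _ h => absurd p.zero_mem h
      smul_mem' := fun c a ha p _ h => ha p fun h' => h (p.mul_mem_left c h') }
  have hbad : ∀ (p : Ideal A) [p.IsPrime], ¬ H.Good p → J ≤ p := fun p _ hp a ha => by_contra fun h => hp (ha p h)
  have hJ : ∀ (p : Ideal A) [p.IsPrime], J ≤ p → ¬ H.Good p := fun p _ hJp hp => by
    obtain ⟨g, hg, hgr⟩ := hgoodpow p hp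
    exact hg (hJp fun r _ hr => hgr r hr)
  have hcl : ∀ r : Ideal A, r.IsPrime → f ∈ r → J ≤ r → r = maximalIdeal A := fun r hr hfr hJr => by
    haveI := hr
    by_contra hne
    obtain ⟨τ, -, h2, -⟩ := H.gen r hfr hne
    exact hJ r hJr ⟨_, h2⟩
  let Z : Set (Ideal A) := {p | p.IsPrime ∧ J ≤ p ∧ p ≠ maximalIdeal A}
  have hmax : ∀ p ∈ Z, ∀ r : Ideal A, r.IsPrime → p ≤ r → r = p ∨ r = maximalIdeal A := by
    rintro p ⟨hp, hJp, -⟩ r hr hpr
    haveI := hp
    haveI := hr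
    rcases eq_or_lt_of_le hpr with h | h
    · exact Or.inl h.symm
    · exact Or.inr (not_between hf (fun s hs hfs hps => hcl s hs hfs (hJp.trans hps)) h)
  have hZ : Z.Finite := by
    refine (J.finite_minimalPrimes_of_isNoetherianRing.subset ?_)
    rintro p ⟨hp, hJp, hpm⟩
    refine ⟨⟨hp, hJp⟩, fun r hr hrp => ?_⟩
    rcases eq_or_lt_of_le hrp with h | h
    · exact h.ge
    · haveI := hp
      haveI := hr.1
      exact absurd (not_between hf (fun s hs hfs hrs => hcl s hs hfs (hr.2.trans hrs)) h) hpm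
  suffices h : ∀ S : Finset (Ideal A), (∀ q ∈ S, q ∈ Z) → ∃ H' : HLift f M₀,
      ∀ (p : Ideal A) [p.IsPrime], p ≠ maximalIdeal A → (H.Good p ∨ p ∈ S) → H'.Good p by
    obtain ⟨H', hH'⟩ := h hZ.toFinset fun q hq => hZ.mem_toFinset.1 hq
    refine ⟨H', fun p _ hp => hH' p (fun e => hp e.ge) ?_⟩
    by_cases hg : H.Good p
    · exact Or.inl hg
    · exact Or.inr (hZ.mem_toFinset.2 ⟨inferInstance, hbad p hg, fun e => hp e.ge⟩)
  intro S
  induction S using Finset.induction with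
  | empty => exact fun _ => ⟨H, fun p _ _ h => h.resolve_right (Finset.notMem_empty p)⟩
  | insert q S _ ih =>
    intro hS
    obtain ⟨H', hH'⟩ := ih fun r hr => hS r (Finset.mem_insert_of_mem hr)
    obtain ⟨hq, hJq, hqm⟩ := hS q (Finset.mem_insert_self q S)
    haveI := hq
    have hqmax := hmax q ⟨hq, hJq, hqm⟩
    have hfq : f ∉ q := fun h => hqm (hcl q hq h hJq)
    obtain ⟨H'', h1, h2⟩ := H'.exists_fix q hfq hqmax (fun p _ hpq => hH' p
        (fun e => hpq.not_ge (e ▸ le_maximalIdeal hq.ne_top)) (Or.inl (by_contra fun hbp => by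
          rcases hmax p ⟨inferInstance, hbad p hbp, fun e => hpq.not_ge (e ▸ le_maximalIdeal hq.ne_top)⟩ q hq hpq.le with h | h
          · exact hpq.ne' h
          · exact hqm h)))
      (h₅ q hfq fun r hr hqr hfr => (hqmax r hr hqr).resolve_right fun e => hfr (e ▸ hf))
    refine ⟨H'', fun p _ hpm hp => ?_⟩
    by_cases hpq : p = q
    · subst hpq; exact h1
    · exact h2 p hpq hpm (hH' p hpm (hp.imp_right fun h => (Finset.mem_insert.1 h).resolve_left hpq))

omit [AddCommGroup M₀] [Module A M₀] in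
theorem offIso_of_gen {B : Type u} [CommRing B] [IsNoetherianRing B] {𝔟 : Ideal B} {X Y : Type u} [AddCommGroup X]
    [Module B X] [AddCommGroup Y] [Module B Y] (w : X →ₗ[B] Y)
    (h : ∀ (p : Ideal B) [p.IsPrime], ¬ 𝔟 ≤ p → ∃ t, GenAt p.primeCompl t ∧ GenAt p.primeCompl (w t)) :
    OffIso 𝔟 w := by
  refine OffIso.of_local (fun p _ hp x hx => ?_) fun p _ hp y => ?_
  · obtain ⟨t, ht, hwt⟩ := h p hp
    obtain ⟨s, hs, a, e⟩ := ht.surj x
    obtain ⟨r, hr, e'⟩ := hwt.inj a (by rw [← map_smul, ← e, map_smul, hx, smul_zero])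
    exact ⟨r * s, mul_mem hr hs, by rw [mul_smul, e, smul_smul, e', zero_smul]⟩
  · obtain ⟨t, ht, hwt⟩ := h p hp
    obtain ⟨s, hs, a, e⟩ := hwt.surj y
    exact ⟨s, hs, a • t, by rw [map_smul, e]⟩

/-- The base change of the lift is the given module on the punctured hypersurface. -/
theorem HLift.nonempty_T_iso {M₀ : Type u} [AddCommGroup M₀] [Module A M₀] [Module (A ⧸ Ideal.span {f}) M₀]
    [IsScalarTower A (A ⧸ Ideal.span {f}) M₀] (H : HLift f M₀) :
    Nonempty ((T (R := CommRingCat.of (A ⧸ Ideal.span {f}))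
        ((maximalIdeal A).map (algebraMap A (A ⧸ Ideal.span {f})))).obj
          (ModuleCat.of (A ⧸ Ideal.span {f}) ((A ⧸ Ideal.span {f}) ⊗[A] H.M)) ≅
      (T (R := CommRingCat.of (A ⧸ Ideal.span {f}))
        ((maximalIdeal A).map (algebraMap A (A ⧸ Ideal.span {f})))).obj
          (ModuleCat.of (A ⧸ Ideal.span {f}) M₀)) := by
  let B := A ⧸ Ideal.span {f}
  let 𝔟 := (maximalIdeal A).map (algebraMap A B)
  let N₀ : ModuleCat.{u} B := ModuleCat.of B M₀
  let w₁ : B ⊗[A] H.P →ₗ[B] B ⊗[A] H.M := H.a.baseChange B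
  let w₂ : B ⊗[A] H.P →ₗ[B] N₀ := LinearMap.liftBaseChange B H.b
  have hpt : ∀ (p : Ideal B) [p.IsPrime], ¬ 𝔟 ≤ p → ∃ t, GenAt p.primeCompl t ∧
      GenAt p.primeCompl (w₁ t) ∧ GenAt p.primeCompl (w₂ t) := by
    intro p _ hp
    let q := p.comap (algebraMap A B)
    have hfq : f ∈ q := by
      rw [Ideal.mem_comap, show algebraMap A B f = 0 from Ideal.Quotient.eq_zero_iff_mem.2 (Ideal.mem_span_singleton_self f)]
      exact zero_mem _
    obtain ⟨τ, h1, h2, h3⟩ := H.gen q hfq fun e' => hp (Ideal.map_le_iff_le_comap.2 e'.ge)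
    refine ⟨(1 : B) ⊗ₜ[A] τ, genAt_tmul p h1, ?_, ?_⟩
    · show GenAt p.primeCompl ((H.a.baseChange B) ((1 : B) ⊗ₜ[A] τ))
      rw [LinearMap.baseChange_tmul]
      exact genAt_tmul p h2
    · show GenAt p.primeCompl ((1 : B) • H.b τ)
      rw [one_smul]
      refine ⟨fun x => ?_, fun b hb => ?_⟩
      · obtain ⟨s, hs, a, ea⟩ := h3.surj x
        exact ⟨algebraMap A B s, hs, algebraMap A B a, (algebraMap_smul B s x).trans (ea.trans (algebraMap_smul B a _).symm)⟩
      · obtain ⟨a, rfl⟩ := Ideal.Quotient.mk_surjective b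
        obtain ⟨s, hs, hd⟩ := h3.inj a ((algebraMap_smul B a _).symm.trans hb)
        refine ⟨algebraMap A B s, hs, ?_⟩
        exact (map_mul (algebraMap A B) _ _).symm.trans
          (Ideal.Quotient.eq_zero_iff_mem.2 (Ideal.mem_span_singleton.2 hd))
  obtain ⟨i1⟩ := nonempty_iso_of_offIso (R := CommRingCat.of B) 𝔟 (M := ModuleCat.of B (B ⊗[A] H.P))
    (N := ModuleCat.of B (B ⊗[A] H.M)) (w := w₁)
    (offIso_of_gen w₁ fun p _ hp => let ⟨t, a, b, _⟩ := hpt p hp; ⟨t, a, b⟩)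
  obtain ⟨i2⟩ := nonempty_iso_of_offIso (R := CommRingCat.of B) 𝔟 (M := ModuleCat.of B (B ⊗[A] H.P))
    (N := N₀) (w := w₂) (offIso_of_gen w₂ fun p _ hp => let ⟨t, a, _, b⟩ := hpt p hp; ⟨t, a, b⟩)
  exact ⟨i1.symm ≪≫ i2⟩

variable (hf : f ∈ maximalIdeal A) (hnzd : f ∈ nonZeroDivisors A) [IsAdicComplete (Ideal.span {f}) A]
  (h₁ : Module.Finite A (_root_.LocCoh.H (maximalIdeal A) 1 (A ⧸ Ideal.span {f})))
  (h₂ : Module.Finite A (_root_.LocCoh.H (maximalIdeal A) 2 (A ⧸ Ideal.span {f})))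
  (h₃ : Subsingleton (_root_.LocCoh.H (maximalIdeal A) 3 (A ⧸ Ideal.span {f})))

include hf hnzd h₁ h₂ h₃

/-- Formal algebraization in bundled form. -/
theorem exists_hLift [Module (A ⧸ Ideal.span {f}) M₀] [IsScalarTower A (A ⧸ Ideal.span {f}) M₀]
    [Module.Finite (A ⧸ Ideal.span {f}) M₀]
    (hinv : InvAway ((maximalIdeal A).map (algebraMap A (A ⧸ Ideal.span {f}))) M₀) :
    Nonempty (HLift f M₀) := by
  classical
  let B := A ⧸ Ideal.span {f}
  haveI : Module.Finite A M₀ := Module.Finite.trans B M₀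
  have hM₀ : ∀ x : M₀, f • x = 0 := fun x => by
    rw [← algebraMap_smul B f x, show algebraMap A B f = 0 from
      Ideal.Quotient.eq_zero_iff_mem.2 (Ideal.mem_span_singleton_self f), zero_smul]
  have hm : (maximalIdeal A).map (algebraMap A B) = (maximalIdeal A).map (Ideal.Quotient.mk (Ideal.span {f})) := rfl
  let G : Set A := {g | g ∈ maximalIdeal A ∧ ∃ t : M₀, GenF (R := CommRingCat.of A) f (Submonoid.powers g) t}
  have hcov : ∀ p : Ideal A, ∀ [p.IsPrime], ¬ maximalIdeal A ≤ p → ∃ g ∈ G, g ∉ p := by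
    intro p _ hp
    by_cases hfp : f ∈ p
    · let P := p.map (Ideal.Quotient.mk (Ideal.span {f}))
      have hker : RingHom.ker (Ideal.Quotient.mk (Ideal.span {f})) ≤ p := by
        rw [Ideal.mk_ker]; exact (Ideal.span_singleton_le_iff_mem _).2 hfp
      haveI : P.IsPrime := Ideal.map_isPrime_of_surjective Ideal.Quotient.mk_surjective hker
      have hcomap : P.comap (Ideal.Quotient.mk (Ideal.span {f})) = p := by
        rw [Ideal.comap_map_of_surjective _ Ideal.Quotient.mk_surjective,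
          sup_eq_left.2 (by rw [← RingHom.ker_eq_comap_bot]; exact hker)]
      obtain ⟨t, ht⟩ := hinv P fun h => hp (by
        rw [← hcomap]; exact Ideal.map_le_iff_le_comap.1 (hm ▸ h))
      obtain ⟨gb, hgb, htb⟩ := exists_powers_genAt ht
      obtain ⟨g, rfl⟩ := Ideal.Quotient.mk_surjective gb
      obtain ⟨a₀, ha₀, ha₀p⟩ := Set.not_subset.1 hp
      have hgp : g ∉ p := fun h => hgb (Ideal.mem_map_of_mem _ h)
      refine ⟨g * a₀, ⟨Ideal.mul_mem_left _ _ ha₀, t, ⟨fun x => ?_, fun a ha => ?_⟩⟩,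
        fun h => (Ideal.IsPrime.mem_or_mem ‹_› h).elim hgp ha₀p⟩
      · obtain ⟨_, ⟨k, rfl⟩, b, e⟩ := htb.surj x
        obtain ⟨b, rfl⟩ := Ideal.Quotient.mk_surjective b
        refine ⟨(g * a₀) ^ k, ⟨k, rfl⟩, a₀ ^ k * b, ?_⟩
        show ((g * a₀) ^ k) • x = (a₀ ^ k * b) • t
        rw [mul_pow, mul_comm, mul_smul, mul_smul, ← algebraMap_smul B (g ^ k) x, ← algebraMap_smul B b t, map_pow]
        exact congrArg _ e
      · have ha' : (Ideal.Quotient.mk (Ideal.span {f}) (show A from a)) • t = 0 := (algebraMap_smul B (show A from a) t).trans ha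
        obtain ⟨_, ⟨k, rfl⟩, e⟩ := htb.inj _ ha'
        refine ⟨(g * a₀) ^ k, ⟨k, rfl⟩, ?_⟩
        have e' : f ∣ g ^ k * (show A from a) := Ideal.mem_span_singleton.1 (Ideal.Quotient.eq_zero_iff_mem.1 (by
          rw [map_mul, map_pow]; exact e))
        show f ∣ (g * a₀) ^ k * (show A from a)
        rw [mul_pow, mul_right_comm]
        exact Dvd.dvd.mul_right e' _
    · refine ⟨f, ⟨hf, 0, ⟨fun x => ⟨f, Submonoid.mem_powers f, (0 : A), ?_⟩, fun a _ => ⟨f, Submonoid.mem_powers f, dvd_mul_right _ _⟩⟩⟩, hfp⟩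
      show f • x = (0 : A) • (0 : M₀)
      rw [hM₀, smul_zero]
  obtain ⟨S, hSG, hS⟩ := (Submodule.fg_span_iff_fg_span_finset_subset G).1 (IsNoetherian.noetherian (Ideal.span G))
  let g : Fin S.card → A := fun i => (S.equivFin.symm i : A)
  have hgG : ∀ i, g i ∈ G := fun i => hSG (S.equivFin.symm i).2
  have hrange : Set.range g = (S : Set A) := by
    ext x
    exact ⟨fun ⟨i, hi⟩ => hi ▸ (S.equivFin.symm i).2, fun hx => ⟨S.equivFin ⟨x, hx⟩, by simp [g]⟩⟩
  have hg : Gens (A := A) (maximalIdeal A) g := ⟨fun i => (hgG i).1, by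
    rw [hrange, show Ideal.span (S : Set A) = Ideal.span G from hS.symm, Ideal.radical_eq_sInf]
    refine le_sInf fun p ⟨hGp, hp⟩ => ?_
    by_contra hle
    obtain ⟨x, hxG, hxp⟩ := hcov p hle
    exact hxp (hGp (Ideal.subset_span hxG))⟩
  choose t ht using fun i => (hgG i).2
  obtain ⟨M, _, _, P, _, _, a, b, hM, hP, hgen⟩ := exists_formal_lift (R := CommRingCat.of A) (f := f)
    (M₀ := M₀) (g := g) (t := t) (𝔞 := maximalIdeal A) hnzd hg hM₀ ht h₁ h₂ h₃
  refine ⟨⟨M, P, a, b, ?_⟩⟩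
  exact (fun p _ hfp hpm => hgen p hfp (fun h => hpm (le_antisymm (le_maximalIdeal (Ideal.IsPrime.ne_top ‹_›)) h)))

/-- Surjectivity of restriction to the hypersurface. -/
theorem picPullbackSurjective_restrict
    (h₅ : ∀ (q : Ideal A) [q.IsPrime], f ∉ q → (∀ (q' : Ideal A), q'.IsPrime → q ≤ q' → f ∉ q' → q' = q) →
      Formal2.PicTrivial (↑(FEt.puncturedSpec (Localization.AtPrime q)) : Scheme.{u})) :
    Formal2.PicPullbackSurjective (Formal2.specQuotMap A f ∣_ FEt.puncturedSpec A) := by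
  rw [Punct.puncturedSpec_eq]
  let B := A ⧸ Ideal.span {f}
  let 𝔟 := (maximalIdeal A).map (algebraMap A B)
  intro L' hL'
  obtain ⟨c, hc⟩ := exists_pullback_T (maximalIdeal A) 𝔟 rfl
  obtain ⟨N₀, hN₀, ⟨e⟩, hinv₀⟩ := exists_invAway_model (R := CommRingCat.of B) 𝔟
    ((Scheme.Modules.pullback c.inv).obj L') (PicLoc.isInvertible_pullback c.inv hL')
  letI : Module A N₀ := Module.compHom N₀ (algebraMap A B)
  haveI : IsScalarTower A B N₀ := .of_algebraMap_smul fun _ _ => rfl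
  obtain ⟨H⟩ := exists_hLift (M₀ := N₀) hf hnzd h₁ h₂ h₃ hinv₀
  obtain ⟨H', hinv⟩ := H.exists_invAway hf h₅
  obtain ⟨i⟩ := H'.nonempty_T_iso (M₀ := N₀)
  obtain ⟨ec⟩ := hc (ModuleCat.of A H'.M)
  exact ⟨_, isInvertible_T (R := CommRingCat.of A) (maximalIdeal A) (ModuleCat.of A H'.M) hinv,
    ⟨ec.symm ≪≫ (Scheme.Modules.pullback c.hom).mapIso (i ≪≫ e) ≪≫ pullbackHomIso c L'⟩⟩

end Groth.Agent.CAlgH.PicPunct
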