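import Groth.Agent.CAlgH.PicPunctLift
import Groth.Agent.Formal2Lib.SatTower

/-!
# The tower of saturated modules of a compatible system of unit cocycles
-/

set_option autoImplicit false

universe u

namespace Groth.Agent.CAlgH.PicPunct

open Groth.Agent.Formal2Lib Groth.Agent.Formal2Lib.Sat

variable {R : CommRingCat.{u}} (f : R)

/-- A localisation modulo a power of `f`. -/
abbrev Qr (n : ℕ) (x : R) : Type u := Localization.Away x ⧸ Ideal.span {im f x ^ (n + 1)}

/-- The reduction map. -/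
noncomputable abbrev qmk (n : ℕ) (x : R) : Localization.Away x →ₐ[R] Qr f n x :=
  Ideal.Quotient.mkₐ R (Ideal.span {im f x ^ (n + 1)})

theorem qmk_eq_zero_iff {n : ℕ} {x : R} (a : Localization.Away x) :
    qmk f n x a = 0 ↔ im f x ^ (n + 1) ∣ a :=
  Ideal.Quotient.eq_zero_iff_mem.trans Ideal.mem_span_singleton

theorem qmk_eq_iff {n : ℕ} {x : R} (a b : Localization.Away x) :
    qmk f n x a = qmk f n x b ↔ im f x ^ (n + 1) ∣ a - b :=
  Ideal.Quotient.eq.trans Ideal.mem_span_singleton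

theorem qmk_surjective (n : ℕ) (x : R) : Function.Surjective (qmk f n x) := Ideal.Quotient.mk_surjective

/-- Restriction modulo a power of `f`. -/
noncomputable def qres (n : ℕ) {x y : R} (h : Dv x y) : Qr f n x →ₐ[R] Qr f n y :=
  Ideal.quotientMapₐ _ (res h) (by
    rw [Ideal.span_le, Set.singleton_subset_iff, SetLike.mem_coe, Ideal.mem_comap, Ideal.mem_span_singleton]
    exact dvd_res h dvd_rfl)

theorem qres_mk {n : ℕ} {x y : R} (h : Dv x y) (a : Localization.Away x) :
    qres f n h (qmk f n x a) = qmk f n y (res h a) := rfl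

theorem qres_qres {n : ℕ} {x y z : R} (h : Dv x y) (h' : Dv y z) (a : Qr f n x) :
    qres f n h' (qres f n h a) = qres f n (h.trans h') a := by
  obtain ⟨a, rfl⟩ := qmk_surjective f n x a
  rw [qres_mk, qres_mk, qres_mk, res_res]

theorem qres_self {n : ℕ} {x : R} (h : Dv x x) (a : Qr f n x) : qres f n h a = a := by
  obtain ⟨a, rfl⟩ := qmk_surjective f n x a
  rw [qres_mk, res_self]

/-- The transition to the lower power. -/
noncomputable def qtr (n : ℕ) (x : R) : Qr f (n + 1) x →ₐ[R] Qr f n x :=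
  Ideal.Quotient.factorₐ R (Ideal.span_singleton_le_span_singleton.2 (pow_dvd_pow _ (Nat.le_succ _)))

theorem qtr_mk (n : ℕ) (x : R) (a : Localization.Away x) : qtr f n x (qmk f (n + 1) x a) = qmk f n x a := rfl

theorem qtr_qres {n : ℕ} {x y : R} (h : Dv x y) (a : Qr f (n + 1) x) :
    qtr f n y (qres f (n + 1) h a) = qres f n h (qtr f n x a) := by
  obtain ⟨a, rfl⟩ := qmk_surjective f (n + 1) x a
  rw [qres_mk, qtr_mk, qtr_mk, qres_mk]

/-- A divisor of the element inverted is a unit. -/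
theorem isUnit_qr {n : ℕ} {x y : R} (h : Dv x y) : IsUnit (algebraMap R (Qr f n y) x) := by
  have := IsUnit.map (qmk f n y).toRingHom h
  rwa [AlgHom.toRingHom_eq_coe, RingHom.coe_coe, AlgHom.commutes] at this

theorem smul_qr {n : ℕ} {y : R} (a : R) (q : Qr f n y) : a • q = algebraMap R (Qr f n y) a * q :=
  Algebra.smul_def a q

theorem pow_smul_split {A M : Type*} [Monoid A] [MulAction A M] (x : A) {k K : ℕ} (h : k ≤ K) (a : M) :
    x ^ K • a = x ^ (K - k) • x ^ k • a := by
  rw [← mul_smul, ← pow_add, Nat.sub_add_cancel h]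

theorem pow_add_smul {A M : Type*} [Monoid A] [MulAction A M] (x : A) (j k : ℕ) (a : M) :
    x ^ (j + k) • a = x ^ j • x ^ k • a := by
  rw [← mul_smul, ← pow_add]

theorem smul_cancel {n : ℕ} {x y : R} (h : Dv x y) (k : ℕ) {a b : Qr f n y} (e : x ^ k • a = x ^ k • b) : a = b := by
  rw [smul_qr, smul_qr, map_pow] at e
  exact ((isUnit_qr f h).pow k).mul_left_cancel e

/-- Denominators for restriction to a product. -/
theorem exists_num_qr {n : ℕ} {x y : R} (h : Dv y (x * y)) (a : Qr f n (x * y)) :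
    ∃ (k : ℕ) (b : Qr f n y), x ^ k • a = qres f n h b := by
  obtain ⟨a, rfl⟩ := qmk_surjective f n _ a
  obtain ⟨⟨c, ⟨_, m, rfl⟩⟩, hc⟩ := IsLocalization.surj (Submonoid.powers (x * y)) a
  have hc' : a * algebraMap R _ ((x * y) ^ m) = algebraMap R _ c := hc
  obtain ⟨v, hv⟩ := ((Dv.refl y).pow m).exists_right_inv
  have hvx : algebraMap R (Localization.Away (x * y)) (y ^ m) * res h v = 1 := by
    rw [← AlgHom.commutes (res h), ← map_mul, map_pow, hv, map_one]
  refine ⟨m, qmk f n y (algebraMap R _ c * v), ?_⟩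
  rw [qres_mk, ← map_smul]
  congr 1
  rw [map_mul (res h), AlgHom.commutes, ← hc', Algebra.smul_def, mul_pow, map_mul]
  linear_combination -(algebraMap R (Localization.Away (x * y)) (x ^ m) * a) * hvx

/-- The kernel of restriction to a product. -/
theorem exists_kill_qr {n : ℕ} {x y : R} (h : Dv y (x * y)) (b : Qr f n y) (hb : qres f n h b = 0) :
    ∃ k : ℕ, x ^ k • b = 0 := by
  have hker : ∀ b : Localization.Away y, res h b = 0 → ∃ k : ℕ, x ^ k • b = 0 := fun b hb => by
    obtain ⟨⟨c, ⟨_, m, rfl⟩⟩, hc⟩ := IsLocalization.surj (Submonoid.powers y) b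
    have hc' : b * algebraMap R _ (y ^ m) = algebraMap R _ c := hc
    have h0 : algebraMap R (Localization.Away (x * y)) c = 0 := by
      rw [← AlgHom.commutes (res h), ← hc', map_mul, hb, zero_mul]
    obtain ⟨⟨_, q, rfl⟩, hq⟩ := (IsLocalization.map_eq_zero_iff (Submonoid.powers (x * y)) _ _).1 h0
    have hq' : (x * y) ^ q * c = 0 := hq
    refine ⟨q, ((Dv.refl y).pow (q + m)).mul_left_eq_zero.1 ?_⟩
    rw [Algebra.smul_def, pow_add, ← map_pow, ← map_pow]
    rw [show algebraMap R (Localization.Away y) (x ^ q) * b * (algebraMap R _ (y ^ q) * algebraMap R _ (y ^ m)) =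
      algebraMap R _ (x ^ q) * algebraMap R _ (y ^ q) * (b * algebraMap R _ (y ^ m)) by ring, hc', ← map_mul, ← map_mul,
      ← mul_pow, hq', map_zero]
  obtain ⟨b, rfl⟩ := qmk_surjective f n y b
  obtain ⟨d, hd⟩ := (qmk_eq_zero_iff f _).1 hb
  obtain ⟨⟨c, ⟨_, m, rfl⟩⟩, hc⟩ := IsLocalization.surj (Submonoid.powers (x * y)) d
  have hc' : d * algebraMap R _ ((x * y) ^ m) = algebraMap R _ c := hc
  obtain ⟨v, hv⟩ := ((Dv.refl y).pow m).exists_right_inv
  have hvx : algebraMap R (Localization.Away (x * y)) (y ^ m) * res h v = 1 := by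
    rw [← AlgHom.commutes (res h), ← map_mul, map_pow, hv, map_one]
  have hd' : res h b = im f (x * y) ^ (n + 1) * d := hd
  obtain ⟨k, hk⟩ := hker (x ^ m • b - im f y ^ (n + 1) * (algebraMap R _ c * v)) (by
    rw [map_sub, map_smul, hd', map_mul, map_mul, map_pow, AlgHom.commutes, AlgHom.commutes, ← hc',
      Algebra.smul_def, mul_pow, map_mul]
    linear_combination -(im f (x * y) ^ (n + 1) * d * algebraMap R (Localization.Away (x * y)) (x ^ m)) * hvx)
  refine ⟨k + m, ?_⟩
  rw [smul_sub, sub_eq_zero] at hk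
  rw [← map_smul, qmk_eq_zero_iff, show x ^ (k + m) • b = x ^ k • x ^ m • b by rw [pow_add, mul_smul], hk]
  exact (dvd_mul_right _ _).trans (mul_smul_comm (x ^ k) (im f y ^ (n + 1)) _).dvd

variable {f} {𝔞 : Ideal R} {r : ℕ} {g : Fin r → R}

/-- The transition function modulo a power of `f`. -/
noncomputable def Cocycle.U {n : ℕ} (c : Cocycle f g (n + 1)) (i j : Fin r) (y : R) (hi : Dv (g i) y)
    (hj : Dv (g j) y) : Qr f n y := qmk f n y (c.E i j y hi hj)

theorem Cocycle.U_mul {n : ℕ} (c : Cocycle f g (n + 1)) (i j k : Fin r) (y : R) (hi : Dv (g i) y)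
    (hj : Dv (g j) y) (hk : Dv (g k) y) : c.U i j y hi hj * c.U j k y hj hk = c.U i k y hi hk := by
  rw [Cocycle.U, Cocycle.U, Cocycle.U, ← map_mul, qmk_eq_iff]
  exact c.mul i j k y hi hj hk

theorem Cocycle.U_self {n : ℕ} (c : Cocycle f g (n + 1)) (i : Fin r) (y : R) (hi : Dv (g i) y) :
    c.U i i y hi hi = 1 := by
  rw [Cocycle.U, ← map_one (qmk f n y), qmk_eq_iff]
  exact c.one_at i y hi

theorem Cocycle.qres_U {n : ℕ} (c : Cocycle f g (n + 1)) (i j : Fin r) {y z : R} (hi : Dv (g i) y)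
    (hj : Dv (g j) y) (h : Dv y z) : qres f n h (c.U i j y hi hj) = c.U i j z (hi.trans h) (hj.trans h) := by
  rw [Cocycle.U, Cocycle.U, qres_mk, Cocycle.E, res_res]

theorem dv_left (x y : R) : Dv x (x * y) := (Dv.refl _).mul_left

theorem dv_right (x y : R) : Dv y (x * y) := (Dv.refl _).mul_right

/-- The sections of the glued line bundle modulo a power of `f`. -/
noncomputable def Cocycle.sect {n : ℕ} (c : Cocycle f g (n + 1)) : Submodule R (∀ i, Qr f n (g i)) where
  carrier := {x | ∀ i j, qres f n (dv_left (g i) (g j)) (x i) * c.U i j _ (dv_left _ _) (dv_right _ _) =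
    qres f n (dv_right (g i) (g j)) (x j)}
  add_mem' := fun hx hy i j => by simp only [Pi.add_apply, map_add, add_mul, hx i j, hy i j]
  zero_mem' := fun i j => by simp only [Pi.zero_apply, map_zero, zero_mul]
  smul_mem' := fun a x hx i j => by simp only [Pi.smul_apply, map_smul, smul_mul_assoc, hx i j]

/-- The component at one index. -/
noncomputable def Cocycle.pr {n : ℕ} (c : Cocycle f g (n + 1)) (l : Fin r) : c.sect →ₗ[R] Qr f n (g l) :=
  (LinearMap.proj l).comp c.sect.subtype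

theorem Cocycle.exists_sect {n : ℕ} (c : Cocycle f g (n + 1)) (l : Fin r) (x : Qr f n (g l)) :
    ∃ (k : ℕ) (w : c.sect), c.pr l w = g l ^ k • x := by
  classical
  choose k b hb using fun i => exists_num_qr f (dv_right (g l) (g i))
    (qres f n (dv_left (g l) (g i)) x * c.U l i _ (dv_left _ _) (dv_right _ _))
  let K := Finset.univ.sup k
  let w : ∀ i, Qr f n (g i) := fun i => g l ^ (K - k i) • b i
  have hw : ∀ i (y : R) (hl : Dv (g l) y) (hi : Dv (g i) y),
      qres f n hi (w i) = g l ^ K • (qres f n hl x * c.U l i y hl hi) := fun i y hl hi => by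
    have hle : k i ≤ K := Finset.le_sup (Finset.mem_univ i)
    have e := congrArg (qres f n (hl.mul hi)) (hb i)
    rw [map_smul, map_mul, qres_qres, c.qres_U, qres_qres] at e
    rw [pow_smul_split (g l) hle, e]
    exact map_smul _ _ _
  choose k2 hk2 using fun p : Fin r × Fin r => exists_kill_qr f (dv_right (g l) (g p.1 * g p.2))
    (qres f n (dv_left (g p.1) (g p.2)) (w p.1) * c.U p.1 p.2 _ (dv_left _ _) (dv_right _ _) -
      qres f n (dv_right (g p.1) (g p.2)) (w p.2)) (by
    rw [map_sub, map_mul, qres_qres, c.qres_U, qres_qres, hw p.1 _ (dv_left _ _) _,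
      hw p.2 _ (dv_left _ _) _, smul_mul_assoc, mul_assoc, c.U_mul, sub_self])
  let K2 := Finset.univ.sup k2
  refine ⟨K2 + K, ⟨fun i => g l ^ K2 • w i, fun i j => ?_⟩, ?_⟩
  · have hle : k2 (i, j) ≤ K2 := Finset.le_sup (Finset.mem_univ (i, j))
    show qres f n _ (g l ^ K2 • w i) * _ = qres f n _ (g l ^ K2 • w j)
    rw [map_smul (qres f n _) (g l ^ K2) (w i), map_smul (qres f n _) (g l ^ K2) (w j), smul_mul_assoc,
      pow_smul_split (g l) hle, pow_smul_split (g l) hle (qres f n _ (w j))]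
    exact congrArg _ (sub_eq_zero.1 ((smul_sub _ _ _).symm.trans (hk2 (i, j))))
  · show g l ^ K2 • w l = g l ^ (K2 + K) • x
    have e := hw l (g l) (Dv.refl _) (Dv.refl _)
    rw [qres_self, qres_self, c.U_self, mul_one] at e
    rw [e, pow_add_smul]

theorem Cocycle.exists_kill {n : ℕ} (c : Cocycle f g (n + 1)) (l : Fin r) (w : c.sect) (h : c.pr l w = 0) :
    ∃ k : ℕ, g l ^ k • w = 0 := by
  choose k hk using fun i => exists_kill_qr f (dv_right (g l) (g i)) (w.1 i) (by
    rw [← w.2 l i, show w.1 l = 0 from h, map_zero, zero_mul])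
  refine ⟨Finset.univ.sup k, Subtype.ext (funext fun i => ?_)⟩
  show g l ^ _ • w.1 i = 0
  rw [pow_smul_split (g l) (Finset.le_sup (f := k) (Finset.mem_univ i)), hk i, smul_zero]

theorem isUnit_end {n : ℕ} {x y : R} (h : Dv x y) (k : ℕ) :
    Function.Bijective fun a : Qr f n y => x ^ k • a := by
  have hu := ((isUnit_qr f (n := n) h).pow k)
  obtain ⟨v, hv⟩ := hu.exists_right_inv
  refine ⟨fun a b e => smul_cancel f h k e, fun a => ⟨v * a, ?_⟩⟩
  show x ^ k • (v * a) = a
  rw [smul_qr, map_pow, ← mul_assoc, hv, one_mul]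

variable [IsNoetherianRing R]

theorem Cocycle.isSat {n : ℕ} (c : Cocycle f g (n + 1)) (hg : Gens 𝔞 g) : IsSat 𝔞 c.sect where
  sep x hx := by
    obtain ⟨m, hm⟩ := hx
    refine Subtype.ext (funext fun i => smul_cancel f (Dv.refl (g i)) m ?_)
    have := hm _ (Ideal.pow_mem_pow (hg.mem i) m)
    rw [show (0 : c.sect).1 i = 0 from rfl, smul_zero]
    exact congrArg (fun z : c.sect => z.1 i) this
  ext m φ := by
    have hb : ∀ i, g i ^ m ∈ 𝔞 ^ m := fun i => Ideal.pow_mem_pow (hg.mem i) m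
    choose y hy using fun i => (isUnit_end (f := f) (n := n) (Dv.refl (g i)) m).2 ((φ ⟨_, hb i⟩).1 i)
    have hcomm : ∀ (b : ↥(𝔞 ^ m)) i, g i ^ m • (φ b).1 i = (b : R) • (φ ⟨_, hb i⟩).1 i := fun b i => by
      have : g i ^ m • b = (b : R) • (⟨_, hb i⟩ : ↥(𝔞 ^ m)) :=
        Subtype.ext (show g i ^ m * (b : R) = (b : R) * g i ^ m from mul_comm _ _)
      have := congrArg (fun z => (φ z).1 i) this
      simpa only [map_smul, Submodule.coe_smul, Pi.smul_apply] using this
    have hy' : ∀ i, g i ^ m • y i = (φ ⟨_, hb i⟩).1 i := hy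
    have hmem : (fun i => y i) ∈ c.sect := fun i j => by
      refine smul_cancel f (dv_left (g i) (g j)) m ?_
      refine smul_cancel f (dv_right (g i) (g j)) m ?_
      show g j ^ m • g i ^ m • (qres f n _ (y i) * _) = g j ^ m • g i ^ m • qres f n _ (y j)
      rw [← smul_mul_assoc (g i ^ m), ← map_smul (qres f n (dv_left (g i) (g j))) (g i ^ m) (y i), hy' i,
        (φ ⟨_, hb i⟩).2 i j, ← map_smul (qres f n (dv_right (g i) (g j))) (g j ^ m), hcomm ⟨_, hb i⟩ j, ← hy' j,
        map_smul, map_smul, smul_comm]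
    refine ⟨⟨_, hmem⟩, fun b => Subtype.ext (funext fun i => smul_cancel f (Dv.refl (g i)) m ?_)⟩
    show g i ^ m • (φ b).1 i = g i ^ m • ((b : R) • y i)
    rw [hcomm, smul_comm, show g i ^ m • y i = _ from hy i]

omit [IsNoetherianRing R] in
theorem qtr_U {n : ℕ} (c' : Cocycle f g (n + 1 + 1)) (c : Cocycle f g (n + 1))
    (h : ∀ i j, im f (g i * g j) ^ (n + 1) ∣ c'.u i j - c.u i j) (i j : Fin r) (y : R) (hi : Dv (g i) y)
    (hj : Dv (g j) y) : qtr f n y (c'.U i j y hi hj) = c.U i j y hi hj := by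
  rw [Cocycle.U, qtr_mk, Cocycle.U, qmk_eq_iff, Cocycle.E, Cocycle.E, ← map_sub]
  exact dvd_res _ (h i j)

/-- The transition map of the sections. -/
noncomputable def Cocycle.trans {n : ℕ} (c' : Cocycle f g (n + 1 + 1)) (c : Cocycle f g (n + 1))
    (h : ∀ i j, im f (g i * g j) ^ (n + 1) ∣ c'.u i j - c.u i j) : c'.sect →ₗ[R] c.sect where
  toFun x := ⟨fun i => qtr f n (g i) (x.1 i), fun i j => by
    rw [← qtr_qres, ← qtr_qres, ← qtr_U c' c h i j, ← map_mul, x.2 i j]⟩
  map_add' x y := Subtype.ext (funext fun i => map_add _ _ _)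
  map_smul' a x := Subtype.ext (funext fun i => map_smul (qtr f n (g i)) a (x.1 i))

theorem torsMem_of_gens (hg : Gens 𝔞 g) {M : Type u} [AddCommGroup M] [Module R M]
    {S : Submodule R M} {x : M} (h : ∀ l, ∃ k : ℕ, g l ^ k • x ∈ S) : TorsMem 𝔞 S x := by
  intro a ha
  have hle : Ideal.span (Set.range g) ≤ Ideal.radical (S.comap (LinearMap.toSpanSingleton R M x)) :=
    Ideal.span_le.2 (by rintro _ ⟨l, rfl⟩; exact h l)
  exact (Ideal.radical_mono hle |>.trans (Ideal.radical_idem _).le) (hg.le_radical ha)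

omit [IsNoetherianRing R] in
theorem eq_of_kill_sub {M : Type u} [AddCommGroup M] [Module R M] (x : R) {j k : ℕ} {v y : M}
    (h : x ^ j • (v - x ^ k • y) = 0) : x ^ j • v = x ^ (j + k) • y := by
  rw [pow_add, mul_smul, ← sub_eq_zero, ← smul_sub, h]

omit [IsNoetherianRing R] in
theorem eq_of_kill_sub' {M : Type u} [AddCommGroup M] [Module R M] (x : R) {j k : ℕ} {v y : M}
    (h : x ^ j • (x ^ k • y - v) = 0) : x ^ j • v = x ^ (j + k) • y := by
  rw [smul_sub, sub_eq_zero] at h
  rw [pow_add, mul_smul, h]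

variable (hg : Gens 𝔞 g) (hf : f ∈ nonZeroDivisors R)
  (c : ∀ n, Cocycle f g (n + 1)) (hc : ∀ n i j, im f (g i * g j) ^ (n + 1) ∣ (c (n + 1)).u i j - (c n).u i j)

/-- The tower of a compatible system of cocycles. -/
noncomputable def tower : Tower 𝔞 f where
  N n := ↥(c n).sect
  q n := (c (n + 1)).trans (c n) (hc n)
  sat n := (c n).isSat hg
  killed n x := Subtype.ext (funext fun i => by
    show f ^ (n + 1) • x.1 i = 0
    obtain ⟨a, ha⟩ := qmk_surjective f n (g i) (x.1 i)
    rw [← ha, ← map_smul, qmk_eq_zero_iff, Algebra.smul_def, map_pow]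
    exact dvd_mul_right _ _)
  coker n y := torsMem_of_gens hg fun l => by
    obtain ⟨a, ha⟩ := qmk_surjective f n (g l) ((c n).pr l y)
    obtain ⟨k, w, hw⟩ := (c (n + 1)).exists_sect l (qmk f (n + 1) (g l) a)
    obtain ⟨k', hk'⟩ := (c n).exists_kill l ((c (n + 1)).trans (c n) (hc n) w - g l ^ k • (show ↥(c n).sect from y)) (by
      show qtr f n (g l) ((c (n + 1)).pr l w) - g l ^ k • (c n).pr l y = 0
      rw [hw, ← ha, map_smul, qtr_mk, sub_self])
    refine ⟨k' + k, g l ^ k' • w, ?_⟩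
    exact (map_smul ((c (n + 1)).trans (c n) (hc n)) _ _).trans (eq_of_kill_sub (M := ↥(c n).sect) (g l) hk')
  ker n x hx := torsMem_of_gens hg fun l => by
    obtain ⟨a, ha⟩ := qmk_surjective f (n + 1) (g l) ((c (n + 1)).pr l x)
    have h0 : qmk f n (g l) a = 0 := by
      rw [← qtr_mk, ha]
      exact congrArg (fun z => (c n).pr l z) hx
    obtain ⟨d, hd⟩ := (qmk_eq_zero_iff f a).1 h0
    obtain ⟨k, w, hw⟩ := (c (n + 1)).exists_sect l (qmk f (n + 1) (g l) d)
    obtain ⟨k', hk'⟩ := (c (n + 1)).exists_kill l (g l ^ k • (show ↥(c (n + 1)).sect from x) - f ^ (n + 1) • w) (by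
      show g l ^ k • (c (n + 1)).pr l x - f ^ (n + 1) • (c (n + 1)).pr l w = 0
      rw [← ha, hw, smul_comm (f ^ (n + 1)), ← smul_sub, hd, ← map_smul, ← map_sub,
        Algebra.smul_def, map_pow, sub_self, map_zero, smul_zero])
    refine ⟨k' + k, g l ^ k' • w, ?_⟩
    exact (smul_comm _ _ _).trans (eq_of_kill_sub' (M := ↥(c (n + 1)).sect) (g l) hk')
  tors n x hx := torsMem_of_gens hg fun l => by
    obtain ⟨a, ha⟩ := qmk_surjective f (n + 1) (g l) ((c (n + 1)).pr l x)
    have h0 : qmk f (n + 1) (g l) (f • a) = 0 := by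
      rw [map_smul, ha]
      exact congrArg (fun z => (c (n + 1)).pr l z) hx
    obtain ⟨d, hd⟩ := (qmk_eq_zero_iff f _).1 h0
    have had : a = im f (g l) ^ (n + 1) * d := by
      refine (mem_nonZeroDivisors_iff_left.1 (im_mem_nonZeroDivisors hf (g l))) |> fun h => sub_eq_zero.1 (h _ ?_)
      rw [mul_sub, ← mul_assoc, ← pow_succ', ← hd, Algebra.smul_def, sub_self]
    obtain ⟨k, w, hw⟩ := (c (n + 1)).exists_sect l (qmk f (n + 1) (g l) d)
    obtain ⟨k', hk'⟩ := (c (n + 1)).exists_kill l (g l ^ k • (show ↥(c (n + 1)).sect from x) - f ^ (n + 1) • w) (by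
      show g l ^ k • (c (n + 1)).pr l x - f ^ (n + 1) • (c (n + 1)).pr l w = 0
      rw [← ha, hw, smul_comm (f ^ (n + 1)), ← smul_sub, had, ← map_smul, ← map_sub,
        Algebra.smul_def, map_pow, sub_self, map_zero, smul_zero])
    refine ⟨k' + k, g l ^ k' • w, ?_⟩
    exact (smul_comm _ _ _).trans (eq_of_kill_sub' (M := ↥(c (n + 1)).sect) (g l) hk')

/-- A compatible system starting from a cocycle modulo `f`. -/
theorem exists_system (hg : Gens 𝔞 g) (hf : f ∈ nonZeroDivisors R)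
    (h₃ : Subsingleton (_root_.LocCoh.H 𝔞 3 (R ⧸ Ideal.span ({f} : Set R)))) (c₀ : Cocycle f g 1) :
    ∃ c : ∀ n, Cocycle f g (n + 1), c 0 = c₀ ∧
      ∀ n i j, im f (g i * g j) ^ (n + 1) ∣ (c (n + 1)).u i j - (c n).u i j := by
  choose st hst using fun (n : ℕ) (d : Cocycle f g (n + 1)) => d.exists_step 𝔞 hg hf h₃ (Nat.succ_pos n)
  let c : ∀ n, Cocycle f g (n + 1) := fun n => Nat.rec (motive := fun n => Cocycle f g (n + 1)) c₀ st n
  exact ⟨c, rfl, fun n => hst n (c n)⟩

end Groth.Agent.CAlgH.PicPunct
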