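import Groth.Agent.CAlgH.PicPunctCI
import Groth.Agent.ParaF29.Ufd
import Groth.Agent.ParaF29.Domain

/-!
# Complete intersections factorial in codimension at most three are factorial
-/

set_option autoImplicit false
set_option backward.isDefEq.respectTransparency false

universe u

open CategoryTheory AlgebraicGeometry IsLocalRing
open Groth.Agent.FEtFF.PurityCI

namespace Groth.Agent.CAlgH.PicPunct

/-- A factorial domain, bundled. -/
def IsUFD (R : Type u) [CommRing R] : Prop := IsDomain R ∧ UniqueFactorizationMonoid R

theorem IsUFD.of_ringEquiv {R S : Type u} [CommRing R] [CommRing S] (e : R ≃+* S) (h : IsUFD R) : IsUFD S := by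
  haveI := h.1
  haveI := h.2
  haveI : IsDomain S := e.symm.toMulEquiv.isDomain R
  exact ⟨inferInstance, e.toMulEquiv.uniqueFactorizationMonoid inferInstance⟩

theorem four_le_depth_of_completeIntersection (A : Type u) [CommRing A] [IsNoetherianRing A] [IsLocalRing A]
    (hA : Pi1.IsCompleteIntersection A) (hd : (4 : WithBot ℕ∞) ≤ ringKrullDim A) :
    (4 : ℕ∞) ≤ _root_.LocCoh.depth A A := by
  obtain ⟨B, _, _, rs, hm, hreg, ⟨e⟩⟩ := hA
  let C := AdicCompletion (maximalIdeal A) A
  haveI : IsNoetherianRing C := Matlis6.isNoetherianRing_adicCompletion _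
  haveI : Module.Flat A C := AdicCompletion.flat_of_isNoetherian _
  rw [← depth_eq_of_map_eq A C AdicCompletion.maximalIdeal_eq_map.symm]
  exact (picTrivial_of_isRegular rs hm hreg e (by rw [CommAlg6.ringKrullDim_completion]; exact hd)).2

theorem isUFD_localization (A : Type u) [CommRing A] [IsNoetherianRing A] [IsLocalRing A]
    (hA : Pi1.IsCompleteIntersection A)
    (h : ∀ (p : Ideal A) [p.IsPrime], ringKrullDim (Localization.AtPrime p) ≤ 3 → IsUFD (Localization.AtPrime p))
    (n : ℕ∞) : ∀ (p : Ideal A) [p.IsPrime], p.height = n → IsUFD (Localization.AtPrime p) := by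
  induction n using WellFoundedLT.induction with
  | ind n ih =>
    intro p _ hn
    let R := Localization.AtPrime p
    by_cases h3 : ringKrullDim R ≤ 3
    · exact h p h3
    haveI : IsNoetherianRing R := IsLocalization.isNoetherianRing p.primeCompl _ inferInstance
    have h4 : (4 : WithBot ℕ∞) ≤ ringKrullDim R := by
      rw [IsLocalization.AtPrime.ringKrullDim_eq_height p R, not_le] at h3
      rw [IsLocalization.AtPrime.ringKrullDim_eq_height p R]
      have : (3 : ℕ∞) < p.height := WithBot.coe_lt_coe.1 h3
      exact WithBot.coe_le_coe.2 (Order.add_one_le_of_lt this)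
    have hCI := CILocalization.isCompleteIntersection_localization hA p
    have hdep := four_le_depth_of_completeIntersection R hCI h4
    have hst : ∀ y : ↥(Spec (CommRingCat.of R)), y ∈ FEt.puncturedSpec R →
        IsUFD ((Spec (CommRingCat.of R)).presheaf.stalk y) := by
      intro y hy
      let Q : Ideal R := (show PrimeSpectrum R from y).asIdeal
      let q : Ideal A := Q.comap (algebraMap A R)
      have hQ : Q < maximalIdeal R := lt_of_le_of_ne (le_maximalIdeal y.isPrime.ne_top)
        fun e => hy (Set.mem_singleton_iff.2 (PrimeSpectrum.ext e))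
      have hqp : q < p := by
        have hc : (maximalIdeal R).comap (algebraMap A R) = p := Localization.AtPrime.comap_maximalIdeal
        refine lt_of_le_of_ne (hc ▸ Ideal.comap_mono hQ.le) fun e => hQ.ne ?_
        rw [← IsLocalization.map_comap p.primeCompl R Q, ← IsLocalization.map_comap p.primeCompl R (maximalIdeal R)]
        exact congrArg _ (e.trans hc.symm)
      have hh : q.height < n := hn ▸ Ideal.height_strict_mono_of_isPrime_of_isPrime hqp
      haveI : IsLocalization Q.primeCompl ((Spec.structureSheaf R).presheaf.stalk y) :=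
        StructureSheaf.IsLocalization.to_stalk R y
      haveI : IsLocalization.AtPrime (Localization.AtPrime Q) q :=
        IsLocalization.isLocalization_isLocalization_atPrime_isLocalization p.primeCompl (Localization.AtPrime Q) Q
      let e1 : Localization.AtPrime q ≃+* Localization.AtPrime Q := (IsLocalization.algEquiv q.primeCompl _ _).toRingEquiv
      exact ((ih q.height hh q rfl).of_ringEquiv e1).of_ringEquiv
        (IsLocalization.algEquiv Q.primeCompl (Localization.AtPrime Q)
          ((Spec.structureSheaf R).presheaf.stalk y)).toRingEquiv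
    have hd2 : (2 : ℕ∞) ≤ _root_.LocCoh.depth R R := le_trans (by decide) hdep
    have hdim : (2 : WithBot ℕ∞) ≤ ringKrullDim R := le_trans (by decide) h4
    haveI : IsDomain R := ParaF29.isDomain_of_punctured R hdim hd2 fun y hy => (hst y hy).1
    exact ⟨inferInstance, ParaF29.ufm_of_picTrivial R hdim (ParaF29.bijective_res_of_depth R hd2)
      (picTrivial_of_completeIntersection R hCI h4) fun y hy => (hst y hy).2⟩

theorem isUFD_of_codim_le_three (A : Type u) [CommRing A] [IsNoetherianRing A] [IsLocalRing A]
    (hA : SGA2.IsAbsCompleteIntersection A)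
    (h : ∀ (p : Ideal A) [p.IsPrime], ringKrullDim (Localization.AtPrime p) ≤ 3 → IsUFD (Localization.AtPrime p)) :
    IsUFD A := by
  obtain ⟨B, _, _, rs, hm, hreg, ⟨e⟩⟩ := hA
  let π : B →+* A := e.symm.toRingHom.comp (Ideal.Quotient.mk _)
  have hk : RingHom.ker π = Ideal.ofList rs := by
    ext x
    show e.symm (Ideal.Quotient.mk _ x) = 0 ↔ _
    rw [map_eq_zero_iff _ e.symm.injective, Ideal.Quotient.eq_zero_iff_mem]
  have hCI : Pi1.IsCompleteIntersection A :=
    (CIPresentation.isCompleteIntersection_iff π (e.symm.surjective.comp Ideal.Quotient.mk_surjective)).2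
      ⟨rs, hreg, hk.symm⟩
  have h1 := isUFD_localization A hCI h _ (maximalIdeal A) rfl
  have : IsLocalization.AtPrime A (maximalIdeal A) := IsLocalization.self
    fun x hx => IsLocalRing.notMem_maximalIdeal.1 hx
  exact h1.of_ringEquiv (IsLocalization.algEquiv (maximalIdeal A).primeCompl (Localization.AtPrime (maximalIdeal A)) A).toRingEquiv

end Groth.Agent.CAlgH.PicPunct
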