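import Groth.Agent.CAlgH.GeomRegularPoint
import Groth.Agent.CAlgH.RegularBase
import Groth.Agent.CAlgH.RegularLocal
import Groth.Agent.CAlgH.RegularSmooth
import Mathlib

/-! Popescu's theorem: regular homomorphisms of Noetherian rings are filtered colimits of smooth algebras. -/

universe u

open IsLocalRing
open scoped TensorProduct

namespace Groth.Agent.CAlgH.Popescu

/-- Generators of the singular radical by elements with smooth localisations. -/
theorem exists_smooth_generators {R A : Type u} [CommRing R] [IsNoetherianRing R] [CommRing A] [Algebra R A]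
    [Algebra.FinitePresentation R A] :
    ∃ (r : ℕ) (a : Fin r → A), (∀ j, Algebra.Smooth R (Localization.Away (a j))) ∧
      (∀ j, Smoothing.IsStrictlyStandard R A (a j)) ∧
      Smoothing.singularIdeal R A ≤ (Ideal.span (Set.range a)).radical := by
  classical
  haveI : IsNoetherianRing A := Algebra.FiniteType.isNoetherianRing R A
  obtain ⟨s, hs, hspan⟩ := (Submodule.fg_span_iff_fg_span_finset_subset _).1
    (IsNoetherian.noetherian (Ideal.span {a : A | Smoothing.IsStrictlyStandard R A a}))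
  refine ⟨s.card, fun j => (s.equivFin.symm j).1, fun j =>
    (StrictlyStandardSmooth.smooth_and_stablyFree _ (hs (s.equivFin.symm j).2)).1,
    fun j => hs (s.equivFin.symm j).2, ?_⟩
  rw [SingularIdeal.singularIdeal_eq.1]
  refine Ideal.radical_mono (hspan.le.trans (Ideal.span_le.2 fun b hb => Ideal.subset_span ⟨s.equivFin ⟨b, hb⟩, by simp⟩))

theorem singRad_le {R A Λ : Type u} [CommRing R] [CommRing A] [Algebra R A] [CommRing Λ] [Algebra R Λ]
    (φ : A →ₐ[R] Λ) {r : ℕ} (a : Fin r → A) (h : Smoothing.singularIdeal R A ≤ (Ideal.span (Set.range a)).radical) :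
    Smoothing.singRad R φ ≤ (Ideal.span (Set.range fun j => φ (a j))).radical := by
  refine Ideal.radical_le_radical_iff.2 ((Ideal.map_mono h).trans
    ((Ideal.map_radical_le φ).trans (Ideal.radical_mono ?_)))
  rw [Ideal.map_span, ← Set.range_comp]
  exact le_rfl

/-- A problem with trivial singular radical factors through a smooth algebra. -/
theorem factor_of_singRad_eq_top {R A Λ : Type u} [CommRing R] [IsNoetherianRing R] [CommRing A] [Algebra R A]
    [Algebra.FinitePresentation R A] [CommRing Λ] [Algebra R Λ] (φ : A →ₐ[R] Λ)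
    (h : Smoothing.singRad R φ = ⊤) :
    ∃ (B : Type u) (_ : CommRing B) (_ : Algebra R B), Algebra.Smooth R B ∧
      ∃ (g : A →ₐ[R] B) (h : B →ₐ[R] Λ), h.comp g = φ := by
  obtain ⟨r, a, hsm, -, ha⟩ := exists_smooth_generators (R := R) (A := A)
  have h1 : (1 : Λ) ∈ Ideal.span (Set.range fun j => φ (a j)) := by
    have := singRad_le φ a ha
    rw [h, top_le_iff, Ideal.radical_eq_top] at this
    exact (Ideal.eq_top_iff_one _).1 this
  obtain ⟨δ, hδ⟩ := Ideal.mem_span_range_iff_exists_fun.1 h1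
  obtain ⟨A', _, _, hA', ι, φ', hι, hsm'⟩ := UnramifiedDVR.exists_slack_algebra φ a hsm (fun _ : Fin 1 => (1 : R)) 1
    (fun _ j => δ j) (fun _ => by rw [map_one, one_pow, hδ])
  haveI := hsm' 0
  haveI : IsLocalization.Away (algebraMap R A' 1) A' := IsLocalization.away_of_isUnit_of_bijective A' (by simp)
    Function.bijective_id
  haveI : Algebra.Smooth R A' :=
    Algebra.Smooth.of_equiv ((IsLocalization.algEquiv (Submonoid.powers (algebraMap R A' 1))
      (Localization.Away (algebraMap R A' 1)) A').restrictScalars R)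
  exact ⟨A', inferInstance, inferInstance, inferInstance, ι, φ', hι⟩

/-- Regularity passes to quotients of the base. -/
theorem isRegularHom_quotient {R Λ : Type u} [CommRing R] [CommRing Λ] [Algebra R Λ] (h : CAlg.IsRegularHom R Λ)
    (K : Ideal R) : CAlg.IsRegularHom (R ⧸ K) (Λ ⧸ K.map (algebraMap R Λ)) := by
  haveI := h.1
  haveI : Algebra.FiniteType R (R ⧸ K) := Algebra.FiniteType.of_surjective (Algebra.ofId R _) Ideal.Quotient.mk_surjective
  have h' := (isRegularHom_iff_fields _ _).1 (isRegularHom_baseChange R Λ (R ⧸ K) h)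
  refine (isRegularHom_iff_fields _ _).2 ⟨RegularPoint.flat_quotient R Λ K, fun F _ _ hF => ?_⟩
  let e : (R ⧸ K) ⊗[R] Λ ≃ₐ[R] Λ ⧸ K.map (algebraMap R Λ) :=
    (Algebra.TensorProduct.comm R _ Λ).trans
      ((Algebra.TensorProduct.quotIdealMapEquivTensorQuot Λ K).symm.restrictScalars R)
  let e' : (R ⧸ K) ⊗[R] Λ ≃ₐ[R ⧸ K] Λ ⧸ K.map (algebraMap R Λ) := AlgEquiv.ofRingEquiv (f := e.toRingEquiv) (fun r => by
    obtain ⟨r, rfl⟩ := Ideal.Quotient.mk_surjective r
    show e (algebraMap R ((R ⧸ K) ⊗[R] Λ) r) = _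
    rw [e.commutes]
    rfl)
  haveI := h'.2 F hF
  exact IsRegularRing.of_ringEquiv (R := F ⊗[R ⧸ K] ((R ⧸ K) ⊗[R] Λ)) (Algebra.TensorProduct.congr (AlgEquiv.refl (R := R ⧸ K) (A₁ := F)) e').toRingEquiv

/-- Smoothing at a geometrically regular point, in any characteristic. -/
theorem exists_smooth_at_point {k A L : Type u} [Field k] [CommRing A] [Algebra k A]
    [Algebra.FinitePresentation k A] [CommRing L] [IsLocalRing L] [IsNoetherianRing L] [Algebra k L]
    (hL : CAlg.IsGeometricallyRegular k L) (φ : A →ₐ[k] L) (hm : maximalIdeal L ≤ Smoothing.singRad k φ) :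
    ∃ (C : Type u) (_ : CommRing C) (_ : Algebra k C), Algebra.FinitePresentation k C ∧
      ∃ (g : A →ₐ[k] C) (h : C →ₐ[k] L), h.comp g = φ ∧
        Algebra.IsSmoothAt k ((maximalIdeal L).comap h.toRingHom) := by
  have hfs := AdicSmooth.of_isGeometricallyRegular hL
  obtain ⟨p, _⟩ := CharP.exists k
  rcases CharP.char_is_prime_or_zero k p with hp | hp
  · haveI := Fact.mk hp
    exact GeomRegularPoint.exists_smooth_at_closed_point p hfs φ hm
  · subst hp
    haveI : CharZero k := CharP.charP_to_charZero k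
    haveI := AdicSmooth.isRegularLocalRing_of_adicSmooth hfs
    haveI := EGA41Lib.isGeometricallyReduced_of_charZero k (ResidueField L)
    exact RegularPoint.exists_smooth_at_closed_point φ hm

/-- The singular radical at a localisation at a minimal prime contains the maximal ideal. -/
theorem maximalIdeal_le_singRad {R A Λ L : Type u} [CommRing R] [CommRing A] [Algebra R A] [CommRing Λ] [Algebra R Λ]
    (φ : A →ₐ[R] Λ) (𝔮 : Ideal Λ) [𝔮.IsPrime] (hmin : 𝔮 ∈ (Smoothing.singRad R φ).minimalPrimes)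
    [CommRing L] [IsLocalRing L] [Algebra Λ L] [IsLocalization.AtPrime L 𝔮] [Algebra R L] [IsScalarTower R Λ L] :
    maximalIdeal L ≤ Smoothing.singRad R ((IsScalarTower.toAlgHom R Λ L).comp φ) := by
  intro y hy
  refine (Ideal.radical_eq_sInf _).ge (Submodule.mem_sInf.2 fun P hP => ?_)
  obtain ⟨hle, hPp⟩ := hP
  haveI := hPp
  suffices P = maximalIdeal L by rwa [this]
  have h1 : Smoothing.singRad R φ ≤ Ideal.comap (algebraMap Λ L) P :=
    (Ideal.IsPrime.radical_le_iff inferInstance).2 (Ideal.map_le_iff_le_comap.2 fun z hz =>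
      hle (Ideal.mem_map_of_mem ((IsScalarTower.toAlgHom R Λ L).comp φ) hz))
  have h2 : Ideal.comap (algebraMap Λ L) P ≤ 𝔮 := fun z hz =>
    (IsLocalization.AtPrime.to_map_mem_maximal_iff L 𝔮 z).1 (le_maximalIdeal hPp.ne_top hz)
  have h3 : Ideal.comap (algebraMap Λ L) P = 𝔮 := le_antisymm h2 (hmin.2 ⟨inferInstance, h1⟩ h2)
  rw [← IsLocalization.map_comap 𝔮.primeCompl L P, Ideal.under_def, h3, IsLocalization.AtPrime.map_eq_maximalIdeal 𝔮 L]

theorem torsion_fin_one {M : Type u} [CommRing M] (i : Fin 1) (g : Fin 1 → M)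
    (G : {j : Fin 1 // (j : ℕ) < (i : ℕ)} → M) (hg : ∀ x, g i * x = 0 → x = 0) :
    ∀ x : M ⧸ Ideal.span (Set.range G), Ideal.Quotient.mk _ (g i) ^ 2 * x = 0 → Ideal.Quotient.mk _ (g i) * x = 0 := by
  intro x hx
  obtain ⟨x, rfl⟩ := Ideal.Quotient.mk_surjective x
  rw [← map_pow, ← map_mul, Ideal.Quotient.eq_zero_iff_mem] at hx
  rw [← map_mul, Ideal.Quotient.eq_zero_iff_mem]
  haveI : IsEmpty {j : Fin 1 // (j : ℕ) < (i : ℕ)} := ⟨fun j => by have := j.2; omega⟩
  rw [Set.range_eq_empty, Ideal.span_empty, Ideal.mem_bot] at hx ⊢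
  rw [pow_two, mul_assoc] at hx
  exact hg _ hx

/-- Smoothing at a point over a minimal prime of a reduced base. -/
theorem exists_smooth_at_minimal {R A Λ : Type u} [CommRing R] [IsNoetherianRing R] [IsReduced R] [CommRing A]
    [Algebra R A] [Algebra.FinitePresentation R A] [CommRing Λ] [IsNoetherianRing Λ] [Algebra R Λ]
    (hreg : CAlg.IsRegularHom R Λ) (φ : A →ₐ[R] Λ) (𝔮 : Ideal Λ) [𝔮.IsPrime]
    (hmin : 𝔮 ∈ (Smoothing.singRad R φ).minimalPrimes) (hp : 𝔮.comap (algebraMap R Λ) ∈ minimalPrimes R) :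
    ∃ (C : Type u) (_ : CommRing C) (_ : Algebra R C), Algebra.FinitePresentation R C ∧
      ∃ (g : A →ₐ[R] C) (h : C →ₐ[R] Λ), h.comp g = φ ∧ Algebra.IsSmoothAt R (𝔮.comap h.toRingHom) := by
  classical
  let p := 𝔮.comap (algebraMap R Λ)
  have hfield : maximalIdeal (Localization.AtPrime p) = ⊥ := by
    have : IsReduced (Localization.AtPrime p) := inferInstance
    rw [eq_bot_iff]
    refine le_trans (fun x hx => ?_) ((nilradical_eq_zero (Localization.AtPrime p)).le)
    rw [nilradical_eq_sInf, Submodule.mem_sInf]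
    intro P hP
    haveI : Ideal.IsPrime P := hP
    haveI := IsLocalization.subsingleton_primeSpectrum_of_mem_minimalPrimes p hp (Localization.AtPrime p)
    have := congrArg PrimeSpectrum.asIdeal (Subsingleton.elim (⟨P, inferInstance⟩ : PrimeSpectrum (Localization.AtPrime p))
      ⟨maximalIdeal _, inferInstance⟩)
    exact this.ge hx
  let K := p.ResidueField
  haveI : IsLocalization.AtPrime K p := by
    refine IsLocalization.isLocalization_of_algEquiv p.primeCompl
      (AlgEquiv.ofBijective (IsScalarTower.toAlgHom R (Localization.AtPrime p) K) ⟨?_, residue_surjective⟩)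
    intro x y hxy
    have h1 : x - y ∈ maximalIdeal (Localization.AtPrime p) := Ideal.Quotient.eq.1 hxy
    rwa [hfield, Submodule.mem_bot, sub_eq_zero] at h1
  let L := Localization.AtPrime 𝔮
  haveI : IsNoetherianRing L := IsLocalization.isNoetherianRing 𝔮.primeCompl L inferInstance
  letI : Algebra K L := (IsLocalization.lift (M := p.primeCompl) (g := algebraMap R L) fun s => by
    rw [IsScalarTower.algebraMap_apply R Λ L]
    exact IsLocalization.map_units L (⟨algebraMap R Λ s, s.2⟩ : 𝔮.primeCompl)).toAlgebra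
  haveI : IsScalarTower R K L := IsScalarTower.of_algebraMap_eq fun x => (IsLocalization.lift_eq _ x).symm
  have hgeom : CAlg.IsGeometricallyRegular K L := (isRegularHom_field_iff K L).1
    (isRegularHom_of_isLocalization_base R K L p.primeCompl
      (isRegularHom_of_isLocalization_target R Λ L 𝔮.primeCompl hreg))
  let φL : A →ₐ[R] L := (IsScalarTower.toAlgHom R Λ L).comp φ
  let φK : K ⊗[R] A →ₐ[K] L := Algebra.TensorProduct.lift (Algebra.ofId K L) φL fun _ _ => Commute.all _ _
  have hm : maximalIdeal L ≤ Smoothing.singRad K φK := by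
    obtain ⟨r, a, -, hstd, ha⟩ := exists_smooth_generators (R := R) (A := A)
    refine (maximalIdeal_le_singRad φ 𝔮 hmin).trans ((singRad_le φL a ha).trans (Ideal.radical_mono (Ideal.span_le.2 ?_)))
    rintro _ ⟨j, rfl⟩
    have h1 : ((1 : K) ⊗ₜ[R] a j) ∈ Smoothing.singularIdeal K (K ⊗[R] A) := by
      rw [SingularIdeal.singularIdeal_eq.1]
      exact Ideal.le_radical (Ideal.subset_span ((StandardBaseChange.isStandard_baseChange K (a j)).2 (hstd j)))
    have h2 := Ideal.mem_map_of_mem φK h1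
    rw [show φK ((1 : K) ⊗ₜ[R] a j) = φL (a j) by simp [φK]] at h2
    exact h2
  obtain ⟨B, _, _, hB, g, h, hgh, hsm⟩ := exists_smooth_at_point hgeom φK hm
  haveI := hB
  haveI := hsm
  letI : Algebra R B := ((algebraMap K B).comp (algebraMap R K)).toAlgebra
  haveI : IsScalarTower R K B := IsScalarTower.of_algebraMap_eq' rfl
  obtain ⟨r, π, hπ, -⟩ := ‹Algebra.FinitePresentation R A›.out
  exact DelocalizeWeak.exists_delocalization_aux φ 𝔮 (Rp := K) (Λq := L) p.primeCompl (fun s hs => hs)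
    ((g.restrictScalars R).comp Algebra.TensorProduct.includeRight) h (fun a => by
      show h (g (1 ⊗ₜ a)) = _
      rw [← AlgHom.comp_apply, hgh]
      simp [φK, φL]) π hπ

/-- Smoothing at a point containing a nonzerodivisor of the base, given the theorem modulo it. -/
theorem exists_smooth_at_nonzerodivisor {R A Λ : Type u} [CommRing R] [IsNoetherianRing R] [CommRing A]
    [Algebra R A] [Algebra.FinitePresentation R A] [CommRing Λ] [IsNoetherianRing Λ] [Algebra R Λ]
    (hreg : CAlg.IsRegularHom R Λ) (φ : A →ₐ[R] Λ) (𝔮 : Ideal Λ) [𝔮.IsPrime]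
    (hmin : 𝔮 ∈ (Smoothing.singRad R φ).minimalPrimes) (x : R) (hx : x ∈ nonZeroDivisors R)
    (hx𝔮 : algebraMap R Λ x ∈ 𝔮)
    (hquot : ∀ (e : ℕ) (L : Type u) [CommRing L] [IsNoetherianRing L] [Algebra (R ⧸ Ideal.span {x ^ e}) L],
      1 ≤ e → CAlg.IsRegularHom (R ⧸ Ideal.span {x ^ e}) L → Smoothing.IndSmooth (R ⧸ Ideal.span {x ^ e}) L) :
    ∃ (C : Type u) (_ : CommRing C) (_ : Algebra R C), Algebra.FinitePresentation R C ∧
      ∃ (g : A →ₐ[R] C) (h : C →ₐ[R] Λ), h.comp g = φ ∧ Algebra.IsSmoothAt R (𝔮.comap h.toRingHom) := by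
  classical
  let L := Localization.AtPrime 𝔮
  haveI : IsNoetherianRing L := IsLocalization.isNoetherianRing 𝔮.primeCompl L inferInstance
  have hregL := isRegularHom_of_isLocalization_target R Λ L 𝔮.primeCompl hreg
  haveI := hregL.1
  let φL : A →ₐ[R] L := (IsScalarTower.toAlgHom R Λ L).comp φ
  obtain ⟨r, a, hsm, -, ha⟩ := exists_smooth_generators (R := R) (A := A)
  have hxL : algebraMap R L x ∈ maximalIdeal L := by
    rw [IsScalarTower.algebraMap_apply R Λ L]
    exact (IsLocalization.AtPrime.to_map_mem_maximal_iff L 𝔮 _).2 hx𝔮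
  obtain ⟨n, hn⟩ := (maximalIdeal_le_singRad φ 𝔮 hmin).trans (singRad_le φL a ha) hxL
  obtain ⟨δ, hδ⟩ := Ideal.mem_span_range_iff_exists_fun.1 hn
  obtain ⟨A', _, _, hA', ι, φ', hι, hsm'⟩ := UnramifiedDVR.exists_slack_algebra φL a hsm (fun _ : Fin 1 => x) n
    (fun _ j => δ j) (fun _ => hδ.symm)
  haveI := hA'
  obtain ⟨C₂, _, _, hC₂, inc, r₂, hr, c, hc, hstd⟩ :=
    RegularPoint.exists_strictlyStandard_model (A' := A') (fun _ : Fin 1 => x) hsm'
  haveI := hC₂
  let K : Ideal R := Ideal.span (Set.range fun _ : Fin 1 => (x ^ c) ^ 8)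
  have hK : K = Ideal.span {x ^ (c * 8)} := by
    show Ideal.span _ = _
    rw [Set.range_const, pow_mul]
  have hind : Smoothing.IndSmooth (R ⧸ K) (L ⧸ K.map (algebraMap R L)) := by
    have : ∀ K' : Ideal R, K' = Ideal.span {x ^ (c * 8)} →
        Smoothing.IndSmooth (R ⧸ K') (L ⧸ K'.map (algebraMap R L)) := by
      rintro _ rfl
      exact hquot _ _ (by omega) (isRegularHom_quotient hregL _)
    exact this K hK
  have hreg₀ : ∀ y : R, x ^ c * y = 0 → y = 0 := fun y hy => (pow_mem hx c).1 y hy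
  have hinj : ∀ y : L, algebraMap R L (x ^ c) * y = 0 → y = 0 := fun y hy => by
    have h1 : IsSMulRegular L (algebraMap R L (x ^ c)) := IsSMulRegular.of_flat (isSMulRegular_iff_right_eq_zero_of_smul.2
      fun y hy => hreg₀ y hy)
    exact h1.right_eq_zero_of_smul hy
  obtain ⟨B, _, _, hBfp, α, β, hαβ, -, hnot⟩ := RegularPoint.resolvable_of_indSmooth_quotient (φ'.comp r₂)
    (maximalIdeal L) (fun _ : Fin 1 => x ^ c)
    (fun i => by rw [map_pow]; exact Ideal.pow_mem_of_mem _ hxL c hc)
    (fun i => torsion_fin_one i (fun _ => x ^ c) _ hreg₀)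
    (fun i => torsion_fin_one i (fun _ => algebraMap R L (x ^ c)) _ hinj)
    hstd K rfl hind
  haveI := hBfp
  haveI : Algebra.IsSmoothAt R ((maximalIdeal L).comap β.toRingHom) := by
    by_contra hns
    refine hnot ((Ideal.IsPrime.radical_le_iff inferInstance).2 (Ideal.map_le_iff_le_comap.2 fun z hz => ?_))
    exact (PrimeSpectrum.mem_vanishingIdeal _ _).1 hz ⟨(maximalIdeal L).comap β.toRingHom, inferInstance⟩ hns
  haveI : IsLocalization (IsUnit.submonoid R) R := IsLocalization.self fun _ h => h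
  obtain ⟨r', π, hπ, -⟩ := ‹Algebra.FinitePresentation R A›.out
  exact DelocalizeWeak.exists_delocalization_aux φ 𝔮 (Rp := R) (Λq := L) (IsUnit.submonoid R)
    (fun s hs hq => ‹𝔮.IsPrime›.ne_top (Ideal.eq_top_of_isUnit_mem _ hq ((hs : IsUnit s).map _)))
    (α.comp (inc.comp ι)) β (fun y => by
      show β (α (inc (ι y))) = _
      rw [← AlgHom.comp_apply β α, hαβ, AlgHom.comp_apply, ← AlgHom.comp_apply r₂ inc, hr, AlgHom.id_apply,
        ← AlgHom.comp_apply φ' ι, hι]
      rfl) π hπ

/-- In a reduced Noetherian ring a prime without nonzerodivisors is minimal. -/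
theorem mem_minimalPrimes_of_zeroDivisors {R : Type u} [CommRing R] [IsNoetherianRing R] [IsReduced R] (p : Ideal R)
    [p.IsPrime] (h : ∀ x ∈ p, x ∉ nonZeroDivisors R) : p ∈ minimalPrimes R := by
  classical
  have hfin := minimalPrimes.finite_of_isNoetherianRing R
  have hsub : (p : Set R) ⊆ ⋃ q ∈ (hfin.toFinset : Set (Ideal R)), (q : Set R) := by
    intro x hx
    have h1 := h x hx
    simp only [mem_nonZeroDivisors_iff_left, not_forall] at h1
    obtain ⟨y, hxy, hy⟩ := h1
    obtain ⟨q, hq, hyq⟩ : ∃ q ∈ minimalPrimes R, y ∉ q := by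
      by_contra hno
      push Not at hno
      apply hy
      have : y ∈ (⊥ : Ideal R).radical := by
        rw [← Ideal.sInf_minimalPrimes]
        exact Submodule.mem_sInf.2 hno
      have h2 : y ∈ nilradical R := this
      rwa [nilradical_eq_zero, Ideal.zero_eq_bot, Ideal.mem_bot] at h2
    refine Set.mem_biUnion (x := q) (hfin.mem_toFinset.2 hq) ?_
    haveI : q.IsPrime := hq.1.1
    exact (Ideal.IsPrime.mem_or_mem inferInstance (show x * y ∈ q by rw [hxy]; exact zero_mem q)).resolve_right hyq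
  obtain ⟨q, hq, hpq⟩ := (Ideal.subset_union_prime (⊥ : Ideal R) ⊥
    (fun q hq _ _ => (hfin.mem_toFinset.1 hq).1.1)).1 hsub
  have hq' := hfin.mem_toFinset.1 hq
  rwa [le_antisymm hpq (hq'.2 ⟨inferInstance, bot_le⟩ hpq)]

/-- The induction step over a reduced base. -/
theorem indSmooth_of_reduced {R Λ : Type u} [CommRing R] [IsNoetherianRing R] [IsReduced R] [CommRing Λ]
    [IsNoetherianRing Λ] [Algebra R Λ] (hreg : CAlg.IsRegularHom R Λ)
    (hquot : ∀ x ∈ nonZeroDivisors R, ¬ IsUnit x → ∀ (e : ℕ) (L : Type u) [CommRing L] [IsNoetherianRing L]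
      [Algebra (R ⧸ Ideal.span {x ^ e}) L],
      1 ≤ e → CAlg.IsRegularHom (R ⧸ Ideal.span {x ^ e}) L → Smoothing.IndSmooth (R ⧸ Ideal.span {x ^ e}) L) :
    Smoothing.IndSmooth R Λ := by
  suffices H : ∀ (I : Ideal Λ) (A : Type u) [CommRing A] [Algebra R A], Algebra.FinitePresentation R A →
      ∀ φ : A →ₐ[R] Λ, Smoothing.singRad R φ = I → ∃ (B : Type u) (_ : CommRing B) (_ : Algebra R B),
        Algebra.Smooth R B ∧ ∃ (g : A →ₐ[R] B) (h : B →ₐ[R] Λ), h.comp g = φ by
    exact fun A _ _ hA φ => H _ A hA φ rfl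
  intro I
  induction I using WellFoundedGT.induction with
  | ind I ih =>
    intro A _ _ hA φ hI
    haveI := hA
    rcases eq_or_ne I ⊤ with rfl | hne
    · exact factor_of_singRad_eq_top φ hI
    obtain ⟨𝔮, h𝔮⟩ := Ideal.nonempty_minimalPrimes (I := Smoothing.singRad R φ) (hI ▸ hne)
    haveI : 𝔮.IsPrime := h𝔮.1.1
    obtain ⟨C, _, _, hC, g, h, hgh, hsm⟩ : ∃ (C : Type u) (_ : CommRing C) (_ : Algebra R C),
        Algebra.FinitePresentation R C ∧
          ∃ (g : A →ₐ[R] C) (h : C →ₐ[R] Λ), h.comp g = φ ∧ Algebra.IsSmoothAt R (𝔮.comap h.toRingHom) := by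
      by_cases hp : ∀ x ∈ 𝔮.comap (algebraMap R Λ), x ∉ nonZeroDivisors R
      · exact exists_smooth_at_minimal hreg φ 𝔮 h𝔮 (mem_minimalPrimes_of_zeroDivisors _ hp)
      · push Not at hp
        obtain ⟨x, hx𝔮, hx⟩ := hp
        exact exists_smooth_at_nonzerodivisor hreg φ 𝔮 h𝔮 x hx hx𝔮
          (hquot x hx fun hu => ‹𝔮.IsPrime›.ne_top (Ideal.eq_top_of_isUnit_mem _ hx𝔮 (hu.map _)))
    haveI := hC
    haveI := hsm
    obtain ⟨B, _, _, hB, g', h', hgh', hle, hnot⟩ := ResolveStep.resolvable_of_delocalization φ 𝔮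
      ⟨C, inferInstance, inferInstance, hC, g, h, hgh, fun hle => by
        obtain ⟨b, hb, hbe⟩ := SingularIdeal.exists_isElementaryStandard (R := R) (𝔮.comap h.toRingHom)
        refine hb (hle (Ideal.mem_map_of_mem h ?_))
        rw [SingularIdeal.singularIdeal_eq.2]
        exact Ideal.le_radical (Ideal.subset_span hbe)⟩
    obtain ⟨B', _, _, hB', g'', h'', hgh''⟩ := ih _ (hI ▸ lt_of_le_of_ne hle (fun he => hnot (he ▸ h𝔮.1.2))) B hB h' rfl
    exact ⟨B', inferInstance, inferInstance, hB', g''.comp g', h'',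
      by rw [← AlgHom.comp_assoc, hgh'', hgh']⟩

/-- **Popescu's theorem**, by Noetherian induction on quotients of the base. -/
theorem indSmooth_of_isRegularHom_aux {R : Type u} [CommRing R] [IsNoetherianRing R] (I : Ideal R) :
    ∀ (R' : Type u) [CommRing R'] [IsNoetherianRing R'] (f : R →+* R'), Function.Surjective f → RingHom.ker f = I →
      ∀ (Λ : Type u) [CommRing Λ] [IsNoetherianRing Λ] [Algebra R' Λ], CAlg.IsRegularHom R' Λ →
        Smoothing.IndSmooth R' Λ := by
  induction I using WellFoundedGT.induction with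
  | ind I ih =>
    intro R' _ _ f hf hker Λ _ _ _ hreg
    have hstep : ∀ J : Ideal R', J ≠ ⊥ → ∀ (L : Type u) [CommRing L] [IsNoetherianRing L] [Algebra (R' ⧸ J) L],
        CAlg.IsRegularHom (R' ⧸ J) L → Smoothing.IndSmooth (R' ⧸ J) L := by
      intro J hJ L _ _ _ hL
      refine ih (RingHom.ker ((Ideal.Quotient.mk J).comp f)) ?_ (R' ⧸ J) ((Ideal.Quotient.mk J).comp f)
        (Ideal.Quotient.mk_surjective.comp hf) rfl L hL
      rw [← hker]
      refine lt_of_le_of_ne (fun z hz => by simp [RingHom.mem_ker.1 hz]) fun he => hJ ?_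
      rw [eq_bot_iff]
      intro z hz
      obtain ⟨w, rfl⟩ := hf z
      have : w ∈ RingHom.ker ((Ideal.Quotient.mk J).comp f) := Ideal.Quotient.eq_zero_iff_mem.2 hz
      rw [← he] at this
      exact RingHom.mem_ker.1 this
    by_cases hred : nilradical R' = ⊥
    · haveI : IsReduced R' := nilradical_eq_bot_iff.1 hred
      refine indSmooth_of_reduced hreg fun x hx hxu e L _ _ _ he hL => ?_
      rcases subsingleton_or_nontrivial R' with hs | hs
      · exact absurd (isUnit_of_subsingleton x) hxu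
      exact hstep _ (fun h0 => nonZeroDivisors.ne_zero (pow_mem hx e) (Ideal.span_singleton_eq_bot.1 h0)) L hL
    · let N := nilradical R'
      haveI := hreg.1
      obtain ⟨n, hn⟩ := IsNoetherianRing.isNilpotent_nilradical R'
      exact IndSmoothSquareZero.indSmooth_nilpotent n (R₀ := R' ⧸ N) (Λ₀ := Λ ⧸ N.map (algebraMap R' Λ))
        Ideal.Quotient.mk_surjective (I := N) Ideal.mk_ker (Ideal.Quotient.mkₐ R' _) Ideal.Quotient.mk_surjective
        Ideal.mk_ker hn (hstep N hred _ (isRegularHom_quotient hreg N))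

theorem indSmooth_of_isRegularHom {R Λ : Type u} [CommRing R] [IsNoetherianRing R] [CommRing Λ] [IsNoetherianRing Λ]
    [Algebra R Λ] (h : CAlg.IsRegularHom R Λ) : Smoothing.IndSmooth R Λ :=
  indSmooth_of_isRegularHom_aux (⊥ : Ideal R) R (RingHom.id R) Function.surjective_id
    (RingHom.ker_eq_bot_iff_eq_zero _ |>.2 fun _ h => h) Λ h

end Groth.Agent.CAlgH.Popescu
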