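import Mathlib

/-! Principal parts commute with formally étale maps. -/

universe u
set_option autoImplicit false
open TensorProduct

namespace Groth.Agent.CAlgH.PrincipalPartsEtale

variable (R S S' : Type u) [CommRing R] [CommRing S] [Algebra R S] [CommRing S'] [Algebra R S']
  [Algebra S S'] [IsScalarTower R S S']


theorem map_bijective [Algebra.FormallyEtale S S'] (n : ℕ) :
    Function.Bijective (Ideal.quotientMap (KaehlerDifferential.ideal R S' ^ (n + 1))
      (Algebra.TensorProduct.map (AlgHom.id S' S') (IsScalarTower.toAlgHom R S S')).toRingHom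
      (Ideal.le_comap_pow
        (Algebra.TensorProduct.map (AlgHom.id S' S') (IsScalarTower.toAlgHom R S S')).toRingHom
        (K := KaehlerDifferential.ideal R S') (n + 1))) := by
  let f : S' ⊗[R] S →ₐ[S'] S' ⊗[R] S' :=
    Algebra.TensorProduct.map (AlgHom.id S' S') (IsScalarTower.toAlgHom R S S')
  let J := KaehlerDifferential.ideal R S'
  let I : Ideal (S' ⊗[R] S) := J.comap f.toRingHom
  let AQ := (S' ⊗[R] S) ⧸ I ^ (n + 1)
  let qA : S' ⊗[R] S →+* AQ := Ideal.Quotient.mk _
  let qB : S' ⊗[R] S' →+* (S' ⊗[R] S') ⧸ J ^ (n + 1) := Ideal.Quotient.mk _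
  let μ : S' ⊗[R] S' →ₐ[R] S' := Algebra.TensorProduct.lmul' R
  have hJ : ∀ z, z ∈ J ↔ μ z = 0 := fun z => Iff.rfl
  have hf1 : ∀ s : S, f ((1 : S') ⊗ₜ s) = (1 : S') ⊗ₜ algebraMap S S' s := fun s => rfl
  have hIker : ∀ a ∈ I ^ (n + 1), (μ.toRingHom.comp f.toRingHom) a = 0 := fun a ha =>
    (hJ _).1 (show a ∈ I from Ideal.pow_le_self n.succ_ne_zero ha)
  letI : Algebra S AQ := (qA.comp
    (Algebra.TensorProduct.includeRight : S →ₐ[R] S' ⊗[R] S).toRingHom).toAlgebra
  let π : AQ →ₐ[S] S' :=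
    { Ideal.Quotient.lift (I ^ (n + 1)) (μ.toRingHom.comp f.toRingHom) hIker with
      commutes' := fun s => by
        show μ (f ((1 : S') ⊗ₜ s)) = algebraMap S S' s
        rw [hf1]
        simp [μ] }
  have hπs : Function.Surjective π := fun a => ⟨qA (a ⊗ₜ 1), by
    show μ (f (a ⊗ₜ 1)) = a
    simp [f, μ]⟩
  have hker : RingHom.ker (π : AQ →+* S') ≤ I.map qA := fun x hx => by
    obtain ⟨a, rfl⟩ := Ideal.Quotient.mk_surjective x
    exact Ideal.mem_map_of_mem qA (show a ∈ I from (hJ _).2 hx)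
  have hpow : (I.map qA) ^ (n + 1) = ⊥ := by
    rw [← Ideal.map_pow, Ideal.map_quotient_self]
  have hnil : IsNilpotent (RingHom.ker (π : AQ →+* S')) :=
    ⟨n + 1, le_bot_iff.1 (hpow ▸ Ideal.pow_right_mono hker (n + 1))⟩
  let g : S' →ₐ[S] AQ := Algebra.FormallySmooth.liftOfSurjective (AlgHom.id S S') π hπs hnil
  have hg : ∀ a, π (g a) = a := Algebra.FormallySmooth.liftOfSurjective_apply _ π hπs hnil
  have hgs : ∀ s, g (algebraMap S S' s) = qA ((1 : S') ⊗ₜ s) := fun s => g.commutes s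
  have hRg : ∀ r, g (algebraMap R S' r) = algebraMap R AQ r := fun r => by
    rw [IsScalarTower.algebraMap_apply R S S', hgs, IsScalarTower.algebraMap_apply R (S' ⊗[R] S) AQ]
    show qA _ = qA _
    congr 1
    exact (Algebra.TensorProduct.includeRight : S →ₐ[R] S' ⊗[R] S).commutes r
  let gR : S' →ₐ[R] AQ := { g.toRingHom with commutes' := hRg }
  let h : S' ⊗[R] S' →ₐ[R] AQ := Algebra.TensorProduct.productMap
    ((Ideal.Quotient.mkₐ R (I ^ (n + 1))).comp (Algebra.TensorProduct.includeLeft : S' →ₐ[R] S' ⊗[R] S)) gR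
  have hh : ∀ a b, h (a ⊗ₜ b) = qA (a ⊗ₜ 1) * g b := fun a b => rfl
  have hπh : ∀ z, π (h z) = μ z := fun z => by
    induction z using TensorProduct.induction_on with
    | zero => simp
    | tmul a b =>
      rw [hh, map_mul, hg]
      show μ (f (a ⊗ₜ 1)) * b = μ (a ⊗ₜ b)
      simp [f, μ]
    | add a b ha hb => simp only [map_add, ha, hb]
  have hhJ : ∀ z ∈ J ^ (n + 1), h.toRingHom z = 0 := fun z hz => by
    have h1 : J.map h.toRingHom ≤ I.map qA := Ideal.map_le_iff_le_comap.2 fun w hw =>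
      hker (show π (h w) = 0 by rw [hπh]; exact (hJ w).1 hw)
    have h2 := Ideal.mem_map_of_mem h.toRingHom hz
    rw [Ideal.map_pow] at h2
    have h3 := Ideal.pow_right_mono h1 (n + 1) h2
    rwa [hpow, Ideal.mem_bot] at h3
  let hbar : (S' ⊗[R] S') ⧸ J ^ (n + 1) →+* AQ := Ideal.Quotient.lift _ h.toRingHom hhJ
  let fbar : AQ →+* (S' ⊗[R] S') ⧸ J ^ (n + 1) :=
    Ideal.quotientMap (J ^ (n + 1)) f.toRingHom (Ideal.le_comap_pow f.toRingHom (n + 1))
  have h1 : ∀ x, hbar (fbar x) = x := fun x => by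
    obtain ⟨a, rfl⟩ := Ideal.Quotient.mk_surjective x
    show h (f a) = qA a
    induction a using TensorProduct.induction_on with
    | zero => simp
    | tmul a s =>
      show h (a ⊗ₜ algebraMap S S' s) = _
      rw [hh, hgs, ← map_mul, Algebra.TensorProduct.tmul_mul_tmul, mul_one, one_mul]
    | add a b ha hb => simp only [map_add, ha, hb]
  exact ⟨fun x y hxy => by rw [← h1 x, ← h1 y]; exact congrArg hbar hxy, fun y => ⟨hbar y, by
    obtain ⟨b, rfl⟩ := Ideal.Quotient.mk_surjective y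
    show fbar (h b) = qB b
    induction b using TensorProduct.induction_on with
    | zero => simp
    | tmul a b =>
      have key : fbar (g b) = qB ((1 : S') ⊗ₜ b) := by
        letI : Algebra S ((S' ⊗[R] S') ⧸ J ^ (n + 1)) := (qB.comp (((Algebra.TensorProduct.includeRight :
          S' →ₐ[R] S' ⊗[R] S').toRingHom).comp (algebraMap S S'))).toAlgebra
        let g₁ : S' →ₐ[S] (S' ⊗[R] S') ⧸ J ^ (n + 1) :=
          { fbar.comp g.toRingHom with
            commutes' := fun s => by
              show fbar (g (algebraMap S S' s)) = qB ((1 : S') ⊗ₜ algebraMap S S' s)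
              rw [hgs]
              rfl }
        let g₂ : S' →ₐ[S] (S' ⊗[R] S') ⧸ J ^ (n + 1) :=
          { qB.comp (Algebra.TensorProduct.includeRight : S' →ₐ[R] S' ⊗[R] S').toRingHom with
            commutes' := fun s => rfl }
        let μbar : (S' ⊗[R] S') ⧸ J ^ (n + 1) →+* S' :=
          Ideal.Quotient.lift _ μ.toRingHom fun w hw => (hJ w).1 (Ideal.pow_le_self n.succ_ne_zero hw)
        have hn : IsNilpotent (RingHom.ker μbar) := by
          refine ⟨n + 1, le_bot_iff.1 ?_⟩
          calc RingHom.ker μbar ^ (n + 1) ≤ (J.map qB) ^ (n + 1) := Ideal.pow_right_mono (fun x hx => by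
                obtain ⟨w, rfl⟩ := Ideal.Quotient.mk_surjective x
                exact Ideal.mem_map_of_mem qB ((hJ w).2 hx)) _
            _ = ⊥ := by rw [← Ideal.map_pow, Ideal.map_quotient_self]
        refine AlgHom.congr_fun (Algebra.FormallyUnramified.ext' μbar hn g₁ g₂ fun x => ?_) b
        have e1 : ∀ w, μbar (fbar w) = π w := fun w => by
          obtain ⟨a, rfl⟩ := Ideal.Quotient.mk_surjective w
          rfl
        show μbar (fbar (g x)) = μ ((1 : S') ⊗ₜ x)
        rw [e1, hg]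
        simp [μ]
      rw [hh, map_mul, key]
      show qB (f (a ⊗ₜ 1)) * qB ((1 : S') ⊗ₜ b) = qB (a ⊗ₜ b)
      rw [← map_mul]
      congr 1
      simp [f]
    | add a b ha hb => simp only [map_add, ha, hb]⟩⟩

end Groth.Agent.CAlgH.PrincipalPartsEtale
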