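import Mathlib.Algebra.Module.Projective
import Mathlib.RingTheory.Finiteness.Projective
import Mathlib.RingTheory.Finiteness.Basic
import Mathlib.RingTheory.Ideal.Maps
import Mathlib.LinearAlgebra.Isomorphisms

/-! Rings in which every proper f.g. ideal has nonzero annihilator. -/
universe u

namespace Groth.Agent.CAlgH

theorem propertyP_iff_splits (R : Type u) [CommRing R] :
    (∀ I : Ideal R, I.FG → I ≠ ⊤ → I.annihilator ≠ ⊥) ↔
      ∀ (n : ℕ) (u : R →ₗ[R] (Fin n → R)), Function.Injective u →
        ∃ v : (Fin n → R) →ₗ[R] R, v.comp u = LinearMap.id := by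
  constructor
  · intro hP n u hu
    let I := Ideal.span (Set.range (u 1))
    have htop : I = ⊤ := by
      by_contra hne
      refine hP I (Submodule.fg_span (Set.finite_range _)) hne (le_bot_iff.mp fun r hr => ?_)
      refine hu (a₂ := 0) ?_ |>.trans rfl
      rw [map_zero, show r = r • (1:R) by simp, map_smul]
      funext i
      exact Submodule.mem_annihilator.mp hr _ (Ideal.subset_span ⟨i, rfl⟩)
    obtain ⟨c, hc⟩ := (Ideal.mem_span_range_iff_exists_fun).mp (htop ▸ Submodule.mem_top (x := (1:R)))
    refine ⟨∑ i, c i • LinearMap.proj i, LinearMap.ext_ring ?_⟩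
    simpa using hc
  · intro h I hI hne hann
    obtain ⟨n, a, ha⟩ := Submodule.fg_iff_exists_fin_generating_family.mp hI
    obtain ⟨v, hv⟩ := h n (LinearMap.toSpanSingleton R _ a) (by
      rw [← LinearMap.ker_eq_bot, ← le_bot_iff, ← hann]
      intro r hr
      rw [LinearMap.mem_ker, LinearMap.toSpanSingleton_apply] at hr
      rw [← ha, Submodule.mem_annihilator_span]
      rintro ⟨_, i, rfl⟩
      exact congrFun hr i)
    apply hne
    rw [Ideal.eq_top_iff_one]
    have h1 := LinearMap.congr_fun hv 1
    simp only [LinearMap.comp_apply, LinearMap.toSpanSingleton_apply, one_smul, LinearMap.id_apply] at h1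
    rw [← h1, pi_eq_sum_univ a, map_sum]
    refine Submodule.sum_mem _ fun i _ => ?_
    rw [map_smul, smul_eq_mul]
    exact Ideal.mul_mem_right _ _ (by rw [← ha]; exact Ideal.subset_span ⟨i, rfl⟩)

theorem coker_projective_of_free {R : Type u} [CommRing R]
    (hP : (∀ I : Ideal R, I.FG → I ≠ ⊤ → I.annihilator ≠ ⊥)) :
    ∀ (a : ℕ) (M : Type u) [AddCommGroup M] [Module R M] [Module.Finite R M] [Module.Projective R M]
    (u : (Fin a → R) →ₗ[R] M), Function.Injective u → Module.Projective R (M ⧸ LinearMap.range u) := by
  intro a
  induction a with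
  | zero =>
    intro M _ _ _ _ u _
    have : LinearMap.range u = ⊥ := by
      rw [LinearMap.range_eq_bot]; exact LinearMap.ext fun x => by rw [Subsingleton.elim x 0, map_zero, LinearMap.zero_apply]
    exact Module.Projective.of_equiv (Submodule.quotEquivOfEqBot _ this).symm
  | succ a ih =>
    intro M _ _ _ _ u hu
    let e : Fin (a+1) → R := Pi.single 0 1
    let w : R →ₗ[R] M := LinearMap.toSpanSingleton R M (u e)
    have hw : Function.Injective w := by
      intro r s hrs
      have := congrFun (hu (a₁ := r • e) (a₂ := s • e) (by simpa [w] using hrs)) 0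
      simpa [e] using this
    obtain ⟨n, f, g, -, -, hgf⟩ := Module.Finite.exists_comp_eq_id_of_projective R M
    obtain ⟨v, hv⟩ := (propertyP_iff_splits R).mp hP n (g.comp w) (by
      intro r s hrs
      refine hw ?_
      have h2 := congrArg f hrs
      simp only [LinearMap.comp_apply] at h2
      rw [← LinearMap.comp_apply f g, ← LinearMap.comp_apply f g, hgf] at h2
      exact h2)
    let p : M →ₗ[R] R := v.comp g
    have hp : ∀ r, p (w r) = r := fun r => by simpa [p] using LinearMap.congr_fun hv r
    have hpr : Module.Projective R (M ⧸ LinearMap.range w) := by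
      refine Module.Projective.of_split ((LinearMap.range w).liftQ (LinearMap.id - w.comp p) ?_)
        (LinearMap.range w).mkQ ?_
      · rintro _ ⟨r, rfl⟩; simp [hp]
      · ext m
        simp [Submodule.Quotient.eq, sub_eq_iff_eq_add]
    let q := (LinearMap.range w).mkQ
    let u' : (Fin a → R) →ₗ[R] (M ⧸ LinearMap.range w) :=
      q ∘ₗ u ∘ₗ { toFun := fun x => Fin.cons 0 x
                  map_add' := fun x y => by ext i; cases i using Fin.cases <;> simp
                  map_smul' := fun r x => by ext i; cases i using Fin.cases <;> simp }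
    have hu' : Function.Injective u' := by
      rw [← LinearMap.ker_eq_bot, ← le_bot_iff]
      intro x hx
      simp only [LinearMap.mem_ker, u', q, LinearMap.comp_apply, Submodule.mkQ_apply,
        Submodule.Quotient.mk_eq_zero, LinearMap.mem_range] at hx
      obtain ⟨r, hr⟩ := hx
      simp only [w, LinearMap.toSpanSingleton_apply, ← map_smul] at hr
      have h2 := hu hr
      ext i
      simpa [e] using (congrFun h2 i.succ).symm
    have key : (LinearMap.range u).map q = LinearMap.range u' := by
      apply le_antisymm
      · rintro _ ⟨_, ⟨x, rfl⟩, rfl⟩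
        refine ⟨fun i => x i.succ, ?_⟩
        simp only [u', q, LinearMap.comp_apply, LinearMap.coe_mk, AddHom.coe_mk, Submodule.mkQ_apply,
          Submodule.Quotient.eq]
        refine ⟨- x 0, ?_⟩
        simp only [w, LinearMap.toSpanSingleton_apply, ← map_smul, ← map_sub]
        congr 1
        ext i; cases i using Fin.cases <;> simp [e]
      · rintro _ ⟨x, rfl⟩
        exact ⟨_, ⟨_, rfl⟩, rfl⟩
    have := ih _ u' hu'
    exact Module.Projective.of_equiv
      ((Submodule.quotEquivOfEq _ _ key.symm).trans
        (Submodule.quotientQuotientEquivQuotient (LinearMap.range w) (LinearMap.range u) (by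
          rintro _ ⟨r, rfl⟩; exact ⟨r • e, by simp [w]⟩)))


end Groth.Agent.CAlgH
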