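import Groth.Agent.FlatMorNoether.Relative
import Groth.Agent.Unram17Lib.LocalDim
import Mathlib

/-! Quasi-finite polynomial charts at a point with prescribed fibre dimension. -/

set_option autoImplicit false
set_option backward.isDefEq.respectTransparency false
universe u

open MvPolynomial TensorProduct Topology

namespace Groth.Agent.CAlgH.QFChart

open Groth.Agent.FlatMorNoether

variable {R S : Type u} [CommRing R] [CommRing S] [Algebra R S]

/-- A prime has finite preimage under coordinates that are integral on the fibre. -/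
theorem finite_preimage {m : ℕ} (v : Fin m → S) [Algebra.FiniteType R S]
    [Algebra (MvPolynomial (Fin m) R) S] (halg : algebraMap (MvPolynomial (Fin m) R) S = (aeval v).toRingHom)
    (P : PrimeSpectrum (MvPolynomial (Fin m) R)) (p : PrimeSpectrum R)
    (hp : PrimeSpectrum.comap (algebraMap R (MvPolynomial (Fin m) R)) P = p)
    (hv : ∀ s : p.asIdeal.Fiber S, (fibreMap p.asIdeal v).toRingHom.IsIntegralElem s) :
    (PrimeSpectrum.comap (algebraMap (MvPolynomial (Fin m) R) S) ⁻¹' {P}).Finite := by
  have : IsScalarTower R (MvPolynomial (Fin m) R) S :=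
    .of_algebraMap_eq fun a => by
      rw [halg]; exact ((aeval v : MvPolynomial (Fin m) R →ₐ[R] S).commutes a).symm
  let K := p.asIdeal.ResidueField
  let _ : Algebra (MvPolynomial (Fin m) K) (p.asIdeal.Fiber S) :=
    (fibreMap p.asIdeal v).toRingHom.toAlgebra
  have : IsScalarTower K (MvPolynomial (Fin m) K) (p.asIdeal.Fiber S) :=
    .of_algebraMap_eq fun a => ((fibreMap p.asIdeal v).commutes a).symm
  have : Algebra.FiniteType K (p.asIdeal.Fiber S) := inferInstance
  have : Algebra.FiniteType (MvPolynomial (Fin m) K) (p.asIdeal.Fiber S) :=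
    Algebra.FiniteType.of_restrictScalars_finiteType K _ _
  have hint : Algebra.IsIntegral (MvPolynomial (Fin m) K) (p.asIdeal.Fiber S) := ⟨hv⟩
  have : Module.Finite (MvPolynomial (Fin m) K) (p.asIdeal.Fiber S) := Algebra.IsIntegral.finite
  let G : Set (PrimeSpectrum (MvPolynomial (Fin m) K)) :=
    PrimeSpectrum.comap (map (algebraMap R K)) ⁻¹' {P}
  have hG : G.Subsingleton := by
    intro a ha b hb
    refine PrimeSpectrum.ext (Ideal.ext fun g => ?_)
    obtain ⟨c, f, hc, hf⟩ := exists_map_eq_C_mul (algebraMap R K) (residueField_div p.asIdeal) g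
    have key : ∀ q : PrimeSpectrum (MvPolynomial (Fin m) K), q ∈ G → (g ∈ q.asIdeal ↔ f ∈ P.asIdeal) := by
      intro q hq
      rw [← Set.mem_singleton_iff.1 hq]
      show _ ↔ map (algebraMap R K) f ∈ q.asIdeal
      rw [hf]
      exact ((Ideal.unit_mul_mem_iff_mem _ ((isUnit_iff_ne_zero.2 hc).map C)).symm)
    rw [key a ha, key b hb]
  have hfin : (PrimeSpectrum.comap (algebraMap (MvPolynomial (Fin m) K) (p.asIdeal.Fiber S)) ⁻¹' G).Finite :=
    Algebra.QuasiFinite.finite_comap_preimage hG.finite
  refine (hfin.image (PrimeSpectrum.comap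
    (Algebra.TensorProduct.includeRight (R := R) (A := K) (B := S)).toRingHom)).subset ?_
  intro q hq
  have hqp : PrimeSpectrum.comap (algebraMap R S) q = p := by
    rw [← hp]
    rw [← Set.mem_singleton_iff.1 hq, IsScalarTower.algebraMap_eq R (MvPolynomial (Fin m) R) S,
      PrimeSpectrum.comap_comp]
    rfl
  obtain ⟨⟨Q, hQ⟩, rfl⟩ : ∃ Q : {Q : PrimeSpectrum (p.asIdeal.Fiber S) // True},
      PrimeSpectrum.comap (Algebra.TensorProduct.includeRight (R := R) (A := K) (B := S)).toRingHom Q.1 = q := by
    refine ⟨⟨PrimeSpectrum.preimageEquivFiber R S p ⟨q, hqp⟩, trivial⟩, ?_⟩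
    exact congrArg Subtype.val ((PrimeSpectrum.preimageEquivFiber R S p).symm_apply_apply ⟨q, hqp⟩)
  refine ⟨Q, ?_, rfl⟩
  show PrimeSpectrum.comap (map (algebraMap R K)) (PrimeSpectrum.comap _ Q) = P
  rw [← Set.mem_singleton_iff.1 hq]
  refine PrimeSpectrum.ext (Ideal.ext fun f => ?_)
  show fibreMap p.asIdeal v (map (algebraMap R K) f) ∈ Q.asIdeal ↔ _
  rw [fibreMap_map, PrimeSpectrum.comap_asIdeal, Ideal.mem_comap, halg]
  rfl

/-- Zariski's main theorem: quasi-finite near a quasi-finite point. -/
theorem exists_away_quasiFinite {A T : Type u} [CommRing A] [CommRing T] [Algebra A T]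
    [Algebra.FiniteType A T] (q : Ideal T) [q.IsPrime] [Algebra.WeaklyQuasiFiniteAt A q] :
    ∃ a ∉ q, Algebra.QuasiFinite A (Localization.Away a) := by
  obtain ⟨S', hS', r, hrp, H⟩ :=
    Algebra.QuasiFiniteAt.exists_fg_and_exists_notMem_and_awayMap_bijective (R := A) q
  have : Module.Finite A S' := ⟨(Submodule.fg_top _).mpr hS'⟩
  have : Algebra.QuasiFinite A (Localization.Away r) := .trans _ S' _
  exact ⟨r.1, hrp, .of_surjective_algHom (Localization.awayMapₐ S'.val r) H.2⟩

/-- A finite type algebra over a field of dimension at most `n` is finite over `n` coordinates. -/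
theorem exists_coords (K F : Type u) [Field K] [CommRing F] [Nontrivial F] [Algebra K F]
    [Algebra.FiniteType K F] (n : ℕ) (hd : ringKrullDim F ≤ (n : WithBot ℕ∞)) :
    ∃ w : Fin n → F, (aeval w : MvPolynomial (Fin n) K →ₐ[K] F).toRingHom.IsIntegral := by
  classical
  obtain ⟨m, g, hg, hfin⟩ := exists_finite_inj_algHom_of_fg K F
  have hint : g.toRingHom.IsIntegral := RingHom.IsIntegral.of_finite hfin
  have hmn : m ≤ n := by
    letI := g.toRingHom.toAlgebra
    haveI : Algebra.IsIntegral (MvPolynomial (Fin m) K) F := ⟨hint⟩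
    have h := (DimLib.ringKrullDim_eq_of_isIntegral (R := MvPolynomial (Fin m) K) (S := F) hg).trans_le hd
    rw [MvPolynomial.ringKrullDim_of_isNoetherianRing, ringKrullDim_eq_zero_of_field, zero_add,
      Nat.card_eq_fintype_card, Fintype.card_fin] at h
    exact_mod_cast h
  refine ⟨fun i => if h : i.1 < m then g (X ⟨i, h⟩) else 0, fun x => ?_⟩
  obtain ⟨P, hP, hPx⟩ := hint x
  refine ⟨P.map (rename (Fin.castLE hmn)).toRingHom, hP.map _, ?_⟩
  rw [Polynomial.eval₂_map]
  refine Eq.trans (congrArg (fun φ => Polynomial.eval₂ φ x P) ?_) hPx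
  refine RingHom.ext fun f => ?_
  show aeval _ (rename _ f) = g f
  rw [aeval_rename, MvPolynomial.aeval_unique g]
  congr 1
  ext i
  simp

/-- Coordinates on a fibre can be chosen in the algebra itself. -/
theorem exists_fibre_coords (p : Ideal R) [p.IsPrime] [Nontrivial (p.Fiber S)] [Algebra.FiniteType R S]
    (n : ℕ) (hd : ringKrullDim (p.Fiber S) ≤ (n : WithBot ℕ∞)) :
    ∃ v : Fin n → S, ∀ s : p.Fiber S, (fibreMap p v).toRingHom.IsIntegralElem s := by
  obtain ⟨w, hw⟩ := exists_coords p.ResidueField (p.Fiber S) n hd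
  choose c hc t ht using fun i => Ideal.Fiber.exists_smul_eq_one_tmul (R := R) (S := S) p (w i)
  refine ⟨t, fun s => ?_⟩
  obtain ⟨P, hP, hPs⟩ := hw s
  let κ : MvPolynomial (Fin n) p.ResidueField →ₐ[p.ResidueField] MvPolynomial (Fin n) p.ResidueField :=
    aeval fun i => C (algebraMap R p.ResidueField (c i))⁻¹ * X i
  refine ⟨P.map κ.toRingHom, hP.map _, ?_⟩
  rw [Polynomial.eval₂_map]
  refine Eq.trans (congrArg (fun φ => Polynomial.eval₂ φ s P) ?_) hPs
  have : (fibreMap p t).comp κ = (aeval w : MvPolynomial (Fin n) p.ResidueField →ₐ[p.ResidueField] p.Fiber S) := by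
    refine MvPolynomial.algHom_ext fun i => ?_
    simp only [AlgHom.comp_apply, κ, aeval_X, map_mul, fibreMap, aeval_C]
    have h1 : (Algebra.TensorProduct.includeRight (t i) : p.Fiber S) =
        algebraMap p.ResidueField (p.Fiber S) (algebraMap R p.ResidueField (c i)) * w i := by
      rw [← IsScalarTower.algebraMap_apply, ← Algebra.smul_def, ht i]
      rfl
    rw [h1, ← mul_assoc, ← map_mul, inv_mul_cancel₀ (fun h => hc i (Ideal.algebraMap_residueField_eq_zero.1 h)),
      map_one, one_mul]
  exact congrArg AlgHom.toRingHom this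

/-- Coordinates which are integral on the fibre through `q` make `S` quasi-finite at `q`. -/
theorem weaklyQuasiFiniteAt {m : ℕ} (v : Fin m → S) [Algebra.FiniteType R S]
    [Algebra (MvPolynomial (Fin m) R) S] [IsScalarTower R (MvPolynomial (Fin m) R) S]
    (halg : algebraMap (MvPolynomial (Fin m) R) S = (aeval v).toRingHom)
    (q : Ideal S) [q.IsPrime] (p : Ideal R) [p.IsPrime] (hp : q.comap (algebraMap R S) = p)
    (hv : ∀ s : p.Fiber S, (fibreMap p v).toRingHom.IsIntegralElem s) :
    Algebra.QuasiFiniteAt (MvPolynomial (Fin m) R) q := by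
  have : Algebra.FiniteType (MvPolynomial (Fin m) R) S :=
    Algebra.FiniteType.of_restrictScalars_finiteType R _ _
  let P : PrimeSpectrum (MvPolynomial (Fin m) R) :=
    PrimeSpectrum.comap (algebraMap (MvPolynomial (Fin m) R) S) ⟨q, inferInstance⟩
  have hP : PrimeSpectrum.comap (algebraMap R (MvPolynomial (Fin m) R)) P = ⟨p, inferInstance⟩ := by
    refine PrimeSpectrum.ext ?_
    rw [PrimeSpectrum.comap_asIdeal, PrimeSpectrum.comap_asIdeal, Ideal.comap_comap,
      ← IsScalarTower.algebraMap_eq]
    exact hp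
  have hfin := finite_preimage v halg P ⟨p, inferInstance⟩ hP hv
  let F := P.asIdeal.Fiber S
  have : IsJacobsonRing F := isJacobsonRing_of_finiteType (A := P.asIdeal.ResidueField)
  have : Finite (PrimeSpectrum F) :=
    (PrimeSpectrum.preimageEquivFiber (MvPolynomial (Fin m) R) S P).finite_iff.mp hfin
  have : Module.Finite P.asIdeal.ResidueField F := by
    rw [Module.finite_iff_isArtinianRing, isArtinianRing_iff_isNoetherianRing_krullDimLE_zero]
    exact ⟨Algebra.FiniteType.isNoetherianRing P.asIdeal.ResidueField _,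
      (PrimeSpectrum.discreteTopology_iff_finite_and_krullDimLE_zero.mp inferInstance).right⟩
  let e := PrimeSpectrum.preimageEquivFiber (MvPolynomial (Fin m) R) S P
  let Q := e ⟨⟨q, inferInstance⟩, rfl⟩
  have : Algebra.QuasiFinite P.asIdeal.ResidueField (Localization.AtPrime Q.asIdeal) :=
    .trans _ F _
  haveI : q.LiesOver P.asIdeal := ⟨rfl⟩
  exact .of_quasiFiniteAt_residueField P.asIdeal q Q.asIdeal
    congr($(e.symm_apply_apply ⟨⟨q, inferInstance⟩, rfl⟩).1.asIdeal)

/-- The fibre of a basic open contained in an open of dimension at most `n`. -/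
theorem fibre_dim_le (p : Ideal R) [p.IsPrime] (h : S) (n : ℕ)
    (U : TopologicalSpace.Opens (PrimeSpectrum (p.Fiber S)))
    (hU : topologicalKrullDim (U.1 : Set (PrimeSpectrum (p.Fiber S))) ≤ (n : WithBot ℕ∞))
    (hsub : (PrimeSpectrum.basicOpen ((Algebra.TensorProduct.includeRight h : p.Fiber S)) :
      Set (PrimeSpectrum (p.Fiber S))) ⊆ U) :
    ringKrullDim (p.Fiber (Localization.Away h)) ≤ (n : WithBot ℕ∞) := by
  let ι := Algebra.TensorProduct.map (AlgHom.id p.ResidueField p.ResidueField)
    (IsScalarTower.toAlgHom R S (Localization.Away h))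
  let f := PrimeSpectrum.comap ι.toRingHom
  have hemb : IsEmbedding f := by
    let g := PrimeSpectrum.comap (Algebra.TensorProduct.includeRight (R := R) (A := p.ResidueField) (B := S)).toRingHom
    let g' := PrimeSpectrum.comap
      (Algebra.TensorProduct.includeRight (R := R) (A := p.ResidueField) (B := Localization.Away h)).toRingHom
    have hg' : IsEmbedding g' := by
      have := IsEmbedding.subtypeVal.comp
        (PrimeSpectrum.preimageHomeomorphFiber R (Localization.Away h) ⟨p, inferInstance⟩).symm.isEmbedding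
      exact this
    refine IsEmbedding.of_comp (g := g) (PrimeSpectrum.continuous_comap _) (PrimeSpectrum.continuous_comap _) ?_
    have : g ∘ f = PrimeSpectrum.comap (algebraMap S (Localization.Away h)) ∘ g' := by
      funext x
      simp only [g, f, g', Function.comp_apply, ← PrimeSpectrum.comap_comp_apply]
      rfl
    rw [this]
    exact (PrimeSpectrum.localization_away_isOpenEmbedding (Localization.Away h) h).isEmbedding.comp hg'
  have hmem : ∀ x, f x ∈ (U.1 : Set (PrimeSpectrum (p.Fiber S))) := fun x => hsub (by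
    show (Algebra.TensorProduct.includeRight h : p.Fiber S) ∉ x.asIdeal.comap ι.toRingHom
    intro hx
    refine x.2.ne_top (Ideal.eq_top_of_isUnit_mem _ hx ?_)
    have : ι (Algebra.TensorProduct.includeRight h) =
        Algebra.TensorProduct.includeRight (algebraMap S (Localization.Away h) h) := by
      simp [ι]
    show IsUnit (ι _)
    rw [this]
    exact (IsLocalization.Away.algebraMap_isUnit h).map _)
  rw [← PrimeSpectrum.topologicalKrullDim_eq_ringKrullDim]
  exact ((hemb.codRestrict _ hmem).toIsInducing.topologicalKrullDim_le).trans hU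

/-- Quasi-finite polynomial charts. -/
theorem exists_chart [Algebra.FiniteType R S] (p : Ideal R) [p.IsPrime] (q : Ideal S) [q.IsPrime]
    [q.LiesOver p] (Q : PrimeSpectrum (p.Fiber S))
    (hQ : Q.asIdeal.comap (Algebra.TensorProduct.includeRight.toRingHom) = q) (n : ℕ)
    (hdim : FlatMor.localDim (PrimeSpectrum (p.Fiber S)) Q = (n : WithBot ℕ∞)) :
    ∃ g : S, g ∉ q ∧ ∃ φ : MvPolynomial (Fin n) R →ₐ[R] Localization.Away g,
      φ.toRingHom.FiniteType ∧ φ.toRingHom.QuasiFinite := by
  classical
  have : Nonempty {U : TopologicalSpace.Opens (PrimeSpectrum (p.Fiber S)) // Q ∈ U} := ⟨⟨⊤, trivial⟩⟩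
  obtain ⟨⟨U, hQU⟩, hU⟩ := ciInf_mem fun U : {U : TopologicalSpace.Opens (PrimeSpectrum (p.Fiber S)) //
    Q ∈ U} => topologicalKrullDim (U.1 : Set (PrimeSpectrum (p.Fiber S)))
  have hUn : topologicalKrullDim (U.1 : Set (PrimeSpectrum (p.Fiber S))) ≤ (n : WithBot ℕ∞) :=
    (hU.trans hdim).le
  obtain ⟨_, ⟨z, rfl⟩, hz, hzU⟩ :=
    PrimeSpectrum.isTopologicalBasis_basic_opens.exists_subset_of_mem_open hQU U.2
  obtain ⟨c, hc, h, hh⟩ := Ideal.Fiber.exists_smul_eq_one_tmul (R := R) (S := S) p z
  have hassoc : (Algebra.TensorProduct.includeRight h : p.Fiber S) =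
      algebraMap p.ResidueField (p.Fiber S) (algebraMap R p.ResidueField c) * z := by
    rw [← IsScalarTower.algebraMap_apply, ← Algebra.smul_def, hh]
    rfl
  have hu : IsUnit (algebraMap p.ResidueField (p.Fiber S) (algebraMap R p.ResidueField c)) :=
    (isUnit_iff_ne_zero.2 fun h' => hc (Ideal.algebraMap_residueField_eq_zero.1 h')).map _
  have hhq : h ∉ q := by
    intro hmem
    rw [← hQ] at hmem
    change (Algebra.TensorProduct.includeRight h : p.Fiber S) ∈ Q.asIdeal at hmem
    rw [hassoc, Ideal.unit_mul_mem_iff_mem _ hu] at hmem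
    exact hz hmem
  have hd := fibre_dim_le p h n U hUn (fun x hx => hzU (fun hzx => hx (by
    show (Algebra.TensorProduct.includeRight h : p.Fiber S) ∈ x.asIdeal
    rw [hassoc]
    exact Ideal.mul_mem_left _ _ hzx)))
  let T := Localization.Away h
  have hdis : Disjoint (Submonoid.powers h : Set S) (q : Set S) := by
    rw [Set.disjoint_left]
    rintro _ ⟨N, rfl⟩ hN
    exact hhq ((inferInstance : q.IsPrime).mem_of_pow_mem N hN)
  let q' := q.map (algebraMap S T)
  have hq'p : q'.IsPrime := IsLocalization.isPrime_of_isPrime_disjoint _ T q inferInstance hdis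
  have hq'c : q'.comap (algebraMap S T) = q :=
    IsLocalization.comap_map_of_isPrime_disjoint _ T inferInstance hdis
  have hq'R : q'.comap (algebraMap R T) = p := by
    rw [IsScalarTower.algebraMap_eq R S T, ← Ideal.comap_comap, hq'c]
    exact (Ideal.LiesOver.over (p := p) (P := q)).symm
  have : Algebra.FiniteType R T :=
    Algebra.FiniteType.trans (S := S) ‹_› (IsLocalization.finiteType_of_monoid_fg (Submonoid.powers h) T)
  have : Nontrivial (p.Fiber T) := by
    have : Nonempty (PrimeSpectrum (p.Fiber T)) :=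
      ⟨PrimeSpectrum.preimageEquivFiber R T ⟨p, inferInstance⟩
        ⟨⟨q', hq'p⟩, PrimeSpectrum.ext hq'R⟩⟩
    exact PrimeSpectrum.nonempty_iff_nontrivial.1 this
  obtain ⟨v, hv⟩ := exists_fibre_coords p n hd
  letI := (aeval v : MvPolynomial (Fin n) R →ₐ[R] T).toRingHom.toAlgebra
  haveI : IsScalarTower R (MvPolynomial (Fin n) R) T :=
    .of_algebraMap_eq fun a => ((aeval v : MvPolynomial (Fin n) R →ₐ[R] T).commutes a).symm
  haveI : Algebra.FiniteType (MvPolynomial (Fin n) R) T :=
    Algebra.FiniteType.of_restrictScalars_finiteType R _ _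
  haveI := weaklyQuasiFiniteAt v rfl q' p hq'R hv
  obtain ⟨a, ha, haqf⟩ := exists_away_quasiFinite (A := MvPolynomial (Fin n) R) q'
  obtain ⟨⟨a₀, _, N, rfl⟩, ha₀⟩ := IsLocalization.surj (Submonoid.powers h) a
  have hassoc' : Associated (algebraMap S T a₀) a := by
    have hu' : IsUnit (algebraMap S T (h ^ N)) :=
      IsLocalization.map_units T (⟨_, N, rfl⟩ : Submonoid.powers h)
    exact ((show Associated a (algebraMap S T a₀) from ⟨hu'.unit, ha₀⟩)).symm
  let W := Localization.Away a
  haveI : IsLocalization.Away (h * a₀) W := IsLocalization.Away.mul_of_associated h a₀ a hassoc'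
  have hgq : h * a₀ ∉ q := fun hmem => by
    rcases (inferInstance : q.IsPrime).mem_or_mem hmem with h' | h'
    · exact hhq h'
    · obtain ⟨u, hu'⟩ := hassoc'
      refine ha ?_
      rw [← hu']
      exact Ideal.mul_mem_right _ _ (Ideal.mem_map_of_mem _ h')
  let e : Localization.Away (h * a₀) ≃ₐ[R] W :=
    (IsLocalization.algEquiv (Submonoid.powers (h * a₀)) (Localization.Away (h * a₀)) W).restrictScalars R
  let φW : MvPolynomial (Fin n) R →ₐ[R] W := IsScalarTower.toAlgHom R (MvPolynomial (Fin n) R) W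
  have hft : φW.toRingHom.FiniteType := by
    refine RingHom.finiteType_algebraMap.2 ?_
    exact Algebra.FiniteType.trans (S := T) ‹_› (IsLocalization.finiteType_of_monoid_fg (Submonoid.powers a) W)
  refine ⟨h * a₀, hgq, e.symm.toAlgHom.comp φW, ?_, ?_⟩
  · show (e.symm.toRingEquiv.toRingHom.comp φW.toRingHom).FiniteType
    exact (RingHom.FiniteType.of_surjective _ e.symm.surjective).comp hft
  · letI := (e.symm.toAlgHom.comp φW).toRingHom.toAlgebra
    show Algebra.QuasiFinite (MvPolynomial (Fin n) R) (Localization.Away (h * a₀))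
    haveI := haqf
    exact Algebra.QuasiFinite.of_surjective_algHom
      ({ e.symm.toAlgHom.toRingHom with commutes' := fun r => rfl } : W →ₐ[MvPolynomial (Fin n) R] Localization.Away (h * a₀))
      e.symm.surjective

end Groth.Agent.CAlgH.QFChart
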