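import Groth.Agent.FlatMorNoether.Nagata
import Groth.Agent.DimLib.Algebra
import Mathlib

/-! Noether normalisation adapted to a prime. -/

set_option autoImplicit false
set_option backward.isDefEq.respectTransparency false
universe u

open MvPolynomial

namespace Groth.Agent.CAlgH.RefinedNoether

open Groth.Agent.FlatMorNoether (nagata isUnit_leadingCoeff_nagata)

variable {k : Type u} [Field k]

/-- The ideal of the variables with index at least `r`. -/
noncomputable def tailVars (k : Type u) [CommRing k] (n r : ℕ) : Ideal (MvPolynomial (Fin n) k) :=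
  Ideal.span (Set.range fun i : {i : Fin n // r ≤ (i : ℕ)} => X (i : Fin n))

theorem X_mem_tailVars {k : Type u} [CommRing k] {n r : ℕ} {i : Fin n} (h : r ≤ (i : ℕ)) :
    (X i : MvPolynomial (Fin n) k) ∈ tailVars k n r :=
  Ideal.subset_span ⟨⟨i, h⟩, rfl⟩

/-- An endomorphism fixing the variables modulo an ideal fixes everything modulo the ideal. -/
theorem sub_mem_of_forall {A : Type u} [CommRing A] {σ : Type*} (I : Ideal (MvPolynomial σ A))
    (e : MvPolynomial σ A →ₐ[A] MvPolynomial σ A) (h : ∀ i, e (X i) - X i ∈ I) (g : MvPolynomial σ A) :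
    e g - g ∈ I := by
  have : (Ideal.Quotient.mkₐ A I).comp e = Ideal.Quotient.mkₐ A I :=
    MvPolynomial.algHom_ext fun i => Ideal.Quotient.eq.2 (h i)
  exact Ideal.Quotient.eq.1 (DFunLike.congr_fun this g)

theorem finite_of_forall_X {n : ℕ} {A : Type u} [CommRing A] [Algebra k A]
    (ψ : A →ₐ[k] MvPolynomial (Fin n) k) (h : ∀ i, ψ.toRingHom.IsIntegralElem (X i)) :
    ψ.toRingHom.Finite := by
  let _ : Algebra A (MvPolynomial (Fin n) k) := ψ.toRingHom.toAlgebra
  have : IsScalarTower k A (MvPolynomial (Fin n) k) := .of_algebraMap_eq fun a => (ψ.commutes a).symm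
  have : Algebra.FiniteType A (MvPolynomial (Fin n) k) :=
    Algebra.FiniteType.of_restrictScalars_finiteType k _ _
  refine RingHom.IsIntegral.to_finite (fun g => ?_) this
  induction g using MvPolynomial.induction_on with
  | C a =>
    have h1 := ψ.toRingHom.isIntegralElem_map (x := algebraMap k A a)
    have h2 : ψ.toRingHom (algebraMap k A a) = C a := ψ.commutes a
    rwa [h2] at h1
  | add a b ha hb => exact RingHom.IsIntegralElem.add _ ha hb
  | mul_X a i ha => exact RingHom.IsIntegralElem.mul _ ha (h i)

theorem exists_refined (k : Type u) [Field k] : ∀ (n : ℕ) (q : Ideal (MvPolynomial (Fin n) k)) [q.IsPrime],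
    ∃ r, r ≤ n ∧ ∃ φ : MvPolynomial (Fin n) k →ₐ[k] MvPolynomial (Fin n) k,
      φ.toRingHom.Finite ∧ q.comap φ = tailVars k n r := by
  classical
  intro n
  induction n with
  | zero =>
    intro q hq
    refine ⟨0, le_rfl, AlgHom.id k _, RingHom.Finite.id _, ?_⟩
    have : tailVars k 0 0 = ⊥ := by
      rw [tailVars, Set.range_eq_empty, Ideal.span_empty]
    rw [this, eq_bot_iff]
    intro g hg
    obtain ⟨a, rfl⟩ : ∃ a, C a = g := ⟨_, (eq_C_of_isEmpty g).symm⟩
    by_contra h
    refine hq.ne_top (Ideal.eq_top_of_isUnit_mem _ hg ?_)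
    exact (isUnit_iff_ne_zero.2 fun ha : a = 0 => h (by simp [ha])).map C
  | succ m ih =>
    intro q hq
    by_cases hq0 : q = ⊥
    · refine ⟨m + 1, le_rfl, AlgHom.id k _, RingHom.Finite.id _, ?_⟩
      subst hq0
      have : tailVars k (m + 1) (m + 1) = ⊥ := by
        rw [tailVars, eq_bot_iff, Ideal.span_le]
        rintro _ ⟨⟨i, hi⟩, rfl⟩
        exact absurd i.2 (not_lt.2 hi)
      rw [this]; rfl
    obtain ⟨f, hfq, hf⟩ := Submodule.exists_mem_ne_zero_of_ne_bot hq0
    let N := f.totalDegree + 1
    let z : Fin m → MvPolynomial (Fin (m + 1)) k := fun j => X j.succ - X 0 ^ N ^ (j.1 + 1)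
    let ρ : MvPolynomial (Fin m) k →ₐ[k] MvPolynomial (Fin (m + 1)) k := aeval z
    have hsub : ∀ g, Polynomial.eval₂ ρ.toRingHom (X 0) (nagata k m N g) = g := by
      intro g
      have : (Polynomial.eval₂RingHom ρ.toRingHom (X 0)).comp (nagata k m N).toRingHom =
          RingHom.id (MvPolynomial (Fin (m + 1)) k) := by
        refine ringHom_ext (fun a => ?_) fun i => ?_
        · show Polynomial.eval₂ ρ.toRingHom (X 0) (nagata k m N (C a)) = C a
          simp [nagata, ρ, Polynomial.algebraMap_eq]
        · show Polynomial.eval₂ ρ.toRingHom (X 0) (nagata k m N (X i)) = X i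
          cases i using Fin.cases with
          | zero => simp [nagata]
          | succ j =>
            simp [nagata, ρ, z]
      exact congr($this g)
    let ψ : MvPolynomial (Fin (m + 1)) k →ₐ[k] MvPolynomial (Fin (m + 1)) k := aeval (Fin.snoc z f)
    have hψρ : ψ.comp (rename Fin.castSucc) = ρ := MvPolynomial.algHom_ext fun j => by
      simp [ψ, ρ, rename_X]
    have hψlast : ψ (X (Fin.last m)) = f := by simp [ψ]
    have hu := isUnit_leadingCoeff_nagata (m := m) (N := N) f hf fun v hv i =>
      Nat.lt_succ_of_le ((monomial_le_degreeOf i hv).trans (degreeOf_le_totalDegree f i))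
    have hX0 : ψ.toRingHom.IsIntegralElem (X 0) := by
      set P := (nagata k m N f).map (rename (R := k) (Fin.castSucc (n := m))).toRingHom with hP
      have hdeg : 0 < (nagata k m N f).natDegree := by
        by_contra h0
        have hC := Polynomial.eq_C_of_natDegree_eq_zero (Nat.eq_zero_of_not_pos h0)
        have h1 := hsub f
        rw [hC, Polynomial.eval₂_C] at h1
        refine hq.ne_top (Ideal.eq_top_of_isUnit_mem _ hfq (h1 ▸ IsUnit.map _ ?_))
        rwa [hC, Polynomial.leadingCoeff_C] at hu
      have hPlc : IsUnit P.leadingCoeff := by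
        rw [hP, Polynomial.leadingCoeff_map_of_injective (rename_injective _ (Fin.castSucc_injective m))]
        exact hu.map _
      have hPdeg : 0 < P.natDegree := by
        rw [hP, Polynomial.natDegree_map_eq_of_injective (rename_injective _ (Fin.castSucc_injective m))]
        exact hdeg
      have hlt : (Polynomial.C (X (Fin.last m) : MvPolynomial (Fin (m + 1)) k)).degree < P.degree := by
        refine Polynomial.degree_C_le.trans_lt ?_
        rw [Polynomial.degree_eq_natDegree (fun h => by simp [h] at hPdeg)]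
        exact_mod_cast hPdeg
      have hlc : IsUnit (P - Polynomial.C (X (Fin.last m))).leadingCoeff := by
        rwa [Polynomial.leadingCoeff_sub_of_degree_lt hlt]
      have hev : Polynomial.eval₂ ψ.toRingHom (X 0) (P - Polynomial.C (X (Fin.last m))) = 0 := by
        rw [Polynomial.eval₂_sub, Polynomial.eval₂_C ψ.toRingHom, hP, Polynomial.eval₂_map]
        have : ψ.toRingHom.comp (rename (R := k) (Fin.castSucc (n := m))).toRingHom = ρ.toRingHom :=
          congrArg AlgHom.toRingHom hψρ
        rw [this, hsub]
        show f - ψ (X (Fin.last m)) = 0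
        rw [hψlast, sub_self]
      refine ⟨_, Polynomial.monic_of_isUnit_leadingCoeff_inv_smul hlc, ?_⟩
      rw [Units.smul_def, Polynomial.smul_eq_C_mul, Polynomial.eval₂_mul, hev, mul_zero]
    have hψfin : ψ.toRingHom.Finite := finite_of_forall_X ψ fun i => by
      cases i using Fin.cases with
      | zero => exact hX0
      | succ j =>
        have h1 : ψ.toRingHom (X j.castSucc) = z j := by simp [ψ]
        have h2 := ψ.toRingHom.isIntegralElem_map (x := X j.castSucc)
        rw [h1] at h2
        have h3 : ψ.toRingHom.IsIntegralElem (X 0 ^ N ^ (j.1 + 1)) := by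
          generalize N ^ (j.1 + 1) = e
          induction e with
          | zero => rw [pow_zero]; exact ψ.toRingHom.isIntegralElem_one
          | succ e ihe => rw [pow_succ]; exact RingHom.IsIntegralElem.mul _ ihe hX0
        have h4 := RingHom.IsIntegralElem.add _ h2 h3
        simpa [z] using h4
    let q1 := q.comap ψ
    have hlast : X (Fin.last m) ∈ q1 := by show ψ _ ∈ q; rw [hψlast]; exact hfq
    let ι : MvPolynomial (Fin m) k →ₐ[k] MvPolynomial (Fin (m + 1)) k := rename Fin.castSucc
    obtain ⟨r, hr, φ', hφ', hφ'q⟩ := ih (q1.comap ι)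
    let χ : MvPolynomial (Fin (m + 1)) k →ₐ[k] MvPolynomial (Fin (m + 1)) k :=
      aeval (Fin.snoc (fun j => ι (φ' (X j))) (X (Fin.last m)))
    have hχι : χ.comp ι = ι.comp φ' := MvPolynomial.algHom_ext fun j => by simp [χ, ι, rename_X]
    have hχlast : χ (X (Fin.last m)) = X (Fin.last m) := by simp [χ]
    have hχfin : χ.toRingHom.Finite := finite_of_forall_X χ fun i => by
      cases i using Fin.lastCases with
      | last =>
        have := χ.toRingHom.isIntegralElem_map (x := X (Fin.last m))
        rwa [show χ.toRingHom (X (Fin.last m)) = X (Fin.last m) from hχlast] at this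
      | cast j =>
        obtain ⟨P, hP, hP0⟩ := RingHom.IsIntegral.of_finite hφ' (X j)
        refine ⟨P.map ι.toRingHom, hP.map _, ?_⟩
        rw [Polynomial.eval₂_map]
        have h1 : χ.toRingHom.comp ι.toRingHom = ι.toRingHom.comp φ'.toRingHom :=
          congrArg AlgHom.toRingHom hχι
        have h2 : (X j.castSucc : MvPolynomial (Fin (m + 1)) k) = ι.toRingHom (X j) :=
          (rename_X _ _).symm
        rw [h1, h2, ← Polynomial.hom_eval₂, hP0, map_zero]
    refine ⟨r, hr.trans (Nat.le_succ m), ψ.comp χ, hψfin.comp hχfin, ?_⟩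
    have hup : ∀ g, g ∈ tailVars k m r → ι g ∈ tailVars k (m + 1) r := by
      intro g hg
      refine (Ideal.map_le_iff_le_comap.1 (?_ : (tailVars k m r).map ι ≤ tailVars k (m + 1) r)) hg
      rw [tailVars, Ideal.map_span, Ideal.span_le]
      rintro _ ⟨_, ⟨⟨i, hi⟩, rfl⟩, rfl⟩
      simp only [ι, rename_X]
      exact X_mem_tailVars (by simpa using hi)
    refine le_antisymm (fun g hg => ?_) ?_
    · let e0 : MvPolynomial (Fin (m + 1)) k →ₐ[k] MvPolynomial (Fin m) k := aeval (Fin.snoc X 0)
      have hdiff : (ι.comp e0) g - g ∈ Ideal.span {(X (Fin.last m) : MvPolynomial (Fin (m + 1)) k)} := by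
        refine sub_mem_of_forall _ _ (fun i => ?_) g
        cases i using Fin.lastCases with
        | last =>
          simp only [AlgHom.comp_apply, e0, aeval_X, Fin.snoc_last, map_zero, zero_sub]
          exact (Ideal.span {(X (Fin.last m) : MvPolynomial (Fin (m + 1)) k)}).neg_mem (Ideal.mem_span_singleton_self _)
        | cast j => simp [e0, ι, rename_X]
      have hd1 : Ideal.span {(X (Fin.last m) : MvPolynomial (Fin (m + 1)) k)} ≤ tailVars k (m + 1) r := by
        rw [Ideal.span_le, Set.singleton_subset_iff]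
        exact X_mem_tailVars (by simpa using hr)
      have hd2 : Ideal.span {(X (Fin.last m) : MvPolynomial (Fin (m + 1)) k)} ≤ q1.comap χ := by
        rw [Ideal.span_le, Set.singleton_subset_iff]
        show χ _ ∈ q1
        rwa [hχlast]
      have h1 : χ ((ι.comp e0) g) ∈ q1 := by
        have := q1.add_mem (show χ ((ι.comp e0) g - g) ∈ q1 from hd2 hdiff) (show χ g ∈ q1 from hg)
        rwa [← map_add, sub_add_cancel] at this
      have h2 : e0 g ∈ tailVars k m r := by
        rw [← hφ'q]
        have h3 : χ (ι (e0 g)) = ι (φ' (e0 g)) := DFunLike.congr_fun hχι (e0 g)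
        show ι (φ' (e0 g)) ∈ q1
        rw [← h3]
        exact h1
      have := (tailVars k (m + 1) r).sub_mem (hup _ h2) (hd1 hdiff)
      rwa [AlgHom.comp_apply, sub_sub_cancel] at this
    · rw [tailVars, Ideal.span_le]
      rintro _ ⟨⟨i, hi⟩, rfl⟩
      show χ (X i) ∈ q1
      cases i using Fin.lastCases with
      | last => rwa [hχlast]
      | cast j =>
        have : χ (X j.castSucc) = ι (φ' (X j)) := by simp [χ]
        rw [this]
        exact hφ'q.ge (X_mem_tailVars (by simpa using hi))

theorem trdeg_of_integral (K P L : Type u) [Field K] [CommRing P] [IsDomain P] [CommRing L] [IsDomain L]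
    [Algebra K P] [Algebra K L] [Algebra P L] [IsScalarTower K P L] [FaithfulSMul P L]
    [Algebra.IsIntegral P L] : Algebra.trdeg K L = Algebra.trdeg K P := by
  have h0 : Algebra.trdeg P L = 0 := trdeg_eq_zero
  rw [← trdeg_add_eq K P (A := L), h0, add_zero]

/-- The variables below `r` are independent modulo the kernel, which is the tail. -/
theorem trdeg_eq_of_integral {K L : Type u} [Field K] [CommRing L] [IsDomain L] [Algebra K L]
    {n r : ℕ} (hr : r ≤ n) (φ : MvPolynomial (Fin n) K →ₐ[K] L) (hker : RingHom.ker φ = tailVars K n r)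
    (hint : φ.toRingHom.IsIntegral) : Algebra.trdeg K L = r := by
  classical
  let ι : MvPolynomial (Fin r) K →ₐ[K] MvPolynomial (Fin n) K := rename (Fin.castLE hr)
  let e : MvPolynomial (Fin n) K →ₐ[K] MvPolynomial (Fin r) K :=
    aeval fun i => if h : (i : ℕ) < r then X ⟨i, h⟩ else 0
  have he : e.comp ι = AlgHom.id K _ := MvPolynomial.algHom_ext fun i => by simp [e, ι, rename_X]
  have hkill : tailVars K n r ≤ RingHom.ker e := by
    rw [tailVars, Ideal.span_le]
    rintro _ ⟨⟨i, hi⟩, rfl⟩
    simp [e, not_lt.2 hi]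
  have hφe : (φ.comp ι).comp e = φ := MvPolynomial.algHom_ext fun i => by
    by_cases h : (i : ℕ) < r
    · simp [e, ι, h, rename_X]
    · have : φ (X i) = 0 := hker.ge (X_mem_tailVars (not_lt.1 h))
      simp [e, h, this]
  let j := φ.comp ι
  have hinj : Function.Injective j := by
    rw [injective_iff_map_eq_zero]
    intro g hg
    have h0 : e (ι g) = 0 := hkill (hker.le hg)
    rwa [← AlgHom.comp_apply, he] at h0
  let _ : Algebra (MvPolynomial (Fin r) K) L := j.toRingHom.toAlgebra
  have : IsScalarTower K (MvPolynomial (Fin r) K) L := .of_algebraMap_eq fun a => (j.commutes a).symm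
  have hfs : FaithfulSMul (MvPolynomial (Fin r) K) L := (faithfulSMul_iff_algebraMap_injective _ _).2 hinj
  have : Algebra.IsIntegral (MvPolynomial (Fin r) K) L := ⟨fun x => by
    obtain ⟨P, hP, hP0⟩ := hint x
    refine ⟨P.map e.toRingHom, hP.map _, ?_⟩
    rw [Polynomial.eval₂_map]
    exact (congrArg (fun ψ => Polynomial.eval₂ ψ x P) (congrArg AlgHom.toRingHom hφe)).trans hP0⟩
  rw [trdeg_of_integral K (MvPolynomial (Fin r) K) L, MvPolynomial.trdeg_of_isDomain]
  simp

end Groth.Agent.CAlgH.RefinedNoether
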