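import Groth.Agent.CAlgH.QFChart
import Groth.Agent.CAlgH.RefinedNoether
import Mathlib

/-! Quasi-finite polynomial charts with prescribed preimage of the point. -/

set_option autoImplicit false
set_option backward.isDefEq.respectTransparency false
universe u

open MvPolynomial TensorProduct

namespace Groth.Agent.CAlgH.QFChartRefined

open Groth.Agent.FlatMorNoether (fibreMap fibreMap_map residueField_div)
open Groth.Agent.CAlgH.RefinedNoether

variable {R S : Type u} [CommRing R] [CommRing S] [Algebra R S]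

/-- Scaling of the variables. -/
noncomputable def scale {K : Type u} [CommRing K] {n : ℕ} (a : Fin n → K) :
    MvPolynomial (Fin n) K →ₐ[K] MvPolynomial (Fin n) K :=
  aeval fun i => C (a i) * X i

theorem scale_comp {K : Type u} [CommRing K] {n : ℕ} (a b : Fin n → K) (h : ∀ i, a i * b i = 1) :
    (scale a).comp (scale b) = AlgHom.id K _ :=
  MvPolynomial.algHom_ext fun i => by
    simp only [scale, AlgHom.comp_apply, aeval_X, map_mul, aeval_C, AlgHom.id_apply]
    rw [MvPolynomial.algebraMap_eq, ← mul_assoc, ← map_mul, mul_comm (b i), h, map_one, one_mul]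

theorem scale_mem {K : Type u} [CommRing K] {n r : ℕ} (a : Fin n → K) {g : MvPolynomial (Fin n) K}
    (hg : g ∈ tailVars K n r) : scale a g ∈ tailVars K n r := by
  refine (Ideal.map_le_iff_le_comap.1 (?_ : (tailVars K n r).map (scale a) ≤ tailVars K n r)) hg
  rw [tailVars, Ideal.map_span, Ideal.span_le]
  rintro _ ⟨_, ⟨⟨i, hi⟩, rfl⟩, rfl⟩
  simp only [scale, aeval_X]
  exact Ideal.mul_mem_left _ _ (X_mem_tailVars hi)

/-- Coordinates in `T`, integral on the fibre, adapted to a point of the fibre. -/
theorem exists_adapted_coords {T : Type u} [CommRing T] [Algebra R T] [Algebra.FiniteType R T]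
    (p : Ideal R) [p.IsPrime] {L : Type u} [Field L] [Algebra p.ResidueField L]
    (θ : p.Fiber T →ₐ[p.ResidueField] L) (n : ℕ)
    (hd : ringKrullDim (p.Fiber T) ≤ (n : WithBot ℕ∞)) :
    ∃ (t : Fin n → T) (r : ℕ), (∀ s : p.Fiber T, (fibreMap p t).toRingHom.IsIntegralElem s) ∧
      (∀ g, θ (fibreMap p t g) = 0 ↔ g ∈ tailVars p.ResidueField n r) ∧
      Algebra.trdeg p.ResidueField (p.Fiber T ⧸ RingHom.ker θ) = r := by
  classical
  haveI : Nontrivial (p.Fiber T) := θ.toRingHom.domain_nontrivial
  obtain ⟨w, hw⟩ := QFChart.exists_coords p.ResidueField (p.Fiber T) n hd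
  haveI : (RingHom.ker θ).IsPrime := RingHom.ker_isPrime _
  obtain ⟨r, hr, φ, hφ, hφq⟩ := exists_refined p.ResidueField n
    ((RingHom.ker θ).comap (aeval w : MvPolynomial (Fin n) p.ResidueField →ₐ[p.ResidueField] p.Fiber T))
  let ψ : MvPolynomial (Fin n) p.ResidueField →ₐ[p.ResidueField] p.Fiber T := (aeval w).comp φ
  have hψ : ψ.toRingHom.IsIntegral :=
    RingHom.IsIntegral.trans φ.toRingHom _ (RingHom.IsIntegral.of_finite hφ) hw
  have hker : ∀ g, θ (ψ g) = 0 ↔ g ∈ tailVars p.ResidueField n r := fun g => by rw [← hφq]; rfl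
  choose c hc t ht using fun i => Ideal.Fiber.exists_smul_eq_one_tmul (R := R) (S := T) p (ψ (X i))
  have hc' : ∀ i, algebraMap R p.ResidueField (c i) ≠ 0 := fun i h =>
    hc i (Ideal.algebraMap_residueField_eq_zero.1 h)
  let a : Fin n → p.ResidueField := fun i => algebraMap R p.ResidueField (c i)
  let b : Fin n → p.ResidueField := fun i => (algebraMap R p.ResidueField (c i))⁻¹
  have hfib : fibreMap p t = ψ.comp (scale a) := MvPolynomial.algHom_ext fun i => by
    have h1 : (Algebra.TensorProduct.includeRight (t i) : p.Fiber T) =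
        algebraMap p.ResidueField (p.Fiber T) (algebraMap R p.ResidueField (c i)) * ψ (X i) := by
      rw [← IsScalarTower.algebraMap_apply, ← Algebra.smul_def, ht i]
      rfl
    simp only [AlgHom.comp_apply, scale, aeval_X, map_mul, fibreMap, h1, a]
    congr 1
    rw [← MvPolynomial.algebraMap_eq, AlgHom.commutes]
  refine ⟨t, r, fun s => ?_, fun g => ?_, ?_⟩
  · obtain ⟨P, hP, hPs⟩ := hψ s
    refine ⟨P.map (scale b).toRingHom, hP.map _, ?_⟩
    rw [Polynomial.eval₂_map]
    refine Eq.trans (congrArg (fun f => Polynomial.eval₂ f s P) ?_) hPs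
    refine congrArg AlgHom.toRingHom (?_ : (fibreMap p t).comp (scale b) = ψ)
    rw [hfib, AlgHom.comp_assoc, scale_comp a b (fun i => mul_inv_cancel₀ (hc' i)), AlgHom.comp_id]
  · rw [hfib, AlgHom.comp_apply, hker]
    refine ⟨fun h => ?_, scale_mem a⟩
    have := scale_mem b h
    rwa [← AlgHom.comp_apply (scale b), scale_comp b a (fun i => inv_mul_cancel₀ (hc' i))] at this
  · refine trdeg_eq_of_integral hr ((Ideal.Quotient.mkₐ p.ResidueField (RingHom.ker θ)).comp ψ) ?_ ?_
    · ext g
      rw [RingHom.mem_ker, ← hker]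
      exact Ideal.Quotient.eq_zero_iff_mem
    · intro x
      obtain ⟨y, rfl⟩ := Ideal.Quotient.mk_surjective x
      obtain ⟨P, hP, hPy⟩ := hψ y
      refine ⟨P, hP, ?_⟩
      have := congrArg (Ideal.Quotient.mk (RingHom.ker θ)) hPy
      rw [Polynomial.hom_eval₂, map_zero] at this
      exact this

/-- The tail ideal pulled back from the fibre. -/
theorem comap_map_tailVars (p : Ideal R) [p.IsPrime] (n r : ℕ) :
    (tailVars p.ResidueField n r).comap (map (algebraMap R p.ResidueField)) =
      p.map C ⊔ tailVars R n r := by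
  classical
  refine le_antisymm (fun g hg => ?_) (sup_le ?_ ?_)
  · let e : MvPolynomial (Fin n) R →ₐ[R] MvPolynomial (Fin n) R :=
      aeval fun i => if r ≤ (i : ℕ) then 0 else X i
    let eK : MvPolynomial (Fin n) p.ResidueField →ₐ[p.ResidueField] MvPolynomial (Fin n) p.ResidueField :=
      aeval fun i => if r ≤ (i : ℕ) then 0 else X i
    have hcomm : ∀ g, map (algebraMap R p.ResidueField) (e g) = eK (map (algebraMap R p.ResidueField) g) := by
      have : (map (algebraMap R p.ResidueField)).comp e.toRingHom =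
          eK.toRingHom.comp (map (algebraMap R p.ResidueField)) :=
        ringHom_ext (fun a => by simp [e, eK]) fun i => by
          by_cases h : r ≤ (i : ℕ) <;> simp [e, eK, h]
      exact fun g => congr($this g)
    have h0 : eK (map (algebraMap R p.ResidueField) g) = 0 := by
      refine (?_ : tailVars p.ResidueField n r ≤ RingHom.ker eK) hg
      rw [tailVars, Ideal.span_le]
      rintro _ ⟨⟨i, hi⟩, rfl⟩
      simp [eK, hi]
    have h1 : e g ∈ p.map C := by
      rw [← Ideal.ker_algebraMap_residueField p, ← MvPolynomial.ker_map, RingHom.mem_ker, hcomm, h0]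
    have h2 : e g - g ∈ tailVars R n r := sub_mem_of_forall _ _ (fun i => by
      by_cases h : r ≤ (i : ℕ)
      · simp only [e, aeval_X, if_pos h, zero_sub]
        exact (tailVars R n r).neg_mem (X_mem_tailVars h)
      · simp [e, h]) g
    have := Ideal.sub_mem _ (Ideal.mem_sup_left (T := tailVars R n r) h1) (Ideal.mem_sup_right h2)
    rwa [sub_sub_cancel] at this
  · rw [Ideal.map_le_iff_le_comap]
    intro a ha
    simp [Ideal.algebraMap_residueField_eq_zero.2 ha]
  · rw [tailVars, Ideal.span_le]
    rintro _ ⟨⟨i, hi⟩, rfl⟩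
    show MvPolynomial.map _ (X i) ∈ tailVars _ n r
    rw [map_X]
    exact X_mem_tailVars hi

/-- Shrink to get quasi-finiteness. -/
theorem chart_of_coords [Algebra.FiniteType R S] (p : Ideal R) [p.IsPrime] (q : Ideal S) [q.IsPrime]
    [q.LiesOver p] (h : S) (hhq : h ∉ q) {n : ℕ} (v : Fin n → Localization.Away h)
    (hv : ∀ s : p.Fiber (Localization.Away h), (fibreMap p v).toRingHom.IsIntegralElem s) :
    ∃ g : S, g ∉ q ∧ ∃ j : Localization.Away h →ₐ[R] Localization.Away g,
      (∀ s, j (algebraMap S _ s) = algebraMap S _ s) ∧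
      (j.comp (aeval v : MvPolynomial (Fin n) R →ₐ[R] _)).toRingHom.FiniteType ∧
      (j.comp (aeval v : MvPolynomial (Fin n) R →ₐ[R] _)).toRingHom.QuasiFinite := by
  classical
  let T := Localization.Away h
  have hdis : Disjoint (Submonoid.powers h : Set S) (q : Set S) := by
    rw [Set.disjoint_left]
    rintro _ ⟨N, rfl⟩ hN
    exact hhq ((inferInstance : q.IsPrime).mem_of_pow_mem N hN)
  let q' := q.map (algebraMap S T)
  have hq'p : q'.IsPrime := IsLocalization.isPrime_of_isPrime_disjoint _ T q inferInstance hdis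
  have hq'c : q'.comap (algebraMap S T) = q :=
    IsLocalization.comap_map_of_isPrime_disjoint _ T inferInstance hdis
  have hq'R : q'.comap (algebraMap R T) = p := by
    rw [IsScalarTower.algebraMap_eq R S T, ← Ideal.comap_comap, hq'c]
    exact (Ideal.LiesOver.over (p := p) (P := q)).symm
  have : Algebra.FiniteType R T :=
    Algebra.FiniteType.trans (S := S) ‹_› (IsLocalization.finiteType_of_monoid_fg (Submonoid.powers h) T)
  letI := (aeval v : MvPolynomial (Fin n) R →ₐ[R] T).toRingHom.toAlgebra
  haveI : IsScalarTower R (MvPolynomial (Fin n) R) T :=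
    .of_algebraMap_eq fun a => ((aeval v : MvPolynomial (Fin n) R →ₐ[R] T).commutes a).symm
  haveI : Algebra.FiniteType (MvPolynomial (Fin n) R) T :=
    Algebra.FiniteType.of_restrictScalars_finiteType R _ _
  haveI := QFChart.weaklyQuasiFiniteAt v rfl q' p hq'R hv
  obtain ⟨a, ha, haqf⟩ := QFChart.exists_away_quasiFinite (A := MvPolynomial (Fin n) R) q'
  obtain ⟨⟨a₀, _, N, rfl⟩, ha₀⟩ := IsLocalization.surj (Submonoid.powers h) a
  have hassoc' : Associated (algebraMap S T a₀) a := by
    have hu' : IsUnit (algebraMap S T (h ^ N)) :=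
      IsLocalization.map_units T (⟨_, N, rfl⟩ : Submonoid.powers h)
    exact ((show Associated a (algebraMap S T a₀) from ⟨hu'.unit, ha₀⟩)).symm
  let W := Localization.Away a
  haveI : IsLocalization.Away (h * a₀) W := IsLocalization.Away.mul_of_associated h a₀ a hassoc'
  have hgq : h * a₀ ∉ q := fun hmem => by
    rcases (inferInstance : q.IsPrime).mem_or_mem hmem with h' | h'
    · exact hhq h'
    · obtain ⟨u, hu'⟩ := hassoc'
      refine ha ?_
      rw [← hu']
      exact Ideal.mul_mem_right _ _ (Ideal.mem_map_of_mem _ h')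
  let eS : Localization.Away (h * a₀) ≃ₐ[S] W :=
    IsLocalization.algEquiv (Submonoid.powers (h * a₀)) (Localization.Away (h * a₀)) W
  let e : Localization.Away (h * a₀) ≃ₐ[R] W := eS.restrictScalars R
  let φW : MvPolynomial (Fin n) R →ₐ[R] W := IsScalarTower.toAlgHom R (MvPolynomial (Fin n) R) W
  have hft : φW.toRingHom.FiniteType := by
    refine RingHom.finiteType_algebraMap.2 ?_
    exact Algebra.FiniteType.trans (S := T) ‹_› (IsLocalization.finiteType_of_monoid_fg (Submonoid.powers a) W)
  refine ⟨h * a₀, hgq, e.symm.toAlgHom.comp (IsScalarTower.toAlgHom R T W), fun s => ?_, ?_⟩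
  · show eS.symm (algebraMap T W (algebraMap S T s)) = _
    rw [← IsScalarTower.algebraMap_apply S T W, AlgEquiv.commutes]
  rw [show (e.symm.toAlgHom.comp (IsScalarTower.toAlgHom R T W)).comp (aeval v) =
    e.symm.toAlgHom.comp φW from AlgHom.ext fun x => rfl]
  refine ⟨?_, ?_⟩
  · show (e.symm.toRingEquiv.toRingHom.comp φW.toRingHom).FiniteType
    exact (RingHom.FiniteType.of_surjective _ e.symm.surjective).comp hft
  · letI := (e.symm.toAlgHom.comp φW).toRingHom.toAlgebra
    show Algebra.QuasiFinite (MvPolynomial (Fin n) R) (Localization.Away (h * a₀))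
    haveI := haqf
    exact Algebra.QuasiFinite.of_surjective_algHom
      ({ e.symm.toAlgHom.toRingHom with commutes' := fun r => rfl } : W →ₐ[MvPolynomial (Fin n) R] Localization.Away (h * a₀))
      e.symm.surjective


/-- A field generated by the image of an algebra has the transcendence degree of the image. -/
theorem trdeg_quotient_ker {K L F : Type u} [Field K] [Field L] [CommRing F] [Algebra K F] [Algebra K L]
    (θ : F →ₐ[K] L) (hgen : ∀ x : L, ∃ a b : F, x = θ a / θ b) :
    Algebra.trdeg K (F ⧸ RingHom.ker θ) = Algebra.trdeg K L := by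
  let θbar := Ideal.kerLiftAlg θ
  let _ : Algebra (F ⧸ RingHom.ker θ) L := θbar.toRingHom.toAlgebra
  have : IsScalarTower K (F ⧸ RingHom.ker θ) L := .of_algebraMap_eq fun a => (θbar.commutes a).symm
  have : FaithfulSMul (F ⧸ RingHom.ker θ) L :=
    (faithfulSMul_iff_algebraMap_injective _ _).2 (Ideal.kerLiftAlg_injective θ)
  have : (RingHom.ker θ).IsPrime := RingHom.ker_isPrime _
  have hmk : ∀ a : F, algebraMap (F ⧸ RingHom.ker θ) L (Ideal.Quotient.mk _ a) = θ a := fun a => rfl
  have : Algebra.IsAlgebraic (F ⧸ RingHom.ker θ) L := by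
    refine ⟨fun x => ?_⟩
    obtain ⟨a, b, rfl⟩ := hgen x
    rw [← hmk a, ← hmk b, div_eq_mul_inv]
    exact (isAlgebraic_algebraMap _).mul (isAlgebraic_algebraMap _).inv
  have h0 : Algebra.trdeg (F ⧸ RingHom.ker θ) L = 0 := trdeg_eq_zero
  have h2 := trdeg_add_eq K (F ⧸ RingHom.ker θ) (A := L)
  rwa [h0, add_zero] at h2

/-- Extensions of `S → κ(q)` to `S_g` kill exactly `q S_g`. -/
theorem eq_zero_iff_mem_map {q : Ideal S} [q.IsPrime] {g : S} {W : Type u} [CommRing W] [Algebra S W]
    [IsLocalization.Away g W] (θ : W →+* q.ResidueField)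
    (hθ : ∀ s, θ (algebraMap S W s) = algebraMap S q.ResidueField s) (x : W) :
    θ x = 0 ↔ x ∈ q.map (algebraMap S W) := by
  constructor
  · intro hx
    obtain ⟨⟨a, _, N, rfl⟩, ha⟩ := IsLocalization.surj (Submonoid.powers g) x
    have ha' : a ∈ q := by
      rw [← Ideal.algebraMap_residueField_eq_zero, ← hθ, ← ha, map_mul, hx, zero_mul]
    obtain ⟨u, hu⟩ : IsUnit (algebraMap S W (g ^ N)) :=
      IsLocalization.map_units W (⟨_, N, rfl⟩ : Submonoid.powers g)
    dsimp only at ha
    rw [← hu] at ha
    rw [← Ideal.mul_unit_mem_iff_mem _ u.isUnit, ha]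
    exact Ideal.mem_map_of_mem _ ha'
  · intro hx
    refine (?_ : q.map (algebraMap S W) ≤ RingHom.ker θ) hx
    rw [Ideal.map_le_iff_le_comap]
    intro s hs
    show θ (algebraMap S W s) = 0
    rw [hθ, Ideal.algebraMap_residueField_eq_zero.2 hs]

/-- The quasi-finite chart, adapted to `q`. -/
theorem exists_chart_refined [Algebra.FiniteType R S] (p : Ideal R) [p.IsPrime] (q : Ideal S) [q.IsPrime]
    [q.LiesOver p] [Algebra (Localization.AtPrime p) (Localization.AtPrime q)]
    [Localization.AtPrime.IsLiesOverAlgebra p q] (Q : PrimeSpectrum (p.Fiber S))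
    (hQ : Q.asIdeal.comap (Algebra.TensorProduct.includeRight.toRingHom) = q) (n r : ℕ)
    (hdim : FlatMor.localDim (PrimeSpectrum (p.Fiber S)) Q = (n : WithBot ℕ∞))
    (hr : Algebra.trdeg p.ResidueField q.ResidueField = r) :
    ∃ g : S, g ∉ q ∧ ∃ φ : MvPolynomial (Fin n) R →ₐ[R] Localization.Away g,
      φ.toRingHom.FiniteType ∧ φ.toRingHom.QuasiFinite ∧
        (q.map (algebraMap S (Localization.Away g))).comap φ = p.map C ⊔ tailVars R n r := by
  classical
  have : Nonempty {U : TopologicalSpace.Opens (PrimeSpectrum (p.Fiber S)) // Q ∈ U} := ⟨⟨⊤, trivial⟩⟩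
  obtain ⟨⟨U, hQU⟩, hU⟩ := ciInf_mem fun U : {U : TopologicalSpace.Opens (PrimeSpectrum (p.Fiber S)) //
    Q ∈ U} => topologicalKrullDim (U.1 : Set (PrimeSpectrum (p.Fiber S)))
  have hUn : topologicalKrullDim (U.1 : Set (PrimeSpectrum (p.Fiber S))) ≤ (n : WithBot ℕ∞) :=
    (hU.trans hdim).le
  obtain ⟨_, ⟨z, rfl⟩, hz, hzU⟩ :=
    PrimeSpectrum.isTopologicalBasis_basic_opens.exists_subset_of_mem_open hQU U.2
  obtain ⟨c, hc, h, hh⟩ := Ideal.Fiber.exists_smul_eq_one_tmul (R := R) (S := S) p z
  have hassoc : (Algebra.TensorProduct.includeRight h : p.Fiber S) =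
      algebraMap p.ResidueField (p.Fiber S) (algebraMap R p.ResidueField c) * z := by
    rw [← IsScalarTower.algebraMap_apply, ← Algebra.smul_def, hh]
    rfl
  have hu : IsUnit (algebraMap p.ResidueField (p.Fiber S) (algebraMap R p.ResidueField c)) :=
    (isUnit_iff_ne_zero.2 fun h' => hc (Ideal.algebraMap_residueField_eq_zero.1 h')).map _
  have hhq : h ∉ q := by
    intro hmem
    rw [← hQ] at hmem
    change (Algebra.TensorProduct.includeRight h : p.Fiber S) ∈ Q.asIdeal at hmem
    rw [hassoc, Ideal.unit_mul_mem_iff_mem _ hu] at hmem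
    exact hz hmem
  have hd := QFChart.fibre_dim_le p h n U hUn (fun x hx => hzU (fun hzx => hx (by
    show (Algebra.TensorProduct.includeRight h : p.Fiber S) ∈ x.asIdeal
    rw [hassoc]
    exact Ideal.mul_mem_left _ _ hzx)))
  let T := Localization.Away h
  have : Algebra.FiniteType R T :=
    Algebra.FiniteType.trans (S := S) ‹_› (IsLocalization.finiteType_of_monoid_fg (Submonoid.powers h) T)
  have hunit : ∀ y : Submonoid.powers h, IsUnit (IsScalarTower.toAlgHom R S q.ResidueField y) := by
    rintro ⟨_, N, rfl⟩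
    rw [map_pow]
    exact (isUnit_iff_ne_zero.2 fun h' => hhq (Ideal.algebraMap_residueField_eq_zero.1 h')).pow N
  let gT : T →ₐ[R] q.ResidueField := IsLocalization.liftAlgHom hunit
  have hgT : ∀ s, gT (algebraMap S T s) = algebraMap S q.ResidueField s := fun s =>
    IsLocalization.lift_eq _ s
  let θ : p.Fiber T →ₐ[p.ResidueField] q.ResidueField :=
    Algebra.TensorProduct.lift (Algebra.ofId p.ResidueField q.ResidueField) gT fun _ _ => Commute.all _ _
  have hθ : ∀ x : T, θ (Algebra.TensorProduct.includeRight x) = gT x := fun x =>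
    (Algebra.TensorProduct.lift_tmul _ _ _ _ _).trans (by rw [map_one, one_mul])
  obtain ⟨v, r', hv, hker, htr⟩ := exists_adapted_coords p θ n hd
  obtain rfl : r' = r := by
    have hgen : ∀ x : q.ResidueField, ∃ a b : p.Fiber T, x = θ a / θ b := fun x => by
      obtain ⟨a, b, rfl⟩ := residueField_div q x
      exact ⟨Algebra.TensorProduct.includeRight (algebraMap S T a),
        Algebra.TensorProduct.includeRight (algebraMap S T b), by rw [hθ, hθ, hgT, hgT]⟩
    rw [trdeg_quotient_ker θ hgen, hr] at htr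
    exact_mod_cast htr.symm
  obtain ⟨g, hg, j, hj, hft, hqf⟩ := chart_of_coords p q h hhq v hv
  refine ⟨g, hg, _, hft, hqf, ?_⟩
  let θg : Localization.Away g →+* q.ResidueField :=
    IsLocalization.Away.lift g (g := algebraMap S q.ResidueField)
      (isUnit_iff_ne_zero.2 fun h' => hg (Ideal.algebraMap_residueField_eq_zero.1 h'))
  have hθg : ∀ s, θg (algebraMap S _ s) = algebraMap S q.ResidueField s := fun s =>
    IsLocalization.Away.lift_eq _ _ _
  have hjT : θg.comp j.toRingHom = gT.toRingHom := by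
    refine IsLocalization.ringHom_ext (Submonoid.powers h) (RingHom.ext fun s => ?_)
    show θg (j (algebraMap S T s)) = gT (algebraMap S T s)
    rw [hj, hθg, hgT]
  rw [← comap_map_tailVars p n r']
  ext x
  show j (aeval v x) ∈ q.map (algebraMap S (Localization.Away g)) ↔ MvPolynomial.map (algebraMap R p.ResidueField) x ∈ tailVars _ n r'
  rw [← eq_zero_iff_mem_map (g := g) θg hθg, ← hker, fibreMap_map, hθ]
  exact Eq.congr_left (DFunLike.congr_fun hjT (aeval v x))

end Groth.Agent.CAlgH.QFChartRefined
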