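import Groth.Agent.FlatMorSlice.Slice
import Mathlib.RingTheory.Finiteness.FinitePresentationLocal
import Mathlib.RingTheory.Spectrum.Prime.Chevalley
import Mathlib.RingTheory.Flat.FaithfullyFlat.Algebra

/-!
# Quasi-finite faithfully flat refinements of faithfully flat finitely presented algebras
-/

universe u

set_option autoImplicit false

open TensorProduct

namespace Groth.Agent.CAlgH.QuasiFiniteSection

variable {R : Type u} [CommRing R] {ι : Type u} [Finite ι] (C : ι → Type u) [∀ i, CommRing (C i)]
  [∀ i, Algebra R (C i)]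

theorem flat_pi [∀ i, Module.Flat R (C i)] : Module.Flat R (∀ i, C i) := by
  classical
  have := Fintype.ofFinite ι
  exact Module.Flat.of_linearEquiv (DFinsupp.linearEquivFunOnFintype (R := R) (M := C)).symm

theorem quasiFinite_pi [∀ i, Algebra.QuasiFinite R (C i)] : Algebra.QuasiFinite R (∀ i, C i) := by
  classical
  have := Fintype.ofFinite ι
  refine ⟨fun P _ => ?_⟩
  exact Module.Finite.equiv (Algebra.TensorProduct.piRight R P.ResidueField P.ResidueField C).symm.toLinearEquiv

theorem finitePresentation_pi [∀ i, Algebra.FinitePresentation R (C i)] :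
    Algebra.FinitePresentation R (∀ i, C i) := by
  classical
  have := Fintype.ofFinite ι
  let _ : ∀ i, Algebra (∀ i, C i) (C i) := fun i => (Pi.evalRingHom C i).toAlgebra
  have : ∀ i, IsScalarTower R (∀ i, C i) (C i) := fun i => .of_algebraMap_eq fun r => rfl
  have hloc : ∀ i, IsLocalization.Away (Pi.single i 1 : ∀ i, C i) (C i) := fun i => by
    refine IsLocalization.away_of_isIdempotentElem ?_ ?_ (fun x => ⟨Pi.single i x, ?_⟩)
    · show Pi.single i 1 * Pi.single i 1 = Pi.single i (1 : C i)
      rw [← Pi.single_mul, mul_one]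
    · ext x
      rw [RingHom.mem_ker, Ideal.mem_span_singleton]
      refine ⟨fun h => ⟨x, ?_⟩, fun ⟨y, hy⟩ => ?_⟩
      · ext j
        rcases eq_or_ne j i with rfl | hj
        · have : x j = 0 := h
          simp [this]
        · simp [Pi.single_eq_of_ne hj]
      · show x i = 0
        simp [hy]
    · show (Pi.single i x : ∀ i, C i) i = x
      simp
  refine Algebra.FinitePresentation.of_span_eq_top_target_of_isLocalizationAway
    (fun i => (Pi.single i 1 : ∀ i, C i)) ?_ C
  rw [Ideal.eq_top_iff_one, show (1 : ∀ i, C i) = ∑ i, Pi.single i 1 from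
    (Finset.univ_sum_single (1 : ∀ i, C i)).symm]
  exact Ideal.sum_mem _ fun i _ => Ideal.subset_span ⟨i, rfl⟩

/-- A faithfully flat finitely presented algebra is refined by a quasi-finite one. -/
theorem exists_quasiFinite_refinement (R : Type u) [CommRing R] (S : Type u) [CommRing S]
    [Algebra R S] [Module.FaithfullyFlat R S] [Algebra.FinitePresentation R S] :
    ∃ (S' : Type u) (_ : CommRing S') (_ : Algebra R S'),
      Algebra.QuasiFinite R S' ∧ Algebra.FiniteType R S' ∧ Module.FaithfullyFlat R S' ∧
        Algebra.FinitePresentation R S' ∧ Nonempty (S →ₐ[R] S') := by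
  classical
  have H : ∀ p : PrimeSpectrum R, ∃ (C : Type u) (_ : CommRing C) (_ : Algebra R C) (_ : S →ₐ[R] C),
      Algebra.FinitePresentation R C ∧ Module.Flat R C ∧ Algebra.QuasiFinite R C ∧
        p ∈ Set.range (PrimeSpectrum.comap (algebraMap R C)) := fun p => by
    obtain ⟨q, hq⟩ := PrimeSpectrum.comap_surjective_of_faithfullyFlat (B := S) p
    obtain ⟨C, _, _, χ, h₁, h₂, h₃, q', hq', hq'p⟩ := FlatMorSlice.exists_slice (A := R) q.asIdeal
    exact ⟨C, inferInstance, inferInstance, χ, h₁, h₂, h₃, ⟨q', hq'⟩,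
      (PrimeSpectrum.ext hq'p).trans hq⟩
  choose C hC₁ hC₂ χ hfp hfl hqf hmem using H
  have hopen : ∀ p, IsOpen (Set.range (PrimeSpectrum.comap (algebraMap R (C p)))) := fun p =>
    (PrimeSpectrum.isOpenMap_comap_of_hasGoingDown_of_finitePresentation (R := R)
      (S := C p)).isOpen_range
  obtain ⟨t, ht⟩ := isCompact_univ.elim_finite_subcover _ hopen
    fun p _ => Set.mem_iUnion.2 ⟨p, hmem p⟩
  have := flat_pi (R := R) fun p : t => C p
  have := quasiFinite_pi (R := R) fun p : t => C p
  have := finitePresentation_pi (R := R) fun p : t => C p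
  have : Module.FaithfullyFlat R (∀ p : t, C p) := by
    refine Module.FaithfullyFlat.of_comap_surjective fun p => ?_
    obtain ⟨j, hj, q, hq⟩ : ∃ j ∈ t, p ∈ Set.range (PrimeSpectrum.comap (algebraMap R (C j))) := by
      simpa using ht (Set.mem_univ p)
    exact ⟨PrimeSpectrum.comap (Pi.evalRingHom (fun p : t => C p) ⟨j, hj⟩) q, hq⟩
  exact ⟨∀ p : t, C p, inferInstance, inferInstance, inferInstance, inferInstance, inferInstance,
    inferInstance, ⟨AlgHom.pi fun p : t => χ p⟩⟩

end Groth.Agent.CAlgH.QuasiFiniteSection
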