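import Groth.Agent.CAlgH.SyntomicCut
import Groth.Agent.EGA41Lib.QuasiRegular
import Groth.Agent.Nrm16Lib.RegImm
import Mathlib

/-!
# Quotients by lifts of relatively quasi-regular sequences along nilpotent ideals are flat
-/

set_option autoImplicit false

universe u

open MvPolynomial RingTheory.Sequence

namespace Groth.Agent.CAlgH.QuasiRegularThickening

variable {B : Type u} [CommRing B]

/-- Elements of `a · (f)^n` are values of forms with coefficients in `a`. -/
theorem exists_eval_mem_mul {r : ℕ} (f : Fin r → B) (a : Ideal B) {n : ℕ} {x : B}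
    (hx : x ∈ a * Ideal.span (Set.range f) ^ n) :
    ∃ F : MvPolynomial (Fin r) B, F.IsHomogeneous n ∧ eval f F = x ∧ ∀ d, F.coeff d ∈ a := by
  refine Submodule.mul_induction_on hx (fun u hu v hv => ?_) (fun u v hu hv => ?_)
  ·
    obtain ⟨G, hG, rfl⟩ := QReg6.exists_homogeneous_eval f hv
    refine ⟨C u * G, hG.C_mul u, by rw [map_mul, eval_C], fun d => ?_⟩
    rw [coeff_C_mul]
    exact Ideal.mul_mem_right _ _ hu
  · obtain ⟨F, hF, rfl, hFc⟩ := hu
    obtain ⟨G, hG, rfl, hGc⟩ := hv
    exact ⟨F + G, hF.add hG, map_add _ _ _, fun d => by rw [coeff_add]; exact add_mem (hFc d) (hGc d)⟩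

/-- Values of forms with coefficients in an ideal. -/
theorem eval_mem_mul {r : ℕ} (f : Fin r → B) (a : Ideal B) {n : ℕ} {F : MvPolynomial (Fin r) B}
    (hF : F.IsHomogeneous n) (hc : ∀ d, F.coeff d ∈ a) : eval f F ∈ a * Ideal.span (Set.range f) ^ n := by
  classical
  rw [eval_eq]
  refine Submodule.sum_mem _ fun d hd => Ideal.mul_mem_mul (hc d) ?_
  have hdeg : ∑ i ∈ d.support, d i = n := by
    have := hF (mem_support_iff.1 hd)
    change Finsupp.weight (fun _ => 1) d = n at this
    rw [← Finsupp.degree_eq_weight_one] at this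
    exact this
  rw [← hdeg, ← Finset.prod_pow_eq_pow_sum]
  exact Ideal.prod_mem_prod fun i _ => Ideal.pow_mem_pow (Ideal.subset_span (Set.mem_range_self i)) _

/-- Quasi-regularity modulo an ideal, in terms of representatives. -/
theorem coeff_mem_of_isQuasiRegular (J : Ideal B) {r : ℕ} (f : Fin r → B)
    (hq : CAlgX.IsQuasiRegular fun i => Ideal.Quotient.mk J (f i))
    {n : ℕ} {P : MvPolynomial (Fin r) B} (hP : P.IsHomogeneous n)
    (he : eval f P ∈ Ideal.span (Set.range f) ^ (n + 1) ⊔ J) (d : Fin r →₀ ℕ) :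
    P.coeff d ∈ Ideal.span (Set.range f) ⊔ J := by
  have hspan : Ideal.span (Set.range fun i => Ideal.Quotient.mk J (f i)) =
      (Ideal.span (Set.range f)).map (Ideal.Quotient.mk J) := by
    rw [Ideal.map_span]
    exact congrArg Ideal.span (Set.range_comp _ _)
  have h1 := hq n (P.map (Ideal.Quotient.mk J)) (hP.map _) (by
    have h2 := Ideal.mem_map_of_mem (Ideal.Quotient.mk J) he
    rw [Ideal.map_sup, Ideal.map_quotient_self, sup_bot_eq, Ideal.map_pow, ← hspan] at h2
    rw [eval_map]
    change eval₂ (Ideal.Quotient.mk J) (Ideal.Quotient.mk J ∘ f) P ∈ _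
    rw [← MvPolynomial.eval₂_comp]
    exact h2) d
  rw [coeff_map, hspan, Ideal.mem_quotient_iff_mem_sup] at h1
  exact h1

variable {A : Type u} [CommRing A] [Algebra A B]

/-- Powers of a relatively quasi-regular ideal meet `aB` in `a` times themselves. -/
theorem mem_mul_pow (J a : Ideal B) {r : ℕ} (f : Fin r → B) (hJa : J ≤ a)
    (hq : CAlgX.IsQuasiRegular fun i => Ideal.Quotient.mk J (f i))
    (hflat : ∀ x ∈ a, x ∈ Ideal.span (Set.range f) ⊔ J → x ∈ a * Ideal.span (Set.range f) ⊔ J) :
    ∀ (n : ℕ) (x : B), x ∈ Ideal.span (Set.range f) ^ n → x ∈ a →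
      x ∈ a * Ideal.span (Set.range f) ^ n ⊔ J := by
  intro n
  induction n with
  | zero => intro x _ hx; simpa using Ideal.mem_sup_left hx
  | succ n ih =>
    intro x hx hxa
    obtain ⟨y, hy, j, hj, rfl⟩ := Submodule.mem_sup.1 (ih x (Ideal.pow_le_pow_right n.le_succ hx) hxa)
    obtain ⟨F, hF, rfl, hFc⟩ := exists_eval_mem_mul f a hy
    have hc : ∀ d, F.coeff d ∈ a * Ideal.span (Set.range f) ⊔ J := fun d =>
      hflat _ (hFc d) (coeff_mem_of_isQuasiRegular J f hq hF (by
        rw [← add_sub_cancel_right (eval f F) j]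
        exact sub_mem (Ideal.mem_sup_left hx) (Ideal.mem_sup_right hj)) d)
    refine add_mem ?_ (Ideal.mem_sup_right hj)
    have h1 := eval_mem_mul f _ hF hc
    rw [Ideal.sup_mul, mul_assoc, ← pow_succ'] at h1
    have h2 : a * Ideal.span (Set.range f) ^ (n + 1) ⊔ J * Ideal.span (Set.range f) ^ n ≤
        a * Ideal.span (Set.range f) ^ (n + 1) ⊔ J := sup_le le_sup_left (Ideal.mul_le_left.trans le_sup_right)
    exact h2 h1

/-- Relative quasi-regularity survives a base change of the parameters. -/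
theorem isQuasiRegular_quotient (J a : Ideal B) {r : ℕ} (f : Fin r → B) (hJa : J ≤ a)
    (hq : CAlgX.IsQuasiRegular fun i => Ideal.Quotient.mk J (f i))
    (hflat : ∀ x ∈ a, x ∈ Ideal.span (Set.range f) ⊔ J → x ∈ a * Ideal.span (Set.range f) ⊔ J) :
    CAlgX.IsQuasiRegular fun i => Ideal.Quotient.mk a (f i) := by
  classical
  refine QReg6.isQuasiRegular_of_eval_eq_zero fun n P hP he d => ?_
  have hcs : ∀ d, ∃ b : B, Ideal.Quotient.mk a b = P.coeff d := fun d => Ideal.Quotient.mk_surjective _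
  choose b hb using hcs
  let P' : MvPolynomial (Fin r) B := ∑ d ∈ P.support, monomial d (b d)
  have hP' : P'.IsHomogeneous n := IsHomogeneous.sum _ _ _ fun d hd => isHomogeneous_monomial _ (by
    have := hP (mem_support_iff.1 hd)
    rwa [Finsupp.degree_eq_weight_one])
  have hmap : P'.map (Ideal.Quotient.mk a) = P := by
    rw [map_sum]
    simp_rw [map_monomial, hb]
    exact P.support_sum_monomial_coeff
  have hea : eval f P' ∈ a := by
    rw [← Ideal.Quotient.eq_zero_iff_mem]
    rw [← hmap, eval_map] at he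
    change eval₂ (Ideal.Quotient.mk a) (Ideal.Quotient.mk a ∘ f) P' = 0 at he
    rwa [← MvPolynomial.eval₂_comp] at he
  have hen : eval f P' ∈ Ideal.span (Set.range f) ^ n := by
    have h1 := eval_mem_mul f ⊤ hP' (fun d => Submodule.mem_top)
    exact Ideal.mul_le_right h1
  obtain ⟨y, hy, j, hj, hyj⟩ := Submodule.mem_sup.1 (mem_mul_pow J a f hJa hq hflat n _ hen hea)
  obtain ⟨G, hG, rfl, hGc⟩ := exists_eval_mem_mul f a hy
  have hc := coeff_mem_of_isQuasiRegular J f hq (hP'.sub hG) (by
    rw [map_sub, ← hyj, add_sub_cancel_left]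
    exact Ideal.mem_sup_right hj) d
  rw [coeff_sub] at hc
  have h2 : P'.coeff d ∈ Ideal.span (Set.range f) ⊔ a := by
    have hle : Ideal.span (Set.range f) ⊔ J ≤ Ideal.span (Set.range f) ⊔ a := sup_le le_sup_left (hJa.trans le_sup_right)
    have := add_mem (hle hc) (Ideal.mem_sup_right (hGc d))
    rwa [sub_add_cancel] at this
  rw [← hmap, coeff_map, show Ideal.span (Set.range fun i => Ideal.Quotient.mk a (f i)) =
      (Ideal.span (Set.range f)).map (Ideal.Quotient.mk a) by
    rw [Ideal.map_span]; exact congrArg Ideal.span (Set.range_comp _ _), Ideal.mem_quotient_iff_mem_sup]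
  exact h2

variable [Algebra.FinitePresentation A B] (I : Ideal A) {r : ℕ} (f : Fin r → B)

/-- A relatively quasi-regular sequence with flat quotient is regular on the fibres. -/
theorem fibReg (hI : ∀ x ∈ I, IsNilpotent x)
    (hq : CAlgX.IsQuasiRegular fun i => Ideal.Quotient.mk (I.map (algebraMap A B)) (f i))
    (hflat : Module.Flat (A ⧸ I) ((B ⧸ I.map (algebraMap A B)) ⧸
      Ideal.span (Set.range fun i => Ideal.Quotient.mk (I.map (algebraMap A B)) (f i))))
    (Q : Ideal B) [Q.IsPrime] (hfQ : ∀ i, f i ∈ Q) :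
    FlatMorSlice.FibReg A Q (List.ofFn f) := by
  classical
  let p := Q.comap (algebraMap A B)
  let J := I.map (algebraMap A B)
  let a := p.map (algebraMap A B)
  have hJa : J ≤ a := Ideal.map_mono fun x hx => by
    obtain ⟨k, hk⟩ := hI x hx
    exact Ideal.IsPrime.mem_of_pow_mem inferInstance k (hk ▸ zero_mem _)
  have haQ : a ≤ Q := Ideal.map_comap_le
  let K₀ := Ideal.span (Set.range fun i => Ideal.Quotient.mk J (f i))
  haveI := hflat
  let q : B →ₐ[A] (B ⧸ J) ⧸ K₀ := (Ideal.Quotient.mkₐ A K₀).comp (Ideal.Quotient.mkₐ A J)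
  have hker : RingHom.ker q = Ideal.span (Set.range f) ⊔ J := by
    have h1 : K₀ = (Ideal.span (Set.range f)).map (Ideal.Quotient.mk J) := by
      rw [Ideal.map_span]; exact congrArg Ideal.span (Set.range_comp _ _)
    ext x
    rw [RingHom.mem_ker, show q x = Ideal.Quotient.mk K₀ (Ideal.Quotient.mk J x) from rfl,
      Ideal.Quotient.eq_zero_iff_mem, h1, Ideal.mem_quotient_iff_mem_sup]
  have hfl : ∀ x ∈ a, x ∈ Ideal.span (Set.range f) ⊔ J → x ∈ a * Ideal.span (Set.range f) ⊔ J := fun x hx hx' => by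
    have h1 := SyntomicCut.mem_mul_sup I q (Ideal.Quotient.mk_surjective.comp Ideal.Quotient.mk_surjective) p hx
      (RingHom.mem_ker.1 (hker.ge hx'))
    rw [hker, Ideal.mul_sup, sup_assoc] at h1
    have h2 : a * Ideal.span (Set.range f) ⊔ (a * J ⊔ J) ≤ a * Ideal.span (Set.range f) ⊔ J :=
      sup_le le_sup_left ((sup_le Ideal.mul_le_right le_rfl).trans le_sup_right)
    exact h2 h1
  have hC := isQuasiRegular_quotient J a f hJa hq hfl
  haveI hqB : (Q.map (Ideal.Quotient.mk a)).IsPrime :=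
    Ideal.map_isPrime_of_surjective Ideal.Quotient.mk_surjective (by rw [Ideal.mk_ker]; exact haQ)
  let L := Localization.AtPrime (Q.map (Ideal.Quotient.mk a))
  obtain ⟨e₂⟩ := SyntomicCut.exists_quotient_atPrime (R := A) a Q haQ (Q.map (Ideal.Quotient.mk a)) rfl
  haveI : IsNoetherianRing L := by
    obtain ⟨Q', _, ⟨e⟩⟩ := CommAlg6.exists_fiber_prime (A := A) Q
    haveI : Algebra.EssFiniteType (Q.comap (algebraMap A B)).ResidueField (Localization.AtPrime Q') :=
      Synt15.essFiniteType_atPrime Q'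
    haveI := Algebra.EssFiniteType.isNoetherianRing (Q.comap (algebraMap A B)).ResidueField
      (Localization.AtPrime Q')
    haveI : IsNoetherianRing (EGA4.FibLocRing A B Q) := isNoetherianRing_of_ringEquiv _ e
    haveI : IsNoetherianRing (Localization.AtPrime Q ⧸ a.map (algebraMap B (Localization.AtPrime Q))) :=
      isNoetherianRing_of_ringEquiv _ (Ideal.quotEquivOfEq (show p.map (algebraMap A (Localization.AtPrime Q)) =
        a.map (algebraMap B (Localization.AtPrime Q)) by rw [Ideal.map_map, ← IsScalarTower.algebraMap_eq]))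
    exact isNoetherianRing_of_ringEquiv _ e₂.toRingEquiv
  have hqc : (Q.map (Ideal.Quotient.mk a)).comap (Ideal.Quotient.mk a) = Q := by
    rw [Ideal.comap_map_of_surjective _ Ideal.Quotient.mk_surjective, ← RingHom.ker_eq_comap_bot, Ideal.mk_ker,
      sup_eq_left]
    exact haQ
  let θ : B →+* L := (algebraMap (B ⧸ a) L).comp (Ideal.Quotient.mk a)
  have hreg : IsWeaklyRegular L (List.ofFn (θ ∘ f)) := by
    refine EGA41Lib.isWeaklyRegular_of_isQuasiRegular r L _ (fun i m hm => ?_)
      (Nrm16Lib.isQuasiRegular_localization (Q.map (Ideal.Quotient.mk a)).primeCompl L hC)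
    rw [IsLocalRing.eq_maximalIdeal hm]
    exact (IsLocalization.AtPrime.to_map_mem_maximal_iff L (Q.map (Ideal.Quotient.mk a)) (Ideal.Quotient.mk a (f i))).2 (Ideal.mem_map_of_mem _ (hfQ i))
  rw [← List.map_ofFn, Nrm16Lib.isWeaklyRegular_iff_forall_mem] at hreg
  intro i hi x hx
  obtain ⟨c, hc, hcx⟩ := hx
  have hθ : ∀ (l : List B) (y : B), θ y ∈ Ideal.ofList (l.map θ) ↔
      ∃ c ∉ Q, c * y ∈ a ⊔ Ideal.ofList l := by
    intro l y
    rw [← Ideal.map_ofList, show θ y = algebraMap (B ⧸ a) L (Ideal.Quotient.mk a y) from rfl, ← Ideal.map_map,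
      IsLocalization.algebraMap_mem_map_algebraMap_iff (Q.map (Ideal.Quotient.mk a)).primeCompl]
    constructor
    · rintro ⟨m, hm, hmy⟩
      obtain ⟨c, rfl⟩ := Ideal.Quotient.mk_surjective m
      refine ⟨c, fun h => hm (Ideal.mem_map_of_mem _ h), ?_⟩
      rw [← map_mul, Ideal.mem_quotient_iff_mem_sup] at hmy
      rwa [sup_comm]
    · rintro ⟨c, hc, hcy⟩
      refine ⟨Ideal.Quotient.mk a c, fun h => hc (hqc.le h), ?_⟩
      rw [← map_mul, Ideal.mem_quotient_iff_mem_sup, sup_comm]
      exact hcy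
  have hi' : i < ((List.ofFn f).map θ).length := by simpa using hi
  have h1 := hreg i hi' (θ x) (by
    rw [List.getElem_map, ← map_mul, ← List.map_take]
    exact (hθ _ _).2 ⟨c, hc, hcx⟩)
  rw [← List.map_take] at h1
  exact (hθ _ _).1 h1

/-- The quotient by the lifted sequence is flat. -/
theorem flat_quotient [Module.Flat A B] (hI : ∀ x ∈ I, IsNilpotent x)
    (hq : CAlgX.IsQuasiRegular fun i => Ideal.Quotient.mk (I.map (algebraMap A B)) (f i))
    (hflat : Module.Flat (A ⧸ I) ((B ⧸ I.map (algebraMap A B)) ⧸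
      Ideal.span (Set.range fun i => Ideal.Quotient.mk (I.map (algebraMap A B)) (f i)))) :
    Module.Flat A (B ⧸ Ideal.span (Set.range f)) := by
  let K := Ideal.span (Set.range f)
  refine Module.flat_of_isLocalized_maximal (R := A) (S := B ⧸ K) (B ⧸ K) (fun P _ => Localization.AtPrime P)
    (fun P _ => Algebra.linearMap (B ⧸ K) (Localization.AtPrime P)) fun P _ => ?_
  let Q := P.comap (Ideal.Quotient.mk K)
  have hKQ : K ≤ Q := fun x hx => by
    show Ideal.Quotient.mk K x ∈ P
    rw [Ideal.Quotient.eq_zero_iff_mem.2 hx]; exact zero_mem _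
  have hfr := fibReg I f hI hq hflat Q fun i => hKQ (Ideal.subset_span ⟨i, rfl⟩)
  haveI : Module.Flat A (LocalizedModule Q.primeCompl B) := inferInstance
  obtain ⟨c, hc, -, hfl⟩ := FlatMorSlice.exists_regular_sequence (A := A) ⟨Q, inferInstance⟩ inferInstance _ hfr
  have hK : Ideal.ofList (List.ofFn f) = K := congrArg Ideal.span (Set.ext fun x => List.mem_ofFn)
  exact SyntomicCut.flat_atPrime_quotient K Q hKQ P
    (Ideal.map_comap_of_surjective _ Ideal.Quotient.mk_surjective P).symm (List.ofFn f) hK.le 1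
    (fun h => Ideal.IsPrime.one_notMem inferInstance h) (fun x hx => by rw [one_mul]; exact hK.ge hx) (hfl Q hc)

end Groth.Agent.CAlgH.QuasiRegularThickening
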