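import Mathlib

/-! Integral closure in `K(a^{1/p})` is finite when a derivation does not kill `a`. -/

universe u
set_option autoImplicit false

namespace Groth.Agent.CAlgH.RadicalDerivation

open Polynomial

variable {R K : Type u} [CommRing R] [Field K] [Algebra R K]

theorem step (D : Derivation ℤ K K) (A : Subring K) (hD : ∀ z ∈ A, D z ∈ A) (g : K) (hg : g ∈ A) (hg0 : g ≠ 0)
    (n : ℕ) (z : K) (hz : g ^ n * z ∈ A) : g ^ (n + 2) * (D z / g) ∈ A := by
  have h1 : g ^ (n + 2) * (D z / g) = g * D (g ^ n * z) - (n : K) * D g * (g ^ n * z) := by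
    rw [D.leibniz, D.leibniz_pow]
    simp only [smul_eq_mul, nsmul_eq_mul]
    cases n with
    | zero => simp; field_simp
    | succ m => simp only [Nat.add_sub_cancel]; field_simp; ring
  rw [h1]
  exact A.sub_mem (A.mul_mem hg (hD _ hz))
    (A.mul_mem (A.mul_mem (natCast_mem A n) (hD _ hg)) hz)

theorem iter_mem (D : Derivation ℤ K K) (A : Subring K) (hD : ∀ z ∈ A, D z ∈ A) (g : K) (hg : g ∈ A) (hg0 : g ≠ 0)
    (z : K) (hz : z ∈ A) (k : ℕ) : g ^ (2 * k) * ((fun w => D w / g)^[k] z) ∈ A := by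
  induction k with
  | zero => simpa using hz
  | succ k ih =>
    rw [Function.iterate_succ_apply', Nat.mul_succ]
    exact step D A hD g hg hg0 _ _ ih

theorem iter_eq (p : ℕ) [CharP K p] (D : Derivation ℤ K K) (a : K) (ha : D a ≠ 0) (c : ℕ → K) (k : ℕ) :
    (fun w => D w / D a)^[k] (∑ i ∈ Finset.range p, c i ^ p * a ^ i) =
      ∑ i ∈ Finset.range p, c i ^ p * (i.descFactorial k : K) * a ^ (i - k) := by
  induction k with
  | zero => simp
  | succ k ih =>
    rw [Function.iterate_succ_apply', ih, map_sum, Finset.sum_div]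
    refine Finset.sum_congr rfl fun i _ => ?_
    have h0 : D (c i ^ p * (i.descFactorial k : K)) = 0 := by
      rw [D.leibniz, D.map_natCast, D.leibniz_pow, nsmul_eq_mul, CharP.cast_eq_zero K p]
      simp
    rw [D.leibniz, h0, smul_zero, add_zero, D.leibniz_pow, Nat.descFactorial_succ, ← Nat.sub_sub]
    simp only [smul_eq_mul, nsmul_eq_mul, Nat.cast_mul]
    field_simp

theorem coeff_mem (p : ℕ) [Fact p.Prime] [CharP K p] (D : Derivation ℤ K K) (A : Subring K)
    (hD : ∀ z ∈ A, D z ∈ A) (a : K) (haA : a ∈ A) (ha : D a ≠ 0) (c : ℕ → K)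
    (h : ∑ i ∈ Finset.range p, c i ^ p * a ^ i ∈ A) :
    ∀ k < p, D a ^ (2 * p) * c k ^ p ∈ A := by
  suffices ∀ j k, k < p → p ≤ k + j → D a ^ (2 * p) * c k ^ p ∈ A from fun k hk => this p k hk (by omega)
  intro j
  induction j with
  | zero => intro k hk hk2; omega
  | succ j ih =>
    intro k hk hk2
    have h1 : D a ^ (2 * p) * ((fun w => D w / D a)^[k] (∑ i ∈ Finset.range p, c i ^ p * a ^ i)) ∈ A := by
      have := iter_mem D A hD (D a) (hD a haA) ha _ h k
      rw [show 2 * p = 2 * (p - k) + 2 * k by omega, pow_add, mul_assoc]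
      exact A.mul_mem (pow_mem (hD a haA) _) this
    rw [iter_eq p D a ha c k, Finset.mul_sum,
      ← Finset.add_sum_erase _ _ (Finset.mem_range.mpr hk)] at h1
    have hrest : ∑ i ∈ (Finset.range p).erase k,
        D a ^ (2 * p) * (c i ^ p * (i.descFactorial k : K) * a ^ (i - k)) ∈ A := by
      refine A.sum_mem fun i hi => ?_
      obtain ⟨hne, hip⟩ := Finset.mem_erase.mp hi
      rw [Finset.mem_range] at hip
      rcases Nat.lt_or_ge i k with hlt | hge
      · simp [Nat.descFactorial_eq_zero_iff_lt.mpr hlt]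
      · rw [show D a ^ (2 * p) * (c i ^ p * (i.descFactorial k : K) * a ^ (i - k)) =
          D a ^ (2 * p) * c i ^ p * (i.descFactorial k : K) * a ^ (i - k) by ring]
        exact A.mul_mem (A.mul_mem (ih i hip (by omega)) (natCast_mem A _)) (pow_mem haA _)
    have h2 : D a ^ (2 * p) * c k ^ p * (k.factorial : K) ∈ A := by
      have := A.sub_mem h1 hrest
      rw [add_sub_cancel_right, Nat.descFactorial_self, Nat.sub_self, pow_zero, mul_one, ← mul_assoc] at this
      exact this
    have hp : p.Prime := Fact.out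
    have hcop : Nat.Coprime k.factorial p :=
      ((Nat.Prime.coprime_iff_not_dvd hp).mpr fun hd => absurd (hp.dvd_factorial.mp hd) (by omega)).symm
    obtain ⟨m, -, hm⟩ := Nat.exists_mul_mod_eq_one_of_coprime hcop hp.one_lt
    have hm' : (k.factorial : K) * (m : K) = 1 := by
      rw [← Nat.cast_mul, CharP.natCast_eq_natCast_mod K p, hm, Nat.cast_one]
    have := A.mul_mem h2 (natCast_mem A m)
    rwa [mul_assoc, hm', mul_one] at this

theorem finite [IsDomain R] [IsNoetherianRing R] [IsIntegrallyClosed R] [IsFractionRing R K]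
    (p : ℕ) [Fact p.Prime] [CharP K p] (D : Derivation ℤ K K)
    (hD : ∀ r : R, ∃ s : R, D (algebraMap R K r) = algebraMap R K s) (a : K) (haA : a ∈ (algebraMap R K).range)
    (ha : D a ≠ 0)
    (L : Type u) [Field L] [Algebra K L] [Algebra R L] [IsScalarTower R K L] (x : L)
    (hx : x ^ p = algebraMap K L a)
    (hspan : ∀ y : L, ∃ c : ℕ → K, y = ∑ i ∈ Finset.range p, algebraMap K L (c i) * x ^ i) :
    Module.Finite R (integralClosure R L) := by
  have hp : p.Prime := Fact.out
  haveI : CharP L p := charP_of_injective_ringHom (algebraMap K L).injective p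
  have hA : ∀ z ∈ (algebraMap R K).range, D z ∈ (algebraMap R K).range := by
    rintro _ ⟨r, rfl⟩
    obtain ⟨s, hs⟩ := hD r
    exact ⟨s, hs.symm⟩
  obtain ⟨gR, hgR⟩ := hA a haA
  let M : Submodule R L := Submodule.span R ((fun i => x ^ i) '' (Finset.range p : Set ℕ))
  haveI : Module.Finite R M := Module.Finite.iff_fg.mpr
    (Submodule.fg_span ((Finset.range p).finite_toSet.image _))
  have key : ∀ y : integralClosure R L, gR ^ 2 • (y : L) ∈ M := by
    intro y
    obtain ⟨c, hc⟩ := hspan y
    have hyp : (y : L) ^ p = algebraMap K L (∑ i ∈ Finset.range p, c i ^ p * a ^ i) := by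
      rw [hc, sum_pow_char p, map_sum]
      refine Finset.sum_congr rfl fun i _ => ?_
      rw [mul_pow, map_mul, map_pow, map_pow, ← pow_mul, mul_comm i p, pow_mul, hx]
    have hi : IsIntegral R (∑ i ∈ Finset.range p, c i ^ p * a ^ i) := by
      have := (y.2 : IsIntegral R (y : L)).pow p
      rw [hyp] at this
      exact (isIntegral_algebraMap_iff (algebraMap K L).injective).mp this
    have hmem : ∑ i ∈ Finset.range p, c i ^ p * a ^ i ∈ (algebraMap R K).range := by
      obtain ⟨r, hr⟩ := (IsIntegrallyClosed.isIntegral_iff).mp hi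
      exact ⟨r, hr⟩
    rw [hc, Finset.smul_sum]
    refine Submodule.sum_mem _ fun i hi' => ?_
    obtain ⟨r, hr⟩ := coeff_mem p D _ hA a haA ha c hmem i (Finset.mem_range.mp hi')
    have hint : IsIntegral R (D a ^ 2 * c i) := by
      refine IsIntegral.of_pow hp.pos ?_
      rw [mul_pow, ← pow_mul, ← hr]
      exact isIntegral_algebraMap
    obtain ⟨t, ht⟩ := (IsIntegrallyClosed.isIntegral_iff).mp hint
    have heq : gR ^ 2 • (algebraMap K L (c i) * x ^ i) = t • x ^ i := by
      rw [Algebra.smul_def, Algebra.smul_def, IsScalarTower.algebraMap_apply R K L,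
        IsScalarTower.algebraMap_apply R K L t, ht, map_pow, hgR, map_mul, mul_assoc]
    rw [heq]
    exact Submodule.smul_mem _ _ (Submodule.subset_span ⟨i, Finset.mem_coe.mpr hi', rfl⟩)
  let φ : integralClosure R L →ₗ[R] M :=
    LinearMap.codRestrict M ((gR ^ 2) • (integralClosure R L).val.toLinearMap) key
  refine Module.Finite.of_injective φ fun y z h => Subtype.ext ?_
  have h' : gR ^ 2 • (y : L) = gR ^ 2 • (z : L) := congrArg Subtype.val h
  rw [Algebra.smul_def, Algebra.smul_def] at h'
  refine mul_left_cancel₀ ?_ h'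
  rw [IsScalarTower.algebraMap_apply R K L, map_pow, hgR]
  exact (_root_.map_ne_zero _).mpr (pow_ne_zero _ ha)

theorem span_of_adjoin {L : Type u} [Field L] [Algebra K L] (p : ℕ) (hp : 0 < p) (a : K) (x : L)
    (hx : x ^ p = algebraMap K L a) (hgen : IntermediateField.adjoin K {x} = ⊤) (y : L) :
    ∃ c : ℕ → K, y = ∑ i ∈ Finset.range p, algebraMap K L (c i) * x ^ i := by
  have halg : IsIntegral K x := IsIntegral.of_pow hp (hx ▸ isIntegral_algebraMap)
  have hy : y ∈ Algebra.adjoin K {x} := by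
    rw [← IntermediateField.adjoin_simple_toSubalgebra_of_isAlgebraic halg.isAlgebraic, hgen]
    trivial
  rw [Algebra.adjoin_singleton_eq_range_aeval] at hy
  obtain ⟨f, rfl⟩ := hy
  let q : K[X] := X ^ p - C a
  have hq : q.Monic := monic_X_pow_sub_C a hp.ne'
  have hdeg : (f %ₘ q).natDegree < p := by
    have h := natDegree_modByMonic_lt f hq (fun h => by simpa [q, hp.ne'] using congrArg natDegree h)
    simpa [q, natDegree_X_pow_sub_C] using h
  refine ⟨fun i => (f %ₘ q).coeff i, ?_⟩
  rw [AlgHom.toRingHom_eq_coe, RingHom.coe_coe]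
  conv_lhs => rw [← modByMonic_add_div f q, map_add, map_mul]
  rw [show aeval x q = 0 by simp [q, hx], zero_mul, add_zero, aeval_eq_sum_range' hdeg]
  simp [Algebra.smul_def]

theorem finite_radical [IsDomain R] [IsNoetherianRing R] [IsIntegrallyClosed R] [IsFractionRing R K]
    (p : ℕ) [Fact p.Prime] [CharP K p] (D : Derivation ℤ K K)
    (hD : ∀ r : R, ∃ s : R, D (algebraMap R K r) = algebraMap R K s) (a : K) (ha : D a ≠ 0)
    (L : Type u) [Field L] [Algebra K L] [Algebra R L] [IsScalarTower R K L] (x : L)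
    (hx : x ^ p = algebraMap K L a) (hgen : IntermediateField.adjoin K {x} = ⊤) :
    Module.Finite R (integralClosure R L) := by
  have hp : p.Prime := Fact.out
  obtain ⟨n, d, hd, hnd⟩ := IsFractionRing.div_surjective (A := R) a
  have hd0 : algebraMap R K d ≠ 0 := IsFractionRing.to_map_ne_zero_of_mem_nonZeroDivisors hd
  let dK := algebraMap R K d
  refine finite p D hD (dK ^ p * a) ?_ ?_ L (algebraMap K L dK * x) ?_ fun y => ?_
  · refine ⟨d ^ (p - 1) * n, ?_⟩
    rw [← hnd, map_mul, map_pow]
    show dK ^ (p - 1) * _ = dK ^ p * _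
    rw [← Nat.sub_add_cancel hp.one_le, pow_succ, Nat.add_sub_cancel]
    field_simp
    rfl
  · rw [D.leibniz, D.leibniz_pow, nsmul_eq_mul, CharP.cast_eq_zero K p]
    simp [hd0, ha, dK]
  · rw [mul_pow, hx, map_mul, map_pow]
  · obtain ⟨c, hc⟩ := span_of_adjoin p hp.pos a x hx hgen y
    refine ⟨fun i => c i / dK ^ i, hc.trans (Finset.sum_congr rfl fun i _ => ?_)⟩
    rw [mul_pow, ← mul_assoc, ← map_pow, ← map_mul, div_mul_cancel₀ _ (pow_ne_zero _ hd0)]

end Groth.Agent.CAlgH.RadicalDerivation
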