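import Groth.Agent.CAlgH.CIImmersion
import Groth.Agent.CAlgH.CIPresentation
import Groth.Agent.CAlgH3.RegularCore
import Groth.Agent.CAlgH.KoszulH1
import Groth.Agent.FlatMorKoszul.RegularLCI
import Mathlib

/-! Regular immersions at a point of a locally Noetherian scheme, through the stalks. -/

set_option autoImplicit false
set_option linter.style.haveILetI false
set_option backward.isDefEq.respectTransparency false
universe u

open CategoryTheory AlgebraicGeometry IsLocalRing RingTheory.Sequence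
open scoped Pointwise

namespace Groth.Agent.CAlgH.RegImmLocal

section Algebra

theorem ofList_ofFn' {R : Type u} [CommRing R] {n : ℕ} (f : Fin n → R) :
    Ideal.ofList (List.ofFn f) = Ideal.span (Set.range f) :=
  congrArg Ideal.span (Set.ext fun x => List.mem_ofFn)

variable {A : Type u} [CommRing A] [IsLocalRing A] [IsNoetherianRing A]

/-- Generating families of the same size as a regular sequence are regular. -/
theorem isWeaklyRegular_of_span {n : ℕ} {f g : Fin n → A} (hg : IsWeaklyRegular A (List.ofFn g))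
    (h : Ideal.span (Set.range f) = Ideal.span (Set.range g)) (hm : ∀ i, f i ∈ maximalIdeal A) :
    IsWeaklyRegular A (List.ofFn f) :=
  KoszulH1.isWeaklyRegular_of_kreg (fun i => IsLocalRing.maximalIdeal_le_jacobson _ (hm i))
    (KoszulRegular.kreg_of_span_eq (KoszulH1.kreg_of_isWeaklyRegular hg) h)

omit [IsNoetherianRing A] in
/-- An element outside `m I` replaces one of the generators. -/
theorem exists_exchange {k : ℕ} (g : Fin (k + 1) → A) {b : A} (hb : b ∈ Ideal.span (Set.range g))
    (hb' : b ∉ maximalIdeal A * Ideal.span (Set.range g)) :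
    ∃ h : Fin k → A, Ideal.span (insert b (Set.range h)) = Ideal.span (Set.range g) := by
  classical
  obtain ⟨c, hc⟩ := Ideal.mem_span_range_iff_exists_fun.1 hb
  obtain ⟨i₀, hi₀⟩ : ∃ i, IsUnit (c i) := by
    by_contra hall
    push Not at hall
    exact hb' (hc ▸ Ideal.sum_mem _ fun i _ =>
      Ideal.mul_mem_mul ((mem_maximalIdeal _).2 (hall i)) (Ideal.subset_span ⟨i, rfl⟩))
  refine ⟨g ∘ i₀.succAbove, le_antisymm (Ideal.span_le.2 ?_) (Ideal.span_le.2 ?_)⟩
  · rintro x (rfl | ⟨i, rfl⟩)
    · exact hb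
    · exact Ideal.subset_span ⟨_, rfl⟩
  · rintro _ ⟨i, rfl⟩
    rcases Fin.eq_self_or_eq_succAbove i₀ i with rfl | ⟨j, rfl⟩
    · rw [SetLike.mem_coe, ← Ideal.unit_mul_mem_iff_mem _ hi₀]
      rw [show c i * g i = b - ∑ j, c (i.succAbove j) * g (i.succAbove j) by
        rw [← hc, Fin.sum_univ_succAbove _ i]; ring]
      exact Ideal.sub_mem _ (Ideal.subset_span (Set.mem_insert _ _)) (Ideal.sum_mem _ fun j _ =>
        Ideal.mul_mem_left _ _ (Ideal.subset_span (Set.mem_insert_of_mem _ ⟨j, rfl⟩)))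
    · exact Ideal.subset_span (Set.mem_insert_of_mem _ ⟨j, rfl⟩)

omit [IsNoetherianRing A] in
theorem isRegular_of_mem_maximal {rs : List A} (h : IsWeaklyRegular A rs) (hm : ∀ r ∈ rs, r ∈ maximalIdeal A) :
    IsRegular A rs := by
  refine ⟨h, fun htop => (IsLocalRing.maximalIdeal.isMaximal A).ne_top (top_le_iff.1 ?_)⟩
  rw [smul_eq_mul, Ideal.mul_top] at htop
  exact htop.le.trans (Ideal.span_le.2 hm)

omit [IsLocalRing A] [IsNoetherianRing A] in
/-- `(A/P)/b (A/P) = A/(P + (b))`. -/
noncomputable def quotSMulTopEquiv (P : Ideal A) (b : A) :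
    QuotSMulTop b (A ⧸ P) ≃ₗ[A] A ⧸ (P ⊔ Ideal.span {b}) :=
  LinearEquiv.symm <| (Submodule.quotEquivOfEq _ _ (by
    ext a
    rw [LinearMap.mem_ker, LinearMap.comp_apply, Submodule.mkQ_apply, Submodule.Quotient.mk_eq_zero,
      Submodule.mem_smul_pointwise_iff_exists]
    constructor
    · intro ha
      obtain ⟨p, hp, y, hy, rfl⟩ := Submodule.mem_sup.1 ha
      obtain ⟨z, rfl⟩ := Ideal.mem_span_singleton'.1 hy
      refine ⟨(Ideal.Quotient.mkₐ A P).toLinearMap z, Submodule.mem_top, ?_⟩
      rw [← map_smul, smul_eq_mul, map_add, mul_comm b z]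
      rw [show (Ideal.Quotient.mkₐ A P).toLinearMap p = 0 from Ideal.Quotient.eq_zero_iff_mem.2 hp, zero_add]
    · rintro ⟨y, -, hy⟩
      obtain ⟨z, rfl⟩ := Ideal.Quotient.mk_surjective y
      refine Submodule.mem_sup.2 ⟨a - z * b, ?_, z * b, Ideal.mem_span_singleton'.2 ⟨z, rfl⟩, sub_add_cancel _ _⟩
      refine Ideal.Quotient.eq.1 ?_
      rw [map_mul, mul_comm, ← Ideal.Quotient.algebraMap_eq, ← Algebra.smul_def]
      exact hy.symm)).trans
    (((Submodule.mkQ (b • (⊤ : Submodule A (A ⧸ P)))).comp (Ideal.Quotient.mkₐ A P).toLinearMap).quotKerEquivOfSurjective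
      ((Submodule.mkQ_surjective _).comp Ideal.Quotient.mk_surjective))

omit [IsLocalRing A] [IsNoetherianRing A] in
theorem mem_of_smul_regular (P : Ideal A) (b : A) (hb : IsSMulRegular (A ⧸ P) b) {a : A} (h : b * a ∈ P) :
    a ∈ P := by
  rw [← Ideal.Quotient.eq_zero_iff_mem]
  refine hb ?_
  show b • Ideal.Quotient.mk P a = b • (0 : A ⧸ P)
  rw [smul_zero, Algebra.smul_def, Ideal.Quotient.algebraMap_eq, ← map_mul]
  exact Ideal.Quotient.eq_zero_iff_mem.2 h

/-- The induction step of `isRegularIdeal_left`. -/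
theorem isRegularIdeal_left_step (P : Ideal A) (b : A) (hb : IsSMulRegular (A ⧸ P) b)
    (hle : P ⊔ Ideal.span {b} ≤ maximalIdeal A) (hP₁ : CInt.IsRegularIdeal (P ⊔ Ideal.span {b})) :
    CInt.IsRegularIdeal P := by
  have hP : P ≤ maximalIdeal A := le_sup_left.trans hle
  have hb' : b ∉ maximalIdeal A * (P ⊔ Ideal.span {b}) := by
    intro hmem
    rw [Ideal.mul_sup] at hmem
    obtain ⟨p, hp, y, hy, hpy⟩ := Submodule.mem_sup.1 hmem
    obtain ⟨μ, hμ, rfl⟩ := Ideal.mem_mul_span_singleton.1 hy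
    have hu : IsUnit (1 - μ) :=
      (IsLocalRing.isUnit_or_isUnit_one_sub_self μ).resolve_left ((mem_maximalIdeal μ).1 hμ)
    have hbP : b ∈ P := by
      rw [← Ideal.unit_mul_mem_iff_mem _ hu]
      rw [show (1 - μ) * b = p by linear_combination -hpy]
      exact Ideal.mul_le_right hp
    have h1 : (1 : A) ∈ P := mem_of_smul_regular P b hb (by rwa [mul_one])
    exact (IsLocalRing.maximalIdeal.isMaximal A).ne_top ((Ideal.eq_top_iff_one _).2 (hP h1))
  obtain ⟨rs, hrs, hrsI⟩ := hP₁
  have hbmem : b ∈ Ideal.ofList rs := hrsI ▸ Submodule.mem_sup_right (Ideal.mem_span_singleton_self b)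
  obtain ⟨k, hk⟩ : ∃ k, rs.length = k + 1 := by
    refine ⟨rs.length - 1, ?_⟩
    rcases rs with - | ⟨r, rs⟩
    · exfalso
      rw [Ideal.ofList_nil, Ideal.mem_bot] at hbmem
      exact hb' (hbmem ▸ zero_mem _)
    · simp
  let g : Fin (k + 1) → A := fun i => rs.get (i.cast hk.symm)
  have hg : List.ofFn g = rs := by
    refine List.ext_getElem (by simp [hk]) fun i h1 h2 => ?_
    rw [List.getElem_ofFn]; rfl
  have hgs : Ideal.span (Set.range g) = P ⊔ Ideal.span {b} := by
    rw [← hrsI, ← ofList_ofFn', hg]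
  obtain ⟨h', hh'⟩ := exists_exchange g (hgs ▸ Submodule.mem_sup_right (Ideal.mem_span_singleton_self b))
    (hgs ▸ hb')
  have hdec : ∀ i, ∃ p ∈ P, ∃ c, h' i = p + c * b := by
    intro i
    obtain ⟨p, hp, y, hy, hpy⟩ := Submodule.mem_sup.1
      ((hh'.trans hgs).le (Ideal.subset_span (Set.mem_insert_of_mem _ ⟨i, rfl⟩)))
    obtain ⟨c, rfl⟩ := Ideal.mem_span_singleton'.1 hy
    exact ⟨p, hp, c, hpy.symm⟩
  choose p hp c hc using hdec
  have hspan : Ideal.span (Set.range (Fin.snoc p b : Fin (k + 1) → A)) = Ideal.span (Set.range g) := by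
    rw [Fin.range_snoc, ← hh']
    refine le_antisymm (Ideal.span_le.2 ?_) (Ideal.span_le.2 ?_)
    · rintro x (rfl | ⟨i, rfl⟩)
      · exact Ideal.subset_span (Set.mem_insert _ _)
      · rw [SetLike.mem_coe, show p i = h' i - c i * b by rw [hc]; ring]
        exact Ideal.sub_mem _ (Ideal.subset_span (Set.mem_insert_of_mem _ ⟨i, rfl⟩))
          (Ideal.mul_mem_left _ _ (Ideal.subset_span (Set.mem_insert _ _)))
    · rintro x (rfl | ⟨i, rfl⟩)
      · exact Ideal.subset_span (Set.mem_insert _ _)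
      · rw [SetLike.mem_coe, hc]
        exact Ideal.add_mem _ (Ideal.subset_span (Set.mem_insert_of_mem _ ⟨i, rfl⟩))
          (Ideal.mul_mem_left _ _ (Ideal.subset_span (Set.mem_insert _ _)))
  have hreg : IsWeaklyRegular A (List.ofFn (Fin.snoc p b : Fin (k + 1) → A)) :=
    isWeaklyRegular_of_span (g := g) (hg ▸ hrs.toIsWeaklyRegular) hspan fun i =>
      (hspan.trans hgs).le.trans hle (Ideal.subset_span ⟨i, rfl⟩)
  rw [List.ofFn_succ', Fin.snoc_last, List.concat_eq_append, isWeaklyRegular_append_iff] at hreg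
  have hp' : (fun i => (Fin.snoc p b : Fin (k + 1) → A) i.castSucc) = p := funext fun i => Fin.snoc_castSucc ..
  rw [hp'] at hreg
  refine ⟨List.ofFn p, isRegular_of_mem_maximal hreg.1 (fun r hr => ?_), ?_⟩
  · obtain ⟨i, rfl⟩ := List.mem_ofFn.1 hr
    exact hP (hp i)
  · rw [ofList_ofFn']
    refine le_antisymm (Ideal.span_le.2 (Set.range_subset_iff.2 hp)) ?_
    refine Submodule.le_of_le_smul_of_le_jacobson_bot (I := maximalIdeal A) (IsNoetherian.noetherian P)
      (IsLocalRing.maximalIdeal_le_jacobson _) fun x hx => ?_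
    have hx1 : x ∈ Ideal.span (Set.range (Fin.snoc p b : Fin (k + 1) → A)) :=
      (hspan.trans hgs).ge (Submodule.mem_sup_left hx)
    rw [Fin.range_snoc, Ideal.span_insert] at hx1
    obtain ⟨y, hy, z, hz, rfl⟩ := Submodule.mem_sup.1 hx1
    obtain ⟨a, rfl⟩ := Ideal.mem_span_singleton'.1 hy
    have hzP : z ∈ P := (Ideal.span_le.2 (Set.range_subset_iff.2 hp)) hz
    have ha : a ∈ P := mem_of_smul_regular P b hb (by
      rw [mul_comm]; simpa using P.sub_mem hx hzP)
    rw [add_comm]
    refine Submodule.add_mem_sup hz ?_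
    rw [smul_eq_mul, mul_comm a b]
    exact Ideal.mul_mem_mul (hle (Submodule.mem_sup_right (Ideal.mem_span_singleton_self b))) ha

/-- If `I` is a regular ideal, containing `P`, and is cut out modulo `P` by a regular sequence, then `P` is
a regular ideal. -/
theorem isRegularIdeal_left : ∀ (ss : List A) (P : Ideal A), IsRegular (A ⧸ P) ss →
    CInt.IsRegularIdeal (P ⊔ Ideal.ofList ss) → CInt.IsRegularIdeal P
  | [], P, _, h => by rwa [Ideal.ofList_nil, sup_bot_eq] at h
  | b :: ss, P, hss, h => by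
    obtain ⟨hb, hrest⟩ := (isRegular_cons_iff (A ⧸ P) b ss).1 hss
    have hcons : P ⊔ Ideal.ofList (b :: ss) = (P ⊔ Ideal.span {b}) ⊔ Ideal.ofList ss := by
      rw [Ideal.ofList_cons, sup_assoc]
    have hP₁ := isRegularIdeal_left ss (P ⊔ Ideal.span {b})
      (((quotSMulTopEquiv P b).isRegular_congr ss).1 hrest) (hcons ▸ h)
    refine isRegularIdeal_left_step P b hb (le_maximalIdeal fun htop => ?_) hP₁
    refine hss.top_ne_smul (Eq.symm (top_le_iff.1 fun x _ => ?_))
    obtain ⟨x, rfl⟩ := Submodule.Quotient.mk_surjective P x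
    obtain ⟨p, hp, y, hy, hpy⟩ := Submodule.mem_sup.1 (htop.ge (Submodule.mem_top (x := x)))
    have : Submodule.Quotient.mk (p := P) x = y • Submodule.Quotient.mk (1 : A) := by
      rw [← Submodule.Quotient.mk_smul, smul_eq_mul, mul_one]
      exact (Submodule.Quotient.eq _).2 (by rw [← hpy, add_sub_cancel_right]; exact hp)
    rw [this]
    exact Submodule.smul_mem_smul (Ideal.span_mono (by simp) hy) Submodule.mem_top

/-- Concatenation. -/
theorem isRegularIdeal_comp {B : Type u} [CommRing B] (π : A →+* B) (hπ : Function.Surjective π)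
    (J : Ideal B) (hP : CInt.IsRegularIdeal (RingHom.ker π)) (hJ : CInt.IsRegularIdeal J) :
    CInt.IsRegularIdeal (J.comap π) := by
  obtain ⟨rs, hrs, hrsP⟩ := hP
  obtain ⟨ss, hss, rfl⟩ := hJ
  choose σ hσ using hπ
  have hmap : (ss.map σ).map π = ss := by simp [Function.comp_def, hσ]
  letI := π.toAlgebra
  have hker : Ideal.ofList (rs ++ ss.map σ) = (Ideal.ofList ss).comap π := by
    rw [Ideal.ofList_append, hrsP, ← hmap, ← Ideal.map_ofList,
      Ideal.comap_map_of_surjective π (fun b => ⟨σ b, hσ b⟩), ← RingHom.ker_eq_comap_bot, sup_comm, hmap]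
  refine ⟨rs ++ ss.map σ, ⟨(isWeaklyRegular_append_iff _ _ _).2 ⟨hrs.toIsWeaklyRegular, ?_⟩, ?_⟩, hker⟩
  · have hsm : Ideal.ofList rs • (⊤ : Submodule A A) = RingHom.ker (Algebra.ofId A B) := by
      rw [smul_eq_mul, Ideal.mul_top, hrsP]; rfl
    let e : (A ⧸ (Ideal.ofList rs • (⊤ : Submodule A A))) ≃ₗ[A] B :=
      (Submodule.quotEquivOfEq _ _ hsm).trans
        (Ideal.quotientKerAlgEquivOfSurjective (f := Algebra.ofId A B) (fun b => ⟨σ b, hσ b⟩)).toLinearEquiv
    rw [e.isWeaklyRegular_congr, ← isWeaklyRegular_map_algebraMap_iff B B]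
    rw [show (ss.map σ).map (algebraMap A B) = ss from hmap]
    exact hss.toIsWeaklyRegular
  · rw [smul_eq_mul, Ideal.mul_top, hker]
    intro htop
    exact hss.top_ne_smul (by rw [smul_eq_mul, Ideal.mul_top]; exact (Ideal.comap_eq_top_iff.1 htop.symm).symm)

/-- Cancellation. -/
theorem isRegularIdeal_ker_of_comp {B : Type u} [CommRing B] (π : A →+* B) (hπ : Function.Surjective π)
    (J : Ideal B) (hJ : CInt.IsRegularIdeal J) (hI : CInt.IsRegularIdeal (J.comap π)) :
    CInt.IsRegularIdeal (RingHom.ker π) := by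
  obtain ⟨ss, hss, rfl⟩ := hJ
  choose σ hσ using hπ
  have hmap : (ss.map σ).map π = ss := by simp [Function.comp_def, hσ]
  letI := π.toAlgebra
  refine isRegularIdeal_left (ss.map σ) (RingHom.ker π) ?_ ?_
  · let e : (A ⧸ RingHom.ker π) ≃ₗ[A] B :=
      (Ideal.quotientKerAlgEquivOfSurjective (f := Algebra.ofId A B) (fun b => ⟨σ b, hσ b⟩)).toLinearEquiv
    rw [e.isRegular_congr]
    refine ⟨?_, ?_⟩
    · rw [← isWeaklyRegular_map_algebraMap_iff B B, show (ss.map σ).map (algebraMap A B) = ss from hmap]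
      exact hss.toIsWeaklyRegular
    · intro htop
      refine hss.top_ne_smul (Eq.symm (top_le_iff.1 fun x _ => ?_))
      have hx := htop.le (Submodule.mem_top (x := x))
      refine Submodule.smul_induction_on hx (fun r hr y _ => ?_) (fun _ _ => Submodule.add_mem _)
      rw [smul_eq_mul, Ideal.mul_top, Algebra.smul_def, ← hmap, ← Ideal.map_ofList]
      exact Ideal.mul_mem_right _ _ (Ideal.mem_map_of_mem _ hr)
  · rwa [← hmap, ← Ideal.map_ofList, Ideal.comap_map_of_surjective π (fun b => ⟨σ b, hσ b⟩),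
      ← RingHom.ker_eq_comap_bot, sup_comm] at hI

/-- A quotient by a regular sequence being regular forces regularity. -/
theorem isRegularLocalRing_of_regular_quotient : ∀ (rs : List A) (B : Type u) [CommRing B] (_ : IsRegularLocalRing B)
    (π : A →+* B), Function.Surjective π → RingHom.ker π = Ideal.ofList rs → IsWeaklyRegular A rs →
      IsRegularLocalRing A := by
  intro rs
  induction rs using List.reverseRecOn with
  | nil =>
    intro B _ hB π hπ hker _
    haveI := hB
    rw [Ideal.ofList_nil] at hker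
    exact IsRegularLocalRing.of_ringEquiv (R := B)
      (RingEquiv.ofBijective π ⟨(RingHom.injective_iff_ker_eq_bot π).2 hker, hπ⟩).symm
  | append_singleton rs x ih =>
    intro B _ hB π hπ hker hreg
    haveI := hB
    rw [isWeaklyRegular_append_iff] at hreg
    obtain ⟨h1, h2⟩ := hreg
    let A' := A ⧸ Ideal.ofList rs
    have hle : Ideal.ofList (rs ++ [x]) ≤ maximalIdeal A :=
      le_maximalIdeal (hker ▸ RingHom.ker_ne_top π)
    rw [Ideal.ofList_append] at hle
    haveI : IsLocalRing A' := CAlgH3.isLocalRing_quotient (le_sup_left.trans hle)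
    let π' : A' →+* B := Ideal.Quotient.lift _ π fun a ha => by
      have : a ∈ RingHom.ker π := hker ▸ (Ideal.ofList_append rs [x] ▸ Submodule.mem_sup_left ha)
      exact this
    have hπ' : Function.Surjective π' := fun b => let ⟨a, ha⟩ := hπ b; ⟨Ideal.Quotient.mk _ a, ha⟩
    have hk' : RingHom.ker π' = Ideal.span {Ideal.Quotient.mk (Ideal.ofList rs) x} := by
      show RingHom.ker (Ideal.Quotient.lift _ _ _) = _
      rw [Ideal.ker_quotient_lift, hker, Ideal.ofList_append, Ideal.map_sup, Ideal.map_quotient_self, bot_sup_eq,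
        Ideal.ofList_singleton, Ideal.map_span, Set.image_singleton]
    have hxm : Ideal.Quotient.mk (Ideal.ofList rs) x ∈ maximalIdeal A' :=
      le_maximalIdeal (RingHom.ker_ne_top π') (hk' ▸ Ideal.mem_span_singleton_self _)
    haveI : IsRegularLocalRing (A' ⧸ Ideal.span {Ideal.Quotient.mk (Ideal.ofList rs) x}) :=
      IsRegularLocalRing.of_ringEquiv (R := B)
        ((Ideal.quotEquivOfEq hk'.symm).trans (RingHom.quotientKerEquivOfSurjective hπ')).symm
    have hxreg : IsSMulRegular A' (Ideal.Quotient.mk (Ideal.ofList rs) x) := by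
      have h3 : IsSMulRegular (A ⧸ (Ideal.ofList rs • (⊤ : Submodule A A))) x :=
        ((isWeaklyRegular_cons_iff _ _ _).1 h2).1
      have h4 : IsSMulRegular A' x :=
        ((Submodule.quotEquivOfEq _ _ (by rw [smul_eq_mul, Ideal.mul_top])).isSMulRegular_congr x).1 h3
      intro u v huv
      refine h4 ?_
      show x • u = x • v
      rw [Algebra.smul_def, Algebra.smul_def]
      exact huv
    exact ih A' (CAlgH3.isRegularLocalRing_of_quotient hxm hxreg) (Ideal.Quotient.mk _) Ideal.Quotient.mk_surjective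
      Ideal.mk_ker h1

omit [IsNoetherianRing A] in
/-- A regular quotient of a regular local ring is cut out by a regular sequence. -/
theorem isRegularIdeal_of_regular [IsRegularLocalRing A] (I : Ideal A) [IsRegularLocalRing (A ⧸ I)] :
    CInt.IsRegularIdeal I := by
  obtain ⟨rs, hlen, hspan, c, hc, rfl⟩ := CAlgH3.exists_sop_of_regular_quotient _ A rfl I
  have hreg := CAlgH3.isRegular_of_ofList_eq_maximalIdeal rs hspan hlen
  refine ⟨rs.take c, isRegular_of_mem_maximal ?_ (fun r hr => hspan ▸ Ideal.subset_span (List.mem_of_mem_take hr)), rfl⟩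
  have := hreg.toIsWeaklyRegular
  rw [← List.take_append_drop c rs, isWeaklyRegular_append_iff] at this
  exact this.1

end Algebra

variable {X Y : Scheme.{u}}

/-- A closed immersion into a locally Noetherian scheme is regular near a point iff the kernel at the stalk
is generated by a regular sequence. -/
theorem nhd_iff [IsLocallyNoetherian X] (f : Y ⟶ X) [IsClosedImmersion f] (y : Y) :
    (∃ V : X.Opens, f y ∈ V ∧ Mor2.IsRegularClosedImmersion (f ∣_ V)) ↔
      CInt.IsRegularIdeal (RingHom.ker (f.stalkMap y).hom) := by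
  constructor
  · rintro ⟨V, hV, h⟩
    obtain ⟨U, hU, hyU, rs, hrs, hker⟩ := CIImmersion.exists_regular_chart f y V hV h
    let := X.presheaf.algebra_section_stalk ⟨f y, hyU⟩
    have := hU.isLocalization_stalk ⟨f y, hyU⟩
    have : Module.Flat Γ(X, U) (X.presheaf.stalk (f y)) :=
      IsLocalization.flat _ (hU.primeIdealOf ⟨f y, hyU⟩).asIdeal.primeCompl
    have hk : Ideal.ofList (rs.map (X.presheaf.germ U (f y) hyU).hom) = RingHom.ker (f.stalkMap y).hom := by
      rw [CIImmersion.ker_stalkMap_eq f y hU hyU, hker, Ideal.map_ofList]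
    refine ⟨_, isRegular_of_mem_maximal (IsWeaklyRegular.of_flat (S := X.presheaf.stalk (f y)) hrs.toIsWeaklyRegular)
      (fun r hr => le_maximalIdeal (RingHom.ker_ne_top _) (hk.le (Ideal.subset_span hr))), hk⟩
  · rintro ⟨ls, hls, hlsk⟩
    obtain ⟨_, ⟨U, hU, rfl⟩, hyU, -⟩ :=
      X.isBasis_affineOpens.exists_subset_of_mem_open (Set.mem_univ (f y)) isOpen_univ
    have hyU : f y ∈ U := hyU
    haveI : IsNoetherianRing Γ(X, U) := IsLocallyNoetherian.component_noetherian ⟨U, hU⟩
    let R := Γ(X, U)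
    let L := X.presheaf.stalk (f y)
    letI : Algebra R L := X.presheaf.algebra_section_stalk ⟨f y, hyU⟩
    let Q := (hU.primeIdealOf ⟨f y, hyU⟩).asIdeal
    haveI : IsLocalization.AtPrime L Q := hU.isLocalization_stalk ⟨f y, hyU⟩
    let K := RingHom.ker (f.app U).hom
    have hK : RingHom.ker (f.stalkMap y).hom = K.map (algebraMap R L) := CIImmersion.ker_stalkMap_eq f y hU hyU
    have hKL : K.map (algebraMap R L) = Ideal.span (Set.range ls.get) := by rw [← hK, ← hlsk, Set.range_list_get]
    have hfac : ∀ i, ∃ (a : R) (u : L), a ∈ K ∧ IsUnit u ∧ algebraMap R L a = ls.get i * u := by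
      intro i
      obtain ⟨⟨a, t⟩, ht⟩ := (IsLocalization.mem_map_algebraMap_iff Q.primeCompl L).1
        (show ls.get i ∈ K.map (algebraMap R L) from hKL ▸ Ideal.subset_span ⟨i, rfl⟩)
      exact ⟨a, algebraMap R L t, a.2, IsLocalization.map_units L t, ht.symm⟩
    choose a u ha hu hau using hfac
    have hspan : Ideal.span (Set.range fun i => algebraMap R L (a i)) = Ideal.span (Set.range ls.get) := by
      refine le_antisymm (Ideal.span_le.2 ?_) (Ideal.span_le.2 ?_)
      · rintro _ ⟨i, rfl⟩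
        show algebraMap R L (a i) ∈ _
        rw [hau]
        exact Ideal.mul_mem_right _ _ (Ideal.subset_span ⟨i, rfl⟩)
      · rintro _ ⟨i, rfl⟩
        refine (Ideal.mul_unit_mem_iff_mem _ (hu i)).1 ?_
        rw [← hau]
        exact Ideal.subset_span ⟨i, rfl⟩
    let rs := List.ofFn a
    have hregL : IsWeaklyRegular L (rs.map (algebraMap R L)) := by
      rw [List.map_ofFn]
      refine isWeaklyRegular_of_span (g := ls.get) (by rw [List.ofFn_get]; exact hls.toIsWeaklyRegular) hspan fun i => ?_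
      refine le_maximalIdeal (RingHom.ker_ne_top (f.stalkMap y).hom) ?_
      rw [hK]
      exact Ideal.mem_map_of_mem _ (ha i)
    let e := IsLocalization.algEquiv Q.primeCompl L (Localization.AtPrime Q)
    have hregQ : IsWeaklyRegular (Localization.AtPrime Q) (rs.map (algebraMap R (Localization.AtPrime Q))) := by
      rw [isWeaklyRegular_map_algebraMap_iff (Localization.AtPrime Q) (Localization.AtPrime Q),
        ← e.toLinearEquiv.isWeaklyRegular_congr, ← isWeaklyRegular_map_algebraMap_iff L L]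
      exact hregL
    obtain ⟨g₁, hg₁, hcolon⟩ := FlatMorKoszul.exists_colon_of_weaklyRegular Q hregQ
    obtain ⟨g₂, hg₂, hgen⟩ : ∃ g : R, g ∉ Q ∧ ∀ x ∈ K, g * x ∈ Ideal.ofList rs := by
      obtain ⟨s, hs⟩ := IsNoetherian.noetherian K
      have hx : ∀ x : s, ∃ g : R, g ∉ Q ∧ g * x ∈ Ideal.ofList rs := fun x => by
        have h1 : algebraMap R L (x : R) ∈ (Ideal.ofList rs).map (algebraMap R L) := by
          rw [Ideal.map_ofList, List.map_ofFn, ofList_ofFn']
          exact (hKL.trans hspan.symm).le (Ideal.mem_map_of_mem _ (hs ▸ Submodule.subset_span x.2))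
        obtain ⟨g, hg, hgx⟩ := (IsLocalization.algebraMap_mem_map_algebraMap_iff Q.primeCompl L _ _).1 h1
        exact ⟨g, hg, hgx⟩
      choose g hg hgx using hx
      classical
      refine ⟨∏ x, g x, fun hmem => ?_, fun x hx => ?_⟩
      · obtain ⟨x, -, hx⟩ := Ideal.IsPrime.prod_mem_iff.1 hmem
        exact hg x hx
      · have : K ≤ Submodule.comap (LinearMap.mulLeft R (∏ x, g x)) (Ideal.ofList rs) := by
          rw [← hs]
          refine Ideal.span_le.2 fun y hy => ?_
          show (∏ x, g x) * y ∈ Ideal.ofList rs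
          rw [← Finset.mul_prod_erase Finset.univ g (Finset.mem_univ (⟨y, hy⟩ : s)), mul_right_comm]
          exact Ideal.mul_mem_right _ _ (hgx ⟨y, hy⟩)
        exact this hx
    let G := g₁ * g₂
    have hG : G ∉ Q := fun h => (Ideal.IsPrime.mem_or_mem inferInstance h).elim hg₁ hg₂
    have hrsQ : ∀ r ∈ rs, r ∈ Q := fun r hr => by
      obtain ⟨i, rfl⟩ := List.mem_ofFn.1 hr
      refine (IsLocalization.AtPrime.to_map_mem_maximal_iff L Q (a i)).1 ?_
      refine le_maximalIdeal (RingHom.ker_ne_top (f.stalkMap y).hom) ?_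
      rw [hK]
      exact Ideal.mem_map_of_mem _ (ha i)
    let D := X.basicOpen G
    haveI : IsLocalization.Away G Γ(X, D) := hU.isLocalization_basicOpen G
    have hyD : f y ∈ D := by
      rw [show D = X.basicOpen G from rfl, Scheme.mem_basicOpen _ _ _ hyU]
      exact IsLocalization.map_units L (⟨G, hG⟩ : Q.primeCompl)
    have hss := Nrm16Lib.isRegular_away Q hrsQ hG
      (fun i hi x hx => by rw [mul_assoc, mul_left_comm]; exact Ideal.mul_mem_left _ _ (hcolon i hi x hx)) Γ(X, D)
    refine ⟨D, hyD, CIImmersion.isRegularClosedImmersion_restrict f (hU.basicOpen G) _ hss ?_⟩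
    have hD : RingHom.ker (f.app D).hom = K.map (algebraMap R Γ(X, D)) := by
      rw [← Scheme.Hom.ker_apply f ⟨D, hU.basicOpen G⟩,
        show K = f.ker.ideal ⟨U, hU⟩ from (Scheme.Hom.ker_apply f ⟨U, hU⟩).symm]
      exact (f.ker.map_ideal_basicOpen ⟨U, hU⟩ G).symm
    rw [hD]
    refine le_antisymm (Ideal.map_le_iff_le_comap.2 fun x hx => ?_) ?_
    · rw [Ideal.mem_comap, ← Ideal.map_ofList]
      have h1 := Ideal.mem_map_of_mem (algebraMap R Γ(X, D)) (hgen x hx)
      have h2 := Ideal.mul_mem_left ((Ideal.ofList rs).map (algebraMap R Γ(X, D))) (algebraMap R Γ(X, D) g₁) h1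
      rw [← map_mul, ← mul_assoc, map_mul, Ideal.unit_mul_mem_iff_mem _ (IsLocalization.Away.algebraMap_isUnit G)] at h2
      exact h2
    · rw [← Ideal.map_ofList]
      exact Ideal.map_mono (Ideal.span_le.2 fun r hr => by
        obtain ⟨i, rfl⟩ := List.mem_ofFn.1 hr
        exact ha i)

end Groth.Agent.CAlgH.RegImmLocal
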