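import Groth.Agent.CAlgH.RegImmStalk
import Groth.Agent.CAlgH.RegImmLocal
import Mathlib

/-!
# Basic opens of regularly immersed affine schemes are quotients by regular sequences
-/

set_option autoImplicit false

universe u

open AlgebraicGeometry CategoryTheory RingTheory.Sequence IsLocalRing

namespace Groth.Agent.CAlgH.RegImmPresentation

/-- The stalk ideal of a regular immersion of affine schemes, in the localisation. -/
theorem exists_regular_localization {P : Type u} [CommRing P] (I : Ideal P)
    (h : RegImm.IsRegularImmersion RegImm.Kind.regular (Spec.map (CommRingCat.ofHom (Ideal.Quotient.mk I))))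
    (q : PrimeSpectrum (P ⧸ I)) :
    ∃ ls : List (Localization.AtPrime (q.asIdeal.comap (Ideal.Quotient.mk I))),
      IsWeaklyRegular (Localization.AtPrime (q.asIdeal.comap (Ideal.Quotient.mk I))) ls ∧
      I.map (algebraMap P _) = Ideal.ofList ls := by
  let φ := CommRingCat.ofHom (Ideal.Quotient.mk I)
  let i : Spec (CommRingCat.of (P ⧸ I)) ⟶ Spec (CommRingCat.of P) := Spec.map φ
  haveI hci : IsClosedImmersion i := IsClosedImmersion.spec_of_surjective φ Ideal.Quotient.mk_surjective
  obtain ⟨rs, hrs, hker⟩ := RegImmStalk.exists_isRegular_ker_stalkMap i h q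
  haveI : IsClosedImmersion (i ∣_ ⊤) := IsZariskiLocalAtTarget.restrict hci ⊤
  have hk := RegImmStalk.ker_stalkMap_eq i q (isAffineOpen_top _) (U := ⊤) trivial
  have happ : RingHom.ker (i.app ⊤).hom = I.map (Scheme.ΓSpecIso (CommRingCat.of P)).inv.hom := by
    have hnat := congrArg CommRingCat.Hom.hom (Scheme.ΓSpecIso_naturality φ)
    rw [CommRingCat.hom_comp, CommRingCat.hom_comp] at hnat
    have h1 : RingHom.ker (i.app ⊤).hom = I.comap (Scheme.ΓSpecIso (CommRingCat.of P)).hom.hom := by
      ext x
      have hx := RingHom.congr_fun hnat x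
      simp only [RingHom.comp_apply] at hx
      rw [RingHom.mem_ker, Ideal.mem_comap]
      constructor
      · intro h0
        change (i.app ⊤).hom x = 0 at h0
        have hx' : (Ideal.Quotient.mk I) ((Scheme.ΓSpecIso (CommRingCat.of P)).hom.hom x) = 0 := by
          refine hx.symm.trans ?_
          show (Scheme.ΓSpecIso _).hom.hom ((i.app ⊤).hom x) = 0
          erw [h0]
          exact map_zero _
        exact Ideal.Quotient.eq_zero_iff_mem.1 hx'
      · intro h0
        apply (Scheme.ΓSpecIso (CommRingCat.of (P ⧸ I))).commRingCatIsoToRingEquiv.injective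
        exact (hx.trans (Ideal.Quotient.eq_zero_iff_mem.2 h0)).trans (map_zero _).symm
    rw [h1]
    exact (Ideal.map_symm (Scheme.ΓSpecIso (CommRingCat.of P)).commRingCatIsoToRingEquiv).symm
  let Q := q.asIdeal.comap (Ideal.Quotient.mk I)
  let L := (Spec (CommRingCat.of P)).presheaf.stalk (i q)
  letI : Algebra P L := (((Spec (CommRingCat.of P)).presheaf.germ ⊤ (i q) trivial).hom.comp
    (Scheme.ΓSpecIso (CommRingCat.of P)).inv.hom).toAlgebra
  haveI : IsLocalization.AtPrime L Q := inferInstanceAs
    (IsLocalization.AtPrime ((Spec.structureSheaf P).presheaf.stalk (PrimeSpectrum.comap φ.hom q))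
      (PrimeSpectrum.comap φ.hom q).asIdeal)
  have hL : Ideal.ofList rs = I.map (algebraMap P L) := by
    rw [← hker, hk, happ, Ideal.map_map]
    rfl
  let e := (IsLocalization.algEquiv Q.primeCompl L (Localization.AtPrime Q))
  refine ⟨rs.map e.toRingEquiv.toRingHom, ?_, ?_⟩
  · haveI i₁ : RingHomInvPair e.toRingEquiv.toRingHom e.symm.toRingEquiv.toRingHom := RingHomInvPair.of_ringEquiv e.toRingEquiv
    haveI := i₁.symm
    exact (LinearEquiv.isWeaklyRegular_congr' (σ := e.toRingEquiv.toRingHom) (σ' := e.symm.toRingEquiv.toRingHom)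
      (e := { e.toRingEquiv with map_smul' := fun a x => map_mul e a x }) rs).1 hrs.toIsWeaklyRegular
  · rw [← Ideal.map_ofList, hL, Ideal.map_map]
    exact congrArg (fun f => Ideal.map f I) e.toAlgHom.comp_algebraMap.symm

theorem nzd_C_mul_X_sub_one {R : Type u} [CommRing R] (h : R) (p : Polynomial R)
    (hp : (Polynomial.C h * Polynomial.X - 1) * p = 0) : p = 0 := by
  have hp' : p = Polynomial.C h * (Polynomial.X * p) := by
    rw [sub_mul, one_mul, sub_eq_zero, mul_assoc] at hp; exact hp.symm
  refine Polynomial.ext fun k => ?_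
  induction k with
  | zero => rw [hp']; simp
  | succ k ih => rw [hp', Polynomial.coeff_C_mul, Polynomial.coeff_X_mul, ih, Polynomial.coeff_zero, mul_zero]; simp

variable {A : Type u} [CommRing A] [IsNoetherianRing A] {n : ℕ}

theorem exists_presentation (I : Ideal (MvPolynomial (Fin n) A))
    (h : RegImm.IsRegularImmersion RegImm.Kind.regular (Spec.map (CommRingCat.ofHom (Ideal.Quotient.mk I))))
    (q : PrimeSpectrum (MvPolynomial (Fin n) A ⧸ I)) :
    ∃ g : MvPolynomial (Fin n) A ⧸ I, g ∉ q.asIdeal ∧
      ∃ (d : ℕ) (T : Fin d → MvPolynomial (Fin (n + 1)) A),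
        IsRegular (MvPolynomial (Fin (n + 1)) A) (List.ofFn T) ∧
        Nonempty (Localization.Away g ≃ₐ[A] (MvPolynomial (Fin (n + 1)) A ⧸ Ideal.ofList (List.ofFn T))) := by
  classical
  obtain ⟨ls, hls, hspan⟩ := exists_regular_localization I h q
  let P := MvPolynomial (Fin n) A
  let Q := q.asIdeal.comap (Ideal.Quotient.mk I)
  let L := Localization.AtPrime Q
  have hIQ : I ≤ Q := fun x hx => by
    show Ideal.Quotient.mk I x ∈ q.asIdeal
    rw [Ideal.Quotient.eq_zero_iff_mem.2 hx]; exact zero_mem _
  -- lift generators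
  have hfac : ∀ i, ∃ (a : P) (u : L), a ∈ I ∧ IsUnit u ∧ algebraMap P L a = ls.get i * u := by
    intro i
    obtain ⟨⟨a, t⟩, ht⟩ := (IsLocalization.mem_map_algebraMap_iff Q.primeCompl L).1
      (show ls.get i ∈ I.map (algebraMap P L) from hspan ▸ Ideal.subset_span (List.get_mem _ _))
    exact ⟨a, algebraMap P L t, a.2, IsLocalization.map_units L t, ht.symm⟩
  choose a u ha hu hau using hfac
  have hspan' : Ideal.span (Set.range fun i => algebraMap P L (a i)) = Ideal.span (Set.range ls.get) := by
    refine le_antisymm (Ideal.span_le.2 ?_) (Ideal.span_le.2 ?_)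
    · rintro _ ⟨i, rfl⟩
      show algebraMap P L (a i) ∈ _
      rw [hau]
      exact Ideal.mul_mem_right _ _ (Ideal.subset_span ⟨i, rfl⟩)
    · rintro _ ⟨i, rfl⟩
      refine (Ideal.mul_unit_mem_iff_mem _ (hu i)).1 ?_
      rw [← hau]
      exact Ideal.subset_span ⟨i, rfl⟩
  have hIL : I.map (algebraMap P L) = (Ideal.ofList (List.ofFn a)).map (algebraMap P L) := by
    rw [hspan, Ideal.map_ofList, List.map_ofFn, RegImmLocal.ofList_ofFn', Ideal.ofList]
    exact ((congrArg Ideal.span (Set.range_list_get ls)).symm.trans hspan'.symm)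
  have hregQ : IsWeaklyRegular L ((List.ofFn a).map (algebraMap P L)) := by
    rw [List.map_ofFn]
    refine RegImmLocal.isWeaklyRegular_of_span (g := ls.get) (by rw [List.ofFn_get]; exact hls) hspan' fun i => ?_
    exact (IsLocalization.AtPrime.to_map_mem_maximal_iff L Q (a i)).2 (hIQ (ha i))
  obtain ⟨g₁, hg₁, hcolon⟩ := FlatMorKoszul.exists_colon_of_weaklyRegular Q hregQ
  obtain ⟨g₂, hg₂, hgen⟩ : ∃ g : P, g ∉ Q ∧ ∀ x ∈ I, g * x ∈ Ideal.ofList (List.ofFn a) := by
    obtain ⟨s, hs⟩ := IsNoetherian.noetherian I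
    have hx : ∀ x : s, ∃ g : P, g ∉ Q ∧ g * x ∈ Ideal.ofList (List.ofFn a) := fun x => by
      obtain ⟨g, hg, hgx⟩ := (IsLocalization.algebraMap_mem_map_algebraMap_iff Q.primeCompl L _ _).1
        (hIL.le (Ideal.mem_map_of_mem _ (hs ▸ Submodule.subset_span x.2)))
      exact ⟨g, hg, hgx⟩
    choose g hg hgx using hx
    refine ⟨∏ x, g x, fun hmem => ?_, fun x hx => ?_⟩
    · obtain ⟨x, -, hx⟩ := Ideal.IsPrime.prod_mem_iff.1 hmem
      exact hg x hx
    · have : I ≤ Submodule.comap (LinearMap.mulLeft P (∏ x, g x)) (Ideal.ofList (List.ofFn a)) := by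
        refine (le_of_eq hs.symm).trans (Ideal.span_le.2 fun y hy => ?_)
        show (∏ x, g x) * y ∈ Ideal.ofList (List.ofFn a)
        rw [← Finset.mul_prod_erase Finset.univ g (Finset.mem_univ (⟨y, hy⟩ : s)), mul_right_comm]
        exact Ideal.mul_mem_right _ _ (hgx ⟨y, hy⟩)
      exact this hx
  let G := g₁ * g₂
  have hG : G ∉ Q := fun h => (Ideal.IsPrime.mem_or_mem inferInstance h).elim hg₁ hg₂
  let g := Ideal.Quotient.mk I G
  refine ⟨g, hG, ls.length + 1, ?_⟩
  let PG := Localization.Away G
  have hIG : I.map (algebraMap P PG) = (Ideal.ofList (List.ofFn a)).map (algebraMap P PG) := by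
    refine le_antisymm (Ideal.map_le_iff_le_comap.2 fun x hx => ?_) (Ideal.map_mono (Ideal.span_le.2 fun r hr => ?_))
    · have h1 := Ideal.mul_mem_left _ (algebraMap P PG g₁) (Ideal.mem_map_of_mem (algebraMap P PG) (hgen x hx))
      rw [← map_mul, ← mul_assoc, map_mul,
        Ideal.unit_mul_mem_iff_mem _ (IsLocalization.Away.algebraMap_isUnit G)] at h1
      exact h1
    · obtain ⟨i, rfl⟩ := List.mem_ofFn.1 hr
      exact ha i
  have hss := Nrm16Lib.isRegular_away Q (rs := List.ofFn a) (fun r hr => by
      obtain ⟨i, rfl⟩ := List.mem_ofFn.1 hr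
      exact hIQ (ha i)) hG
    (fun i hi x hx => by rw [mul_assoc, mul_left_comm]; exact Ideal.mul_mem_left _ _ (hcolon i hi x hx)) PG
  have hss' := Nrm16Lib.isWeaklyRegular_iff_forall_mem.1 hss.toIsWeaklyRegular
  -- the polynomial ring in one more variable
  let e : MvPolynomial (Fin (n + 1)) A ≃ₐ[A] Polynomial P := MvPolynomial.finSuccEquiv A n
  let π₀ : Polynomial P →ₐ[P] PG := (Localization.awayEquivAdjoin G).symm.toAlgHom.comp (AdjoinRoot.mkₐ _)
  have hπ₀ : Function.Surjective π₀ := (Localization.awayEquivAdjoin G).symm.surjective.comp AdjoinRoot.mk_surjective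
  have hkπ₀ : ∀ x, π₀ x = 0 ↔ x ∈ Ideal.span {Polynomial.C G * Polynomial.X - 1} := fun x => by
    rw [Ideal.mem_span_singleton, ← AdjoinRoot.mk_eq_zero]
    exact ⟨fun h => (Localization.awayEquivAdjoin G).symm.injective (h.trans (map_zero _).symm),
      fun h => (congrArg (Localization.awayEquivAdjoin G).symm h).trans (map_zero _)⟩
  let π : MvPolynomial (Fin (n + 1)) A →ₐ[A] PG := (π₀.restrictScalars A).comp e.toAlgHom
  have hπ : Function.Surjective π := hπ₀.comp e.surjective
  let t := e.symm (Polynomial.C G * Polynomial.X - 1)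
  have hkπ : ∀ x, π x = 0 ↔ x ∈ Ideal.span {t} := fun x => by
    show π₀ (e x) = 0 ↔ _
    rw [hkπ₀, Ideal.mem_span_singleton, Ideal.mem_span_singleton]
    exact ⟨fun h => by simpa [t] using map_dvd e.symm h, fun h => by simpa [t] using map_dvd e h⟩
  have hπt : π t = 0 := (hkπ t).2 (Ideal.mem_span_singleton_self t)
  let a' : Fin ls.length → MvPolynomial (Fin (n + 1)) A := fun i => e.symm (Polynomial.C (a i))
  have hπa : ∀ i, π (a' i) = algebraMap P PG (a i) := fun i => by
    show π₀ (e (e.symm (Polynomial.C (a i)))) = _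
    rw [e.apply_symm_apply]
    exact π₀.commutes (a i)
  refine ⟨Fin.cons t a', ?_⟩
  have hlist : List.ofFn (Fin.cons t a' : Fin (ls.length + 1) → _) = t :: List.ofFn a' := by
    rw [List.ofFn_succ]; simp
  rw [hlist]
  have hmapl : (List.ofFn a').map π.toRingHom = (List.ofFn a).map (algebraMap P PG) := by
    rw [List.map_ofFn, List.map_ofFn]
    exact congrArg List.ofFn (funext hπa)
  have hpre : ∀ l : List (MvPolynomial (Fin (n + 1)) A), Ideal.ofList (t :: l) = (Ideal.ofList (l.map π.toRingHom)).comap π.toRingHom := by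
    intro l
    rw [← Ideal.map_ofList, Ideal.comap_map_of_surjective π.toRingHom hπ, Ideal.ofList_cons, sup_comm]
    congr 1
    ext x
    exact (hkπ x).symm
  -- the algebra map to the localised quotient
  let ψ : PG →ₐ[A] Localization.Away g :=
    { IsLocalization.Away.map PG (Localization.Away g) (Ideal.Quotient.mk I) G with
      commutes' := fun r => by
        show IsLocalization.Away.map PG (Localization.Away g) (Ideal.Quotient.mk I) G (algebraMap A PG r) = _
        rw [IsScalarTower.algebraMap_apply A P PG, IsLocalization.Away.map, IsLocalization.map_eq]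
        rfl }
  have hψ : Function.Surjective ψ := by
    haveI : IsLocalization ((Submonoid.powers G).map (Ideal.Quotient.mk I)) (Localization.Away g) := by
      rw [Submonoid.map_powers]; infer_instance
    exact IsLocalization.map_surjective_of_surjective (Submonoid.powers G) PG (Localization.Away g)
      Ideal.Quotient.mk_surjective
  have hkψ : RingHom.ker ψ.toRingHom = I.map (algebraMap P PG) := by
    have := IsLocalization.ker_map (S := PG) (Localization.Away g)
      (g := Ideal.Quotient.mk I) (M := Submonoid.powers G) (T := Submonoid.powers g) (Submonoid.map_powers _ G)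
    rw [Ideal.mk_ker] at this
    exact this
  let Φ := ψ.comp π
  have hkΦ : RingHom.ker Φ.toRingHom = Ideal.ofList (t :: List.ofFn a') := by
    show RingHom.ker (ψ.toRingHom.comp π.toRingHom) = _
    rw [← RingHom.comap_ker, hkψ, hpre, hmapl, hIG, Ideal.map_ofList]
  refine ⟨⟨Nrm16Lib.isWeaklyRegular_iff_forall_mem.2 fun i hi x hx => ?_, ?_⟩,
    ⟨((Ideal.quotientEquivAlgOfEq A hkΦ).symm.trans
      (Ideal.quotientKerAlgEquivOfSurjective (f := Φ) (hψ.comp hπ))).symm⟩⟩
  · rcases i with _ | i
    · simp only [List.take_zero, Ideal.ofList_nil, Ideal.mem_bot, List.getElem_cons_zero] at hx ⊢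
      have := congrArg e hx
      rw [map_mul, e.apply_symm_apply, map_zero] at this
      exact e.injective ((nzd_C_mul_X_sub_one G _ this).trans (map_zero e).symm)
    · simp only [List.length_cons] at hi
      have hi' : i < (List.ofFn a').length := by omega
      simp only [List.take_succ_cons, List.getElem_cons_succ] at hx ⊢
      rw [hpre, List.map_take, hmapl, Ideal.mem_comap] at hx ⊢
      have hia : i < ((List.ofFn a).map (algebraMap P PG)).length := by simpa using hi'
      refine hss' i hia _ ?_
      rw [map_mul] at hx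
      convert hx using 2
      rw [List.getElem_map, List.getElem_ofFn, List.getElem_ofFn]
      exact (hπa _).symm
  · rw [smul_eq_mul, Ideal.mul_top, ← hkΦ]
    haveI : Nontrivial (Localization.Away g) := by
      rw [nontrivial_iff]
      by_contra! hc
      haveI : Subsingleton (Localization.Away g) := ⟨hc⟩
      obtain ⟨k, hk⟩ := (IsLocalization.subsingleton_iff (S := Localization.Away g) (M := Submonoid.powers g)).1 this
      exact hG (q.isPrime.mem_of_pow_mem k ((show g ^ k = 0 from hk).symm ▸ q.asIdeal.zero_mem))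
    exact (RingHom.ker_ne_top _).symm

end Groth.Agent.CAlgH.RegImmPresentation
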