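import Mathlib
import Groth.Agent.CAlgH.Colimit
import Groth.Agent.AlgSpLib.SmoothRegular
import Groth.Agent.CAlgH3.RegularLocal

/-! A Noetherian directed colimit of regular rings is regular. -/
universe u v
open IsLocalRing TensorProduct

namespace Groth.Agent.CAlgH

variable {R : Type u} [CommRing R] {ι : Type v} {G : ι → Type u} [∀ i, CommRing (G i)]
  [∀ i, Algebra R (G i)] {A : Type u} [CommRing A] [Algebra R A] {g : ∀ i, G i →ₐ[R] A}

theorem ColimSys.flat (hs : ColimSys g) (hf : ∀ i, Module.Flat R (G i)) : Module.Flat R A := by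
  refine Module.Flat.iff_lTensor_injective'.mpr fun I => ?_
  rw [injective_iff_map_eq_zero]
  intro z hz
  obtain ⟨i, y, rfl⟩ := hs.rTensor_surj I z
  let m : G i ⊗[R] I →ₗ[R] G i := (TensorProduct.rid R (G i)).toLinearMap ∘ₗ I.subtype.lTensor (G i)
  have hnat : ∀ w : G i ⊗[R] I, g i (m w)
      = TensorProduct.rid R A (I.subtype.lTensor A ((g i).toLinearMap.rTensor I w)) := fun w => by
    induction w using TensorProduct.induction_on with
    | zero => simp [m]
    | tmul a r => simp [m]
    | add a b ha hb => simp only [map_add, ha, hb]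
  obtain ⟨j, h, hh⟩ := hs.kill i (m y) (by rw [hnat, hz, map_zero])
  have hnat2 : ∀ w : G i ⊗[R] I, h.1 (m w)
      = TensorProduct.rid R (G j) (I.subtype.lTensor (G j) (h.1.toLinearMap.rTensor I w)) := fun w => by
    induction w using TensorProduct.induction_on with
    | zero => simp [m]
    | tmul a r => simp [m]
    | add a b ha hb => simp only [map_add, ha, hb]
  haveI := hf j
  have h0 : h.1.toLinearMap.rTensor I y = 0 := by
    refine (injective_iff_map_eq_zero _).mp (Module.Flat.lTensor_preserves_injective_linearMap I.subtype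
      (Submodule.injective_subtype I)) _ ((TensorProduct.rid R (G j)).injective ?_)
    rw [← hnat2, hh, map_zero]
  rw [← h.2, show ((g j).comp h.1).toLinearMap = (g j).toLinearMap ∘ₗ h.1.toLinearMap from rfl,
    LinearMap.rTensor_comp_apply, h0, map_zero]

theorem isPrime_span_of_linearIndependent {D : Type u} [CommRing D] [IsRegularLocalRing D] {C : Type u} [CommRing C]
    [IsLocalRing C] (φ : D →+* C) [IsLocalHom φ] {κ : Type} [Finite κ] (w : κ → D) (hw : ∀ c, φ (w c) ∈ maximalIdeal C)
    (hli : LinearIndependent (ResidueField C) fun c => (maximalIdeal C).toCotangent ⟨φ (w c), hw c⟩) (s : Set κ) :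
    (Ideal.span (w '' s)).IsPrime := by
  classical
  cases nonempty_fintype κ
  have hwm : ∀ c, w c ∈ maximalIdeal D := fun c => (mem_maximalIdeal _).mpr fun hu =>
    (mem_maximalIdeal _).mp (hw c) (hu.map φ)
  have hle : Ideal.span (w '' s) ≤ maximalIdeal D := Ideal.span_le.mpr (by rintro _ ⟨c, _, rfl⟩; exact hwm c)
  have hne : Ideal.span (w '' s) ≠ ⊤ := ne_top_of_le_ne_top (maximalIdeal.isMaximal D).ne_top hle
  haveI : IsRegularLocalRing (D ⧸ Ideal.span (w '' s)) := by
    refine AlgSpLib.SmoothRegular.isRegularLocalRing_quotient _ hne fun x hx hx2 => ?_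
    obtain ⟨l, hl, rfl⟩ := (Finsupp.mem_span_image_iff_linearCombination D).mp hx
    have hsum : Finsupp.linearCombination D w l = ∑ c, l c * w c := by
      rw [Finsupp.linearCombination_apply, Finsupp.sum_fintype _ _ (fun c => by simp)]
      rfl
    rw [hsum] at hx2 ⊢
    have h1 : φ (∑ c, l c * w c) ∈ maximalIdeal C ^ 2 := by
      have h2 : (maximalIdeal D ^ 2).map φ ≤ maximalIdeal C ^ 2 := by
        rw [Ideal.map_pow]
        refine Ideal.pow_right_mono (Ideal.map_le_iff_le_comap.mpr fun x hx => ?_) 2
        exact (mem_maximalIdeal _).mpr fun hu => (mem_maximalIdeal x).mp hx (isUnit_of_map_unit φ x hu)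
      exact h2 (Ideal.mem_map_of_mem φ hx2)
    let y : maximalIdeal C := ∑ c, φ (l c) • ⟨φ (w c), hw c⟩
    have hy : (y : C) = φ (∑ c, l c * w c) := by simp [y, map_sum]
    have h3 : ∑ c, residue C (φ (l c)) • (maximalIdeal C).toCotangent ⟨φ (w c), hw c⟩ = 0 := by
      have h4 : (maximalIdeal C).toCotangent y = 0 := (Ideal.toCotangent_eq_zero _ _).mpr (by rw [hy]; exact h1)
      rw [map_sum] at h4
      rw [← h4]
      exact Finset.sum_congr rfl fun c _ => by rw [map_smul]; rfl
    refine Ideal.sum_mem _ fun c _ => ?_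
    by_cases hc : c ∈ s
    · refine Ideal.mul_mem_mul ?_ (Ideal.subset_span ⟨c, hc, rfl⟩)
      rw [mem_maximalIdeal]
      intro hu
      exact (mem_maximalIdeal _).mp ((residue_eq_zero_iff _).mp (Fintype.linearIndependent_iff.mp hli _ h3 c)) (hu.map φ)
    · rw [show l c = 0 from by_contra fun h0 => hc (hl (Finsupp.mem_support_iff.mpr h0)), zero_mul]
      exact zero_mem _
  haveI := CAlgH3.isDomain_of_isRegularLocalRing (D ⧸ Ideal.span (w '' s))
  exact (Ideal.Quotient.isDomain_iff_prime _).mp inferInstance

theorem ColimSys.isRegularRing [IsNoetherianRing A] (hs : ColimSys g) (hr : ∀ i, IsRegularRing (G i)) :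
    IsRegularRing A := by
  classical
  refine isRegularRing_iff.mpr fun Q _ => ?_
  let C := Localization.AtPrime Q
  haveI : IsNoetherianRing C := IsLocalization.isNoetherianRing Q.primeCompl _ inferInstance
  let d := Module.finrank (ResidueField C) (CotangentSpace C)
  let b := Module.finBasis (ResidueField C) (CotangentSpace C)
  choose x hx using fun l => (maximalIdeal C).toCotangent_surjective (b l)
  choose a s has using fun l => IsLocalization.exists_mk'_eq Q.primeCompl ((x l : C))
  have ha : ∀ l, algebraMap A C (a l) = algebraMap A C (s l) * (x l : C) := fun l => by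
    rw [← has l, IsLocalization.mk'_spec']
  have ham : ∀ l, algebraMap A C (a l) ∈ maximalIdeal C := fun l => by
    rw [ha l]; exact Ideal.mul_mem_left _ _ (x l).2
  have hu : ∀ l, IsUnit (residue C (algebraMap A C (s l))) := fun l => (IsLocalization.map_units C (s l)).map _
  have hli : LinearIndependent (ResidueField C) fun l => (maximalIdeal C).toCotangent ⟨algebraMap A C (a l), ham l⟩ := by
    convert b.linearIndependent.units_smul (fun l => (hu l).unit) using 1
    funext l
    rw [show (⟨algebraMap A C (a l), ham l⟩ : maximalIdeal C) = algebraMap A C (s l) • x l from Subtype.ext (ha l),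
      map_smul, hx]
    rfl
  obtain ⟨i, z, hz⟩ := hs.lift_finite a
  let P : Set (Fin d) → Ideal C := fun S => Ideal.span ((fun l => algebraMap A C (a l)) '' S)
  have hPm : ∀ S, P S ≤ maximalIdeal C := fun S => Ideal.span_le.mpr (by rintro _ ⟨l, _, rfl⟩; exact ham l)
  have hP : ∀ S, (P S).IsPrime := fun S => by
    refine ⟨ne_top_of_le_ne_top (maximalIdeal.isMaximal C).ne_top (hPm S), fun {y w} hyw => ?_⟩
    obtain ⟨α, σ, rfl⟩ := IsLocalization.exists_mk'_eq Q.primeCompl y
    obtain ⟨β, τ, rfl⟩ := IsLocalization.exists_mk'_eq Q.primeCompl w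
    suffices h : algebraMap A C α ∈ P S ∨ algebraMap A C β ∈ P S by
      refine h.imp (fun h => ?_) (fun h => ?_) <;>
      · rw [IsLocalization.mk'_eq_mul_mk'_one]; exact Ideal.mul_mem_right _ _ h
    rw [← IsLocalization.mk'_mul] at hyw
    have hab : algebraMap A C (α * β) ∈ (Ideal.span (a '' S)).map (algebraMap A C) := by
      rw [Ideal.map_span, Set.image_image, ← IsLocalization.mk'_spec C (α * β) (σ * τ)]
      exact Ideal.mul_mem_right _ _ hyw
    obtain ⟨u, hu, huab⟩ := (IsLocalization.algebraMap_mem_map_algebraMap_iff Q.primeCompl C _ _).mp hab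
    obtain ⟨l, hl, hleq⟩ := (Finsupp.mem_span_image_iff_linearCombination A).mp huab
    rw [Finsupp.linearCombination_apply, Finsupp.sum_fintype _ _ (fun c => by simp)] at hleq
    obtain ⟨i', v, hv⟩ := hs.lift_finite (Sum.elim ![u, α, β] l)
    obtain ⟨k, ⟨hk⟩, ⟨hk'⟩⟩ := hs.dir i i'
    let v' := fun t => hk'.1 (v t)
    have hv' : ∀ t, g k (v' t) = Sum.elim ![u, α, β] l t := fun t => (hk'.apply _).trans (hv t)
    have hz' : ∀ c, g k (hk.1 (z c)) = a c := fun c => (hk.apply _).trans (hz c)
    obtain ⟨j, h, hh⟩ := hs.eq_finite (i := k) (κ := PUnit.{1})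
      (fun _ => v' (.inl 0) * (v' (.inl 1) * v' (.inl 2)))
      (fun _ => ∑ c, if c ∈ S then v' (.inr c) * hk.1 (z c) else 0) (fun _ => by
        simp only [map_mul, map_sum, hv', Sum.elim_inl]
        refine hleq.symm.trans (Finset.sum_congr rfl fun c _ => ?_)
        by_cases hc : c ∈ S
        · rw [if_pos hc, map_mul, hv', hz']; rfl
        · rw [if_neg hc, map_zero, show l c = 0 from by_contra fun h0 => hc (hl (Finsupp.mem_support_iff.mpr h0)), zero_smul])
    let w := fun c => h.1 (hk.1 (z c))
    have hw : ∀ c, g j (w c) = a c := fun c => (h.apply _).trans (hz' c)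
    let v'' := fun t => h.1 (v' t)
    have hv'' : ∀ t, g j (v'' t) = Sum.elim ![u, α, β] l t := fun t => (h.apply _).trans (hv' t)
    have heq : v'' (.inl 0) * (v'' (.inl 1) * v'' (.inl 2)) = ∑ c, if c ∈ S then v'' (.inr c) * w c else 0 := by
      have := hh PUnit.unit
      simp only [map_mul, map_sum] at this
      rw [show v'' (.inl 0) * (v'' (.inl 1) * v'' (.inl 2)) = _ from this]
      refine Finset.sum_congr rfl fun c _ => ?_
      by_cases hc : c ∈ S
      · rw [if_pos hc, if_pos hc, map_mul]
      · rw [if_neg hc, if_neg hc, map_zero]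
    let Qj := Q.comap (g j : G j →+* A)
    haveI : Qj.IsPrime := Ideal.comap_isPrime _ _
    let D := Localization.AtPrime Qj
    haveI : IsRegularLocalRing D := (hr j).isRegularLocalRing_localization Qj
    let φ : D →+* C := Localization.localRingHom Qj Q (g j : G j →+* A) rfl
    haveI : IsLocalHom φ := Localization.isLocalHom_localRingHom Qj Q _ rfl
    have hφ : ∀ t, φ (algebraMap (G j) D t) = algebraMap A C (g j t) := fun t =>
      Localization.localRingHom_to_map Qj Q _ rfl t
    have hwm : ∀ c, φ (algebraMap (G j) D (w c)) ∈ maximalIdeal C := fun c => by rw [hφ, hw]; exact ham c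
    have hJ := isPrime_span_of_linearIndependent φ (fun c => algebraMap (G j) D (w c)) hwm
      (by convert hli using 1; funext c; congr 1; exact Subtype.ext ((hφ _).trans (congrArg _ (hw c)))) S
    have hmap : (Ideal.span ((fun c => algebraMap (G j) D (w c)) '' S)).map φ ≤ P S := by
      rw [Ideal.map_span, Set.image_image]
      refine Ideal.span_mono ?_
      rintro _ ⟨c, hc, rfl⟩
      exact ⟨c, hc, by simp only [hφ, hw]⟩
    have h0 : IsUnit (algebraMap (G j) D (v'' (.inl 0))) := IsLocalization.map_units D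
      (⟨v'' (.inl 0), fun hmem => hu (by
        have : g j (v'' (.inl 0)) ∈ Q := hmem
        rwa [hv''] at this)⟩ : Qj.primeCompl)
    have hmem : algebraMap (G j) D (v'' (.inl 1)) * algebraMap (G j) D (v'' (.inl 2))
        ∈ Ideal.span ((fun c => algebraMap (G j) D (w c)) '' S) := by
      rw [← (Ideal.span _).unit_mul_mem_iff_mem h0, ← map_mul, ← map_mul, heq, map_sum]
      refine Ideal.sum_mem _ fun c _ => ?_
      by_cases hc : c ∈ S
      · rw [if_pos hc, map_mul]; exact Ideal.mul_mem_left _ _ (Ideal.subset_span ⟨c, hc, rfl⟩)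
      · rw [if_neg hc, map_zero]; exact zero_mem _
    rcases hJ.mem_or_mem hmem with h1 | h1
    · left
      have := hmap (Ideal.mem_map_of_mem φ h1)
      rwa [hφ, hv''] at this
    · right
      have := hmap (Ideal.mem_map_of_mem φ h1)
      rwa [hφ, hv''] at this
  refine IsRegularLocalRing.of_spanFinrank_maximalIdeal_le C ?_
  rw [IsLocalRing.spanFinrank_maximalIdeal_eq_finrank_cotangentSpace]
  let c : Fin (d + 1) → PrimeSpectrum C := fun l => ⟨P {t | (t : ℕ) < (l : ℕ)}, hP _⟩
  have hc : StrictMono c := Fin.strictMono_iff_lt_succ.mpr fun l => by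
    refine lt_of_le_of_ne (show P _ ≤ P _ from Ideal.span_mono (Set.image_mono fun t ht => ?_)) fun heq => ?_
    · show (t : ℕ) < (l.succ : ℕ)
      exact lt_of_lt_of_le ht (by simp)
    · have h1 : algebraMap A C (a l) ∈ P {t | (t : ℕ) < (l.castSucc : ℕ)} := by
        rw [show P {t | (t : ℕ) < (l.castSucc : ℕ)} = P {t | (t : ℕ) < (l.succ : ℕ)} from congrArg PrimeSpectrum.asIdeal heq]
        exact Ideal.subset_span ⟨l, (by show (l : ℕ) < (l.succ : ℕ); simp), rfl⟩
      let S : Set (Fin d) := {t | (t : ℕ) < (l.castSucc : ℕ)}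
      obtain ⟨k, hk, hkeq⟩ := (Finsupp.mem_span_image_iff_linearCombination C).mp h1
      rw [Finsupp.linearCombination_apply, Finsupp.sum_fintype _ _ (fun c => by simp)] at hkeq
      have h2 : (maximalIdeal C).toCotangent ⟨algebraMap A C (a l), ham l⟩
          = ∑ t, residue C (k t) • (maximalIdeal C).toCotangent ⟨algebraMap A C (a t), ham t⟩ := by
        rw [show (⟨algebraMap A C (a l), ham l⟩ : maximalIdeal C) = ∑ t, k t • ⟨algebraMap A C (a t), ham t⟩ from
          Subtype.ext (by simpa [smul_eq_mul] using hkeq.symm), map_sum]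
        exact Finset.sum_congr rfl fun t _ => by rw [map_smul]; rfl
      refine hli.notMem_span_image (s := S) (x := l) (fun h : (l : ℕ) < (l.castSucc : ℕ) => by simp at h) ?_
      rw [h2]
      refine Submodule.sum_mem _ fun t _ => ?_
      by_cases ht : t ∈ S
      · exact Submodule.smul_mem _ _ (Submodule.subset_span ⟨t, ht, rfl⟩)
      · rw [show k t = 0 from by_contra fun h0 => ht (hk (Finsupp.mem_support_iff.mpr h0)), map_zero, zero_smul]
        exact zero_mem _
  have := Order.LTSeries.length_le_krullDim (LTSeries.mk d c hc)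
  exact this

end Groth.Agent.CAlgH
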