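import Mathlib
import Groth.Agent.CAlgH.AdicSmoothGeom
import Groth.Agent.CAlgH.AdicSmoothModel
import Groth.Agent.CAlgH.RegularSmooth
import Groth.Agent.AlgSpLib.SmoothRegular
import Groth.Agent.CAlgH3.MiracleFlat

/-! Parameters of a geometrically regular local algebra coming from independent differentials. -/
universe u
open IsLocalRing KaehlerDifferential

namespace Groth.Agent.CAlgH

set_option maxHeartbeats 800000 in
/-- Elements independent modulo `m_P ^ 2` with vanishing differentials stay independent in `A`. -/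
theorem mem_maximalIdeal_of_sum_mem_sq {k P A : Type u} [CommRing k] [CommRing P] [IsLocalRing P] [IsNoetherianRing P]
    [CommRing A] [IsLocalRing A] [Algebra k P] [Algebra k A] [Algebra P A] [IsScalarTower k P A]
    [IsLocalHom (algebraMap P A)] (hA : CAlgX.IsAdicFormallySmooth k A (maximalIdeal A))
    (hd : ∀ v ∈ maximalIdeal P, D k P v ∈ (maximalIdeal P • ⊤ : Submodule P Ω[P⁄k]))
    {r : ℕ} (v : Fin r → P) (hv : ∀ i, v i ∈ maximalIdeal P)
    (hind : ∀ c : Fin r → P, ∑ i, c i * v i ∈ maximalIdeal P ^ 2 → ∀ i, c i ∈ maximalIdeal P)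
    (a : Fin r → A) (ha : ∑ i, a i * algebraMap P A (v i) ∈ maximalIdeal A ^ 2) (i : Fin r) : a i ∈ maximalIdeal A := by
  let I := maximalIdeal P ^ 2
  have hI : I ≤ maximalIdeal P := Ideal.pow_le_self two_ne_zero
  haveI : Nontrivial (P ⧸ I) := Ideal.Quotient.nontrivial_iff.mpr (ne_top_of_le_ne_top (maximalIdeal.isMaximal P).ne_top hI)
  haveI : IsLocalRing (P ⧸ I) := IsLocalRing.of_surjective' _ Ideal.Quotient.mk_surjective
  have hm : (maximalIdeal P).map (Ideal.Quotient.mk I) = maximalIdeal (P ⧸ I) :=
    IsLocalRing.map_maximalIdeal_of_surjective _ Ideal.Quotient.mk_surjective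
  have hm2 : maximalIdeal (P ⧸ I) ^ 2 = ⊥ := by rw [← hm, ← Ideal.map_pow]; exact Ideal.map_quotient_self I
  haveI : IsAdicComplete (maximalIdeal (P ⧸ I)) (P ⧸ I) := AdicSmooth.isAdicComplete_of_pow_eq_bot hm2
  let α : P ⧸ I →+* ResidueField P := Ideal.Quotient.factor hI
  letI : Algebra (ResidueField P) (ResidueField A) := (ResidueField.map (algebraMap P A)).toAlgebra
  haveI : IsAdicComplete (maximalIdeal (ResidueField A)) (ResidueField A) :=
    AdicSmooth.isAdicComplete_of_pow_eq_bot (m := 1) (by rw [pow_one]; exact maximalIdeal_eq_bot)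
  obtain ⟨C, _, _, _, ρ, -, -, hflat, -, hρs, hρker, hρg⟩ :=
    AdicSmooth.exists_flat_lift (P ⧸ I) α (Ideal.Quotient.factor_surjective hI) (ResidueField A)
  let g : P →+* C := (algebraMap (P ⧸ I) C).comp (Ideal.Quotient.mk I)
  letI : Algebra P C := g.toAlgebra
  letI : Algebra k C := (g.comp (algebraMap k P)).toAlgebra
  haveI : IsScalarTower k P C := IsScalarTower.of_algebraMap_eq fun _ => rfl
  let J := RingHom.ker ρ
  have hJ : J ^ 2 = ⊥ := by
    show RingHom.ker ρ ^ 2 = ⊥
    rw [hρker, ← Ideal.map_pow, hm2, Ideal.map_bot]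
  have hρgP : ∀ x, ρ (g x) = residue A (algebraMap P A x) := fun x =>
    (RingHom.congr_fun hρg (Ideal.Quotient.mk I x)).trans (ResidueField.map_residue (algebraMap P A) x)
  let q := RingHom.quotientKerEquivOfSurjective hρs
  obtain ⟨χ, hχ1, hχ2⟩ := AdicSmooth.exists_lift_ringHom hA (algebraMap k C) J hJ
    (q.symm.toRingHom.comp (residue A))
    (RingHom.ext fun c => q.symm_apply_eq.mpr (by
      show residue A (algebraMap k A c) = ρ (g (algebraMap k P c))
      rw [hρgP, ← IsScalarTower.algebraMap_apply]))
    ⟨1, fun x hx => by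
      rw [pow_one] at hx
      show q.symm (residue A x) = 0
      rw [(residue_eq_zero_iff x).mpr hx, map_zero]⟩
  have hχρ : ∀ x, ρ (χ x) = residue A x := fun x => by
    have h1 : Ideal.Quotient.mk J (χ x) = q.symm (residue A x) := RingHom.congr_fun hχ2 x
    rw [RingEquiv.eq_symm_apply] at h1
    exact h1
  have hdiff : ∀ x, χ (algebraMap P A x) - g x ∈ J := fun x => by
    rw [RingHom.mem_ker, map_sub, hχρ, hρgP, sub_self]
  let δ : P →ₗ[k] J :=
    { toFun := fun x => ⟨χ (algebraMap P A x) - g x, hdiff x⟩
      map_add' := fun x y => Subtype.ext (by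
        show χ (algebraMap P A (x + y)) - g (x + y) = (χ (algebraMap P A x) - g x) + (χ (algebraMap P A y) - g y)
        rw [map_add, map_add, map_add]; ring)
      map_smul' := fun c x => Subtype.ext (by
        show χ (algebraMap P A (c • x)) - g (c • x) = c • (χ (algebraMap P A x) - g x)
        rw [Algebra.smul_def, map_mul, ← IsScalarTower.algebraMap_apply k P A, map_mul, map_mul,
          show χ (algebraMap k A c) = algebraMap k C c from RingHom.congr_fun hχ1 c, Algebra.smul_def]
        show algebraMap k C c * _ - algebraMap k C c * _ = _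
        ring) }
  let Dv : Derivation k P J := Derivation.mk' δ fun x y => Subtype.ext (by
    show χ (algebraMap P A (x * y)) - g (x * y)
      = g x * (χ (algebraMap P A y) - g y) + g y * (χ (algebraMap P A x) - g x)
    have h0 : (χ (algebraMap P A x) - g x) * (χ (algebraMap P A y) - g y) = 0 := by
      rw [← Ideal.mem_bot, ← hJ, pow_two]
      exact Ideal.mul_mem_mul (hdiff x) (hdiff y)
    rw [map_mul, map_mul, map_mul]
    linear_combination h0)
  have hgm : ∀ x ∈ maximalIdeal P, g x ∈ J := fun x hx => by
    rw [RingHom.mem_ker, hρgP, residue_eq_zero_iff]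
    exact (mem_maximalIdeal _).mpr fun hu => (mem_maximalIdeal x).mp hx (isUnit_of_map_unit _ x hu)
  have hgv : ∀ i, χ (algebraMap P A (v i)) = g (v i) := fun i => by
    have h0 : Dv.liftKaehlerDifferential (D k P (v i)) = 0 := by
      refine Submodule.smul_induction_on (hd _ (hv i)) (fun x hx ω _ => ?_) (fun a b ha hb => by rw [map_add, ha, hb, add_zero])
      rw [map_smul]
      refine Subtype.ext ?_
      show g x * (Dv.liftKaehlerDifferential ω : C) = 0
      rw [← Ideal.mem_bot, ← hJ, pow_two]
      exact Ideal.mul_mem_mul (hgm x hx) (Dv.liftKaehlerDifferential ω).2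
    rw [Derivation.liftKaehlerDifferential_comp_D] at h0
    exact sub_eq_zero.mp (congrArg Subtype.val h0)
  have h2 : χ (∑ i, a i * algebraMap P A (v i)) = 0 := by
    have h3 : (maximalIdeal A).map χ ≤ J := Ideal.map_le_iff_le_comap.mpr fun x hx => by
      show χ x ∈ RingHom.ker ρ
      rw [RingHom.mem_ker, hχρ, residue_eq_zero_iff]; exact hx
    have h4 := Ideal.pow_right_mono h3 2 (by rw [← Ideal.map_pow]; exact Ideal.mem_map_of_mem χ ha)
    rwa [hJ, Ideal.mem_bot] at h4
  have h5 : ∑ i, Ideal.Quotient.mk I (v i) • χ (a i) = 0 := by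
    rw [map_sum] at h2
    rw [← h2]
    refine Finset.sum_congr rfl fun i _ => ?_
    rw [map_mul, hgv, Algebra.smul_def, mul_comm]
    rfl
  haveI := hflat
  obtain ⟨κ', cf, y, hcy, hc0⟩ := Module.Flat.isTrivialRelation_of_sum_smul_eq_zero (R := P ⧸ I) (M := C) (f := fun i => Ideal.Quotient.mk I (v i)) (x := fun i => χ (a i)) h5
  beta_reduce at hcy hc0
  have h6 : χ (a i) ∈ J := by
    rw [hcy i]
    refine Submodule.sum_mem _ fun j _ => ?_
    choose c hc using fun i => Ideal.Quotient.mk_surjective (cf i j)
    have h7 : ∑ i, c i * v i ∈ maximalIdeal P ^ 2 := by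
      rw [← Ideal.Quotient.eq_zero_iff_mem, map_sum, ← hc0 j]
      exact Finset.sum_congr rfl fun i _ => by rw [map_mul, hc, mul_comm]
    rw [Algebra.smul_def, ← hc i]
    exact Ideal.mul_mem_right _ _ (hgm _ (hind c h7 i))
  rw [RingHom.mem_ker, hχρ, residue_eq_zero_iff] at h6
  exact h6

theorem derivation_eq_sum_pderiv {k : Type u} [CommRing k] {m : ℕ} {M : Type u} [AddCommGroup M] [Module k M]
    [Module (MvPolynomial (Fin m) k) M] [IsScalarTower k (MvPolynomial (Fin m) k) M]
    (Dm : Derivation k (MvPolynomial (Fin m) k) M) (f : MvPolynomial (Fin m) k) :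
    Dm f = ∑ j, MvPolynomial.pderiv j f • Dm (MvPolynomial.X j) := by
  induction f using MvPolynomial.induction_on with
  | C a => simp [← MvPolynomial.algebraMap_eq]
  | add p q hp hq => simp only [map_add, add_smul, Finset.sum_add_distrib, hp, hq]
  | mul_X p i hp =>
    rw [Derivation.leibniz, hp, Finset.smul_sum]
    simp only [Derivation.leibniz, smul_eq_mul, add_smul, mul_smul, Finset.sum_add_distrib]
    congr 1
    rw [Finset.sum_eq_single i]
    · rw [MvPolynomial.pderiv_X_self, one_smul]
    · intro j _ hj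
      rw [MvPolynomial.pderiv_X_of_ne (Ne.symm hj), zero_smul, smul_zero]
    · simp

/-- Flatness over, and regularity modulo, independent parameters. -/
theorem flat_and_regular_quotient {k P A : Type u} [CommRing k] [CommRing P] [IsRegularLocalRing P]
    [CommRing A] [IsRegularLocalRing A] [Algebra k P] [Algebra k A] [Algebra P A] [IsScalarTower k P A]
    [IsLocalHom (algebraMap P A)] (hA : CAlgX.IsAdicFormallySmooth k A (maximalIdeal A))
    (hd : ∀ v ∈ maximalIdeal P, D k P v ∈ (maximalIdeal P • ⊤ : Submodule P Ω[P⁄k])) :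
    Module.Flat P A ∧ IsRegularLocalRing (A ⧸ (maximalIdeal P).map (algebraMap P A)) := by
  classical
  let r := Module.finrank (ResidueField P) (CotangentSpace P)
  let b := Module.finBasis (ResidueField P) (CotangentSpace P)
  choose v hv using fun i => (maximalIdeal P).toCotangent_surjective (b i)
  have hind : ∀ c : Fin r → P, ∑ i, c i * (v i : P) ∈ maximalIdeal P ^ 2 → ∀ i, c i ∈ maximalIdeal P := fun c hc i => by
    have h1 : (maximalIdeal P).toCotangent (∑ i, c i • v i) = 0 := (Ideal.toCotangent_eq_zero _ _).mpr (by simpa using hc)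
    have h2 : ∑ i, residue P (c i) • b i = 0 := by
      rw [← h1, map_sum]
      exact Finset.sum_congr rfl fun i _ => by rw [map_smul, hv]; rfl
    exact (residue_eq_zero_iff _).mp (Fintype.linearIndependent_iff.mp b.linearIndependent _ h2 i)
  have hkey := fun a ha i => mem_maximalIdeal_of_sum_mem_sq hA hd (fun i => (v i : P)) (fun i => (v i).2) hind a ha i
  have hspan : Ideal.span (Set.range fun i => (v i : P)) = maximalIdeal P := by
    have h1 : Submodule.span P (Set.range v) = ⊤ := by
      rw [← CotangentSpace.span_image_eq_top_iff, ← Set.range_comp,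
        show (maximalIdeal P).toCotangent ∘ v = b from funext hv, b.span_eq]
    have h2 := congrArg (Submodule.map (maximalIdeal P).subtype) h1
    rw [Submodule.map_span, Submodule.map_top, Submodule.range_subtype, ← Set.range_comp] at h2
    exact h2
  let I := (maximalIdeal P).map (algebraMap P A)
  have hI : I = Ideal.span (Set.range fun i => algebraMap P A (v i)) := by
    refine (congrArg (Ideal.map (algebraMap P A)) hspan.symm).trans ?_
    rw [Ideal.map_span, ← Set.range_comp]
    rfl
  have hwm : ∀ i, algebraMap P A (v i) ∈ maximalIdeal A := fun i =>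
    (mem_maximalIdeal _).mpr fun hu => (mem_maximalIdeal _).mp (v i).2 (isUnit_of_map_unit _ _ hu)
  have hIm : I ≤ maximalIdeal A := hI ▸ Ideal.span_le.mpr (by rintro _ ⟨i, rfl⟩; exact hwm i)
  have hIne : I ≠ ⊤ := ne_top_of_le_ne_top (maximalIdeal.isMaximal A).ne_top hIm
  haveI hreg : IsRegularLocalRing (A ⧸ I) := by
    refine AlgSpLib.SmoothRegular.isRegularLocalRing_quotient I hIne fun x hx hx2 => ?_
    rw [hI, Ideal.mem_span_range_iff_exists_fun] at hx
    obtain ⟨c, rfl⟩ := hx
    rw [hI]
    exact Ideal.sum_mem _ fun i _ => Ideal.mul_mem_mul (hkey c hx2 i) (Ideal.subset_span ⟨i, rfl⟩)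
  refine ⟨?_, hreg⟩
  let w : Fin r → CotangentSpace A := fun i => (maximalIdeal A).toCotangent ⟨_, hwm i⟩
  have hli : LinearIndependent (ResidueField A) w := by
    refine Fintype.linearIndependent_iff.mpr fun c hc i => ?_
    choose a ha using fun i => residue_surjective (c i)
    rw [← ha i, residue_eq_zero_iff]
    refine hkey a ?_ i
    have h1 : (maximalIdeal A).toCotangent (∑ i, a i • ⟨_, hwm i⟩) = 0 := by
      rw [map_sum, ← hc]
      exact Finset.sum_congr rfl fun i _ => by rw [map_smul, ← ha i]; rfl
    simpa using (Ideal.toCotangent_eq_zero _ _).mp h1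
  let W := Submodule.span (ResidueField A) (Set.range w)
  obtain ⟨W', hW'⟩ := W.exists_isCompl
  have hWrank : Module.finrank (ResidueField A) W = r := by
    rw [finrank_span_eq_card hli, Fintype.card_fin]
  let e := Module.finBasis (ResidueField A) W'
  choose g' hg' using fun j => (maximalIdeal A).toCotangent_surjective (e j : CotangentSpace A)
  have hG : Submodule.span A (Set.range (fun i => (⟨_, hwm i⟩ : maximalIdeal A)) ∪ Set.range g') = ⊤ := by
    rw [← CotangentSpace.span_image_eq_top_iff, Set.image_union, ← Set.range_comp, ← Set.range_comp, Submodule.span_union,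
      eq_top_iff, ← hW'.sup_eq_top]
    refine sup_le_sup le_rfl ?_
    rw [show (maximalIdeal A).toCotangent ∘ g' = W'.subtype ∘ e from funext hg', Set.range_comp, ← Submodule.map_span,
      e.span_eq, Submodule.map_top, Submodule.range_subtype]
  have hmA : maximalIdeal A = I ⊔ Ideal.span (Set.range fun j => (g' j : A)) := by
    have h2 := congrArg (Submodule.map (maximalIdeal A).subtype) hG
    rw [Submodule.map_span, Submodule.map_top, Submodule.range_subtype, Set.image_union, ← Set.range_comp, ← Set.range_comp,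
      Submodule.span_union] at h2
    rw [hI]
    exact h2.symm
  have hdimq : ringKrullDim (A ⧸ I) + r ≤ ringKrullDim A := by
    have h1 : (maximalIdeal (A ⧸ I)).spanFinrank ≤ Module.finrank (ResidueField A) W' := by
      rw [← IsLocalRing.map_maximalIdeal_of_surjective (Ideal.Quotient.mk I) Ideal.Quotient.mk_surjective]
      refine le_of_eq_of_le (congrArg (fun K => (Ideal.map (Ideal.Quotient.mk I) K).spanFinrank) hmA) ?_
      rw [Ideal.map_sup, Ideal.map_quotient_self, bot_sup_eq, Ideal.map_span, ← Set.range_comp]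
      refine (Submodule.spanFinrank_span_le_ncard_of_finite (Set.finite_range _)).trans ?_
      rw [← Set.image_univ]
      exact (Set.ncard_image_le Set.finite_univ).trans (by rw [Set.ncard_univ, Nat.card_fin])
    have h3 : Module.finrank (ResidueField A) W' + r = (maximalIdeal A).spanFinrank := by
      rw [IsLocalRing.spanFinrank_maximalIdeal_eq_finrank_cotangentSpace, ← hWrank, add_comm,
        Submodule.finrank_add_eq_of_isCompl hW']
    rw [← IsRegularLocalRing.spanFinrank_maximalIdeal, ← IsRegularLocalRing.spanFinrank_maximalIdeal (R := A)]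
    exact_mod_cast (Nat.add_le_add_right h1 r).trans h3.le
  have hP : ringKrullDim P = (r : WithBot ℕ∞) := by
    rw [← IsRegularLocalRing.spanFinrank_maximalIdeal, IsLocalRing.spanFinrank_maximalIdeal_eq_finrank_cotangentSpace]
  have hle : ringKrullDim A ≤ ringKrullDim (A ⧸ I) + r := by
    refine (ringKrullDim_le_ringKrullDim_quotient_add_spanFinrank I ?_).trans (add_le_add_right (Nat.cast_le.mpr ?_) _)
    · rw [IsLocalRing.ringJacobson_eq_maximalIdeal]; exact hIm
    · rw [hI]
      refine (Submodule.spanFinrank_span_le_ncard_of_finite (Set.finite_range _)).trans ?_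
      rw [← Set.image_univ]
      exact (Set.ncard_image_le Set.finite_univ).trans (by rw [Set.ncard_univ, Nat.card_fin])
  haveI : LocCoh.IsCohenMacaulayLocalRing A := CAlgH3.isCohenMacaulayLocalRing_of_regular A
  refine CAlgH3.flat_of_dim_eq _ P rfl A (le_antisymm ?_ ?_) <;> rw [hP, add_comm]
  · exact hle
  · exact hdimq

theorem mem_smul_top_of_mk' {k R P : Type u} [CommRing k] [CommRing R] [CommRing P] [IsLocalRing P] [Algebra k R] [Algebra k P]
    [Algebra R P] [IsScalarTower k R P] {m : ℕ} (x : Fin m → R) (M : Submonoid R) [IsLocalization M P] (f : R) (s : M)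
    (g : Fin m → R) (hg : ∀ j, algebraMap R P (g j) ∈ maximalIdeal P) (hf : algebraMap R P f ∈ maximalIdeal P)
    (hD : D k R f = ∑ j, g j • D k R (x j)) :
    D k P (IsLocalization.mk' P f s) ∈ (maximalIdeal P • ⊤ : Submodule P Ω[P⁄k]) := by
  have hu := IsLocalization.map_units P s
  have hv : IsLocalization.mk' P f s ∈ maximalIdeal P := by
    rw [← IsLocalization.mk'_spec P f s] at hf
    exact ((maximalIdeal.isMaximal P).isPrime.mem_or_mem hf).resolve_right fun h => (mem_maximalIdeal _).mp h hu
  have h1 : algebraMap R P s • D k P (IsLocalization.mk' P f s) =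
      D k P (algebraMap R P f) - IsLocalization.mk' P f s • D k P (algebraMap R P s) := by
    rw [← IsLocalization.mk'_spec P f s, Derivation.leibniz]; abel
  have h2 : D k P (algebraMap R P f) ∈ (maximalIdeal P • ⊤ : Submodule P Ω[P⁄k]) := by
    rw [← KaehlerDifferential.map_D k k R P f, hD, map_sum]
    refine Submodule.sum_mem _ fun j _ => ?_
    rw [LinearMap.map_smul, KaehlerDifferential.map_D, ← algebraMap_smul P (g j)]
    exact Submodule.smul_mem_smul (hg j) Submodule.mem_top
  have h3 := sub_mem h2 (Submodule.smul_mem_smul hv (Submodule.mem_top : D k P (algebraMap R P s) ∈ (⊤ : Submodule P Ω[P⁄k])))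
  rw [← h1] at h3
  obtain ⟨u, hu'⟩ := hu
  rw [← hu'] at h3
  simpa using Submodule.smul_mem _ (↑u⁻¹ : P) h3

/-- Parameters with independent differentials in a residue subfield. -/
theorem flat_and_regular_of_linearIndependent {k A : Type u} [Field k] [CommRing A] [IsLocalRing A] [IsNoetherianRing A]
    [Algebra k A] (hA : CAlg.IsGeometricallyRegular k A) (F : IntermediateField k (ResidueField A)) (m : ℕ)
    (φ : MvPolynomial (Fin m) k →ₐ[k] A) (hφ : ∀ i : Fin m, residue A (φ (MvPolynomial.X i)) ∈ F)
    (hli : LinearIndependent F (fun i : Fin m => D k F ⟨residue A (φ (MvPolynomial.X i)), hφ i⟩)) :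
    letI := φ.toRingHom.toAlgebra
    Module.Flat (MvPolynomial (Fin m) k) A ∧
      IsRegularLocalRing (A ⧸ Ideal.map φ.toRingHom (Ideal.comap φ.toRingHom (maximalIdeal A))) := by
  letI : Algebra (MvPolynomial (Fin m) k) A := φ.toRingHom.toAlgebra
  haveI : IsScalarTower k (MvPolynomial (Fin m) k) A := IsScalarTower.of_algebraMap_eq fun c => (φ.commutes c).symm
  let R := MvPolynomial (Fin m) k
  let p := (maximalIdeal A).comap φ.toRingHom
  haveI : p.IsPrime := Ideal.comap_isPrime _ _
  let P := Localization.AtPrime p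
  haveI : Algebra.Smooth k R := ⟨inferInstance, inferInstance⟩
  haveI : IsRegularRing R := isRegularRing_of_smooth k R
  haveI : IsRegularLocalRing P := IsRegularRing.isRegularLocalRing_localization p
  have hu : ∀ y : p.primeCompl, IsUnit (φ.toRingHom y) := fun y => IsLocalRing.notMem_maximalIdeal.mp y.2
  letI : Algebra P A := (IsLocalization.lift hu).toAlgebra
  haveI : IsScalarTower R P A := IsScalarTower.of_algebraMap_eq fun x => (IsLocalization.lift_eq hu x).symm
  haveI : IsScalarTower k P A := IsScalarTower.of_algebraMap_eq fun c => by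
    rw [IsScalarTower.algebraMap_apply k R A, IsScalarTower.algebraMap_apply R P A, ← IsScalarTower.algebraMap_apply k R P]
  haveI : IsLocalHom (algebraMap P A) := by
    refine ⟨fun z hz => ?_⟩
    obtain ⟨b, s, rfl⟩ := IsLocalization.exists_mk'_eq p.primeCompl z
    refine (IsLocalization.AtPrime.isUnit_mk'_iff P p b s).mpr fun hb => (mem_maximalIdeal _).mp hb ?_
    have h1 := hz.mul (hu s)
    rwa [show algebraMap P A (IsLocalization.mk' P b s) * φ.toRingHom s = φ.toRingHom b by
      rw [show φ.toRingHom (s : R) = algebraMap P A (algebraMap R P s) from (IsLocalization.lift_eq hu _).symm, ← map_mul,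
        IsLocalization.mk'_spec]
      exact IsLocalization.lift_eq hu b] at h1
  haveI : IsRegularRing A := isRegularRing_of_isGeometricallyRegular hA
  haveI : IsRegularLocalRing A := IsRegularLocalRing.of_isRegularRing_of_isLocalRing A
  obtain ⟨y, hy⟩ : ∃ y : Fin m → F, ∀ i, y i = ⟨residue A (φ (MvPolynomial.X i)), hφ i⟩ := ⟨_, fun _ => rfl⟩
  let ev : R →ₐ[k] F := MvPolynomial.aeval y
  have hev : ∀ f, (ev f : ResidueField A) = residue A (φ f) := fun f => by
    have : F.val.comp ev = (IsScalarTower.toAlgHom k A (ResidueField A)).comp φ :=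
      MvPolynomial.algHom_ext fun i => by simp [ev, hy]
    exact DFunLike.congr_fun this f
  have hpd : ∀ f ∈ p, ∀ j, MvPolynomial.pderiv j f ∈ p := by
    intro f hf
    letI : Algebra R F := ev.toRingHom.toAlgebra
    haveI : IsScalarTower k R F := IsScalarTower.of_algebraMap_eq fun c => (ev.commutes c).symm
    have h1 := derivation_eq_sum_pderiv ((D k F).compAlgebraMap R) f
    have h0 : algebraMap R F f = 0 := Subtype.ext ((hev f).trans ((residue_eq_zero_iff _).mpr hf))
    change D k F (algebraMap R F f) = _ at h1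
    rw [h0, map_zero] at h1
    have h2 : ∑ j, ev (MvPolynomial.pderiv j f) • D k F (y j) = 0 := by
      rw [h1]
      refine Finset.sum_congr rfl fun j _ => ?_
      show _ = ev (MvPolynomial.pderiv j f) • D k F (ev (MvPolynomial.X j))
      rw [show ev (MvPolynomial.X j) = y j from MvPolynomial.aeval_X y j]
    intro j
    have h3 := Fintype.linearIndependent_iff.mp hli (fun j => ev (MvPolynomial.pderiv j f))
      (by rw [← h2]; simp only [hy]) j
    show φ (MvPolynomial.pderiv j f) ∈ maximalIdeal A
    rw [← residue_eq_zero_iff, ← hev, h3]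
    rfl
  have hd : ∀ v ∈ maximalIdeal P, D k P v ∈ (maximalIdeal P • ⊤ : Submodule P Ω[P⁄k]) := by
    intro v hv
    obtain ⟨f, s, rfl⟩ := IsLocalization.exists_mk'_eq p.primeCompl v
    have hf : f ∈ p := (IsLocalization.AtPrime.mk'_mem_maximal_iff P p f s).mp hv
    have hmem : ∀ g ∈ p, algebraMap R P g ∈ maximalIdeal P := fun g hg => (IsLocalization.AtPrime.to_map_mem_maximal_iff P p g).mpr hg
    exact mem_smul_top_of_mk' (fun j => MvPolynomial.X j) p.primeCompl f s _ (fun j => hmem _ (hpd f hf j)) (hmem f hf)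
      (derivation_eq_sum_pderiv (D k R) f)
  obtain ⟨hflat, hreg⟩ := flat_and_regular_quotient (AdicSmooth.of_isGeometricallyRegular hA) hd
  refine ⟨Module.Flat.trans R P A, ?_⟩
  have heq : Ideal.map φ.toRingHom p = (maximalIdeal P).map (algebraMap P A) := by
    rw [← IsLocalization.AtPrime.map_eq_maximalIdeal p P, Ideal.map_map, ← IsScalarTower.algebraMap_eq]
    rfl
  exact IsRegularLocalRing.of_ringEquiv (Ideal.quotEquivOfEq heq.symm)

end Groth.Agent.CAlgH
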