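import Mathlib
import Groth.Prelude.Def_BlowUp2
import Groth.Agent.S4991
import Groth.Agent.S0564
import Groth.Agent.S1682
import Groth.Agent.BlowUpLib.Proper
import Groth.Agent.Misc15.StalkLoc
import Groth.Agent.CAlgH.CIImmersion
import Groth.Agent.CAlgH3.RegularCore

/-! Regularity off the centre from regularity of the exceptional divisor. -/

set_option autoImplicit false
set_option backward.isDefEq.respectTransparency.types false
universe u

open CategoryTheory AlgebraicGeometry IsLocalRing

namespace Groth.Agent.CAlgH.RegularGenerization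

theorem isRegularLocalRing_of_specializes {X : Scheme.{u}} {z x : X} (h : z ⤳ x)
    [IsRegularLocalRing (X.presheaf.stalk x)] : IsRegularLocalRing (X.presheaf.stalk z) := by
  letI := (X.presheaf.stalkSpecializes h).hom.toAlgebra
  haveI hl := Misc15.isLocalization_stalkSpecializes h
  let P := (maximalIdeal (X.presheaf.stalk z)).comap (X.presheaf.stalkSpecializes h).hom
  have hP : (IsUnit.submonoid (X.presheaf.stalk z)).comap (X.presheaf.stalkSpecializes h).hom = P.primeCompl := by
    ext a
    exact (IsLocalRing.notMem_maximalIdeal (x := (X.presheaf.stalkSpecializes h).hom a)).symm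
  haveI : IsLocalization.AtPrime (X.presheaf.stalk z) P := by
    unfold IsLocalization.AtPrime; rw [← hP]; exact hl
  haveI := _root_.Groth.Agent.S0564.result (X.presheaf.stalk x) P
  exact IsRegularLocalRing.of_ringEquiv
    (IsLocalization.algEquiv P.primeCompl (Localization.AtPrime P) (X.presheaf.stalk z)).toRingEquiv

/-- If a Cartier divisor has a regular local ring at a point, so does the ambient scheme. -/
theorem isRegularLocalRing_of_effCartier {X : Scheme.{u}} [IsLocallyNoetherian X] {E : X.IdealSheafData}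
    (hE : BlowUp.IsEffCartierIdeal E) (x : E.subscheme) [IsRegularLocalRing (E.subscheme.presheaf.stalk x)] :
    IsRegularLocalRing (X.presheaf.stalk (E.subschemeι x)) := by
  obtain ⟨U, hxU, f, hf, hI⟩ := hE (E.subschemeι x)
  let := X.presheaf.algebra_section_stalk ⟨E.subschemeι x, hxU⟩
  have := U.2.isLocalization_stalk ⟨E.subschemeι x, hxU⟩
  let t := (X.presheaf.germ U.1 (E.subschemeι x) hxU).hom f
  have hker : RingHom.ker (E.subschemeι.stalkMap x).hom = Ideal.span {t} := by
    rw [CAlgH.CIImmersion.ker_stalkMap_eq E.subschemeι x U.2 hxU, E.ker_subschemeι_app, hI, Ideal.map_span, Set.image_singleton]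
  have hreg : IsSMulRegular (X.presheaf.stalk (E.subschemeι x)) t :=
    (isSMulRegular_iff_right_eq_zero_of_smul.2 fun a ha => (mem_nonZeroDivisors_iff_right.1 hf) a
      (by rw [mul_comm]; exact ha) : IsSMulRegular Γ(X, U.1) f).of_isLocalizedModule
      (X.presheaf.stalk (E.subschemeι x)) (U.2.primeIdealOf ⟨E.subschemeι x, hxU⟩).asIdeal.primeCompl
      (Algebra.linearMap _ _)
  have htm : t ∈ maximalIdeal (X.presheaf.stalk (E.subschemeι x)) := by
    have h0 : t ∈ RingHom.ker (E.subschemeι.stalkMap x).hom := hker ▸ Ideal.mem_span_singleton_self t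
    exact le_maximalIdeal (RingHom.ker_ne_top _) h0
  have : IsRegularLocalRing (X.presheaf.stalk (E.subschemeι x) ⧸ Ideal.span {t}) :=
    IsRegularLocalRing.of_ringEquiv ((Ideal.quotEquivOfEq hker.symm).trans
      (RingHom.quotientKerEquivOfSurjective (E.subschemeι.stalkMap_surjective x))).symm
  exact CAlgH3.isRegularLocalRing_of_quotient htm hreg

theorem main {X X' : Scheme.{u}} [IsLocallyNoetherian X]
    (𝓘 : X.IdealSheafData) (b : X' ⟶ X) (hb : BlowUp.IsBlowUp b 𝓘)
    (g : (BlowUp.exceptional b 𝓘).subscheme ⟶ 𝓘.subscheme)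
    (hg : g ≫ 𝓘.subschemeι = (BlowUp.exceptional b 𝓘).subschemeι ≫ b)
    [Smooth g] (y : ↥𝓘.subscheme) [IsRegularLocalRing (𝓘.subscheme.presheaf.stalk y)] (x₁ : ↥X)
    (hgen : x₁ ⤳ 𝓘.subschemeι y) (hx₁ : x₁ ∉ 𝓘.support) : IsRegularLocalRing (X.presheaf.stalk x₁) := by
  have hfin : BlowUp.IsFiniteTypeIdeal 𝓘 := fun U =>
    have := IsLocallyNoetherian.component_noetherian U
    IsNoetherian.noetherian _
  haveI := BlowUpLib.isProper_of_isBlowUp hb hfin
  haveI : IsLocallyNoetherian X' := LocallyOfFiniteType.isLocallyNoetherian b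
  haveI : IsLocallyNoetherian (BlowUp.exceptional b 𝓘).subscheme :=
    LocallyOfFiniteType.isLocallyNoetherian (BlowUp.exceptional b 𝓘).subschemeι
  haveI : IsLocallyNoetherian 𝓘.subscheme := LocallyOfFiniteType.isLocallyNoetherian 𝓘.subschemeι
  haveI := _root_.Groth.Agent.S1682.result 𝓘 b hb
  obtain ⟨⟨x₁', hx₁'⟩, hx'⟩ := (b ∣_ 𝓘.support.compl).surjective ⟨x₁, hx₁⟩
  have hbx : b x₁' = x₁ := by
    have := congrArg Subtype.val hx'
    rwa [morphismRestrict_base_coe] at this
  obtain ⟨y', hy', hby'⟩ := (Scheme.Hom.isClosedMap b).specializingMap (hbx.symm ▸ hgen)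
  have hy'E : y' ∈ ((BlowUp.exceptional b 𝓘).support : Set X') := by
    rw [Scheme.IdealSheafData.support_comap]
    show b y' ∈ 𝓘.support
    rw [hby', ← SetLike.mem_coe, ← 𝓘.range_subschemeι]
    exact ⟨y, rfl⟩
  rw [← Scheme.IdealSheafData.range_subschemeι] at hy'E
  obtain ⟨z, rfl⟩ := hy'E
  have hgz : g z = y := (𝓘.subschemeι).isEmbedding.injective (by
    rw [← Scheme.Hom.comp_apply, hg, Scheme.Hom.comp_apply, hby'])
  haveI : IsRegularLocalRing ((BlowUp.exceptional b 𝓘).subscheme.presheaf.stalk z) :=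
    (_root_.Groth.Agent.S4991.result g z ⟨⊤, trivial, MorphismProperty.comp_mem @Smooth _ _ inferInstance ‹Smooth g›⟩).mpr
      (by rw [show g.base z = y from hgz]; infer_instance)
  haveI := isRegularLocalRing_of_effCartier hb.1 z
  haveI := isRegularLocalRing_of_specializes hy'
  haveI : IsIso (b.stalkMap x₁') := by
    have h := (morphismRestrictStalkMap b 𝓘.support.compl ⟨x₁', hx₁'⟩)
    exact ((MorphismProperty.isomorphisms _).arrow_mk_iso_iff h).mp
      (inferInstanceAs (IsIso ((b ∣_ 𝓘.support.compl).stalkMap ⟨x₁', hx₁'⟩)))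
  haveI := IsRegularLocalRing.of_ringEquiv (R := X'.presheaf.stalk x₁') (asIso (b.stalkMap x₁')).commRingCatIsoToRingEquiv.symm
  exact hbx ▸ this

end Groth.Agent.CAlgH.RegularGenerization
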