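import Groth.Agent.CAlgH.RegularPoint

/-! Resolving a problem at a regular point with separable residue field. -/

universe u

open MvPolynomial IsLocalRing
open scoped TensorProduct

namespace Groth.Agent.CAlgH.RegularPoint

theorem resolvable_of_indSmooth {R A Λ : Type u} [CommRing R] [CommRing A] [Algebra R A] [CommRing Λ]
    [Algebra R Λ] (hA : Algebra.FinitePresentation R A) (h : Smoothing.IndSmooth R Λ) (f : A →ₐ[R] Λ)
    (Q : Ideal Λ) (hQ : Q ≠ ⊤) : Smoothing.Resolvable R f Q := by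
  obtain ⟨B, i₁, i₂, hB, g, h', hcomp⟩ := h A hA f
  haveI := hB
  have htop : Smoothing.singularIdeal R B = ⊤ := by
    rw [Smoothing.singularIdeal, Algebra.smoothLocus_eq_univ, Set.compl_univ, PrimeSpectrum.vanishingIdeal_empty]
  have h1 : Smoothing.singRad R h' = ⊤ := by
    rw [Smoothing.singRad, htop, Ideal.map_top, Ideal.radical_top]
  exact ⟨B, i₁, i₂, inferInstance, g, h', hcomp, by rw [h1]; exact le_top, by
    rw [h1, top_le_iff]; exact hQ⟩

/-- Base change of a flat algebra to a quotient of the base. -/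
theorem flat_quotient (R L : Type u) [CommRing R] [CommRing L] [Algebra R L] [Module.Flat R L] (K : Ideal R) :
    Module.Flat (R ⧸ K) (L ⧸ K.map (algebraMap R L)) := by
  let e : (R ⧸ K) ⊗[R] L ≃ₐ[R] L ⧸ K.map (algebraMap R L) :=
    (Algebra.TensorProduct.comm R _ L).trans
      ((Algebra.TensorProduct.quotIdealMapEquivTensorQuot L K).symm.restrictScalars R)
  let e' : (R ⧸ K) ⊗[R] L ≃ₐ[R ⧸ K] L ⧸ K.map (algebraMap R L) := AlgEquiv.ofRingEquiv (f := e.toRingEquiv) (fun r => by
    obtain ⟨r, rfl⟩ := Ideal.Quotient.mk_surjective r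
    show e (algebraMap R ((R ⧸ K) ⊗[R] L) r) = _
    rw [e.commutes]
    rfl)
  exact Module.Flat.of_linearEquiv e'.symm.toLinearEquiv

/-- `L/(x^e)` is ind-smooth over `k[X]/(X^e)`. -/
theorem indSmooth_quotient {k L : Type u} [Field k] [CommRing L] [IsLocalRing L] [Algebra k L] {d : ℕ}
    [Algebra (MvPolynomial (Fin d) k) L] [IsScalarTower k (MvPolynomial (Fin d) k) L]
    [Module.Flat (MvPolynomial (Fin d) k) L] [Algebra.IsGeometricallyReduced k (ResidueField L)]
    (hx : Ideal.span (Set.range fun i => algebraMap (MvPolynomial (Fin d) k) L (X i)) = maximalIdeal L)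
    (K : Ideal (MvPolynomial (Fin d) k)) (N : ℕ)
    (hK : K ≤ Ideal.span (Set.range (X : Fin d → MvPolynomial (Fin d) k)))
    (hN : Ideal.span (Set.range (X : Fin d → MvPolynomial (Fin d) k)) ^ N ≤ K) :
    Smoothing.IndSmooth (MvPolynomial (Fin d) k ⧸ K) (L ⧸ K.map (algebraMap (MvPolynomial (Fin d) k) L)) := by
  classical
  let P := MvPolynomial (Fin d) k
  let 𝔭 : Ideal P := Ideal.span (Set.range X)
  have h𝔭L : 𝔭.map (algebraMap P L) = maximalIdeal L := by
    rw [Ideal.map_span, ← Set.range_comp]; exact hx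
  have hKm : K.map (algebraMap P L) ≤ maximalIdeal L := (Ideal.map_mono hK).trans h𝔭L.le
  haveI := flat_quotient P L K
  letI : Algebra (P ⧸ K) k := (Ideal.Quotient.lift K (constantCoeff : P →+* k) fun y hy => by
    refine (Ideal.span_le (I := RingHom.ker (constantCoeff : P →+* k))).2 ?_ (hK hy)
    rintro _ ⟨i, rfl⟩
    simp).toAlgebra
  have hc : ∀ p : P, algebraMap (P ⧸ K) k (Ideal.Quotient.mk K p) = constantCoeff p := fun p => rfl
  let Λ₀ := ResidueField L
  letI : Algebra (P ⧸ K) Λ₀ := ((algebraMap k Λ₀).comp (algebraMap (P ⧸ K) k)).toAlgebra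
  haveI : IsScalarTower (P ⧸ K) k Λ₀ := IsScalarTower.of_algebraMap_eq' rfl
  have hsub : ∀ p : P, p - C (constantCoeff p) ∈ 𝔭 := by
    intro p
    induction p using MvPolynomial.induction_on with
    | C c => simp
    | add p q hp hq => rw [map_add, map_add, add_sub_add_comm]; exact add_mem hp hq
    | mul_X p i hp =>
      rw [map_mul, constantCoeff_X, mul_zero, map_zero, sub_zero]
      exact Ideal.mul_mem_left _ _ (Ideal.subset_span ⟨i, rfl⟩)
  let ρ₀ : (L ⧸ K.map (algebraMap P L)) →+* Λ₀ := Ideal.Quotient.lift _ (residue L) fun y hy =>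
    (residue_eq_zero_iff y).2 (hKm hy)
  let ρ : (L ⧸ K.map (algebraMap P L)) →ₐ[P ⧸ K] Λ₀ :=
    { ρ₀ with
      commutes' := fun r => by
        obtain ⟨p, rfl⟩ := Ideal.Quotient.mk_surjective r
        show residue L (algebraMap P L p) = algebraMap k Λ₀ (constantCoeff p)
        rw [IsScalarTower.algebraMap_apply k L Λ₀, IsScalarTower.algebraMap_apply k P L]
        show residue L _ = residue L _
        refine Ideal.Quotient.eq.2 ?_
        rw [← map_sub, ← h𝔭L]
        exact Ideal.mem_map_of_mem _ (hsub p) }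
  have hρ : Function.Surjective ρ := fun y => by
    obtain ⟨y, rfl⟩ := residue_surjective y
    exact ⟨Ideal.Quotient.mk _ y, rfl⟩
  let I : Ideal (P ⧸ K) := 𝔭.map (Ideal.Quotient.mk K)
  refine IndSmoothSquareZero.indSmooth_nilpotent N (R₀ := k) (Λ₀ := Λ₀) ?_ (I := I) ?_ ρ hρ ?_ ?_
    (indSmooth_geometricallyReduced k Λ₀)
  · exact fun c => ⟨Ideal.Quotient.mk K (C c), by rw [hc, constantCoeff_C]⟩
  · ext y
    obtain ⟨p, rfl⟩ := Ideal.Quotient.mk_surjective y
    rw [RingHom.mem_ker, hc]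
    constructor
    · intro h
      have := hsub p
      rw [h, map_zero, sub_zero] at this
      exact Ideal.mem_map_of_mem _ this
    · intro h
      obtain ⟨q, hq, hqp⟩ := (Ideal.mem_map_iff_of_surjective _ Ideal.Quotient.mk_surjective).1 h
      have h1 : p - q ∈ K := Ideal.Quotient.eq.1 hqp.symm
      have h2 : p ∈ 𝔭 := by simpa using add_mem (hK h1) hq
      refine (Ideal.span_le (I := RingHom.ker (constantCoeff : P →+* k))).2 ?_ h2
      rintro _ ⟨i, rfl⟩
      simp
  · show RingHom.ker ρ₀ = I.map (algebraMap (P ⧸ K) (L ⧸ K.map (algebraMap P L)))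
    have h1 : I.map (algebraMap (P ⧸ K) (L ⧸ K.map (algebraMap P L))) =
        (maximalIdeal L).map (Ideal.Quotient.mk _) := by
      rw [← h𝔭L, Ideal.map_map, Ideal.map_map]
      rfl
    rw [h1]
    ext y
    obtain ⟨z, rfl⟩ := Ideal.Quotient.mk_surjective y
    rw [RingHom.mem_ker]
    show residue L z = 0 ↔ _
    rw [residue_eq_zero_iff, Ideal.mem_map_iff_of_surjective _ Ideal.Quotient.mk_surjective]
    constructor
    · exact fun h => ⟨z, h, rfl⟩
    · rintro ⟨w, hw, hwz⟩
      simpa using sub_mem hw (hKm (Ideal.Quotient.eq.1 hwz))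
  · show I ^ N = ⊥
    rw [← Ideal.map_pow, eq_bot_iff]
    exact (Ideal.map_mono hN).trans (Ideal.map_quotient_self K).le

/-- The lifting step, over an abstract base. -/
theorem resolvable_of_indSmooth_quotient {R A Λ : Type u} [CommRing R] [IsNoetherianRing R] [CommRing A]
    [Algebra R A] [Algebra.FinitePresentation R A] [CommRing Λ] [Algebra R Λ] (φ : A →ₐ[R] Λ) (Q : Ideal Λ) [Q.IsPrime]
    {d : ℕ} (π : Fin d → R) (hπ : ∀ i, algebraMap R Λ (π i) ∈ Q)
    (hR : ∀ i : Fin d, ∀ x : R ⧸ Ideal.span (Set.range fun j : {j : Fin d // (j : ℕ) < (i : ℕ)} => π j ^ 8),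
      Ideal.Quotient.mk _ (π i) ^ 2 * x = 0 → Ideal.Quotient.mk _ (π i) * x = 0)
    (hΛ : ∀ i : Fin d, ∀ x : Λ ⧸ Ideal.span (Set.range fun j : {j : Fin d // (j : ℕ) < (i : ℕ)} =>
        algebraMap R Λ (π j) ^ 8),
      Ideal.Quotient.mk _ (algebraMap R Λ (π i)) ^ 2 * x = 0 → Ideal.Quotient.mk _ (algebraMap R Λ (π i)) * x = 0)
    (hstd : ∀ i, Smoothing.IsStrictlyStandard R A (algebraMap R A (π i))) (K : Ideal R)
    (hK : K = Ideal.span (Set.range fun i => π i ^ 8))
    (hind : Smoothing.IndSmooth (R ⧸ K) (Λ ⧸ K.map (algebraMap R Λ))) :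
    Smoothing.Resolvable R φ Q := by
  have hKQ : K.map (algebraMap R Λ) ≤ Q := by
    rw [hK, Ideal.map_span, Ideal.span_le]
    rintro _ ⟨_, ⟨i, rfl⟩, rfl⟩
    rw [SetLike.mem_coe, map_pow]
    exact Ideal.pow_mem_of_mem _ (hπ i) 8 (by norm_num)
  have hle : K.map (algebraMap R A) ≤ RingHom.ker ((Ideal.Quotient.mk (K.map (algebraMap R Λ))).comp φ.toRingHom) := by
    rw [Ideal.map_le_iff_le_comap]
    intro z hz
    show Ideal.Quotient.mk _ (φ (algebraMap R A z)) = 0
    rw [φ.commutes, Ideal.Quotient.eq_zero_iff_mem]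
    exact Ideal.mem_map_of_mem _ hz
  let φK : (A ⧸ K.map (algebraMap R A)) →ₐ[R ⧸ K] (Λ ⧸ K.map (algebraMap R Λ)) :=
    { Ideal.Quotient.lift _ ((Ideal.Quotient.mk _).comp φ.toRingHom) (fun y hy => hle hy) with
      commutes' := fun r => by
        obtain ⟨r, rfl⟩ := Ideal.Quotient.mk_surjective r
        show Ideal.Quotient.mk _ (φ (algebraMap R A r)) = _
        rw [φ.commutes]
        rfl }
  refine ResolveModPow.resolvable_of_resolvable_mod_pow φ Q π hπ hR hΛ hstd K hK φK (fun y => rfl) ?_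
  haveI : Algebra.FiniteType (R ⧸ K) (A ⧸ K.map (algebraMap R A)) :=
    Algebra.FiniteType.of_restrictScalars_finiteType R _ _
  refine resolvable_of_indSmooth (Algebra.FinitePresentation.of_finiteType.1 inferInstance) hind φK _ fun h => ?_
  have h1 := (Ideal.eq_top_iff_one _).1 h
  rw [← map_one (Ideal.Quotient.mk _), Ideal.mem_map_iff_of_surjective _ Ideal.Quotient.mk_surjective] at h1
  obtain ⟨y, hy, hy1⟩ := h1
  exact ‹Q.IsPrime›.ne_top ((Ideal.eq_top_iff_one _).2 (by simpa using sub_mem hy (hKQ (Ideal.Quotient.eq.1 hy1))))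

/-- Strictly standard powers after retraction. -/
theorem exists_strictlyStandard_model {R A' : Type u} [CommRing R] [IsNoetherianRing R] [CommRing A'] [Algebra R A']
    [Algebra.FinitePresentation R A'] {d : ℕ} (t : Fin d → R)
    (hsm : ∀ i, Algebra.Smooth R (Localization.Away (algebraMap R A' (t i)))) :
    ∃ (C : Type u) (_ : CommRing C) (_ : Algebra R C), Algebra.FinitePresentation R C ∧
      ∃ (inc : A' →ₐ[R] C) (r : C →ₐ[R] A'), r.comp inc = AlgHom.id R A' ∧
        ∃ c, 1 ≤ c ∧ ∀ i, Smoothing.IsStrictlyStandard R C (algebraMap R C (t i ^ c)) := by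
  obtain ⟨C₂, _, _, _, _, hft, ⟨r⟩, hfree⟩ := RetractFreeKaehler.exists_retract_smooth_free (R := R) (A := A')
  haveI := hft
  haveI : Algebra.FiniteType R C₂ := Algebra.FiniteType.trans (S := A') inferInstance inferInstance
  haveI : Algebra.FinitePresentation R C₂ := Algebra.FinitePresentation.of_finiteType.1 inferInstance
  have hstd : ∀ i, ∃ e₀, ∀ c, e₀ ≤ c → Smoothing.IsStrictlyStandard R C₂ (algebraMap R C₂ (t i) ^ c) := by
    intro i
    have h := hfree _ (hsm i)
    rw [← IsScalarTower.algebraMap_apply R A' C₂] at h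
    let Aa := Localization.Away (algebraMap R C₂ (t i))
    haveI : Algebra.Smooth R Aa := h.1
    haveI : Module.Free Aa Ω[Aa⁄R] := h.2
    haveI : Module.Finite Aa Ω[Aa⁄R] := inferInstance
    let b := Module.Free.chooseBasis Aa Ω[Aa⁄R]
    exact StrictlyStandardPow.exists_isStrictlyStandard_pow (Aa := Aa) _ 0 _
      ((LinearEquiv.prodUnique).trans (b.reindex (Fintype.equivFin _)).equivFun)
  choose e₀ he₀ using hstd
  refine ⟨C₂, inferInstance, inferInstance, inferInstance, IsScalarTower.toAlgHom R A' C₂, r.restrictScalars R,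
    AlgHom.ext fun y => r.commutes y, Finset.univ.sup e₀ + 1, Nat.succ_pos _, fun i => ?_⟩
  rw [map_pow]
  exact he₀ i _ ((Finset.le_sup (Finset.mem_univ i)).trans (Nat.le_succ _))

/-- Powers of the variables contain a power of their ideal. -/
theorem exists_pow_le_span_pow {R : Type u} [CommRing R] {d : ℕ} (t : Fin d → R) (c : ℕ) :
    ∃ N, Ideal.span (Set.range t) ^ N ≤ Ideal.span (Set.range fun i => (t i ^ c) ^ 8) := by
  refine Ideal.exists_pow_le_of_le_radical_of_fg ?_ (Submodule.fg_span (Set.finite_range _))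
  rw [Ideal.span_le]
  rintro _ ⟨i, rfl⟩
  refine ⟨c * 8, ?_⟩
  rw [pow_mul]
  exact Ideal.subset_span ⟨i, rfl⟩

set_option maxHeartbeats 1000000 in
theorem exists_smooth_at_closed_point {k A L : Type u} [Field k] [CommRing A] [Algebra k A]
    [Algebra.FinitePresentation k A] [CommRing L] [Algebra k L] [IsRegularLocalRing L]
    [Algebra.IsGeometricallyReduced k (ResidueField L)] (φ : A →ₐ[k] L)
    (hm : maximalIdeal L ≤ Smoothing.singRad k φ) :
    ∃ (C : Type u) (_ : CommRing C) (_ : Algebra k C), Algebra.FinitePresentation k C ∧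
      ∃ (g : A →ₐ[k] C) (h : C →ₐ[k] L), h.comp g = φ ∧
        Algebra.IsSmoothAt k ((maximalIdeal L).comap h.toRingHom) := by
  classical
  haveI : IsNoetherianRing A := Algebra.FiniteType.isNoetherianRing k A
  obtain ⟨s, hs, hspan⟩ := (Submodule.fg_span_iff_fg_span_finset_subset _).1
    (IsNoetherian.noetherian (Ideal.span {a : A | Smoothing.IsStrictlyStandard k A a}))
  let a : Fin s.card → A := fun j => (s.equivFin.symm j).1
  have hsm : ∀ j, Algebra.Smooth k (Localization.Away (a j)) := fun j =>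
    (StrictlyStandardSmooth.smooth_and_stablyFree _ (hs (s.equivFin.symm j).2)).1
  have hJ : maximalIdeal L ≤ (Ideal.span (Set.range fun j => φ (a j))).radical := by
    refine hm.trans ?_
    rw [Smoothing.singRad, SingularIdeal.singularIdeal_eq.1]
    refine Ideal.radical_le_radical_iff.2 ((Ideal.map_mono (Ideal.radical_mono hspan.le)).trans
      ((Ideal.map_radical_le φ).trans (Ideal.radical_mono ?_)))
    rw [Ideal.map_span, Ideal.span_le]
    rintro _ ⟨b, hb, rfl⟩
    exact Ideal.subset_span ⟨s.equivFin ⟨b, hb⟩, by simp [a]⟩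
  obtain ⟨d, x, hx, hreg, hflat⟩ := exists_parameters k L
  obtain ⟨n, hn⟩ := Ideal.exists_radical_pow_le_of_fg (Ideal.span (Set.range fun j => φ (a j)))
    (IsNoetherian.noetherian _)
  have hδ : ∀ i, ∃ δ : Fin s.card → L, x i ^ n = ∑ j, δ j * φ (a j) := by
    intro i
    have h1 : x i ^ n ∈ Ideal.span (Set.range fun j => φ (a j)) :=
      hn (Ideal.pow_mem_pow (hJ (hx.le (Ideal.subset_span ⟨i, rfl⟩))) n)
    obtain ⟨δ, hδ⟩ := Ideal.mem_span_range_iff_exists_fun.1 h1
    exact ⟨δ, hδ.symm⟩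
  choose δ hδ using hδ
  letI : Algebra (MvPolynomial (Fin d) k) L := (aeval x : MvPolynomial (Fin d) k →ₐ[k] L).toRingHom.toAlgebra
  haveI : IsScalarTower k (MvPolynomial (Fin d) k) L := IsScalarTower.of_algebraMap_eq fun c => ((aeval x).commutes c).symm
  have hX : ∀ i, algebraMap (MvPolynomial (Fin d) k) L (X i) = x i := fun i => aeval_X _ i
  haveI : Module.Flat (MvPolynomial (Fin d) k) L := hflat hX
  obtain ⟨A', _, _, _, _, hA'fp, ι, φ', hι, hsm'⟩ := exists_parameter_algebra φ a hsm x n δ hδ hX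
  haveI := hA'fp
  obtain ⟨C₂, _, _, hC₂, inc, r, hr, c, hc, hstd⟩ := exists_strictlyStandard_model (A' := A') (fun i => (X i : MvPolynomial (Fin d) k)) hsm'
  haveI := hC₂
  have hKm : ∀ i, algebraMap (MvPolynomial (Fin d) k) L (X i ^ c) ∈ maximalIdeal L := fun i => by
    rw [map_pow, hX]
    exact Ideal.pow_mem_of_mem _ (hx.le (Ideal.subset_span ⟨i, rfl⟩)) c hc
  obtain ⟨N, hN⟩ := exists_pow_le_span_pow (fun i => (X i : MvPolynomial (Fin d) k)) c
  have hKle : Ideal.span (Set.range fun i => ((X i : MvPolynomial (Fin d) k) ^ c) ^ 8) ≤ Ideal.span (Set.range X) := by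
    rw [Ideal.span_le]
    rintro _ ⟨i, rfl⟩
    exact Ideal.pow_mem_of_mem _ (Ideal.pow_mem_of_mem _
      (show (X i : MvPolynomial (Fin d) k) ∈ Ideal.span (Set.range X) from Ideal.subset_span ⟨i, rfl⟩) c hc) 8 (by norm_num)
  have hind := indSmooth_quotient (k := k) (L := L) (d := d) (by simp only [hX]; exact hx) _ N hKle hN
  have hreg' : RingTheory.Sequence.IsWeaklyRegular L
      (List.ofFn fun i => algebraMap (MvPolynomial (Fin d) k) L (X i)) := by simpa only [hX] using hreg
  obtain ⟨B, _, _, hBfp, α, β, hαβ, -, hnot⟩ := resolvable_of_indSmooth_quotient (φ'.comp r) (maximalIdeal L)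
    (fun i => (X i : MvPolynomial (Fin d) k) ^ c) hKm
    (fun i y hy => pow_regular_mod _ (isWeaklyRegular_X k d) c 8 hc (by norm_num) i y hy)
    (fun i => pow_regular_mod' _ hreg' c 8 hc (by norm_num) i
      (fun j => algebraMap (MvPolynomial (Fin d) k) L (X j ^ c)) fun j => map_pow _ _ _)
    hstd _ rfl hind
  letI : Algebra k B := ((algebraMap (MvPolynomial (Fin d) k) B).comp (algebraMap k _)).toAlgebra
  haveI : IsScalarTower k (MvPolynomial (Fin d) k) B := IsScalarTower.of_algebraMap_eq' rfl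
  haveI : Algebra.FinitePresentation k B := Algebra.FinitePresentation.trans k (MvPolynomial (Fin d) k) B
  let αA : A →ₐ[k] B :=
    { toRingHom := α.toRingHom.comp (inc.toRingHom.comp ι.toRingHom)
      commutes' := fun z => by
        show α (inc (ι (algebraMap k A z))) = _
        rw [ι.commutes, IsScalarTower.algebraMap_apply k (MvPolynomial (Fin d) k) A', inc.commutes, α.commutes]
        rfl }
  refine ⟨B, inferInstance, inferInstance, inferInstance, αA, β.restrictScalars k, ?_, ?_⟩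
  · refine AlgHom.ext fun y => ?_
    show β (α (inc (ι y))) = φ y
    rw [← AlgHom.comp_apply β α, hαβ, AlgHom.comp_apply, ← AlgHom.comp_apply r inc, hr, AlgHom.id_apply]
    exact hι y
  let Q : Ideal B := (maximalIdeal L).comap β.toRingHom
  haveI : Algebra.IsSmoothAt (MvPolynomial (Fin d) k) Q := by
    by_contra hns
    refine hnot ((Ideal.IsPrime.radical_le_iff inferInstance).2 (Ideal.map_le_iff_le_comap.2 fun y hy => ?_))
    exact (PrimeSpectrum.mem_vanishingIdeal _ _).1 hy ⟨Q, inferInstance⟩ hns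
  haveI : Algebra.IsSmoothAt k (Q.comap (algebraMap (MvPolynomial (Fin d) k) B)) := inferInstance
  exact DesingularizeOver.isSmoothAt_comp (D := MvPolynomial (Fin d) k) Q

/-- Resolution at a regular point with separable residue field. -/
theorem resolvable_regular {k A Λ : Type u} [Field k] [CommRing A]
    [Algebra k A] [Algebra.FinitePresentation k A] [CommRing Λ] [Algebra k Λ]
    (φ : A →ₐ[k] Λ) (𝔮 : Ideal Λ) [𝔮.IsPrime] (hmin : 𝔮 ∈ (Smoothing.singRad k φ).minimalPrimes)
    [IsRegularLocalRing (Localization.AtPrime 𝔮)]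
    [Algebra.IsGeometricallyReduced k 𝔮.ResidueField] : Smoothing.Resolvable k φ 𝔮 := by
  let L := Localization.AtPrime 𝔮
  let φL : A →ₐ[k] L := (IsScalarTower.toAlgHom k Λ L).comp φ
  haveI : Algebra.IsGeometricallyReduced k (ResidueField L) := ‹Algebra.IsGeometricallyReduced k 𝔮.ResidueField›
  have hm : maximalIdeal L ≤ Smoothing.singRad k φL := by
    intro y hy
    refine (Ideal.radical_eq_sInf _).ge (Submodule.mem_sInf.2 fun P hP => ?_)
    obtain ⟨hle, hPp⟩ := hP
    haveI := hPp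
    suffices P = maximalIdeal L by rwa [this]
    have h1 : Smoothing.singRad k φ ≤ Ideal.comap (algebraMap Λ L) P :=
      (Ideal.IsPrime.radical_le_iff inferInstance).2 (Ideal.map_le_iff_le_comap.2 fun z hz =>
        hle (Ideal.mem_map_of_mem φL hz))
    have h2 : Ideal.comap (algebraMap Λ L) P ≤ 𝔮 := fun z hz =>
      (IsLocalization.AtPrime.to_map_mem_maximal_iff L 𝔮 z).1 (le_maximalIdeal hPp.ne_top hz)
    have h3 : Ideal.comap (algebraMap Λ L) P = 𝔮 := le_antisymm h2 (hmin.2 ⟨inferInstance, h1⟩ h2)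
    rw [← IsLocalization.map_comap 𝔮.primeCompl L P, Ideal.under_def, h3, IsLocalization.AtPrime.map_eq_maximalIdeal 𝔮 L]
  obtain ⟨B, _, _, hB, g, h, hgh, hsm⟩ := exists_smooth_at_closed_point φL hm
  haveI := hB
  haveI := hsm
  haveI : IsLocalization (IsUnit.submonoid k) k := IsLocalization.self fun _ h => h
  obtain ⟨r, π, hπ, -⟩ := ‹Algebra.FinitePresentation k A›.out
  obtain ⟨C, _, _, hC, gC, hC', hcomp, hsmC⟩ := DelocalizeWeak.exists_delocalization_aux φ 𝔮 (Rp := k) (Λq := L)
    (IsUnit.submonoid k) (fun s hs hq => ‹𝔮.IsPrime›.ne_top (Ideal.eq_top_of_isUnit_mem _ hq ((hs : IsUnit s).map _)))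
    g h (fun y => DFunLike.congr_fun hgh y) π hπ
  refine ResolveStep.resolvable_of_delocalization φ 𝔮 ⟨C, inferInstance, inferInstance, hC, gC, hC', hcomp, fun hle => ?_⟩
  haveI := hsmC
  obtain ⟨b, hb, hbe⟩ := SingularIdeal.exists_isElementaryStandard (R := k) (𝔮.comap hC'.toRingHom)
  refine hb (hle (Ideal.mem_map_of_mem hC' ?_))
  rw [SingularIdeal.singularIdeal_eq.2]
  exact Ideal.le_radical (Ideal.subset_span hbe)

end Groth.Agent.CAlgH.RegularPoint
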