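import Groth.Agent.CAlgH.ResolveTools
import Groth.Agent.CAlgH.LiftingLemma
import Groth.Agent.CAlgH.DesingularizeOver
import Mathlib

/-! A model `C' → C`, smooth over the base above the smooth points of `C` and above the points where a
given element is invertible, on which that element has a lift `a'` with `C → C' / (a' ^ k)`. -/

universe u

open MvPolynomial
open scoped DualNumber

namespace Groth.Agent.CAlgH.ResolveModel

variable {R : Type u} [CommRing R] {n m : ℕ}

/-- The lift of `R[x]/(h)` over `R[T]` along `T ^ k`. -/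
abbrev LiftAlg (h : Fin m → MvPolynomial (Fin n) R) (k : ℕ) : Type u :=
  MvPolynomial (Fin (n + m)) (Polynomial R) ⧸
    Ideal.span (LiftingLemma.liftSet (Polynomial.X ^ k : Polynomial R)
      fun j => MvPolynomial.map (Polynomial.C : R →+* Polynomial R) (h j))

/-- `R[T]` modulo `T ^ (2 k)`. -/
abbrev BaseMod (R : Type u) [CommRing R] (k : ℕ) : Type u :=
  Polynomial R ⧸ Ideal.span {(Polynomial.X ^ k : Polynomial R) ^ 2}

/-- Points of the lift whose new coordinates vanish. -/
theorem exists_point (h : Fin m → MvPolynomial (Fin n) R) (k : ℕ) {U : Type u} [CommRing U] [Algebra R U] (τ : U)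
    (hτ : ∀ b : U, (τ ^ k) ^ 2 * b = 0 → τ ^ k * b = 0) (x : Fin n → U) (hx : ∀ j, aeval x (h j) = 0) :
    ∃ χ : LiftAlg h k →ₐ[R] U,
      χ (algebraMap (Polynomial R) _ Polynomial.X) = τ ∧
      (∀ j, χ (Ideal.Quotient.mk _ (X (Fin.natAdd n j))) = 0) ∧
      (∀ p : MvPolynomial (Fin n) (Polynomial R), χ (Ideal.Quotient.mk _ (rename (Fin.castAdd m) p)) =
        eval₂Hom (Polynomial.aeval τ : Polynomial R →ₐ[R] U).toRingHom x p) ∧
      ∀ p : MvPolynomial (Fin n) R, χ (Ideal.Quotient.mk _ (rename (Fin.castAdd m)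
        (MvPolynomial.map (Polynomial.C : R →+* Polynomial R) p))) = aeval x p := by
  let e : Polynomial R →+* U := (Polynomial.aeval τ : Polynomial R →ₐ[R] U).toRingHom
  let w : Fin (n + m) → U := Fin.append x 0
  let ev : MvPolynomial (Fin (n + m)) (Polynomial R) →+* U := eval₂Hom e w
  have hren : ∀ p : MvPolynomial (Fin n) (Polynomial R), ev (rename (Fin.castAdd m) p) = eval₂Hom e x p := by
    intro p
    have : ev.comp (rename (Fin.castAdd m) : MvPolynomial (Fin n) (Polynomial R) →ₐ[Polynomial R] _).toRingHom =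
        eval₂Hom e x := MvPolynomial.ringHom_ext (fun c => by simp [ev]) (fun i => by simp [ev, w])
    exact DFunLike.congr_fun this p
  have hmap : ∀ p : MvPolynomial (Fin n) R,
      eval₂Hom e x (MvPolynomial.map (Polynomial.C : R →+* Polynomial R) p) = aeval x p := by
    intro p
    have : (eval₂Hom e x).comp (MvPolynomial.map (Polynomial.C : R →+* Polynomial R)) =
        (aeval x : MvPolynomial (Fin n) R →ₐ[R] U).toRingHom :=
      MvPolynomial.ringHom_ext (fun c => by simp [e]) (fun i => by simp)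
    exact DFunLike.congr_fun this p
  have hX : ev (MvPolynomial.C Polynomial.X) = τ := by simp [ev, e]
  have hI : ∀ y ∈ Ideal.span (LiftingLemma.liftSet (Polynomial.X ^ k : Polynomial R)
      fun j => MvPolynomial.map (Polynomial.C : R →+* Polynomial R) (h j)), ev y = 0 := by
    intro y hy
    refine (Ideal.span_le (I := RingHom.ker ev)).2 ?_ hy
    rintro _ (⟨j, rfl⟩ | ⟨r, b, hrb, rfl⟩)
    · show ev (_ - _) = 0
      rw [map_sub, map_mul, hren, hmap, hx, show ev (X (Fin.natAdd n j)) = 0 by simp [ev, w], mul_zero, sub_zero]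
    · show ev (_ - _) = 0
      rw [map_sub, map_sum, Finset.sum_eq_zero fun j _ => by
        rw [map_mul, show ev (X (Fin.natAdd n j)) = 0 by simp [ev, w], mul_zero], map_mul, hren, map_pow, map_pow, hX,
        zero_sub, neg_eq_zero]
      refine hτ _ ?_
      have h1 := congrArg (eval₂Hom e x) hrb
      rw [map_sum, Finset.sum_eq_zero fun j _ => by rw [map_mul, hmap, hx, mul_zero], map_mul, map_pow] at h1
      rw [h1]
      congr 2
      simp [e]
  let χ0 : LiftAlg h k →+* U := Ideal.Quotient.lift _ ev hI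
  let χ : LiftAlg h k →ₐ[R] U :=
    { χ0 with
      commutes' := fun r => by
        show ev (algebraMap R (MvPolynomial (Fin (n + m)) (Polynomial R)) r) = _
        rw [IsScalarTower.algebraMap_apply R (Polynomial R) (MvPolynomial (Fin (n + m)) (Polynomial R))]
        simp [ev, e, MvPolynomial.algebraMap_eq] }
  exact ⟨χ, hX, fun j => by show ev (X (Fin.natAdd n j)) = 0; simp [ev, w], fun p => hren p, fun p => (hren _).trans (hmap p)⟩

/-- Base change of a smooth point to a quotient of the polynomial ring over the base. -/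
theorem isSmoothAt_baseChange {Rb C : Type u} [CommRing Rb] [Algebra R Rb] [CommRing C] [Algebra R C]
    (h : Fin m → MvPolynomial (Fin n) R) (φ : MvPolynomial (Fin n) R →ₐ[R] C) (hφ : Function.Surjective φ)
    (hker : RingHom.ker φ.toRingHom = Ideal.span (Set.range h))
    (q : Ideal (MvPolynomial (Fin n) Rb ⧸ Ideal.span (Set.range fun j => MvPolynomial.map (algebraMap R Rb) (h j))))
    [q.IsPrime] (𝔔 : Ideal C) [𝔔.IsPrime]
    (hq : ∀ p, φ p ∈ 𝔔 ↔ Ideal.Quotient.mk _ (MvPolynomial.map (algebraMap R Rb) p) ∈ q)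
    [hsm : Algebra.IsSmoothAt R 𝔔] : Algebra.IsSmoothAt Rb q := by
  let Cq := Localization.AtPrime 𝔔
  haveI : Algebra.FormallySmooth R Cq := hsm
  let Cc := MvPolynomial (Fin n) Rb ⧸ Ideal.span (Set.range fun j => MvPolynomial.map (algebraMap R Rb) (h j))
  let μ : MvPolynomial (Fin n) R →ₐ[R] Cc :=
    (Ideal.Quotient.mkₐ R _).comp
      { MvPolynomial.map (algebraMap R Rb) with
        commutes' := fun r => by simp [MvPolynomial.algebraMap_eq] }
  have hμ : ∀ p, μ p = Ideal.Quotient.mk _ (MvPolynomial.map (algebraMap R Rb) p) := fun p => rfl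
  have hμh : RingHom.ker φ.toRingHom ≤ RingHom.ker μ.toRingHom := by
    rw [hker, Ideal.span_le]
    rintro _ ⟨j, rfl⟩
    exact Ideal.Quotient.eq_zero_iff_mem.2 (Ideal.subset_span ⟨j, rfl⟩)
  let jc : C →ₐ[R] Cc := AlgHom.liftOfSurjective φ hφ μ hμh
  have hjc : ∀ p, jc (φ p) = μ p := fun p => AlgHom.liftOfSurjective_apply φ hφ μ hμh p
  let X' := Localization.AtPrime q
  show Algebra.FormallySmooth Rb X'
  rw [Algebra.FormallySmooth.iff_comp_surjective]
  intro T _ _ J hJ g
  letI : Algebra R T := ((algebraMap Rb T).comp (algebraMap R Rb)).toAlgebra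
  haveI : IsScalarTower R Rb T := IsScalarTower.of_algebraMap_eq' rfl
  let jX : C →ₐ[R] X' := (IsScalarTower.toAlgHom R Cc X').comp jc
  have hjX : ∀ z : 𝔔.primeCompl, IsUnit (jX z) := by
    rintro ⟨z, hz⟩
    obtain ⟨p, rfl⟩ := hφ z
    show IsUnit (algebraMap Cc X' (jc (φ p)))
    rw [hjc]
    exact IsLocalization.map_units X' (⟨μ p, fun h => hz ((hq p).2 h)⟩ : q.primeCompl)
  let jq : Cq →ₐ[R] X' := IsLocalization.liftAlgHom (M := 𝔔.primeCompl) (f := jX) hjX
  have hjq : ∀ z, jq (algebraMap C Cq z) = jX z := fun z => IsLocalization.lift_eq _ z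
  obtain ⟨k, hk⟩ := Algebra.FormallySmooth.comp_surjective R Cq J hJ ((g.restrictScalars R).comp jq)
  let kc : C →ₐ[R] T := k.comp (IsScalarTower.toAlgHom R C Cq)
  let t : Fin n → T := fun i => kc (φ (X i))
  have ht : ∀ p, aeval (R := Rb) t (MvPolynomial.map (algebraMap R Rb) p) = kc (φ p) := fun p => by
    rw [aeval_map_algebraMap]
    exact (DFunLike.congr_fun (aeval_unique (kc.comp φ)) p).symm
  let kb : Cc →ₐ[Rb] T := Ideal.Quotient.liftₐ _ (aeval t) fun y hy => by
    refine (Ideal.span_le (I := RingHom.ker (aeval t : MvPolynomial (Fin n) Rb →ₐ[Rb] T))).2 ?_ hy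
    rintro _ ⟨j, rfl⟩
    show aeval t _ = 0
    rw [ht, show φ (h j) = 0 from RingHom.mem_ker.1 (hker.ge (Ideal.subset_span ⟨j, rfl⟩)), map_zero]
  have hkb : (Ideal.Quotient.mkₐ Rb J).comp kb = g.comp (IsScalarTower.toAlgHom Rb Cc X') := by
    refine Ideal.Quotient.algHom_ext Rb (MvPolynomial.algHom_ext fun i => ?_)
    show Ideal.Quotient.mk J (aeval t (X i)) = g (algebraMap Cc X' (Ideal.Quotient.mk _ (X i)))
    rw [aeval_X]
    refine (DFunLike.congr_fun hk (algebraMap C Cq (φ (X i)))).trans ?_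
    show g (jq (algebraMap C Cq (φ (X i)))) = _
    rw [hjq]
    show g (algebraMap Cc X' (jc (φ (X i)))) = _
    rw [hjc, hμ, MvPolynomial.map_X]
  have hunit : ∀ z : q.primeCompl, IsUnit (kb z) := by
    intro z
    have h1 : IsUnit (Ideal.Quotient.mk J (kb (z : Cc))) := by
      rw [show Ideal.Quotient.mk J (kb (z : Cc)) = g (algebraMap Cc X' (z : Cc)) from DFunLike.congr_fun hkb (z : Cc)]
      exact (IsLocalization.map_units X' z).map g
    obtain ⟨u, hu⟩ := Ideal.Quotient.mk_surjective (↑h1.unit⁻¹ : T ⧸ J)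
    have hj : kb (z : Cc) * u - 1 ∈ J := by
      rw [← Ideal.Quotient.eq_zero_iff_mem, map_sub, map_mul, hu, map_one, h1.mul_val_inv, sub_self]
    have hnil : IsNilpotent (kb (z : Cc) * u - 1) := ⟨2, by
      have : (kb (z : Cc) * u - 1) ^ 2 ∈ J ^ 2 := Ideal.pow_mem_pow hj 2
      rwa [hJ, Ideal.mem_bot] at this⟩
    have := hnil.isUnit_one_add
    rw [add_sub_cancel] at this
    exact isUnit_of_mul_isUnit_left this
  let kX : X' →ₐ[Rb] T := IsLocalization.liftAlgHom (M := q.primeCompl) (f := kb) hunit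
  refine ⟨kX, AlgHom.coe_ringHom_injective (IsLocalization.ringHom_ext q.primeCompl (RingHom.ext fun z => ?_))⟩
  show Ideal.Quotient.mk J (kX (algebraMap Cc X' z)) = g (algebraMap Cc X' z)
  rw [show kX (algebraMap Cc X' z) = kb z from IsLocalization.lift_eq _ _]
  exact DFunLike.congr_fun hkb z

/-- The reduced problem at a smooth point, over an abstract base. -/
theorem exists_reduced_point {Rb C K : Type u} [CommRing Rb] [Algebra R Rb] [CommRing C] [Algebra R C]
    [Field K] [Algebra C K] [Algebra R K] [IsScalarTower R C K]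
    (h : Fin m → MvPolynomial (Fin n) R) (φ : MvPolynomial (Fin n) R →ₐ[R] C) (hφ : Function.Surjective φ)
    (hker : RingHom.ker φ.toRingHom = Ideal.span (Set.range h)) (eK : Rb →+* K)
    (heR : ∀ r, eK (algebraMap R Rb r) = algebraMap R K r) (𝔔 : Ideal C) [𝔔.IsPrime]
    (h𝔔 : ∀ c, algebraMap C K c = 0 ↔ c ∈ 𝔔) (hsm : Algebra.IsSmoothAt R 𝔔) :
    ∃ (Cc : Type u) (_ : CommRing Cc) (_ : Algebra Rb Cc) (φb : MvPolynomial (Fin n) Rb →ₐ[Rb] Cc)
      (q : Ideal Cc) (_ : q.IsPrime), Function.Surjective φb ∧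
      Ideal.span (Set.range fun j => MvPolynomial.map (algebraMap R Rb) (h j)) = RingHom.ker φb.toRingHom ∧
      Algebra.IsSmoothAt Rb q ∧
      ∀ p, φb p ∈ q ↔ eval₂Hom eK (fun i => algebraMap C K (φ (X i))) p = 0 := by
  let x : Fin n → K := fun i => algebraMap C K (φ (X i))
  have heK : ∀ p : MvPolynomial (Fin n) R,
      eval₂Hom eK x (MvPolynomial.map (algebraMap R Rb) p) = algebraMap C K (φ p) := by
    intro p
    have : (eval₂Hom eK x).comp (MvPolynomial.map (algebraMap R Rb)) = (algebraMap C K).comp φ.toRingHom :=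
      MvPolynomial.ringHom_ext (fun c => by
        show eval₂Hom eK x (MvPolynomial.map _ (MvPolynomial.C c)) = algebraMap C K (φ (MvPolynomial.C c))
        rw [MvPolynomial.map_C, eval₂Hom_C, heR, show φ (MvPolynomial.C c) = algebraMap R C c from φ.commutes c]
        exact IsScalarTower.algebraMap_apply R C K c) (fun i => by simp [x])
    exact DFunLike.congr_fun this p
  let χK : (MvPolynomial (Fin n) Rb ⧸ Ideal.span (Set.range fun j => MvPolynomial.map (algebraMap R Rb) (h j))) →+* K :=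
    Ideal.Quotient.lift _ (eval₂Hom eK x) fun y hy => by
      refine (Ideal.span_le (I := RingHom.ker (eval₂Hom eK x))).2 ?_ hy
      rintro _ ⟨j, rfl⟩
      show eval₂Hom eK x (MvPolynomial.map (algebraMap R Rb) (h j)) = 0
      rw [heK, show φ (h j) = 0 from RingHom.mem_ker.1 (hker.ge (Ideal.subset_span ⟨j, rfl⟩)), map_zero]
  haveI : (RingHom.ker χK).IsPrime := RingHom.ker_isPrime χK
  haveI := hsm
  refine ⟨_, inferInstance, inferInstance, Ideal.Quotient.mkₐ Rb _, RingHom.ker χK, inferInstance,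
    Ideal.Quotient.mk_surjective, Ideal.mk_ker.symm, isSmoothAt_baseChange h φ hφ hker _ 𝔔 fun p => ?_,
    fun p => RingHom.mem_ker⟩
  rw [RingHom.mem_ker]
  show _ ↔ eval₂Hom eK x _ = 0
  rw [heK, h𝔔]

set_option maxHeartbeats 1000000 in
set_option synthInstance.maxHeartbeats 200000 in
theorem exists_model {C : Type u} [IsNoetherianRing R] [CommRing C] [Algebra R C] [Algebra.FinitePresentation R C]
    (c₀ : C) (k : ℕ) (hk : 2 ≤ k) (hC : ∀ x : C, (c₀ ^ k) ^ 2 * x = 0 → c₀ ^ k * x = 0) :
    ∃ (C' : Type u) (_ : CommRing C') (_ : Algebra R C'), Algebra.FinitePresentation R C' ∧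
      ∃ (ρ : C' →ₐ[R] C) (a' : C') (ψ : C →ₐ[R] C' ⧸ Ideal.span {a' ^ k}),
        ρ a' = c₀ ∧ ψ c₀ = Ideal.Quotient.mk _ a' ∧
        (∀ (c : C) (d : C'), Ideal.Quotient.mk (Ideal.span {a' ^ k}) d = ψ c → ρ d - c ∈ Ideal.span {c₀ ^ k}) ∧
        ∀ (𝔔 : Ideal C) [𝔔.IsPrime], (c₀ ∉ 𝔔 ∨ Algebra.IsSmoothAt R 𝔔) →
          Algebra.IsSmoothAt R (𝔔.comap ρ.toRingHom) := by
  classical
  obtain ⟨n, φ, hφ, hfg⟩ := ‹Algebra.FinitePresentation R C›.out
  obtain ⟨m, h, hh⟩ := Submodule.fg_iff_exists_fin_generating_family.1 hfg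
  have hker : RingHom.ker φ.toRingHom = Ideal.span (Set.range h) := hh.symm
  have hφh : ∀ j, φ (h j) = 0 := fun j => RingHom.mem_ker.1 (hker.ge (Ideal.subset_span ⟨j, rfl⟩))
  obtain ⟨a₀, ha₀⟩ := hφ c₀
  let f : Fin m → MvPolynomial (Fin n) (Polynomial R) := fun j =>
    MvPolynomial.map (Polynomial.C : R →+* Polynomial R) (h j)
  let π : Polynomial R := Polynomial.X ^ k
  haveI : Algebra.FinitePresentation (Polynomial R) (LiftAlg h k) := Algebra.FinitePresentation.of_surjective
    (f := Ideal.Quotient.mkₐ (Polynomial R) _) Ideal.Quotient.mk_surjective (by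
      rw [show RingHom.ker (Ideal.Quotient.mkₐ (Polynomial R) (Ideal.span (LiftingLemma.liftSet π f))).toRingHom = _
        from Ideal.mk_ker]
      exact IsNoetherian.noetherian _)
  haveI : Algebra.FinitePresentation R (LiftAlg h k) := Algebra.FinitePresentation.trans R (Polynomial R) _
  let ι₁ : MvPolynomial (Fin n) R →ₐ[R] LiftAlg h k :=
    aeval fun i => Ideal.Quotient.mk _ (X (Fin.castAdd m i))
  have hι₁ : ∀ p, ι₁ p = Ideal.Quotient.mk _ (rename (Fin.castAdd m)
      (MvPolynomial.map (Polynomial.C : R →+* Polynomial R) p)) := by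
    intro p
    have : ι₁.toRingHom = (Ideal.Quotient.mk _).comp (((rename (Fin.castAdd m) :
        MvPolynomial (Fin n) (Polynomial R) →ₐ[Polynomial R] _).toRingHom).comp
        (MvPolynomial.map (Polynomial.C : R →+* Polynomial R))) := by
      refine MvPolynomial.ringHom_ext (fun c => ?_) (fun i => by simp [ι₁])
      show ι₁ (MvPolynomial.C c) = _
      rw [← MvPolynomial.algebraMap_eq, AlgHom.commutes]
      simp [MvPolynomial.algebraMap_eq]
      rfl
    exact DFunLike.congr_fun this p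
  let T : LiftAlg h k := algebraMap (Polynomial R) _ Polynomial.X
  let f₀ : LiftAlg h k := T - ι₁ a₀
  let C' := LiftAlg h k ⧸ Ideal.span {f₀}
  haveI : Algebra.FinitePresentation R C' := Algebra.FinitePresentation.quotient (Submodule.fg_span_singleton f₀)
  obtain ⟨χC, hχT, hχz, hχ, hχ₁⟩ := exists_point h k c₀ hC (fun i => φ (X i)) fun j => by
    exact (DFunLike.congr_fun (aeval_unique φ) (h j)).symm.trans (hφh j)
  have hχι : ∀ p, χC (ι₁ p) = φ p := fun p => by
    rw [hι₁, hχ₁]; exact (DFunLike.congr_fun (aeval_unique φ) p).symm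
  let ρ : C' →ₐ[R] C := Ideal.Quotient.liftₐ _ χC fun y hy => by
    obtain ⟨w, rfl⟩ := Ideal.mem_span_singleton'.1 hy
    rw [map_mul, map_sub, hχT, hχι, ha₀, sub_self, mul_zero]
  letI : CommRing (LiftAlg h k ⧸ Ideal.span {f₀}) := Ideal.Quotient.commRing _
  let ι : MvPolynomial (Fin n) R →ₐ[R] LiftAlg h k ⧸ Ideal.span {f₀} := (Ideal.Quotient.mkₐ R _).comp ι₁
  let a' : LiftAlg h k ⧸ Ideal.span {f₀} := ι a₀
  have hT : Ideal.Quotient.mk (Ideal.span {f₀}) T = a' :=
    (Ideal.Quotient.mk_eq_mk_iff_sub_mem _ _).2 (Ideal.mem_span_singleton_self _)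
  have hψ : RingHom.ker φ.toRingHom ≤ RingHom.ker ((Ideal.Quotient.mkₐ R (Ideal.span {a' ^ k})).comp ι).toRingHom := by
    rw [hker, Ideal.span_le]
    rintro _ ⟨j, rfl⟩
    refine Ideal.Quotient.eq_zero_iff_mem.2 ?_
    show Ideal.Quotient.mk (Ideal.span {f₀}) (ι₁ (h j)) ∈ Ideal.span {a' ^ k}
    have h1 : rename (Fin.castAdd m) (f j) - MvPolynomial.C π * X (Fin.natAdd n j) ∈
        Ideal.span (LiftingLemma.liftSet π f) := Ideal.subset_span (Or.inl ⟨j, rfl⟩)
    rw [hι₁, (Ideal.Quotient.mk_eq_mk_iff_sub_mem _ _).2 h1, map_mul, map_mul,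
      show Ideal.Quotient.mk _ (MvPolynomial.C π) = T ^ k by rw [map_pow, map_pow]; rfl, map_pow, hT]
    exact Ideal.mul_mem_right _ _ (Ideal.mem_span_singleton_self _)
  let ψ : C →ₐ[R] C' ⧸ Ideal.span {a' ^ k} := AlgHom.liftOfSurjective φ hφ _ hψ
  have hψp : ∀ p, ψ (φ p) = Ideal.Quotient.mk _ (ι p) := fun p => AlgHom.liftOfSurjective_apply φ hφ _ hψ p
  have hρa : ρ a' = c₀ := (hχι a₀).trans ha₀
  refine ⟨C', inferInstance, inferInstance, inferInstance, ρ, a', ψ, hρa, by rw [← ha₀, hψp], ?_, ?_⟩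
  · intro c d hd
    obtain ⟨p, rfl⟩ := hφ c
    rw [hψp, Ideal.Quotient.mk_eq_mk_iff_sub_mem, Ideal.mem_span_singleton'] at hd
    obtain ⟨w, hw⟩ := hd
    rw [← show ρ (ι p) = φ p from hχι p, ← map_sub, ← hw, map_mul, map_pow, hρa]
    exact Ideal.mul_mem_left _ _ (Ideal.mem_span_singleton_self _)
  intro 𝔔 _ h𝔔
  let K := 𝔔.ResidueField
  let x : Fin n → K := fun i => algebraMap C K (φ (X i))
  let t : K := algebraMap C K c₀
  have hxφ : ∀ p, aeval x p = algebraMap C K (φ p) := fun p => by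
    show _ = ((IsScalarTower.toAlgHom R C K).comp φ) p
    rw [aeval_unique ((IsScalarTower.toAlgHom R C K).comp φ)]
    rfl
  -- the point and its tangent vector
  obtain ⟨χε, hεT, hεz, hε, hε₁⟩ := exists_point h k (U := K[ε]) (TrivSqZeroExt.inl t + DualNumber.eps) (by
      intro b hb
      by_cases ht : t = 0
      · have : (TrivSqZeroExt.inl t + DualNumber.eps : K[ε]) ^ k = 0 := by
          obtain ⟨d, rfl⟩ := Nat.exists_eq_add_of_le hk
          rw [ht, TrivSqZeroExt.inl_zero, zero_add, pow_add, pow_two, DualNumber.eps_mul_eps, zero_mul]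
        rw [this, zero_mul]
      · have hu : IsUnit ((TrivSqZeroExt.inl t + DualNumber.eps : K[ε]) ^ k) := by
          refine IsUnit.pow k (TrivSqZeroExt.isUnit_iff_isUnit_fst.2 (isUnit_iff_ne_zero.2 ?_))
          simpa using ht
        rw [(hu.pow 2).mul_right_eq_zero.1 hb, mul_zero])
    (fun i => TrivSqZeroExt.inl (x i)) (fun j => by
      have := (comp_aeval_apply x (TrivSqZeroExt.inlAlgHom R K K) (h j)).symm
      refine this.trans ?_
      rw [hxφ, hφh, map_zero, map_zero])
  have hειp : ∀ p, χε (ι₁ p) = TrivSqZeroExt.inl (algebraMap C K (φ p)) := fun p => by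
    rw [hι₁, hε₁, ← hxφ]
    exact (comp_aeval_apply x (TrivSqZeroExt.inlAlgHom R K K) p).symm
  have hfst : ∀ s, TrivSqZeroExt.fst (χε s) = algebraMap C K (χC s) := by
    intro s
    obtain ⟨s, rfl⟩ := Ideal.Quotient.mk_surjective s
    have : ((TrivSqZeroExt.fstHom R K K).comp χε).toRingHom.comp (Ideal.Quotient.mk _) =
        ((algebraMap C K).comp χC.toRingHom).comp (Ideal.Quotient.mk (Ideal.span (LiftingLemma.liftSet π f))) := by
      refine MvPolynomial.ringHom_ext (fun c => ?_) fun i => ?_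
      · have h1 := hε (MvPolynomial.C c)
        have h2 := hχ (MvPolynomial.C c)
        rw [rename_C, eval₂Hom_C] at h1 h2
        show TrivSqZeroExt.fst (χε _) = algebraMap C K (χC _)
        rw [h1, h2]
        show (TrivSqZeroExt.fstHom R K K) (Polynomial.aeval _ c) = (IsScalarTower.toAlgHom R C K) (Polynomial.aeval c₀ c)
        rw [← Polynomial.aeval_algHom_apply, ← Polynomial.aeval_algHom_apply]
        simp [t]
      · show TrivSqZeroExt.fst (χε _) = algebraMap C K (χC _)
        induction i using Fin.addCases with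
        | left i =>
          have h1 := hε (X i)
          have h2 := hχ (X i)
          rw [rename_X, eval₂Hom_X'] at h1 h2
          rw [h1, h2]
          simp [x]
        | right j =>
          rw [hεz, hχz, TrivSqZeroExt.fst_zero, map_zero]
    exact DFunLike.congr_fun this s
  have hQiff : ∀ s, Ideal.Quotient.mk (Ideal.span {f₀}) s ∈ 𝔔.comap ρ.toRingHom ↔ TrivSqZeroExt.fst (χε s) = 0 := by
    intro s
    rw [hfst, Ideal.algebraMap_residueField_eq_zero]
    rfl
  let Qd : Ideal (LiftAlg h k) := (𝔔.comap ρ.toRingHom).comap (Ideal.Quotient.mk (Ideal.span {f₀}))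
  haveI hQd : Algebra.IsSmoothAt (Polynomial R) Qd := by
    by_cases hc : c₀ ∈ 𝔔
    · have hsm : Algebra.IsSmoothAt R 𝔔 := h𝔔.resolve_left (not_not.2 hc)
      let eK : BaseMod R k →+* K := Ideal.Quotient.lift _ (Polynomial.aeval (0 : K) : Polynomial R →ₐ[R] K).toRingHom (by
        intro y hy
        obtain ⟨w, rfl⟩ := Ideal.mem_span_singleton'.1 hy
        show (Polynomial.aeval (0 : K)) (w * (Polynomial.X ^ k) ^ 2) = 0
        simp [zero_pow (show k ≠ 0 by omega)])
      obtain ⟨Cc, _, _, φb, q, _, hφb, hfb, hsmq, hqiff⟩ := exists_reduced_point h φ hφ hker eK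
        (fun r => (Polynomial.aeval (0 : K) : Polynomial R →ₐ[R] K).commutes r) 𝔔
        (fun c => Ideal.algebraMap_residueField_eq_zero) hsm
      haveI := hsmq
      letI : Algebra (Polynomial R) Cc := ((algebraMap (BaseMod R k) Cc).comp (Ideal.Quotient.mk _)).toAlgebra
      haveI : IsScalarTower (Polynomial R) (BaseMod R k) Cc := ⟨fun a b c => by
        obtain ⟨b, rfl⟩ := Ideal.Quotient.mk_surjective b
        rw [show a • (Ideal.Quotient.mk _ b : BaseMod R k) = Ideal.Quotient.mk _ (a * b) from rfl, Algebra.smul_def,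
          Algebra.smul_def, Algebra.smul_def, map_mul, map_mul, mul_assoc]
        rfl⟩
      let φc : MvPolynomial (Fin n) (Polynomial R) →ₐ[Polynomial R] Cc :=
        { φb.toRingHom.comp (MvPolynomial.map (Ideal.Quotient.mk _)) with
          commutes' := fun r => by
            show φb (MvPolynomial.map _ (MvPolynomial.C r)) = _
            rw [MvPolynomial.map_C, ← MvPolynomial.algebraMap_eq, AlgHom.commutes]
            rfl }
      refine LiftingLemma.isSmoothAt_lift_point π ?_ φb hφb _ hfb φc (fun p => rfl) f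
        (fun j => by rw [MvPolynomial.map_map]; rfl) Qd q fun p => ?_
      · intro y hy
        rw [← pow_mul] at hy
        have h2 := ((Polynomial.monic_X_pow (k * 2)).mul_right_eq_zero_iff).1 hy
        rw [h2, mul_zero]
      · show χC (Ideal.Quotient.mk _ (rename (Fin.castAdd m) p)) ∈ 𝔔 ↔ φb (MvPolynomial.map _ p) ∈ q
        rw [hqiff, ← Ideal.algebraMap_residueField_eq_zero, hχ]
        have : (algebraMap C K).comp (eval₂Hom (Polynomial.aeval c₀ : Polynomial R →ₐ[R] C).toRingHom fun i => φ (X i)) =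
            (eval₂Hom eK x).comp (MvPolynomial.map (Ideal.Quotient.mk _)) := by
          refine MvPolynomial.ringHom_ext (fun c => ?_) fun i => by simp [x]
          simp only [RingHom.comp_apply, MvPolynomial.map_C, eval₂Hom_C]
          show (IsScalarTower.toAlgHom R C K) (Polynomial.aeval c₀ c) = Polynomial.aeval (0 : K) c
          rw [← Polynomial.aeval_algHom_apply]
          congr 2
          exact Ideal.algebraMap_residueField_eq_zero.2 hc
        rw [show algebraMap C K _ = _ from DFunLike.congr_fun this p]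
        rfl
    · refine LiftingLemma.isSmoothAt_lift_away π f Qd fun hmem => hc ?_
      have h1 : χC (algebraMap (Polynomial R) _ π) ∈ 𝔔 := hmem
      rw [map_pow, map_pow, hχT] at h1
      exact ‹𝔔.IsPrime›.mem_of_pow_mem _ h1
  haveI : Algebra.IsSmoothAt R (Qd.comap (algebraMap (Polynomial R) (LiftAlg h k))) := inferInstance
  haveI : Algebra.IsSmoothAt R Qd := DesingularizeOver.isSmoothAt_comp (D := Polynomial R) Qd
  refine ResolveTools.isSmoothAt_quotient_of_tangent f₀ χε (𝔔.comap ρ.toRingHom) hQiff ?_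
  rw [map_sub, hεT, hειp]
  simp

end Groth.Agent.CAlgH.ResolveModel
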