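import Groth.Prelude.Def_Smoothing
import Groth.Agent.CAlgH.SmoothQuotient
import Groth.Agent.CAlgH.Desingularize
import Mathlib

/-! Two tools for gluing resolutions: smoothness of a hypersurface detected by a tangent vector, and
strictly standard elements after adjoining a quotient. -/

universe u

open scoped DualNumber

namespace Groth.Agent.CAlgH.ResolveTools

/-- A hypersurface in a smooth algebra is smooth at a point with a tangent vector moving the
equation. -/
theorem isSmoothAt_quotient_of_tangent {R S K : Type u} [CommRing R] [CommRing S] [Algebra R S]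
    [Algebra.FinitePresentation R S] [Field K] [Algebra R K] (f : S) (χ : S →ₐ[R] K[ε])
    (Q : Ideal (S ⧸ Ideal.span {f})) [Q.IsPrime]
    (hQ : ∀ s, Ideal.Quotient.mk (Ideal.span {f}) s ∈ Q ↔ TrivSqZeroExt.fst (χ s) = 0)
    (hf : TrivSqZeroExt.snd (χ f) ≠ 0)
    [hsm : Algebra.IsSmoothAt R (Q.comap (Ideal.Quotient.mk (Ideal.span {f})))] :
    Algebra.IsSmoothAt R Q := by
  classical
  let Q' := Q.comap (Ideal.Quotient.mk (Ideal.span {f}))
  let L := Localization.AtPrime Q'
  haveI : Algebra.FormallySmooth R L := hsm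
  haveI : Algebra.EssFiniteType S L := Algebra.EssFiniteType.of_isLocalization L Q'.primeCompl
  haveI : Algebra.EssFiniteType R L := Algebra.EssFiniteType.comp R S L
  have hχ : ∀ z : Q'.primeCompl, IsUnit (χ z) := fun z =>
    TrivSqZeroExt.isUnit_iff_isUnit_fst.2 (isUnit_iff_ne_zero.2 fun h => z.2 ((hQ z).2 h))
  let χL : L →ₐ[R] K[ε] := IsLocalization.liftAlgHom (M := Q'.primeCompl) (f := χ) hχ
  have hχL : ∀ s, χL (algebraMap S L s) = χ s := fun s => IsLocalization.lift_eq _ s
  letI : Algebra L K := ((TrivSqZeroExt.fstHom R K K).comp χL).toRingHom.toAlgebra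
  have hK : ∀ x : L, algebraMap L K x = TrivSqZeroExt.fst (χL x) := fun x => rfl
  haveI : IsScalarTower R L K := IsScalarTower.of_algebraMap_eq fun r => by
    rw [hK, AlgHom.commutes]; rfl
  let δ : Derivation R L K := Derivation.mk'
    ((TrivSqZeroExt.sndHom K K).restrictScalars R ∘ₗ χL.toLinearMap) (fun x y => by
      show TrivSqZeroExt.snd (χL (x * y)) = x • TrivSqZeroExt.snd (χL y) + y • TrivSqZeroExt.snd (χL x)
      rw [map_mul, DualNumber.snd_mul, Algebra.smul_def, Algebra.smul_def, hK, hK]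
      ring)
  let fL := algebraMap S L f
  haveI : Module.Free L Ω[L⁄R] := Module.free_of_flat_of_isLocalRing
  let bas := Module.Free.chooseBasis L Ω[L⁄R]
  obtain ⟨i, hi⟩ : ∃ i, IsUnit (bas.repr (KaehlerDifferential.D R L fL) i) := by
    by_contra hno
    push Not at hno
    apply hf
    rw [← hχL]
    show δ fL = 0
    rw [← δ.liftKaehlerDifferential_comp_D, ← bas.sum_repr (KaehlerDifferential.D R L fL), map_sum]
    refine Finset.sum_eq_zero fun i _ => ?_
    rw [map_smul, Algebra.smul_def, hK]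
    obtain ⟨⟨x, s⟩, hxs⟩ := IsLocalization.surj Q'.primeCompl (bas.repr (KaehlerDifferential.D R L fL) i)
    have h1 : TrivSqZeroExt.fst (χ x) = 0 := (hQ x).1 (by
      have hm := Ideal.mul_mem_right (algebraMap S L s) _ ((IsLocalRing.mem_maximalIdeal _).2 (hno i))
      rw [hxs] at hm
      exact (IsLocalization.AtPrime.to_map_mem_maximal_iff L Q' x).1 hm)
    have h2 := congrArg (fun y => TrivSqZeroExt.fst (χL y)) hxs
    simp only [map_mul, TrivSqZeroExt.fst_mul, hχL, h1] at h2
    rw [(mul_eq_zero.1 h2).resolve_right fun h => s.2 ((hQ s).2 h), zero_mul]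
  let Lf : Ω[L⁄R] →ₗ[L] (Fin 1 → L) := LinearMap.pi fun _ => (↑hi.unit⁻¹ : L) • bas.coord i
  have hLf : ∀ j, ∑ k, Lf (KaehlerDifferential.D R L ((fun _ : Fin 1 => fL) j)) k * (fun _ : Fin 1 => fL) k -
      (fun _ : Fin 1 => fL) j ∈ Ideal.span (Set.range fun _ : Fin 1 => fL) ^ 2 := fun j => by
    simp [Lf, hi.val_inv_mul]
  haveI := SmoothQuotient.formallySmooth_quotient (fun _ : Fin 1 => fL) Lf hLf
  let J := Ideal.span (Set.range fun _ : Fin 1 => fL)
  let c : (S ⧸ Ideal.span {f}) →ₐ[R] L ⧸ J :=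
    Ideal.Quotient.liftₐ _ ((Ideal.Quotient.mkₐ R J).comp (IsScalarTower.toAlgHom R S L)) fun x hx => by
      obtain ⟨y, rfl⟩ := Ideal.mem_span_singleton'.1 hx
      refine Ideal.Quotient.eq_zero_iff_mem.2 ?_
      show algebraMap S L (y * f) ∈ J
      rw [map_mul]
      exact Ideal.mul_mem_left _ _ (Ideal.subset_span ⟨0, rfl⟩)
  let Bq := Localization.AtPrime Q
  let ν : S →ₐ[R] Bq := (IsScalarTower.toAlgHom R _ Bq).comp (Ideal.Quotient.mkₐ R (Ideal.span {f}))
  have hν : ∀ z : Q'.primeCompl, IsUnit (ν z) := fun z =>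
    IsLocalization.map_units Bq (⟨Ideal.Quotient.mk _ z, z.2⟩ : Q.primeCompl)
  let νL : L →ₐ[R] Bq := IsLocalization.liftAlgHom (M := Q'.primeCompl) (f := ν) hν
  have hνL : ∀ s, νL (algebraMap S L s) = ν s := fun s => IsLocalization.lift_eq _ s
  have hνJ : ∀ x ∈ J, νL x = 0 := fun x hx => (Ideal.span_le (I := RingHom.ker νL)).2 (by
    rintro _ ⟨j, rfl⟩
    show νL fL = 0
    rw [hνL]
    show algebraMap (S ⧸ Ideal.span {f}) Bq (Ideal.Quotient.mk (Ideal.span {f}) f) = 0
    rw [Ideal.Quotient.eq_zero_iff_mem.2 (Ideal.mem_span_singleton_self f), map_zero]) hx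
  refine Desingularize.formallySmooth_of_retract Q.primeCompl c ?_ (Ideal.Quotient.liftₐ J νL hνJ) ?_
  · rintro ⟨z, hz⟩
    obtain ⟨s, rfl⟩ := Ideal.Quotient.mk_surjective z
    exact (IsLocalization.map_units L (⟨s, hz⟩ : Q'.primeCompl)).map (Ideal.Quotient.mk J)
  · intro b
    obtain ⟨s, rfl⟩ := Ideal.Quotient.mk_surjective b
    exact hνL s

open Polynomial in
/-- Adjoining a solution of `z a = τ` to an algebra in which `a` is strictly standard makes the
square of `τ` strictly standard. -/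
theorem isStrictlyStandard_adjoin {S A : Type u} [CommRing S] [CommRing A] [Algebra S A] (a : A)
    (ha : Smoothing.IsStrictlyStandard S A a) (τ : S) :
    Smoothing.IsStrictlyStandard S (A[X] ⧸ Ideal.span {C a * X - C (algebraMap S A τ)})
      (algebraMap S _ τ ^ 2) := by
  classical
  obtain ⟨P, hmin, hkill⟩ := ha
  let E₀ : A[X] := C a * X - C (algebraMap S A τ)
  let B := A[X] ⧸ Ideal.span {E₀}
  obtain ⟨at', hat⟩ := P.surj a
  let ι : MvPolynomial (Fin P.n) S →ₐ[S] MvPolynomial (Fin (P.n + 1)) S := MvPolynomial.rename Fin.succ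
  let z : MvPolynomial (Fin (P.n + 1)) S := MvPolynomial.X 0
  let E : MvPolynomial (Fin (P.n + 1)) S := ι at' * z - MvPolynomial.C τ
  let hom' : MvPolynomial (Fin (P.n + 1)) S →ₐ[S] B :=
    (Ideal.Quotient.mkₐ S _).comp ((Polynomial.mapAlgHom P.hom).comp
      (MvPolynomial.finSuccEquiv S P.n).toAlgHom)
  have hι : ∀ p, MvPolynomial.finSuccEquiv S P.n (ι p) = Polynomial.C p := by
    intro p
    have : (MvPolynomial.finSuccEquiv S P.n).toAlgHom.comp ι = Polynomial.CAlgHom :=
      MvPolynomial.algHom_ext fun i => by simp [ι, MvPolynomial.finSuccEquiv_X_succ]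
    exact DFunLike.congr_fun this p
  have hz : MvPolynomial.finSuccEquiv S P.n z = Polynomial.X := MvPolynomial.finSuccEquiv_X_zero
  have hτ : MvPolynomial.finSuccEquiv S P.n (MvPolynomial.C τ) = Polynomial.C (MvPolynomial.C τ) := by
    rw [← MvPolynomial.algebraMap_eq, AlgEquiv.commutes]; rfl
  have hE : Polynomial.mapAlgHom P.hom (MvPolynomial.finSuccEquiv S P.n E) = E₀ := by
    simp only [E, map_sub, map_mul, hι, hz, hτ, Polynomial.coe_mapAlgHom, Polynomial.map_C, Polynomial.map_X,
      RingHom.coe_coe, hat, E₀]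
    rw [← MvPolynomial.algebraMap_eq, AlgHom.commutes]
  let rel' : Fin (P.m + 1) → MvPolynomial (Fin (P.n + 1)) S := Fin.cons E (fun j => ι (P.rel j))
  have hrel0 : ∀ j, P.hom (P.rel j) = 0 := fun j =>
    RingHom.mem_ker.1 (P.ker_eq.ge (Ideal.subset_span ⟨j, rfl⟩))
  have hker : RingHom.ker hom'.toRingHom = Ideal.span (Set.range rel') := by
    refine le_antisymm (fun p hp => ?_) (Ideal.span_le.2 ?_)
    · obtain ⟨w, hw⟩ := Ideal.mem_span_singleton'.1 (Ideal.Quotient.eq_zero_iff_mem.1 (RingHom.mem_ker.1 hp))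
      obtain ⟨w', rfl⟩ := (Polynomial.map_surjective P.hom.toRingHom P.surj) w
      let q : MvPolynomial (Fin (P.n + 1)) S := (MvPolynomial.finSuccEquiv S P.n).symm w'
      have h0 : Polynomial.map P.hom.toRingHom (MvPolynomial.finSuccEquiv S P.n (p - q * E)) = 0 := by
        rw [map_sub, map_mul, Polynomial.map_sub, Polynomial.map_mul]
        simp only [q, AlgEquiv.apply_symm_apply]
        rw [show Polynomial.map P.hom.toRingHom (MvPolynomial.finSuccEquiv S P.n E) = E₀ from hE, hw]
        exact sub_self _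
      have h1 : MvPolynomial.finSuccEquiv S P.n (p - q * E) ∈ (RingHom.ker P.hom.toRingHom).map Polynomial.C := by
        rw [← Polynomial.ker_mapRingHom]; exact h0
      rw [P.ker_eq, Ideal.map_span, ← Set.range_comp] at h1
      have h2 := Ideal.mem_map_of_mem (MvPolynomial.finSuccEquiv S P.n).symm h1
      rw [AlgEquiv.symm_apply_apply, Ideal.map_span, ← Set.range_comp] at h2
      rw [show p = (p - q * E) + q * E from (sub_add_cancel _ _).symm]
      refine add_mem (Ideal.span_mono ?_ h2) (Ideal.mul_mem_left _ _ (Ideal.subset_span ⟨0, rfl⟩))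
      rintro _ ⟨j, rfl⟩
      refine ⟨j.succ, ?_⟩
      apply (MvPolynomial.finSuccEquiv S P.n).injective
      simp [rel', hι]
    · rintro _ ⟨j, rfl⟩
      refine RingHom.mem_ker.2 ?_
      show Ideal.Quotient.mk _ (Polynomial.mapAlgHom P.hom (MvPolynomial.finSuccEquiv S P.n (rel' j))) = 0
      refine Ideal.Quotient.eq_zero_iff_mem.2 ?_
      refine Fin.cases ?_ (fun j => ?_) j
      · simp only [rel', Fin.cons_zero, hE]; exact Ideal.mem_span_singleton_self _
      · simp [rel', hι, Polynomial.coe_mapAlgHom, hrel0]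
  let Q : Smoothing.MarkedPresentation S B := ⟨P.n + 1, P.m + 1, P.c + 1, by have := P.hcn; omega,
    by have := P.hcm; omega, rel', hom', (Ideal.Quotient.mk_surjective.comp
      (Polynomial.map_surjective P.hom.toRingHom P.surj)).comp (MvPolynomial.finSuccEquiv S P.n).surjective, hker⟩
  let aB : B := Ideal.Quotient.mk _ (Polynomial.C a)
  let zB : B := Ideal.Quotient.mk _ Polynomial.X
  have hτB : algebraMap S B τ = aB * zB := by
    refine ((Ideal.Quotient.mk_eq_mk_iff_sub_mem _ _).2 ?_).symm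
    show Polynomial.C a * Polynomial.X - Polynomial.C (algebraMap S A τ) ∈ _
    exact Ideal.mem_span_singleton_self _
  have hhι : ∀ p, hom' (ι p) = Ideal.Quotient.mk _ (Polynomial.C (P.hom p)) := fun p => by
    show Ideal.Quotient.mk _ (Polynomial.mapAlgHom P.hom (MvPolynomial.finSuccEquiv S P.n (ι p))) = _
    rw [hι, Polynomial.coe_mapAlgHom, Polynomial.map_C]; rfl
  refine ⟨Q, ?_, ?_⟩
  · -- minors
    have hdet : ∀ cols : Fin P.c → Fin P.n,
        aB * Ideal.Quotient.mk _ (Polynomial.C (P.hom (Smoothing.jacobianMinor P.rel (Fin.castLE P.hcm) cols))) =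
          hom' (Smoothing.jacobianMinor rel' (Fin.castLE Q.hcm) (Fin.cons 0 fun k => (cols k).succ)) := by
      intro cols
      rw [← hhι, show aB = hom' (ι at') by rw [hhι, hat], ← map_mul]
      congr 1
      rw [Smoothing.jacobianMinor, Smoothing.jacobianMinor, Matrix.det_succ_column_zero, Fin.sum_univ_succ]
      have hd0 : ∀ p, MvPolynomial.pderiv 0 (ι p) = 0 := fun p => by
        refine MvPolynomial.pderiv_eq_zero_of_notMem_vars fun h => ?_
        obtain ⟨i, -, hi⟩ := Finset.mem_image.1 (MvPolynomial.vars_rename _ _ h)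
        exact Fin.succ_ne_zero i hi
      rw [Finset.sum_eq_zero fun j _ => by
        simp only [Matrix.of_apply, Fin.castLE_succ, rel', Fin.cons_succ, Fin.cons_zero, hd0, mul_zero, zero_mul]]
      simp only [Matrix.of_apply, Fin.castLE_zero, rel', Fin.cons_zero, Fin.val_zero, pow_zero, one_mul, add_zero,
        Fin.succAbove_zero]
      rw [show MvPolynomial.pderiv 0 E = ι at' by simp [E, z, hd0], AlgHom.map_det]
      congr 2
      refine Matrix.ext fun j k => ?_
      simp only [AlgHom.mapMatrix_apply, Matrix.map_apply, Matrix.of_apply, Matrix.submatrix_apply, Fin.castLE_succ,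
        Fin.cons_succ]
      exact (MvPolynomial.pderiv_rename (Fin.succ_injective _) _ _).symm
    let mk' : A →+* B := (Ideal.Quotient.mk _).comp Polynomial.C
    have h1 : aB * mk' a ∈ Ideal.span (Set.range fun cols : Fin Q.c → Fin Q.n =>
        Q.hom (Smoothing.jacobianMinor Q.rel (Fin.castLE Q.hcm) cols)) := by
      have h2 := Ideal.mem_map_of_mem mk' hmin
      rw [Ideal.map_span, ← Set.range_comp] at h2
      have h3 : aB * mk' a ∈ Ideal.span {aB} * Ideal.span (Set.range (mk' ∘ fun cols : Fin P.c → Fin P.n =>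
          P.hom (Smoothing.jacobianMinor P.rel (Fin.castLE P.hcm) cols))) :=
        Ideal.mul_mem_mul (Ideal.mem_span_singleton_self _) h2
      rw [Ideal.span_mul_span'] at h3
      refine Ideal.span_mono ?_ h3
      rintro _ ⟨_, hx, _, ⟨cols, rfl⟩, rfl⟩
      rw [Set.mem_singleton_iff] at hx
      subst hx
      exact ⟨_, (hdet cols).symm⟩
    rw [hτB, mul_pow, sq aB]
    exact Ideal.mul_mem_right _ _ h1
  · -- tail
    intro b hb j hj
    obtain ⟨j', rfl⟩ := Fin.eq_succ_of_ne_zero (i := j) (fun h => by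
      have hj' : P.c + 1 ≤ (j : ℕ) := hj
      rw [h] at hj'; simp at hj')
    have hj' : P.c ≤ (j' : ℕ) := by
      have h : P.c + 1 ≤ (j'.succ : ℕ) := hj
      simp at h; exact h
    let J := Ideal.span (rel' '' {i : Fin (P.m + 1) | (i : ℕ) < P.c + 1}) ⊔ Ideal.span (Set.range rel') ^ 2
    show b * rel' j'.succ ∈ J
    have hEJ : E ∈ J := Ideal.mem_sup_left (Ideal.subset_span ⟨0, by simp, rfl⟩)
    have h1 : ι at' * ι (P.rel j') ∈ J := by
      rw [← map_mul]
      have h := Ideal.mem_map_of_mem ι (hkill at' hat j' hj')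
      rw [Ideal.map_sup, Ideal.map_pow, Ideal.map_span, Ideal.map_span, ← Set.range_comp, ← Set.image_comp] at h
      refine SetLike.le_def.1 (sup_le_sup (Ideal.span_mono ?_) (Ideal.pow_right_mono (Ideal.span_mono ?_) 2)) h
      · rintro _ ⟨i, hi, rfl⟩
        refine ⟨i.succ, ?_, by simp [rel']⟩
        show (i.succ : ℕ) < P.c + 1
        simpa using hi
      · rintro _ ⟨i, rfl⟩; exact ⟨i.succ, by simp [rel']⟩
    have h2 : (b - MvPolynomial.C τ ^ 2) * rel' j'.succ ∈ J := by
      refine Ideal.mem_sup_right ?_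
      rw [sq (Ideal.span (Set.range rel'))]
      refine Ideal.mul_mem_mul (hker.le ?_) (Ideal.subset_span ⟨j'.succ, rfl⟩)
      show hom' (b - MvPolynomial.C τ ^ 2) = 0
      rw [map_sub, map_pow, ← MvPolynomial.algebraMap_eq, AlgHom.commutes, show hom' b = _ from hb, sub_self]
    have h3 : MvPolynomial.C τ ^ 2 * rel' j'.succ ∈ J := by
      simp only [rel', Fin.cons_succ]
      rw [show MvPolynomial.C τ ^ 2 * ι (P.rel j') =
        ι at' * ι (P.rel j') * (ι at' * z * z) - E * ((ι at' * z + MvPolynomial.C τ) * ι (P.rel j')) by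
          simp only [E]; ring]
      exact sub_mem (Ideal.mul_mem_right _ _ h1) (Ideal.mul_mem_right _ _ hEJ)
    rw [show b * rel' j'.succ = (b - MvPolynomial.C τ ^ 2) * rel' j'.succ + MvPolynomial.C τ ^ 2 * rel' j'.succ by ring]
    exact add_mem h2 h3

end Groth.Agent.CAlgH.ResolveTools
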