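import Groth.Agent.CAlgH.Approximation
import Groth.Agent.CAlgH.PowerSeriesEval
import Groth.Agent.CAlgH.GRingCompletion
import Groth.Agent.AdicRing.ComplHom
import Groth.Prelude.Def_EGA4b
import Mathlib

/-!
# Retractions approximating a formal point, and congruences between divisors of a fixed element
-/

set_option autoImplicit false
set_option linter.style.haveILetI false
universe u

open IsLocalRing

namespace Groth.Agent.CAlgH.RetractionApprox

/-- In a factorial Noetherian local ring, a divisor of `Δ` sufficiently congruent to `t` divides `t`. -/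
theorem exists_bound {T : Type u} [CommRing T] [IsDomain T] [IsNoetherianRing T] [IsLocalRing T]
    [UniqueFactorizationMonoid T] {Δ : T} (hΔ : Δ ≠ 0) (t : T) :
    ∃ N : ℕ, ∀ a : T, a ∣ Δ → a - t ∈ maximalIdeal T ^ N → a ∣ t := by
  classical
  letI : Fintype {x : Associates T // x ∣ Associates.mk Δ} :=
    UniqueFactorizationMonoid.fintypeSubtypeDvd _ (Associates.mk_ne_zero.2 hΔ)
  let rep : Associates T → T := Function.surjInv Associates.mk_surjective
  have hrep : ∀ x, Associates.mk (rep x) = x := Function.surjInv_eq Associates.mk_surjective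
  have hx : ∀ x : Associates T, ∃ n : ℕ, t ∈ Ideal.span {(rep x)} ⊔ maximalIdeal T ^ n → (rep x) ∣ t := by
    intro x
    by_contra hcon
    push Not at hcon
    refine (hcon 0).2 ?_
    rw [← Ideal.mem_span_singleton]
    haveI : IsHausdorff (maximalIdeal T) (T ⧸ Ideal.span {(rep x)}) :=
      IsHausdorff.of_le_jacobson _ _ (maximalIdeal_le_jacobson ⊥)
    refine Ideal.Quotient.eq_zero_iff_mem.1 (IsHausdorff.haus
      ‹IsHausdorff (maximalIdeal T) (T ⧸ Ideal.span {(rep x)})› _ fun n => ?_)
    rw [SModEq.zero]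
    obtain ⟨u, hu, v, hv, huv⟩ := Submodule.mem_sup.1 (hcon n).1
    have h1 : Ideal.Quotient.mk (Ideal.span {(rep x)}) t = v • (1 : T ⧸ Ideal.span {(rep x)}) := by
      rw [Algebra.smul_def, mul_one, Ideal.Quotient.algebraMap_eq, Ideal.Quotient.eq, ← huv,
        add_sub_cancel_right]
      exact hu
    rw [h1]
    exact Submodule.smul_mem_smul hv trivial
  choose n hn using hx
  refine ⟨(Finset.univ : Finset {x : Associates T // x ∣ Associates.mk Δ}).sup fun x => n x.1,
    fun a ha hat => ?_⟩
  have hass : Associated (rep (Associates.mk a)) a := Associates.mk_eq_mk_iff_associated.1 (hrep _)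
  have hle : n (Associates.mk a) ≤
      (Finset.univ : Finset {x : Associates T // x ∣ Associates.mk Δ}).sup fun x => n x.1 :=
    Finset.le_sup (f := fun x : {x : Associates T // x ∣ Associates.mk Δ} => n x.1)
      (Finset.mem_univ ⟨Associates.mk a, Associates.mk_dvd_mk.2 ha⟩)
  refine hass.symm.dvd.trans (hn _ (Submodule.mem_sup.2 ⟨a, Ideal.mem_span_singleton.2 hass.dvd,
    t - a, ?_, by ring⟩))
  rw [← neg_mem_iff, neg_sub]
  exact Ideal.pow_le_pow_right hle hat

/-- A formal point of an essentially finite type local algebra over an excellent henselian local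
ring is approximated by retractions. -/
theorem exists_retraction {R C : Type u} [CommRing R] [IsNoetherianRing R] [HenselianLocalRing R]
    (hR : EGA4.IsExcellent R) [CommRing C] [IsLocalRing C] [Algebra R C] [Algebra.EssFiniteType R C]
    (h₀ : C →ₐ[R] AdicCompletion (maximalIdeal R) R) [IsLocalHom h₀.toRingHom] (k : ℕ) :
    ∃ (g : C →ₐ[R] R), IsLocalHom g.toRingHom ∧ ∀ c : C,
      algebraMap R (AdicCompletion (maximalIdeal R) R) (g c) - h₀ c ∈
        maximalIdeal (AdicCompletion (maximalIdeal R) R) ^ (k + 1) := by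
  classical
  let T := AdicCompletion (maximalIdeal R) R
  haveI : IsNoetherianRing T := Matlis6.isNoetherianRing_adicCompletion _
  let C₀ := Algebra.EssFiniteType.subalgebra R C
  let M := Algebra.EssFiniteType.submonoid R C
  haveI : IsLocalization M C := inferInstance
  haveI : Algebra.FinitePresentation R C₀ := Algebra.FinitePresentation.of_finiteType.1 inferInstance
  have hreg := isRegularHom_adicCompletion_of_isGRing R hR.2.2.1 (maximalIdeal R)
  obtain ⟨σ, hσ⟩ := Approximation.exists_point hreg (maximalIdeal R) k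
    (AdicCompletion.evalₐ (maximalIdeal R) (k + 1)) C₀ (h₀.comp (IsScalarTower.toAlgHom R C₀ C))
  let π := AdicCompletion.evalₐ (maximalIdeal R) (k + 1)
  have hne : maximalIdeal R ^ (k + 1) ≤ maximalIdeal R := Ideal.pow_le_self (Nat.succ_ne_zero k)
  have hπu : ∀ r : R, IsUnit (Ideal.Quotient.mk (maximalIdeal R ^ (k + 1)) r) → IsUnit r := by
    intro r hr
    by_contra hu
    have h1 := hr.map (Ideal.Quotient.factor hne)
    rw [Ideal.Quotient.factor_mk, Ideal.Quotient.eq_zero_iff_mem.2 ((mem_maximalIdeal r).2 hu)] at h1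
    exact not_isUnit_zero h1
  have hs : ∀ s : M, IsUnit (σ s) := fun s => by
    refine hπu _ ?_
    rw [show Ideal.Quotient.mk (maximalIdeal R ^ (k + 1)) (σ s) = π (h₀ (algebraMap C₀ C s)) from
      congr($hσ (s : C₀))]
    exact ((IsLocalization.map_units C s).map h₀).map π
  let g : C →ₐ[R] R := IsLocalization.liftAlgHom (M := M) (f := σ) hs
  have hg : ∀ c : C, Ideal.Quotient.mk (maximalIdeal R ^ (k + 1)) (g c) = π (h₀ c) := by
    have h1 : ((Ideal.Quotient.mkₐ R (maximalIdeal R ^ (k + 1))).comp g) = π.comp h₀ := by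
      refine IsLocalization.algHom_ext M (AlgHom.ext fun x => ?_)
      have h2 : g (algebraMap C₀ C x) = σ x := IsLocalization.lift_eq (M := M) (g := σ.toRingHom) hs x
      show Ideal.Quotient.mk _ (g (algebraMap C₀ C x)) = π (h₀ (algebraMap C₀ C x))
      rw [h2]
      exact congr($hσ x)
    exact fun c => congr($h1 c)
  have hdiff : ∀ c : C, algebraMap R T (g c) - h₀ c ∈ maximalIdeal T ^ (k + 1) := fun c => by
    rw [AdicCompletion.maximalIdeal_eq_map, ← Ideal.map_pow]
    refine Approximation.mem_map_pow (maximalIdeal R).fg_of_isNoetherianRing ?_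
    rw [map_sub, AlgHom.commutes, sub_eq_zero]
    exact hg c
  refine ⟨g, ⟨fun c hc => ?_⟩, hdiff⟩
  refine IsUnit.of_map h₀.toRingHom c ?_
  show IsUnit (h₀ c)
  have hu : IsUnit (algebraMap R T (g c)) := hc.map _
  by_contra hn
  refine (mem_maximalIdeal _).1 ?_ hu
  rw [← sub_add_cancel (algebraMap R T (g c)) (h₀ c)]
  exact add_mem (Ideal.pow_le_self (Nat.succ_ne_zero k) (hdiff c)) ((mem_maximalIdeal _).2 hn)

/-- The extension to completions of a retraction congruent to a formal point. -/
theorem exists_completion {R C : Type u} [CommRing R] [IsNoetherianRing R] [IsLocalRing R]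
    [CommRing C] [IsLocalRing C] [IsNoetherianRing C] (g : C →+* R) [IsLocalHom g]
    (h : AdicCompletion (maximalIdeal C) C →+* AdicCompletion (maximalIdeal R) R) (N : ℕ)
    (hcong : ∀ c : C, algebraMap R (AdicCompletion (maximalIdeal R) R) (g c) -
      h (algebraMap C (AdicCompletion (maximalIdeal C) C) c) ∈
        maximalIdeal (AdicCompletion (maximalIdeal R) R) ^ N) (hloc : IsLocalHom h) :
    ∃ G : AdicCompletion (maximalIdeal C) C →+* AdicCompletion (maximalIdeal R) R,
      G.comp (algebraMap C (AdicCompletion (maximalIdeal C) C)) =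
        (algebraMap R (AdicCompletion (maximalIdeal R) R)).comp g ∧
      ∀ z, G z - h z ∈ maximalIdeal (AdicCompletion (maximalIdeal R) R) ^ N := by
  haveI := hloc
  let T := AdicCompletion (maximalIdeal R) R
  haveI : IsAdicComplete (maximalIdeal T) T := EtaleApprox.isAdicComplete_cpl R
  have hgm : (maximalIdeal C).map g ≤ maximalIdeal R := ((local_hom_TFAE g).out 0 2).mp ‹_›
  have hmap : (maximalIdeal C).map ((algebraMap R T).comp g) ≤ maximalIdeal T := by
    rw [← Ideal.map_map]
    refine (Ideal.map_mono hgm).trans (le_of_eq ?_)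
    rw [AdicCompletion.maximalIdeal_eq_map]
  obtain ⟨G, hG⟩ := Groth.Agent.AdicRing.exists_completion_hom (maximalIdeal C) ((algebraMap R T).comp g)
    (maximalIdeal T) hmap
  refine ⟨G, RingHom.ext hG, fun z => ?_⟩
  obtain ⟨c, hc⟩ := EtaleApprox.exists_sub_mem C N z
  have hGm : (maximalIdeal (AdicCompletion (maximalIdeal C) C)).map G ≤ maximalIdeal T := by
    rw [AdicCompletion.maximalIdeal_eq_map, Ideal.map_map,
      show G.comp (algebraMap C _) = (algebraMap R T).comp g from RingHom.ext hG]
    exact hmap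
  have hhm : (maximalIdeal (AdicCompletion (maximalIdeal C) C)).map h ≤ maximalIdeal T :=
    ((local_hom_TFAE h).out 0 2).mp ‹_›
  have h1 : G (z - algebraMap C _ c) ∈ maximalIdeal T ^ N :=
    Ideal.pow_right_mono hGm N (by rw [← Ideal.map_pow]; exact Ideal.mem_map_of_mem G hc)
  have h2 : h (z - algebraMap C _ c) ∈ maximalIdeal T ^ N :=
    Ideal.pow_right_mono hhm N (by rw [← Ideal.map_pow]; exact Ideal.mem_map_of_mem h hc)
  have h3 := add_mem (sub_mem h1 h2) (hcong c)
  rw [map_sub, map_sub, hG] at h3
  convert h3 using 1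
  show G z - h z = _
  simp only [RingHom.comp_apply]
  ring

/-- Evaluation of the node `uv = Δ` at a factorisation. -/
theorem exists_node_eval {T : Type u} [CommRing T] [IsLocalRing T] [IsAdicComplete (maximalIdeal T) T]
    {d a b : T} (ha : a ∈ maximalIdeal T) (hb : b ∈ maximalIdeal T) (hab : a * b = d) :
    ∃ f : (MvPowerSeries (Fin 2) T ⧸ Ideal.span {(MvPowerSeries.X 0 * MvPowerSeries.X 1 -
        MvPowerSeries.C d : MvPowerSeries (Fin 2) T)}) →+* T,
      (∀ x : T, f (Ideal.Quotient.mk _ (MvPowerSeries.C x)) = x) ∧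
        f (Ideal.Quotient.mk _ (MvPowerSeries.X 0)) = a ∧ f (Ideal.Quotient.mk _ (MvPowerSeries.X 1)) = b := by
  obtain ⟨F, hFC, hFX⟩ := exists_mvPowerSeries_eval (RingHom.id T) (maximalIdeal T) ![a, b]
    (fun i => by fin_cases i <;> simpa)
  have hC : ∀ x : T, F (MvPowerSeries.C x) = x := fun x => congr($hFC x)
  refine ⟨Ideal.Quotient.lift _ F fun y hy => ?_, fun x => hC x, hFX 0, hFX 1⟩
  obtain ⟨w, rfl⟩ := Ideal.mem_span_singleton'.1 hy
  rw [map_mul, map_sub, map_mul, hFX 0, hFX 1, hC]
  show F w * (a * b - d) = 0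
  rw [hab, sub_self, mul_zero]

end Groth.Agent.CAlgH.RetractionApprox
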