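import Groth.Agent.Unibr10.Product
import Mathlib

/-!
# Homomorphisms into fields without separable proper residue extension
-/

set_option autoImplicit false
universe u

open Polynomial

namespace Groth.Agent.CAlgH.RootTriv

/-- The image of `f` contains every simple root of a polynomial with coefficients in it. -/
def RootTriv {R L : Type u} [CommRing R] [Field L] (f : R →+* L) : Prop :=
  ∀ (x : L) (q : R[X]), q.eval₂ f x = 0 → q.derivative.eval₂ f x ≠ 0 → x ∈ f.range

/-- All residue fields at the quotient fields of `f` are `RootTriv`. -/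
def SepTriv {R T : Type u} [CommRing R] [CommRing T] (f : R →+* T) : Prop :=
  ∀ (L : Type u) [Field L] (g : T →+* L), Function.Surjective g → RootTriv (g.comp f)

section basic

variable {R A L : Type u} [CommRing R] [CommRing A] [Field L]

theorem rootTriv_comp_iff {π : R →+* A} (hπ : Function.Surjective π) (f : A →+* L) :
    RootTriv (f.comp π) ↔ RootTriv f := by
  constructor
  · intro h x q h0 h1
    obtain ⟨q, rfl⟩ := Polynomial.map_surjective π hπ q
    rw [derivative_map, eval₂_map] at h1
    rw [eval₂_map] at h0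
    obtain ⟨r, hr⟩ := h x q h0 h1
    exact ⟨π r, hr⟩
  · intro h x q h0 h1
    obtain ⟨a, ha⟩ := h x (q.map π) (by rwa [eval₂_map]) (by rwa [derivative_map, eval₂_map])
    obtain ⟨r, rfl⟩ := hπ a
    exact ⟨r, ha⟩

theorem rootTriv_of_ringEquiv {L' : Type u} [Field L'] (e : L ≃+* L') {f : R →+* L}
    (h : RootTriv f) : RootTriv (e.toRingHom.comp f) := fun x q h0 h1 => by
  have hx : e.toRingHom (e.symm x) = x := e.apply_symm_apply x
  rw [← hx, ← hom_eval₂, _root_.map_eq_zero] at h0
  rw [← hx, ← hom_eval₂, _root_.map_ne_zero] at h1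
  obtain ⟨r, hr⟩ := h _ q h0 h1
  exact ⟨r, (congrArg e hr).trans (e.apply_symm_apply x)⟩

theorem separableClosure_eq_bot_iff (k : Type u) [Field k] [Algebra k L] :
    separableClosure k L = ⊥ ↔ RootTriv (algebraMap k L) := by
  constructor
  · intro h x q h0 h1
    change aeval x q = 0 at h0
    change aeval x q.derivative ≠ 0 at h1
    have hq : q ≠ 0 := fun hq => h1 (by simp [hq])
    have hint : IsIntegral k x := IsAlgebraic.isIntegral ⟨q, hq, h0⟩
    have hsep : IsSeparable k x := by
      rw [IsSeparable, separable_iff_derivative_ne_zero (minpoly.irreducible hint)]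
      intro hd
      obtain ⟨c, rfl⟩ := minpoly.dvd k x h0
      rw [derivative_mul, hd, map_add, map_mul, map_mul, minpoly.aeval] at h1
      simp at h1
    obtain ⟨r, hr⟩ := IntermediateField.mem_bot.1 (h ▸ mem_separableClosure_iff.2 hsep)
    exact ⟨r, hr⟩
  · intro h
    refine bot_unique fun x hx => IntermediateField.mem_bot.2 ?_
    exact h x (minpoly k x) (minpoly.aeval k x)
      ((mem_separableClosure_iff.1 hx).aeval_derivative_ne_zero (minpoly.aeval k x))

theorem separableClosure_closure_eq_bot_iff (f : R →+* L) (hf : (RingHom.ker f).IsMaximal) :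
    separableClosure (Subfield.closure (Set.range f)) L = ⊥ ↔ RootTriv f := by
  let K : Subfield L :=
    { f.range with
      inv_mem' := fun x hx => by
        obtain ⟨a, rfl⟩ := hx
        rcases eq_or_ne (f a) 0 with h0 | h0
        · rw [h0, inv_zero]; exact f.range.zero_mem
        · obtain ⟨y, i, hi, hyi⟩ := hf.exists_inv (x := a) h0
          refine ⟨y, eq_inv_of_mul_eq_one_left ?_⟩
          have h1 := congrArg f hyi
          rw [map_add, map_mul, show f i = 0 from hi, add_zero, map_one] at h1
          exact h1 }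
  let π : R →+* Subfield.closure (Set.range f) :=
    f.codRestrict (Subfield.closure (Set.range f)) fun r => Subfield.subset_closure ⟨r, rfl⟩
  have hπ : Function.Surjective π := fun y => by
    obtain ⟨r, hr⟩ := (Subfield.closure_le (t := K)).2 (fun z hz => hz) y.2
    exact ⟨r, Subtype.ext hr⟩
  rw [separableClosure_eq_bot_iff, ← rootTriv_comp_iff hπ]
  rfl

theorem rootTriv_iff_pow_mem (f : R →+* L) (hf : (RingHom.ker f).IsMaximal)
    (halg : ∀ x : L, ∃ q : R[X], q.Monic ∧ q.eval₂ f x = 0) :
    RootTriv f ↔ ∀ x : L, ∃ n : ℕ, x ^ ringExpChar L ^ n ∈ f.range := by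
  haveI := hf
  letI : Field (R ⧸ RingHom.ker f) := Ideal.Quotient.field _
  letI : Algebra (R ⧸ RingHom.ker f) L := (RingHom.kerLift f).toAlgebra
  let π := Ideal.Quotient.mk (RingHom.ker f)
  have hπ : Function.Surjective π := Ideal.Quotient.mk_surjective
  have hcomp : (algebraMap (R ⧸ RingHom.ker f) L).comp π = f := rfl
  haveI : Algebra.IsAlgebraic (R ⧸ RingHom.ker f) L := ⟨fun x => by
    obtain ⟨q, hm, h0⟩ := halg x
    exact IsIntegral.isAlgebraic ⟨q.map π, hm.map π, by rw [eval₂_map, hcomp]; exact h0⟩⟩
  haveI : ExpChar (R ⧸ RingHom.ker f) (ringExpChar L) :=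
    (algebraMap (R ⧸ RingHom.ker f) L).expChar (RingHom.injective _) _
  rw [← hcomp, rootTriv_comp_iff hπ, ← separableClosure_eq_bot_iff, separableClosure.eq_bot_iff,
    isPurelyInseparable_iff_pow_mem _ (ringExpChar L)]
  refine forall_congr' fun x => exists_congr fun n => ?_
  rw [RingHom.range_eq_map (RingHom.comp _ _), ← Subring.map_map, ← RingHom.range_eq_map,
    RingHom.range_eq_top.2 hπ, RingHom.range_eq_map]

end basic

section sep

variable {R A T : Type u} [CommRing R] [CommRing A] [CommRing T]

theorem sepTriv_comp_iff {π : R →+* A} (hπ : Function.Surjective π) (f : A →+* T) :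
    SepTriv (f.comp π) ↔ SepTriv f := by
  constructor
  · intro h L _ g hg
    exact (rootTriv_comp_iff hπ _).1 (h L g hg)
  · intro h L _ g hg
    exact (rootTriv_comp_iff hπ _).2 (h L g hg)

theorem sepTriv_ringEquiv_comp {T' : Type u} [CommRing T'] (e : T ≃+* T') {f : R →+* T} :
    SepTriv (e.toRingHom.comp f) ↔ SepTriv f := by
  refine ⟨fun h L _ g hg => ?_, fun h L _ g hg => h L (g.comp e.toRingHom) (hg.comp e.surjective)⟩
  have := h L (g.comp e.symm.toRingHom) (hg.comp e.symm.surjective)
  rwa [show (g.comp e.symm.toRingHom).comp (e.toRingHom.comp f) = g.comp f from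
    RingHom.ext fun r => congrArg g (e.symm_apply_apply (f r))] at this

theorem sepTriv_pi_iff {ι : Type u} [Fintype ι] (N : ι → Type u) [∀ i, CommRing (N i)]
    (f : ∀ i, R →+* N i) : SepTriv (Pi.ringHom f) ↔ ∀ i, SepTriv (f i) := by
  constructor
  · intro h i L _ g hg
    exact h L (g.comp (Pi.evalRingHom N i)) (hg.comp (Function.surjective_eval i))
  · intro h L _ g hg
    obtain ⟨⟨i, τ⟩, hτ⟩ := (Unibr10.homPiEquiv N L).surjective g
    have hτ' : g = τ.comp (Pi.evalRingHom N i) := hτ.symm
    subst hτ'
    exact h i L τ (Function.Surjective.of_comp hg)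

/-- Testing `SepTriv` on residue fields at maximal ideals. -/
theorem sepTriv_algebraMap_iff [Algebra R T] [Algebra.IsIntegral R T] :
    SepTriv (algebraMap R T) ↔ ∀ (M : Ideal T) [M.IsMaximal],
      separableClosure (Subfield.closure (Set.range ((algebraMap T M.ResidueField).comp (algebraMap R T))))
        M.ResidueField = ⊥ := by
  have key : ∀ (L : Type u) [Field L] (g : T →+* L), (RingHom.ker g).IsMaximal →
      (RingHom.ker (g.comp (algebraMap R T))).IsMaximal := fun L _ g hg => by
    haveI := hg
    rw [← RingHom.comap_ker]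
    exact Ideal.isMaximal_comap_of_isIntegral_of_isMaximal _
  have hkerM : ∀ (M : Ideal T) [M.IsMaximal], (RingHom.ker (algebraMap T M.ResidueField)).IsMaximal :=
    fun M _ => by rw [Ideal.ker_algebraMap_residueField]; infer_instance
  constructor
  · intro h M _
    refine (separableClosure_closure_eq_bot_iff _ (key _ _ (hkerM M))).2 (h _ _ ?_)
    intro y
    obtain ⟨z, hz⟩ := (Ideal.bijective_algebraMap_quotient_residueField M).2 y
    obtain ⟨t, rfl⟩ := Ideal.Quotient.mk_surjective z
    exact ⟨t, by rw [← hz]; exact IsScalarTower.algebraMap_apply T (T ⧸ M) M.ResidueField t⟩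
  · intro h L _ g hg
    haveI hM : (RingHom.ker g).IsMaximal := RingHom.ker_isMaximal_of_surjective g hg
    let M := RingHom.ker g
    let e : L ≃+* M.ResidueField := (RingHom.quotientKerEquivOfSurjective hg).symm.trans
      (RingEquiv.ofBijective _ (Ideal.bijective_algebraMap_quotient_residueField M))
    have he : (algebraMap T M.ResidueField) = e.toRingHom.comp g := RingHom.ext fun t => by
      have h1 : (RingHom.quotientKerEquivOfSurjective hg).symm (g t) = Ideal.Quotient.mk M t :=
        (RingEquiv.symm_apply_eq _).2 rfl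
      rw [RingHom.comp_apply, RingEquiv.toRingHom_eq_coe, RingHom.coe_coe, RingEquiv.trans_apply, h1, RingEquiv.ofBijective_apply]
      exact IsScalarTower.algebraMap_apply T (T ⧸ M) M.ResidueField t
    have h2 := (separableClosure_closure_eq_bot_iff _ (key _ _ (hkerM M))).1 (h M)
    rw [he, RingHom.comp_assoc] at h2
    have h3 := rootTriv_of_ringEquiv e.symm h2
    rwa [← RingHom.comp_assoc, RingEquiv.symm_toRingHom_comp_toRingHom, RingHom.id_comp] at h3

end sep

end Groth.Agent.CAlgH.RootTriv
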