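import Groth.Agent.CAlgH.CompletionFlat
import Groth.Agent.FlatMorDevissage.LocalModelApps
import Groth.Agent.FlatMorDevissage.FibresDomain

/-!
# Universal injectivity of the completion along a section
-/

set_option autoImplicit false
set_option backward.isDefEq.respectTransparency false
set_option linter.style.haveILetI false

universe u

open TensorProduct Function

namespace Groth.Agent.CAlgH.SectionCompletionUInj

open Groth.Agent FlatMorDevissage

theorem univInj {A : Type u} [CommRing A] [IsNoetherianRing A] {B : Type u} [CommRing B] [Algebra A B]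
    [Algebra.Smooth A B] (hfib : FlatCA.GeomIntegralFibres A B) (u : B →ₐ[A] A)
    {Bh : Type u} [CommRing Bh] [Algebra B Bh] [Algebra A Bh] [IsScalarTower A B Bh]
    [IsAdicComplete ((RingHom.ker u).map (algebraMap B Bh)) Bh]
    (hq : ∀ n : ℕ, Function.Bijective (Ideal.quotientMap ((RingHom.ker u ^ n).map (algebraMap B Bh))
      (algebraMap B Bh) Ideal.le_comap_map)) :
    FlatCA.UnivInj A (IsScalarTower.toAlgHom A B Bh).toLinearMap := by
  classical
  let I := RingHom.ker u
  have : IsNoetherianRing B := Algebra.FiniteType.isNoetherianRing A B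
  have : IsAdicComplete I Bh := (IsAdicComplete.map_algebraMap_iff (S := Bh) I Bh).1 inferInstance
  have hres : ∀ n, ((I ^ n).map (algebraMap B Bh)).restrictScalars B = I ^ n • (⊤ : Submodule B Bh) :=
    fun n => (Ideal.smul_top_eq_map (I ^ n)).symm
  have hlift : ∀ (n : ℕ) (z : Bh), ∃ b : B, z - algebraMap B Bh b ∈ (I ^ n).map (algebraMap B Bh) := fun n z => by
    obtain ⟨q, hq'⟩ := (hq n).2 (Ideal.Quotient.mk _ z)
    obtain ⟨b, rfl⟩ := Ideal.Quotient.mk_surjective q
    refine ⟨b, ?_⟩
    rw [Ideal.quotientMap_mk, eq_comm, Ideal.Quotient.eq] at hq'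
    exact hq'
  have hinj : ∀ (n : ℕ) (b : B), algebraMap B Bh b ∈ (I ^ n).map (algebraMap B Bh) → b ∈ I ^ n := fun n b hb =>
    Ideal.Quotient.eq_zero_iff_mem.1 ((hq n).1 (by
      rw [map_zero, Ideal.quotientMap_mk]
      exact Ideal.Quotient.eq_zero_iff_mem.2 hb))
  -- flatness of the completion
  have : Module.Flat B Bh := CompletionFlat.flat_of_hasFactor I fun n m k Φ z hz => by
    choose b hb using fun j => hlift n (z j)
    refine ⟨1, fun _ j => b j, fun _ => 1, fun t i => hinj n _ ?_, fun j => ?_⟩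
    · rw [map_sum]
      have h1 : ∑ j, Φ i j • z j ∈ (I ^ n).map (algebraMap B Bh) := by
        rw [← Submodule.restrictScalars_mem B, hres]
        exact hz i
      have h2 : ∑ j, algebraMap B Bh (Φ i j) * (z j - algebraMap B Bh (b j)) ∈ (I ^ n).map (algebraMap B Bh) :=
        Submodule.sum_mem _ fun j _ => Ideal.mul_mem_left _ _ (hb j)
      convert sub_mem h1 h2 using 1
      rw [← Finset.sum_sub_distrib]
      refine Finset.sum_congr rfl fun j _ => ?_
      rw [map_mul, Algebra.smul_def]
      ring
    · rw [← hres, Submodule.restrictScalars_mem]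
      simpa [Algebra.smul_def] using hb j
  have : Module.Flat A B := inferInstance
  have : Module.Flat A Bh := Module.Flat.trans A B Bh
  refine Reflects.univInj fun J x hx => ?_
  let JB := J.map (algebraMap A B)
  have hJ : ∀ y : B, y ∈ JB ↔ y ∈ J • (⊤ : Submodule A B) := fun y => by
    rw [Ideal.smul_top_eq_map, Submodule.restrictScalars_mem]
  -- `x` lies in every `J B + I ^ n`
  have hxn : ∀ n, x ∈ JB ⊔ I ^ n := fun n => by
    have hmem : algebraMap B Bh x ∈ (JB ⊔ I ^ n).map (algebraMap B Bh) := by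
      refine Ideal.map_mono le_sup_left ?_
      rw [Ideal.map_map, ← IsScalarTower.algebraMap_eq, ← Submodule.restrictScalars_mem A,
        ← Ideal.smul_top_eq_map]
      exact hx
    obtain ⟨y, hy, hxy⟩ : ∃ y ∈ JB ⊔ I ^ n, algebraMap B Bh x - algebraMap B Bh y ∈
        (I ^ n).map (algebraMap B Bh) := by
      refine Submodule.span_induction (p := fun w _ => ∃ y ∈ JB ⊔ I ^ n,
        w - algebraMap B Bh y ∈ (I ^ n).map (algebraMap B Bh)) ?_ ?_ ?_ ?_ hmem
      · rintro _ ⟨y, hy, rfl⟩
        exact ⟨y, hy, by simp⟩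
      · exact ⟨0, zero_mem _, by simp⟩
      · rintro a b _ _ ⟨y, hy, ha⟩ ⟨y', hy', hb⟩
        exact ⟨y + y', add_mem hy hy', by simpa [map_add, add_sub_add_comm] using add_mem ha hb⟩
      · rintro a b _ ⟨y, hy, hb⟩
        obtain ⟨a₀, ha₀⟩ := hlift n a
        refine ⟨a₀ * y, Ideal.mul_mem_left _ _ hy, ?_⟩
        have : a • b - algebraMap B Bh (a₀ * y) =
            a * (b - algebraMap B Bh y) + (a - algebraMap B Bh a₀) * algebraMap B Bh y := by
          rw [smul_eq_mul, map_mul]; ring
        rw [this]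
        exact add_mem (Ideal.mul_mem_left _ _ hb) (Ideal.mul_mem_right _ _ ha₀)
    rw [← map_sub] at hxy
    simpa using add_mem (Ideal.mem_sup_right (hinj n _ hxy)) hy
  obtain ⟨⟨a, ha⟩, hax⟩ : ∃ a : I, (a : B) * x - x ∈ JB := by
    have h1 : (Ideal.Quotient.mk JB x) ∈ (⨅ n : ℕ, I ^ n • ⊤ : Submodule B (B ⧸ JB)) := by
      refine Submodule.mem_iInf _ |>.2 fun n => ?_
      obtain ⟨j, hj, i, hi, rfl⟩ := Submodule.mem_sup.1 (hxn n)
      rw [map_add, Ideal.Quotient.eq_zero_iff_mem.2 hj, zero_add,
        show Ideal.Quotient.mk JB i = i • (1 : B ⧸ JB) by rw [Algebra.smul_def, mul_one]; rfl]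
      exact Submodule.smul_mem_smul hi Submodule.mem_top
    obtain ⟨a, ha⟩ := (Ideal.mem_iInf_smul_pow_eq_bot_iff I _).1 h1
    refine ⟨a, Ideal.Quotient.eq.1 ?_⟩
    rw [map_mul]
    rw [Algebra.smul_def] at ha
    exact ha
  -- `1 - a` acts universally injectively
  have hu : FlatCA.UnivInj A ((LinearMap.lsmul B B (1 - a)).restrictScalars A) := by
    have : IsLocalizedModule (⊥ : Submonoid B) (LinearMap.id : B →ₗ[B] B) :=
      { map_units := fun x => by rw [Submonoid.mem_bot.1 x.2, map_one]; exact isUnit_one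
        surj := fun y => ⟨(y, 1), by simp⟩
        exists_of_eq := fun h => ⟨1, by simpa using h⟩ }
    refine univInj_of_fibres B (⊥ : Submonoid B) LinearMap.id _ fun p _ => ?_
    have : IsDomain (p.ResidueField ⊗[A] B) := fibresDomain_of_geomIntegral hfib p.ResidueField
    have hne : ((1 : p.ResidueField) ⊗ₜ[A] (1 - a)) ≠ 0 := fun h0 => by
      have h1 := congrArg ((TensorProduct.rid A p.ResidueField).toLinearMap ∘ₗ u.toLinearMap.lTensor p.ResidueField) h0
      rw [map_zero] at h1
      simp only [LinearMap.comp_apply, LinearMap.lTensor_tmul, AlgHom.toLinearMap_apply, map_sub, map_one,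
        RingHom.mem_ker.1 ha, sub_zero, LinearEquiv.coe_coe, TensorProduct.rid_tmul, one_smul] at h1
      exact one_ne_zero h1
    refine (injective_iff_map_eq_zero _).2 fun z hz => ?_
    have key : ∀ z : p.ResidueField ⊗[A] B,
        ((LinearMap.lsmul B B (1 - a)).restrictScalars A).lTensor p.ResidueField z =
          ((1 : p.ResidueField) ⊗ₜ[A] (1 - a)) * z := fun z => by
      induction z using TensorProduct.induction_on with
      | zero => simp
      | add v w hv hw => rw [map_add, hv, hw, mul_add]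
      | tmul k b =>
        rw [LinearMap.lTensor_tmul, Algebra.TensorProduct.tmul_mul_tmul, one_mul]
        rfl
    rw [key] at hz
    exact (mul_eq_zero.1 hz).resolve_left hne
  refine mem_smul_top_of_univInj hu J x ?_
  rw [← hJ]
  show (1 - a) • x ∈ JB
  rw [smul_eq_mul, show (1 - a) * x = -(a * x - x) by ring]
  exact neg_mem hax

end Groth.Agent.CAlgH.SectionCompletionUInj
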