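import Groth.Agent.FlatMorDevissage.FPFlat

/-!
# Flatness and finite presentation over semi-valuation rings
-/

set_option autoImplicit false
set_option backward.isDefEq.respectTransparency false
set_option linter.style.haveILetI false

universe u

open TensorProduct Function

namespace Groth.Agent.CAlgH.SemiValFlat

open Groth.Agent FlatMorDevissage

/-- A finite flat module over a finitely presented algebra which is finitely presented after
inverting a set of nonzerodivisors of the base is finitely presented. -/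
theorem finitePresentation_of_flat_of_localized {R S : Type u} [CommRing R] [CommRing S] [Algebra R S]
    [Algebra.FinitePresentation R S] (M : Type u) [AddCommGroup M] [Module S M] [Module R M]
    [IsScalarTower R S M] [Module.Finite S M] [Module.Flat R M] (T : Submonoid R)
    (hT : ∀ t ∈ T, IsSMulRegular R t)
    {m : ℕ} (π : (Fin m → S) →ₗ[S] M) (hπ : Surjective π) (K₂ : Submodule S (Fin m → S)) (hfg₂ : K₂.FG)
    (hle₂ : K₂ ≤ LinearMap.ker π) (hK₂ : ∀ x, π x = 0 → ∃ t ∈ T, algebraMap R S t • x ∈ K₂) :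
    Module.FinitePresentation S M := by
  classical
  refine finitePresentation_of_kerFG π hπ fun q _ => ?_
  obtain ⟨K₁, hfg, hle, hK⟩ :=
    (fp_localized_iff π hπ q.primeCompl).1 (fp_localization_of_flatAt M q (flatAt_of_flat (R := R) M q))
  let K₀ := K₁ ⊔ K₂
  have hK₀fg : K₀.FG := hfg.sup hfg₂
  have hK₀le : K₀ ≤ LinearMap.ker π := sup_le hle hle₂
  let G := (Fin m → S) ⧸ K₀
  have : Module.FinitePresentation S G :=
    Module.finitePresentation_of_surjective K₀.mkQ K₀.mkQ_surjective (by rwa [Submodule.ker_mkQ])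
  let πb : G →ₗ[S] M := K₀.liftQ π hK₀le
  have hπb : Surjective πb := fun w => by
    obtain ⟨y, rfl⟩ := hπ w
    exact ⟨Submodule.Quotient.mk y, rfl⟩
  have hflatq : FlatCA.FlatAt R q G :=
    (flatAt_iff_of_killed πb hπb q fun h hh => by
      obtain ⟨x, rfl⟩ := K₀.mkQ_surjective h
      obtain ⟨t, ht, htx⟩ := hK x hh
      refine ⟨t, ht, ?_⟩
      rw [← map_smul, Submodule.mkQ_apply, Submodule.Quotient.mk_eq_zero]
      exact le_sup_left (b := K₂) htx).2 (flatAt_of_flat M q)
  obtain ⟨W, ⟨g, rfl⟩, hgq, hsub⟩ := PrimeSpectrum.isTopologicalBasis_basic_opens.exists_subset_of_mem_open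
    (show (⟨q, inferInstance⟩ : PrimeSpectrum S) ∈ {Q : PrimeSpectrum S |
      Module.Flat R (LocalizedModule Q.asIdeal.primeCompl G)} from hflatq)
    EGA43.FlatDescent.isOpen_setOf_flat
  refine ⟨g, hgq, K₀, hK₀fg, hK₀le, fun x hx => ?_⟩
  obtain ⟨t, ht, htx⟩ := hK₂ x hx
  have htx' : algebraMap R S t • K₀.mkQ x = 0 := by
    rw [← map_smul, Submodule.mkQ_apply, Submodule.Quotient.mk_eq_zero]
    exact le_sup_right (a := K₁) htx
  obtain ⟨e, he⟩ := CAlgSmall.FPFlatLocal.exists_pow_smul_eq_zero (K₀.mkQ x) g fun Q hgQ => by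
    have : Module.Flat R (LocalizedModule Q.asIdeal.primeCompl G) := hsub hgQ
    have hreg : IsSMulRegular (LocalizedModule Q.asIdeal.primeCompl G) t := by
      have h2 : Injective ((LinearMap.lsmul R R t).lTensor (LocalizedModule Q.asIdeal.primeCompl G)) :=
        Module.Flat.lTensor_preserves_injective_linearMap _ (hT t ht)
      intro a b hab
      apply (TensorProduct.rid R _).symm.injective
      apply h2
      have h3 : ∀ c : LocalizedModule Q.asIdeal.primeCompl G,
          (LinearMap.lsmul R R t).lTensor _ (c ⊗ₜ[R] (1 : R)) = (t • c) ⊗ₜ[R] (1 : R) := fun c => by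
        rw [LinearMap.lTensor_tmul, LinearMap.lsmul_apply, ← TensorProduct.smul_tmul]
      show (LinearMap.lsmul R R t).lTensor _ (a ⊗ₜ[R] (1 : R)) = (LinearMap.lsmul R R t).lTensor _ (b ⊗ₜ[R] (1 : R))
      rw [h3, h3, show t • a = t • b from hab]
    apply hreg
    show t • _ = t • (0 : LocalizedModule Q.asIdeal.primeCompl G)
    rw [smul_zero, ← algebraMap_smul S t, ← map_smul, htx', map_zero]
  refine ⟨g ^ e, ⟨e, rfl⟩, ?_⟩
  rwa [← map_smul, Submodule.mkQ_apply, Submodule.Quotient.mk_eq_zero] at he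

/-- The torsion step: `s c ∈ K C` implies `c ∈ K C` for the relation module `K` of a vector, when `s` is
regular on `C` and `C / s C` is flat over `R / s R`. -/
theorem mem_relation_of_smul_mem {R C : Type u} [CommRing R] [CommRing C] [Algebra R C] (s : R)
    (hs : IsSMulRegular R s) (hsC : IsSMulRegular C s)
    [Module.Flat (R ⧸ Ideal.span {s}) ((R ⧸ Ideal.span {s}) ⊗[R] C)] {k : ℕ} (v : Fin k → R)
    (c : Fin k → C) {l : ℕ} (κ : Fin l → Fin k → R) (hκ : ∀ a, ∑ i, v i * κ a i = 0) (y : Fin l → C)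
    (hc : ∀ i, algebraMap R C s * c i = ∑ a, κ a i • y a) :
    ∃ (l' : ℕ) (κ' : Fin l' → Fin k → R) (y' : Fin l' → C),
      (∀ a, ∑ i, v i * κ' a i = 0) ∧ ∀ i, c i = ∑ a, κ' a i • y' a := by
  classical
  let Rs := R ⧸ Ideal.span {s}
  let Cs := Rs ⊗[R] C
  let ι : C →ₗ[R] Cs := TensorProduct.mk R Rs C 1
  have hιs : Surjective ι := TensorProduct.mk_surjective R C Rs Ideal.Quotient.mk_surjective
  have hι0 : ∀ z, ι z = 0 → ∃ w, z = s • w := fun z hz => by
    have hz' : z ∈ LinearMap.ker ι := hz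
    rw [show LinearMap.ker ι = Ideal.span {s} • (⊤ : Submodule R C) from
      LinearMap.ker_tensorProductMk (Q := C) (I := Ideal.span {s}), Submodule.ideal_span_singleton_smul] at hz'
    obtain ⟨w, -, hw⟩ := (Submodule.mem_smul_pointwise_iff_exists _ _ _).1 hz'
    exact ⟨w, hw.symm⟩
  let f : (Fin l → Rs) →ₗ[Rs] (Fin k → Rs) :=
    Fintype.linearCombination Rs fun a => fun i => Ideal.Quotient.mk _ (κ a i)
  let x : (Fin l → Rs) →ₗ[Rs] Cs := Fintype.linearCombination Rs fun a => ι (y a)
  -- the `i`-th relation holds in `C / s C`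
  have hrel : ∀ i, ∑ a, (Ideal.Quotient.mk (Ideal.span {s}) (κ a i)) • ι (y a) = 0 := fun i => by
    calc ∑ a, (Ideal.Quotient.mk (Ideal.span {s}) (κ a i)) • ι (y a)
        = ι (∑ a, κ a i • y a) := by
          rw [map_sum]
          refine Finset.sum_congr rfl fun a _ => ?_
          rw [map_smul, ← algebraMap_smul Rs (κ a i)]
          rfl
      _ = 0 := by
          rw [← hc i, ← Algebra.smul_def, map_smul, ← algebraMap_smul Rs s, show algebraMap R Rs s = 0 from
            Ideal.Quotient.eq_zero_iff_mem.2 (Ideal.mem_span_singleton_self s), zero_smul]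
  -- equational criterion
  let φ : (Fin k → Rs) →ₗ[Rs] (Fin l → Rs) :=
    Fintype.linearCombination Rs fun i => fun a => Ideal.Quotient.mk _ (κ a i)
  have hxφ : x ∘ₗ φ = 0 := by
    refine (Pi.basisFun Rs (Fin k)).ext fun i => ?_
    simp only [LinearMap.comp_apply, Pi.basisFun_apply, LinearMap.zero_apply, φ,
      Fintype.linearCombination_apply, x]
    refine Eq.trans ?_ (hrel i)
    refine Finset.sum_congr rfl fun a _ => ?_
    congr 1
    rw [Finset.sum_apply, Finset.sum_eq_single i (fun c _ h => by simp [Pi.single_eq_of_ne h]) (by simp)]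
    simp
  obtain ⟨n, b₀, z₀, hxz₀, hb₀⟩ := Module.Flat.exists_factorization_of_comp_eq_zero_of_free hxφ
  let e := Finsupp.linearEquivFunOnFinite Rs Rs (Fin n)
  let b : (Fin l → Rs) →ₗ[Rs] (Fin n → Rs) := e.toLinearMap ∘ₗ b₀
  let z : (Fin n → Rs) →ₗ[Rs] Cs := z₀ ∘ₗ e.symm.toLinearMap
  have hxz : x = z ∘ₗ b := LinearMap.ext fun d => by rw [hxz₀]; simp [z, b]
  have hb : b ∘ₗ φ = 0 := by rw [LinearMap.comp_assoc, hb₀, LinearMap.comp_zero]
  choose zl hzl using fun j => hιs (z (Pi.single j 1))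
  choose bl hbl using fun (a : Fin l) (j : Fin n) =>
    Ideal.Quotient.mk_surjective (b (Pi.single a 1) j)
  have hy : ∀ a, ∃ w, y a = (∑ j, bl a j • zl j) + s • w := fun a => by
    have h : ι (y a - ∑ j, bl a j • zl j) = 0 := by
      rw [map_sub, map_sum, sub_eq_zero]
      have h1 := congr($hxz (Pi.single a 1))
      simp only [x, Fintype.linearCombination_apply_single, LinearMap.comp_apply, one_smul] at h1
      rw [h1]
      conv_lhs => rw [← Finset.univ_sum_single (b (Pi.single a 1)), map_sum]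
      refine Finset.sum_congr rfl fun j _ => ?_
      rw [map_smul ι, hzl, ← algebraMap_smul Rs (bl a j), Ideal.Quotient.algebraMap_eq, hbl, ← map_smul z]
      congr 1
      ext i
      by_cases h : i = j <;> simp [h]
    obtain ⟨w, hw⟩ := hι0 _ h
    exact ⟨w, by rw [← hw]; abel⟩
  choose w hw using hy
  have hω : ∀ j i, ∃ r, ∑ a, κ a i * bl a j = s * r := fun j i => by
    suffices h0 : Ideal.Quotient.mk (Ideal.span {s}) (∑ a, κ a i * bl a j) = 0 by
      obtain ⟨r, hr⟩ := Ideal.mem_span_singleton'.1 (Ideal.Quotient.eq_zero_iff_mem.1 h0)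
      exact ⟨r, by rw [← hr, mul_comm]⟩
    have h1 := congr($hb (Pi.single i 1) j)
    simp only [φ, LinearMap.comp_apply, Fintype.linearCombination_apply_single, one_smul,
      LinearMap.zero_apply, Pi.zero_apply] at h1
    rw [← Finset.univ_sum_single (fun a => Ideal.Quotient.mk (Ideal.span {s}) (κ a i)), map_sum,
      Finset.sum_apply] at h1
    rw [map_sum, ← h1]
    refine Finset.sum_congr rfl fun a _ => ?_
    rw [show (Pi.single a (Ideal.Quotient.mk (Ideal.span {s}) (κ a i)) : Fin l → Rs) =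
      Ideal.Quotient.mk (Ideal.span {s}) (κ a i) • Pi.single a 1 by
        ext t; by_cases h : t = a <;> simp [h], map_smul, Pi.smul_apply, smul_eq_mul, ← hbl, ← map_mul]
  choose ω hω using hω
  have hωv : ∀ j, ∑ i, v i * ω j i = 0 := fun j => by
    apply hs
    show s • _ = s • (0 : R)
    rw [smul_zero, smul_eq_mul, Finset.mul_sum]
    simp only [mul_left_comm s, ← hω, Finset.mul_sum]
    rw [Finset.sum_comm]
    simp only [← mul_assoc, ← Finset.sum_mul, hκ, zero_mul, Finset.sum_const_zero]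
  refine ⟨n + l, Fin.append ω κ, Fin.append zl w, fun a => ?_, fun i => ?_⟩
  · induction a using Fin.addCases with
    | left j => simpa using hωv j
    | right a => simpa using hκ a
  · rw [Fin.sum_univ_add]
    simp only [Fin.append_left, Fin.append_right]
    apply hsC
    show s • c i = s • _
    rw [Algebra.smul_def, hc i, smul_add, Finset.smul_sum, Finset.smul_sum]
    have hsum : ∑ j, s • ω j i • zl j = ∑ a, κ a i • ∑ j, bl a j • zl j := by
      simp only [Finset.smul_sum, smul_smul]
      rw [Finset.sum_comm]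
      exact Finset.sum_congr rfl fun j _ => by rw [← hω, Finset.sum_smul]
    rw [hsum, ← Finset.sum_add_distrib]
    refine Finset.sum_congr rfl fun a _ => ?_
    rw [hw a, smul_add, smul_comm]

open IsLocalRing

variable {A : Type u} [CommRing A] [IsLocalRing A] {R : ValuationSubring (ResidueField A)}
  {O : Subring A} (hO : O = R.toSubring.comap (residue A))

include hO

theorem mem_iff_residue {a : A} : a ∈ O ↔ residue A a ∈ R := by rw [hO]; rfl

theorem mem_of_residue_eq_zero {a : A} (h : residue A a = 0) : a ∈ O :=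
  (mem_iff_residue hO).2 (h ▸ R.zero_mem)

/-- Elements with nonzero residue divide everything with smaller valuation. -/
theorem exists_mul_eq (x y : O) (hy : residue A y ≠ 0)
    (hle : residue A x * (residue A y)⁻¹ ∈ R) : ∃ r : O, x = y * r := by
  have hu : IsUnit (y : A) := residue_ne_zero_iff_isUnit _ |>.1 hy
  obtain ⟨u, hu⟩ := hu
  have hr : residue A (x * (↑u⁻¹ : A)) ∈ R := by
    rwa [map_mul, map_units_inv, hu]
  refine ⟨⟨_, (mem_iff_residue hO).2 hr⟩, Subtype.ext ?_⟩
  show (x : A) = y * (x * (↑u⁻¹ : A))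
  rw [← hu, mul_left_comm, u.mul_inv, mul_one]

theorem exists_mul_eq_of_residue_eq_zero (x y : O) (hy : residue A y ≠ 0) (hx : residue A x = 0) :
    ∃ r : O, x = y * r ∧ residue A r = 0 := by
  obtain ⟨r, hr⟩ := exists_mul_eq hO x y hy (by rw [hx, zero_mul]; exact R.zero_mem)
  refine ⟨r, hr, (mul_eq_zero.1 ?_).resolve_left hy⟩
  rw [← map_mul, ← Subring.coe_mul, ← hr, hx]

theorem exists_num_den (a : A) : ∃ (s : O), residue A s ≠ 0 ∧ (s : A) * a ∈ O := by
  by_cases h : residue A a ∈ R
  · exact ⟨1, by simp, by rw [OneMemClass.coe_one, one_mul]; exact (mem_iff_residue hO).2 h⟩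
  have h0 : residue A a ≠ 0 := fun e => h (e ▸ R.zero_mem)
  obtain ⟨u, hu⟩ := residue_ne_zero_iff_isUnit _ |>.1 h0
  have hinv : residue A (↑u⁻¹ : A) ∈ R := by
    rw [map_units_inv, hu]
    exact (R.mem_or_inv_mem _).resolve_left h
  refine ⟨⟨_, (mem_iff_residue hO).2 hinv⟩, (residue_ne_zero_iff_isUnit _).2 (u⁻¹).isUnit, ?_⟩
  show (↑u⁻¹ : A) * a ∈ O
  rw [← hu, u.inv_mul]
  exact one_mem _

theorem exists_common_den {ι : Type*} (t : Finset ι) (a : ι → A) :
    ∃ s : O, residue A s ≠ 0 ∧ ∀ i ∈ t, (s : A) * a i ∈ O := by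
  classical
  choose s hs hsa using fun i => exists_num_den hO (a i)
  refine ⟨∏ i ∈ t, s i, ?_, fun i hi => ?_⟩
  · rw [SubmonoidClass.coe_finset_prod, map_prod]
    exact Finset.prod_ne_zero_iff.2 fun i _ => hs i
  · rw [← Finset.prod_erase_mul t s hi, Subring.coe_mul, mul_assoc]
    exact mul_mem (Subtype.mem _) (hsa i)

variable {C : Type u} [CommRing C] [Algebra O C]
  (hadm : Injective (Algebra.TensorProduct.includeRight : C →ₐ[O] A ⊗[O] C))

include hadm

theorem isSMulRegular_of_residue_ne_zero {s : O} (hs : residue A s ≠ 0) : IsSMulRegular C s := by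
  obtain ⟨u, hu⟩ := residue_ne_zero_iff_isUnit _ |>.1 hs
  intro x y hxy
  apply hadm
  show (1 : A) ⊗ₜ[O] x = (1 : A) ⊗ₜ[O] y
  have h : ∀ z : C, (1 : A) ⊗ₜ[O] z = (↑u⁻¹ : A) ⊗ₜ[O] (s • z) := fun z => by
    rw [← TensorProduct.smul_tmul, Subring.smul_def, smul_eq_mul, ← hu, u.mul_inv]
  rw [h, h, show s • x = s • y from hxy]

omit hadm in
theorem exists_smul_eq_tmul (z : A ⊗[O] C) :
    ∃ (s : O) (c : C), residue A s ≠ 0 ∧ (s : A) • z = (1 : A) ⊗ₜ[O] c := by
  induction z using TensorProduct.induction_on with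
  | zero => exact ⟨1, 0, by simp, by simp⟩
  | tmul a c =>
    obtain ⟨s, hs, hsa⟩ := exists_num_den hO a
    refine ⟨s, (⟨_, hsa⟩ : O) • c, hs, ?_⟩
    rw [← TensorProduct.smul_tmul, TensorProduct.smul_tmul', Subring.smul_def, smul_eq_mul,
      smul_eq_mul, mul_one]
  | add x y hx hy =>
    obtain ⟨s, c, hs, hc⟩ := hx
    obtain ⟨s', c', hs', hc'⟩ := hy
    refine ⟨s * s', s' • c + s • c', by rw [Subring.coe_mul, map_mul]; exact mul_ne_zero hs hs', ?_⟩
    rw [tmul_add, Subring.coe_mul, smul_add, mul_comm, mul_smul, hc, mul_comm, mul_smul, hc',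
      TensorProduct.tmul_smul, TensorProduct.tmul_smul]
    rfl

variable [Module.Flat A (A ⊗[O] C)]

theorem flat : Module.Flat O C := by
  classical
  refine Module.Flat.of_forall_isTrivialRelation fun {l} v c hrel => ?_
  by_cases hP : ∀ i, residue A (v i : A) = 0
  · -- all coefficients lie in the prime ideal
    have hrelA : ∑ i, (v i : A) • ((1 : A) ⊗ₜ[O] c i) = 0 := by
      calc ∑ i, (v i : A) • ((1 : A) ⊗ₜ[O] c i) = (1 : A) ⊗ₜ[O] ∑ i, v i • c i := by
            rw [tmul_sum]
            refine Finset.sum_congr rfl fun i _ => ?_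
            rw [TensorProduct.tmul_smul]
            rfl
        _ = 0 := by rw [hrel, tmul_zero]
    obtain ⟨n, a, y, hy, ha⟩ := Module.Flat.isTrivialRelation_of_sum_smul_eq_zero hrelA
    choose t z ht hz using fun j => exists_smul_eq_tmul hO (y j)
    choose u hu using fun j => residue_ne_zero_iff_isUnit _ |>.1 (ht j)
    obtain ⟨S, hS, hSa⟩ := exists_common_den hO Finset.univ fun ij : Fin l × Fin n => a ij.1 ij.2 * (↑(u ij.2)⁻¹ : A)
    let o : Fin l → Fin n → O := fun i j => ⟨_, hSa (i, j) (Finset.mem_univ _)⟩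
    have hz' : ∀ i, S • c i = ∑ j, o i j • z j := fun i => by
      apply hadm
      show (1 : A) ⊗ₜ[O] (S • c i) = (1 : A) ⊗ₜ[O] ∑ j, o i j • z j
      rw [tmul_sum, TensorProduct.tmul_smul]
      show (S : A) • ((1 : A) ⊗ₜ[O] c i) = _
      rw [show (1 : A) ⊗ₜ[O] c i = ∑ j, a i j • y j from hy i, Finset.smul_sum]
      refine Finset.sum_congr rfl fun j _ => ?_
      rw [TensorProduct.tmul_smul]
      show (S : A) • a i j • y j = (o i j : A) • ((1 : A) ⊗ₜ[O] z j)
      rw [← hz j, smul_smul, smul_smul]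
      congr 1
      show (S : A) * a i j = (S : A) * (a i j * (↑(u j)⁻¹ : A)) * (t j : A)
      rw [← hu j, mul_assoc, mul_assoc (a i j), Units.inv_mul, mul_one]
    have hov : ∀ j, ∑ i, v i * o i j = 0 := fun j => by
      apply Subtype.ext
      rw [AddSubmonoidClass.coe_finset_sum, ZeroMemClass.coe_zero]
      calc ∑ i, ((v i * o i j : O) : A) = (S : A) * (↑(u j)⁻¹ : A) * ∑ i, (v i : A) * a i j := by
            rw [Finset.mul_sum]
            refine Finset.sum_congr rfl fun i _ => ?_
            show (v i : A) * ((S : A) * (a i j * (↑(u j)⁻¹ : A))) = _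
            ring
        _ = 0 := by rw [ha j, mul_zero]
    -- flatness of `C / S C` over `O / S O`
    let P : Ideal O := RingHom.ker ((residue A).comp O.subtype)
    have hmemP : ∀ x : O, x ∈ P ↔ residue A x = 0 := fun x => RingHom.mem_ker
    have : P.IsPrime := RingHom.ker_isPrime _
    have : PreValuationRing (O ⧸ P) := ⟨fun a b => by
      obtain ⟨a, rfl⟩ := Ideal.Quotient.mk_surjective a
      obtain ⟨b, rfl⟩ := Ideal.Quotient.mk_surjective b
      by_cases hb : residue A b = 0
      · exact ⟨0, Or.inl (by rw [mul_zero, eq_comm, Ideal.Quotient.eq_zero_iff_mem, hmemP]; exact hb)⟩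
      by_cases ha : residue A a = 0
      · exact ⟨0, Or.inr (by rw [mul_zero, eq_comm, Ideal.Quotient.eq_zero_iff_mem, hmemP]; exact ha)⟩
      rcases R.mem_or_inv_mem (residue A a * (residue A b)⁻¹) with h | h
      · obtain ⟨r, hr⟩ := exists_mul_eq hO a b hb h
        exact ⟨Ideal.Quotient.mk P r, Or.inr (by rw [← map_mul, hr])⟩
      · rw [mul_inv, inv_inv, mul_comm] at h
        obtain ⟨r, hr⟩ := exists_mul_eq hO b a ha h
        exact ⟨Ideal.Quotient.mk P r, Or.inl (by rw [← map_mul, hr])⟩⟩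
    have : ValuationRing (O ⧸ P) := {}
    have hmk : ∀ z : (O ⧸ P) ⊗[O] C, ∃ d, z = 1 ⊗ₜ[O] d := fun z =>
      (TensorProduct.mk_surjective O C (O ⧸ P) Ideal.Quotient.mk_surjective z).imp fun _ h => h.symm
    have : Module.IsTorsionFree (O ⧸ P) ((O ⧸ P) ⊗[O] C) := by
      refine Module.IsTorsionFree.of_smul_eq_zero fun x z hxz => or_iff_not_imp_left.2 fun hx => ?_
      obtain ⟨x, rfl⟩ := Ideal.Quotient.mk_surjective x
      obtain ⟨d, rfl⟩ := hmk z
      have hx' : residue A x ≠ 0 := fun e => hx (Ideal.Quotient.eq_zero_iff_mem.2 ((hmemP x).2 e))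
      rw [← Ideal.Quotient.algebraMap_eq, algebraMap_smul, ← tmul_smul] at hxz
      have hd : x • d ∈ P • (⊤ : Submodule O C) :=
        (SetLike.ext_iff.1 (LinearMap.ker_tensorProductMk (Q := C) (I := P)) _).1 hxz
      have hd' : ∃ d' ∈ P • (⊤ : Submodule O C), x • d = x • d' := by
        refine Submodule.smul_induction_on hd (fun p hp e _ => ?_) fun a b ha hb => ?_
        · obtain ⟨r, hr, hr0⟩ := exists_mul_eq_of_residue_eq_zero hO p x hx' ((hmemP p).1 hp)
          exact ⟨r • e, Submodule.smul_mem_smul ((hmemP r).2 hr0) Submodule.mem_top, by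
            rw [hr, mul_smul]⟩
        · obtain ⟨a', ha', hxa⟩ := ha
          obtain ⟨b', hb', hxb⟩ := hb
          exact ⟨a' + b', add_mem ha' hb', by rw [smul_add, ← hxa, ← hxb]⟩
      obtain ⟨d', hd', he⟩ := hd'
      rw [isSMulRegular_of_residue_ne_zero hO hadm hx' he]
      exact (SetLike.ext_iff.1 (LinearMap.ker_tensorProductMk (Q := C) (I := P)) _).2 hd'
    have hflatP : Module.Flat (O ⧸ P) ((O ⧸ P) ⊗[O] C) :=
      Module.Flat.flat_iff_torsion_eq_bot_of_isBezout.2 (Submodule.isTorsionFree_iff_torsion_eq_bot.1 inferInstance)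
    have hPS : P ≤ Ideal.span {S} := fun p hp => by
      obtain ⟨r, hr, -⟩ := exists_mul_eq_of_residue_eq_zero hO p S hS ((hmemP p).1 hp)
      exact Ideal.mem_span_singleton'.2 ⟨r, by rw [hr, mul_comm]⟩
    let _ : Algebra (O ⧸ P) (O ⧸ Ideal.span {S}) := (Ideal.Quotient.factor hPS).toAlgebra
    have : IsScalarTower O (O ⧸ P) (O ⧸ Ideal.span {S}) := ⟨fun a b c => by
      obtain ⟨b, rfl⟩ := Ideal.Quotient.mk_surjective b
      obtain ⟨c, rfl⟩ := Ideal.Quotient.mk_surjective c
      show Ideal.Quotient.factor hPS (Ideal.Quotient.mk P (a * b)) * Ideal.Quotient.mk _ c =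
        a • (Ideal.Quotient.factor hPS (Ideal.Quotient.mk P b) * Ideal.Quotient.mk _ c)
      rw [Ideal.Quotient.factor_mk, Ideal.Quotient.factor_mk, ← map_mul, ← map_mul, mul_assoc]
      rfl⟩
    have : Module.Flat (O ⧸ Ideal.span {S}) ((O ⧸ Ideal.span {S}) ⊗[O] C) :=
      Module.Flat.of_linearEquiv (AlgebraTensorModule.cancelBaseChange O (O ⧸ P) (O ⧸ Ideal.span {S})
        (O ⧸ Ideal.span {S}) C).symm
    have hSO : IsSMulRegular O S := fun x y hxy => Subtype.ext
      ((residue_ne_zero_iff_isUnit _ |>.1 hS).mul_left_cancel (congrArg Subtype.val hxy))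
    obtain ⟨m, κ, y', hκ, hc⟩ := mem_relation_of_smul_mem S hSO (isSMulRegular_of_residue_ne_zero hO hadm hS)
      v c (fun j i => o i j) hov z fun i => by rw [← Algebra.smul_def]; exact hz' i
    exact ⟨m, fun i j => κ j i, y', hc, hκ⟩
  · push_neg at hP
    obtain ⟨i₁, hi₁⟩ := hP
    obtain ⟨i₀, hi₀, hmax⟩ := Finset.exists_max_image (Finset.univ.filter fun i => residue A (v i : A) ≠ 0)
      (fun i => R.valuation (residue A (v i : A))) ⟨i₁, by simpa using hi₁⟩
    have hv₀ : residue A (v i₀ : A) ≠ 0 := (Finset.mem_filter.1 hi₀).2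
    have hdiv : ∀ i, ∃ r : O, v i = v i₀ * r := fun i => by
      refine exists_mul_eq hO _ _ hv₀ ?_
      by_cases hi : residue A (v i : A) = 0
      · rw [hi, zero_mul]; exact R.zero_mem
      rw [← R.valuation_le_one_iff, map_mul, map_inv₀]
      exact mul_inv_le_one_of_le₀ (hmax i (by simpa using hi)) zero_le
    choose r hr using hdiv
    have hsum : ∑ i, r i • c i = 0 := by
      apply isSMulRegular_of_residue_ne_zero hO hadm hv₀
      show v i₀ • _ = v i₀ • (0 : C)
      rw [smul_zero, Finset.smul_sum]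
      refine Eq.trans ?_ hrel
      exact Finset.sum_congr rfl fun i _ => by rw [smul_smul, ← hr]
    have hr₀ : r i₀ = 1 := Subtype.ext ((residue_ne_zero_iff_isUnit _ |>.1 hv₀).mul_left_cancel
      (by rw [OneMemClass.coe_one, mul_one, ← Subring.coe_mul, ← hr]))
    refine ⟨l, fun i j => (if i = j then 1 else 0) - (if i = i₀ then r j else 0), c, fun i => ?_, fun j => ?_⟩
    · simp only [sub_smul, Finset.sum_sub_distrib, ite_smul, one_smul, zero_smul, Finset.sum_ite_eq,
        Finset.mem_univ, if_true]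
      by_cases h : i = i₀
      · simp [h, hsum]
      · simp [h]
    · simp only [mul_sub, mul_ite, mul_one, mul_zero, Finset.sum_sub_distrib, Finset.sum_ite_eq',
        Finset.mem_univ, if_true, ← hr, sub_self]

theorem finitePresentation [Algebra.FiniteType O C] (hfp : Algebra.FinitePresentation A (A ⊗[O] C)) :
    Algebra.FinitePresentation O C := by
  classical
  have := flat hO hadm
  obtain ⟨n, φ, hφ⟩ := Algebra.FiniteType.iff_quotient_mvPolynomial''.1 ‹Algebra.FiniteType O C›
  let P := MvPolynomial (Fin n) O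
  let _ : Algebra P C := φ.toRingHom.toAlgebra
  have : IsScalarTower O P C := .of_algebraMap_eq fun r => (φ.commutes r).symm
  have : Module.Finite P C := Module.Finite.of_surjective (Algebra.linearMap P C) hφ
  let ι : MvPolynomial (Fin n) O →+* MvPolynomial (Fin n) A := MvPolynomial.map O.subtype
  let Φ : MvPolynomial (Fin n) A →ₐ[A] A ⊗[O] C :=
    MvPolynomial.aeval fun i => (1 : A) ⊗ₜ[O] φ (MvPolynomial.X i)
  have hΦ : ∀ p, Φ (ι p) = (1 : A) ⊗ₜ[O] φ p := fun p => by
    induction p using MvPolynomial.induction_on with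
    | C a =>
      rw [MvPolynomial.map_C, MvPolynomial.aeval_C, ← MvPolynomial.algebraMap_eq, φ.commutes,
        Algebra.algebraMap_eq_smul_one a, TensorProduct.tmul_smul]
      show algebraMap A (A ⊗[O] C) (a : A) = (a : A) • ((1 : A) ⊗ₜ[O] (1 : C))
      rw [Algebra.algebraMap_eq_smul_one, Algebra.TensorProduct.one_def]
    | add p q hp hq => simp only [map_add, tmul_add, hp, hq]
    | mul_X p i hp =>
      rw [map_mul, map_mul, hp, MvPolynomial.map_X, MvPolynomial.aeval_X, map_mul,
        Algebra.TensorProduct.tmul_mul_tmul, mul_one]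
  have hden : ∀ p : MvPolynomial (Fin n) A, ∃ s : O, residue A s ≠ 0 ∧
      ∃ q : MvPolynomial (Fin n) O, ι q = MvPolynomial.C (s : A) * p := fun p => by
    obtain ⟨s, hs, hsp⟩ := exists_common_den hO p.support fun m => p.coeff m
    refine ⟨s, hs, ∑ m ∈ p.support.attach, MvPolynomial.monomial m.1 (⟨_, hsp m.1 m.2⟩ : O), ?_⟩
    rw [map_sum]
    conv_rhs => rw [p.as_sum, Finset.mul_sum, ← Finset.sum_attach]
    refine Finset.sum_congr rfl fun m _ => ?_
    rw [MvPolynomial.map_monomial, MvPolynomial.C_mul_monomial]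
    rfl
  have hΦs : Surjective Φ := fun z => by
    obtain ⟨s, c, hs, hc⟩ := exists_smul_eq_tmul hO z
    obtain ⟨u, hu⟩ := residue_ne_zero_iff_isUnit _ |>.1 hs
    obtain ⟨p, rfl⟩ := hφ c
    refine ⟨MvPolynomial.C (↑u⁻¹ : A) * ι p, ?_⟩
    rw [map_mul, hΦ, MvPolynomial.aeval_C, ← Algebra.smul_def, ← hc, ← hu, smul_smul, u.inv_mul, one_smul]
  obtain ⟨gen, hgen⟩ := Algebra.FinitePresentation.ker_fG_of_surjective Φ hΦs
  choose s hs q hq using hden
  have hιinj : Injective ι := MvPolynomial.map_injective _ Subtype.val_injective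
  let e : (Fin 1 → P) ≃ₗ[P] P := LinearEquiv.funUnique (Fin 1) P P
  let π : (Fin 1 → P) →ₗ[P] C := Algebra.linearMap P C ∘ₗ e.toLinearMap
  let K₂ : Submodule P (Fin 1 → P) := (Submodule.span P (gen.image q : Set P)).map e.symm.toLinearMap
  have hle : K₂ ≤ LinearMap.ker π := by
    rw [Submodule.map_le_iff_le_comap, Submodule.span_le]
    intro x hx
    obtain ⟨g, hg, rfl⟩ := Finset.mem_image.1 (Finset.mem_coe.1 hx)
    show φ (e (e.symm (q g))) = 0
    rw [e.apply_symm_apply]
    apply hadm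
    show (1 : A) ⊗ₜ[O] φ (q g) = (1 : A) ⊗ₜ[O] 0
    have hg0 : Φ g = 0 := by
      have : g ∈ RingHom.ker Φ := hgen ▸ Ideal.subset_span hg
      exact this
    rw [← hΦ, hq, map_mul, hg0, mul_zero, tmul_zero]
  let T : Submonoid O :=
    { carrier := {x | residue A (x : A) ≠ 0}
      one_mem' := by simp
      mul_mem' := fun {a b} ha hb => by
        show residue A ((a * b : O) : A) ≠ 0
        rw [Subring.coe_mul, map_mul]
        exact mul_ne_zero ha hb }
  have hK : ∀ p : P, φ p = 0 → ∃ t ∈ T, algebraMap O P t • p ∈ Submodule.span P (gen.image q : Set P) := by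
    intro p hp
    have hker : ι p ∈ Ideal.span (gen : Set (MvPolynomial (Fin n) A)) := by
      rw [hgen]
      show Φ (ι p) = 0
      rw [hΦ, hp, tmul_zero]
    suffices ∀ x ∈ Ideal.span (gen : Set (MvPolynomial (Fin n) A)), ∃ t ∈ T, ∃ y ∈
        Submodule.span P (gen.image q : Set P), MvPolynomial.C (t : A) * x = ι y by
      obtain ⟨t, ht, y, hy, hty⟩ := this _ hker
      refine ⟨t, ht, ?_⟩
      convert hy using 1
      apply hιinj
      rw [← hty, smul_eq_mul, map_mul, MvPolynomial.algebraMap_eq, MvPolynomial.map_C]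
      rfl
    intro x hx
    induction hx using Submodule.span_induction with
    | mem g hg => exact ⟨s g, hs g, q g, Submodule.subset_span (Finset.mem_coe.2
        (Finset.mem_image_of_mem q (Finset.mem_coe.1 hg))), (hq g).symm⟩
    | zero => exact ⟨1, T.one_mem, 0, zero_mem _, by simp⟩
    | add x y _ _ hx hy =>
      obtain ⟨t, ht, x', hx', hx⟩ := hx
      obtain ⟨t', ht', y', hy', hy⟩ := hy
      refine ⟨t * t', T.mul_mem ht ht', algebraMap O P t' • x' + algebraMap O P t • y',
        add_mem (Submodule.smul_mem _ _ hx') (Submodule.smul_mem _ _ hy'), ?_⟩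
      have hC : ∀ r : O, ι (algebraMap O P r) = MvPolynomial.C (r : A) := fun r =>
        MvPolynomial.map_C O.subtype r
      rw [smul_eq_mul, smul_eq_mul, map_add, map_mul, map_mul, hC, hC, ← hx, ← hy, Subring.coe_mul, map_mul]
      ring
    | smul a x _ hx =>
      obtain ⟨t, ht, x', hx', hx⟩ := hx
      refine ⟨s a * t, T.mul_mem (hs a) ht, q a • x', Submodule.smul_mem _ _ hx', ?_⟩
      rw [smul_eq_mul, smul_eq_mul, map_mul, hq, ← hx, Subring.coe_mul, map_mul]
      ring
  have : Module.FinitePresentation P C := finitePresentation_of_flat_of_localized C T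
    (fun t ht x y hxy => Subtype.ext
      ((residue_ne_zero_iff_isUnit _ |>.1 ht).mul_left_cancel (congrArg Subtype.val hxy)))
    π (hφ.comp e.surjective) K₂ ((Submodule.fg_span (Finset.finite_toSet _)).map _) hle fun x hx => by
      obtain ⟨t, ht, htx⟩ := hK (e x) hx
      refine ⟨t, ht, ?_⟩
      exact ⟨_, htx, (map_smul e.symm (algebraMap O P t) (e x)).trans (by rw [e.symm_apply_apply])⟩
  refine Algebra.FinitePresentation.of_surjective hφ ?_
  exact Module.FinitePresentation.fg_ker (Algebra.linearMap P C) hφ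

end Groth.Agent.CAlgH.SemiValFlat
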