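import Groth.Agent.CAlgH.BranchesExtended
import Groth.Agent.S9238
import Mathlib

/-!
# Finiteness of separable residue extensions of normalizations
-/

set_option autoImplicit false
set_option linter.style.haveILetI false
universe u

open Polynomial IsLocalRing

namespace Groth.Agent.CAlgH.SepFin

/-- Simple roots with coefficients in the image lie in a finitely generated submodule. -/
def SepFin {R L : Type u} [CommRing R] [Field L] (f : R →+* L) : Prop :=
  ∃ (n : ℕ) (s : Fin n → L), ∀ (x : L) (q : R[X]), q.eval₂ f x = 0 → q.derivative.eval₂ f x ≠ 0 →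
    ∃ c : Fin n → R, x = ∑ i, f (c i) * s i

theorem sepFin_of_ringEquiv {R L L' : Type u} [CommRing R] [Field L] [Field L'] (e : L ≃+* L') {f : R →+* L}
    (h : SepFin f) : SepFin (e.toRingHom.comp f) := by
  obtain ⟨n, s, hs⟩ := h
  refine ⟨n, fun i => e (s i), fun x q h0 h1 => ?_⟩
  have hx : e.toRingHom (e.symm x) = x := e.apply_symm_apply x
  rw [← hx, ← hom_eval₂, _root_.map_eq_zero] at h0
  rw [← hx, ← hom_eval₂, _root_.map_ne_zero] at h1
  obtain ⟨c, hc⟩ := hs _ q h0 h1
  refine ⟨c, ?_⟩
  rw [← e.apply_symm_apply x, hc, map_sum]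
  simp only [map_mul]
  rfl

theorem isSeparable_of_root {k L : Type u} [Field k] [Field L] [Algebra k L] {x : L} {q : k[X]}
    (h0 : aeval x q = 0) (h1 : aeval x q.derivative ≠ 0) : IsSeparable k x := by
  have hq : q ≠ 0 := fun hq => h1 (by simp [hq])
  have hint : IsIntegral k x := IsAlgebraic.isIntegral ⟨q, hq, h0⟩
  rw [IsSeparable, separable_iff_derivative_ne_zero (minpoly.irreducible hint)]
  intro hd
  obtain ⟨c, rfl⟩ := minpoly.dvd k x h0
  rw [derivative_mul, hd, map_add, map_mul, map_mul, minpoly.aeval] at h1
  simp at h1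

theorem sepFin_iff {R k L : Type u} [CommRing R] [Field k] [Field L] [Algebra k L] {π : R →+* k}
    (hπ : Function.Surjective π) :
    FiniteDimensional k (separableClosure k L) ↔ SepFin ((algebraMap k L).comp π) := by
  constructor
  · intro h
    let b := Module.finBasis k (separableClosure k L)
    refine ⟨_, fun i => (b i : L), fun x q h0 h1 => ?_⟩
    have hx : x ∈ separableClosure k L := mem_separableClosure_iff.2 (isSeparable_of_root (q := q.map π)
      (by rw [aeval_def, eval₂_map]; exact h0) (by rw [derivative_map, aeval_def, eval₂_map]; exact h1))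
    choose c hc using fun i => hπ (b.repr ⟨x, hx⟩ i)
    refine ⟨c, ?_⟩
    conv_lhs => rw [show x = ((⟨x, hx⟩ : separableClosure k L) : L) from rfl, ← b.sum_repr ⟨x, hx⟩]
    rw [IntermediateField.coe_sum]
    simp only [RingHom.comp_apply, hc]
    exact Finset.sum_congr rfl fun i _ => Algebra.smul_def _ _
  · rintro ⟨n, s, hs⟩
    haveI : FiniteDimensional k (Submodule.span k (Set.range s)) :=
      FiniteDimensional.span_of_finite k (Set.finite_range s)
    have hle : Subalgebra.toSubmodule (separableClosure k L).toSubalgebra ≤ Submodule.span k (Set.range s) := by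
      intro x hx
      have hsep : IsSeparable k x := mem_separableClosure_iff.1 hx
      obtain ⟨q, hq⟩ := Polynomial.map_surjective π hπ (minpoly k x)
      obtain ⟨c, rfl⟩ := hs x q (by rw [← eval₂_map, hq]; exact minpoly.aeval k x) (by
        rw [← eval₂_map, ← derivative_map, hq]
        exact hsep.aeval_derivative_ne_zero (minpoly.aeval k x))
      exact Submodule.sum_mem _ fun i _ => by
        rw [RingHom.comp_apply, ← Algebra.smul_def]
        exact Submodule.smul_mem _ _ (Submodule.subset_span ⟨i, rfl⟩)
    exact FiniteDimensional.of_injective (Submodule.inclusion hle) (Submodule.inclusion_injective hle)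

theorem sepFin_closure_iff {R L : Type u} [CommRing R] [Field L] (f : R →+* L) (hf : (RingHom.ker f).IsMaximal) :
    FiniteDimensional (Subfield.closure (Set.range f)) (separableClosure (Subfield.closure (Set.range f)) L) ↔
      SepFin f := by
  let K : Subfield L :=
    { f.range with
      inv_mem' := fun x hx => by
        obtain ⟨a, rfl⟩ := hx
        rcases eq_or_ne (f a) 0 with h0 | h0
        · rw [h0, inv_zero]; exact f.range.zero_mem
        · obtain ⟨y, i, hi, hyi⟩ := hf.exists_inv (x := a) h0
          refine ⟨y, eq_inv_of_mul_eq_one_left ?_⟩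
          have h1 := congrArg f hyi
          rw [map_add, map_mul, show f i = 0 from hi, add_zero, map_one] at h1
          exact h1 }
  let π : R →+* Subfield.closure (Set.range f) :=
    f.codRestrict (Subfield.closure (Set.range f)) fun r => Subfield.subset_closure ⟨r, rfl⟩
  have hπ : Function.Surjective π := fun y => by
    obtain ⟨r, hr⟩ := (Subfield.closure_le (t := K)).2 (fun z hz => hz) y.2
    exact ⟨r, Subtype.ext hr⟩
  exact sepFin_iff hπ

/-- The residue condition, read through surjections onto fields. -/
theorem residue_condition_iff {R T : Type u} [CommRing R] [CommRing T] [Algebra R T] [Algebra.IsIntegral R T] :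
    (∀ (M : Ideal T) [M.IsMaximal],
      FiniteDimensional (Subfield.closure (Set.range ((algebraMap T M.ResidueField).comp (algebraMap R T))))
        (separableClosure (Subfield.closure (Set.range ((algebraMap T M.ResidueField).comp (algebraMap R T))))
          M.ResidueField)) ↔
      ∀ (L : Type u) [Field L] (g : T →+* L), Function.Surjective g → SepFin (g.comp (algebraMap R T)) := by
  have key : ∀ (L : Type u) [Field L] (g : T →+* L), (RingHom.ker g).IsMaximal →
      (RingHom.ker (g.comp (algebraMap R T))).IsMaximal := fun L _ g hg => by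
    haveI := hg
    rw [← RingHom.comap_ker]
    exact Ideal.isMaximal_comap_of_isIntegral_of_isMaximal _
  have hkerM : ∀ (M : Ideal T) [M.IsMaximal], (RingHom.ker (algebraMap T M.ResidueField)).IsMaximal :=
    fun M _ => by rw [Ideal.ker_algebraMap_residueField]; infer_instance
  constructor
  · intro h L _ g hg
    haveI hM : (RingHom.ker g).IsMaximal := RingHom.ker_isMaximal_of_surjective g hg
    let M := RingHom.ker g
    let e : L ≃+* M.ResidueField := (RingHom.quotientKerEquivOfSurjective hg).symm.trans
      (RingEquiv.ofBijective _ (Ideal.bijective_algebraMap_quotient_residueField M))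
    have he : (algebraMap T M.ResidueField) = e.toRingHom.comp g := RingHom.ext fun t => by
      have h1 : (RingHom.quotientKerEquivOfSurjective hg).symm (g t) = Ideal.Quotient.mk M t :=
        (RingEquiv.symm_apply_eq _).2 rfl
      rw [RingHom.comp_apply, RingEquiv.toRingHom_eq_coe, RingHom.coe_coe, RingEquiv.trans_apply, h1,
        RingEquiv.ofBijective_apply]
      exact IsScalarTower.algebraMap_apply T (T ⧸ M) M.ResidueField t
    have h2 := (sepFin_closure_iff _ (key _ _ (hkerM M))).1 (h M)
    rw [he, RingHom.comp_assoc] at h2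
    have h3 := sepFin_of_ringEquiv e.symm h2
    rwa [← RingHom.comp_assoc, RingEquiv.symm_toRingHom_comp_toRingHom, RingHom.id_comp] at h3
  · intro h M _
    refine (sepFin_closure_iff _ (key _ _ (hkerM M))).2 (h _ _ ?_)
    intro y
    obtain ⟨z, hz⟩ := (Ideal.bijective_algebraMap_quotient_residueField M).2 y
    obtain ⟨t, rfl⟩ := Ideal.Quotient.mk_surjective z
    exact ⟨t, by rw [← hz]; exact IsScalarTower.algebraMap_apply T (T ⧸ M) M.ResidueField t⟩

theorem exists_equiv_normRed (A : Type u) [CommRing A] [IsReduced A] :
    ∃ e : integralClosure A (FractionRing A) ≃+* CAlg2.normRed A,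
      e.toRingHom.comp (algebraMap A _) = Unibr10.toNormRed A := by
  let e0 : A ≃+* CAlg2.red A := RingEquiv.ofBijective (Ideal.Quotient.mk (nilradical A))
    ⟨(injective_iff_map_eq_zero _).2 fun a ha => by
      have := Ideal.Quotient.eq_zero_iff_mem.1 ha
      rwa [nilradical_eq_zero, Ideal.zero_eq_bot, Ideal.mem_bot] at this, Ideal.Quotient.mk_surjective⟩
  let Ψ : FractionRing A ≃+* FractionRing (CAlg2.red A) := IsFractionRing.ringEquivOfRingEquiv e0
  have hΨ : Ψ.toRingHom.comp (algebraMap A (FractionRing A)) =
      (algebraMap (CAlg2.red A) (FractionRing (CAlg2.red A))).comp e0.toRingHom :=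
    RingHom.ext fun a => IsFractionRing.ringEquivOfRingEquiv_algebraMap e0 a
  have hmem : ∀ x : FractionRing A, IsIntegral A x ↔ IsIntegral (CAlg2.red A) (Ψ x) := by
    intro x
    constructor
    · rintro ⟨q, hm, h0⟩
      refine ⟨q.map e0.toRingHom, hm.map _, ?_⟩
      rw [Polynomial.eval₂_map, ← hΨ, show Ψ x = Ψ.toRingHom x from rfl, ← Polynomial.hom_eval₂, h0, map_zero]
    · rintro ⟨q, hm, h0⟩
      obtain ⟨q', rfl, -, hm'⟩ := Polynomial.lifts_and_natDegree_eq_and_monic
        (Polynomial.mem_lifts_of_surjective (f := e0.toRingHom) e0.surjective q) hm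
      refine ⟨q', hm', Ψ.injective ?_⟩
      rw [Polynomial.eval₂_map, ← hΨ, show Ψ x = Ψ.toRingHom x from rfl, ← Polynomial.hom_eval₂] at h0
      rw [map_zero]; exact h0
  exact ⟨{ toFun := fun x => ⟨Ψ x.1, (hmem x.1).1 x.2⟩
           invFun := fun y => ⟨Ψ.symm y.1, (hmem _).2 (by rw [Ψ.apply_symm_apply]; exact y.2)⟩
           left_inv := fun x => Subtype.ext (Ψ.symm_apply_apply x.1)
           right_inv := fun y => Subtype.ext (Ψ.apply_symm_apply y.1)
           map_mul' := fun x y => Subtype.ext (map_mul Ψ x.1 y.1)
           map_add' := fun x y => Subtype.ext (map_add Ψ x.1 y.1) },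
    RingHom.ext fun a => Subtype.ext (RingHom.congr_fun hΨ a)⟩

/-- For a reduced Noetherian local ring the separable residue extensions of the normalization are
finite. -/
theorem sepFin_of_noetherian (R : Type u) [CommRing R] [IsLocalRing R] [IsReduced R] [IsNoetherianRing R]
    (L : Type u) [Field L] (g : integralClosure R (FractionRing R) →+* L) (hg : Function.Surjective g) :
    SepFin (g.comp (algebraMap R _)) := by
  classical
  haveI := HenselLib.isStrictHenselization_localSH (R := R)
  haveI : IsNoetherianRing (HenselLib.LocalSH R) := (S0540.result R _).1 inferInstance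
  have hne : Brnch.numGeomBranches R ≠ ⊤ := by
    rw [← S9238.result R (HenselLib.LocalSH R)]
    haveI : Finite (minimalPrimes (HenselLib.LocalSH R)) := (minimalPrimes.finite_of_isNoetherianRing _).to_subtype
    rw [ENat.card_eq_coe_natCard]
    exact ENat.coe_ne_top _
  unfold Brnch.numGeomBranches at hne
  rw [if_pos (minimalPrimes.finite_of_isNoetherianRing R)] at hne
  haveI hF : Finite (Σ m : MaximalSpectrum (CAlg2.normRed R), Brnch.Emb R m) := by
    by_contra h
    rw [not_finite_iff_infinite] at h
    exact hne ENat.card_eq_top_of_infinite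
  obtain ⟨e, he⟩ := exists_equiv_normRed R
  let g' : CAlg2.normRed R →+* L := g.comp e.symm.toRingHom
  have hg' : Function.Surjective g' := hg.comp e.symm.surjective
  let f := g.comp (algebraMap R (integralClosure R (FractionRing R)))
  have hcomp : g'.comp (Unibr10.toNormRed R) = f := by
    rw [← he]
    exact RingHom.ext fun r => congrArg g (e.symm_apply_apply _)
  let m : MaximalSpectrum (CAlg2.normRed R) := ⟨RingHom.ker g', RingHom.ker_isMaximal_of_surjective g' hg'⟩
  have hker : RingHom.ker f = maximalIdeal R := by
    haveI := RingHom.ker_isMaximal_of_surjective g hg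
    rw [← RingHom.comap_ker]
    exact eq_maximalIdeal (Ideal.isMaximal_comap_of_isIntegral_of_isMaximal _)
  let k := ResidueField R
  let K := AlgebraicClosure k
  letI : Algebra k L := (Ideal.Quotient.lift (maximalIdeal R) f fun a ha => hker.ge ha).toAlgebra
  have hfk : (algebraMap k L).comp (residue R) = f := RingHom.ext fun r => rfl
  haveI : Algebra.IsAlgebraic k L := ⟨fun x => by
    obtain ⟨y, rfl⟩ := hg x
    obtain ⟨q, hm, h0⟩ := Algebra.IsIntegral.isIntegral (R := R) y
    exact IsIntegral.isAlgebraic ⟨q.map (residue R), hm.map _, by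
      rw [eval₂_map, hfk, ← hom_eval₂, h0, map_zero]⟩⟩
  let ε : CAlg2.normRed R ⧸ m.asIdeal ≃+* L := RingHom.quotientKerEquivOfSurjective hg'
  let Φ : (L →ₐ[k] K) → Σ m : MaximalSpectrum (CAlg2.normRed R), Brnch.Emb R m := fun σ =>
    ⟨m, ⟨σ.toRingHom.comp ε.toRingHom, RingHom.ext fun r => by
      show σ (g' (Unibr10.toNormRed R r)) = algebraMap k K (residue R r)
      rw [show g' (Unibr10.toNormRed R r) = f r from RingHom.congr_fun hcomp r, ← RingHom.congr_fun hfk r]
      exact σ.commutes (residue R r)⟩⟩
  haveI : Finite (L →ₐ[k] K) := Finite.of_injective Φ fun σ τ h => AlgHom.ext fun x => by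
    obtain ⟨y, rfl⟩ := ε.surjective x
    exact RingHom.congr_fun (congrArg Subtype.val (eq_of_heq (Sigma.mk.inj_iff.1 h).2)) y
  haveI : Finite (Field.Emb k L) := Finite.of_equiv _ (Field.embEquivOfIsAlgClosed k L K).symm
  have hpos : Field.finSepDegree k L ≠ 0 := Nat.card_ne_zero.2 ⟨inferInstance, inferInstance⟩
  rw [Field.finSepDegree_eq, Cardinal.toNat_ne_zero] at hpos
  haveI : FiniteDimensional k (separableClosure k L) := Module.rank_lt_aleph0_iff.1 hpos.2
  have h := (sepFin_iff (L := L) (π := residue R) residue_surjective).1 inferInstance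
  rwa [hfk] at h

end Groth.Agent.CAlgH.SepFin
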