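import Groth.Agent.CAlgH.RegularLocal
import Groth.Agent.CAlgH.RegularHom
import Groth.Agent.CAlgH.ExcellentNormal
import Groth.Agent.CommAlg6.FibreSk
import Groth.Agent.Et18.EtaleNormal
import Mathlib

/-!
# Separable field base change preserves regularity and normality
-/

set_option autoImplicit false
set_option linter.style.haveILetI false
universe u

open IsLocalRing TensorProduct

namespace Groth.Agent.CAlgH.SepBC

theorem isRegularRing_of_isArtinian (R : Type u) [CommRing R] [IsArtinianRing R] [IsReduced R] : IsRegularRing R := by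
  refine isRegularRing_iff.2 fun q _ => ?_
  haveI : IsArtinianRing (Localization.AtPrime q) :=
    (IsArtinianRing.localization_surjective q.primeCompl (Localization.AtPrime q)).isArtinianRing
  haveI : IsReduced (Localization.AtPrime q) := isReduced_localizationPreserves q.primeCompl _ inferInstance
  have hF : IsField (Localization.AtPrime q) := IsArtinianRing.isField_of_isReduced_of_isLocalRing _
  letI := hF.toField
  infer_instance

theorem isGeometricallyRegular_field (k K : Type u) [Field k] [Field K] [Algebra k K]
    [Algebra.IsGeometricallyReduced k K] : CAlg.IsGeometricallyRegular k K := by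
  intro k' _ _ hk'
  haveI := hk'
  haveI : Algebra.IsAlgebraic k k' := Algebra.IsAlgebraic.of_finite _ _
  haveI : IsReduced (k' ⊗[k] K) := inferInstance
  letI : Algebra K (k' ⊗[k] K) := Algebra.TensorProduct.rightAlgebra
  haveI : Module.Finite K (k' ⊗[k] K) := Module.Finite.equiv (Algebra.TensorProduct.commRight k K k').toLinearEquiv
  haveI : IsArtinianRing (k' ⊗[k] K) := IsArtinianRing.of_finite K _
  exact isRegularRing_of_isArtinian _

variable {k S k' : Type u} [Field k] [CommRing S] [Algebra k S] [Field k'] [Algebra k k']
  [IsNoetherianRing (S ⊗[k] k')]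

theorem regular_up [Algebra.IsGeometricallyReduced k k'] (q' : Ideal (S ⊗[k] k')) [q'.IsPrime]
    [IsRegularLocalRing (Localization.AtPrime (q'.comap (algebraMap S (S ⊗[k] k'))))] :
    IsRegularLocalRing (Localization.AtPrime q') :=
  isRegularLocalRing_of_isRegularHom
    (isRegularHom_tensor_of_isGeometricallyRegular k S k' (isGeometricallyRegular_field k k')) q'

theorem regular_down [IsNoetherianRing S] (q' : Ideal (S ⊗[k] k')) [q'.IsPrime]
    [IsRegularLocalRing (Localization.AtPrime q')] :
    IsRegularLocalRing (Localization.AtPrime (q'.comap (algebraMap S (S ⊗[k] k')))) :=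
  (CommAlg6.local_fibre (A := S) q').2.2.1 inferInstance

theorem normal_down (q' : Ideal (S ⊗[k] k')) [q'.IsPrime]
    [IsDomain (Localization.AtPrime q')] [IsIntegrallyClosed (Localization.AtPrime q')] :
    IsDomain (Localization.AtPrime (q'.comap (algebraMap S (S ⊗[k] k')))) ∧
      IsIntegrallyClosed (Localization.AtPrime (q'.comap (algebraMap S (S ⊗[k] k')))) := by
  let q := q'.comap (algebraMap S (S ⊗[k] k'))
  letI : Algebra (Localization.AtPrime q) (Localization.AtPrime q') :=
    (Localization.localRingHom q q' (algebraMap S (S ⊗[k] k')) rfl).toAlgebra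
  haveI : IsLocalHom (algebraMap (Localization.AtPrime q) (Localization.AtPrime q')) :=
    Localization.isLocalHom_localRingHom _ _ _ rfl
  haveI : Module.Flat (Localization.AtPrime q) (Localization.AtPrime q') :=
    RingHom.flat_algebraMap_iff.mp
      (RingHom.Flat.localRingHom (RingHom.flat_algebraMap_iff.mpr inferInstance) q' q rfl)
  haveI : Module.FaithfullyFlat (Localization.AtPrime q) (Localization.AtPrime q') :=
    Module.FaithfullyFlat.of_flat_of_isLocalHom
  exact Et18.normal_of_faithfullyFlat _ (Localization.AtPrime q')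

theorem normal_up [IsNoetherianRing S] [Algebra.IsGeometricallyReduced k k'] (q' : Ideal (S ⊗[k] k')) [q'.IsPrime]
    (h1 : IsDomain (Localization.AtPrime (q'.comap (algebraMap S (S ⊗[k] k')))))
    (h2 : IsIntegrallyClosed (Localization.AtPrime (q'.comap (algebraMap S (S ⊗[k] k'))))) :
    IsDomain (Localization.AtPrime q') ∧ IsIntegrallyClosed (Localization.AtPrime q') := by
  haveI := h1
  haveI := h2
  let q := q'.comap (algebraMap S (S ⊗[k] k'))
  let R := Localization.AtPrime q
  haveI : IsNoetherianRing R := IsLocalization.isNoetherianRing q.primeCompl _ inferInstance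
  let f : S ⊗[k] k' →ₐ[S] R ⊗[k] k' := Algebra.TensorProduct.map (Algebra.ofId S R) (AlgHom.id k k')
  letI : Algebra (S ⊗[k] k') (R ⊗[k] k') := f.toRingHom.toAlgebra
  haveI : IsScalarTower S (S ⊗[k] k') (R ⊗[k] k') := IsScalarTower.of_algebraMap_eq fun s => (f.commutes s).symm
  let W := Algebra.algebraMapSubmonoid (S ⊗[k] k') q.primeCompl
  haveI : IsLocalization W (R ⊗[k] k') :=
    IsLocalization.tensorProduct_tensorProduct k k' q.primeCompl R (by
      ext c
      show f ((1 : S) ⊗ₜ c) = (1 : R) ⊗ₜ c
      rw [Algebra.TensorProduct.map_tmul, map_one, AlgHom.id_apply])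
  haveI : IsNoetherianRing (R ⊗[k] k') := IsLocalization.isNoetherianRing W _ inferInstance
  have hN : EGA4.IsNormalRing (R ⊗[k] k') := ExcellentNormal.isNormalRing_of_isNormalHom
    (S2705.isNormalHom_of_isRegularHom
      (isRegularHom_tensor_of_isGeometricallyRegular k R k' (isGeometricallyRegular_field k k')))
    (ExcellentNormal.isNormalRing_of_isIntegrallyClosed R)
  have hd : Disjoint (W : Set (S ⊗[k] k')) (q' : Set (S ⊗[k] k')) := by
    rw [Set.disjoint_left]
    rintro _ ⟨s, hs, rfl⟩ h
    exact hs h
  let M : Ideal (R ⊗[k] k') := q'.map (algebraMap _ _)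
  haveI : M.IsPrime := IsLocalization.isPrime_of_isPrime_disjoint _ (R ⊗[k] k') q' inferInstance hd
  have hc : M.comap (algebraMap (S ⊗[k] k') (R ⊗[k] k')) = q' :=
    IsLocalization.comap_map_of_isPrime_disjoint _ (R ⊗[k] k') inferInstance hd
  obtain ⟨hM1, hM2⟩ := hN M
  haveI := hM1
  haveI := hM2
  haveI : IsLocalization.AtPrime (Localization.AtPrime M) q' := by
    have := IsLocalization.isLocalization_isLocalization_atPrime_isLocalization W (Localization.AtPrime M) M
    simpa only [hc] using this
  let e := (IsLocalization.algEquiv q'.primeCompl (Localization.AtPrime M) (Localization.AtPrime q')).toRingEquiv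
  exact ⟨e.symm.toMulEquiv.isDomain, IsIntegrallyClosed.of_equiv (R := Localization.AtPrime M) e⟩

end Groth.Agent.CAlgH.SepBC
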