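import Groth.Agent.BertiniLib.Affine
import Groth.Agent.AlgSpLib.SmoothField
import Groth.Agent.Misc15.CICone
import Groth.Agent.CAlgH3.RegularHom
import Mathlib

/-! Smooth complete intersections in projective space, via Bertini on the standard charts. -/

set_option autoImplicit false
universe u

open MvPolynomial

namespace Groth.Agent.CAlgH.SmoothCI

section FormallySmooth

variable {R A B : Type u} [CommRing R] [CommRing A] [CommRing B] [Algebra R A] [Algebra R B]

/-- A retract of a formally smooth algebra is formally smooth. -/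
theorem formallySmooth_retract [Algebra.FormallySmooth R A] (φ : B →ₐ[R] A) (ψ : A →ₐ[R] B)
    (h : ψ.comp φ = AlgHom.id R B) : Algebra.FormallySmooth R B := by
  refine Algebra.FormallySmooth.of_comp_surjective fun C _ _ I hI g => ?_
  obtain ⟨l, hl⟩ := Algebra.FormallySmooth.comp_surjective R A I hI (g.comp ψ)
  exact ⟨l.comp φ, by rw [← AlgHom.comp_assoc, hl, AlgHom.comp_assoc, h, AlgHom.comp_id]⟩

end FormallySmooth

theorem aeval_mul_homogeneous {k A : Type u} [CommRing k] [CommRing A] [Algebra k A] {σ : Type*}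
    (a : σ → A) (u : A) {f : MvPolynomial σ k} {e : ℕ} (hf : f.IsHomogeneous e) :
    aeval (fun i => a i * u) f = aeval a f * u ^ e := by
  rw [f.as_sum, map_sum, map_sum, Finset.sum_mul]
  refine Finset.sum_congr rfl fun d hd => ?_
  have he : ∑ i ∈ d.support, d i = e := (hf.degree_eq_sum_deg_support hd).symm
  simp only [aeval_monomial, Finsupp.prod, mul_pow, Finset.prod_mul_distrib,
    Finset.prod_pow_eq_pow_sum, he, mul_assoc]

variable {k : Type u} [Field k] {n : ℕ}

/-- All dehomogenisations of `I` are smooth. -/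
def ChartSmooth (I : Ideal (MvPolynomial (Fin (n + 1)) k)) : Prop :=
  ∀ j, Algebra.Smooth k (MvPolynomial (Fin (n + 1)) k ⧸ (I ⊔ Ideal.span {X j - 1}))

theorem chartSmooth_bot : ChartSmooth (⊥ : Ideal (MvPolynomial (Fin (n + 1)) k)) := by
  classical
  intro j
  set I : Ideal (MvPolynomial (Fin (n + 1)) k) := ⊥ ⊔ Ideal.span {X j - 1} with hI
  let sec : MvPolynomial (Fin (n + 1)) k →ₐ[k] MvPolynomial (Fin (n + 1)) k :=
    aeval (Function.update X j 1)
  have hker : ∀ a ∈ I, sec a = 0 := by
    have : I ≤ RingHom.ker sec := by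
      rw [hI, bot_sup_eq, Ideal.span_le, Set.singleton_subset_iff, SetLike.mem_coe, RingHom.mem_ker]
      simp [sec]
    exact fun a ha => this ha
  refine ⟨formallySmooth_retract (Ideal.Quotient.liftₐ I sec hker) (Ideal.Quotient.mkₐ k I) ?_,
    Algebra.FinitePresentation.quotient (IsNoetherian.noetherian _)⟩
  apply Ideal.Quotient.algHom_ext
  apply MvPolynomial.algHom_ext
  intro i
  show Ideal.Quotient.mk I (sec (X i)) = Ideal.Quotient.mk I (X i)
  rw [Ideal.Quotient.eq]
  rcases eq_or_ne i j with rfl | hij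
  · simp only [sec, aeval_X, Function.update_self]
    rw [show (1 : MvPolynomial (Fin (n + 1)) k) - X i = -(X i - 1) by ring]
    exact I.neg_mem (Ideal.mem_sup_right (Ideal.mem_span_singleton_self _))
  · simp [sec, Function.update_of_ne hij]

/-- The monomials of degree `d`, indexed by tuples of variables. -/
noncomputable def mon (d : ℕ) (t : Fin d → Fin (n + 1)) : MvPolynomial (Fin (n + 1)) k :=
  ∏ i, X (t i)

theorem mon_homogeneous {d : ℕ} (t : Fin d → Fin (n + 1)) : (mon (k := k) d t).IsHomogeneous d := by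
  have := IsHomogeneous.prod Finset.univ (fun i => (X (t i) : MvPolynomial (Fin (n + 1)) k))
    (fun _ => 1) (fun i _ => isHomogeneous_X k (t i))
  rwa [Finset.sum_const, Finset.card_univ, Fintype.card_fin, smul_eq_mul, mul_one] at this

variable {d m : ℕ}

/-- The form with coefficient vector `c`. -/
noncomputable def form (e : Fin m → Fin d → Fin (n + 1)) (c : Fin m → k) :
    MvPolynomial (Fin (n + 1)) k :=
  ∑ l, C (c l) * mon d (e l)

theorem form_homogeneous (e : Fin m → Fin d → Fin (n + 1)) (c : Fin m → k) :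
    (form e c).IsHomogeneous d :=
  IsHomogeneous.sum _ _ _ fun l _ => (mon_homogeneous (e l)).C_mul (c l)

theorem exists_poly_chart (hd : 0 < d) (e : Fin m ≃ (Fin d → Fin (n + 1)))
    (I : Ideal (MvPolynomial (Fin (n + 1)) k)) (hI : ChartSmooth I) (j : Fin (n + 1)) :
    ∃ g : MvPolynomial (Fin m) k, g ≠ 0 ∧ ∀ c : Fin m → k, eval c g ≠ 0 →
      Algebra.Smooth k (MvPolynomial (Fin (n + 1)) k ⧸
        (I ⊔ Ideal.span {form e c} ⊔ Ideal.span {X j - 1})) := by
  classical
  set I' := I ⊔ Ideal.span {X j - 1} with hI'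
  have : Algebra.Smooth k (MvPolynomial (Fin (n + 1)) k ⧸ I') := hI j
  let π := Ideal.Quotient.mkₐ k I'
  have hj : π (X j) = 1 := by
    rw [← map_one π]
    exact Ideal.Quotient.eq.2 (Ideal.mem_sup_right (Ideal.mem_span_singleton_self _))
  let s : Fin m → MvPolynomial (Fin (n + 1)) k ⧸ I' := fun l => π (mon d (e l))
  have hmem : ∀ i, π (X i) ∈ Set.range s := by
    intro i
    refine ⟨e.symm (Function.update (fun _ => j) ⟨0, hd⟩ i), ?_⟩
    simp only [s, mon, Equiv.apply_symm_apply, map_prod]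
    rw [Finset.prod_eq_single ⟨0, hd⟩ (fun b _ hb => by rw [Function.update_of_ne hb]; exact hj)
      (by simp), Function.update_self]
  have h1 : (1 : MvPolynomial (Fin (n + 1)) k ⧸ I') ∈ Set.range s := hj ▸ hmem j
  have hgen : Algebra.adjoin k (Set.range s) = ⊤ := by
    refine top_le_iff.1 ?_
    rw [← AlgHom.range_eq_top (R := k) π |>.2 Ideal.Quotient.mk_surjective, ← Algebra.map_top,
      ← MvPolynomial.adjoin_range_X, AlgHom.map_adjoin]
    refine Algebra.adjoin_le ?_
    rintro _ ⟨_, ⟨i, rfl⟩, rfl⟩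
    exact Algebra.subset_adjoin (hmem i)
  obtain ⟨g, hg0, hg⟩ := BertiniLib.exists_poly_smooth_quotient s 0
    (BertiniLib.span_pairs_of_adjoin s h1 hgen)
  refine ⟨g, hg0, fun c hc => ?_⟩
  have hsum : (0 : MvPolynomial (Fin (n + 1)) k ⧸ I') +
      ∑ l, algebraMap k _ (c l) * s l = π (form e c) := by
    rw [zero_add, form, map_sum]
    refine Finset.sum_congr rfl fun l _ => ?_
    rw [map_mul, ← algebraMap_eq, AlgHom.commutes]
  have := hg c hc
  rw [hsum] at this
  have hmap : Ideal.span {π (form e c)} =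
      (Ideal.span {form (⇑e) c}).map (Ideal.Quotient.mkₐ k I') := by
    rw [Ideal.map_span, Set.image_singleton]
  rw [hmap] at this
  have := Algebra.Smooth.of_equiv
    (A := (MvPolynomial (Fin (n + 1)) k ⧸ I') ⧸
      (Ideal.span {form (⇑e) c}).map (Ideal.Quotient.mkₐ k I'))
    (B := MvPolynomial (Fin (n + 1)) k ⧸ I' ⊔ Ideal.span {form (⇑e) c})
    (DoubleQuot.quotQuotEquivQuotSupₐ k I' (Ideal.span {form (⇑e) c}))
  have h' : I' ⊔ Ideal.span {form (⇑e) c} = I ⊔ Ideal.span {form e c} ⊔ Ideal.span {X j - 1} := by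
    rw [hI', sup_right_comm]
  exact Algebra.Smooth.of_equiv (Ideal.quotientEquivAlgOfEq k h')

theorem exists_poly_notMem (hd : 0 < d) (e : Fin m ≃ (Fin d → Fin (n + 1)))
    (P : Ideal (MvPolynomial (Fin (n + 1)) k)) [P.IsPrime] (hP : ∃ j, X j ∉ P) :
    ∃ g : MvPolynomial (Fin m) k, g ≠ 0 ∧ ∀ c : Fin m → k, eval c g ≠ 0 → form e c ∉ P := by
  classical
  obtain ⟨j, hj⟩ := hP
  let lin : (Fin m → k) →ₗ[k] MvPolynomial (Fin (n + 1)) k :=
    Fintype.linearCombination k (fun l => mon d (e l))
  have hlin : ∀ c, lin c = form e c := fun c => by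
    simp [lin, form, Fintype.linearCombination_apply, smul_eq_C_mul]
  let W : Submodule k (Fin m → k) := (P.restrictScalars k).comap lin
  let l₀ := e.symm (fun _ => j)
  have he : Pi.single l₀ 1 ∉ W := fun h => hj (by
    have h' : lin (Pi.single l₀ 1) ∈ P := h
    rw [show lin (Pi.single l₀ 1) = mon d (e l₀) by simp [lin],
      show mon (k := k) d (e l₀) = X j ^ d by simp [l₀, mon]] at h'
    exact (inferInstance : P.IsPrime).mem_of_pow_mem d h')
  obtain ⟨φ, -, hφW⟩ := Submodule.exists_dual_map_eq_bot_of_notMem he inferInstance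
  obtain ⟨φ, hφ, hφW⟩ : ∃ φ : (Fin m → k) →ₗ[k] k, φ ≠ 0 ∧ W.map φ = ⊥ := by
    obtain ⟨ψ, hψ, hψW⟩ := Submodule.exists_dual_map_eq_bot_of_notMem he inferInstance
    exact ⟨ψ, fun h => hψ (by rw [h]; rfl), hψW⟩
  have heval : ∀ c : Fin m → k, eval c (∑ l, C (φ (Pi.single l 1)) * X l) = φ c := by
    intro c
    conv_rhs => rw [pi_eq_sum_univ' c, map_sum]
    simp only [map_sum, map_mul, eval_C, eval_X, map_smul, smul_eq_mul, mul_comm]
  refine ⟨∑ l, C (φ (Pi.single l 1)) * X l, fun h0 => hφ (LinearMap.ext fun c => ?_), fun c hc hmem => hc ?_⟩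
  · rw [← heval, h0, map_zero, LinearMap.zero_apply]
  · have : φ c ∈ W.map φ := ⟨c, show lin c ∈ P from (hlin c).symm ▸ hmem, rfl⟩
    rw [hφW, Submodule.mem_bot] at this
    rw [heval, this]

theorem exists_form [Infinite k] (hd : 0 < d) (I : Ideal (MvPolynomial (Fin (n + 1)) k))
    (hI : ChartSmooth I) (hP : ∀ P ∈ I.minimalPrimes, ∃ j, X j ∉ P) :
    ∃ F : MvPolynomial (Fin (n + 1)) k, F.IsHomogeneous d ∧ ChartSmooth (Ideal.span {F}) ∧
      ChartSmooth (I ⊔ Ideal.span {F}) ∧ ∀ P ∈ I.minimalPrimes, F ∉ P := by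
  classical
  let e := (Fintype.equivFin (Fin d → Fin (n + 1))).symm
  choose g hg0 hg using fun (b : Bool) => exists_poly_chart (k := k) hd e (cond b I ⊥)
    (by cases b; exacts [chartSmooth_bot, hI])
  have hfin := Ideal.finite_minimalPrimes_of_isNoetherianRing _ I
  choose q hq0 hq using fun P : I.minimalPrimes =>
    @exists_poly_notMem k _ n d _ hd e P.1 P.2.1.1 (hP P.1 P.2)
  have := hfin.fintype
  have hne : ((∏ j, g true j) * ∏ j, g false j) * ∏ P, q P ≠ 0 :=
    mul_ne_zero (mul_ne_zero (Finset.prod_ne_zero_iff.2 fun j _ => hg0 _ j)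
      (Finset.prod_ne_zero_iff.2 fun j _ => hg0 _ j)) (Finset.prod_ne_zero_iff.2 fun P _ => hq0 P)
  obtain ⟨c, hc⟩ : ∃ c, eval c (((∏ j, g true j) * ∏ j, g false j) * ∏ P, q P) ≠ 0 := by
    by_contra! h
    exact hne (MvPolynomial.funext fun c => by rw [h c, map_zero])
  simp only [map_mul, map_prod, mul_ne_zero_iff, Finset.prod_ne_zero_iff] at hc
  refine ⟨form e c, form_homogeneous _ c, fun j => ?_, fun j => ?_, fun P hPm => ?_⟩
  · have := hg false j c (hc.1.2 j (Finset.mem_univ j))
    have h' : (cond false I ⊥) ⊔ Ideal.span {form e c} = Ideal.span {form e c} := bot_sup_eq _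
    exact Algebra.Smooth.of_equiv (Ideal.quotientEquivAlgOfEq k
      (congrArg (· ⊔ Ideal.span {X j - 1}) h'))
  · exact hg true j c (hc.1.1 j (Finset.mem_univ j))
  · exact hq ⟨P, hPm⟩ c (hc.2 _ (Finset.mem_univ _))

theorem height_sup_singleton {R : Type u} [CommRing R] [IsNoetherianRing R] (I : Ideal R) (F : R)
    (i : ℕ) (hi : (i : ℕ∞) ≤ I.height) (hF : ∀ P ∈ I.minimalPrimes, F ∉ P) :
    ((i + 1 : ℕ) : ℕ∞) ≤ (I ⊔ Ideal.span {F}).height := by
  rw [Ideal.height_eq_inf_minimalPrimes, le_iInf₂_iff]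
  intro Q hQ
  have := hQ.1.1
  obtain ⟨P, hP, hPQ⟩ := Ideal.exists_minimalPrimes_le (le_sup_left.trans hQ.1.2)
  have := hP.1.1
  have hlt : P < Q := lt_of_le_of_ne hPQ fun h => hF P hP
    (h ▸ hQ.1.2 (Ideal.mem_sup_right (Ideal.mem_span_singleton_self F)))
  have h1 : (i : ℕ∞) ≤ P.height := hi.trans (Ideal.height_mono hP.1.2)
  calc ((i + 1 : ℕ) : ℕ∞) = (i : ℕ∞) + 1 := by push_cast; rfl
    _ ≤ P.height + 1 := add_le_add h1 le_rfl
    _ ≤ Q.height := ENat.add_one_le_iff (Ideal.height_ne_top (I := P) (Ideal.IsPrime.ne_top inferInstance)) |>.2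
      (Ideal.height_strict_mono_of_isPrime hlt)

theorem exists_seq [Infinite k] {r : ℕ} (hr : r ≤ n) (d : Fin r → ℕ) (hd : ∀ i, 0 < d i) :
    ∃ f : Fin r → MvPolynomial (Fin (n + 1)) k, (∀ i, (f i).IsHomogeneous (d i)) ∧
      (∀ i, ChartSmooth (Ideal.span {f i})) ∧ ChartSmooth (Ideal.span (Set.range f)) ∧
      (Ideal.span (Set.range f)).height = r := by
  induction r with
  | zero =>
    refine ⟨Fin.elim0, fun i => i.elim0, fun i => i.elim0, ?_, ?_⟩
    · rw [Set.range_eq_empty, Ideal.span_empty]; exact chartSmooth_bot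
    · rw [Set.range_eq_empty, Ideal.span_empty, Ideal.height_bot, Nat.cast_zero]
  | succ i ih =>
    obtain ⟨f, hf, hfs, hI, hht⟩ := ih (by omega) (fun l => d l.castSucc) (fun l => hd _)
    have hP : ∀ P ∈ (Ideal.span (Set.range f)).minimalPrimes, ∃ j, X j ∉ P := by
      intro P hP
      by_contra! h
      have : P.IsPrime := hP.1.1
      have h1 : P.height ≤ (i : ℕ∞) :=
        (Ideal.height_le_card_of_mem_minimalPrimes_span (Set.finite_range f) hP).trans
          (Nat.cast_le.2 ((Finite.card_range_le _).trans (by simp)))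
      have h2 := (Ideal.height_mono (Misc15.vtx_le_of_forall_X_mem h)).trans h1
      rw [Misc15.height_vtx] at h2
      have : n + 1 ≤ i := by exact_mod_cast h2
      omega
    obtain ⟨F, hF, hFs, hIF, hFP⟩ := exists_form (hd (Fin.last i)) _ hI hP
    have hspan : Ideal.span (Set.range (Fin.snoc f F : Fin (i + 1) → _)) =
        Ideal.span (Set.range f) ⊔ Ideal.span {F} := by
      rw [Fin.range_snoc, Ideal.span_insert, sup_comm]
    refine ⟨Fin.snoc f F, fun l => ?_, fun l => ?_, hspan ▸ hIF, le_antisymm ?_ ?_⟩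
    · induction l using Fin.lastCases with
      | last => rw [Fin.snoc_last]; exact hF
      | cast l => rw [Fin.snoc_castSucc]; exact hf l
    · induction l using Fin.lastCases with
      | last => rw [Fin.snoc_last]; exact hFs
      | cast l => rw [Fin.snoc_castSucc]; exact hfs l
    · have hne : Ideal.span (Set.range (Fin.snoc f F : Fin (i + 1) → _)) ≠ ⊤ := by
        refine fun h => (inferInstance : (W4Gr15.coneVtx k (n + 1)).IsMaximal).ne_top
          (top_le_iff.1 (h ▸ Ideal.span_le.2 ?_))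
        rintro _ ⟨l, rfl⟩
        rw [SetLike.mem_coe, W4Gr15.coneVtx_eq, RingHom.mem_ker]
        induction l using Fin.lastCases with
        | last => rw [Fin.snoc_last]; exact hF.coeff_eq_zero (by simpa using (hd _).ne)
        | cast l => rw [Fin.snoc_castSucc]; exact (hf l).coeff_eq_zero (by simpa using (hd _).ne)
      refine (Ideal.height_le_spanFinrank _ hne).trans (Nat.cast_le.2 ?_)
      refine (Submodule.spanFinrank_span_le_ncard_of_finite (Set.finite_range _)).trans ?_
      exact (Finite.card_range_le _).trans (by simp)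
    · rw [hspan]; exact height_sup_singleton _ F i hht.ge hFP

/-- `A[1/t]` is a retract of `C[T, T⁻¹]` when `C` is the dehomogenisation of `A`. -/
theorem formallySmooth_away {σ : Type} {ι : Type} (f : ι → MvPolynomial σ k) (d : ι → ℕ)
    (hf : ∀ i, (f i).IsHomogeneous (d i)) (j : σ)
    (A C : Type u) [CommRing A] [CommRing C] [Algebra k A] [Algebra k C] [Algebra.FormallySmooth k C]
    (x : σ → A) (y : σ → C) (hA : ∀ (B : Type u) [CommRing B] [Algebra k B] (a : σ → B),
      (∀ i, aeval a (f i) = 0) → ∃ g : A →ₐ[k] B, ∀ l, g (x l) = a l)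
    (hC : ∀ (B : Type u) [CommRing B] [Algebra k B] (a : σ → B),
      (∀ i, aeval a (f i) = 0) → a j = 1 → ∃ g : C →ₐ[k] B, ∀ l, g (y l) = a l)
    (hx : Algebra.adjoin k (Set.range x) = ⊤)
    (hxf : ∀ i, aeval x (f i) = 0) (hyf : ∀ i, aeval y (f i) = 0) (hyj : y j = 1) :
    Algebra.FormallySmooth k (Localization.Away (x j)) := by
  let R' := Localization.Away (Polynomial.X : Polynomial C)
  let L := Localization.Away (x j)
  have : Algebra.FormallySmooth k (Polynomial C) := Algebra.FormallySmooth.comp k C _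
  have : Algebra.FormallySmooth k R' := inferInstance
  let inc : C →ₐ[k] R' :=
    (IsScalarTower.toAlgHom k (Polynomial C) R').comp (IsScalarTower.toAlgHom k C (Polynomial C))
  let T : R' := algebraMap (Polynomial C) R' Polynomial.X
  obtain ⟨φ1, hφ1⟩ := hA R' (fun l => inc (y l) * T) fun i => by
    rw [aeval_mul_homogeneous _ T (hf i)]
    change aeval (⇑inc ∘ y) (f i) * _ = 0
    rw [show (⇑inc ∘ y) = fun l => inc (y l) from rfl, ← MvPolynomial.comp_aeval_apply, hyf, map_zero, zero_mul]
  have hu : ∀ z : Submonoid.powers (x j), IsUnit (φ1 z) := by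
    rintro ⟨_, N, rfl⟩
    rw [map_pow, hφ1, hyj, map_one, one_mul]
    exact (IsLocalization.Away.algebraMap_isUnit _).pow N
  let φ : L →ₐ[k] R' := IsLocalization.liftAlgHom hu
  have htu : IsUnit (algebraMap A L (x j)) := IsLocalization.Away.algebraMap_isUnit _
  let v : L := ↑htu.unit⁻¹
  let incA : A →ₐ[k] L := IsScalarTower.toAlgHom k A L
  obtain ⟨ψ0, hψ0⟩ := hC L (fun l => incA (x l) * v) (fun i => by
    rw [aeval_mul_homogeneous _ v (hf i)]
    change aeval (⇑incA ∘ x) (f i) * _ = 0
    rw [show (⇑incA ∘ x) = fun l => incA (x l) from rfl, ← MvPolynomial.comp_aeval_apply, hxf, map_zero, zero_mul]) htu.mul_val_inv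
  let ψ1 : Polynomial C →ₐ[k] L :=
    Polynomial.aevalTower ψ0 (algebraMap A L (x j))
  have hψu : ∀ z : Submonoid.powers (Polynomial.X : Polynomial C), IsUnit (ψ1 z) := by
    rintro ⟨_, N, rfl⟩
    rw [map_pow]
    refine IsUnit.pow _ ?_
    simpa [ψ1] using htu
  let ψ : R' →ₐ[k] L := IsLocalization.liftAlgHom hψu
  have hcomp : ψ.comp φ = AlgHom.id k L := by
    refine AlgHom.coe_ringHom_injective (IsLocalization.ringHom_ext (Submonoid.powers (x j)) ?_)
    have : (ψ.comp φ).comp incA = incA := AlgHom.ext_of_adjoin_eq_top hx (by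
      rintro _ ⟨l, rfl⟩
      show ψ (φ (algebraMap A L (x l))) = _
      simp only [φ, IsLocalization.liftAlgHom_apply, IsLocalization.lift_eq]
      show ψ (φ1 (x l)) = _
      rw [hφ1, map_mul]
      show ψ (algebraMap (Polynomial C) R' (Polynomial.C (y l))) * ψ (algebraMap (Polynomial C) R' Polynomial.X) = _
      simp only [ψ, IsLocalization.liftAlgHom_apply, IsLocalization.lift_eq]
      show ψ1 (Polynomial.C (y l)) * ψ1 Polynomial.X = _
      simp only [ψ1, Polynomial.aevalTower_C, Polynomial.aevalTower_X]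
      show ψ0 (y l) * _ = _
      rw [hψ0, mul_assoc, show v * algebraMap A L (x j) = 1 from htu.val_inv_mul, mul_one])
    exact congrArg AlgHom.toRingHom this
  exact formallySmooth_retract φ ψ hcomp

/-- Regularity passes to generalisations. -/
theorem regular_of_le {A : Type u} [CommRing A] (Q M : Ideal A) [Q.IsPrime] [M.IsPrime] (hQM : Q ≤ M)
    (hsa : IsRegularLocalRing (Localization.AtPrime M)) : IsRegularLocalRing (Localization.AtPrime Q) := by
  let p := Q.map (algebraMap _ (Localization.AtPrime M))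
  have hd : Disjoint (M.primeCompl : Set A) (Q : Set _) :=
    Set.disjoint_left.2 fun a ha haQ => ha (hQM haQ)
  have : p.IsPrime := IsLocalization.isPrime_of_isPrime_disjoint M.primeCompl _ Q inferInstance hd
  have hpQ : p.comap (algebraMap _ (Localization.AtPrime M)) = Q :=
    IsLocalization.comap_map_of_isPrime_disjoint M.primeCompl _ inferInstance hd
  haveI := hsa
  haveI : IsRegularLocalRing (Localization.AtPrime p) := CAlgH3.isRegularLocalRing_localization p
  have key : ∀ (Q' : Ideal A) [Q'.IsPrime], Q' = Q → IsRegularLocalRing (Localization.AtPrime Q') →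
      IsRegularLocalRing (Localization.AtPrime Q) := fun Q' _ h h2 => by subst h; exact h2
  refine key _ hpQ ?_
  exact IsRegularLocalRing.of_ringEquiv (R := Localization.AtPrime p)
    (IsLocalization.localizationLocalizationAtPrimeIsoLocalization M.primeCompl p).symm.toRingEquiv

/-- The cone over a projective scheme with smooth charts is regular away from the vertex. -/
theorem regular_off_vertex [IsAlgClosed k] {ι : Type} (f : ι → MvPolynomial (Fin (n + 1)) k)
    (d : ι → ℕ) (hf : ∀ i, (f i).IsHomogeneous (d i)) (h : ChartSmooth (Ideal.span (Set.range f)))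
    (Q : Ideal (MvPolynomial (Fin (n + 1)) k ⧸ Ideal.span (Set.range f))) [Q.IsPrime]
    (hQ : ∃ j, Ideal.Quotient.mk (Ideal.span (Set.range f)) (MvPolynomial.X j) ∉ Q) :
    IsRegularLocalRing (Localization.AtPrime Q) := by
  classical
  obtain ⟨j, hj⟩ := hQ
  generalize hIdef : Ideal.span (Set.range f) = I at *
  have : Algebra.Smooth k (MvPolynomial (Fin (n + 1)) k ⧸ (I ⊔ Ideal.span {X j - 1})) := h j
  have hlift : ∀ (I : Ideal (MvPolynomial (Fin (n + 1)) k)) (B : Type u) [CommRing B] [Algebra k B]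
      (a : Fin (n + 1) → B), I ≤ RingHom.ker (aeval a : _ →ₐ[k] B) →
      ∃ g : MvPolynomial (Fin (n + 1)) k ⧸ I →ₐ[k] B, ∀ l, g (Ideal.Quotient.mk I (X l)) = a l :=
    fun I B _ _ a h => ⟨Ideal.Quotient.liftₐ I (aeval a) fun z hz => h hz, fun l => aeval_X a l⟩
  have haeval : ∀ (I : Ideal (MvPolynomial (Fin (n + 1)) k)) p,
      aeval (fun l => Ideal.Quotient.mk I (X l)) p = Ideal.Quotient.mk I p := fun I p => by
    exact DFunLike.congr_fun (MvPolynomial.aeval_unique (Ideal.Quotient.mkₐ k I)).symm p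
  have hfI : ∀ i, f i ∈ I := fun i => hIdef ▸ Ideal.subset_span ⟨i, rfl⟩
  have hL : Algebra.FormallySmooth k (Localization.Away (Ideal.Quotient.mk I (X j))) := by
    refine formallySmooth_away f d hf j _ (MvPolynomial (Fin (n + 1)) k ⧸ (I ⊔ Ideal.span {X j - 1}))
      (fun l => Ideal.Quotient.mk I (X l)) (fun l => Ideal.Quotient.mk _ (X l))
      (fun B _ _ a ha => hlift _ B a ?_) (fun B _ _ a ha haj => hlift _ B a ?_) ?_ ?_ ?_ ?_
    · rw [← hIdef, Ideal.span_le]
      rintro _ ⟨i, rfl⟩
      exact ha i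
    · refine sup_le ?_ ?_
      · rw [← hIdef, Ideal.span_le]
        rintro _ ⟨i, rfl⟩
        exact ha i
      · rw [Ideal.span_le, Set.singleton_subset_iff, SetLike.mem_coe, RingHom.mem_ker, map_sub,
          map_one, aeval_X, haj, sub_self]
    · rw [Algebra.adjoin_range_eq_range_aeval, AlgHom.range_eq_top]
      intro z
      obtain ⟨p, rfl⟩ := Ideal.Quotient.mk_surjective z
      exact ⟨p, haeval I p⟩
    · exact fun i => (haeval I _).trans (Ideal.Quotient.eq_zero_iff_mem.2 (hfI i))
    · exact fun i => (haeval _ _).trans (Ideal.Quotient.eq_zero_iff_mem.2 (Ideal.mem_sup_left (hfI i)))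
    · rw [← map_one (Ideal.Quotient.mk (I ⊔ Ideal.span {X j - 1}))]
      exact Ideal.Quotient.eq.2 (Ideal.mem_sup_right (Ideal.mem_span_singleton_self _))
  have : Algebra.FinitePresentation k (MvPolynomial (Fin (n + 1)) k ⧸ I) :=
    Algebra.FinitePresentation.quotient (IsNoetherian.noetherian _)
  obtain ⟨M, hM, hQM, hjM⟩ : ∃ M : Ideal (MvPolynomial (Fin (n + 1)) k ⧸ I),
      M.IsMaximal ∧ Q ≤ M ∧ Ideal.Quotient.mk I (X j) ∉ M := by
    by_contra! hall
    refine hj ?_
    have : Q.jacobson = Q :=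
      IsJacobsonRing.out inferInstance (inferInstance : Q.IsPrime).isRadical
    rw [← this, Ideal.jacobson, Submodule.mem_sInf]
    exact fun M hM => hall M hM.2 hM.1
  have hsa : Algebra.IsSmoothAt k M :=
    Algebra.basicOpen_subset_smoothLocus_iff.2 hL
      (show (⟨M, hM.isPrime⟩ : PrimeSpectrum _) ∈ PrimeSpectrum.basicOpen _ from hjM)
  rw [AlgSpLib.SmoothField.isSmoothAt_iff_regular] at hsa
  exact regular_of_le Q M hQM hsa

end Groth.Agent.CAlgH.SmoothCI
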