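import Mathlib
import Groth.Agent.SmoothLib.Quotient
import Groth.Agent.CAlgH.RegularSmooth
import Groth.Agent.CAlgH3.RegularLocal

/-! Néron: smoothness at the special point of a point with values in an unramified dvr extension. -/

set_option autoImplicit false
universe u

open TensorProduct KaehlerDifferential

namespace Groth.Agent.CAlgH.SmoothSpecial

/-- Smoothness at a prime is transported along algebra equivalences. -/
theorem isSmoothAt_of_algEquiv {R A B : Type u} [CommRing R] [CommRing A] [CommRing B] [Algebra R A]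
    [Algebra R B] (e : B ≃ₐ[R] A) (P : Ideal A) [P.IsPrime] (Q : Ideal B) [Q.IsPrime]
    (h : Q = P.comap (e : B →+* A)) [hQ : Algebra.IsSmoothAt R Q] : Algebra.IsSmoothAt R P := by
  have hM : Q.primeCompl.map e.toRingEquiv.toMonoidHom = P.primeCompl := by
    ext a
    constructor
    · rintro ⟨b, hb, rfl⟩ ha
      exact hb (h ▸ ha)
    · intro ha
      refine ⟨e.symm a, fun hb => ha ?_, e.apply_symm_apply a⟩
      have := h ▸ hb
      simpa using this
  let f := IsLocalization.ringEquivOfRingEquiv (M := Q.primeCompl) (T := P.primeCompl)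
    (Localization.AtPrime Q) (Localization.AtPrime P) e.toRingEquiv hM
  have : Algebra.FormallySmooth R (Localization.AtPrime Q) := hQ
  exact Algebra.FormallySmooth.of_equiv (AlgEquiv.ofRingEquiv (f := f) fun r => by
    rw [IsScalarTower.algebraMap_apply R B (Localization.AtPrime Q),
      IsScalarTower.algebraMap_apply R A (Localization.AtPrime P),
      IsLocalization.ringEquivOfRingEquiv_eq]
    exact congrArg _ (e.commutes r))

variable {R : Type u} [CommRing R] {σ : Type u} [Fintype σ]

/-- The Jacobian vector with values in a ring `K`. -/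
noncomputable def jac {K : Type u} [CommRing K] (f : MvPolynomial σ R →+* K) (g : MvPolynomial σ R) : σ → K :=
  fun i => f (MvPolynomial.pderiv i g)

theorem linearIndependent_tmul_D_iff {K : Type u} [Field K] [Algebra (MvPolynomial σ R) K]
    {ι : Type u} (g : ι → MvPolynomial σ R) :
    LinearIndependent K (fun l => (1 : K) ⊗ₜ[MvPolynomial σ R] D R (MvPolynomial σ R) (g l)) ↔
      LinearIndependent K (fun l => jac (algebraMap (MvPolynomial σ R) K) (g l)) := by
  have hc : (fun l => jac (algebraMap (MvPolynomial σ R) K) (g l)) =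
      ((KaehlerDifferential.mvPolynomialBasis R σ).baseChange K).equivFun.toLinearMap ∘
        (fun l => (1 : K) ⊗ₜ[MvPolynomial σ R] D R (MvPolynomial σ R) (g l)) := by
    funext l i
    simp [jac, Module.Basis.equivFun_apply, Algebra.smul_def]
  rw [hc]
  exact (LinearMap.linearIndependent_iff _ (LinearEquiv.ker _)).symm

theorem linearIndependent_of_map {K L : Type u} [Field K] [Field L] (f : K →+* L) {ι : Type u}
    (v : ι → σ → K) (h : LinearIndependent L (fun l => (fun i => f (v l i)))) :
    LinearIndependent K v := by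
  classical
  rw [linearIndependent_iff'] at h ⊢
  intro s c hc l hl
  refine f.injective (Eq.trans ?_ (map_zero f).symm)
  refine h s (fun l => f (c l)) ?_ l hl
  funext i
  have h1 := congrArg f (congrFun hc i)
  simpa [Finset.sum_apply, map_sum] using h1

theorem mem_span_of_map {K L : Type u} [Field K] [Field L] (f : K →+* L) {ι : Type u}
    (v : ι → σ → K) (w : σ → K)
    (h : (fun i => f (w i)) ∈ Submodule.span L (Set.range fun l => (fun i => f (v l i)))) :
    w ∈ Submodule.span K (Set.range v) := by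
  classical
  by_contra hw
  obtain ⟨φ, hφw, hφ⟩ := Submodule.exists_le_ker_of_notMem hw
  let c : σ → K := fun i => φ (Pi.single i 1)
  have hφc : ∀ x : σ → K, φ x = ∑ i, x i * c i := fun x => by
    conv_lhs => rw [pi_eq_sum_univ' x]
    simp [c, map_sum]
  let Φ : (σ → L) →ₗ[L] L := ∑ i, f (c i) • LinearMap.proj i
  have hΦ : ∀ x : σ → K, Φ (fun i => f (x i)) = f (φ x) := fun x => by
    simp [Φ, hφc, map_sum, mul_comm]
  have hle : Submodule.span L (Set.range fun l => (fun i => f (v l i))) ≤ LinearMap.ker Φ := by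
    refine Submodule.span_le.mpr ?_
    rintro _ ⟨l, rfl⟩
    show Φ _ = 0
    rw [hΦ, show φ (v l) = 0 from hφ (Submodule.subset_span ⟨l, rfl⟩), map_zero]
  have h2 := hle h
  rw [LinearMap.mem_ker, hΦ, map_eq_zero] at h2
  exact hφw h2

variable {Λ : Type u} [CommRing Λ] [IsDomain Λ] [IsDiscreteValuationRing Λ]

/-- If the span `W` of the Jacobian vectors of `I` is saturated, finitely many elements of `I` have
Jacobian vectors which span `W` and stay independent modulo the maximal ideal. -/
theorem exists_family (ψ : MvPolynomial σ R →+* Λ) (I : Ideal (MvPolynomial σ R))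
    (hsat : ∀ (ϖ : Λ) (y : σ → Λ), ϖ ≠ 0 → ϖ • y ∈ Submodule.span Λ (jac ψ '' (I : Set _)) →
      y ∈ Submodule.span Λ (jac ψ '' (I : Set _))) :
    ∃ (ι : Type u) (_ : Fintype ι) (G : ι → MvPolynomial σ R), (∀ l, G l ∈ I) ∧
      LinearIndependent (IsLocalRing.ResidueField Λ)
        (fun l => jac ((IsLocalRing.residue Λ).comp ψ) (G l)) ∧
      ∀ f ∈ I, jac ψ f ∈ Submodule.span Λ (Set.range fun l => jac ψ (G l)) := by
  classical
  let k := IsLocalRing.ResidueField Λ
  let S : Set (σ → k) := jac ((IsLocalRing.residue Λ).comp ψ) '' (I : Set _)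
  obtain ⟨b, hbS, hbspan, hbli⟩ := exists_linearIndependent k S
  have hbfin : b.Finite := hbli.setFinite
  choose G hGI hG using fun x : b => hbS x.2
  refine ⟨b, hbfin.fintype, G, hGI, ?_, ?_⟩
  · rw [show (fun l => jac ((IsLocalRing.residue Λ).comp ψ) (G l)) = Subtype.val from funext hG]
    exact hbli
  set W := Submodule.span Λ (jac ψ '' (I : Set _)) with hW
  set N := Submodule.span Λ (Set.range fun l => jac ψ (G l)) with hN
  have hNW : N ≤ W := Submodule.span_le.mpr (by
    rintro _ ⟨l, rfl⟩; exact Submodule.subset_span ⟨G l, hGI l, rfl⟩)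
  obtain ⟨ϖ, hϖ⟩ := IsDiscreteValuationRing.exists_irreducible Λ
  have hm := hϖ.maximalIdeal_eq
  have key : W ≤ N ⊔ IsLocalRing.maximalIdeal Λ • W := by
    refine Submodule.span_le.mpr ?_
    rintro _ ⟨f, hf, rfl⟩
    have h1 : jac ((IsLocalRing.residue Λ).comp ψ) f ∈ Submodule.span k (Set.range ((↑) : b → σ → k)) := by
      rw [Subtype.range_coe, hbspan]
      exact Submodule.subset_span ⟨f, hf, rfl⟩
    obtain ⟨c, hc⟩ := (Finsupp.mem_span_range_iff_exists_finsupp).mp h1
    choose c' hc' using fun l => IsLocalRing.residue_surjective (c l)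
    let n : σ → Λ := ∑ l ∈ c.support, c' l • jac ψ (G l)
    have hnN : n ∈ N :=
      Submodule.sum_mem _ fun l _ => Submodule.smul_mem _ _ (Submodule.subset_span ⟨l, rfl⟩)
    have hd : ∀ i, (jac ψ f - n) i ∈ IsLocalRing.maximalIdeal Λ := by
      intro i
      rw [← IsLocalRing.residue_eq_zero_iff]
      have h2 := congrFun hc i
      simp only [Finsupp.sum, Finset.sum_apply, Pi.smul_apply, smul_eq_mul] at h2
      simp only [n, Pi.sub_apply, Finset.sum_apply, Pi.smul_apply, smul_eq_mul, map_sub, map_sum,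
        map_mul, hc']
      rw [sub_eq_zero]
      refine h2.symm.trans (Finset.sum_congr rfl fun l _ => ?_)
      rw [← hG l]
      rfl
    rw [hm] at hd
    choose y hy using fun i => Ideal.mem_span_singleton'.mp (hd i)
    have hyv : ϖ • y = jac ψ f - n := funext fun i => by simp [← hy i, mul_comm]
    have hyW : y ∈ W := hsat ϖ y hϖ.ne_zero (by
      rw [hyv]
      exact Submodule.sub_mem _ (Submodule.subset_span ⟨f, hf, rfl⟩) (hNW hnN))
    rw [SetLike.mem_coe, show jac ψ f = n + ϖ • y by rw [hyv]; abel]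
    exact Submodule.add_mem_sup hnN (Submodule.smul_mem_smul (hm ▸ Ideal.mem_span_singleton_self ϖ) hyW)
  have hfg : W.FG := IsNoetherian.noetherian W
  have hle := Submodule.le_of_le_smul_of_le_jacobson_bot hfg (IsLocalRing.maximalIdeal_le_jacobson ⊥) key
  exact fun f hf => hle (Submodule.subset_span ⟨f, hf, rfl⟩)

/-- If `Λ ⊗ Ω[A⁄R]` is free, the Jacobian vectors of the relations span a saturated submodule. -/
theorem saturated {A : Type u} [CommRing A] [Algebra R A] [Algebra A Λ] [Algebra R Λ] [IsScalarTower R A Λ]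
    (π : MvPolynomial σ R →ₐ[R] A) (hπ : Function.Surjective π)
    [Module.Free Λ (Λ ⊗[A] Ω[A⁄R])] (ϖ : Λ) (y : σ → Λ) (hϖ : ϖ ≠ 0)
    (hy : ϖ • y ∈ Submodule.span Λ
      (jac ((algebraMap A Λ).comp π.toRingHom) '' (RingHom.ker π : Set (MvPolynomial σ R)))) :
    y ∈ Submodule.span Λ
      (jac ((algebraMap A Λ).comp π.toRingHom) '' (RingHom.ker π : Set (MvPolynomial σ R))) := by
  classical
  set ψ := (algebraMap A Λ).comp π.toRingHom with hψ
  set W := Submodule.span Λ (jac ψ '' (RingHom.ker π : Set (MvPolynomial σ R))) with hW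
  have hjac_add : ∀ f g, jac ψ (f + g) = jac ψ f + jac ψ g := fun f g => funext fun i => by simp [jac]
  have hjac_mul : ∀ f g, jac ψ (f * g) = ψ f • jac ψ g + ψ g • jac ψ f := fun f g => funext fun i => by
    simp [jac]
  have hjac_C : ∀ r, jac ψ (MvPolynomial.C r) = 0 := fun r => funext fun i => by simp [jac]
  have hψC : ∀ r, ψ (MvPolynomial.C r) = algebraMap R Λ r := fun r => by
    show algebraMap A Λ (π (algebraMap R (MvPolynomial σ R) r)) = _
    rw [AlgHom.commutes, ← IsScalarTower.algebraMap_apply]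
  have hwd : ∀ f g, π f = π g → W.mkQ (jac ψ f) = W.mkQ (jac ψ g) := fun f g h => by
    rw [Submodule.mkQ_apply, Submodule.mkQ_apply, Submodule.Quotient.eq]
    refine Submodule.subset_span ⟨f - g, ?_, ?_⟩
    · simp [h]
    · exact funext fun i => by simp [jac]
  choose sec hsec using hπ
  have key : ∀ f, W.mkQ (jac ψ (sec (π f))) = W.mkQ (jac ψ f) := fun f => hwd _ _ (hsec _)
  let Dlin : A →ₗ[R] (σ → Λ) ⧸ W :=
    { toFun := fun a => W.mkQ (jac ψ (sec a))
      map_add' := fun a b => by
        rw [← map_add, ← hjac_add]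
        exact hwd _ _ (by simp [hsec])
      map_smul' := fun r a => by
        show W.mkQ (jac ψ (sec (r • a))) = r • W.mkQ (jac ψ (sec a))
        have h1 := hwd (sec (r • a)) (MvPolynomial.C r * sec a) (by
          simp [hsec, Algebra.smul_def, ← MvPolynomial.algebraMap_eq])
        rw [h1, hjac_mul, hjac_C, smul_zero, add_zero, hψC, map_smul, algebraMap_smul] }
  let der : Derivation R A ((σ → Λ) ⧸ W) := Derivation.mk' Dlin fun a b => by
    show W.mkQ (jac ψ (sec (a * b))) = a • W.mkQ (jac ψ (sec b)) + b • W.mkQ (jac ψ (sec a))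
    have h1 := hwd (sec (a * b)) (sec a * sec b) (by simp [hsec])
    rw [h1, hjac_mul, map_add, map_smul, map_smul]
    simp [hψ, hsec, algebraMap_smul]
  let l : Λ ⊗[A] Ω[A⁄R] →ₗ[Λ] (σ → Λ) ⧸ W := der.liftKaehlerDifferential.liftBaseChange Λ
  have hl : ∀ f, l ((1 : Λ) ⊗ₜ D R A (π f)) = W.mkQ (jac ψ f) := fun f => by
    simp only [l, LinearMap.liftBaseChange_tmul, one_smul, Derivation.liftKaehlerDifferential_comp_D]
    exact key f
  let g : (σ → Λ) →ₗ[Λ] Λ ⊗[A] Ω[A⁄R] :=
    ∑ i, (LinearMap.proj i).smulRight ((1 : Λ) ⊗ₜ[A] D R A (π (MvPolynomial.X i)))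
  have hg : ∀ f, g (jac ψ f) = (1 : Λ) ⊗ₜ[A] D R A (π f) := by
    intro f
    induction f using MvPolynomial.induction_on with
    | C r =>
      rw [hjac_C, map_zero, ← MvPolynomial.algebraMap_eq, AlgHom.commutes, Derivation.map_algebraMap,
        tmul_zero]
    | add f₁ f₂ h₁ h₂ => rw [hjac_add, map_add, h₁, h₂, map_add, map_add, tmul_add]
    | mul_X f i hf =>
      rw [hjac_mul, map_add, map_smul, map_smul, hf, map_mul, Derivation.leibniz, tmul_add]
      have hX : g (jac ψ (MvPolynomial.X i)) = (1 : Λ) ⊗ₜ[A] D R A (π (MvPolynomial.X i)) := by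
        simp only [g, LinearMap.sum_apply, LinearMap.smulRight_apply, LinearMap.proj_apply]
        rw [Finset.sum_eq_single i]
        · simp only [jac, MvPolynomial.pderiv_X_self, map_one, one_smul]
        · intro j _ hj
          simp only [jac, MvPolynomial.pderiv_X_of_ne hj.symm, map_zero, zero_smul]
        · exact fun h => absurd (Finset.mem_univ i) h
      rw [hX, tmul_smul, tmul_smul, hψ]
      simp only [RingHom.comp_apply, AlgHom.toRingHom_eq_coe, RingHom.coe_coe]
      rw [algebraMap_smul, algebraMap_smul]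
  have hgW : W ≤ LinearMap.ker g := Submodule.span_le.mpr (by
    rintro _ ⟨f, hf, rfl⟩
    show g _ = 0
    rw [hg, RingHom.mem_ker.mp hf, map_zero, tmul_zero])
  have hid : l.comp (W.liftQ g hgW) = LinearMap.id := by
    refine Submodule.linearMap_qext _ (LinearMap.pi_ext' fun i => LinearMap.ext_ring ?_)
    simp only [LinearMap.comp_apply, Submodule.liftQ_apply, Submodule.mkQ_apply, LinearMap.id_apply,
      LinearMap.coe_single]
    have he : (Pi.single i 1 : σ → Λ) = jac ψ (MvPolynomial.X i) := funext fun j => by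
      simp [jac, MvPolynomial.pderiv_X, Pi.single_apply, apply_ite, eq_comm]
    rw [he, hg, hl]
    rfl
  have h2 : ϖ • W.liftQ g hgW (W.mkQ y) = 0 := by
    rw [← map_smul, ← map_smul, Submodule.mkQ_apply, (Submodule.Quotient.mk_eq_zero W).mpr hy, map_zero]
  have h3 := (smul_eq_zero.mp h2).resolve_left hϖ
  have h4 := LinearMap.congr_fun hid (W.mkQ y)
  rw [LinearMap.comp_apply, h3, map_zero, LinearMap.id_apply] at h4
  exact (Submodule.Quotient.mk_eq_zero W).mp h4.symm

/-- At a prime where the quotient is smooth, a family whose Jacobian vectors span those of the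
ideal over a field extension of the residue field generates the ideal. -/
theorem map_le_span_at [IsNoetherianRing R] (I : Ideal (MvPolynomial σ R)) (Q : Ideal (MvPolynomial σ R))
    [Q.IsPrime] (hIQ : I ≤ Q) (P : Ideal (MvPolynomial σ R ⧸ I)) [P.IsPrime]
    (hQ : Q = P.comap (Ideal.Quotient.mk I)) (hsm : Algebra.IsSmoothAt R P)
    {L : Type u} [Field L] (f : Q.ResidueField →+* L) {ι : Type u} [Fintype ι] (G : ι → MvPolynomial σ R)
    (hG : ∀ l, G l ∈ I)
    (hspan : ∀ g ∈ I, jac (f.comp (algebraMap _ Q.ResidueField)) g ∈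
      Submodule.span L (Set.range fun l => jac (f.comp (algebraMap _ Q.ResidueField)) (G l))) :
    I.map (algebraMap (MvPolynomial σ R) (Localization.AtPrime Q)) ≤
      (Ideal.span (Set.range G)).map (algebraMap (MvPolynomial σ R) (Localization.AtPrime Q)) := by
  classical
  haveI : Algebra.IsSmoothAt R Q := Algebra.FormallySmooth.comp R (MvPolynomial σ R) _
  obtain ⟨s, hsI, hgen, hli⟩ := (Groth.Agent.SmoothLib.isSmoothAt_quotient_iff I
    (IsNoetherian.noetherian I) P Q hQ).mp hsm
  rw [linearIndependent_tmul_D_iff] at hli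
  let K := Q.ResidueField
  let φ := algebraMap (MvPolynomial σ R) K
  let T := Localization.AtPrime Q
  have hφI : ∀ g ∈ I, φ g = 0 := fun g hg => Ideal.algebraMap_residueField_eq_zero.mpr (hIQ hg)
  have main : ∀ l ∈ s, algebraMap _ T l ∈ (Ideal.span (Set.range G)).map (algebraMap _ T) ⊔
      IsLocalRing.maximalIdeal T • I.map (algebraMap _ T) := by
    intro l hl
    have h1 : jac φ l ∈ Submodule.span K (Set.range fun m => jac φ (G m)) :=
      mem_span_of_map f _ _ (hspan l (hsI hl))
    obtain ⟨c, hc⟩ := (Submodule.mem_span_range_iff_exists_fun K).mp h1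
    have hfrac : ∀ m, ∃ a b : MvPolynomial σ R, b ∉ Q ∧ c m * φ b = φ a := by
      intro m
      obtain ⟨⟨a, b⟩, hab⟩ := IsLocalization.surj (nonZeroDivisors (MvPolynomial σ R ⧸ Q)) (c m)
      obtain ⟨a, rfl⟩ := Ideal.Quotient.mk_surjective a
      obtain ⟨b', hb'⟩ := Ideal.Quotient.mk_surjective b.1
      refine ⟨a, b', fun h => nonZeroDivisors.ne_zero b.2 ?_, ?_⟩
      · rw [← hb', Ideal.Quotient.eq_zero_iff_mem.mpr h]
      · show c m * φ b' = φ a
        simp only [φ]
        rw [IsScalarTower.algebraMap_apply _ (MvPolynomial σ R ⧸ Q) K,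
          IsScalarTower.algebraMap_apply _ (MvPolynomial σ R ⧸ Q) K a]
        exact hb' ▸ hab
    choose a b hb hab using hfrac
    let t := ∏ m, b m
    have ht : t ∉ Q := fun h => by
      obtain ⟨m, -, hm⟩ := (Ideal.IsPrime.prod_mem_iff).mp h
      exact hb m hm
    let e := fun m => a m * ∏ m' ∈ Finset.univ.erase m, b m'
    let z := t * l - ∑ m, e m * G m
    have hzI : z ∈ I := Ideal.sub_mem _ (Ideal.mul_mem_left _ _ (hsI hl))
      (Ideal.sum_mem _ fun m _ => Ideal.mul_mem_left _ _ (hG m))
    have hjz : jac φ z = 0 := by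
      funext i
      have hci := congrFun hc i
      simp only [Finset.sum_apply, Pi.smul_apply, smul_eq_mul, jac] at hci
      have he : ∀ m, φ (e m) = φ t * c m := fun m => by
        simp only [e, t, map_mul, ← hab m]
        rw [← Finset.mul_prod_erase Finset.univ b (Finset.mem_univ m), map_mul]
        ring
      simp [jac, z, map_sum, hφI _ (hsI hl), fun m => hφI _ (hG m), he, ← hci, Finset.mul_sum, mul_assoc]
    have h2 : algebraMap _ T z ∈ (Ideal.span (↑s : Set (MvPolynomial σ R))).map (algebraMap _ T) := by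
      rw [Ideal.map_span, ← hgen]
      exact Ideal.mem_map_of_mem _ hzI
    obtain ⟨⟨⟨y, hy⟩, u⟩, hyu⟩ := (IsLocalization.mem_map_algebraMap_iff Q.primeCompl T).mp h2
    rw [← map_mul] at hyu
    obtain ⟨v, hv⟩ := (IsLocalization.eq_iff_exists Q.primeCompl T).mp hyu
    obtain ⟨d, hd⟩ := (Submodule.mem_span_finset').mp
      (Ideal.mul_mem_left (Ideal.span (↑s : Set (MvPolynomial σ R))) v.1 hy)
    have hj : (∑ m : s, φ (d m) • jac φ (m : MvPolynomial σ R)) = 0 := by
      funext i
      have h3 := congrArg (fun w => φ (MvPolynomial.pderiv i w)) (hd.trans hv.symm)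
      have h4 := congrFun hjz i
      simp [jac, map_sum, hφI _ hzI, fun m : s => hφI _ (hsI m.2), mul_comm] at h3 h4 ⊢
      rw [h4] at h3
      simpa using h3
    have hd0 := Fintype.linearIndependent_iff.mp hli (fun m => φ (d m)) hj
    have h5 : algebraMap _ T z ∈ IsLocalRing.maximalIdeal T • I.map (algebraMap _ T) := by
      have h6 : algebraMap _ T (v.1 * (z * u.1)) ∈ IsLocalRing.maximalIdeal T • I.map (algebraMap _ T) := by
        rw [hv, ← hd, map_sum]
        refine Submodule.sum_mem _ fun m _ => ?_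
        rw [smul_eq_mul (d m), map_mul]
        refine Submodule.smul_mem_smul (M := T) (N := I.map (algebraMap _ T)) ?_ (Ideal.mem_map_of_mem _ (hsI m.2))
        rw [← Localization.AtPrime.map_eq_maximalIdeal]
        exact Ideal.mem_map_of_mem _ (Ideal.algebraMap_residueField_eq_zero.mp (hd0 m))
      rw [map_mul, map_mul] at h6
      exact (Ideal.mul_unit_mem_iff_mem _ (IsLocalization.map_units T u)).mp
        ((Ideal.unit_mul_mem_iff_mem _ (IsLocalization.map_units T v)).mp h6)
    refine (Ideal.unit_mul_mem_iff_mem _ (IsLocalization.map_units T (⟨t, ht⟩ : Q.primeCompl))).mp ?_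
    show algebraMap _ T t * _ ∈ _
    rw [← map_mul, show t * l = (∑ m, e m * G m) + z by simp only [z]; ring, map_add]
    exact Submodule.add_mem_sup (Ideal.mem_map_of_mem _ (Ideal.sum_mem _ fun m _ =>
      Ideal.mul_mem_left _ _ (Ideal.subset_span ⟨m, rfl⟩))) h5
  refine Submodule.le_of_le_smul_of_le_jacobson_bot (Ideal.FG.map (IsNoetherian.noetherian I) _)
    (IsLocalRing.maximalIdeal_le_jacobson ⊥) ?_
  conv_lhs => rw [hgen]
  refine Ideal.span_le.mpr ?_
  rintro _ ⟨l, hl, rfl⟩
  exact main l hl

set_option maxHeartbeats 1000000 in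
/-- A quotient of a polynomial ring over a dvr is smooth at the special point of a point with
values in an unramified dvr, if it is smooth at the generic point and the Jacobian module is saturated. -/
theorem isSmoothAt_quotient_special [IsDomain R] [IsDiscreteValuationRing R]
    (I : Ideal (MvPolynomial σ R)) (ψ : MvPolynomial σ R →+* Λ) (hIψ : I ≤ RingHom.ker ψ)
    (Pq : Ideal (MvPolynomial σ R ⧸ I)) [Pq.IsPrime] (hPq : Pq.comap (Ideal.Quotient.mk I) = RingHom.ker ψ)
    (hsm : Algebra.IsSmoothAt R Pq)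
    (Pp : Ideal (MvPolynomial σ R ⧸ I)) [Pp.IsPrime]
    (hPp : Pp.comap (Ideal.Quotient.mk I) = (IsLocalRing.maximalIdeal Λ).comap ψ)
    (hsat : ∀ (ϖ : Λ) (y : σ → Λ), ϖ ≠ 0 → ϖ • y ∈ Submodule.span Λ (jac ψ '' (I : Set _)) →
      y ∈ Submodule.span Λ (jac ψ '' (I : Set _))) :
    Algebra.IsSmoothAt R Pp := by
  classical
  set q := RingHom.ker ψ with hq
  set p := (IsLocalRing.maximalIdeal Λ).comap ψ with hp
  haveI : q.IsPrime := RingHom.ker_isPrime ψ
  haveI : p.IsPrime := Ideal.IsPrime.comap _
  have hqp : q ≤ p := fun x hx => by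
    show ψ x ∈ IsLocalRing.maximalIdeal Λ
    rw [RingHom.mem_ker.mp hx]; exact Ideal.zero_mem _
  obtain ⟨ι, _, G, hG, hli, hspan⟩ := exists_family ψ I hsat
  let L := FractionRing Λ
  let fq : q.ResidueField →+* L := Ideal.ResidueField.lift q ((algebraMap Λ L).comp ψ)
    (fun x hx => by simp [RingHom.mem_ker, RingHom.mem_ker.mp hx])
    (fun x hx => isUnit_iff_ne_zero.mpr fun h => hx
      (RingHom.mem_ker.mpr ((IsFractionRing.injective Λ L) (by simpa using h))))
  have hfq : fq.comp (algebraMap _ q.ResidueField) = (algebraMap Λ L).comp ψ :=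
    RingHom.ext fun x => by
      simp only [fq, Ideal.ResidueField.lift, RingHom.comp_apply]
      rw [IsScalarTower.algebraMap_apply _ (MvPolynomial σ R ⧸ q) q.ResidueField, IsLocalization.lift_eq]
      rfl
  have hIG : I.map (algebraMap (MvPolynomial σ R) (Localization.AtPrime q)) ≤
      (Ideal.span (Set.range G)).map (algebraMap (MvPolynomial σ R) (Localization.AtPrime q)) := by
    refine map_le_span_at I q hIψ Pq hPq.symm hsm fq G hG fun g hg => ?_
    rw [hfq]
    obtain ⟨c, hc⟩ := (Submodule.mem_span_range_iff_exists_fun Λ).mp (hspan g hg)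
    refine (Submodule.mem_span_range_iff_exists_fun L).mpr ⟨fun l => algebraMap Λ L (c l), ?_⟩
    funext i
    simpa [jac, Finset.sum_apply, map_sum, Algebra.smul_def] using congrArg (algebraMap Λ L) (congrFun hc i)
  let k := IsLocalRing.ResidueField Λ
  let fp : p.ResidueField →+* k := Ideal.ResidueField.lift p ((IsLocalRing.residue Λ).comp ψ)
    (fun x hx => by
      rw [RingHom.mem_ker, RingHom.comp_apply, IsLocalRing.residue_eq_zero_iff]; exact hx)
    (fun x hx => isUnit_iff_ne_zero.mpr fun h => hx ((IsLocalRing.residue_eq_zero_iff _).mp h))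
  have hfp : fp.comp (algebraMap _ p.ResidueField) = (IsLocalRing.residue Λ).comp ψ :=
    RingHom.ext fun x => by
      simp only [fp, Ideal.ResidueField.lift, RingHom.comp_apply]
      rw [IsScalarTower.algebraMap_apply _ (MvPolynomial σ R ⧸ p) p.ResidueField, IsLocalization.lift_eq]
      rfl
  have hliG : LinearIndependent p.ResidueField
      (fun l => jac (algebraMap _ p.ResidueField) (G l)) := by
    refine linearIndependent_of_map fp _ ?_
    rw [← hfp] at hli
    exact hli
  have hGinj : Function.Injective G := fun a b h => hliG.injective (congrArg _ h)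
  let s : Finset (MvPolynomial σ R) := Finset.univ.image G
  have hs : (↑s : Set (MvPolynomial σ R)) = Set.range G := by simp [s]
  haveI : Algebra.IsSmoothAt R p := Algebra.FormallySmooth.comp R (MvPolynomial σ R) _
  have hliD : LinearIndependent p.ResidueField
      (fun g : ↥s => (1 : p.ResidueField) ⊗ₜ[MvPolynomial σ R] D R _ (g : MvPolynomial σ R)) := by
    rw [linearIndependent_tmul_D_iff]
    let e : ι ≃ ↥s := Equiv.ofBijective (fun l => ⟨G l, by simp [s]⟩)
      ⟨fun a b h => hGinj (congrArg Subtype.val h), fun g => by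
        obtain ⟨l, -, hl⟩ := Finset.mem_image.mp g.2
        exact ⟨l, Subtype.ext hl⟩⟩
    exact (linearIndependent_equiv e).mp hliG
  let J := Ideal.span (Set.range G)
  have hJI : J ≤ I := Ideal.span_le.mpr (by rintro _ ⟨l, rfl⟩; exact hG l)
  have hJp : J ≤ p := hJI.trans (hIψ.trans hqp)
  let Pt : Ideal (MvPolynomial σ R ⧸ J) := p.map (Ideal.Quotient.mk J)
  haveI : Pt.IsPrime := Ideal.map_isPrime_of_surjective Ideal.Quotient.mk_surjective (by simpa using hJp)
  have hPt : p = Pt.comap (Ideal.Quotient.mk J) := by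
    rw [Ideal.comap_map_of_surjective _ Ideal.Quotient.mk_surjective, ← RingHom.ker_eq_comap_bot,
      Ideal.mk_ker, sup_eq_left.mpr hJp]
  haveI : Algebra.IsSmoothAt R Pt := (Groth.Agent.SmoothLib.isSmoothAt_quotient_iff J
    (IsNoetherian.noetherian J) Pt p hPt).mpr ⟨s, by rw [hs]; exact Ideal.subset_span,
      by rw [hs, Ideal.map_span], hliD⟩
  haveI : Algebra.FinitePresentation R (MvPolynomial σ R ⧸ J) :=
    Algebra.FinitePresentation.quotient (IsNoetherian.noetherian J)
  obtain ⟨h₀, hh₀, hsm₀⟩ := Algebra.IsSmoothAt.exists_notMem_smooth (R := R) Pt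
  haveI : IsRegularRing (Localization.Away h₀) := CAlgH.isRegularRing_of_smooth R _
  let Q' := Pt.map (algebraMap _ (Localization.Away h₀))
  have hd : Disjoint (Submonoid.powers h₀ : Set (MvPolynomial σ R ⧸ J)) (Pt : Set _) :=
    (Ideal.disjoint_powers_iff_notMem_of_isPrime ..).mpr hh₀
  haveI : Q'.IsPrime := IsLocalization.isPrime_of_isPrime_disjoint (Submonoid.powers h₀) _ Pt inferInstance hd
  let S := Localization.AtPrime Q'
  haveI : IsRegularLocalRing S := IsRegularRing.isRegularLocalRing_localization Q'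
  haveI : IsDomain S := CAlgH3.isDomain_of_isRegularLocalRing S
  haveI := IsLocalization.isLocalization_isLocalization_atPrime_isLocalization
    (Submonoid.powers h₀) S Q'
  have hc : Q'.comap (algebraMap _ (Localization.Away h₀)) = Pt :=
    IsLocalization.comap_map_of_isPrime_disjoint (Submonoid.powers h₀) _ inferInstance hd
  haveI : IsLocalization.AtPrime S Pt := by
    unfold IsLocalization.AtPrime; simp only [← hc]; assumption
  have hIJ : ∀ x ∈ I, ∃ c ∉ p, c * x ∈ J := by
    intro x hx
    obtain ⟨⟨⟨y, hy⟩, u⟩, hyu⟩ := (IsLocalization.mem_map_algebraMap_iff q.primeCompl _).mp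
      (hIG (Ideal.mem_map_of_mem _ hx))
    rw [← map_mul] at hyu
    obtain ⟨v, hv⟩ := (IsLocalization.eq_iff_exists q.primeCompl _).mp hyu
    have htx : (v.1 * u.1) * x ∈ J := by
      rw [mul_assoc, mul_comm u.1 x, hv]
      exact Ideal.mul_mem_left _ _ hy
    have h0 : algebraMap (MvPolynomial σ R ⧸ J) S (Ideal.Quotient.mk J (v.1 * u.1)) *
        algebraMap (MvPolynomial σ R ⧸ J) S (Ideal.Quotient.mk J x) = 0 := by
      rw [← map_mul, ← map_mul, Ideal.Quotient.eq_zero_iff_mem.mpr htx, map_zero]
    have hne : ∀ z, algebraMap (MvPolynomial σ R ⧸ J) S (Ideal.Quotient.mk J z) = 0 →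
        ∃ c ∉ p, c * z ∈ J := by
      intro z hz
      obtain ⟨⟨c', hc'⟩, hcz⟩ := (IsLocalization.map_eq_zero_iff Pt.primeCompl S _).mp hz
      obtain ⟨c, rfl⟩ := Ideal.Quotient.mk_surjective c'
      exact ⟨c, fun h => hc' (Ideal.mem_map_of_mem _ h), Ideal.Quotient.eq_zero_iff_mem.mp (by
        rw [map_mul]; exact hcz)⟩
    rcases mul_eq_zero.mp h0 with h | h
    · exfalso
      obtain ⟨c, hc, hcz⟩ := hne _ h
      rcases (inferInstance : q.IsPrime).mem_or_mem ((hJI.trans hIψ) hcz) with h' | h'
      · exact hc (hqp h')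
      · rcases (inferInstance : q.IsPrime).mem_or_mem h' with h'' | h''
        · exact v.2 h''
        · exact u.2 h''
    · exact hne x h
  refine (Groth.Agent.SmoothLib.isSmoothAt_quotient_iff I (IsNoetherian.noetherian I) Pp p hPp.symm).mpr
    ⟨s, by rw [hs]; exact (Ideal.subset_span).trans hJI, ?_, hliD⟩
  rw [hs, ← Ideal.map_span]
  refine le_antisymm (Ideal.map_le_iff_le_comap.mpr fun x hx => ?_) (Ideal.map_mono hJI)
  obtain ⟨c, hc, hcx⟩ := hIJ x hx
  have h1 := Ideal.mem_map_of_mem (algebraMap (MvPolynomial σ R) (Localization.AtPrime p)) hcx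
  rw [map_mul] at h1
  exact (Ideal.unit_mul_mem_iff_mem _
    (IsLocalization.map_units (Localization.AtPrime p) (⟨c, hc⟩ : p.primeCompl))).mp h1

end Groth.Agent.CAlgH.SmoothSpecial
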