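import Mathlib.RingTheory.Ideal.KrullsHeightTheorem

/-! Connecting two systems of parameters of a Noetherian local ring by changing one entry at a
time. -/

universe u

open IsLocalRing

namespace Groth.Agent.CAlgH.SopChain

variable {A : Type u} [CommRing A] [IsLocalRing A]

/-- `u` generates, together with `J`, an ideal with radical the maximal ideal. -/
def IsSop (J : Ideal A) {d : ℕ} (u : Fin d → A) : Prop :=
  (∀ i, u i ∈ maximalIdeal A) ∧ maximalIdeal A ≤ (J ⊔ Ideal.span (Set.range u)).radical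

/-- `a` and `b` differ in at most one entry. -/
def Step (J : Ideal A) {d : ℕ} (a b : Fin d → A) : Prop :=
  IsSop J a ∧ IsSop J b ∧ ∃ i : Fin d, ∀ i', i' ≠ i → a i' = b i'

variable [IsNoetherianRing A]

theorem minimalPrimes_not_le {I : Ideal A} (hI : ¬ maximalIdeal A ≤ I.radical) :
    ∀ P ∈ I.minimalPrimes, ¬ maximalIdeal A ≤ P := by
  intro P hP h
  apply hI
  have hPm : P = maximalIdeal A := le_antisymm (le_maximalIdeal hP.isPrime.ne_top) h
  rw [Ideal.radical_eq_sInf]
  refine le_sInf fun Q ⟨hIQ, hQ⟩ => ?_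
  exact h.trans (hP.2 ⟨hQ, hIQ⟩ ((le_maximalIdeal hQ.ne_top).trans hPm.ge))

omit [IsNoetherianRing A] in
theorem span_range_cons {d : ℕ} (a : A) (x : Fin d → A) :
    Ideal.span (Set.range (Fin.cons a x)) = Ideal.span {a} ⊔ Ideal.span (Set.range x) := by
  rw [Fin.range_cons, Ideal.span_insert]

omit [IsNoetherianRing A] in
theorem isSop_cons {J : Ideal A} {d : ℕ} (a : A) (x : Fin d → A) :
    IsSop J (Fin.cons a x) ↔ a ∈ maximalIdeal A ∧ IsSop (J ⊔ Ideal.span {a}) x := by
  simp only [IsSop, span_range_cons, ← sup_assoc, Fin.forall_fin_succ, Fin.cons_zero, Fin.cons_succ]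
  tauto

/-- Replacing the first entry by an element avoiding all minimal primes of the others. -/
theorem maximalIdeal_le_radical_of_avoid {I : Ideal A} {a w : A}
    (hw : w ∈ maximalIdeal A) (h : maximalIdeal A ≤ (I ⊔ Ideal.span {a}).radical)
    (ha : a ∈ maximalIdeal A) (hI : I ≤ maximalIdeal A)
    (hav : ∀ P ∈ I.minimalPrimes, w ∉ P) :
    maximalIdeal A ≤ (I ⊔ Ideal.span {w}).radical := by
  rw [Ideal.radical_eq_sInf]
  refine le_sInf fun Q ⟨hQ', hQ⟩ => ?_
  haveI := hQ
  have hQm : Q ≤ maximalIdeal A := le_maximalIdeal hQ.ne_top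
  obtain ⟨P, hP, hPQ⟩ := Ideal.exists_minimalPrimes_le ((le_sup_left).trans hQ')
  have hwQ : w ∈ Q := hQ' (Ideal.mem_sup_right (Ideal.mem_span_singleton_self w))
  have hlt : P < Q := lt_of_le_of_ne hPQ fun e => hav P hP (e ▸ hwQ)
  by_contra hne
  have hQlt : Q < maximalIdeal A := lt_of_le_not_ge hQm hne
  have hmin : maximalIdeal A ∈ (I ⊔ Ideal.span {a}).minimalPrimes := by
    refine ⟨⟨inferInstance, sup_le hI ((Ideal.span_singleton_le_iff_mem _).2 ha)⟩, ?_⟩
    intro R' hR' _
    exact h.trans ((hR'.1.radical_le_iff).2 hR'.2)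
  have h1 := Ideal.map_height_le_one_of_mem_minimalPrimes hmin
  let f := Ideal.Quotient.mk I
  have hf : Function.Surjective f := Ideal.Quotient.mk_surjective
  have kP : RingHom.ker f ≤ P := I.mk_ker.trans_le hP.1.2
  have kQ : RingHom.ker f ≤ Q := kP.trans hPQ
  have km : RingHom.ker f ≤ maximalIdeal A := kQ.trans hQm
  haveI := hP.isPrime
  haveI : (P.map f).IsPrime := Ideal.map_isPrime_of_surjective hf kP
  haveI : (Q.map f).IsPrime := Ideal.map_isPrime_of_surjective hf kQ
  haveI : ((maximalIdeal A).map f).IsPrime := Ideal.map_isPrime_of_surjective hf km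
  have lt_map : ∀ {X Y : Ideal A}, RingHom.ker f ≤ X → RingHom.ker f ≤ Y → X < Y →
      X.map f < Y.map f := by
    intro X Y kX kY hXY
    refine (Ideal.map_mono hXY.le).lt_of_not_ge fun e => hXY.not_ge ?_
    have := Ideal.comap_mono (f := f) e
    rwa [Ideal.comap_map_of_surjective f hf, Ideal.comap_map_of_surjective f hf,
      ← RingHom.ker_eq_comap_bot, sup_eq_left.2 kX, sup_eq_left.2 kY] at this
  haveI : ((maximalIdeal A).map f).FiniteHeight :=
    Ideal.finiteHeight_of_isNoetherianRing _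
  have h2 := Ideal.height_strict_mono_of_isPrime_of_isPrime (lt_map kQ km hQlt)
  have h3 := Ideal.height_strict_mono_of_isPrime_of_isPrime (lt_map kP kQ hlt)
  have : (Q.map f).height < 1 := h2.trans_le h1
  rw [Order.lt_one_iff] at this
  exact not_lt_bot (this ▸ h3)

/-- Two systems of parameters are connected. -/
theorem reflTransGen (d : ℕ) : ∀ (J : Ideal A), J ≤ maximalIdeal A →
    (∀ e < d, ∀ x : Fin e → A, ¬ IsSop J x) →
    ∀ u v : Fin d → A, IsSop J u → IsSop J v → Relation.ReflTransGen (Step J) u v := by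
  induction d with
  | zero =>
    intro J _ _ u v _ _
    rw [Subsingleton.elim u v]
  | succ d ih =>
    intro J hJ hdim u v hu hv
    obtain ⟨u0, u', rfl⟩ : ∃ a x, u = Fin.cons a x := ⟨_, _, (Fin.cons_self_tail u).symm⟩
    obtain ⟨v0, v', rfl⟩ : ∃ a x, v = Fin.cons a x := ⟨_, _, (Fin.cons_self_tail v).symm⟩
    obtain ⟨hu0, hu1⟩ := (isSop_cons _ _).1 hu
    obtain ⟨hv0, hv1⟩ := (isSop_cons _ _).1 hv
    have hIu : ¬ maximalIdeal A ≤ (J ⊔ Ideal.span (Set.range u')).radical := fun h =>
      hdim d (Nat.lt_succ_self d) u' ⟨hu1.1, h⟩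
    have hIv : ¬ maximalIdeal A ≤ (J ⊔ Ideal.span (Set.range v')).radical := fun h =>
      hdim d (Nat.lt_succ_self d) v' ⟨hv1.1, h⟩
    have hfu := (J ⊔ Ideal.span (Set.range u')).finite_minimalPrimes_of_isNoetherianRing A
    have hfv := (J ⊔ Ideal.span (Set.range v')).finite_minimalPrimes_of_isNoetherianRing A
    have hnot : ¬ ((maximalIdeal A : Set A) ⊆ ⋃ P ∈ (hfu.toFinset ∪ hfv.toFinset : Set (Ideal A)),
        (P : Set A)) := by
      classical
      rw [← Finset.coe_union, Ideal.subset_union_prime ⊥ ⊥ (fun P hP _ _ => ?_)]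
      · rintro ⟨P, hP, hle⟩
        simp only [Finset.mem_union, Set.Finite.mem_toFinset] at hP
        rcases hP with hP | hP
        · exact minimalPrimes_not_le hIu P hP hle
        · exact minimalPrimes_not_le hIv P hP hle
      · simp only [Finset.mem_union, Set.Finite.mem_toFinset] at hP
        rcases hP with hP | hP <;> exact hP.isPrime
    obtain ⟨w, hw, hwn⟩ := Set.not_subset.1 hnot
    simp only [Set.mem_iUnion, SetLike.mem_coe, Set.mem_union, Finset.mem_coe,
      Set.Finite.mem_toFinset, not_exists] at hwn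
    have su : IsSop J (Fin.cons w u') := by
      refine (isSop_cons _ _).2 ⟨hw, hu1.1, ?_⟩
      rw [sup_right_comm]
      refine maximalIdeal_le_radical_of_avoid hw ?_ hu0 ?_ (fun P hP => hwn P (Or.inl hP))
      · rw [sup_right_comm]; exact hu1.2
      · exact sup_le hJ (Ideal.span_le.2 (Set.range_subset_iff.2 hu1.1))
    have sv : IsSop J (Fin.cons w v') := by
      refine (isSop_cons _ _).2 ⟨hw, hv1.1, ?_⟩
      rw [sup_right_comm]
      refine maximalIdeal_le_radical_of_avoid hw ?_ hv0 ?_ (fun P hP => hwn P (Or.inr hP))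
      · rw [sup_right_comm]; exact hv1.2
      · exact sup_le hJ (Ideal.span_le.2 (Set.range_subset_iff.2 hv1.1))
    have mid := ih (J ⊔ Ideal.span {w}) (sup_le hJ ((Ideal.span_singleton_le_iff_mem _).2 hw))
      (fun e he x hx => hdim (e + 1) (Nat.succ_lt_succ he) (Fin.cons w x)
        ((isSop_cons _ _).2 ⟨hw, hx⟩))
      u' v' ((isSop_cons _ _).1 su).2 ((isSop_cons _ _).1 sv).2
    have change : ∀ (a b : A) (x : Fin d → A), ∀ i' : Fin (d + 1), i' ≠ 0 →
        (Fin.cons a x : Fin (d + 1) → A) i' = (Fin.cons b x : Fin (d + 1) → A) i' := by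
      intro a b x i' h
      obtain ⟨j, rfl⟩ := Fin.exists_succ_eq.2 h
      simp
    refine (Relation.ReflTransGen.single ⟨hu, su, 0, change _ _ _⟩).trans (Relation.ReflTransGen.trans
      ?_ (Relation.ReflTransGen.single ⟨sv, hv, 0, change _ _ _⟩))
    refine Relation.ReflTransGen.lift (fun x : Fin d → A => (Fin.cons w x : Fin (d + 1) → A)) (fun a b hab => ?_) _ _ mid
    obtain ⟨ha, hb, i, hi⟩ := hab
    refine ⟨(isSop_cons _ _).2 ⟨hw, ha⟩, (isSop_cons _ _).2 ⟨hw, hb⟩, i.succ, fun i' h => ?_⟩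
    induction i' using Fin.cases with
    | zero => simp
    | succ j => simpa using hi j (fun e => h (e ▸ rfl))

/-- Passing from the relation to a finite sequence. -/
theorem exists_seq {d : ℕ} {u v : Fin d → A} {J : Ideal A} (hu : IsSop J u)
    (h : Relation.ReflTransGen (Step J) u v) :
    ∃ (m : ℕ) (w : Fin (m + 1) → Fin d → A), w 0 = u ∧ w (Fin.last m) = v ∧
      (∀ k, IsSop J (w k)) ∧
      (∀ k : Fin m, ∃ i : Fin d, ∀ i', i' ≠ i → w k.castSucc i' = w k.succ i') := by
  induction h with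
  | refl => exact ⟨0, fun _ => u, rfl, rfl, fun _ => hu, fun k => Fin.elim0 k⟩
  | @tail b c _ hbc ih =>
    obtain ⟨m, w, h0, hl, hs, hstep⟩ := ih
    refine ⟨m + 1, Fin.snoc w c, ?_, by simp, ?_, ?_⟩
    · rw [← Fin.castSucc_zero, Fin.snoc_castSucc, h0]
    · intro k
      induction k using Fin.lastCases with
      | last => simpa using hbc.2.1
      | cast j => simpa using hs j
    · intro k
      induction k using Fin.lastCases with
      | last => simpa [hl] using hbc.2.2
      | cast j =>
        rw [Fin.succ_castSucc, Fin.snoc_castSucc, Fin.snoc_castSucc]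
        exact hstep j

/-- In a local ring of dimension `d` no fewer than `d` elements form a system of parameters. -/
theorem not_isSop_bot_of_lt {d e : ℕ} (hd : ringKrullDim A = d) (he : e < d) (x : Fin e → A) :
    ¬ IsSop (⊥ : Ideal A) x := by
  rintro ⟨hx, hx'⟩
  rw [bot_sup_eq] at hx'
  have hmin : maximalIdeal A ∈ (Ideal.span (Set.range x)).minimalPrimes := by
    refine ⟨⟨inferInstance, Ideal.span_le.2 (Set.range_subset_iff.2 hx)⟩, ?_⟩
    intro R' hR' _
    exact hx'.trans ((hR'.1.radical_le_iff).2 hR'.2)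
  have h1 := Ideal.height_le_card_of_mem_minimalPrimes_span (Set.finite_range x) hmin
  have h2 : (Set.range x).ncard ≤ e := by
    rw [← Set.image_univ]
    exact (Set.ncard_image_le Set.finite_univ).trans (by simp)
  have h3 := (maximalIdeal_height_eq_ringKrullDim (R := A)).trans hd
  have h4 : (maximalIdeal A).height = (d : ℕ∞) := by exact_mod_cast h3
  rw [h4] at h1
  have : d ≤ (Set.range x).ncard := by exact_mod_cast h1
  omega

end Groth.Agent.CAlgH.SopChain
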