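import Groth.Agent.CAlgH.Colimit
import Mathlib.RingTheory.Smooth.Basic
import Mathlib.RingTheory.Etale.Basic
import Mathlib.RingTheory.Kaehler.TensorProduct
import Mathlib.RingTheory.TensorProduct.MvPolynomial
import Mathlib.RingTheory.IntegralClosure.IsIntegralClosure.Basic
import Mathlib.RingTheory.FinitePresentation
import Mathlib.RingTheory.Unramified.Basic

/-!
# Properties of `A ⊗[B] C` descend to a finite stage of a colimit `A = colim G i`
-/

universe u v
open TensorProduct Algebra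

namespace Groth.Agent.CAlgH

variable {B : Type u} [CommRing B] {ι : Type v} {G : ι → Type u} [∀ i, CommRing (G i)]
  [∀ i, Algebra B (G i)] {A : Type u} [CommRing A] [Algebra B A] {g : ∀ i, G i →ₐ[B] A}
  (C : Type u) [CommRing C] [Algebra B C]

/-- The induced map on base changes of `C`. -/
noncomputable abbrev bcMap {N N' : Type u} [CommRing N] [CommRing N'] [Algebra B N] [Algebra B N']
    (h : N →ₐ[B] N') : N ⊗[B] C →ₐ[B] N' ⊗[B] C :=
  Algebra.TensorProduct.map h (AlgHom.id B C)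

theorem bcMap_eq_rTensor {N N' : Type u} [CommRing N] [CommRing N'] [Algebra B N] [Algebra B N']
    (h : N →ₐ[B] N') (y : N ⊗[B] C) : bcMap C h y = h.toLinearMap.rTensor C y := by
  induction y using TensorProduct.induction_on with
  | zero => simp
  | tmul a b => simp
  | add a b ha hb => simp [map_add, ha, hb]

theorem bcMap_comp_apply {i j k : ι} (h' : CompatHom g j k) (h : CompatHom g i j) (y : G i ⊗[B] C) :
    bcMap C (h'.comp h).1 y = bcMap C h'.1 (bcMap C h.1 y) := by
  induction y using TensorProduct.induction_on with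
  | zero => simp
  | tmul a b => simp [CompatHom.comp]
  | add a b ha hb => simp [map_add, ha, hb]

theorem bcMap_compat_apply {i j : ι} (h : CompatHom g i j) (y : G i ⊗[B] C) :
    bcMap C (g j) (bcMap C h.1 y) = bcMap C (g i) y := by
  induction y using TensorProduct.induction_on with
  | zero => simp
  | tmul a b => simp [h.apply]
  | add a b ha hb => simp [map_add, ha, hb]

theorem ColimSys.bc_kill_finite (hs : ColimSys g) {i : ι} {κ : Type*} [Finite κ] (y : κ → G i ⊗[B] C)
    (hy : ∀ k, bcMap C (g i) (y k) = 0) : ∃ j, ∃ h : CompatHom g i j, ∀ k, bcMap C h.1 (y k) = 0 := by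
  classical
  cases nonempty_fintype κ
  suffices H : ∀ s : Finset κ, ∃ j, ∃ h : CompatHom g i j, ∀ k ∈ s, bcMap C h.1 (y k) = 0 by
    obtain ⟨j, h, hh⟩ := H Finset.univ
    exact ⟨j, h, fun k => hh k (Finset.mem_univ k)⟩
  intro s
  induction s using Finset.induction with
  | empty => exact ⟨i, .refl g i, by simp⟩
  | insert a s _ ih =>
    obtain ⟨j, h, hh⟩ := ih
    obtain ⟨j', h', hh'⟩ := hs.rTensor_kill C (bcMap C h.1 (y a)) (by
      rw [← bcMap_eq_rTensor, bcMap_compat_apply, hy])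
    refine ⟨j', h'.comp h, fun k hk => ?_⟩
    rw [bcMap_comp_apply]
    rcases Finset.mem_insert.mp hk with rfl | hk
    · rw [bcMap_eq_rTensor]; exact hh'
    · rw [hh k hk, map_zero]

theorem ColimSys.bc_lift_finite (hs : ColimSys g) {κ : Type*} [Finite κ] (z : κ → A ⊗[B] C) (i : ι) :
    ∃ j, Nonempty (CompatHom g i j) ∧ ∃ y : κ → G j ⊗[B] C, ∀ k, bcMap C (g j) (y k) = z k := by
  classical
  cases nonempty_fintype κ
  suffices H : ∀ s : Finset κ, ∃ j, Nonempty (CompatHom g i j) ∧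
      ∃ y : κ → G j ⊗[B] C, ∀ k ∈ s, bcMap C (g j) (y k) = z k by
    obtain ⟨j, hij, y, hy⟩ := H Finset.univ
    exact ⟨j, hij, y, fun k => hy k (Finset.mem_univ k)⟩
  intro s
  induction s using Finset.induction with
  | empty => exact ⟨i, ⟨.refl g i⟩, 0, by simp⟩
  | insert b s _ ih =>
    obtain ⟨j, ⟨h⟩, y, hy⟩ := ih
    obtain ⟨j', w, hw⟩ := hs.rTensor_surj C (z b)
    obtain ⟨k, ⟨hj⟩, ⟨hj'⟩⟩ := hs.dir j j'
    refine ⟨k, ⟨hj.comp h⟩, fun c => if c = b then bcMap C hj'.1 w else bcMap C hj.1 (y c), fun c hc => ?_⟩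
    by_cases hcb : c = b
    · subst hcb
      beta_reduce
      rw [if_pos rfl, bcMap_compat_apply, bcMap_eq_rTensor, hw]
    · beta_reduce
      rw [if_neg hcb, bcMap_compat_apply, hy c ((Finset.mem_insert.mp hc).resolve_left hcb)]

theorem bcMap_algebraMap {N N' : Type u} [CommRing N] [CommRing N'] [Algebra B N] [Algebra B N']
    (h : N →ₐ[B] N') (a : N) :
    bcMap C h (algebraMap N (N ⊗[B] C) a) = algebraMap N' (N' ⊗[B] C) (h a) := by
  simp [Algebra.TensorProduct.algebraMap_apply]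

theorem ColimSys.surjective_spreads (hs : ColimSys g) [Algebra.FiniteType B C] (i : ι)
    (h : Function.Surjective (algebraMap A (A ⊗[B] C))) :
    ∃ j, Nonempty (CompatHom g i j) ∧ Function.Surjective (algebraMap (G j) (G j ⊗[B] C)) := by
  classical
  obtain ⟨s, hsC⟩ := (Algebra.FiniteType.out : (⊤ : Subalgebra B C).FG)
  choose a ha using fun c : s => h (1 ⊗ₜ[B] (c : C))
  obtain ⟨l, x, hx⟩ := hs.lift_finite a
  obtain ⟨m, ⟨hi⟩, ⟨hl⟩⟩ := hs.dir i l
  obtain ⟨j, hm, hh⟩ := hs.bc_kill_finite C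
    (fun c : s => algebraMap (G m) _ (hl.1 (x c)) - 1 ⊗ₜ[B] (c : C)) (fun c => by
      rw [map_sub, bcMap_algebraMap, hl.apply, hx, ha]; simp)
  refine ⟨j, ⟨hm.comp hi⟩, ?_⟩
  let K : Subalgebra B (G j ⊗[B] C) := (IsScalarTower.toAlgHom B (G j) (G j ⊗[B] C)).range
  have hC : ∀ c : C, (1 : G j) ⊗ₜ[B] c ∈ K := by
    have h1 : Algebra.adjoin B (s : Set C) ≤
        K.comap (Algebra.TensorProduct.includeRight : C →ₐ[B] G j ⊗[B] C) := by
      rw [Algebra.adjoin_le_iff]
      intro c hc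
      refine ⟨hm.1 (hl.1 (x ⟨c, hc⟩)), ?_⟩
      have h2 := hh ⟨c, hc⟩
      rw [map_sub, bcMap_algebraMap, sub_eq_zero] at h2
      show algebraMap (G j) _ _ = (1 : G j) ⊗ₜ[B] c
      rw [h2]
      simp
    intro c
    exact h1 (show c ∈ Algebra.adjoin B (s : Set C) from hsC ▸ Algebra.mem_top)
  intro z
  induction z using TensorProduct.induction_on with
  | zero => exact ⟨0, map_zero _⟩
  | tmul a c =>
    obtain ⟨b, hb⟩ := hC c
    refine ⟨a * b, ?_⟩
    change algebraMap (G j) (G j ⊗[B] C) b = 1 ⊗ₜ[B] c at hb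
    rw [map_mul, hb]
    simp [Algebra.TensorProduct.algebraMap_apply, Algebra.TensorProduct.tmul_mul_tmul]
  | add p q hp hq =>
    obtain ⟨a, rfl⟩ := hp; obtain ⟨b, rfl⟩ := hq
    exact ⟨a + b, map_add _ _ _⟩

theorem ColimSys.finite_spreads (hs : ColimSys g) [Algebra.FiniteType B C] (i : ι)
    (h : Module.Finite A (A ⊗[B] C)) :
    ∃ j, Nonempty (CompatHom g i j) ∧ Module.Finite (G j) (G j ⊗[B] C) := by
  classical
  obtain ⟨s, hsC⟩ := (Algebra.FiniteType.out : (⊤ : Subalgebra B C).FG)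
  have : Algebra.IsIntegral A (A ⊗[B] C) := Algebra.IsIntegral.of_finite A _
  choose p hp hp0 using fun c : s => Algebra.IsIntegral.isIntegral (R := A) ((1 : A) ⊗ₜ[B] (c : C))
  obtain ⟨l, x, hx⟩ := hs.lift_finite (fun t : Σ c : s, Fin (p c).natDegree => (p t.1).coeff t.2)
  obtain ⟨m, ⟨hi⟩, ⟨hl⟩⟩ := hs.dir i l
  let q : s → Polynomial (G m) := fun c =>
    Polynomial.X ^ (p c).natDegree + ∑ k : Fin (p c).natDegree, Polynomial.C (hl.1 (x ⟨c, k⟩)) * Polynomial.X ^ (k : ℕ)
  have hq : ∀ c, (q c).map (g m : G m →+* A) = p c := fun c => by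
    conv_rhs => rw [(hp c).as_sum, ← Fin.sum_univ_eq_sum_range]
    simp [q, Polynomial.map_add, Polynomial.map_sum, hl.apply, hx]
  have hqm : ∀ c, (q c).Monic := fun c => Polynomial.monic_X_pow_add (Polynomial.degree_sum_fin_lt _)
  have hev : ∀ c : s, bcMap C (g m) (Polynomial.eval₂ (algebraMap (G m) (G m ⊗[B] C)) (1 ⊗ₜ[B] (c : C)) (q c)) = 0 := by
    intro c
    rw [show bcMap C (g m) (Polynomial.eval₂ (algebraMap (G m) (G m ⊗[B] C)) (1 ⊗ₜ[B] (c : C)) (q c)) =
      (bcMap C (g m)).toRingHom (Polynomial.eval₂ (algebraMap (G m) (G m ⊗[B] C)) (1 ⊗ₜ[B] (c : C)) (q c)) from rfl,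
      Polynomial.hom_eval₂]
    have : (bcMap C (g m)).toRingHom.comp (algebraMap (G m) (G m ⊗[B] C)) =
        (algebraMap A (A ⊗[B] C)).comp (g m : G m →+* A) := RingHom.ext fun a => bcMap_algebraMap C (g m) a
    rw [this, ← Polynomial.eval₂_map, hq]
    simpa using hp0 c
  obtain ⟨j, hm, hh⟩ := hs.bc_kill_finite C _ hev
  refine ⟨j, ⟨hm.comp hi⟩, ?_⟩
  have hint : Algebra.IsIntegral (G j) (G j ⊗[B] C) := by
    have h1 : Algebra.adjoin B (s : Set C) ≤
        ((integralClosure (G j) (G j ⊗[B] C)).restrictScalars B).comap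
          (Algebra.TensorProduct.includeRight : C →ₐ[B] G j ⊗[B] C) := by
      rw [Algebra.adjoin_le_iff]
      intro c hc
      show IsIntegral (G j) ((1 : G j) ⊗ₜ[B] c)
      refine ⟨(q ⟨c, hc⟩).map (hm.1 : G m →+* G j), (hqm _).map _, ?_⟩
      have h2 := hh ⟨c, hc⟩
      rw [show ∀ z, bcMap C hm.1 z = (bcMap C hm.1).toRingHom z from fun _ => rfl, Polynomial.hom_eval₂] at h2
      rw [Polynomial.eval₂_map]
      have : (bcMap C hm.1).toRingHom.comp (algebraMap (G m) (G m ⊗[B] C)) =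
          (algebraMap (G j) (G j ⊗[B] C)).comp (hm.1 : G m →+* G j) := RingHom.ext fun a => bcMap_algebraMap C hm.1 a
      rw [this] at h2
      simpa using h2
    refine ⟨fun z => ?_⟩
    induction z using TensorProduct.induction_on with
    | zero => exact isIntegral_zero
    | tmul a c =>
      have : a ⊗ₜ[B] c = algebraMap (G j) (G j ⊗[B] C) a * (1 ⊗ₜ[B] c) := by
        simp [Algebra.TensorProduct.algebraMap_apply]
      rw [this]
      exact isIntegral_algebraMap.mul (h1 (show c ∈ Algebra.adjoin B (s : Set C) from hsC ▸ Algebra.mem_top))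
    | add p q hp hq => exact hp.add hq
  exact Algebra.IsIntegral.finite

theorem ColimSys.bijective_spreads (hs : ColimSys g) [Algebra.FinitePresentation B C] (i : ι)
    (h : Function.Bijective (algebraMap A (A ⊗[B] C))) :
    ∃ j, Nonempty (CompatHom g i j) ∧ Function.Bijective (algebraMap (G j) (G j ⊗[B] C)) := by
  classical
  obtain ⟨m, ⟨hi⟩, hsurj⟩ := hs.surjective_spreads C i h.2
  let φ : G m →ₐ[G m] G m ⊗[B] C := Algebra.ofId _ _
  obtain ⟨t, ht⟩ := Algebra.FinitePresentation.ker_fG_of_surjective φ hsurj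
  obtain ⟨j, hm, hh⟩ := hs.kill_finite (fun z : t => (z : G m)) (fun z => by
    apply h.1
    rw [map_zero, ← bcMap_algebraMap C (g m)]
    have hz : algebraMap (G m) (G m ⊗[B] C) z = 0 := (ht.le (Submodule.subset_span z.2) :)
    rw [hz, map_zero])
  have hker : RingHom.ker φ.toRingHom ≤ RingHom.ker (hm.1 : G m →+* G j) := by
    rw [← ht, Submodule.span_le]
    exact fun z hz => hh ⟨z, hz⟩
  let s : G m ⊗[B] C →+* G j :=
    RingHom.liftOfRightInverse φ.toRingHom _ (Function.rightInverse_surjInv hsurj) ⟨(hm.1 : G m →+* G j), hker⟩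
  have hsφ : ∀ a, s (algebraMap (G m) (G m ⊗[B] C) a) = hm.1 a :=
    RingHom.liftOfRightInverse_comp_apply φ.toRingHom _ (Function.rightInverse_surjInv hsurj) ⟨(hm.1 : G m →+* G j), hker⟩
  let χ : C →ₐ[B] G j :=
    { s.comp (Algebra.TensorProduct.includeRight : C →ₐ[B] G m ⊗[B] C).toRingHom with
      commutes' := fun b => by
        show s ((1 : G m) ⊗ₜ[B] algebraMap B C b) = _
        rw [← AlgHom.commutes hm.1 b, ← hsφ, Algebra.TensorProduct.algebraMap_apply,
          Algebra.algebraMap_eq_smul_one b, Algebra.algebraMap_eq_smul_one b, Algebra.algebraMap_self,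
          RingHom.id_apply, TensorProduct.tmul_smul, TensorProduct.smul_tmul'] }
  let π : G j ⊗[B] C →ₐ[G j] G j := Algebra.TensorProduct.lift (Algebra.ofId _ _) χ (fun _ _ => Commute.all _ _)
  refine ⟨j, ⟨hm.comp hi⟩, Function.LeftInverse.injective (g := π) (fun a => AlgHom.commutes π a), ?_⟩
  intro z
  have hsj : ∀ c : C, ∃ a, algebraMap (G j) (G j ⊗[B] C) a = (1 : G j) ⊗ₜ[B] c := fun c => by
    obtain ⟨a, ha⟩ := hsurj ((1 : G m) ⊗ₜ[B] c)
    refine ⟨hm.1 a, ?_⟩
    rw [← bcMap_algebraMap, ha]; simp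
  induction z using TensorProduct.induction_on with
  | zero => exact ⟨0, map_zero _⟩
  | tmul a c =>
    obtain ⟨b, hb⟩ := hsj c
    refine ⟨a * b, ?_⟩
    rw [map_mul, hb]
    simp [Algebra.TensorProduct.algebraMap_apply, Algebra.TensorProduct.tmul_mul_tmul]
  | add p q hp hq =>
    obtain ⟨a, rfl⟩ := hp; obtain ⟨b, rfl⟩ := hq
    exact ⟨a + b, map_add _ _ _⟩

attribute [local instance] Algebra.TensorProduct.rightAlgebra in
theorem ColimSys.unramified_spreads (hs : ColimSys g) [Algebra.FiniteType B C] (i : ι)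
    (h : Algebra.FormallyUnramified A (A ⊗[B] C)) :
    ∃ j, Nonempty (CompatHom g i j) ∧ Algebra.FormallyUnramified (G j) (G j ⊗[B] C) := by
  classical
  obtain ⟨s, hsC⟩ := (Algebra.FiniteType.out : (⊤ : Subalgebra B C).FG)
  have hsub : Subsingleton (A ⊗[B] Ω[C⁄B]) :=
    (KaehlerDifferential.tensorKaehlerEquivBase B A C (A ⊗[B] C)).toEquiv.subsingleton
  suffices ∀ F : Finset C, ∃ j, Nonempty (CompatHom g i j) ∧
      ∀ c ∈ F, (1 : G j) ⊗ₜ[B] KaehlerDifferential.D B C c = 0 by
    obtain ⟨j, hij, hj⟩ := this s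
    refine ⟨j, hij, ⟨?_⟩⟩
    let S' := G j ⊗[B] C
    let D := KaehlerDifferential.D (G j) S'
    have hD : ∀ c : C, D ((1 : G j) ⊗ₜ[B] c) = 0 := by
      have h1 : ∀ c ∈ s, D ((1 : G j) ⊗ₜ[B] c) = 0 := by
        intro c hc
        have := congrArg (KaehlerDifferential.tensorKaehlerEquivBase B (G j) C S') (hj c hc)
        rw [map_zero] at this
        rw [← this]
        show _ = ((KaehlerDifferential.map B (G j) C S').restrictScalars B).liftBaseChange (G j)
          ((1 : G j) ⊗ₜ[B] KaehlerDifferential.D B C c)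
        rw [LinearMap.liftBaseChange_tmul, one_smul, LinearMap.restrictScalars_apply, KaehlerDifferential.map_D]
        rfl
      intro c
      have hc : c ∈ Algebra.adjoin B (s : Set C) := hsC ▸ Algebra.mem_top
      induction hc using Algebra.adjoin_induction with
      | mem c hc => exact h1 c hc
      | algebraMap b =>
        rw [Algebra.algebraMap_eq_smul_one b, TensorProduct.tmul_smul, TensorProduct.smul_tmul',
          ← Algebra.algebraMap_eq_smul_one b]
        exact D.map_algebraMap (algebraMap B (G j) b)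
      | add a b _ _ ha hb => rw [TensorProduct.tmul_add, map_add, ha, hb, add_zero]
      | mul a b _ _ ha hb =>
        rw [show (1 : G j) ⊗ₜ[B] (a * b) = ((1 : G j) ⊗ₜ[B] a) * ((1 : G j) ⊗ₜ[B] b) by simp,
          Derivation.leibniz, ha, hb, smul_zero, smul_zero, add_zero]
    have hD' : ∀ z : S', D z = 0 := fun z => by
      induction z using TensorProduct.induction_on with
      | zero => exact map_zero _
      | tmul a c =>
        rw [show a ⊗ₜ[B] c = a • ((1 : G j) ⊗ₜ[B] c) by rw [TensorProduct.smul_tmul', smul_eq_mul, mul_one],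
          Derivation.map_smul, hD, smul_zero]
      | add p q hp hq => rw [map_add, hp, hq, add_zero]
    rw [← not_nontrivial_iff_subsingleton]
    intro hn
    have h2 : Submodule.span S' (Set.range D) = ⊤ := KaehlerDifferential.span_range_derivation _ _
    rw [show Set.range D = {0} from Set.eq_singleton_iff_nonempty_unique_mem.mpr
      ⟨Set.range_nonempty _, by rintro _ ⟨z, rfl⟩; exact hD' z⟩, Submodule.span_zero_singleton] at h2
    exact bot_ne_top h2
  intro F
  induction F using Finset.induction with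
  | empty => exact ⟨i, ⟨.refl g i⟩, by simp⟩
  | insert c F _ ih =>
    obtain ⟨j, ⟨hij⟩, hj⟩ := ih
    obtain ⟨k, hk, hk0⟩ := hs.rTensor_kill (M := Ω[C⁄B]) ((1 : G j) ⊗ₜ[B] KaehlerDifferential.D B C c)
      (hsub.elim _ _)
    refine ⟨k, ⟨hk.comp hij⟩, fun d hd => ?_⟩
    rcases Finset.mem_insert.mp hd with rfl | hd
    · simpa using hk0
    · simpa using congrArg (hk.1.toLinearMap.rTensor Ω[C⁄B]) (hj d hd)

end Groth.Agent.CAlgH
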