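import Groth.Agent.CAlgH.Spreading

/-!
# Formal smoothness of a finitely presented algebra descends to a finite stage
-/

universe u v
open TensorProduct Algebra MvPolynomial

namespace Groth.Agent.CAlgH

variable {B : Type u} [CommRing B] {C : Type u} [CommRing C] [Algebra B C]

theorem formallySmooth_iff_witness {N : Type u} [CommRing N] {D : Type u} [CommRing D] [Algebra N D]
    {σ τ : Type} [Fintype τ] (f : MvPolynomial σ N →ₐ[N] D) (hf : Function.Surjective f)
    (r : τ → MvPolynomial σ N) (hr : Ideal.span (Set.range r) = RingHom.ker f.toRingHom) :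
    Algebra.FormallySmooth N D ↔
      ∃ (a : σ → τ → MvPolynomial σ N) (q : τ → τ × τ → MvPolynomial σ N),
        ∀ l, aeval (fun s => X s + ∑ t, a s t * r t) (r l) = ∑ p : τ × τ, q l p * (r p.1 * r p.2) := by
  classical
  let I := RingHom.ker f.toRingHom
  have hrI : ∀ t, r t ∈ I := fun t => by
    show r t ∈ RingHom.ker f.toRingHom
    rw [← hr]; exact Ideal.subset_span ⟨t, rfl⟩
  have hI2 : I ^ 2 = Ideal.span (Set.range fun p : τ × τ => r p.1 * r p.2) := by
    show RingHom.ker f.toRingHom ^ 2 = _
    rw [← hr, pow_two, Ideal.span_mul_span']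
    congr 1
    ext x
    simp [Set.mem_mul]
  constructor
  · intro h
    obtain ⟨g, hg⟩ := (Algebra.FormallySmooth.iff_split_surjection f hf).mp h
    choose p hp using fun s => Ideal.Quotient.mk_surjective (g (f (X s)))
    have hmem : ∀ s, p s - X s ∈ I := fun s => by
      show f (p s - X s) = 0
      have := AlgHom.congr_fun hg (f (X s))
      rw [AlgHom.comp_apply, ← hp] at this
      rw [map_sub, sub_eq_zero]
      exact this
    choose a ha using fun s => Ideal.mem_span_range_iff_exists_fun.mp (show p s - X s ∈ Ideal.span (Set.range r) by rw [hr]; exact hmem s)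
    have hev : ∀ x, Ideal.Quotient.mk (I ^ 2) (aeval p x) = g (f x) := fun x => by
      have e : (Ideal.Quotient.mkₐ N (I ^ 2)).comp (aeval p) = g.comp f :=
        MvPolynomial.algHom_ext fun s => by
          rw [AlgHom.comp_apply, AlgHom.comp_apply, aeval_X]; exact hp s
      exact AlgHom.congr_fun e x
    have hq : ∀ l, aeval p (r l) ∈ Ideal.span (Set.range fun q : τ × τ => r q.1 * r q.2) := fun l => by
      rw [← hI2, ← Ideal.Quotient.eq_zero_iff_mem, hev, show f (r l) = 0 from hrI l, map_zero]
    choose q hq using fun l => Ideal.mem_span_range_iff_exists_fun.mp (hq l)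
    refine ⟨a, q, fun l => ?_⟩
    rw [hq l]
    have hp' : (fun s => X s + ∑ t, a s t * r t) = p := by
      funext s
      rw [ha s]
      ring
    rw [hp']
  · rintro ⟨a, q, hl⟩
    let p : σ → MvPolynomial σ N := fun s => X s + ∑ t, a s t * r t
    let τ' : MvPolynomial σ N →ₐ[N] MvPolynomial σ N ⧸ I ^ 2 := (Ideal.Quotient.mkₐ N (I ^ 2)).comp (aeval p)
    have hτ : ∀ x ∈ RingHom.ker f, τ' x = 0 := by
      intro x hx
      have hx' : x ∈ Ideal.span (Set.range r) := hr ▸ (hx : x ∈ RingHom.ker f.toRingHom)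
      refine Submodule.span_induction ?_ (map_zero _) (fun a b _ _ ha hb => by rw [map_add, ha, hb, add_zero])
        (fun c b _ hb => by rw [smul_eq_mul, map_mul, hb, mul_zero]) hx'
      rintro _ ⟨l, rfl⟩
      apply Ideal.Quotient.eq_zero_iff_mem.mpr
      show aeval p (r l) ∈ I ^ 2
      rw [hl l, hI2]
      exact Ideal.sum_mem _ fun t _ => Ideal.mul_mem_left _ _ (Ideal.subset_span ⟨t, rfl⟩)
    let g : D →ₐ[N] MvPolynomial σ N ⧸ I ^ 2 :=
      (Ideal.Quotient.liftₐ (RingHom.ker f) τ' hτ).comp (Ideal.quotientKerAlgEquivOfSurjective hf).symm.toAlgHom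
    have hg : ∀ x, g (f x) = τ' x := fun x => by
      show Ideal.Quotient.liftₐ (RingHom.ker f) τ' hτ ((Ideal.quotientKerAlgEquivOfSurjective hf).symm (f x)) = _
      rw [show (Ideal.quotientKerAlgEquivOfSurjective hf).symm (f x) = Ideal.Quotient.mk _ x from
        (AlgEquiv.symm_apply_eq _).mpr rfl]
      rfl
    refine (Algebra.FormallySmooth.iff_split_surjection f hf).mpr ⟨g, ?_⟩
    apply AlgHom.ext
    intro d
    obtain ⟨x, rfl⟩ := hf d
    rw [AlgHom.comp_apply, hg]
    show f (aeval p x) = f x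
    have e : f.comp (aeval p) = f := MvPolynomial.algHom_ext fun s => by
      simp only [AlgHom.comp_apply, aeval_X, p, map_add, map_sum, map_mul]
      rw [Finset.sum_eq_zero (fun t _ => by rw [show f (r t) = 0 from hrI t, mul_zero]), add_zero]
    exact AlgHom.congr_fun e x

section
variable (C) {σ τ : Type}

/-- The presentation of `N ⊗[B] C` induced by a presentation of `C`. -/
noncomputable def bcPres (N : Type u) [CommRing N] [Algebra B N] (f : MvPolynomial σ B →ₐ[B] C) :
    MvPolynomial σ N →ₐ[N] N ⊗[B] C :=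
  (Algebra.TensorProduct.map (AlgHom.id N N) f).comp (MvPolynomial.algebraTensorAlgEquiv B N).symm.toAlgHom

theorem bcPres_surjective (N : Type u) [CommRing N] [Algebra B N] (f : MvPolynomial σ B →ₐ[B] C)
    (hf : Function.Surjective f) : Function.Surjective (bcPres C N f) := by
  exact (Algebra.TensorProduct.map_surjective (AlgHom.id N N) f Function.surjective_id hf).comp
    (MvPolynomial.algebraTensorAlgEquiv (σ := σ) B N).symm.surjective

theorem bcPres_ker (N : Type u) [CommRing N] [Algebra B N] (f : MvPolynomial σ B →ₐ[B] C)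
    (hf : Function.Surjective f) (r : τ → MvPolynomial σ B)
    (hr : Ideal.span (Set.range r) = RingHom.ker f.toRingHom) :
    Ideal.span (Set.range fun t => MvPolynomial.map (algebraMap B N) (r t)) =
      RingHom.ker (bcPres C N f).toRingHom := by
  let e := MvPolynomial.algebraTensorAlgEquiv (σ := σ) B N
  have h1 : RingHom.ker (Algebra.TensorProduct.map (AlgHom.id N N) f) =
      (RingHom.ker f).map (Algebra.TensorProduct.includeRight : MvPolynomial σ B →ₐ[B] N ⊗[B] MvPolynomial σ B) :=
    Algebra.TensorProduct.lTensor_ker f hf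
  have h2 : RingHom.ker (bcPres C N f).toRingHom =
      (RingHom.ker (Algebra.TensorProduct.map (AlgHom.id N N) f)).map (e : N ⊗[B] MvPolynomial σ B →+* MvPolynomial σ N) := by
    ext x
    refine ⟨fun hx => ?_, fun hx => ?_⟩
    · refine (Ideal.mem_map_iff_of_surjective _ e.surjective).mpr ⟨e.symm x, hx, ?_⟩
      exact e.apply_symm_apply x
    · obtain ⟨y, hy, rfl⟩ := (Ideal.mem_map_iff_of_surjective _ e.surjective).mp hx
      show Algebra.TensorProduct.map (AlgHom.id N N) f (e.symm (e y)) = 0
      rw [e.symm_apply_apply]; exact hy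
  rw [h2, h1]
  show _ = Ideal.map _ (Ideal.map _ (RingHom.ker f.toRingHom))
  rw [← hr, Ideal.map_span, Ideal.map_span, ← Set.range_comp, ← Set.range_comp]
  congr 2
  funext t
  show _ = e ((1 : N) ⊗ₜ[B] r t)
  rw [MvPolynomial.algebraTensorAlgEquiv_tmul, one_smul]

theorem formallySmooth_iff_bcWitness (N : Type u) [CommRing N] [Algebra B N] [Fintype τ]
    (f : MvPolynomial σ B →ₐ[B] C) (hf : Function.Surjective f) (r : τ → MvPolynomial σ B)
    (hr : Ideal.span (Set.range r) = RingHom.ker f.toRingHom) :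
    Algebra.FormallySmooth N (N ⊗[B] C) ↔
      ∃ (a : σ → τ → MvPolynomial σ N) (q : τ → τ × τ → MvPolynomial σ N),
        ∀ l, aeval (fun s => X s + ∑ t, a s t * MvPolynomial.map (algebraMap B N) (r t))
            (MvPolynomial.map (algebraMap B N) (r l)) =
          ∑ p : τ × τ, q l p * (MvPolynomial.map (algebraMap B N) (r p.1) * MvPolynomial.map (algebraMap B N) (r p.2)) :=
  formallySmooth_iff_witness (bcPres C N f) (bcPres_surjective C N f hf) _ (bcPres_ker C N f hf r hr)

theorem map_witness_lhs {N N' : Type u} [CommRing N] [Algebra B N] [CommRing N'] [Algebra B N'] [Fintype τ]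
    (h : N →ₐ[B] N') (a : σ → τ → MvPolynomial σ N) (r : τ → MvPolynomial σ B) (l : τ) :
    MvPolynomial.map (h : N →+* N') (aeval (fun s => X s + ∑ t, a s t * MvPolynomial.map (algebraMap B N) (r t))
        (MvPolynomial.map (algebraMap B N) (r l))) =
      aeval (fun s => X s + ∑ t, MvPolynomial.map (h : N →+* N') (a s t) * MvPolynomial.map (algebraMap B N') (r t))
        (MvPolynomial.map (algebraMap B N') (r l)) := by
  rw [MvPolynomial.aeval_map_algebraMap, MvPolynomial.aeval_map_algebraMap]
  let H : MvPolynomial σ N →ₐ[B] MvPolynomial σ N' :=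
    { MvPolynomial.map (h : N →+* N') with
      commutes' := fun b => by simp [MvPolynomial.algebraMap_apply] }
  show H (aeval _ (r l)) = _
  rw [← AlgHom.comp_apply, MvPolynomial.comp_aeval]
  congr 2
  funext s
  have e : ∀ t, MvPolynomial.map (h : N →+* N') (MvPolynomial.map (algebraMap B N) (r t)) =
      MvPolynomial.map (algebraMap B N') (r t) := fun t => by
    rw [MvPolynomial.map_map, h.comp_algebraMap]
  show MvPolynomial.map (h : N →+* N') _ = _
  simp [map_sum, e]

theorem formallySmooth_bc_map {N N' : Type u} [CommRing N] [Algebra B N] [CommRing N'] [Algebra B N']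
    [Algebra.FinitePresentation B C] (h : N →ₐ[B] N') (hN : Algebra.FormallySmooth N (N ⊗[B] C)) :
    Algebra.FormallySmooth N' (N' ⊗[B] C) := by
  classical
  obtain ⟨n, f, hf, hk⟩ := (inferInstance : Algebra.FinitePresentation B C)
  obtain ⟨m, r, hr⟩ := Submodule.fg_iff_exists_fin_generating_family.mp hk
  obtain ⟨a, q, hl⟩ := (formallySmooth_iff_bcWitness C N f hf r hr).mp hN
  refine (formallySmooth_iff_bcWitness C N' f hf r hr).mpr
    ⟨fun s t => MvPolynomial.map (h : N →+* N') (a s t), fun l p => MvPolynomial.map (h : N →+* N') (q l p), fun l => ?_⟩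
  rw [← map_witness_lhs, hl, map_sum]
  simp [MvPolynomial.map_map, h.comp_algebraMap]

theorem ColimSys.smooth_spreads {ι : Type v} {G : ι → Type u} [∀ i, CommRing (G i)] [∀ i, Algebra B (G i)]
    {A : Type u} [CommRing A] [Algebra B A] {g : ∀ i, G i →ₐ[B] A} (hs : ColimSys g)
    [Algebra.FinitePresentation B C] (i : ι) (h : Algebra.FormallySmooth A (A ⊗[B] C)) :
    ∃ j, Nonempty (CompatHom g i j) ∧ Algebra.FormallySmooth (G j) (G j ⊗[B] C) := by
  classical
  obtain ⟨n, f, hf, hk⟩ := (inferInstance : Algebra.FinitePresentation B C)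
  obtain ⟨m, r, hr⟩ := Submodule.fg_iff_exists_fin_generating_family.mp hk
  obtain ⟨a, q, hl⟩ := (formallySmooth_iff_bcWitness C A f hf r hr).mp h
  obtain ⟨k, x, hx⟩ := hs.poly_lift (κ := (Fin n × Fin m) ⊕ (Fin m × (Fin m × Fin m)))
    (Sum.elim (fun st => a st.1 st.2) (fun lp => q lp.1 lp.2))
  let a' : Fin n → Fin m → MvPolynomial (Fin n) (G k) := fun s t => x (Sum.inl (s, t))
  let q' : Fin m → Fin m × Fin m → MvPolynomial (Fin n) (G k) := fun l p => x (Sum.inr (l, p))
  have ha' : (fun s t => MvPolynomial.map (g k : G k →+* A) (a' s t)) = a := by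
    funext s t; exact hx (Sum.inl (s, t))
  have hq' : ∀ l p, MvPolynomial.map (g k : G k →+* A) (q' l p) = q l p := fun l p => hx (Sum.inr (l, p))
  let rk : Fin m → MvPolynomial (Fin n) (G k) := fun t => MvPolynomial.map (algebraMap B (G k)) (r t)
  obtain ⟨k', hkk', hd⟩ := hs.poly_kill (i := k) (fun l : Fin m =>
      aeval (fun s => X s + ∑ t, a' s t * rk t) (rk l) - ∑ p : Fin m × Fin m, q' l p * (rk p.1 * rk p.2))
    (fun l => by
      rw [map_sub, sub_eq_zero, map_witness_lhs]
      have e := congrFun₂ ha'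
      simp only [e, map_sum, map_mul, rk, MvPolynomial.map_map, AlgHom.comp_algebraMap, hq']
      exact hl l)
  obtain ⟨j, ⟨hi⟩, ⟨hj⟩⟩ := hs.dir i k'
  refine ⟨j, ⟨hi⟩, formallySmooth_bc_map C hj.1 ((formallySmooth_iff_bcWitness C (G k') f hf r hr).mpr
    ⟨fun s t => MvPolynomial.map (hkk'.1 : G k →+* G k') (a' s t),
      fun l p => MvPolynomial.map (hkk'.1 : G k →+* G k') (q' l p), fun l => ?_⟩)⟩
  have h2 := hd l
  rw [map_sub, sub_eq_zero, map_witness_lhs] at h2
  rw [h2, map_sum]
  simp [rk, MvPolynomial.map_map, AlgHom.comp_algebraMap]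

end

end Groth.Agent.CAlgH
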