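import Groth.Agent.EssEt6.GaloisStage
import Groth.Agent.EssEt6.StrictTop
import Mathlib.RingTheory.Invariant.Galois

/-!
# Subfields of the residue fields of the strict henselization of a henselian local ring

For a henselian Noetherian local ring `A` with strict henselization `S` and a prime `Q` of `S`, the
intersection of `S ⧸ Q` with a finitely generated subfield of its fraction field is finite and
unramified over `A`: it is the image of the fixed ring of a normal finite etale stage.
-/

set_option autoImplicit false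
set_option linter.style.haveILetI false

universe u

open IsLocalRing
open scoped Pointwise

namespace Groth.Agent.CAlgH.StrictHenselQuotientStage

section Stage

variable {A E : Type u} [CommRing A] [IsLocalRing A] [CommRing E] [IsLocalRing E] [Algebra A E]

/-- Automorphisms of an essentially etale local algebra have a sum with a unit value. -/
theorem exists_trace_unit (hE : EGA4loc.IsEssentiallyEtale A E) (H : Finset (E →ₐ[A] E))
    (hid : AlgHom.id A E ∈ H) : ∃ t : E, IsUnit (∑ h ∈ H, h t) := by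
  classical
  haveI := EssEt6.isLocalHom hE
  have hloc : ∀ h : E →ₐ[A] E, IsLocalHom h.toRingHom := fun h =>
    ((local_hom_TFAE h.toRingHom).out 2 0).mp (by
      rw [← EssEt6.map_maximalIdeal hE, Ideal.map_map,
        show h.toRingHom.comp (algebraMap A E) = algebraMap A E from h.comp_algebraMap])
  let χ : H → (ResidueField E →* ResidueField E) := fun h =>
    haveI := hloc h.1
    (ResidueField.map h.1.toRingHom).toMonoidHom
  have hχ : Function.Injective χ := fun g h e => Subtype.ext <|
    EssEt6.eq_of_residue_eq hE g.1 h.1 fun z => DFunLike.congr_fun e (residue E z)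
  have hli := (linearIndependent_monoidHom (ResidueField E) (ResidueField E)).comp χ hχ
  by_contra hnot
  push Not at hnot
  have h0 : ∑ h : H, (1 : ResidueField E) • (⇑(χ h) : ResidueField E → ResidueField E) = 0 := by
    funext z
    obtain ⟨t, rfl⟩ := IsLocalRing.residue_surjective z
    simp only [one_smul, Finset.sum_apply, Pi.zero_apply]
    have h1 : residue E (∑ h ∈ H, h t) = 0 :=
      (residue_eq_zero_iff _).mpr ((mem_maximalIdeal _).mpr (hnot t))
    rw [map_sum] at h1
    rw [← h1, ← Finset.sum_coe_sort H (fun h => residue E (h t))]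
    exact Finset.sum_congr rfl fun h _ => rfl
  exact one_ne_zero (Fintype.linearIndependent_iff.mp hli (fun _ => 1) h0 ⟨_, hid⟩)

theorem sum_comp_eq (H : Finset (E →ₐ[A] E)) (hcomp : ∀ g ∈ H, ∀ h ∈ H, g.comp h ∈ H)
    (hinj : ∀ g ∈ H, Function.Injective g) {g : E →ₐ[A] E} (hg : g ∈ H) (z : E) :
    g (∑ h ∈ H, h z) = ∑ h ∈ H, h z := by
  classical
  have hperm : H.image (fun h => g.comp h) = H :=
    Finset.eq_of_subset_of_card_le
      (fun k hk => by
        obtain ⟨h, hh, rfl⟩ := Finset.mem_image.mp hk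
        exact hcomp g hg h hh)
      (le_of_eq (Finset.card_image_of_injective H fun h h' e => AlgHom.ext fun w =>
        hinj g hg (DFunLike.congr_fun e w)).symm)
  rw [map_sum]
  conv_rhs => rw [← hperm, Finset.sum_image (fun h _ h' _ e => AlgHom.ext fun w =>
    hinj g hg (DFunLike.congr_fun e w))]
  rfl

/-- The fixed ring of a set of endomorphisms. -/
def fixedAlg (H : Finset (E →ₐ[A] E)) : Subalgebra A E where
  carrier := {x | ∀ h ∈ H, h x = x}
  mul_mem' hx hy h hh := by rw [map_mul, hx h hh, hy h hh]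
  add_mem' hx hy h hh := by rw [map_add, hx h hh, hy h hh]
  algebraMap_mem' a h _ := h.commutes a

theorem mem_fixedAlg {H : Finset (E →ₐ[A] E)} {x : E} : x ∈ fixedAlg H ↔ ∀ h ∈ H, h x = x :=
  Iff.rfl

instance isLocalHom_fixedAlg (H : Finset (E →ₐ[A] E)) :
    IsLocalHom (algebraMap (fixedAlg H) E) := ⟨fun z hz => by
  obtain ⟨w, hw⟩ := hz.exists_right_inv
  have hw' : w ∈ fixedAlg H := fun h hh => by
    have h1 := congrArg h hw
    rw [map_mul, map_one] at h1
    have h2 : h (algebraMap (fixedAlg H) E z) = algebraMap (fixedAlg H) E z := z.2 h hh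
    rw [h2, ← hw] at h1
    exact hz.mul_left_cancel h1
  exact IsUnit.of_mul_eq_one (⟨w, hw'⟩ : fixedAlg H) (Subtype.ext hw)⟩

/-- The fixed ring of a group of automorphisms of a stage is unramified. -/
theorem formallyUnramified_fixedAlg [IsNoetherianRing A] [Module.Finite A E]
    (hE : EGA4loc.IsEssentiallyEtale A E) (H : Finset (E →ₐ[A] E))
    (hid : AlgHom.id A E ∈ H) (hcomp : ∀ g ∈ H, ∀ h ∈ H, g.comp h ∈ H)
    (hinj : ∀ g ∈ H, Function.Injective g) :
    Module.Finite A (fixedAlg H) ∧ Algebra.FormallyUnramified A (fixedAlg H) := by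
  haveI := EssEt6.formallyUnramified hE
  haveI := EssEt6.essFiniteType hE
  haveI := EssEt6.isLocalHom hE
  haveI : IsNoetherian A E := inferInstance
  haveI : Module.Finite A (fixedAlg H) :=
    Module.Finite.of_injective (fixedAlg H).val.toLinearMap Subtype.val_injective
  haveI : IsLocalRing (fixedAlg H) := EssEt6.isLocalRing_of_isLocalHom _
  haveI : IsLocalHom (algebraMap A (fixedAlg H)) := EssEt6.isLocalHom_algebraMap (fixedAlg H)
  haveI : IsLocalHom (fixedAlg H).val.toRingHom := isLocalHom_fixedAlg H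
  let f : ResidueField (fixedAlg H) →ₐ[ResidueField A] ResidueField E :=
    { ResidueField.map (fixedAlg H).val.toRingHom with
      commutes' := fun x => by
        obtain ⟨a, rfl⟩ := IsLocalRing.residue_surjective x
        rfl }
  haveI : Algebra.IsSeparable (ResidueField A) (ResidueField (fixedAlg H)) :=
    Algebra.IsSeparable.of_algHom (ResidueField A) (ResidueField E) f
  refine ⟨inferInstance, Algebra.FormallyUnramified.of_map_maximalIdeal
    (le_antisymm (((local_hom_TFAE (algebraMap A (fixedAlg H))).out 0 2).mp ‹_›) fun x hx => ?_)⟩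
  refine EssEt6.mem_map_of_fixed hE H hid hcomp hinj (fixedAlg H) (fun _ => mem_fixedAlg) ?_
  rw [mem_maximalIdeal, mem_nonunits_iff]
  intro hu
  exact (mem_maximalIdeal _).mp hx (IsUnit.of_map (algebraMap (fixedAlg H) E) x hu)

/-- An element fixed modulo a stable ideal has a fixed representative. -/
theorem exists_fixed_representative (hE : EGA4loc.IsEssentiallyEtale A E)
    (H : Finset (E →ₐ[A] E)) (hid : AlgHom.id A E ∈ H)
    (hcomp : ∀ g ∈ H, ∀ h ∈ H, g.comp h ∈ H) (hinj : ∀ g ∈ H, Function.Injective g)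
    (q : Ideal E) {c : E} (hc : ∀ h ∈ H, h c - c ∈ q) :
    ∃ w ∈ fixedAlg H, w - c ∈ q := by
  obtain ⟨t, ht⟩ := exists_trace_unit hE H hid
  obtain ⟨v, hv⟩ := ht.exists_right_inv
  have hvf : v ∈ fixedAlg H := fun g hg => by
    have h1 := congrArg g hv
    rw [map_mul, map_one, sum_comp_eq H hcomp hinj hg, ← hv] at h1
    exact ht.mul_left_cancel h1
  refine ⟨(∑ h ∈ H, h (t * c)) * v, fun g hg => by
    rw [map_mul, sum_comp_eq H hcomp hinj hg, hvf g hg], ?_⟩
  have h1 : (∑ h ∈ H, h (t * c)) * v - c = ∑ h ∈ H, h t * v * (h c - c) := by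
    calc (∑ h ∈ H, h (t * c)) * v - c
        = (∑ h ∈ H, h (t * c)) * v - (∑ h ∈ H, h t) * v * c := by rw [hv, one_mul]
      _ = ∑ h ∈ H, h t * v * (h c - c) := by
        simp only [Finset.sum_mul, ← Finset.sum_sub_distrib, map_mul]
        exact Finset.sum_congr rfl fun h _ => by ring
  rw [h1]
  exact Submodule.sum_mem _ fun h hh => Ideal.mul_mem_left _ _ (hc h hh)

end Stage

section Invariant

variable {A S : Type u} [CommRing A] [HenselianLocalRing A] [CommRing S] [IsLocalRing S]
  [Algebra A S] [IsLocalHom (algebraMap A S)] [Hensel.IsStrictHenselization A S]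

/-- The automorphisms of a normal stage are finitely many and fix only the base. -/
theorem finite_and_isInvariant [IsNoetherianRing A] {E : Subalgebra A S} [IsLocalRing E]
    [IsLocalHom (algebraMap E S)] [Module.Finite A E] (hE : EGA4loc.IsEssentiallyEtale A E)
    (hstab : ∀ φ : E →ₐ[A] S, ∀ x, φ x ∈ E) :
    Finite (E ≃ₐ[A] E) ∧ Algebra.IsInvariant A E (E ≃ₐ[A] E) := by
  classical
  haveI := EssEt6.formallyUnramified hE
  haveI := EssEt6.essFiniteType hE
  haveI := EssEt6.isLocalHom hE
  haveI := ‹Hensel.IsStrictHenselization A S›.isSepClosure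
  haveI : IsSepClosed (ResidueField S) := IsSepClosure.sep_closed (ResidueField A)
  haveI := ‹Hensel.IsStrictHenselization A S›.henselian
  have hloc : ∀ h : E →ₐ[A] E, IsLocalHom h.toRingHom := fun h =>
    ((local_hom_TFAE h.toRingHom).out 2 0).mp (by
      rw [← EssEt6.map_maximalIdeal hE, Ideal.map_map,
        show h.toRingHom.comp (algebraMap A E) = algebraMap A E from h.comp_algebraMap])
  let res : (E →ₐ[A] E) → (ResidueField E →ₐ[ResidueField A] ResidueField E) := fun h =>
    haveI := hloc h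
    { ResidueField.map h.toRingHom with
      commutes' := fun r => by
        obtain ⟨a, rfl⟩ := IsLocalRing.residue_surjective r
        exact congrArg (residue E) (h.commutes a) }
  have hres : ∀ (h : E →ₐ[A] E) (x : E), res h (residue E x) = residue E (h x) := fun _ _ => rfl
  haveI hfin : Finite (E →ₐ[A] E) := Finite.of_injective res fun g h e =>
    EssEt6.eq_of_residue_eq hE g h fun x => DFunLike.congr_fun e (residue E x)
  haveI := Fintype.ofFinite (E →ₐ[A] E)
  have hbij : ∀ h : E →ₐ[A] E, Function.Bijective h := fun h => by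
    have hsurj : Function.Surjective h.toLinearMap := by
      rw [← LinearMap.range_eq_top]
      refine top_le_iff.1 (Submodule.le_of_le_smul_of_le_jacobson_bot Module.Finite.fg_top
        (IsLocalRing.maximalIdeal_le_jacobson ⊥) fun x _ => ?_)
      obtain ⟨z, hz⟩ := (Algebra.IsAlgebraic.algHom_bijective (res h)).2 (residue E x)
      obtain ⟨y, rfl⟩ := IsLocalRing.residue_surjective z
      rw [hres] at hz
      have h1 : x - h y ∈ maximalIdeal E := by
        rw [← residue_eq_zero_iff, map_sub, hz, sub_self]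
      rw [← EssEt6.map_maximalIdeal hE] at h1
      have h2 : x - h y ∈ (maximalIdeal A) • (⊤ : Submodule A E) := by
        rw [Ideal.smul_top_eq_map]; exact h1
      rw [← add_sub_cancel (h y) x]
      exact add_mem (Submodule.mem_sup_left ⟨y, rfl⟩) (Submodule.mem_sup_right h2)
    exact ⟨OrzechProperty.injective_of_surjective_endomorphism h.toLinearMap hsurj, hsurj⟩
  refine ⟨Finite.of_injective (fun e : E ≃ₐ[A] E => e.toAlgHom) AlgEquiv.coe_algHom_injective,
    ⟨fun y hy => ?_⟩⟩
  have hfix : ∀ y : E, (∀ g : E ≃ₐ[A] E, g • y = y) → y ∈ fixedAlg (Finset.univ : Finset (E →ₐ[A] E)) :=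
    fun y hy h _ => hy (AlgEquiv.ofBijective h (hbij h))
  obtain ⟨hfinD, -⟩ := formallyUnramified_fixedAlg hE (Finset.univ : Finset (E →ₐ[A] E))
    (Finset.mem_univ _) (fun _ _ _ _ => Finset.mem_univ _) fun g _ => (hbij g).1
  -- residues of fixed elements lie in the residue field of the base
  have hk : ∀ y ∈ fixedAlg (Finset.univ : Finset (E →ₐ[A] E)),
      ∃ a : A, residue E y = algebraMap (ResidueField A) (ResidueField E) (residue A a) := by
    intro y hy
    let z := residue E y
    let k := ResidueField A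
    let M := IntermediateField.adjoin k {z}
    haveI : FiniteDimensional k (ResidueField E) := inferInstance
    let α₀ : ResidueField E →ₐ[k] ResidueField S :=
      haveI : IsLocalHom E.val.toRingHom := ‹IsLocalHom (algebraMap E S)›
      { ResidueField.map E.val.toRingHom with
        commutes' := fun r => by
          obtain ⟨a, rfl⟩ := IsLocalRing.residue_surjective r
          rfl }
    have hone : ∀ β : M →ₐ[k] ResidueField S,
        β = α₀.comp M.val := by
      intro β
      obtain ⟨α, hα⟩ := IntermediateField.exists_algHom_of_splits (L := M)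
        (fun x : ResidueField E => ⟨Algebra.IsIntegral.isIntegral x,
          IsSepClosed.splits_codomain _ (Algebra.IsSeparable.isSeparable k x)⟩) β
      obtain ⟨ψ, ⟨-, hψ, hψres⟩, -⟩ := HenselLib.EssEtMaps.existsUnique_lift hE S (algebraMap A S) α
        (RingHom.ext fun r => α.commutes r)
      let φ : E →ₐ[A] S := { ψ with commutes' := fun a => RingHom.congr_fun hψ a }
      let g : E →ₐ[A] E := φ.codRestrict E (hstab φ)
      have hgy : g y = y := hy g (Finset.mem_univ _)
      refine IntermediateField.adjoin_algHom_ext k fun x hx => ?_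
      rw [Set.mem_singleton_iff] at hx
      subst hx
      have h1 : α z = residue S ((g y : E) : S) := (hψres y).symm
      rw [hgy] at h1
      have h2 : α z = β ⟨z, IntermediateField.subset_adjoin k {z} rfl⟩ :=
        DFunLike.congr_fun hα ⟨z, IntermediateField.subset_adjoin k {z} rfl⟩
      exact h2.symm.trans h1
    haveI : Algebra.IsSeparable k M := Algebra.isSeparable_tower_bot_of_isSeparable k M (ResidueField E)
    have hrank : Module.finrank k M = 1 := by
      haveI : Nonempty (M →ₐ[k] ResidueField S) := ⟨α₀.comp M.val⟩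
      haveI : Subsingleton (M →ₐ[k] ResidueField S) :=
        ⟨fun β γ => (hone β).trans (hone γ).symm⟩
      rw [← AlgHom.card_of_splits k M (ResidueField S) fun x =>
        IsSepClosed.splits_codomain _ (Algebra.IsSeparable.isSeparable k x)]
      exact Fintype.card_eq_one_iff.mpr ⟨α₀.comp M.val, fun β => Subsingleton.elim _ _⟩
    have hbot : M = ⊥ := IntermediateField.finrank_eq_one_iff.mp hrank
    have hz : z ∈ (⊥ : IntermediateField k (ResidueField E)) :=
      hbot ▸ IntermediateField.subset_adjoin k {z} rfl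
    obtain ⟨r, hr⟩ := IntermediateField.mem_bot.mp hz
    obtain ⟨a, rfl⟩ := IsLocalRing.residue_surjective r
    exact ⟨a, hr.symm⟩
  -- hence the fixed ring is the base
  let D := fixedAlg (Finset.univ : Finset (E →ₐ[A] E))
  have htop : (⊤ : Submodule A D) ≤ LinearMap.range (Algebra.linearMap A D) := by
    refine Submodule.le_of_le_smul_of_le_jacobson_bot hfinD.fg_top
      (IsLocalRing.maximalIdeal_le_jacobson ⊥) fun w _ => ?_
    obtain ⟨a, ha⟩ := hk w w.2
    have h1 : ((w - algebraMap A D a : D) : E) ∈ maximalIdeal E := by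
      rw [← residue_eq_zero_iff]
      show residue E ((w : E) - algebraMap A E a) = 0
      rw [map_sub, ha, sub_eq_zero]
      rfl
    have h2 := EssEt6.mem_map_of_fixed hE (Finset.univ : Finset (E →ₐ[A] E)) (Finset.mem_univ _)
      (fun _ _ _ _ => Finset.mem_univ _) (fun g _ => (hbij g).1) D (fun _ => mem_fixedAlg) h1
    have h3 : w - algebraMap A D a ∈ (maximalIdeal A) • (⊤ : Submodule A D) := by
      rw [Ideal.smul_top_eq_map]; exact h2
    rw [← add_sub_cancel (algebraMap A D a) w]
    exact add_mem (Submodule.mem_sup_left ⟨a, rfl⟩) (Submodule.mem_sup_right h3)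
  obtain ⟨a, ha⟩ := htop (x := ⟨y, hfix y hy⟩) trivial
  exact ⟨a, congrArg Subtype.val ha⟩

/-- A stage through which a prime and finitely many fractions descend. -/
theorem exists_stage [IsNoetherianRing A] (Q : Ideal S) [Q.IsPrime]
    (t : Finset (FractionRing (S ⧸ Q))) :
    ∃ E : Subalgebra A S, ∃ _ : IsLocalRing E, ∃ _ : IsLocalHom (algebraMap E S),
      EGA4loc.IsEssentiallyEtale A E ∧ Module.Finite A E ∧ Finite (E ≃ₐ[A] E) ∧
      Algebra.IsInvariant A E (E ≃ₐ[A] E) ∧ Module.FaithfullyFlat E S ∧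
      (Q.comap (algebraMap E S)).map (algebraMap E S) = Q ∧
      ∀ z ∈ t, ∃ a b : E, Ideal.Quotient.mk Q (b : S) ≠ 0 ∧
        z * algebraMap (S ⧸ Q) (FractionRing (S ⧸ Q)) (Ideal.Quotient.mk Q (b : S)) =
          algebraMap (S ⧸ Q) (FractionRing (S ⧸ Q)) (Ideal.Quotient.mk Q (a : S)) := by
  classical
  haveI : IsNoetherianRing S := EssEt6.isNoetherianRing_strict (A := A) ‹_›
  obtain ⟨gen, hgen⟩ := IsNoetherian.noetherian Q
  choose num hnd using fun z : FractionRing (S ⧸ Q) => IsLocalization.surj (nonZeroDivisors (S ⧸ Q)) z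
  choose lift hlift using fun z : S ⧸ Q => Ideal.Quotient.mk_surjective z
  obtain ⟨E, hsE, _, hlh, hE, hfin, hstab⟩ := EssEt6.exists_normal_stage A S
    (gen ∪ (t.image (fun z => lift (num z).1) ∪
      t.image (fun z => lift ((num z).2 : S ⧸ Q))))
  haveI := EssEt6.flat_strict (A := A) S
  obtain ⟨hGfin, hGinv⟩ := finite_and_isInvariant hE hstab
  refine ⟨E, ‹_›, hlh, hE, hfin, hGfin, hGinv, EssEt6.faithfullyFlat hE S,
    le_antisymm Ideal.map_comap_le ?_, fun z hz => ?_⟩
  · refine le_of_eq_of_le hgen.symm (Ideal.span_le.2 fun x hx => ?_)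
    exact Ideal.mem_map_of_mem (algebraMap E S)
      (x := ⟨x, hsE (Finset.mem_union_left _ hx)⟩)
      (show algebraMap E S ⟨x, hsE (Finset.mem_union_left _ hx)⟩ ∈ Q from
        hgen.le (Submodule.subset_span hx))
  · refine ⟨⟨lift (num z).1, hsE (Finset.mem_union_right _
          (Finset.mem_union_left _ (Finset.mem_image_of_mem (fun z => lift (num z).1) hz)))⟩,
      ⟨lift ((num z).2 : S ⧸ Q), hsE (Finset.mem_union_right _ (Finset.mem_union_right _
            (Finset.mem_image_of_mem (fun z => lift ((num z).2 : S ⧸ Q)) hz)))⟩, ?_, ?_⟩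
    · show Ideal.Quotient.mk Q (lift _) ≠ 0
      rw [hlift]
      exact nonZeroDivisors.ne_zero (num z).2.2
    · show _ * algebraMap _ _ (Ideal.Quotient.mk Q (lift _)) = algebraMap _ _ (Ideal.Quotient.mk Q (lift _))
      rw [hlift, hlift]
      exact hnd z

end Invariant

section Galois

variable {A E : Type u} [CommRing A] [CommRing E] [Algebra A E] [Module.Finite A E]
  [Algebra.FormallyUnramified A E] [Finite (E ≃ₐ[A] E)] [Algebra.IsInvariant A E (E ≃ₐ[A] E)]

/-- Subfields of the residue field at a prime of a Galois stage are cut out by automorphisms. -/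
theorem exists_fixer (q : Ideal E) [q.IsPrime] (L : Subfield (FractionRing (E ⧸ q)))
    (hL : ∀ a : A, algebraMap (E ⧸ q) (FractionRing (E ⧸ q)) (Ideal.Quotient.mk q (algebraMap A E a)) ∈ L) :
    ∃ H : Finset (E →ₐ[A] E), AlgHom.id A E ∈ H ∧ (∀ g ∈ H, ∀ h ∈ H, g.comp h ∈ H) ∧
      (∀ g ∈ H, Function.Injective g) ∧
      ∀ c : E, (∀ h ∈ H, h c - c ∈ q) ↔
        algebraMap (E ⧸ q) (FractionRing (E ⧸ q)) (Ideal.Quotient.mk q c) ∈ L := by
  classical
  haveI := Fintype.ofFinite (E ≃ₐ[A] E)
  let P : Ideal A := q.under A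
  haveI : P.IsPrime := Ideal.comap_isPrime _ _
  haveI : q.LiesOver P := ⟨rfl⟩
  let K := FractionRing (A ⧸ P)
  let M := FractionRing (E ⧸ q)
  letI : Algebra K M := FractionRing.liftAlgebra (A ⧸ P) M
  haveI : Algebra.FormallyUnramified A (E ⧸ q) := Algebra.FormallyUnramified.comp A E (E ⧸ q)
  haveI : Algebra.FormallyUnramified A M := Algebra.FormallyUnramified.comp A (E ⧸ q) M
  haveI : IsScalarTower A K M := IsScalarTower.to₁₃₄ A (A ⧸ P) K M
  haveI : Algebra.FormallyUnramified K M := Algebra.FormallyUnramified.of_restrictScalars A K M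
  haveI : Algebra.EssFiniteType A M := Algebra.EssFiniteType.comp A (E ⧸ q) M
  haveI : Algebra.EssFiniteType K M := Algebra.EssFiniteType.of_comp A K M
  haveI : Algebra.IsSeparable K M := Algebra.FormallyUnramified.isSeparable K M
  haveI : Module.Finite K M := Ideal.IsFractionRing.finite_of_isInvariant (E ≃ₐ[A] E) P q K M
  haveI : IsGalois K M :=
    { __ := Ideal.IsFractionRing.normal (E ≃ₐ[A] E) P q K M }
  have hcomm : ∀ a : A, algebraMap (A ⧸ P) M (Ideal.Quotient.mk P a) =
      algebraMap (E ⧸ q) M (Ideal.Quotient.mk q (algebraMap A E a)) := fun a => by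
    rw [IsScalarTower.algebraMap_apply (A ⧸ P) (E ⧸ q) M]
    rfl
  let LM : IntermediateField K M := L.toIntermediateField fun c => by
    obtain ⟨x, y, hy, rfl⟩ := IsFractionRing.div_surjective (A ⧸ P) c
    obtain ⟨a, rfl⟩ := Ideal.Quotient.mk_surjective x
    obtain ⟨b, rfl⟩ := Ideal.Quotient.mk_surjective y
    rw [map_div₀, ← IsScalarTower.algebraMap_apply, ← IsScalarTower.algebraMap_apply, hcomm, hcomm]
    exact L.div_mem (hL a) (hL b)
  refine ⟨(Finset.univ.filter fun σ : E ≃ₐ[A] E =>
    ∃ hσ : σ ∈ MulAction.stabilizer (E ≃ₐ[A] E) q,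
      ∀ m ∈ LM, IsFractionRing.stabilizerHom (E ≃ₐ[A] E) P q K M ⟨σ, hσ⟩ m = m).image
        fun σ => σ.toAlgHom, ?_, ?_, ?_, fun c => ⟨fun hc => ?_, fun hc h hh => ?_⟩⟩
  · exact Finset.mem_image.mpr ⟨1, Finset.mem_filter.mpr ⟨Finset.mem_univ _, one_mem _, fun m _ => by
      rw [show (⟨1, one_mem _⟩ : MulAction.stabilizer (E ≃ₐ[A] E) q) = 1 from rfl, map_one]
      rfl⟩, rfl⟩
  · intro g hg h hh
    obtain ⟨σ, hσ, rfl⟩ := Finset.mem_image.mp hg
    obtain ⟨τ, hτ, rfl⟩ := Finset.mem_image.mp hh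
    obtain ⟨hσq, hσL⟩ := (Finset.mem_filter.mp hσ).2
    obtain ⟨hτq, hτL⟩ := (Finset.mem_filter.mp hτ).2
    refine Finset.mem_image.mpr ⟨σ * τ, Finset.mem_filter.mpr ⟨Finset.mem_univ _,
      mul_mem hσq hτq, fun m hm => ?_⟩, rfl⟩
    rw [show (⟨σ * τ, mul_mem hσq hτq⟩ : MulAction.stabilizer (E ≃ₐ[A] E) q) =
      ⟨σ, hσq⟩ * ⟨τ, hτq⟩ from rfl, map_mul, AlgEquiv.mul_apply, hτL m hm, hσL m hm]
  · intro g hg
    obtain ⟨σ, -, rfl⟩ := Finset.mem_image.mp hg
    exact σ.injective
  · show algebraMap (E ⧸ q) M (Ideal.Quotient.mk q c) ∈ LM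
    rw [← IsGalois.fixedField_fixingSubgroup LM, IntermediateField.mem_fixedField_iff]
    intro τ hτ
    obtain ⟨⟨σ, hσ⟩, rfl⟩ := IsFractionRing.stabilizerHom_surjective (E ≃ₐ[A] E) P q K M τ
    rw [IsFractionRing.stabilizerHom_apply_apply_mk]
    refine congrArg _ (Ideal.Quotient.eq.2 (hc σ.toAlgHom (Finset.mem_image.mpr ⟨σ,
      Finset.mem_filter.mpr ⟨Finset.mem_univ _, hσ, fun m hm => ?_⟩, rfl⟩)))
    exact (IntermediateField.mem_fixingSubgroup_iff LM _).mp hτ m hm
  · obtain ⟨σ, hσ, rfl⟩ := Finset.mem_image.mp hh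
    obtain ⟨hσq, hσL⟩ := (Finset.mem_filter.mp hσ).2
    have h1 := hσL _ hc
    rw [IsFractionRing.stabilizerHom_apply_apply_mk] at h1
    exact Ideal.Quotient.eq.1 (IsFractionRing.injective (E ⧸ q) M h1)

end Galois

section Denominators

/-- Fractions of an integral domain extension have denominators in the base. -/
theorem exists_mul_algebraMap_eq {A R : Type u} [CommRing A] [CommRing R] [IsDomain R] [Algebra A R]
    [Algebra.IsIntegral A R] (x y : R) (hy : y ≠ 0) :
    ∃ (c : A) (e : R), algebraMap A R c ≠ 0 ∧ x * algebraMap A R c = e * y := by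
  let I := RingHom.ker (algebraMap A R)
  letI : Algebra (A ⧸ I) R := (RingHom.kerLift (algebraMap A R)).toAlgebra
  haveI : IsScalarTower A (A ⧸ I) R := IsScalarTower.of_algebraMap_eq fun _ => rfl
  haveI : Nontrivial (A ⧸ I) := (algebraMap (A ⧸ I) R).domain_nontrivial
  obtain ⟨d, hd, w, hw⟩ := ((Algebra.IsIntegral.isIntegral (R := A) y).tower_top
    (A := A ⧸ I)).isAlgebraic.exists_nonzero_dvd (mem_nonZeroDivisors_of_ne_zero hy)
  obtain ⟨c, rfl⟩ := Ideal.Quotient.mk_surjective d
  have hcw : algebraMap A R c = y * w := hw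
  exact ⟨c, x * w, fun h0 => hd (Ideal.Quotient.eq_zero_iff_mem.2 h0), by rw [hcw]; ring⟩

end Denominators

variable {A S : Type u} [CommRing A] [HenselianLocalRing A] [CommRing S] [IsLocalRing S]
  [Algebra A S] [IsLocalHom (algebraMap A S)] [Hensel.IsStrictHenselization A S]

/-- The intersection of `S ⧸ Q` with a finitely generated subfield of its fraction field. -/
theorem exists_finite_unramified [IsNoetherianRing A] (Q : Ideal S) [Q.IsPrime]
    (t : Finset (FractionRing (S ⧸ Q))) :
    ∃ D' : Subalgebra A (S ⧸ Q), (D' : Set (S ⧸ Q)) = (algebraMap (S ⧸ Q) (FractionRing (S ⧸ Q))) ⁻¹'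
        (Subfield.closure (Set.range (algebraMap A (FractionRing (S ⧸ Q))) ∪
          (t : Set (FractionRing (S ⧸ Q)))) : Set (FractionRing (S ⧸ Q))) ∧
      Module.Finite A D' ∧ Algebra.FormallyUnramified A D' ∧ IsLocalRing D' ∧
      ∀ l ∈ Subfield.closure (Set.range (algebraMap A (FractionRing (S ⧸ Q))) ∪
          (t : Set (FractionRing (S ⧸ Q)))),
        ∃ a ∈ D', ∃ c : A, algebraMap A (FractionRing (S ⧸ Q)) c ≠ 0 ∧
          l * algebraMap A (FractionRing (S ⧸ Q)) c = algebraMap (S ⧸ Q) (FractionRing (S ⧸ Q)) a := by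
  classical
  let F := FractionRing (S ⧸ Q)
  let Lc := Subfield.closure (Set.range (algebraMap A F) ∪ (t : Set F))
  obtain ⟨E, _, _, hE, _, _, _, _, hqQ, hnum⟩ := exists_stage (A := A) Q t
  haveI := EssEt6.formallyUnramified hE
  let q : Ideal E := Q.comap (algebraMap E S)
  haveI : q.IsPrime := Ideal.comap_isPrime _ _
  let i : (E ⧸ q) →+* S ⧸ Q := Ideal.quotientMap Q (algebraMap E S) le_rfl
  have hi : Function.Injective i := Ideal.quotientMap_injective
  let M := FractionRing (E ⧸ q)
  let j : M →+* F := IsFractionRing.lift (A := E ⧸ q) (g := (algebraMap (S ⧸ Q) F).comp i)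
    ((IsFractionRing.injective (S ⧸ Q) F).comp hi)
  have hj : ∀ e : E, j (algebraMap (E ⧸ q) M (Ideal.Quotient.mk q e)) =
      algebraMap (S ⧸ Q) F (Ideal.Quotient.mk Q (e : S)) := fun e =>
    IsLocalization.lift_eq _ _
  have hA : ∀ a : A, algebraMap (S ⧸ Q) F (Ideal.Quotient.mk Q ((algebraMap A E a : E) : S)) =
      algebraMap A F a := fun a => by
    rw [IsScalarTower.algebraMap_apply A (S ⧸ Q) F]
    rfl
  have hLj : Lc ≤ j.fieldRange := Subfield.closure_le.mpr (by
    rintro _ (⟨a, rfl⟩ | hz)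
    · exact ⟨_, (hj _).trans (hA a)⟩
    · rename_i z
      obtain ⟨a, b, hb, hab⟩ := hnum z hz
      refine ⟨algebraMap (E ⧸ q) M (Ideal.Quotient.mk q a) / algebraMap (E ⧸ q) M (Ideal.Quotient.mk q b), ?_⟩
      rw [map_div₀, hj, hj, div_eq_iff ((map_ne_zero_iff _ (IsFractionRing.injective (S ⧸ Q) F)).mpr hb)]
      exact hab.symm)
  obtain ⟨H, hid, hcomp, hinj, hfix⟩ := exists_fixer (A := A) q (Lc.comap j) fun a => by
    show j _ ∈ Lc
    rw [hj, hA]
    exact Subfield.subset_closure (Or.inl ⟨a, rfl⟩)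
  have hfix' : ∀ c : E, (∀ h ∈ H, h c - c ∈ q) ↔
      algebraMap (S ⧸ Q) F (Ideal.Quotient.mk Q (c : S)) ∈ Lc := fun c => by
    rw [← hj]; exact hfix c
  obtain ⟨hDfin, hDunr⟩ := formallyUnramified_fixedAlg hE H hid hcomp hinj
  let f : fixedAlg H →ₐ[A] S ⧸ Q :=
    ((Ideal.Quotient.mkₐ A Q).comp E.val).comp (fixedAlg H).val
  have hset : (f.range : Set (S ⧸ Q)) = (algebraMap (S ⧸ Q) F) ⁻¹' (Lc : Set F) := by
    refine Set.Subset.antisymm ?_ fun z hz => ?_
    · rintro _ ⟨w, rfl⟩
      exact (hfix' (w : E)).1 fun h hh => by rw [w.2 h hh, sub_self]; exact zero_mem q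
    obtain ⟨m, hm⟩ := hLj hz
    obtain ⟨x, y, hy, rfl⟩ := IsFractionRing.div_surjective (E ⧸ q) m
    obtain ⟨a, rfl⟩ := Ideal.Quotient.mk_surjective x
    obtain ⟨b, rfl⟩ := Ideal.Quotient.mk_surjective y
    have hb' : Ideal.Quotient.mk Q (b : S) ≠ 0 :=
      (map_ne_zero_iff _ hi).mpr (nonZeroDivisors.ne_zero hy)
    rw [map_div₀, hj, hj, div_eq_iff ((map_ne_zero_iff _ (IsFractionRing.injective (S ⧸ Q) F)).mpr hb'),
      ← map_mul] at hm
    obtain ⟨x', rfl⟩ := Ideal.Quotient.mk_surjective z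
    have h1 : (a : S) - x' * (b : S) ∈ Q := by
      rw [← Ideal.Quotient.eq, map_mul]
      exact IsFractionRing.injective (S ⧸ Q) F hm
    have h2 : a ∈ Ideal.span {b} ⊔ q := by
      rw [← Ideal.comap_map_eq_self_of_faithfullyFlat (B := S) (Ideal.span {b} ⊔ q), Ideal.mem_comap,
        Ideal.map_sup, hqQ, Ideal.map_span, Set.image_singleton]
      rw [← sub_add_cancel (algebraMap E S a) (x' * algebraMap E S b)]
      exact add_mem (Submodule.mem_sup_right h1)
        (Submodule.mem_sup_left (Ideal.mem_span_singleton.2 (Dvd.intro_left _ rfl)))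
    obtain ⟨u, hu, v, hv, huv⟩ := Submodule.mem_sup.1 h2
    obtain ⟨c, rfl⟩ := Ideal.mem_span_singleton'.1 hu
    have hxc : Ideal.Quotient.mk Q x' = Ideal.Quotient.mk Q (c : S) := by
      refine mul_right_cancel₀ hb' ?_
      rw [← map_mul, ← map_mul, Ideal.Quotient.eq]
      have h3 : ((v : E) : S) ∈ Q := hv
      have h4 : (a : S) = (c : S) * (b : S) + (v : S) := congrArg Subtype.val huv.symm
      rw [h4] at h1
      have h5 := sub_mem h3 h1
      convert h5 using 1
      ring
    obtain ⟨w, hw, hwc⟩ := exists_fixed_representative hE H hid hcomp hinj q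
      ((hfix' c).2 (hxc ▸ hz))
    refine ⟨⟨w, hw⟩, ?_⟩
    show Ideal.Quotient.mk Q (w : S) = Ideal.Quotient.mk Q x'
    rw [hxc, Ideal.Quotient.eq]
    exact hwc
  haveI : Algebra.FormallyUnramified A (fixedAlg H) := hDunr
  haveI : Module.Finite A (fixedAlg H) := hDfin
  haveI : IsLocalRing (fixedAlg H) := EssEt6.isLocalRing_of_isLocalHom _
  haveI : Nontrivial f.range := f.range.val.toRingHom.domain_nontrivial
  refine ⟨f.range, hset, Module.Finite.of_surjective f.rangeRestrict.toLinearMap f.rangeRestrict_surjective,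
    Algebra.FormallyUnramified.of_surjective f.rangeRestrict f.rangeRestrict_surjective,
    IsLocalRing.of_surjective' f.rangeRestrict.toRingHom f.rangeRestrict_surjective, fun l hl => ?_⟩
  obtain ⟨m, rfl⟩ := hLj hl
  obtain ⟨x, y, hy, rfl⟩ := IsFractionRing.div_surjective (E ⧸ q) m
  obtain ⟨c, e', hc, hce⟩ := exists_mul_algebraMap_eq (A := A) x y (nonZeroDivisors.ne_zero hy)
  have hjc : j (algebraMap (E ⧸ q) M (algebraMap A (E ⧸ q) c)) = algebraMap A F c := (hj _).trans (hA c)
  obtain ⟨e, rfl⟩ := Ideal.Quotient.mk_surjective e'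
  have heq : j (algebraMap (E ⧸ q) M x / algebraMap (E ⧸ q) M y) * algebraMap A F c =
      algebraMap (S ⧸ Q) F (Ideal.Quotient.mk Q (e : S)) := by
    rw [← hjc, ← hj, ← map_mul, div_mul_eq_mul_div, ← map_mul, hce, map_mul,
      mul_div_assoc, div_self ((map_ne_zero_iff _ (IsFractionRing.injective (E ⧸ q) M)).mpr
        (nonZeroDivisors.ne_zero hy)), mul_one]
  refine ⟨Ideal.Quotient.mk Q (e : S), ?_, c, ?_, heq⟩
  · rw [← SetLike.mem_coe, hset]
    show algebraMap (S ⧸ Q) F _ ∈ Lc
    rw [← heq]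
    exact Lc.mul_mem hl (Subfield.subset_closure (Or.inl ⟨c, rfl⟩))
  · rw [← hjc]
    exact (map_ne_zero_iff _ j.injective).mpr
      ((map_ne_zero_iff _ (IsFractionRing.injective (E ⧸ q) M)).mpr hc)

end Groth.Agent.CAlgH.StrictHenselQuotientStage
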