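import Groth.Agent.CAlgH.RootTriv
import Groth.Agent.CAlgH.StrictHenselQuotientStage
import Groth.Agent.AlgSpLib.GorHom
import Groth.Agent.EGA43.FieldBranches.Count
import Groth.Agent.HenselLib.LocalInt
import Groth.Agent.HenselLib.Perm
import Groth.Agent.S2749
import Groth.Agent.S2750
import Groth.Agent.S2747
import Groth.Agent.S16430
import Mathlib

/-!
# Minimal primes of a strict henselization extended from a subalgebra
-/

set_option autoImplicit false
set_option linter.style.haveILetI false
universe u

open IsLocalRing Polynomial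

namespace Groth.Agent.CAlgH.StrictHenselExtended

section strict

variable (R S : Type u) [CommRing R] [IsLocalRing R] [CommRing S] [IsLocalRing S] [Algebra R S]
  [IsLocalHom (algebraMap R S)] [Hensel.IsStrictHenselization R S]

/-- The strict henselization of a quotient is the quotient of the strict henselization. -/
theorem exists_strict_quotient (I : Ideal R) (hI : I ≤ maximalIdeal R) :
    ∃ (_ : IsLocalRing (R ⧸ I)) (_ : IsLocalRing (S ⧸ I.map (algebraMap R S)))
      (_ : IsLocalHom (Ideal.quotientMap (I.map (algebraMap R S)) (algebraMap R S) Ideal.le_comap_map)),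
      letI := (Ideal.quotientMap (I.map (algebraMap R S)) (algebraMap R S) Ideal.le_comap_map).toAlgebra
      haveI : IsLocalHom (algebraMap (R ⧸ I) (S ⧸ I.map (algebraMap R S))) := ‹_›
      Hensel.IsStrictHenselization (R ⧸ I) (S ⧸ I.map (algebraMap R S)) := by
  have hR := DualLib.GorFlat.isLocalRing_quot hI
  have hI' : I.map (algebraMap R S) ≤ maximalIdeal S :=
    (Ideal.map_mono hI).trans (IsLocalRing.map_maximalIdeal_le (algebraMap R S))
  have hS := DualLib.GorFlat.isLocalRing_quot hI'
  let q : R ⧸ I →+* S ⧸ I.map (algebraMap R S) := Ideal.quotientMap _ (algebraMap R S) Ideal.le_comap_map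
  letI : Algebra (R ⧸ I) (S ⧸ I.map (algebraMap R S)) := q.toAlgebra
  haveI hlocq : IsLocalHom q := ⟨fun b hb => by
    obtain ⟨b, rfl⟩ := Ideal.Quotient.mk_surjective b
    exact IsUnit.map _ (isUnit_of_map_unit (algebraMap R S) b (DualLib.GorFlat.isUnit_of_mk hI' hb))⟩
  haveI : IsLocalHom (algebraMap (R ⧸ I) (S ⧸ I.map (algebraMap R S))) := hlocq
  refine ⟨hR, hS, hlocq, ?_⟩
  haveI hmkR : IsLocalHom (Ideal.Quotient.mk I) := ⟨fun b hb => DualLib.GorFlat.isUnit_of_mk hI hb⟩
  haveI hmkS : IsLocalHom (Ideal.Quotient.mk (I.map (algebraMap R S))) :=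
    ⟨fun b hb => DualLib.GorFlat.isUnit_of_mk hI' hb⟩
  let eR := RingEquiv.ofBijective (ResidueField.map (Ideal.Quotient.mk I))
    ⟨(ResidueField.map _).injective, fun x => by
      obtain ⟨y, rfl⟩ := residue_surjective x
      obtain ⟨z, rfl⟩ := Ideal.Quotient.mk_surjective y
      exact ⟨residue R z, ResidueField.map_residue _ _⟩⟩
  let eS := RingEquiv.ofBijective (ResidueField.map (Ideal.Quotient.mk (I.map (algebraMap R S))))
    ⟨(ResidueField.map _).injective, fun x => by
      obtain ⟨y, rfl⟩ := residue_surjective x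
      obtain ⟨z, rfl⟩ := Ideal.Quotient.mk_surjective y
      exact ⟨residue S z, ResidueField.map_residue _ _⟩⟩
  exact
    { henselian := AlgSpLib.henselianLocalRing_quot_map R S I hI
      isSepClosure := by
        have h0 := (‹Hensel.IsStrictHenselization R S›).isSepClosure
        haveI := h0.1
        refine ⟨IsSepClosed.of_exists_root _ fun p hp h1 h2 => ?_, ?_⟩
        · obtain ⟨x, hx⟩ := IsSepClosed.exists_root (p.map eS.symm.toRingHom)
            (by rw [Polynomial.degree_map]; exact (Polynomial.degree_pos_of_irreducible h1).ne')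
            (h2.map)
          refine ⟨eS x, ?_⟩
          rw [Polynomial.IsRoot.def, Polynomial.eval_map] at hx
          have := congrArg eS.toRingHom hx
          rw [Polynomial.hom_eval₂, map_zero] at this
          rwa [show eS.toRingHom.comp eS.symm.toRingHom = RingHom.id _ from RingHom.ext eS.apply_symm_apply,
            Polynomial.eval₂_id] at this
        · haveI := h0.2
          refine Algebra.IsSeparable.of_equiv_equiv eR eS (RingHom.ext fun x => ?_)
          obtain ⟨z, rfl⟩ := residue_surjective x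
          rfl
      universal := fun T _ _ f _ τ hτ => by
        haveI : IsLocalHom (f.comp (Ideal.Quotient.mk I)) := RingHom.isLocalHom_comp _ _
        have hτ' : (τ.comp eS.toRingHom).comp (ResidueField.map (algebraMap R S)) =
            ResidueField.map (f.comp (Ideal.Quotient.mk I)) := by
          refine RingHom.ext fun x => ?_
          obtain ⟨z, rfl⟩ := residue_surjective x
          exact congr($hτ (residue _ (Ideal.Quotient.mk I z)))
        obtain ⟨G, ⟨hG, hGr⟩, hGu⟩ := (‹Hensel.IsStrictHenselization R S›).universal T _ _ hτ'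
        have hker : ∀ s ∈ I.map (algebraMap R S), G s = 0 := by
          intro s hs
          have : I.map (algebraMap R S) ≤ RingHom.ker G := Ideal.map_le_iff_le_comap.2 fun r hr => by
            show G (algebraMap R S r) = 0
            rw [← RingHom.comp_apply, hG, RingHom.comp_apply, Ideal.Quotient.eq_zero_iff_mem.2 hr, map_zero]
          exact this hs
        refine ⟨Ideal.Quotient.lift _ G hker, ⟨?_, ?_⟩, fun g hg => ?_⟩
        · refine Ideal.Quotient.ringHom_ext (RingHom.ext fun r => ?_)
          exact congr($hG r)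
        · intro x
          obtain ⟨s, rfl⟩ := Ideal.Quotient.mk_surjective x
          exact hGr s
        · have := hGu (g.comp (Ideal.Quotient.mk _)) ⟨RingHom.ext fun r => congr($(hg.1) (Ideal.Quotient.mk I r)),
            fun s => hg.2 (Ideal.Quotient.mk _ s)⟩
          exact Ideal.Quotient.ringHom_ext (by rw [this]; rfl) }

/-- A strict henselization is one of every essentially etale local algebra inside it. -/
theorem isStrictHenselization_stage (E : Type u) [CommRing E] [IsLocalRing E] [Algebra R E]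
    [Algebra E S] [IsScalarTower R E S] [IsLocalHom (algebraMap E S)]
    (hE : EGA4loc.IsEssentiallyEtale R E) : Hensel.IsStrictHenselization E S := by
  haveI := EssEt6.isLocalHom hE
  have hS := ‹Hensel.IsStrictHenselization R S›
  refine ⟨hS.henselian, ?_, ?_⟩
  · haveI := hS.isSepClosure
    refine ⟨IsSepClosure.sep_closed (ResidueField R), ?_⟩
    haveI : IsScalarTower (ResidueField R) (ResidueField E) (ResidueField S) :=
      IsScalarTower.of_algebraMap_eq fun x => by
        obtain ⟨r, rfl⟩ := residue_surjective x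
        exact congrArg (residue S) (IsScalarTower.algebraMap_apply R E S r)
    haveI : Algebra.IsSeparable (ResidueField R) (ResidueField S) := IsSepClosure.separable
    exact Algebra.isSeparable_tower_top_of_isSeparable (ResidueField R) (ResidueField E) (ResidueField S)
  · intro T _ _ f _ τ hτ
    haveI : IsLocalHom (f.comp (algebraMap R E)) := RingHom.isLocalHom_comp _ _
    have hτ' : τ.comp (ResidueField.map (algebraMap R S)) = ResidueField.map (f.comp (algebraMap R E)) := by
      refine RingHom.ext fun x => ?_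
      obtain ⟨r, rfl⟩ := residue_surjective x
      rw [RingHom.comp_apply, ResidueField.map_residue, IsScalarTower.algebraMap_apply R E S]
      exact RingHom.congr_fun hτ (residue E (algebraMap R E r))
    obtain ⟨g, ⟨hg, hgr⟩, hu⟩ := hS.universal T _ τ hτ'
    refine ⟨g, ⟨?_, hgr⟩, fun g' hg' => hu g' ⟨?_, hg'.2⟩⟩
    · letI : Algebra R T := (f.comp (algebraMap R E)).toAlgebra
      let u : E →ₐ[R] T := { g.comp (algebraMap E S) with
        commutes' := fun r => by
          show g (algebraMap E S (algebraMap R E r)) = _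
          rw [← IsScalarTower.algebraMap_apply]
          exact RingHom.congr_fun hg r }
      let v : E →ₐ[R] T := { f with commutes' := fun r => rfl }
      exact congrArg AlgHom.toRingHom (EssEt6.eq_of_residue_eq hE u v fun e =>
        (hgr (algebraMap E S e)).trans (RingHom.congr_fun hτ (residue E e)))
    · rw [IsScalarTower.algebraMap_eq R E S, ← RingHom.comp_assoc, hg'.1]

theorem comap_mem_minimalPrimes (Q : Ideal S) (hQ : Q ∈ minimalPrimes S) :
    Q.comap (algebraMap R S) ∈ minimalPrimes R := by
  haveI := EssEt6.flat_strict (A := R) S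
  haveI : Q.IsPrime := hQ.1.1
  refine ⟨⟨inferInstance, bot_le⟩, fun p hp hle => ?_⟩
  haveI : p.IsPrime := hp.1
  haveI : Q.LiesOver (Q.comap (algebraMap R S)) := ⟨rfl⟩
  obtain ⟨P, hP, hPp, hPo⟩ := Ideal.exists_ideal_le_liesOver_of_le Q hle
  rw [hPo.over]
  exact Ideal.comap_mono (hQ.2 ⟨hPp, bot_le⟩ hP)

theorem exists_minimalPrimes_comap_eq (p : Ideal R) (hp : p ∈ minimalPrimes R) :
    ∃ Q ∈ minimalPrimes S, p.map (algebraMap R S) ≤ Q ∧ Q.comap (algebraMap R S) = p := by
  haveI := EssEt6.flat_strict (A := R) S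
  haveI : Module.FaithfullyFlat R S := Module.FaithfullyFlat.of_flat_of_isLocalHom
  haveI : p.IsPrime := hp.1.1
  obtain ⟨P, hP⟩ := PrimeSpectrum.comap_surjective_of_faithfullyFlat (B := S) ⟨p, inferInstance⟩
  have hP' : P.asIdeal.comap (algebraMap R S) = p := congrArg PrimeSpectrum.asIdeal hP
  obtain ⟨Q, hQ, hQP⟩ := Ideal.exists_minimalPrimes_le (I := (⊥ : Ideal S)) (J := P.asIdeal) bot_le
  haveI : Q.IsPrime := hQ.1.1
  have hQp : Q.comap (algebraMap R S) = p :=
    le_antisymm ((Ideal.comap_mono hQP).trans hP'.le)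
      (hp.2 ⟨inferInstance, bot_le⟩ ((Ideal.comap_mono hQP).trans hP'.le))
  exact ⟨Q, hQ, Ideal.map_le_iff_le_comap.2 hQp.ge, hQp⟩

/-- Extended minimal primes. -/
theorem generated_iff :
    (∀ Q ∈ minimalPrimes S, Q = Ideal.map (algebraMap R S) (Q.comap (algebraMap R S))) ↔
      ∀ (p : Ideal R) (_ : p ∈ minimalPrimes R) (_ : IsLocalRing (R ⧸ p)), CAlg2.IsGeomUnibranch (R ⧸ p) := by
  have key : ∀ p ∈ minimalPrimes R, ∀ _ : IsLocalRing (R ⧸ p),
      CAlg2.IsGeomUnibranch (R ⧸ p) ↔ (p.map (algebraMap R S)).IsPrime := by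
    intro p hp _
    haveI : p.IsPrime := hp.1.1
    obtain ⟨_, _, hloc, hSH⟩ := exists_strict_quotient R S p (le_maximalIdeal (Ideal.IsPrime.ne_top ‹_›))
    letI := (Ideal.quotientMap (p.map (algebraMap R S)) (algebraMap R S) Ideal.le_comap_map).toAlgebra
    haveI : IsLocalHom (algebraMap (R ⧸ p) (S ⧸ p.map (algebraMap R S))) := hloc
    haveI : Hensel.IsStrictHenselization (R ⧸ p) (S ⧸ p.map (algebraMap R S)) := hSH
    rw [← Ideal.Quotient.isDomain_iff_prime, ← S2750.result (R ⧸ p)]
    exact (and_iff_right (inferInstanceAs (IsReduced (R ⧸ p)))).symm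
  constructor
  · intro h p hp _
    rw [key p hp inferInstance]
    obtain ⟨Q, hQ, -, hQp⟩ := exists_minimalPrimes_comap_eq R S p hp
    rw [← hQp, ← h Q hQ]
    exact hQ.1.1
  · intro h Q hQ
    haveI : Q.IsPrime := hQ.1.1
    have hp := comap_mem_minimalPrimes R S Q hQ
    haveI := DualLib.GorFlat.isLocalRing_quot (le_maximalIdeal (Ideal.IsPrime.ne_top hp.1.1))
    have hprime := (key _ hp inferInstance).1 (h _ hp inferInstance)
    exact le_antisymm (hQ.2 ⟨hprime, bot_le⟩ Ideal.map_comap_le) Ideal.map_comap_le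

end strict

section normalization

/-- Geometrically unibranch henselian domains. -/
theorem isGeomUnibranch_iff (R : Type u) [CommRing R] [IsDomain R] [HenselianLocalRing R] :
    CAlg2.IsGeomUnibranch R ↔
      RootTriv.SepTriv (algebraMap R (integralClosure R (FractionRing R))) := by
  haveI hloc : IsLocalHom (algebraMap R R) := ⟨fun a ha => ha⟩
  haveI := HenselLib.LocalInt.isHenselization_self R
  have hU : CAlg2.IsUnibranch R := ((_root_.Groth.Agent.S2749.result R R).2 inferInstance).2
  haveI : IsDomain (CAlg2.red R) := hU.1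
  obtain ⟨e, he⟩ := Unibr10.exists_normalization_equiv (ι := PUnit.{u+1}) (S := fun _ => CAlg2.red R)
    (fun _ => Ideal.Quotient.mk (nilradical R)) (fun _ => Ideal.Quotient.mk_surjective)
    (fun i j h => absurd (Subsingleton.elim i j) h)
    (fun x hx => by
      have := Ideal.Quotient.eq_zero_iff_mem.1 (hx PUnit.unit)
      rwa [nilradical_eq_zero, Ideal.zero_eq_bot, Ideal.mem_bot] at this)
  have hee : e.toRingHom.comp (algebraMap R _) = Pi.ringHom fun _ => Unibr10.toNormRed R :=
    RingHom.ext fun r => funext fun i => he r i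
  rw [← RootTriv.sepTriv_ringEquiv_comp e, hee, RootTriv.sepTriv_pi_iff]
  have hint : (Unibr10.toNormRed R).IsIntegral :=
    (RingHom.isIntegral_of_surjective _ Ideal.Quotient.mk_surjective).trans _ _
      (algebraMap_isIntegral_iff.mpr inferInstance)
  have hker : ∀ (L : Type u) [Field L] (g : CAlg2.normRed R →+* L), (RingHom.ker g).IsMaximal →
      (RingHom.ker (g.comp (Unibr10.toNormRed R))).IsMaximal := fun L _ g hg => by
    haveI := hg
    rw [← RingHom.comap_ker]
    exact Ideal.isMaximal_comap_of_isIntegral_of_isMaximal' _ hint _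
  have halg : ∀ (L : Type u) [Field L] (g : CAlg2.normRed R →+* L), Function.Surjective g →
      ∀ x : L, ∃ q : R[X], q.Monic ∧ q.eval₂ (g.comp (Unibr10.toNormRed R)) x = 0 := by
    intro L _ g hg x
    obtain ⟨y, rfl⟩ := hg x
    obtain ⟨q, hm, h0⟩ := hint y
    exact ⟨q, hm, by rw [← hom_eval₂, h0, map_zero]⟩
  constructor
  · intro h _ L _ g hg
    haveI := RingHom.ker_isMaximal_of_surjective g hg
    rw [RootTriv.rootTriv_iff_pow_mem _ (hker L g inferInstance) (halg L g hg)]
    intro x
    let ε := RingHom.quotientKerEquivOfSurjective hg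
    have hchar : ringExpChar L = ringExpChar (CAlg2.normRed R ⧸ RingHom.ker g) := by
      letI : Field (CAlg2.normRed R ⧸ RingHom.ker g) := Ideal.Quotient.field _
      haveI : ExpChar L (ringExpChar (CAlg2.normRed R ⧸ RingHom.ker g)) :=
        expChar_of_injective_ringHom (f := ε.toRingHom) ε.injective _
      exact ringExpChar.eq L _
    obtain ⟨n, r, hr⟩ := h.2 (RingHom.ker g) (ε.symm x)
    refine ⟨n, r, ?_⟩
    rw [hchar, ← ε.apply_symm_apply x, ← map_pow, ← hr]
    rfl
  · intro h
    refine ⟨hU, fun m hm => ?_⟩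
    letI : Field (CAlg2.normRed R ⧸ m) := Ideal.Quotient.field _
    have hg : Function.Surjective (Ideal.Quotient.mk m) := Ideal.Quotient.mk_surjective
    exact (RootTriv.rootTriv_iff_pow_mem _ (hker _ (Ideal.Quotient.mk m) (by rw [Ideal.mk_ker]; exact hm))
      (halg _ _ hg)).1 (h PUnit.unit _ _ hg)

/-- Residue fields of the normalization of a reduced henselian ring, componentwise. -/
theorem residue_condition_iff (R : Type u) [CommRing R] [IsReduced R] [HenselianLocalRing R]
    [IsNoetherianRing R] :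
    (∀ (M : Ideal (integralClosure R (FractionRing R))) [M.IsMaximal],
        separableClosure (Subfield.closure (Set.range ((algebraMap (integralClosure R (FractionRing R)) M.ResidueField).comp (algebraMap R (integralClosure R (FractionRing R)))))) M.ResidueField = ⊥) ↔
      ∀ (p : Ideal R) (_ : p ∈ minimalPrimes R) (_ : IsLocalRing (R ⧸ p)), CAlg2.IsGeomUnibranch (R ⧸ p) := by
  classical
  rw [← RootTriv.sepTriv_algebraMap_iff]
  haveI : Finite (minimalPrimes R) := (minimalPrimes.finite_of_isNoetherianRing R).to_subtype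
  letI := Fintype.ofFinite (minimalPrimes R)
  haveI hp : ∀ p : minimalPrimes R, p.1.IsPrime := fun p => p.2.1.1
  obtain ⟨e, he⟩ := Unibr10.exists_normalization_equiv (S := fun p : minimalPrimes R => R ⧸ p.1)
    (fun p => Ideal.Quotient.mk p.1) (fun p => Ideal.Quotient.mk_surjective)
    (fun i j hij => by
      obtain ⟨a, ha, ha'⟩ := SetLike.not_le_iff_exists.mp fun hle : j.1 ≤ i.1 =>
        hij (Subtype.ext (le_antisymm (i.2.2 ⟨hp j, bot_le⟩ hle) hle))
      exact ⟨a, Ideal.Quotient.eq_zero_iff_mem.2 ha, fun h0 => ha' (Ideal.Quotient.eq_zero_iff_mem.1 h0)⟩)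
    (fun x hx => by
      have : x ∈ nilradical R := by
        rw [nilradical, Ideal.zero_eq_bot, ← Ideal.sInf_minimalPrimes, Submodule.mem_sInf]
        exact fun p hp => Ideal.Quotient.eq_zero_iff_mem.1 (hx ⟨p, hp⟩)
      rwa [nilradical_eq_zero, Ideal.zero_eq_bot, Ideal.mem_bot] at this)
  have hee : e.toRingHom.comp (algebraMap R _) = Pi.ringHom fun p : minimalPrimes R =>
      (algebraMap (R ⧸ p.1) (integralClosure (R ⧸ p.1) (FractionRing (R ⧸ p.1)))).comp (Ideal.Quotient.mk p.1) :=
    RingHom.ext fun r => funext fun i => he r i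
  rw [← RootTriv.sepTriv_ringEquiv_comp e, hee, RootTriv.sepTriv_pi_iff]
  simp only [RootTriv.sepTriv_comp_iff Ideal.Quotient.mk_surjective]
  have key : ∀ p : minimalPrimes R, ∀ hl : IsLocalRing (R ⧸ p.1),
      CAlg2.IsGeomUnibranch (R ⧸ p.1) ↔
        RootTriv.SepTriv (algebraMap (R ⧸ p.1) (integralClosure (R ⧸ p.1) (FractionRing (R ⧸ p.1)))) := by
    intro p hl
    haveI := HenselLib.henselianLocalRing_of_isIntegral R (R ⧸ p.1)
    exact isGeomUnibranch_iff (R ⧸ p.1)
  exact ⟨fun h p hmem hl => (key ⟨p, hmem⟩ hl).2 (h ⟨p, hmem⟩), fun h p =>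
    have hl := DualLib.GorFlat.isLocalRing_quot (le_maximalIdeal (hp p).ne_top)
    (key p hl).1 (h p.1 p.2 hl)⟩

end normalization

section stage

variable (E0 S D : Type u) [CommRing E0] [HenselianLocalRing E0] [IsNoetherianRing E0] [IsReduced E0]
  [CommRing S] [IsLocalRing S] [Algebra E0 S] [IsLocalHom (algebraMap E0 S)] [Hensel.IsStrictHenselization E0 S]
  [CommRing D] [IsLocalRing D] [HenselianLocalRing D] [Algebra E0 D] [IsLocalHom (algebraMap E0 D)]
  [Module.Finite E0 D] [Algebra D S] [IsScalarTower E0 D S]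

omit [IsReduced E0] in
/-- Modulo a minimal prime, the subalgebra coincides with the base. -/
theorem exists_sub_mem (hinj : Function.Injective (algebraMap D S))
    (hres : ∀ d : D, ∃ e : E0, d - algebraMap E0 D e ∈ maximalIdeal D)
    (hP : ∀ (p : Ideal D) (_ : p ∈ minimalPrimes D) (_ : IsLocalRing (D ⧸ p)), CAlg2.IsGeomUnibranch (D ⧸ p)) (Q : Ideal S) (hQ : Q ∈ minimalPrimes S) :
    ∀ x : D, ∃ e : E0, algebraMap D S x - algebraMap E0 S e ∈ Q := by
  classical
  obtain ⟨gen, hgen⟩ := Module.Finite.fg_top (R := E0) (M := D)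
  haveI : Q.IsPrime := hQ.1.1
  let r : Ideal D := Q.comap (algebraMap D S)
  have hr : r ∈ minimalPrimes D := by
    refine ⟨⟨inferInstance, bot_le⟩, fun r' hr' hle => ?_⟩
    by_contra hne
    obtain ⟨y, hy, hy'⟩ := SetLike.not_le_iff_exists.1 hne
    haveI := hr'.1
    have hQD : r.comap (algebraMap E0 D) = Q.comap (algebraMap E0 S) := by
      rw [Ideal.comap_comap, ← IsScalarTower.algebraMap_eq]
    have hlt : r'.comap (algebraMap E0 D) < r.comap (algebraMap E0 D) :=
      Ideal.comap_lt_comap_of_integral_mem_sdiff hle ⟨hy, hy'⟩ (Algebra.IsIntegral.isIntegral y)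
    exact absurd ((comap_mem_minimalPrimes E0 S Q hQ).2 ⟨inferInstance, bot_le⟩
      (show r'.comap (algebraMap E0 D) ≤ Q.comap (algebraMap E0 S) from hlt.le.trans (le_of_eq hQD))) (fun h => hlt.not_ge (hQD.le.trans h))
  haveI : r.IsPrime := hr.1.1
  haveI := DualLib.GorFlat.isLocalRing_quot (le_maximalIdeal (Ideal.IsPrime.ne_top ‹r.IsPrime›))
  haveI := HenselLib.henselianLocalRing_of_isIntegral D (D ⧸ r)
  have hsep := (isGeomUnibranch_iff (D ⧸ r)).1 (hP r hr inferInstance)
  let F := FractionRing (S ⧸ Q)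
  let t : Finset F := gen.image fun g => algebraMap (S ⧸ Q) F (Ideal.Quotient.mk Q (algebraMap D S g))
  obtain ⟨D'', hset, hfin, hunr, hloc, -⟩ :=
    StrictHenselQuotientStage.exists_finite_unramified (A := E0) Q t
  haveI := hfin
  haveI := hunr
  haveI := hloc
  let M := FractionRing (D ⧸ r)
  let i : D ⧸ r →+* S ⧸ Q := Ideal.quotientMap Q (algebraMap D S) le_rfl
  let j : M →+* F := IsFractionRing.lift (A := D ⧸ r) (g := (algebraMap (S ⧸ Q) F).comp i)
    ((IsFractionRing.injective (S ⧸ Q) F).comp Ideal.quotientMap_injective)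
  have hj : ∀ d : D, j (algebraMap (D ⧸ r) M (Ideal.Quotient.mk r d)) =
      algebraMap (S ⧸ Q) F (Ideal.Quotient.mk Q (algebraMap D S d)) := fun d => IsLocalization.lift_eq _ _
  have hj0 : ∀ e : E0, j (algebraMap (D ⧸ r) M (Ideal.Quotient.mk r (algebraMap E0 D e))) = algebraMap E0 F e :=
    fun e => by rw [hj, ← IsScalarTower.algebraMap_apply E0 D S, IsScalarTower.algebraMap_apply E0 (S ⧸ Q) F]; rfl
  have hLj : Subfield.closure (Set.range (algebraMap E0 F) ∪ (t : Set F)) ≤ j.fieldRange :=
    Subfield.closure_le.mpr (by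
      rintro z (⟨e, rfl⟩ | hz)
      · exact ⟨_, hj0 e⟩
      · obtain ⟨g, hg, rfl⟩ := Finset.mem_image.1 hz
        exact ⟨_, hj g⟩)
  have hex : ∀ a : D'', ∃ m : M, j m = algebraMap (S ⧸ Q) F a := fun a => hLj (hset.le a.2)
  choose φ hφ using hex
  let φN : D'' →+* integralClosure (D ⧸ r) M :=
    { toFun := fun a => ⟨φ a, by
        obtain ⟨q, hm, h0⟩ := Algebra.IsIntegral.isIntegral (R := E0) a
        refine ⟨q.map ((Ideal.Quotient.mk r).comp (algebraMap E0 D)), hm.map _, j.injective ?_⟩
        rw [eval₂_map, hom_eval₂, map_zero, hφ,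
          show j.comp ((algebraMap (D ⧸ r) M).comp ((Ideal.Quotient.mk r).comp (algebraMap E0 D))) =
            ((algebraMap (S ⧸ Q) F).comp D''.val.toRingHom).comp (algebraMap E0 D'') from RingHom.ext fun e =>
              (hj0 e).trans (IsScalarTower.algebraMap_apply E0 (S ⧸ Q) F e)]
        rw [show algebraMap (S ⧸ Q) F (a : S ⧸ Q) = (algebraMap (S ⧸ Q) F).comp D''.val.toRingHom a from rfl,
          ← hom_eval₂, h0, map_zero]⟩
      map_one' := Subtype.ext (j.injective (by simp [hφ]))
      map_mul' := fun a b => Subtype.ext (j.injective (by simp [hφ]))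
      map_zero' := Subtype.ext (j.injective (by simp [hφ]))
      map_add' := fun a b => Subtype.ext (j.injective (by simp [hφ])) }
  have hφ0 : φN.comp (algebraMap E0 D'') =
      ((algebraMap (D ⧸ r) (integralClosure (D ⧸ r) M)).comp (Ideal.Quotient.mk r)).comp (algebraMap E0 D) :=
    RingHom.ext fun e => Subtype.ext (j.injective ((hφ _).trans
      ((IsScalarTower.algebraMap_apply E0 (S ⧸ Q) F e).symm.trans (hj0 e).symm)))
  -- the residue field of `D''` is that of the base
  obtain ⟨m, hm⟩ := Ideal.exists_maximal (integralClosure (D ⧸ r) M)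
  letI : Field (integralClosure (D ⧸ r) M ⧸ m) := Ideal.Quotient.field m
  let pi := Ideal.Quotient.mk m
  let g : D'' →+* integralClosure (D ⧸ r) M ⧸ m := pi.comp φN
  let fD : D →+* integralClosure (D ⧸ r) M ⧸ m :=
    (pi.comp (algebraMap (D ⧸ r) (integralClosure (D ⧸ r) M))).comp (Ideal.Quotient.mk r)
  have hg0 : g.comp (algebraMap E0 D'') = fD.comp (algebraMap E0 D) := by
    rw [RingHom.comp_assoc, hφ0]; rfl
  have hkD : RingHom.ker fD = maximalIdeal D := eq_maximalIdeal (by
    haveI : (RingHom.ker pi).IsMaximal := by rw [Ideal.mk_ker]; exact hm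
    rw [← RingHom.comap_ker, ← RingHom.comap_ker]
    haveI : ((RingHom.ker pi).comap (algebraMap (D ⧸ r) (integralClosure (D ⧸ r) M))).IsMaximal :=
      Ideal.isMaximal_comap_of_isIntegral_of_isMaximal _
    exact Ideal.comap_isMaximal_of_surjective _ Ideal.Quotient.mk_surjective)
  haveI : IsLocalHom (algebraMap E0 D'') := ((local_hom_TFAE (algebraMap E0 D'')).out 4 0).mp
    (eq_maximalIdeal (Ideal.isMaximal_comap_of_isIntegral_of_isMaximal _))
  have hkg : maximalIdeal D'' ≤ RingHom.ker g := by
    rw [← Algebra.FormallyUnramified.map_maximalIdeal (R := E0), Ideal.map_le_iff_le_comap,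
      RingHom.comap_ker, hg0, ← RingHom.comap_ker, hkD]
    exact (IsLocalRing.maximalIdeal_comap _).ge
  have hsurj : ∀ a : D'', ∃ e : E0, a - algebraMap E0 D'' e ∈ maximalIdeal D'' := by
    intro a
    haveI : Algebra.IsSeparable (ResidueField E0) (ResidueField D'') := inferInstance
    let z := residue D'' a
    obtain ⟨q, hq⟩ := Polynomial.map_surjective (residue E0) residue_surjective (minpoly (ResidueField E0) z)
    have hev : ∀ p : E0[X], aeval z (p.map (residue E0)) = residue D'' (aeval a p) := fun p => by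
      rw [show residue E0 = algebraMap E0 (ResidueField E0) from rfl, aeval_map_algebraMap,
        show residue D'' (aeval a p) = IsScalarTower.toAlgHom E0 D'' (ResidueField D'') (aeval a p) from rfl,
        ← aeval_algHom_apply]
      rfl
    have h0 : aeval a q ∈ maximalIdeal D'' := by
      rw [← residue_eq_zero_iff, ← hev, hq, minpoly.aeval]
    have h1 : IsUnit (aeval a (derivative q)) := by
      rw [← residue_ne_zero_iff_isUnit, ← hev, ← derivative_map, hq]
      exact (Algebra.IsSeparable.isSeparable (ResidueField E0) z).aeval_derivative_ne_zero (minpoly.aeval _ _)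
    have hev2 : ∀ p : E0[X], (p.map ((Ideal.Quotient.mk r).comp (algebraMap E0 D))).eval₂
        (pi.comp (algebraMap (D ⧸ r) (integralClosure (D ⧸ r) M))) (g a) = g (aeval a p) := fun p => by
      rw [eval₂_map, aeval_def, hom_eval₂, hg0]
      rfl
    obtain ⟨d', hd'⟩ := hsep _ pi Ideal.Quotient.mk_surjective (g a) _ (by rw [hev2]; exact hkg h0)
      (by rw [derivative_map, hev2]; exact (h1.map g).ne_zero)
    obtain ⟨d, rfl⟩ := Ideal.Quotient.mk_surjective d'
    obtain ⟨e, he⟩ := hres d
    refine ⟨e, by_contra fun hne => ?_⟩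
    have h2 : g (a - algebraMap E0 D'' e) = 0 := by
      rw [← hkD, RingHom.mem_ker, map_sub] at he
      rw [map_sub, show g (algebraMap E0 D'' e) = fD (algebraMap E0 D e) from RingHom.congr_fun hg0 e]
      have hd2 : fD d = g a := hd'
      rw [← hd2, he]
    exact ((notMem_maximalIdeal.1 hne).map g).ne_zero h2
  have htop : (⊤ : Submodule E0 D'') ≤ LinearMap.range (Algebra.linearMap E0 D'') := by
    refine Submodule.le_of_le_smul_of_le_jacobson_bot hfin.fg_top
      (IsLocalRing.maximalIdeal_le_jacobson ⊥) fun a _ => ?_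
    obtain ⟨e, he⟩ := hsurj a
    rw [← Algebra.FormallyUnramified.map_maximalIdeal (R := E0)] at he
    have h3 : a - algebraMap E0 D'' e ∈ (maximalIdeal E0) • (⊤ : Submodule E0 D'') := by
      rw [Ideal.smul_top_eq_map]; exact he
    rw [← add_sub_cancel (algebraMap E0 D'' e) a]
    exact add_mem (Submodule.mem_sup_left ⟨e, rfl⟩) (Submodule.mem_sup_right h3)
  intro x
  have hxD : Ideal.Quotient.mk Q (algebraMap D S x) ∈ D'' := by
    refine Submodule.span_induction (p := fun y _ => Ideal.Quotient.mk Q (algebraMap D S y) ∈ D'') ?_ ?_ ?_ ?_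
      (hgen.ge (Submodule.mem_top (x := x)))
    · intro y hy
      rw [← SetLike.mem_coe, hset]
      exact Subfield.subset_closure (Or.inr (Finset.mem_image_of_mem _ hy))
    · rw [map_zero, map_zero]; exact zero_mem _
    · intro y z _ _ hy hz
      rw [map_add, map_add]; exact add_mem hy hz
    · intro c y _ hy
      rw [Algebra.smul_def, map_mul, ← IsScalarTower.algebraMap_apply E0 D S, map_mul]
      exact mul_mem (D''.algebraMap_mem c) hy
  obtain ⟨e, he⟩ := htop (x := ⟨_, hxD⟩) trivial
  exact ⟨e, Ideal.Quotient.eq.1 (congrArg Subtype.val he).symm⟩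

omit [IsReduced E0] in
/-- The minimal primes are extended from the base. -/
theorem minimalPrimes_generated (hinj : Function.Injective (algebraMap D S))
    (hres : ∀ d : D, ∃ e : E0, d - algebraMap E0 D e ∈ maximalIdeal D)
    (hP : ∀ (p : Ideal D) (_ : p ∈ minimalPrimes D) (_ : IsLocalRing (D ⧸ p)), CAlg2.IsGeomUnibranch (D ⧸ p)) :
    ∀ Q ∈ minimalPrimes S, Q = (Q.comap (algebraMap E0 S)).map (algebraMap E0 S) := by
  refine (generated_iff E0 S).2 fun p hp hl => ?_
  obtain ⟨Q, hQ, -, hQp⟩ := exists_minimalPrimes_comap_eq E0 S p hp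
  haveI : Q.IsPrime := hQ.1.1
  let r : Ideal D := Q.comap (algebraMap D S)
  have hQp' : r.comap (algebraMap E0 D) = p := by rw [Ideal.comap_comap, ← IsScalarTower.algebraMap_eq]; exact hQp
  have hpr : p ≤ r.comap (algebraMap E0 D) := hQp'.ge
  let i : E0 ⧸ p →+* D ⧸ r := Ideal.quotientMap r (algebraMap E0 D) hpr
  have hi : Function.Bijective i := by
    refine ⟨Ideal.quotientMap_injective' hQp'.le, fun y => ?_⟩
    obtain ⟨d, rfl⟩ := Ideal.Quotient.mk_surjective y
    obtain ⟨e, he⟩ := exists_sub_mem E0 S D hinj hres hP Q hQ d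
    exact ⟨Ideal.Quotient.mk p e, (Ideal.Quotient.eq.2 (show d - algebraMap E0 D e ∈ r by rw [Ideal.mem_comap, map_sub, ← IsScalarTower.algebraMap_apply]; exact he)).symm⟩
  have hr : r ∈ minimalPrimes D := by
    refine ⟨⟨inferInstance, bot_le⟩, fun r' hr' hle => ?_⟩
    intro y hy
    haveI := hr'.1
    obtain ⟨e, he⟩ := exists_sub_mem E0 S D hinj hres hP Q hQ y
    have he' : y - algebraMap E0 D e ∈ r := by rw [Ideal.mem_comap, map_sub, ← IsScalarTower.algebraMap_apply]; exact he
    have hep : e ∈ p := hQp.le (show algebraMap E0 S e ∈ Q by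
      rw [IsScalarTower.algebraMap_apply E0 D S]; exact (show algebraMap E0 D e ∈ r by simpa using sub_mem hy he'))
    have hp' : p ≤ r'.comap (algebraMap E0 D) :=
      hp.2 ⟨inferInstance, bot_le⟩ ((Ideal.comap_mono hle).trans hQp'.le)
    by_contra hy'
    exact Ideal.comap_lt_comap_of_integral_mem_sdiff hle ⟨hy, hy'⟩ (Algebra.IsIntegral.isIntegral (R := E0) y)
      |>.not_ge (hQp'.le.trans hp')
  haveI := DualLib.GorFlat.isLocalRing_quot (le_maximalIdeal (Ideal.IsPrime.ne_top hr.1.1))
  rw [EGA43.FieldBranches.isGeomUnibranch_iff_numGeomBranches,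
    EGA43.FieldBranches.numGeomBranches_congr (RingEquiv.ofBijective i hi),
    ← EGA43.FieldBranches.isGeomUnibranch_iff_numGeomBranches]
  exact hP r hr inferInstance

/-- The subalgebra is the base. -/
theorem exists_eq (hinj : Function.Injective (algebraMap D S))
    (hres : ∀ d : D, ∃ e : E0, d - algebraMap E0 D e ∈ maximalIdeal D)
    (hP : ∀ (p : Ideal D) (_ : p ∈ minimalPrimes D) (_ : IsLocalRing (D ⧸ p)), CAlg2.IsGeomUnibranch (D ⧸ p)) (x : D) : ∃ e : E0, algebraMap E0 S e = algebraMap D S x := by
  classical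
  haveI : IsNoetherianRing S := EssEt6.isNoetherianRing_strict (A := E0) ‹_›
  haveI := EssEt6.flat_strict (A := E0) S
  haveI : Module.FaithfullyFlat E0 S := Module.FaithfullyFlat.of_flat_of_isLocalHom
  haveI : IsReduced S := (S2747.result E0 S).2 inferInstance
  have hgen0 := minimalPrimes_generated E0 S D hinj hres hP
  haveI : Finite (minimalPrimes S) := (minimalPrimes.finite_of_isNoetherianRing S).to_subtype
  letI := Fintype.ofFinite (minimalPrimes S)
  haveI hQp : ∀ Q : minimalPrimes S, Q.1.IsPrime := fun Q => Q.2.1.1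
  let φ : ∀ Q : minimalPrimes S, E0 →+* S ⧸ Q.1 := fun Q => (Ideal.Quotient.mk Q.1).comp (algebraMap E0 S)
  obtain ⟨a, ha⟩ := Unibr10.exists_separator φ fun i k hik => by
    obtain ⟨y, hy, hy'⟩ := SetLike.not_le_iff_exists.1 fun hle : k.1.comap (algebraMap E0 S) ≤ i.1.comap (algebraMap E0 S) => by
      refine hik (Subtype.ext (le_antisymm ?_ ?_))
      · refine i.2.2 ⟨hQp k, bot_le⟩ ?_ 
        rw [hgen0 k.1 k.2, hgen0 i.1 i.2]
        exact Ideal.map_mono hle
      · rw [hgen0 k.1 k.2, hgen0 i.1 i.2]
        exact Ideal.map_mono hle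
    exact ⟨y, (Ideal.Quotient.eq_zero_iff_mem (I := k.1)).2 hy, fun h0 => hy' ((Ideal.Quotient.eq_zero_iff_mem (I := i.1)).1 h0)⟩
  choose e he using fun Q : minimalPrimes S => exists_sub_mem E0 S D hinj hres hP Q.1 Q.2 x
  let c : E0 := ∑ Q, a Q
  let e' : E0 := ∑ Q, a Q * e Q
  have hjoint : ∀ z : S, (∀ Q : minimalPrimes S, Ideal.Quotient.mk Q.1 z = 0) → z = 0 := fun z hz => by
    have : z ∈ nilradical S := by
      rw [nilradical, Ideal.zero_eq_bot, ← Ideal.sInf_minimalPrimes, Submodule.mem_sInf]
      exact fun p hp => Ideal.Quotient.eq_zero_iff_mem.1 (hz ⟨p, hp⟩)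
    rwa [nilradical_eq_zero, Ideal.zero_eq_bot, Ideal.mem_bot] at this
  have hsum : ∀ (w : minimalPrimes S → E0) (Q : minimalPrimes S), φ Q (∑ R, a R * w R) = φ Q (a Q) * φ Q (w Q) :=
    fun w Q => by
      rw [map_sum, Finset.sum_eq_single Q (fun R _ hR => by rw [map_mul, (ha R).2 Q (Ne.symm hR), zero_mul])
        (fun h => absurd (Finset.mem_univ Q) h), map_mul]
  have hcQ : ∀ Q, φ Q c = φ Q (a Q) := fun Q => by
    have := hsum (fun _ => 1) Q
    simp only [mul_one, map_one] at this
    exact this
  have hmul : algebraMap E0 S c * algebraMap D S x = algebraMap E0 S e' := sub_eq_zero.1 (hjoint _ fun Q => by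
    rw [map_sub, map_mul, show Ideal.Quotient.mk Q.1 (algebraMap E0 S e') = φ Q e' from rfl,
      show Ideal.Quotient.mk Q.1 (algebraMap E0 S c) = φ Q c from rfl, hsum, hcQ, sub_eq_zero]
    exact congrArg _ (Ideal.Quotient.eq.2 (he Q)))
  have hmem : e' ∈ Ideal.span {c} := by
    rw [← Ideal.comap_map_eq_self_of_faithfullyFlat (B := S) (Ideal.span {c}), Ideal.mem_comap, Ideal.map_span,
      Set.image_singleton]
    exact Ideal.mem_span_singleton.2 ⟨algebraMap D S x, hmul.symm⟩
  obtain ⟨y, hy⟩ := Ideal.mem_span_singleton'.1 hmem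
  have hxy : algebraMap D S x - algebraMap E0 S y = 0 := hjoint _ fun Q => by
    have h1 : Ideal.Quotient.mk Q.1 (algebraMap E0 S c * (algebraMap D S x - algebraMap E0 S y)) = 0 := by
      rw [mul_sub, hmul, ← map_mul, mul_comm c, hy, sub_self, map_zero]
    rw [map_mul] at h1
    exact (mul_eq_zero.1 h1).resolve_left fun h0 => (ha Q).1 ((hcQ Q).symm.trans h0)
  exact ⟨y, (sub_eq_zero.1 hxy).symm⟩

end stage

section main

variable (A S : Type u) [CommRing A] [HenselianLocalRing A] [IsReduced A] [IsNoetherianRing A]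
  [CommRing S] [IsLocalRing S] [Algebra A S] [IsLocalHom (algebraMap A S)]
  [Hensel.IsStrictHenselization A S] (D : Subalgebra A S) [Module.Finite A D]

set_option maxHeartbeats 1600000 in
theorem etale_and_generated_iff :
    (Algebra.Etale A D ∧
        ∀ Q ∈ minimalPrimes S, Q = Ideal.map (algebraMap D S) (Q.comap (algebraMap D S))) ↔
      ∀ (M : Ideal (integralClosure D (FractionRing D))) [M.IsMaximal],
        separableClosure (Subfield.closure (Set.range ((algebraMap (integralClosure D (FractionRing D)) M.ResidueField).comp (algebraMap D (integralClosure D (FractionRing D)))))) M.ResidueField = ⊥ := by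
  classical
  haveI : IsReduced S := (S2747.result A S).2 inferInstance
  haveI := EssEt6.flat_strict (A := A) S
  have hfinD : (Subalgebra.toSubmodule D).FG := Module.Finite.iff_fg.1 ‹Module.Finite A D›
  obtain ⟨gen, hgen⟩ := hfinD
  obtain ⟨E, hsE, _, hlhE, hE, hfinE, -⟩ := EssEt6.exists_normal_stage A S gen
  have hDE : D ≤ E := fun x hx => by
    have : x ∈ Submodule.span A (gen : Set S) := hgen.ge hx
    exact Submodule.span_le.2 (show (gen : Set S) ⊆ Subalgebra.toSubmodule E from hsE) this
  have hsub : ∀ {B C : Subalgebra A S} (h : B ≤ C), Module.Finite A C → IsLocalHom (algebraMap C S) →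
      IsLocalHom (algebraMap B S) := by
    intro B C h hfin hloc
    letI : Algebra B C := (Subalgebra.inclusion h).toRingHom.toAlgebra
    haveI : IsScalarTower A B C := IsScalarTower.of_algebraMap_eq fun a => rfl
    haveI : Algebra.IsIntegral B C := Algebra.IsIntegral.tower_top A
    haveI : IsLocalHom (algebraMap B C) := RingHom.IsIntegral.isLocalHom
      (algebraMap_isIntegral_iff.2 inferInstance) (Subalgebra.inclusion_injective h)
    exact RingHom.isLocalHom_comp (algebraMap C S) (algebraMap B C)
  haveI hlhD : IsLocalHom (algebraMap D S) := hsub hDE hfinE hlhE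
  haveI : IsLocalRing D := EssEt6.isLocalRing_of_isLocalHom _
  haveI : HenselianLocalRing D := HenselLib.henselianLocalRing_of_isIntegral A D
  haveI : IsNoetherianRing D := IsNoetherianRing.of_finite A D
  haveI : IsReduced D := isReduced_of_injective (algebraMap D S) Subtype.val_injective
  haveI := EssEt6.isLocalHom_algebraMap (A := A) D
  rw [residue_condition_iff D]
  constructor
  · rintro ⟨het, hgenQ⟩
    haveI := het
    haveI : Module.Flat A D := Algebra.Smooth.flat A D
    haveI := isStrictHenselization_stage A S D EssEt6.of_flat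
    exact (generated_iff D S).1 hgenQ
  intro hP
  haveI hsepD := EssEt6.isSeparable_of_le hDE hE
  -- the etale subalgebra with the same residue field
  obtain ⟨E1, _, _, _, _, hfin1, het1, ⟨ε⟩⟩ := S16430.result A (ResidueField D)
  haveI : Module.Flat A E1 := Algebra.Smooth.flat A E1
  obtain ⟨ψ, ⟨-, hψ, hψr⟩, -⟩ := HenselLib.EssEtMaps.existsUnique_lift (EssEt6.of_flat (A := A) (B := E1)) D
    (algebraMap A D) ε.toRingHom (RingHom.ext fun x => ε.commutes x)
  let ψ' : E1 →ₐ[A] D := { ψ with commutes' := RingHom.congr_fun hψ }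
  let E0 : Subalgebra A S := (D.val.comp ψ').range
  have h0D : E0 ≤ D := by
    rintro _ ⟨e, rfl⟩
    exact (ψ' e).2
  haveI : Module.Finite A E0 :=
    Module.Finite.of_surjective (D.val.comp ψ').rangeRestrict.toLinearMap (D.val.comp ψ').rangeRestrict_surjective
  haveI : Algebra.FormallyUnramified A E0 :=
    Algebra.FormallyUnramified.of_surjective (D.val.comp ψ').rangeRestrict (D.val.comp ψ').rangeRestrict_surjective
  haveI hlh0 : IsLocalHom (algebraMap E0 S) := hsub h0D (inferInstanceAs (Module.Finite A D)) hlhD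
  haveI : IsLocalRing E0 := EssEt6.isLocalRing_of_isLocalHom _
  haveI := EssEt6.isLocalHom_algebraMap (A := A) E0
  haveI : IsLocalHom E0.val.toRingHom := hlh0
  have hE0 : EGA4loc.IsEssentiallyEtale A E0 := EssEt6.of_unramified E0.val Subtype.val_injective
  haveI := isStrictHenselization_stage A S E0 hE0
  haveI : HenselianLocalRing E0 := HenselLib.henselianLocalRing_of_isIntegral A E0
  haveI : IsNoetherianRing E0 := IsNoetherianRing.of_finite A E0
  haveI : Module.FaithfullyFlat E0 S := EssEt6.faithfullyFlat hE0 S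
  letI : Algebra E0 D := (Subalgebra.inclusion h0D).toRingHom.toAlgebra
  haveI : IsScalarTower A E0 D := IsScalarTower.of_algebraMap_eq fun a => rfl
  haveI : Module.Finite E0 D := Module.Finite.of_restrictScalars_finite A E0 D
  have hres : ∀ d : D, ∃ e : E0, d - algebraMap E0 D e ∈ maximalIdeal D := fun d => by
    obtain ⟨z, hz⟩ := ε.surjective (residue D d)
    obtain ⟨e1, rfl⟩ := residue_surjective z
    refine ⟨(D.val.comp ψ').rangeRestrict e1, ?_⟩
    rw [← residue_eq_zero_iff, map_sub, sub_eq_zero, ← hz]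
    exact (hψr e1).symm
  have hinj0 : Function.Injective (algebraMap E0 D) := Subalgebra.inclusion_injective h0D
  haveI : IsScalarTower E0 D S := IsScalarTower.of_algebraMap_eq fun e => rfl
  haveI : IsLocalHom (algebraMap E0 D) := ⟨fun e he => IsUnit.of_map (algebraMap E0 S) e (he.map (algebraMap D S))⟩
  haveI : IsReduced E0 := isReduced_of_injective (algebraMap E0 S) Subtype.val_injective
  have hgen0 := minimalPrimes_generated E0 S D Subtype.val_injective hres hP
  have hle : D ≤ E0 := fun x hx => by
    obtain ⟨e, he⟩ := exists_eq E0 S D Subtype.val_injective hres hP ⟨x, hx⟩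
    rw [← show algebraMap E0 S e = x from he]
    exact e.2
  have heq : D = E0 := le_antisymm hle h0D
  haveI : Module.Flat A E0 := EssEt6.flat hE0
  haveI : Algebra.FinitePresentation A E0 := Algebra.FinitePresentation.of_finiteType.1 inferInstance
  have key : ∀ D' : Subalgebra A S, D' = E0 → Algebra.Etale A D' ∧
      ∀ Q ∈ minimalPrimes S, Q = Ideal.map (algebraMap D' S) (Q.comap (algebraMap D' S)) := by
    rintro _ rfl
    exact ⟨Algebra.Etale.of_formallyUnramified_of_flat, hgen0⟩
  exact key D heq

end main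

end Groth.Agent.CAlgH.StrictHenselExtended
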