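import Groth.Agent.CAlgH.StrictHenselExtended
import Groth.Agent.CAlgH.NagataBase
import Groth.Agent.CAlgH.Nagata
import Groth.Agent.S2654
import Mathlib

/-!
# Extension of minimal primes to the strict henselization from an essentially etale stage, via the
splitting of the separable residue extension of the normalization
-/

set_option autoImplicit false
set_option linter.style.haveILetI false
set_option linter.unusedSectionVars false
universe u

open IsLocalRing Polynomial TensorProduct

namespace Groth.Agent.CAlgH.StrictHenselSplit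

theorem excellent_finite (A : Type u) [CommRing A] [IsDomain A] (hA : EGA4.IsExcellent A) :
    Module.Finite A (integralClosure A (FractionRing A)) :=
  isN2_apply (isN2_of_ringEquiv (RingEquiv.quotientBot A)
      ((_root_.Groth.Agent.S2654.result A ⟨hA.1, hA.2.2.1, hA.2.2.2⟩).2 ⊥))
    (FractionRing A) (FractionRing A)

/-- Normalization commutes with an etale local algebra. -/
theorem exists_normalization_equiv (A E : Type u) [CommRing A] [IsLocalRing A] [IsDomain A]
    [IsNoetherianRing A] [CommRing E] [IsLocalRing E] [Algebra A E] [IsLocalHom (algebraMap A E)]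
    [Algebra.Smooth A E] (hE : EGA4loc.IsEssentiallyEtale A E) :
    ∃ e : E ⊗[A] integralClosure A (FractionRing A) ≃+* integralClosure E (FractionRing E),
      e.toRingHom.comp (algebraMap E _) = algebraMap E _ := by
  haveI := EssEt6.isLocalization_fractionRing (minimalPrimes.finite_of_isNoetherianRing A) hE
  haveI : IsLocalization ((nonZeroDivisors A).map (algebraMap A E)) (E ⊗[A] FractionRing A) :=
    inferInstanceAs (IsLocalization (Algebra.algebraMapSubmonoid E (nonZeroDivisors A)) (E ⊗[A] FractionRing A))
  let e1 : E ⊗[A] FractionRing A ≃ₐ[E] FractionRing E :=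
    IsLocalization.algEquiv ((nonZeroDivisors A).map (algebraMap A E)) _ _
  let e : E ⊗[A] integralClosure A (FractionRing A) ≃ₐ[E] integralClosure E (FractionRing E) :=
    (AlgEquiv.ofBijective _ (TensorProduct.toIntegralClosure_bijective_of_smooth
      (R := A) (S := E) (B := FractionRing A))).trans e1.mapIntegralClosure
  exact ⟨e.toRingEquiv, RingHom.ext e.commutes⟩

theorem mem_range_of_pow_mem {K L : Type u} [Field K] [Field L] [Algebra K L] (q : ℕ) [ExpChar K q]
    {x : L} (hs : IsSeparable K x) {n : ℕ} (hn : x ^ q ^ n ∈ (algebraMap K L).range) :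
    x ∈ (algebraMap K L).range := by
  have h1 : x ∈ separableClosure K L := mem_separableClosure_iff.2 hs
  have h2 : x ∈ perfectClosure K L := (mem_perfectClosure_iff_pow_mem (F := K) (E := L) q).2 ⟨n, hn⟩
  have h : x ∈ separableClosure K L ⊓ perfectClosure K L := ⟨h1, h2⟩
  rw [separableClosure_inf_perfectClosure, IntermediateField.mem_bot] at h
  exact h

variable (A E N : Type u) [CommRing A] [IsLocalRing A] [CommRing E] [IsLocalRing E] [CommRing N] [IsLocalRing N]
  [Algebra A E] [IsLocalHom (algebraMap A E)] [Algebra A N] [IsLocalHom (algebraMap A N)]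
  [Module.Finite A E] [Module.Finite A N]

theorem sepTriv_tensor_iff :
    RootTriv.SepTriv (algebraMap E (E ⊗[A] N)) ↔
      Nat.card (separableClosure (ResidueField A) (ResidueField N) →ₐ[ResidueField A] ResidueField E) =
        Module.finrank (ResidueField A) (separableClosure (ResidueField A) (ResidueField N)) := by
  classical
  let kA := ResidueField A
  let kE := ResidueField E
  let kN := ResidueField N
  haveI : FiniteDimensional kA kN := inferInstance
  let ks := separableClosure kA kN
  haveI : FiniteDimensional kA ks := inferInstance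
  haveI : Algebra.IsSeparable kA ks := separableClosure.isSeparable kA kN
  haveI : IsPurelyInseparable ks kN := separableClosure.isPurelyInseparable kA kN
  let q := ringExpChar kA
  haveI : ExpChar kA q := inferInstance
  haveI : Algebra.IsIntegral E (E ⊗[A] N) := inferInstance
  have hcomap : ∀ (L : Type u) [Field L] (g : E ⊗[A] N →+* L), (RingHom.ker g).IsMaximal →
      (RingHom.ker (g.comp (algebraMap E _))).IsMaximal := fun L _ g hg => by
    haveI := hg
    rw [← RingHom.comap_ker]
    exact Ideal.isMaximal_comap_of_isIntegral_of_isMaximal _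
  constructor
  · intro h
    let Ω := AlgebraicClosure kE
    haveI : Algebra.IsAlgebraic kA kN := Algebra.IsAlgebraic.of_finite kA kN
    have hτ : ∀ τ : ks →ₐ[kA] Ω, ∀ a : ks, τ a ∈ (algebraMap kE Ω).range := by
      intro τ a
      letI : Algebra ks Ω := τ.toRingHom.toAlgebra
      haveI : IsScalarTower kA ks Ω := IsScalarTower.of_algebraMap_eq fun x => (τ.commutes x).symm
      haveI : Algebra.IsAlgebraic ks kN := Algebra.IsAlgebraic.tower_top (K := kA) ks
      let τ' : kN →ₐ[kA] Ω := (IsAlgClosed.lift : kN →ₐ[ks] Ω).restrictScalars kA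
      have hτ' : τ' (a : kN) = τ a := (IsAlgClosed.lift : kN →ₐ[ks] Ω).commutes a
      let l : E →ₐ[A] Ω := IsScalarTower.toAlgHom A E Ω
      let r : N →ₐ[A] Ω := (τ'.restrictScalars A).comp (IsScalarTower.toAlgHom A N kN)
      let g0 : E ⊗[A] N →+* Ω := (Algebra.TensorProduct.lift l r fun _ _ => Commute.all _ _).toRingHom
      have hgl : ∀ e : E, g0 (algebraMap E _ e) = algebraMap kE Ω (residue E e) := fun e => by
        show Algebra.TensorProduct.lift l r _ (e ⊗ₜ[A] (1 : N)) = _
        rw [Algebra.TensorProduct.lift_tmul, map_one, mul_one]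
        exact IsScalarTower.algebraMap_apply E kE Ω e
      have hgr : ∀ y : N, g0 ((1 : E) ⊗ₜ[A] y) = τ' (residue N y) := fun y => by
        show Algebra.TensorProduct.lift l r _ ((1 : E) ⊗ₜ[A] y) = _
        rw [Algebra.TensorProduct.lift_tmul, map_one, one_mul]
        rfl
      let P := RingHom.ker g0
      haveI : P.IsPrime := RingHom.ker_isPrime g0
      have hP : P.comap (algebraMap E _) = maximalIdeal E := by
        ext e
        rw [Ideal.mem_comap, RingHom.mem_ker, hgl, map_eq_zero_iff _ (algebraMap kE Ω).injective, residue_eq_zero_iff]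
      haveI : P.IsMaximal := Ideal.isMaximal_of_isIntegral_of_isMaximal_comap P
        (by show (P.comap (algebraMap E _)).IsMaximal; rw [hP]; infer_instance)
      letI : Field ((E ⊗[A] N) ⧸ P) := Ideal.Quotient.field P
      let ι : (E ⊗[A] N) ⧸ P →+* Ω := RingHom.kerLift g0
      obtain ⟨y, hy⟩ := residue_surjective (a : kN)
      have h1 := (RootTriv.rootTriv_iff_pow_mem _
        (hcomap _ (Ideal.Quotient.mk P) (by rw [Ideal.mk_ker]; infer_instance))
        (fun x => by
          obtain ⟨z, rfl⟩ := Ideal.Quotient.mk_surjective x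
          obtain ⟨p, hm, h0⟩ := Algebra.IsIntegral.isIntegral (R := E) z
          exact ⟨p, hm, by rw [← hom_eval₂, h0, map_zero]⟩)).1 (h _ (Ideal.Quotient.mk P) Ideal.Quotient.mk_surjective)
        (Ideal.Quotient.mk P ((1 : E) ⊗ₜ[A] y))
      obtain ⟨n, e, he⟩ := h1
      have he' := congrArg ι he
      rw [map_pow] at he'
      change g0 (algebraMap E _ e) = g0 ((1 : E) ⊗ₜ[A] y) ^ _ at he'
      rw [hgl, hgr, hy, hτ'] at he'
      haveI : ExpChar kE q := expChar_of_injective_algebraMap (algebraMap kA kE).injective q
      haveI : ExpChar Ω q := expChar_of_injective_algebraMap (algebraMap kE Ω).injective q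
      haveI : ExpChar ((E ⊗[A] N) ⧸ P) q := ι.expChar ι.injective q
      rw [ringExpChar.eq ((E ⊗[A] N) ⧸ P) q] at he'
      refine mem_range_of_pow_mem q ?_ (n := n) ⟨residue E e, he'⟩
      exact IsSeparable.tower_top kE (IsSeparable.map τ τ.toRingHom.injective (Algebra.IsSeparable.isSeparable kA a))
    let F : (ks →ₐ[kA] kE) → (ks →ₐ[kA] Ω) := fun σ => (IsScalarTower.toAlgHom kA kE Ω).comp σ
    have hF : Function.Bijective F := by
      refine ⟨fun σ σ' hσ => AlgHom.ext fun a => (algebraMap kE Ω).injective (AlgHom.congr_fun hσ a), fun τ => ?_⟩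
      choose σ hσ using hτ τ
      refine ⟨AlgHom.mk { toFun := σ
                          map_one' := (algebraMap kE Ω).injective (by rw [hσ, map_one, map_one])
                          map_mul' := fun x y => (algebraMap kE Ω).injective (by rw [hσ, map_mul, map_mul, hσ, hσ])
                          map_zero' := (algebraMap kE Ω).injective (by rw [hσ, map_zero, map_zero])
                          map_add' := fun x y => (algebraMap kE Ω).injective (by rw [hσ, map_add, map_add, hσ, hσ]) }
        (fun x => (algebraMap kE Ω).injective ((hσ _).trans ((τ.commutes x).trans (IsScalarTower.algebraMap_apply kA kE Ω x)))),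
        AlgHom.ext hσ⟩
    rw [Nat.card_congr (Equiv.ofBijective F hF)]
    exact AlgHom.natCard_of_splits kA ks Ω fun x => IsAlgClosed.splits _
  · intro hcard L _ g hg
    haveI := RingHom.ker_isMaximal_of_surjective g hg
    haveI hkerE : (RingHom.ker (g.comp (algebraMap E _))).IsMaximal := hcomap L g inferInstance
    rw [RootTriv.rootTriv_iff_pow_mem _ hkerE (fun x => by
      obtain ⟨z, rfl⟩ := hg x
      obtain ⟨p, hm, h0⟩ := Algebra.IsIntegral.isIntegral (R := E) z
      exact ⟨p, hm, by rw [← hom_eval₂, h0, map_zero]⟩)]
    let gE : E →+* L := g.comp (algebraMap E _)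
    let gN : N →+* L := g.comp (Algebra.TensorProduct.includeRight : N →ₐ[A] E ⊗[A] N).toRingHom
    have hEA : gN.comp (algebraMap A N) = gE.comp (algebraMap A E) := RingHom.ext fun a => congrArg g (by
      show (Algebra.TensorProduct.includeRight : N →ₐ[A] E ⊗[A] N) (algebraMap A N a) = _
      rw [AlgHom.commutes, IsScalarTower.algebraMap_apply A E (E ⊗[A] N)])
    have hkE : RingHom.ker gE = maximalIdeal E := eq_maximalIdeal hkerE
    have hkA : RingHom.ker (gE.comp (algebraMap A E)) = maximalIdeal A := by
      rw [← RingHom.comap_ker, hkE, maximalIdeal_comap]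
    have hkN : RingHom.ker gN = maximalIdeal N := by
      haveI := RingHom.ker_isPrime gN
      refine eq_maximalIdeal (Ideal.isMaximal_of_isIntegral_of_isMaximal_comap (R := A) _ ?_)
      show ((RingHom.ker gN).comap (algebraMap A N)).IsMaximal
      rw [RingHom.comap_ker, hEA, hkA]; infer_instance
    let jE : kE →+* L := Ideal.Quotient.lift _ gE fun x hx => RingHom.mem_ker.1 (hkE.ge hx)
    let jN : kN →+* L := Ideal.Quotient.lift _ gN fun x hx => RingHom.mem_ker.1 (hkN.ge hx)
    have hjE : ∀ e, jE (residue E e) = gE e := fun e => rfl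
    have hjN : ∀ y, jN (residue N y) = gN y := fun y => rfl
    letI : Algebra kA L := (jE.comp (algebraMap kA kE)).toAlgebra
    let σE : kE →ₐ[kA] L := { jE with commutes' := fun _ => rfl }
    have hc : ∀ x, jN (algebraMap kA kN x) = algebraMap kA L x := fun x => by
      obtain ⟨a, rfl⟩ := residue_surjective x
      exact RingHom.congr_fun hEA a
    let σN : kN →ₐ[kA] L := { jN with commutes' := hc }
    let G : (ks →ₐ[kA] kE) → (ks →ₐ[kA] L) := fun σ => σE.comp σ
    have hG : Function.Bijective G := by
      refine Function.Injective.bijective_of_nat_card_le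
        (fun σ σ' hσ => AlgHom.ext fun a => jE.injective (AlgHom.congr_fun hσ a)) ?_
      rw [hcard]
      exact card_algHom_le_finrank kA ks L
    obtain ⟨σ, hσ⟩ := hG.2 (σN.comp ks.val)
    let q' := ringExpChar L
    haveI : ExpChar kA q' := (algebraMap kA L).expChar (RingHom.injective _) q'
    haveI : ExpChar ks q' := expChar_of_injective_algebraMap (algebraMap kA ks).injective q'
    intro x
    obtain ⟨z, rfl⟩ := hg x
    induction z using TensorProduct.induction_on with
    | zero => exact ⟨0, 0, by simp⟩
    | add x y hx hy =>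
      obtain ⟨n, e, he⟩ := hx
      obtain ⟨m, e', he'⟩ := hy
      refine ⟨n + m, e ^ q' ^ m + e' ^ q' ^ n, ?_⟩
      rw [map_add, map_pow, map_pow, he, he', map_add g, add_pow_expChar_pow, ← pow_mul, ← pow_mul, ← pow_add, ← pow_add, add_comm m n]
    | tmul e y =>
      obtain ⟨n, s, hs⟩ := (isPurelyInseparable_iff_pow_mem ks q').1 inferInstance (residue N y)
      obtain ⟨e', he'⟩ := residue_surjective (σ s)
      refine ⟨n, e ^ q' ^ n * e', ?_⟩
      have hgt : g (e ⊗ₜ[A] y) = gE e * gN y := by
        show g (e ⊗ₜ[A] y) = g (e ⊗ₜ[A] (1 : N)) * g ((1 : E) ⊗ₜ[A] y)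
        rw [← map_mul, Algebra.TensorProduct.tmul_mul_tmul, mul_one, one_mul]
      rw [map_mul, map_pow, hgt, mul_pow]
      congr 1
      show gE e' = _
      rw [← hjE, he', ← hjN, ← map_pow, ← hs]
      exact AlgHom.congr_fun hσ s

theorem main (A S E : Type u) [CommRing A] [HenselianLocalRing A] [IsDomain A] (hA : EGA4.IsExcellent A)
    [IsLocalRing (integralClosure A (FractionRing A))] [IsLocalHom (algebraMap A (integralClosure A (FractionRing A)))]
    [CommRing S] [IsLocalRing S] [Algebra A S] [IsLocalHom (algebraMap A S)]
    [Hensel.IsStrictHenselization A S]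
    [CommRing E] [IsLocalRing E] [Algebra A E] [IsLocalHom (algebraMap A E)]
    (hE : EGA4loc.IsEssentiallyEtale A E) [Algebra E S] [IsScalarTower A E S] :
    (∀ Q ∈ minimalPrimes S, Q = Ideal.map (algebraMap E S) (Q.comap (algebraMap E S))) ↔
      Nat.card (separableClosure (ResidueField A) (ResidueField (integralClosure A (FractionRing A))) →ₐ[ResidueField A]
          ResidueField E) =
        Module.finrank (ResidueField A)
          (separableClosure (ResidueField A) (ResidueField (integralClosure A (FractionRing A)))) := by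
  haveI : IsNoetherianRing A := hA.1
  haveI := EssEt6.finite_of_henselian hE
  haveI := EssEt6.flat hE
  haveI := EssEt6.formallyUnramified hE
  haveI : IsNoetherianRing E := IsNoetherianRing.of_finite A E
  haveI : Algebra.FinitePresentation A E := Algebra.FinitePresentation.of_finiteType.1 inferInstance
  haveI : Algebra.Etale A E := Algebra.Etale.of_formallyUnramified_of_flat
  haveI : HenselianLocalRing E := HenselLib.henselianLocalRing_of_isIntegral A E
  haveI : IsReduced E := EssEt6.isReduced hE
  haveI := excellent_finite A hA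
  haveI : IsLocalHom (algebraMap E S) := ((local_hom_TFAE (algebraMap E S)).out 4 0).mp (by
    haveI : ((maximalIdeal S).comap (algebraMap E S)).IsPrime := Ideal.comap_isPrime _ _
    refine eq_maximalIdeal (Ideal.isMaximal_of_isIntegral_of_isMaximal_comap (R := A) _ ?_)
    show (((maximalIdeal S).comap (algebraMap E S)).comap (algebraMap A E)).IsMaximal
    rw [Ideal.comap_comap, ← IsScalarTower.algebraMap_eq, maximalIdeal_comap]
    infer_instance)
  haveI := StrictHenselExtended.isStrictHenselization_stage A S E hE
  obtain ⟨e, he⟩ := exists_normalization_equiv A E hE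
  rw [StrictHenselExtended.generated_iff E S, ← StrictHenselExtended.residue_condition_iff E,
    ← RootTriv.sepTriv_algebraMap_iff, ← he, RootTriv.sepTriv_ringEquiv_comp]
  exact sepTriv_tensor_iff A E _

end Groth.Agent.CAlgH.StrictHenselSplit
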