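import Groth.Agent.CAlgH.SyntomicCut
import Groth.Agent.CAlgH.SmoothLift
import Groth.Agent.Synt15.SmoothSyntomic
import Mathlib

/-! Lifting syntomic algebras along a surjection `R → R/I`. -/

set_option autoImplicit false
set_option linter.style.haveILetI false
universe u

open MvPolynomial

namespace Groth.Agent.CAlgH.SyntomicLift

variable {R A₀ : Type u} [CommRing R] [CommRing A₀] [Algebra R A₀]

theorem exists_conormal_data (I : Ideal R) [Algebra (R ⧸ I) A₀] [IsScalarTower R (R ⧸ I) A₀]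
    (hA : Synt.IsSyntomic (R ⧸ I) A₀) :
    ∃ (n m : ℕ) (q₀ : MvPolynomial (Fin n) R →ₐ[R] A₀) (f : Fin m → MvPolynomial (Fin n) R)
      (Q : Matrix (Fin m) (Fin m) (MvPolynomial (Fin n) R)),
      Function.Surjective q₀ ∧
      RingHom.ker q₀ = Ideal.span (Set.range f) ⊔ I.map (algebraMap R (MvPolynomial (Fin n) R)) ∧
      Q.map q₀ * Q.map q₀ = Q.map q₀ ∧
      (∀ j, f j - ∑ k, Q j k * f k ∈
        RingHom.ker q₀ ^ 2 ⊔ I.map (algebraMap R (MvPolynomial (Fin n) R))) ∧
      ∀ w : Fin m → MvPolynomial (Fin n) R,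
        ∑ j, w j * f j ∈ RingHom.ker q₀ ^ 2 ⊔ I.map (algebraMap R (MvPolynomial (Fin n) R)) →
          ∀ k, ∑ j, q₀ (w j) * q₀ (Q j k) = 0 := by
  classical
  haveI := hA.2.1
  obtain ⟨n, φ, hφ, hφfg⟩ := Algebra.FinitePresentation.out (R := R ⧸ I) (A := A₀)
  let P := MvPolynomial (Fin n) R
  let P₀ := MvPolynomial (Fin n) (R ⧸ I)
  let red : P →+* P₀ := MvPolynomial.map (Ideal.Quotient.mk I)
  have hred : Function.Surjective red := MvPolynomial.map_surjective _ Ideal.Quotient.mk_surjective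
  have hredker : RingHom.ker red = I.map (algebraMap R P) := by
    show RingHom.ker (MvPolynomial.map (Ideal.Quotient.mk I)) = _
    rw [MvPolynomial.ker_map, Ideal.mk_ker]; rfl
  let q₀ : P →ₐ[R] A₀ :=
    { φ.toRingHom.comp red with
      commutes' := fun r => by
        show φ (red (C r)) = algebraMap R A₀ r
        rw [show red (C r) = C (Ideal.Quotient.mk I r) from map_C _ r]
        exact (φ.commutes _).trans (IsScalarTower.algebraMap_apply R (R ⧸ I) A₀ r).symm }
  let J₀ : Ideal P₀ := RingHom.ker φ.toRingHom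
  haveI : Algebra.Smooth (R ⧸ I) P₀ := ⟨inferInstance, inferInstance⟩
  obtain ⟨hfin, hproj⟩ := Synt15.projective_cotangent J₀ hφfg
    (Synt15.isSyntomic_congr (Ideal.quotientKerAlgEquivOfSurjective hφ).symm hA)
  obtain ⟨m, fb, hfb⟩ := Submodule.fg_iff_exists_fin_generating_family.1 hφfg
  choose f hf using fun j => hred (fb j)
  have hfJ : ∀ j, fb j ∈ J₀ := fun j => hfb.le (Ideal.subset_span ⟨j, rfl⟩)
  let F : Fin m → J₀.Cotangent := fun j => J₀.toCotangent ⟨fb j, hfJ j⟩
  let κ : (Fin m → P₀ ⧸ J₀) →ₗ[P₀ ⧸ J₀] J₀.Cotangent := Fintype.linearCombination (P₀ ⧸ J₀) F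
  have hκw : ∀ w : Fin m → P₀, κ (fun j => Ideal.Quotient.mk J₀ (w j)) =
      J₀.toCotangent ⟨∑ j, w j * fb j, Ideal.sum_mem _ fun j _ => Ideal.mul_mem_left _ _ (hfJ j)⟩ := by
    intro w
    have h1 : (⟨∑ j, w j * fb j, Ideal.sum_mem _ fun j _ => Ideal.mul_mem_left _ _ (hfJ j)⟩ : J₀) =
        ∑ j, w j • (⟨fb j, hfJ j⟩ : J₀) := Subtype.ext (by simp)
    rw [h1, map_sum, Fintype.linearCombination_apply]
    refine Finset.sum_congr rfl fun j _ => ?_
    rw [map_smul]
    exact algebraMap_smul (P₀ ⧸ J₀) (w j) (F j)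
  have hκs : Function.Surjective κ := by
    intro x
    obtain ⟨⟨y, hy⟩, rfl⟩ := J₀.toCotangent_surjective x
    obtain ⟨w, hw⟩ := (Submodule.mem_span_range_iff_exists_fun P₀).1 (hfb.ge hy)
    exact ⟨fun j => Ideal.Quotient.mk J₀ (w j), (hκw w).trans (congrArg _ (Subtype.ext hw))⟩
  obtain ⟨σ, hσ⟩ := Module.projective_lifting_property κ LinearMap.id hκs
  have hσκ : ∀ x, κ (σ x) = x := fun x => LinearMap.congr_fun hσ x
  choose Q hQ using fun j k => (Ideal.Quotient.mk_surjective.comp hred) (σ (F j) k)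
  let ι : P₀ ⧸ J₀ →+* A₀ := RingHom.kerLift φ.toRingHom
  have hq₀ι : ∀ x, q₀ x = ι (Ideal.Quotient.mk J₀ (red x)) := fun x => rfl
  have hker : RingHom.ker q₀ = Ideal.span (Set.range f) ⊔ I.map (algebraMap R P) := by
    have h1 : (Ideal.span (Set.range f)).map red = J₀ := by
      rw [Ideal.map_span, ← Set.range_comp, show red ∘ f = fb from funext hf]
      exact hfb
    rw [show RingHom.ker q₀ = J₀.comap red from rfl, ← h1, Ideal.comap_map_of_surjective red hred,
      ← RingHom.ker_eq_comap_bot, hredker]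
  have hsq : ∀ x, x ∈ RingHom.ker q₀ ^ 2 ⊔ I.map (algebraMap R P) ↔ red x ∈ J₀ ^ 2 := fun x => by
    have h1 : (RingHom.ker q₀ ^ 2).map red = J₀ ^ 2 := by
      rw [Ideal.map_pow, show RingHom.ker q₀ = J₀.comap red from rfl, Ideal.map_comap_of_surjective red hred]
    rw [← Ideal.mem_comap, ← h1, Ideal.comap_map_of_surjective red hred, ← RingHom.ker_eq_comap_bot,
      hredker]
  refine ⟨n, m, q₀, f, Matrix.of Q, hφ.comp hred, hker, ?_, fun j => ?_, fun w hw k => ?_⟩
  · ext j l
    simp only [Matrix.mul_apply, Matrix.map_apply, Matrix.of_apply, hq₀ι]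
    simp only [show ∀ a b, Ideal.Quotient.mk J₀ (red (Q a b)) = σ (F a) b from hQ, ← map_mul, ← map_sum]
    congr 1
    have h1 := congrArg (fun x => σ x l) (hσκ (F j))
    simp only [κ, Fintype.linearCombination_apply, map_sum, map_smul, Finset.sum_apply, Pi.smul_apply,
      smul_eq_mul] at h1
    exact h1
  · rw [hsq, ← Ideal.toCotangent_eq_zero J₀ ⟨_, ?_⟩]
    swap
    · have : q₀ (f j - ∑ k, Q j k * f k) = 0 := by
        rw [← RingHom.mem_ker, hker]
        exact Submodule.mem_sup_left (sub_mem (Ideal.subset_span ⟨j, rfl⟩)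
          (Ideal.sum_mem _ fun k _ => Ideal.mul_mem_left _ _ (Ideal.subset_span ⟨k, rfl⟩)))
      exact this
    have h1 := hκw (fun k => red (Q j k))
    rw [show (fun k => Ideal.Quotient.mk J₀ (red (Q j k))) = σ (F j) from funext (hQ j), hσκ] at h1
    rw [← sub_eq_zero.2 h1, ← map_sub]
    refine congrArg _ (Subtype.ext ?_)
    simp [map_sub, map_sum, map_mul, hf]
  · have h0 : κ (fun j => Ideal.Quotient.mk J₀ (red (w j))) = 0 := by
      rw [hκw, Ideal.toCotangent_eq_zero]
      rw [hsq, map_sum] at hw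
      simpa [map_mul, hf] using hw
    have h1 := congrArg (fun x => ι (σ x k)) h0
    simp only [κ, Fintype.linearCombination_apply, map_sum, map_smul, Finset.sum_apply, Pi.smul_apply,
      smul_eq_mul, map_mul, map_zero, Pi.zero_apply] at h1
    rw [← h1]
    exact Finset.sum_congr rfl fun j _ => by
      rw [hq₀ι, hq₀ι, Matrix.of_apply, show Ideal.Quotient.mk J₀ (red (Q j k)) = σ (F j) k from hQ j k]

open Groth.Agent.CAlgH.IdemEtale in
/-- An étale neighbourhood on which the idempotent lifts. -/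
theorem exists_etale_cut (I : Ideal R) [Algebra (R ⧸ I) A₀] [IsScalarTower R (R ⧸ I) A₀]
    {n m : ℕ} (q₀ : MvPolynomial (Fin n) R →ₐ[R] A₀) (f : Fin m → MvPolynomial (Fin n) R)
    (Q : Matrix (Fin m) (Fin m) (MvPolynomial (Fin n) R)) (hq₀ : Function.Surjective q₀)
    (hker : RingHom.ker q₀ = Ideal.span (Set.range f) ⊔ I.map (algebraMap R (MvPolynomial (Fin n) R)))
    (hee : Q.map q₀ * Q.map q₀ = Q.map q₀)
    (hfQ : ∀ j, f j - ∑ k, Q j k * f k ∈
        RingHom.ker q₀ ^ 2 ⊔ I.map (algebraMap R (MvPolynomial (Fin n) R)))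
    (hkill : ∀ w : Fin m → MvPolynomial (Fin n) R,
        ∑ j, w j * f j ∈ RingHom.ker q₀ ^ 2 ⊔ I.map (algebraMap R (MvPolynomial (Fin n) R)) →
          ∀ k, ∑ j, q₀ (w j) * q₀ (Q j k) = 0) :
    ∃ (P : Type u) (_ : CommRing P) (_ : Algebra R P) (_ : Algebra.Smooth R P) (q : P →ₐ[R] A₀)
      (F : Fin m → P) (E : Matrix (Fin m) (Fin m) P),
      Function.Surjective q ∧ RingHom.ker q = Ideal.span (Set.range F) ⊔ I.map (algebraMap R P) ∧
      (∀ j, ∑ k, E j k * F k = F j) ∧
      ∀ w : Fin m → P, ∑ j, w j * F j ∈ I.map (algebraMap R P) → ∀ k, q (∑ j, w j * E j k) = 0 := by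
  classical
  rcases subsingleton_or_nontrivial A₀ with hA | hA
  · refine ⟨PUnit, inferInstance, inferInstance, ?_,
      { toFun := fun _ => 0
        map_one' := Subsingleton.elim _ _
        map_mul' := fun _ _ => Subsingleton.elim _ _
        map_zero' := rfl
        map_add' := fun _ _ => Subsingleton.elim _ _
        commutes' := fun _ => Subsingleton.elim _ _ }, fun _ => PUnit.unit, 0,
      fun a => ⟨PUnit.unit, Subsingleton.elim _ _⟩, ?_, fun _ => Subsingleton.elim _ _,
      fun w _ k => Subsingleton.elim _ _⟩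
    · haveI : Algebra.IsStandardSmooth R PUnit.{u+1} :=
        (Algebra.SubmersivePresentation.ofSubsingleton R PUnit.{u+1}).isStandardSmooth
      infer_instance
    · refine Ideal.ext fun x => ⟨fun _ => ?_, fun _ => Subsingleton.elim _ _⟩
      rw [show x = 0 from Subsingleton.elim _ _]; exact zero_mem _
  let P := MvPolynomial (Fin n) R
  have hIker : I.map (algebraMap R P) ≤ RingHom.ker q₀ := hker ▸ le_sup_right
  letI : Algebra P A₀ := q₀.toRingHom.toAlgebra
  haveI : IsScalarTower R P A₀ := IsScalarTower.of_algHom q₀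
  let e : Matrix (Fin m) (Fin m) A₀ := Q.map (algebraMap P A₀)
  obtain ⟨y₀, hy₀, hye⟩ := exists_coord_of_isIdempotentElem Q e rfl hee
  let χ := Q.charpoly
  haveI : Nontrivial P := (algebraMap P A₀).domain_nontrivial
  have hχdeg : χ.natDegree = m := by rw [Matrix.charpoly_natDegree_eq_dim, Fintype.card_fin]
  let P' := IdemAlg χ m
  haveI : Algebra.Etale P P' := IdemEtale.etale χ Q.charpoly_monic hχdeg
  haveI : Algebra.Smooth R P := ⟨inferInstance, inferInstance⟩
  haveI : Algebra.Smooth R P' := Algebra.Smooth.comp R P P'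
  let q' : P' →ₐ[P] A₀ := Ideal.Quotient.liftₐ _ (aeval y₀) fun x hx => by
    refine RingHom.mem_ker.1 ((Ideal.span_le (I := RingHom.ker (aeval y₀))).2 ?_ hx)
    rintro _ ⟨l, rfl⟩
    exact hy₀ l
  have hq'c : ∀ p : P, q' (algebraMap P P' p) = q₀ p := fun p => q'.commutes p
  have hq'X : ∀ a, q' (coord (m := m) χ a) = y₀ a := fun a => by
    show aeval y₀ (X a) = y₀ a
    exact aeval_X _ _
  let E : Matrix (Fin m) (Fin m) P' :=
    ∑ a : Fin m, (coord (m := m) χ a : P') • (Q.map (algebraMap P P')) ^ (a : ℕ)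
  have hEE : E * E = E := by
    rw [← sub_eq_zero, sq_sub_eq (isRootLike_matrix Q) (coord χ)]
    refine Finset.sum_eq_zero fun l _ => ?_
    rw [aeval_coord, show Ideal.Quotient.mk _ (eqn Q.charpoly l) = (0 : P') from
      Ideal.Quotient.eq_zero_iff_mem.2 (Ideal.subset_span ⟨l, rfl⟩)]
    exact zero_smul P' (Q.map (algebraMap P P') ^ (l : ℕ))
  have hEe : E.map q' = e := by
    rw [← AlgHom.mapMatrix_apply]
    simp only [E, map_sum]
    refine Eq.trans (Finset.sum_congr rfl fun a _ => ?_) hye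
    rw [AlgHom.mapMatrix_apply, Matrix.map_smul' _ _ _ (map_mul q'), hq'X,
      ← AlgHom.mapMatrix_apply, map_pow, AlgHom.mapMatrix_apply, Matrix.map_map]
    congr 3
    ext p : 2
    exact hq'c p
  have hEe' : ∀ j k, q' (E j k) = q₀ (Q j k) := fun j k => congrFun (congrFun hEe j) k
  let fP : Fin m → P' := fun j => algebraMap P P' (f j)
  let g : Fin m → P' := fun j => ∑ k, E j k * fP k
  have hEg : ∀ j, ∑ k, E j k * g k = g j := by
    intro j
    show (E.mulVec (E.mulVec fP)) j = (E.mulVec fP) j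
    rw [Matrix.mulVec_mulVec, hEE]
  let J' := RingHom.ker q'
  let IP' := I.map (algebraMap R P')
  have hIP' : IP' = (I.map (algebraMap R P)).map (algebraMap P P') := by
    rw [Ideal.map_map, ← IsScalarTower.algebraMap_eq]
  have hIJ : IP' ≤ J' := by
    rw [hIP', Ideal.map_le_iff_le_comap]
    exact fun x hx => (hq'c x).trans (hIker hx)
  have hfJ : ∀ k, fP k ∈ J' := fun k =>
    (hq'c _).trans (hker.ge (Ideal.mem_sup_left (Ideal.subset_span ⟨k, rfl⟩)))
  have hgJ : ∀ j, g j ∈ J' := fun j => sum_mem fun k _ => Ideal.mul_mem_left _ _ (hfJ k)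
  choose yt hyt using fun a => hq₀ (y₀ a)
  let t : MvPolynomial (Fin m) P →ₐ[P] P' := Ideal.Quotient.mkₐ P _
  obtain ⟨hJZ, hgen⟩ := SmoothLift.kernel_le (A₀ := A₀) (P := P) (P' := P') I f hker t
    Ideal.Quotient.mk_surjective
    (eqn (m := m) χ) (Ideal.Quotient.mkₐ_ker P _) q' yt (fun a => (hq'X a).trans (hyt a).symm)
  let N := Ideal.span (Set.range g) ⊔ IP'
  have hNJ : N ≤ J' := sup_le (Ideal.span_le.2 (Set.range_subset_iff.2 hgJ)) hIJ
  have hkk : (RingHom.ker q₀).map (algebraMap P P') ≤ J' :=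
    Ideal.map_le_iff_le_comap.2 fun x hx => RingHom.mem_ker.2 ((hq'c x).trans (RingHom.mem_ker.1 hx))
  have hfN : ∀ j, fP j ∈ N ⊔ J' ^ 2 := by
    intro j
    have h1 : fP j - ∑ k, algebraMap P P' (Q j k) * fP k ∈ J' ^ 2 ⊔ IP' := by
      have h := Ideal.mem_map_of_mem (algebraMap P P') (hfQ j)
      simp only [map_sub, map_sum, map_mul, Ideal.map_sup, Ideal.map_pow, ← hIP'] at h
      have hle : (RingHom.ker q₀).map (algebraMap P P') ^ 2 ⊔ IP' ≤ J' ^ 2 ⊔ IP' :=
        sup_le_sup_right (Ideal.pow_right_mono hkk 2) _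
      refine hle ?_
      rw [hIP']
      exact h
    have h2 : ∀ k, (algebraMap P P' (Q j k) - E j k) * fP k ∈ J' ^ 2 := by
      intro k
      rw [pow_two]
      refine Ideal.mul_mem_mul ?_ (hfJ k)
      rw [RingHom.mem_ker, map_sub, hq'c, sub_eq_zero]
      exact (hEe' j k).symm
    have h3 : fP j = g j + ((fP j - ∑ k, algebraMap P P' (Q j k) * fP k) +
        ∑ k, (algebraMap P P' (Q j k) - E j k) * fP k) := by
      simp only [g, sub_mul, Finset.sum_sub_distrib]; ring
    rw [h3]
    refine add_mem (Ideal.mem_sup_left (Ideal.mem_sup_left (Ideal.subset_span ⟨j, rfl⟩))) (add_mem ?_ ?_)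
    · have hle : J' ^ 2 ⊔ IP' ≤ N ⊔ J' ^ 2 := sup_le le_sup_right (le_sup_right.trans le_sup_left)
      exact hle h1
    · exact Ideal.mem_sup_right (sum_mem fun k _ => h2 k)
  obtain ⟨G, hqG, hGJ⟩ := SmoothLift.exists_killer q'.toRingHom N hNJ
    (Set.range fP ∪ Set.range fun a => t (X a) - algebraMap P P' (yt a))
    ((Set.finite_range _).union (Set.finite_range _))
    (Set.union_subset (Set.range_subset_iff.2 hfJ) (Set.range_subset_iff.2 fun a => by
      rw [SetLike.mem_coe, RingHom.mem_ker]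
      show q' (t (X a) - algebraMap P P' (yt a)) = 0
      rw [map_sub, hq'c, hyt, sub_eq_zero]
      exact hq'X a))
    IP' le_sup_right hgen
    (hJZ.trans (sup_le (sup_le (Ideal.span_le.2 (Set.range_subset_iff.2 hfN))
      (le_sup_right.trans le_sup_left)) le_sup_right))
  -- localise
  let B := Localization.Away G
  haveI : Algebra.FormallySmooth P' B := Algebra.FormallySmooth.of_isLocalization (Submonoid.powers G)
  haveI : Algebra.Smooth P' B := ⟨inferInstance, IsLocalization.Away.finitePresentation G⟩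
  haveI : Algebra.Smooth R B := Algebra.Smooth.comp R P' B
  haveI : Algebra.Smooth P B := Algebra.Smooth.comp P P' B
  have hGu : IsUnit (q' G) := by rw [show q' G = 1 from hqG]; exact isUnit_one
  let qB : B →ₐ[P] A₀ := IsLocalization.Away.liftAlgHom (f := q') G hGu
  have hqB : ∀ x, qB (algebraMap P' B x) = q' x := fun x => IsLocalization.Away.lift_eq G hGu x
  have hqBP : ∀ p, qB (algebraMap P B p) = q₀ p := fun p => qB.commutes p
  have hqBR : ∀ r, qB (algebraMap R B r) = algebraMap R A₀ r := fun r => by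
    rw [IsScalarTower.algebraMap_apply R P B, hqBP]; exact q₀.commutes r
  let qR : B →ₐ[R] A₀ := { qB.toRingHom with commutes' := hqBR }
  let F : Fin m → B := fun j => algebraMap P' B (g j)
  let EB : Matrix (Fin m) (Fin m) B := E.map (algebraMap P' B)
  refine ⟨B, inferInstance, inferInstance, inferInstance, qR, F, EB, ?_, ?_, ?_, ?_⟩
  · intro a
    obtain ⟨p, hp⟩ := hq₀ a
    exact ⟨algebraMap P B p, (hqBP p).trans hp⟩
  · refine le_antisymm ?_ (sup_le (Ideal.span_le.2 ?_) (Ideal.map_le_iff_le_comap.2 fun r hr => ?_))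
    · intro x hx
      obtain ⟨⟨a, ⟨_, k, rfl⟩⟩, ha⟩ := IsLocalization.surj (Submonoid.powers G) x
      have hx' : qB x = 0 := hx
      have ha' : a ∈ J' := by
        rw [RingHom.mem_ker, ← hqB, ← ha, map_mul, hx', zero_mul]
      have h2 := Ideal.mem_map_of_mem (algebraMap P' B) (hGJ a ha')
      rw [Ideal.map_sup, Ideal.map_span, ← Set.range_comp, Ideal.map_map,
        ← IsScalarTower.algebraMap_eq, map_mul, ← ha, mul_left_comm] at h2
      exact (Ideal.mul_unit_mem_iff_mem _
        ((IsLocalization.Away.algebraMap_isUnit G).mul (IsLocalization.map_units B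
          (⟨G ^ k, k, rfl⟩ : Submonoid.powers G)))).1 (by simpa [mul_assoc, F, Function.comp_def] using h2)
    · rintro _ ⟨j, rfl⟩
      exact (hqB _).trans (hgJ j)
    · show qB (algebraMap R B r) = 0
      rw [hqBR, IsScalarTower.algebraMap_apply R (R ⧸ I) A₀, Ideal.Quotient.algebraMap_eq,
        Ideal.Quotient.eq_zero_iff_mem.2 hr, map_zero]
  · intro j
    show ∑ k, algebraMap P' B (E j k) * algebraMap P' B (g k) = algebraMap P' B (g j)
    rw [← hEg j, map_sum]
    exact Finset.sum_congr rfl fun k _ => (map_mul _ _ _).symm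
  · intro w hw k
    -- lift `qB` to the first infinitesimal neighbourhood
    let S₂ : Ideal P := RingHom.ker q₀ ^ 2 ⊔ I.map (algebraMap R P)
    let T := P ⧸ S₂
    let γ : T →ₐ[P] A₀ := Ideal.Quotient.liftₐ S₂ (Algebra.ofId P A₀) fun x hx =>
      RingHom.mem_ker.1 ((sup_le (Ideal.pow_le_self two_ne_zero) hIker : S₂ ≤ RingHom.ker q₀) hx)
    have hγ : ∀ x, γ (Ideal.Quotient.mk S₂ x) = q₀ x := fun x => rfl
    have hγs : Function.Surjective γ := fun a => by
      obtain ⟨x, hx⟩ := hq₀ a; exact ⟨Ideal.Quotient.mk S₂ x, hx⟩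
    have hγ0 : ∀ a b, γ a = 0 → γ b = 0 → a * b = 0 := by
      intro a b ha hb
      obtain ⟨a, rfl⟩ := Ideal.Quotient.mk_surjective a
      obtain ⟨b, rfl⟩ := Ideal.Quotient.mk_surjective b
      rw [← map_mul, Ideal.Quotient.eq_zero_iff_mem]
      exact Ideal.mem_sup_left (pow_two (RingHom.ker q₀) ▸ Ideal.mul_mem_mul ha hb)
    have hnil : IsNilpotent (RingHom.ker (γ : T →+* A₀)) := SmoothLift.isNilpotent_ker _ hγ0
    let ψ : B →ₐ[P] T := Algebra.FormallySmooth.liftOfSurjective qB γ hγs hnil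
    have hψ : ∀ x, γ (ψ x) = qB x := Algebra.FormallySmooth.liftOfSurjective_apply qB γ hγs hnil
    have hψF : ∀ j, ψ (F j) = Ideal.Quotient.mk S₂ (f j) := by
      intro j
      show ψ (algebraMap P' B (∑ k, E j k * fP k)) = _
      rw [map_sum, map_sum, ← sub_eq_zero,
        ← show Ideal.Quotient.mk S₂ (∑ k, Q j k * f k) = Ideal.Quotient.mk S₂ (f j) from
          ((Ideal.Quotient.eq).2 (hfQ j)).symm, map_sum, ← Finset.sum_sub_distrib]
      refine Finset.sum_eq_zero fun k _ => ?_
      rw [map_mul, map_mul, ← IsScalarTower.algebraMap_apply P P' B, AlgHom.commutes, map_mul,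
        ← Ideal.Quotient.algebraMap_eq, ← sub_mul]
      refine hγ0 _ _ ?_ ?_
      · rw [map_sub, hψ, hqB, hEe', AlgHom.commutes]; exact sub_self _
      · rw [AlgHom.commutes]; exact hker.ge (Ideal.mem_sup_left (Ideal.subset_span ⟨k, rfl⟩))
    choose W hW using fun j => Ideal.Quotient.mk_surjective (ψ (w j))
    have h0 : ∑ j, W j * f j ∈ S₂ := by
      rw [← Ideal.Quotient.eq_zero_iff_mem, map_sum]
      have h1 : ψ (∑ j, w j * F j) = 0 := by
        have hle : I.map (algebraMap R B) ≤ RingHom.ker ψ := Ideal.map_le_iff_le_comap.2 fun r hr => by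
          show ψ (algebraMap R B r) = 0
          rw [IsScalarTower.algebraMap_apply R P B, AlgHom.commutes, Ideal.Quotient.algebraMap_eq,
            Ideal.Quotient.eq_zero_iff_mem]
          exact Ideal.mem_sup_right (Ideal.mem_map_of_mem _ hr)
        exact hle hw
      rw [← h1, map_sum]
      exact Finset.sum_congr rfl fun j _ => by rw [map_mul, map_mul, hψF, hW]
    show qB (∑ j, w j * EB j k) = 0
    rw [← hkill W h0 k, map_sum]
    refine Finset.sum_congr rfl fun j _ => ?_
    rw [map_mul, ← hψ (w j), ← hW, hγ, show EB j k = algebraMap P' B (E j k) from rfl, hqB, hEe']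

attribute [local instance] Algebra.TensorProduct.rightAlgebra in
/-- A localization of a syntomic algebra is syntomic. -/
theorem isSyntomic_localization {S : Type u} [CommRing S] [Algebra R S] (h : Synt.IsSyntomic R S) (d : S) :
    Synt.IsSyntomic R (Localization.Away d) := by
  haveI := h.1
  haveI := h.2.1
  haveI : Module.Flat S (Localization.Away d) := IsLocalization.flat _ (Submonoid.powers d)
  haveI : Algebra.FinitePresentation S (Localization.Away d) := IsLocalization.Away.finitePresentation d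
  refine ⟨Module.Flat.trans R S _, Algebra.FinitePresentation.trans R S _,
    fun p => Synt15.isLCIOver_iff_forall.2 fun Q' hQ' => ?_⟩
  let q' : Ideal (Localization.Away d) := Q'.comap Algebra.TensorProduct.includeRight.toRingHom
  haveI hq' : q'.IsPrime := Ideal.IsPrime.comap _
  obtain ⟨Q, _, hQ⟩ := Synt15.exists_fibre_point (R := R) (q'.comap (algebraMap S (Localization.Away d)))
    p.asIdeal (by
      rw [Ideal.comap_comap, ← IsScalarTower.algebraMap_eq]
      exact (EGA43.FibDepth.comap_algebraMap_eq (R := Localization.Away d) p.asIdeal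
        (⟨Q', hQ'⟩ : PrimeSpectrum (p.asIdeal.Fiber (Localization.Away d)))).symm)
  obtain ⟨e⟩ := Synt15.exists_fibre_atPrimeEquiv d p.asIdeal Q Q' hQ.symm
  exact Synt15.isCIOver_congr e.symm (Synt15.isCIOver_of_isLCIOver (h.2.2 p) Q)

/-- An open neighbourhood of the closed fibre which is syntomic. -/
theorem exists_away_syntomic (I : Ideal R) {B : Type u} [CommRing B] [Algebra R B] (q : B →ₐ[R] A₀)
    (hq : Function.Surjective q) (hker : RingHom.ker q = I.map (algebraMap R B))
    (hloc : ∀ (q₀ : Ideal A₀) [q₀.IsPrime], ∃ g : B, g ∉ q₀.comap q ∧ Synt.IsSyntomic R (Localization.Away g)) :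
    ∃ (A : Type u) (_ : CommRing A) (_ : Algebra R A), Synt.IsSyntomic R A ∧
      ∃ qA : A →ₐ[R] A₀, Function.Surjective qA ∧ RingHom.ker qA = I.map (algebraMap R A) := by
  classical
  let H := Ideal.span {g : B | Synt.IsSyntomic R (Localization.Away g)}
  have htop : H ⊔ I.map (algebraMap R B) = ⊤ := by
    by_contra hne
    obtain ⟨M, hM, hle⟩ := Ideal.exists_le_maximal _ hne
    have hkM : RingHom.ker q ≤ M := hker ▸ le_sup_right.trans hle
    haveI : (M.map q).IsPrime := Ideal.map_isPrime_of_surjective hq hkM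
    obtain ⟨g, hg, hgs⟩ := hloc (M.map q)
    refine hg ?_
    rw [Ideal.comap_map_of_surjective q hq, ← RingHom.ker_eq_comap_bot, sup_eq_left.2 hkM]
    exact hle (Submodule.mem_sup_left (Ideal.subset_span hgs))
  obtain ⟨h, hh, i, hi, hhi⟩ := Submodule.mem_sup.1 (htop.ge (Submodule.mem_top (x := (1 : B))))
  obtain ⟨s, hs, hsh⟩ := Submodule.mem_span_finite_of_mem_span hh
  let A := Localization.Away h
  have hqh : q h = 1 := by
    rw [← map_one q, ← hhi, map_add, show q i = 0 from hker.ge hi, add_zero]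
  let qA : A →ₐ[R] A₀ := IsLocalization.liftAlgHom (M := Submonoid.powers h) (f := q) (fun z => by
    obtain ⟨k, hk⟩ := z.2
    rw [← hk]
    show IsUnit (q (h ^ k))
    rw [map_pow, hqh, one_pow]; exact isUnit_one)
  have hqA : ∀ x, qA (algebraMap B A x) = q x := fun x => by simp [qA, IsLocalization.liftAlgHom]
  refine ⟨A, inferInstance, inferInstance, ?_, qA, fun a => ?_, le_antisymm (fun x hx => ?_)
    (Ideal.map_le_iff_le_comap.2 fun r hr => ?_)⟩
  · refine Synt15.isSyntomic_of_span_eq_top (s.image (algebraMap B A)) ?_ fun g hg => ?_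
    · rw [Finset.coe_image, ← Ideal.map_span]
      exact Ideal.eq_top_of_isUnit_mem _ (Ideal.mem_map_of_mem _ hsh)
        (IsLocalization.Away.algebraMap_isUnit h)
    · obtain ⟨g, hgs, rfl⟩ := Finset.mem_image.1 hg
      let L := Localization.Away (algebraMap B A g)
      let L' := Localization.Away (algebraMap B (Localization.Away g) h)
      haveI : IsLocalization.Away (h * g) L := IsLocalization.Away.mul' A L h g
      haveI : IsLocalization.Away (g * h) L' := IsLocalization.Away.mul' (Localization.Away g) L' g h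
      haveI : IsLocalization.Away (h * g) L' := mul_comm g h ▸ inferInstance
      exact Synt15.isSyntomic_congr
        ((IsLocalization.algEquiv (Submonoid.powers (h * g)) L' L).restrictScalars R)
        (isSyntomic_localization (hs hgs) _)
  · obtain ⟨b, hb⟩ := hq a
    exact ⟨algebraMap B A b, (hqA b).trans hb⟩
  · obtain ⟨⟨a, ⟨_, k, rfl⟩⟩, ha⟩ := IsLocalization.surj (Submonoid.powers h) x
    have hx' : qA x = 0 := hx
    have ha' : a ∈ RingHom.ker q := by
      rw [RingHom.mem_ker, ← hqA, ← ha, map_mul, hx', zero_mul]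
    rw [hker] at ha'
    have h2 := Ideal.mem_map_of_mem (algebraMap B A) ha'
    rw [Ideal.map_map, ← IsScalarTower.algebraMap_eq, ← ha] at h2
    exact (Ideal.mul_unit_mem_iff_mem _ (IsLocalization.map_units A
      (⟨h ^ k, k, rfl⟩ : Submonoid.powers h))).1 h2
  · show qA (algebraMap R A r) = 0
    rw [IsScalarTower.algebraMap_apply R B A, hqA, ← RingHom.mem_ker, hker]
    exact Ideal.mem_map_of_mem _ hr

/-- Syntomic algebras lift. -/
theorem exists_syntomic_lift {R A₀ : Type u} [CommRing R] (I : Ideal R) [CommRing A₀]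
    [Algebra (R ⧸ I) A₀] (hA : Synt.IsSyntomic (R ⧸ I) A₀) :
    ∃ (A : Type u) (_ : CommRing A) (_ : Algebra R A), Synt.IsSyntomic R A ∧
      Nonempty ((A ⧸ I.map (algebraMap R A)) ≃ₐ[R ⧸ I] A₀) := by
  letI : Algebra R A₀ := Algebra.compHom A₀ (algebraMap R (R ⧸ I))
  haveI : IsScalarTower R (R ⧸ I) A₀ := IsScalarTower.of_algebraMap_eq fun r => rfl
  obtain ⟨n, m, q₀, f, Q, h1, h2, h3, h4, h5⟩ := exists_conormal_data I hA
  obtain ⟨P, _, _, _, q, F, E, hq, hker, hEF, hkill⟩ := exists_etale_cut I q₀ f Q h1 h2 h3 h4 h5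
  let K := Ideal.span (Set.range F)
  let qK : P ⧸ K →ₐ[R] A₀ := Ideal.Quotient.liftₐ K q fun x hx => hker.ge (Submodule.mem_sup_left hx)
  have hqK : RingHom.ker qK = I.map (algebraMap R (P ⧸ K)) := by
    have h6 : RingHom.ker qK = (RingHom.ker q).map (Ideal.Quotient.mk K) :=
      Ideal.ker_quotient_lift q.toRingHom _
    rw [h6, hker, Ideal.map_sup, Ideal.map_quotient_self, bot_sup_eq, Ideal.map_map]
    rfl
  obtain ⟨A, iA, aA, hAs, qA, hqA, hkA⟩ := exists_away_syntomic I qK (fun a => by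
      obtain ⟨x, hx⟩ := hq a; exact ⟨Ideal.Quotient.mk K x, hx⟩) hqK fun p _ => by
    obtain ⟨g, hg, hgs⟩ := SyntomicCut.exists_syntomic_nhd I hA q hq F hker E hEF hkill p
    refine ⟨g, fun hgp => hg ?_, hgs⟩
    obtain ⟨x, rfl⟩ := Ideal.Quotient.mk_surjective g
    exact Ideal.mem_map_of_mem _ hgp
  letI := iA; letI := aA
  let e : (A ⧸ I.map (algebraMap R A)) ≃+* A₀ :=
    (Ideal.quotEquivOfEq hkA.symm).trans (RingHom.quotientKerEquivOfSurjective hqA)
  refine ⟨A, iA, aA, hAs, ⟨AlgEquiv.ofRingEquiv (f := e) fun r => ?_⟩⟩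
  obtain ⟨r, rfl⟩ := Ideal.Quotient.mk_surjective r
  exact qA.commutes r

end Groth.Agent.CAlgH.SyntomicLift
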