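import Groth.Agent.CommAlg6.PowerSeriesKaehler
import Mathlib

/-!
# Ext groups of the differentials of an isolated hypersurface singularity
-/

set_option autoImplicit false

universe u

open CategoryTheory Abelian

namespace Groth.Agent.CAlgH.Tjurina

section Cokernel

variable {R : Type u} [CommRing R] {n : ℕ} (v : Fin n → R) {M : Type u} [AddCommGroup M] [Module R M]
  (q : (Fin n → R) →ₗ[R] M)

/-- `Ext` out of the cokernel of an injective map `R → R^n`. -/
theorem ext_coker (hinj : Function.Injective fun r : R => r • v)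
    (hq : Function.Surjective q) (hex : ∀ w, q w = 0 ↔ ∃ r : R, r • v = w) :
    Subsingleton (Ext (ModuleCat.of R M) (ModuleCat.of R R) 2) ∧
      Nonempty (Ext (ModuleCat.of R M) (ModuleCat.of R R) 1 ≃ₗ[R] R ⧸ Ideal.span (Set.range v)) := by
  let φ : R →ₗ[R] (Fin n → R) := LinearMap.toSpanSingleton R _ v
  let S : ShortComplex (ModuleCat.{u} R) := ShortComplex.mk (ModuleCat.ofHom φ) (ModuleCat.ofHom q)
    (by ext; exact (hex _).mpr ⟨(1 : R), rfl⟩)
  have hS : S.ShortExact :=
    { exact := (ShortComplex.moduleCat_exact_iff _).mpr fun w h => (hex w).mp h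
      mono_f := (ModuleCat.mono_iff_injective _).mpr hinj
      epi_g := (ModuleCat.epi_iff_surjective _).mpr hq }
  haveI : Projective S.X₁ :=
    (IsProjective.iff_projective R).mp (inferInstance : Module.Projective R R)
  haveI : Projective S.X₂ :=
    (IsProjective.iff_projective (Fin n → R)).mp (inferInstance : Module.Projective R (Fin n → R))
  refine ⟨subsingleton_of_forall_eq 0 fun e => ?_, ?_⟩
  · obtain ⟨x₁, rfl⟩ := Ext.contravariant_sequence_exact₃ hS _ (n₁ := 2) (n₀ := 1) e
      (Ext.eq_zero_of_projective (P := S.X₂) _) rfl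
    rw [Ext.eq_zero_of_projective (P := S.X₁) x₁, Ext.comp_zero]
  let ψ : R →ₗ[R] Ext S.X₃ S.X₁ 1 := LinearMap.toSpanSingleton R _ hS.extClass
  have hψ : ∀ r : R, ψ r = hS.extClass.comp (Ext.mk₀ (r • 𝟙 S.X₁)) (add_zero 1) := fun r => by
    show r • hS.extClass = _
    rw [Ext.smul_eq_comp_mk₀]
  have hend : ∀ h : S.X₁ ⟶ S.X₁, ∃ r : R, r • 𝟙 S.X₁ = h := fun h => by
    refine ⟨h.hom (1 : R), ?_⟩
    ext
    show h.hom (1 : R) • (1 : R) = h.hom (1 : R)
    rw [smul_eq_mul, mul_one]
  have hsurj : Function.Surjective ψ := fun e => by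
    obtain ⟨x₁, hx₁⟩ := Ext.contravariant_sequence_exact₃ hS _ (n₁ := 1) (n₀ := 0) e
      (Ext.eq_zero_of_projective (P := S.X₂) _) rfl
    obtain ⟨h, rfl⟩ := (Ext.mk₀_bijective _ _).2 x₁
    obtain ⟨r, rfl⟩ := hend h
    exact ⟨r, (hψ r).trans hx₁⟩
  have hker : LinearMap.ker ψ = Ideal.span (Set.range v) := by
    ext r
    rw [LinearMap.mem_ker, Ideal.mem_span_range_iff_exists_fun, hψ]
    constructor
    · intro h
      obtain ⟨x₂, hx₂⟩ := Ext.contravariant_sequence_exact₁ hS _ (n₀ := 0) _ (n₁ := 1) rfl h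
      obtain ⟨g, rfl⟩ := (Ext.mk₀_bijective _ _).2 x₂
      rw [Ext.mk₀_comp_mk₀] at hx₂
      have := congrArg (fun t => t.hom (1 : R)) ((Ext.mk₀_bijective _ _).1 hx₂)
      refine ⟨fun i => g.hom (Pi.single i (1 : R) : Fin n → R), ?_⟩
      have h1 : g.hom v = r • (1 : R) := by
        have h2 : g.hom ((1 : R) • v) = r • (1 : R) := this
        rwa [one_smul] at h2
      rw [smul_eq_mul, mul_one] at h1
      rw [← h1]
      conv_rhs => rw [pi_eq_sum_univ v, map_sum]
      refine Finset.sum_congr rfl fun i _ => ?_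
      rw [map_smul, smul_eq_mul, mul_comm]
      refine congrArg (fun t => v i * t) ?_
      show g.hom (Pi.single i (1 : R) : Fin n → R) = _
      congr 1
      funext j
      simp [Pi.single_apply, eq_comm]
    · rintro ⟨c, hc⟩
      let g : S.X₂ ⟶ S.X₁ := ModuleCat.ofHom (∑ i, c i • LinearMap.proj i)
      have hfg : S.f ≫ g = r • 𝟙 S.X₁ := by
        ext
        show (∑ i, c i • (LinearMap.proj i : (Fin n → R) →ₗ[R] R)) ((1 : R) • v) = r • (1 : R)
        rw [one_smul, LinearMap.sum_apply, smul_eq_mul, mul_one, ← hc]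
        rfl
      rw [← hfg, ← Ext.mk₀_comp_mk₀, ShortComplex.ShortExact.extClass_comp_assoc]
  exact ⟨((LinearMap.quotKerEquivOfSurjective ψ hsurj).symm.trans
    (Submodule.quotEquivOfEq _ _ hker))⟩

end Cokernel

section Hypersurface

open MvPowerSeries

/-- A power series variable is prime. -/
theorem prime_X (k : Type u) [Field k] (n : ℕ) (s : Fin n) : Prime (MvPowerSeries.X s : MvPowerSeries (Fin n) k) := by
  classical
  let w : Fin n → ℕ := Pi.single s 1
  have hw : ∀ d : Fin n →₀ ℕ, Finsupp.weight w d = d s := fun d => by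
    simp [Finsupp.weight_apply, Finsupp.sum_fintype, w, Pi.single_apply]
  have hdvd : ∀ φ : MvPowerSeries (Fin n) k, MvPowerSeries.X s ∣ φ ↔ 1 ≤ φ.weightedOrder w := fun φ => by
    rw [MvPowerSeries.X_dvd_iff]
    constructor
    · intro h
      refine MvPowerSeries.nat_le_weightedOrder w fun d hd => h d ?_
      rw [← hw]; omega
    · intro h d hd
      refine MvPowerSeries.coeff_eq_zero_of_lt_weightedOrder w (lt_of_lt_of_le ?_ h)
      rw [hw, hd]; norm_num
  refine ⟨fun h => ?_, fun hu => ?_, fun a b h => ?_⟩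
  · have h1 := congrArg (MvPowerSeries.coeff (Finsupp.single s 1)) h
    simp [MvPowerSeries.coeff_X] at h1
  · have := MvPowerSeries.isUnit_constantCoeff _ hu
    simp at this
  · rw [hdvd, MvPowerSeries.weightedOrder_mul] at h
    rw [hdvd, hdvd]
    by_contra hc
    rw [not_or, not_le, not_le, Order.lt_one_iff, Order.lt_one_iff] at hc
    rw [hc.1, hc.2, add_zero] at h
    exact absurd h (by simp)

variable (k : Type u) [Field k] [IsAlgClosed k] (p : ℕ) [Fact p.Prime] [CharP k p]

include p

theorem span_D_X (n : ℕ) : Submodule.span (MvPowerSeries (Fin n) k)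
    (Set.range fun i => KaehlerDifferential.D k (MvPowerSeries (Fin n) k) (MvPowerSeries.X i)) = ⊤ := by
  haveI : PerfectRing k p := PerfectField.toPerfectRing p
  exact CommAlg6.span_D_X_mvPowerSeries k n p
    (RingHom.Finite.of_surjective _ (surjective_frobenius k p))

/-- Every derivation is the combination of the partial derivatives. -/
theorem derivation_eq_sum (n : ℕ) {N : Type u} [AddCommGroup N] [Module (MvPowerSeries (Fin n) k) N]
    [Module k N] [IsScalarTower k (MvPowerSeries (Fin n) k) N]
    (D : Derivation k (MvPowerSeries (Fin n) k) N) (f : MvPowerSeries (Fin n) k) :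
    D f = ∑ i, MvPowerSeries.pderiv k i f • D (MvPowerSeries.X i) := by
  classical
  let P := MvPowerSeries (Fin n) k
  let ℓ₁ : Ω[P⁄k] →ₗ[P] N := D.liftKaehlerDifferential
  let ℓ₂ : Ω[P⁄k] →ₗ[P] N := ∑ i, LinearMap.smulRight
    (MvPowerSeries.pderiv k i).liftKaehlerDifferential (D (MvPowerSeries.X i))
  have h : ℓ₁ = ℓ₂ := by
    refine LinearMap.ext_on (span_D_X k p n) ?_
    rintro _ ⟨j, rfl⟩
    simp only [ℓ₁, ℓ₂, LinearMap.sum_apply, LinearMap.smulRight_apply,
      Derivation.liftKaehlerDifferential_comp_D, MvPowerSeries.pderiv_X]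
    rw [Finset.sum_eq_single j (fun i _ hij => by rw [Pi.single_eq_of_ne hij.symm, zero_smul])
      (fun h => absurd (Finset.mem_univ j) h), Pi.single_eq_same, one_smul]
  have := LinearMap.congr_fun h (KaehlerDifferential.D k P f)
  simp only [ℓ₁, ℓ₂, LinearMap.sum_apply, LinearMap.smulRight_apply] at this
  refine ((D.liftKaehlerDifferential_comp_D f).symm.trans this).trans ?_
  exact Finset.sum_congr rfl fun i _ => by
    rw [show (MvPowerSeries.pderiv k i).liftKaehlerDifferential (KaehlerDifferential.D k P f) = _ from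
      (MvPowerSeries.pderiv k i).liftKaehlerDifferential_comp_D f]

theorem main (f : MvPowerSeries (Fin 3) k)
    (hiso : ∃ N : ℕ, IsLocalRing.maximalIdeal (MvPowerSeries (Fin 3) k) ^ N ≤
      Ideal.span {f} ⊔ Ideal.span {g | ∃ D : Derivation k (MvPowerSeries (Fin 3) k) (MvPowerSeries (Fin 3) k), g = D f}) :
    Subsingleton (Abelian.Ext
        (ModuleCat.of (MvPowerSeries (Fin 3) k ⧸ Ideal.span {f})
          (KaehlerDifferential k (MvPowerSeries (Fin 3) k ⧸ Ideal.span {f})))
        (ModuleCat.of (MvPowerSeries (Fin 3) k ⧸ Ideal.span {f}) (MvPowerSeries (Fin 3) k ⧸ Ideal.span {f})) 2) ∧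
      Nonempty (Abelian.Ext
        (ModuleCat.of (MvPowerSeries (Fin 3) k ⧸ Ideal.span {f})
          (KaehlerDifferential k (MvPowerSeries (Fin 3) k ⧸ Ideal.span {f})))
        (ModuleCat.of (MvPowerSeries (Fin 3) k ⧸ Ideal.span {f}) (MvPowerSeries (Fin 3) k ⧸ Ideal.span {f})) 1 ≃ₗ[MvPowerSeries (Fin 3) k ⧸ Ideal.span {f}]
        ((MvPowerSeries (Fin 3) k ⧸ Ideal.span {f}) ⧸ Ideal.map (Ideal.Quotient.mk (Ideal.span {f}))
          (Ideal.span {g | ∃ D : Derivation k (MvPowerSeries (Fin 3) k) (MvPowerSeries (Fin 3) k), g = D f}))) := by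
  classical
  let P := MvPowerSeries (Fin 3) k
  let R := P ⧸ Ideal.span {f}
  let v : Fin 3 → R := fun i => Ideal.Quotient.mk _ (MvPowerSeries.pderiv k i f)
  have hJ : Ideal.span {g | ∃ D : Derivation k P P, g = D f} =
      Ideal.span (Set.range fun i => MvPowerSeries.pderiv k i f) := by
    refine le_antisymm (Ideal.span_le.mpr ?_) (Ideal.span_mono ?_)
    · rintro g ⟨D, rfl⟩
      rw [derivation_eq_sum k p 3 D f, SetLike.mem_coe]
      exact Ideal.sum_mem _ fun i _ => by
        rw [smul_eq_mul]
        exact Ideal.mul_mem_right _ _ (Ideal.subset_span ⟨i, rfl⟩)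
    · rintro _ ⟨i, rfl⟩
      exact ⟨MvPowerSeries.pderiv k i, rfl⟩
  have hJR : (Ideal.span {g | ∃ D : Derivation k P P, g = D f}).map (Ideal.Quotient.mk (Ideal.span {f})) =
      Ideal.span (Set.range v) := by
    rw [hJ, Ideal.map_span, ← Set.range_comp]; rfl
  -- `R → R³` is injective
  obtain ⟨N, hN⟩ := hiso
  have hf0 : f ≠ 0 := by
    rintro rfl
    have h0 : Ideal.span {g | ∃ D : Derivation k P P, g = D (0 : P)} = ⊥ :=
      Ideal.span_eq_bot.mpr (by rintro g ⟨D, rfl⟩; exact map_zero D)
    rw [Ideal.span_singleton_eq_bot.mpr rfl, h0, bot_sup_eq] at hN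
    have hX : (MvPowerSeries.X 0 : P) ∈ IsLocalRing.maximalIdeal P := by
      rw [IsLocalRing.mem_maximalIdeal, mem_nonunits_iff, MvPowerSeries.isUnit_iff_constantCoeff,
        MvPowerSeries.constantCoeff_X]
      exact not_isUnit_zero
    exact pow_ne_zero N (prime_X k 3 0).ne_zero
      ((Submodule.mem_bot P).mp (hN (Ideal.pow_mem_pow hX N)))
  have hinj : Function.Injective fun r : R => r • v := by
    intro a b hab
    rw [← sub_eq_zero]
    have hab' : (a - b) • v = 0 := by rw [sub_smul]; exact sub_eq_zero.mpr hab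
    obtain ⟨c, hc⟩ := Ideal.Quotient.mk_surjective (a - b)
    rw [← hc] at hab' ⊢
    rw [Ideal.Quotient.eq_zero_iff_mem, Ideal.mem_span_singleton]
    have hdiv : ∀ g ∈ Ideal.span {f} ⊔ Ideal.span {g | ∃ D : Derivation k P P, g = D f}, f ∣ g * c := by
      intro g hg
      rw [hJ, ← Ideal.span_union] at hg
      induction hg using Submodule.span_induction with
      | mem y hy =>
          rcases hy with hy | ⟨i, rfl⟩
          · rw [Set.mem_singleton_iff.mp hy]; exact dvd_mul_right f c
          · have h1 := congrFun hab' i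
            rw [Pi.smul_apply, Pi.zero_apply, smul_eq_mul, ← map_mul,
              Ideal.Quotient.eq_zero_iff_mem, Ideal.mem_span_singleton, mul_comm] at h1
            exact h1
      | zero => rw [zero_mul]; exact dvd_zero f
      | add y z _ _ hy hz => rw [add_mul]; exact dvd_add hy hz
      | smul r y _ hy => rw [smul_eq_mul, mul_assoc]; exact hy.mul_left r
    haveI : IsDomain P := NoZeroDivisors.to_isDomain _
    have hX : ∀ i : Fin 3, (MvPowerSeries.X i : P) ∈ IsLocalRing.maximalIdeal P := fun i => by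
      rw [IsLocalRing.mem_maximalIdeal, mem_nonunits_iff, MvPowerSeries.isUnit_iff_constantCoeff,
        MvPowerSeries.constantCoeff_X]
      exact not_isUnit_zero
    obtain ⟨g, hg⟩ := hdiv _ (hN (Ideal.pow_mem_pow (hX 0) N))
    obtain ⟨h, hh⟩ := hdiv _ (hN (Ideal.pow_mem_pow (hX 1) N))
    have hprime : Prime (MvPowerSeries.X 0 : P) := prime_X k 3 0
    have hnd : ¬ (MvPowerSeries.X 0 : P) ∣ MvPowerSeries.X 1 ^ N := fun hd => by
      have h1 := MvPowerSeries.X_dvd_iff.mp (hprime.dvd_of_dvd_pow hd) (Finsupp.single 1 1)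
        (by simp)
      rw [MvPowerSeries.coeff_index_single_self_X] at h1
      exact one_ne_zero h1
    have hkey : MvPowerSeries.X 1 ^ N * g = MvPowerSeries.X 0 ^ N * h := by
      refine mul_left_cancel₀ hf0 ?_
      rw [mul_left_comm, ← hg, mul_left_comm f, ← hh]
      ring
    obtain ⟨g', rfl⟩ := hprime.pow_dvd_of_dvd_mul_left N hnd ⟨h, hkey⟩
    refine ⟨g', mul_left_cancel₀ (pow_ne_zero N (prime_X k 3 0).ne_zero) ?_⟩
    rw [hg]; ring
  -- the presentation of the differentials
  let q : (Fin 3 → R) →ₗ[R] Ω[R⁄k] := Fintype.linearCombination R fun i =>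
    KaehlerDifferential.D k R (Ideal.Quotient.mk _ (MvPowerSeries.X i))
  have hqs : Function.Surjective q := by
    rw [← LinearMap.range_eq_top, Fintype.range_linearCombination, eq_top_iff,
      ← KaehlerDifferential.span_range_derivation, Submodule.span_le]
    rintro _ ⟨r, rfl⟩
    obtain ⟨r, rfl⟩ := Ideal.Quotient.mk_surjective r
    have h := derivation_eq_sum k p 3 ((KaehlerDifferential.D k R).compAlgebraMap P) r
    rw [Derivation.compAlgebraMap_apply] at h
    rw [SetLike.mem_coe, show Ideal.Quotient.mk (Ideal.span {f}) r = algebraMap P R r from rfl, h]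
    refine Submodule.sum_mem _ fun i _ => ?_
    rw [Derivation.compAlgebraMap_apply, ← algebraMap_smul R]
    exact Submodule.smul_mem _ _ (Submodule.subset_span ⟨i, rfl⟩)
  have hex : ∀ w, q w = 0 ↔ ∃ r : R, r • v = w := by
    -- the derivation `R → R³/R·v`
    let W := (Fin 3 → R) ⧸ Submodule.span R {v}
    let d₀ : Derivation k P W := Derivation.mk'
      { toFun := fun g => Submodule.Quotient.mk fun i => Ideal.Quotient.mk _ (MvPowerSeries.pderiv k i g)
        map_add' := fun g h => by
          rw [← Submodule.Quotient.mk_add]; congr 1; funext i; simp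
        map_smul' := fun c g => by
          rw [← Submodule.Quotient.mk_smul]; congr 1; funext i
          simp only [Derivation.map_smul, Pi.smul_apply, RingHom.id_apply]
          exact map_smul (Ideal.Quotient.mkₐ k (Ideal.span {f})) c _ }
      fun g h => by
        show Submodule.Quotient.mk _ = g • Submodule.Quotient.mk _ + h • Submodule.Quotient.mk _
        rw [← Submodule.Quotient.mk_smul, ← Submodule.Quotient.mk_smul, ← Submodule.Quotient.mk_add]
        congr 1; funext i
        simp only [Derivation.leibniz, Pi.add_apply, Pi.smul_apply, smul_eq_mul, map_add, map_mul]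
        rfl
    have hd₀ : ∀ g, g ∈ Ideal.span {f} → d₀ g = 0 := fun g hg => by
      obtain ⟨c, rfl⟩ := Ideal.mem_span_singleton'.mp hg
      rw [Derivation.leibniz]
      have h1 : d₀ f = 0 := (Submodule.Quotient.mk_eq_zero _).mpr (Submodule.mem_span_singleton_self v)
      have h2 : f • d₀ c = 0 := by
        rw [← algebraMap_smul R, show algebraMap P R f = 0 from
          Ideal.Quotient.eq_zero_iff_mem.mpr (Ideal.mem_span_singleton_self f)]
        exact zero_smul R (d₀ c)
      rw [h1, h2, smul_zero, add_zero]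
    let d₁ : R →ₗ[k] W := (Submodule.liftQ ((Ideal.span {f}).restrictScalars k) d₀.toLinearMap
      (fun g hg => hd₀ g hg)).comp (Submodule.Quotient.restrictScalarsEquiv k (Ideal.span {f})).symm.toLinearMap
    have hd₁ : ∀ g : P, d₁ (Ideal.Quotient.mk _ g) = d₀ g := fun g => rfl
    let d : Derivation k R W := Derivation.mk' d₁ fun a b => by
      obtain ⟨a, rfl⟩ := Ideal.Quotient.mk_surjective a
      obtain ⟨b, rfl⟩ := Ideal.Quotient.mk_surjective b
      rw [← map_mul, hd₁, hd₁, hd₁, Derivation.leibniz, ← algebraMap_smul R a, ← algebraMap_smul R b]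
      rfl
    have hq : ∀ w, d.liftKaehlerDifferential (q w) = Submodule.Quotient.mk w := by
      suffices d.liftKaehlerDifferential ∘ₗ q = Submodule.mkQ _ from
        fun w => LinearMap.congr_fun this w
      refine (Pi.basisFun R (Fin 3)).ext fun j => ?_
      rw [LinearMap.comp_apply, Pi.basisFun_apply, Fintype.linearCombination_apply_single, one_smul,
        Derivation.liftKaehlerDifferential_comp_D]
      show d₁ _ = _
      rw [hd₁]
      show Submodule.Quotient.mk _ = Submodule.Quotient.mk _
      congr 1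
      funext i
      rw [MvPowerSeries.pderiv_X]
      simp only [Pi.single_apply]
      split_ifs <;> simp_all
    intro w
    constructor
    · intro hw
      have := hq w
      rw [hw, map_zero, eq_comm, Submodule.Quotient.mk_eq_zero, Submodule.mem_span_singleton] at this
      exact this
    · rintro ⟨r, rfl⟩
      rw [map_smul]
      have h := derivation_eq_sum k p 3 ((KaehlerDifferential.D k R).compAlgebraMap P) f
      rw [Derivation.compAlgebraMap_apply, show algebraMap P R f = 0 from
          Ideal.Quotient.eq_zero_iff_mem.mpr (Ideal.mem_span_singleton_self f), map_zero] at h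
      have h1 : q v = 0 := by
        rw [h, Fintype.linearCombination_apply]
        refine Finset.sum_congr rfl fun i _ => ?_
        rw [Derivation.compAlgebraMap_apply, ← algebraMap_smul R]
        rfl
      rw [h1, smul_zero]
  obtain ⟨h2, ⟨e⟩⟩ := ext_coker v q hinj hqs hex
  exact ⟨h2, ⟨e.trans (Submodule.quotEquivOfEq _ _ hJR.symm)⟩⟩

end Hypersurface

end Groth.Agent.CAlgH.Tjurina
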