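import Groth.Prelude.Def_Wider
import Groth.Agent.CommAlg4.TorRegular
import Groth.Agent.CAlgH3.GrGorenstein
import Mathlib

/-!
# `Tor_i(E, M) = Hom(Ext^i(M, A), E)` for injective `E`, via a finite free resolution of `M`
-/

set_option autoImplicit false
set_option backward.isDefEq.respectTransparency false

universe u

open CategoryTheory CategoryTheory.Limits TensorProduct

namespace Groth.Agent.CAlgH.TorHullExt

variable {A : Type u} [CommRing A]

section Modules

variable (E : Type u) [AddCommGroup E] [Module A E]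

/-- `e ⊗ x ↦ (φ ↦ φ x • e)`. -/
noncomputable def theta (X : Type u) [AddCommGroup X] [Module A X] :
    E ⊗[A] X →ₗ[A] ((X →ₗ[A] A) →ₗ[A] E) :=
  TensorProduct.lift (LinearMap.mk₂ A
    (fun e x => ((LinearMap.toSpanSingleton A E e).comp (LinearMap.applyₗ x)))
    (fun e e' x => LinearMap.ext fun φ => by simp)
    (fun c e x => LinearMap.ext fun φ => by simp [smul_comm c])
    (fun e x x' => LinearMap.ext fun φ => by simp [add_smul])
    (fun c e x => LinearMap.ext fun φ => by simp [mul_smul]))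

theorem theta_tmul {X : Type u} [AddCommGroup X] [Module A X] (e : E) (x : X) (φ : X →ₗ[A] A) :
    theta E X (e ⊗ₜ[A] x) φ = φ x • e := by
  simp [theta]

theorem bijective_theta (X : Type u) [AddCommGroup X] [Module A X] [Module.Free A X] [Module.Finite A X] :
    Function.Bijective (theta (A := A) E X) := by
  classical
  let b := Module.Free.chooseBasis A X
  have e1 : ∀ t : E ⊗[A] X, ∑ j, (theta E X t (b.coord j)) ⊗ₜ[A] b j = t := by
    intro t
    induction t with
    | zero => simp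
    | tmul e x =>
      simp only [theta_tmul, smul_tmul, ← tmul_sum]
      exact congrArg _ (b.sum_repr x)
    | add a c ha hc => simp only [map_add, LinearMap.add_apply, add_tmul, Finset.sum_add_distrib, ha, hc]
  refine ⟨fun a c h => by rw [← e1 a, ← e1 c, h], fun ψ => ⟨∑ j, ψ (b.coord j) ⊗ₜ[A] b j, ?_⟩⟩
  refine LinearMap.ext fun φ => ?_
  have hφ : φ = ∑ j, φ (b j) • b.coord j := b.ext fun i => by
    simp [Module.Basis.coord_apply, Finsupp.single_apply, LinearMap.sum_apply, LinearMap.smul_apply]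
  conv_rhs => rw [hφ, map_sum]
  rw [map_sum, LinearMap.sum_apply]
  exact Finset.sum_congr rfl fun j _ => by rw [theta_tmul, map_smul]

theorem theta_natural {X Y : Type u} [AddCommGroup X] [Module A X] [AddCommGroup Y] [Module A Y]
    (d : X →ₗ[A] Y) (t : E ⊗[A] X) (φ : Y →ₗ[A] A) :
    theta E Y (d.lTensor E t) φ = theta E X t (φ.comp d) := by
  induction t with
  | zero => simp
  | tmul e x => simp [theta_tmul]
  | add a c ha hc => simp [map_add, ha, hc]

variable [hE : Module.Injective A E]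

/-- Extension of maps into an injective module. -/
theorem exists_extend {N P : Type u} [AddCommGroup N] [Module A N] [AddCommGroup P] [Module A P]
    (f : N →ₗ[A] P) (hf : Function.Injective f) (g : N →ₗ[A] E) : ∃ h : P →ₗ[A] E, h.comp f = g := by
  obtain ⟨h, hh⟩ := Module.Injective.out f hf g
  exact ⟨h, LinearMap.ext hh⟩

/-- A cocycle vanishing on cocycles factors through the next differential; a class functional extends. -/
theorem exists_factor {G₁ G₂ : Type u} [AddCommGroup G₁] [Module A G₁] [AddCommGroup G₂] [Module A G₂]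
    (δ : G₁ →ₗ[A] G₂) (g : G₁ →ₗ[A] E) (hg : LinearMap.ker δ ≤ LinearMap.ker g) :
    ∃ ψ : G₂ →ₗ[A] E, ψ.comp δ = g := by
  let δ' : (G₁ ⧸ LinearMap.ker δ) →ₗ[A] G₂ := (LinearMap.ker δ).liftQ δ le_rfl
  have hδ' : Function.Injective δ' := by
    rw [← LinearMap.ker_eq_bot, Submodule.ker_liftQ_eq_bot' _ _ rfl]
  obtain ⟨ψ, hψ⟩ := exists_extend E δ' hδ' ((LinearMap.ker δ).liftQ g hg)
  exact ⟨ψ, LinearMap.ext fun x => LinearMap.congr_fun hψ (Submodule.Quotient.mk x)⟩

/-- Homology of `Hom(-, E)` of a complex, for injective `E`. -/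
theorem nonempty_homology_dual {G₀ G₁ G₂ T : Type u} [AddCommGroup G₀] [Module A G₀] [AddCommGroup G₁]
    [Module A G₁] [AddCommGroup G₂] [Module A G₂] [AddCommGroup T] [Module A T] (δ' : G₀ →ₗ[A] G₁)
    (δ : G₁ →ₗ[A] G₂) (hdd : δ.comp δ' = 0) (q : ↥(LinearMap.ker δ) →ₗ[A] T) (hq : Function.Surjective q)
    (hker : ∀ φ, q φ = 0 ↔ φ.1 ∈ LinearMap.range δ')
    {P₀ P₁ P₂ : Type u} [AddCommGroup P₀] [Module A P₀] [AddCommGroup P₁] [Module A P₁] [AddCommGroup P₂]
    [Module A P₂] (f : P₂ →ₗ[A] P₁) (f' : P₁ →ₗ[A] P₀) (θ₂ : P₂ →ₗ[A] (G₂ →ₗ[A] E))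
    (θ₁ : P₁ →ₗ[A] (G₁ →ₗ[A] E)) (θ₀ : P₀ →ₗ[A] (G₀ →ₗ[A] E)) (h₂ : Function.Bijective θ₂)
    (h₁ : Function.Bijective θ₁) (h₀ : Function.Bijective θ₀)
    (hn : ∀ s, θ₁ (f s) = (θ₂ s).comp δ) (hn' : ∀ t, θ₀ (f' t) = (θ₁ t).comp δ') :
    Nonempty ((↥(LinearMap.ker f') ⧸ (LinearMap.range f).comap (LinearMap.ker f').subtype) ≃ₗ[A]
      (T →ₗ[A] E)) := by
  classical
  let K := LinearMap.ker δ
  let qe := q.quotKerEquivOfSurjective hq
  have hvan : ∀ t : ↥(LinearMap.ker f'), LinearMap.ker q ≤ LinearMap.ker ((θ₁ t.1).comp K.subtype) := by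
    intro t φ hφ
    obtain ⟨ψ, hψ⟩ := (hker φ).1 hφ
    show θ₁ t.1 φ.1 = 0
    rw [← hψ, ← LinearMap.comp_apply, ← hn', LinearMap.mem_ker.1 t.2, map_zero, LinearMap.zero_apply]
  let Φ : ↥(LinearMap.ker f') →ₗ[A] (T →ₗ[A] E) :=
    { toFun := fun t => ((LinearMap.ker q).liftQ ((θ₁ t.1).comp K.subtype) (hvan t)).comp qe.symm.toLinearMap
      map_add' := fun s t => LinearMap.ext fun x => by
        obtain ⟨z, rfl⟩ := qe.surjective x
        obtain ⟨φ, rfl⟩ := Submodule.Quotient.mk_surjective _ z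
        simp
      map_smul' := fun c t => LinearMap.ext fun x => by
        obtain ⟨z, rfl⟩ := qe.surjective x
        obtain ⟨φ, rfl⟩ := Submodule.Quotient.mk_surjective _ z
        simp }
  have hΦ : ∀ t φ, Φ t (q φ) = θ₁ t.1 φ.1 := fun t φ => by
    have : qe.symm (q φ) = Submodule.Quotient.mk φ := qe.injective (by simp [qe])
    show (LinearMap.ker q).liftQ ((θ₁ t.1).comp K.subtype) (hvan t) (qe.symm (q φ)) = _
    rw [this]; rfl
  have hkerΦ : LinearMap.ker Φ = (LinearMap.range f).comap (LinearMap.ker f').subtype := by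
    ext t
    constructor
    · intro ht
      obtain ⟨ψ, hψ⟩ := exists_factor E δ (θ₁ t.1) (fun φ hφ => by
        rw [LinearMap.mem_ker, show θ₁ t.1 φ = Φ t (q ⟨φ, hφ⟩) from (hΦ t ⟨φ, hφ⟩).symm,
          LinearMap.mem_ker.1 ht, LinearMap.zero_apply])
      obtain ⟨s, rfl⟩ := h₂.2 ψ
      exact ⟨s, h₁.1 ((hn s).trans hψ)⟩
    · rintro ⟨s, hs⟩
      refine LinearMap.mem_ker.2 (LinearMap.ext fun x => ?_)
      obtain ⟨φ, rfl⟩ := hq x
      rw [hΦ, LinearMap.zero_apply, show t.1 = f s from hs.symm, hn, LinearMap.comp_apply,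
        LinearMap.mem_ker.1 φ.2, map_zero]
  have hsurj : Function.Surjective Φ := by
    intro g
    obtain ⟨h, hh⟩ := exists_extend E K.subtype K.injective_subtype (g.comp q)
    obtain ⟨t, ht⟩ := h₁.2 h
    have htmem : t ∈ LinearMap.ker f' := by
      refine LinearMap.mem_ker.2 (h₀.1 (LinearMap.ext fun ψ => ?_))
      have hK : δ' ψ ∈ K := LinearMap.mem_ker.2 (LinearMap.congr_fun hdd ψ)
      rw [hn', ht, map_zero, LinearMap.zero_apply, LinearMap.comp_apply,
        show h (δ' ψ) = g (q ⟨δ' ψ, hK⟩) from LinearMap.congr_fun hh ⟨δ' ψ, hK⟩,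
        (hker ⟨δ' ψ, hK⟩).2 ⟨ψ, rfl⟩, map_zero]
    refine ⟨⟨t, htmem⟩, LinearMap.ext fun x => ?_⟩
    obtain ⟨φ, rfl⟩ := hq x
    rw [hΦ, ht]
    exact LinearMap.congr_fun hh φ
  exact ⟨(Submodule.quotEquivOfEq _ _ hkerΦ.symm).trans (Φ.quotKerEquivOfSurjective hsurj)⟩

end Modules

section Resolution

variable {M : ModuleCat.{u} A} (P : ProjectiveResolution M)

theorem extMk_eq_zero_iff' {Y : ModuleCat.{u} A} (n : ℕ) (f : P.complex.X n ⟶ Y)
    (hf : P.complex.d (n + 1) n ≫ f = 0) :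
    P.extMk f (n + 1) rfl hf = 0 ↔
      ∃ g : P.complex.X ((ComplexShape.down ℕ).next n) ⟶ Y,
        P.complex.d n ((ComplexShape.down ℕ).next n) ≫ g = f := by
  cases n with
  | succ m => rw [ChainComplex.next_nat_succ]; exact P.extMk_eq_zero_iff f _ _ hf m rfl
  | zero =>
    rw [ChainComplex.next_nat_zero, HomologicalComplex.shape _ 0 0 (by simp)]
    simp only [Limits.zero_comp, exists_const]
    refine ⟨fun h => ?_, fun h => by subst h; simp⟩
    rw [← P.extEquivCohomologyClass.apply_eq_iff_eq, ProjectiveResolution.extEquivCohomologyClass_extMk,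
      ProjectiveResolution.extEquivCohomologyClass_zero, CochainComplex.HomComplex.CohomologyClass.mk_eq_zero_iff,
      CochainComplex.HomComplex.Cocycle.toSingleMk_mem_coboundaries_iff _ _ _ _ _ 1 (by simp)] at h
    obtain ⟨g, hg⟩ := h
    rw [(CochainComplex.isZero_of_isStrictlyLE P.cochainComplex 0 1 (by simp)).eq_of_src g 0,
      Limits.comp_zero] at hg
    rw [← cancel_epi (P.cochainComplexXIso (-(0 : ℕ)) 0 rfl).hom, ← hg, Limits.comp_zero]

theorem exists_dualH_ext (n : ℕ) :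
    ∃ q : ↥(LinearMap.ker (LinearMap.lcomp A A (P.complex.d (n + 1) n).hom)) →ₗ[A]
        Abelian.Ext.{u} M (ModuleCat.of A A) n, Function.Surjective q ∧ ∀ φ, q φ = 0 ↔
          φ.1 ∈ LinearMap.range (LinearMap.lcomp A A (P.complex.d n ((ComplexShape.down ℕ).next n)).hom) := by
  let K := LinearMap.ker (LinearMap.lcomp A A (P.complex.d (n + 1) n).hom)
  have hK : ∀ φ : K, P.complex.d (n + 1) n ≫ ModuleCat.ofHom φ.1 = 0 := fun φ =>
    ModuleCat.hom_ext (LinearMap.mem_ker.1 φ.2)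
  let q : K →ₗ[A] Abelian.Ext.{u} M (ModuleCat.of A A) n :=
    { toFun := fun φ => P.extMk (ModuleCat.ofHom φ.1) (n + 1) rfl (hK φ)
      map_add' := fun φ ψ => by rw [ProjectiveResolution.add_extMk]; rfl
      map_smul' := fun c φ => by
        rw [RingHom.id_apply, Abelian.Ext.smul_eq_comp_mk₀, ProjectiveResolution.extMk_comp_mk₀]
        congr 1 }
  refine ⟨q, fun α => ?_, fun φ => ?_⟩
  · obtain ⟨f, hf, rfl⟩ := P.extMk_surjective α (n + 1) rfl
    exact ⟨⟨f.hom, LinearMap.mem_ker.2 (congrArg ModuleCat.Hom.hom hf)⟩, rfl⟩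
  · exact (extMk_eq_zero_iff' P n _ (hK φ)).trans ⟨fun ⟨g, hg⟩ => ⟨g.hom, congrArg ModuleCat.Hom.hom hg⟩,
      fun ⟨g, hg⟩ => ⟨ModuleCat.ofHom g, ModuleCat.hom_ext hg⟩⟩

/-- `Tor_i(E, M) ≅ Hom(Ext^i(M, A), E)`. -/
theorem nonempty_tor_iso (E : Type u) [AddCommGroup E] [Module A E] [Module.Injective A E]
    (hP : ∀ n : ℕ, Module.Finite A (P.complex.X n) ∧ Module.Free A (P.complex.X n)) (i : ℕ) :
    Nonempty (((Tor (ModuleCat.{u} A) i).obj (ModuleCat.of A E)).obj M ≅
      ModuleCat.of A (Abelian.Ext.{u} M (ModuleCat.of A A) i →ₗ[A] E)) := by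
  let F := (MonoidalCategory.tensoringLeft (ModuleCat.{u} A)).obj (ModuleCat.of A E)
  have e0 := P.isoLeftDerivedObj F i
  haveI := fun n => (hP n).1
  haveI := fun n => (hP n).2
  let C := (F.mapHomologicalComplex (ComplexShape.down ℕ)).obj P.complex
  let ni := (ComplexShape.down ℕ).next i
  have e1 : C.homology i ≅ (C.sc' (i + 1) i ni).homology :=
    ShortComplex.homologyMapIso (C.isoSc' (i + 1) i ni (by simp) rfl)
  have e2 := (C.sc' (i + 1) i ni).moduleCatHomologyIso
  have hdd : (P.complex.d i ni).hom.comp (P.complex.d (i + 1) i).hom = 0 :=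
    congrArg ModuleCat.Hom.hom (P.complex.d_comp_d (i + 1) i ni)
  obtain ⟨q, hq, hqker⟩ := exists_dualH_ext P i
  obtain ⟨e3⟩ := nonempty_homology_dual E (LinearMap.lcomp A A (P.complex.d i ni).hom)
    (LinearMap.lcomp A A (P.complex.d (i + 1) i).hom)
    (LinearMap.ext fun φ => LinearMap.ext fun x => (congrArg φ (LinearMap.congr_fun hdd x)).trans (map_zero φ))
    q hq hqker ((P.complex.d (i + 1) i).hom.lTensor E) ((P.complex.d i ni).hom.lTensor E)
    (theta E _) (theta E _) (theta E _) (bijective_theta E _) (bijective_theta E _) (bijective_theta E _)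
    (fun s => LinearMap.ext fun φ => theta_natural E _ s φ)
    (fun t => LinearMap.ext fun φ => theta_natural E _ t φ)
  let f1 : E ⊗[A] (P.complex.X i : Type u) →ₗ[A] E ⊗[A] (P.complex.X ni : Type u) := (P.complex.d i ni).hom.lTensor E
  let f2 : E ⊗[A] (P.complex.X (i + 1) : Type u) →ₗ[A] E ⊗[A] (P.complex.X i : Type u) :=
    (P.complex.d (i + 1) i).hom.lTensor E
  have hrange : LinearMap.range (C.sc' (i + 1) i ni).moduleCatToCycles =
      (LinearMap.range f2).comap (LinearMap.ker f1).subtype := by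
    ext ⟨x, hx⟩
    constructor
    · rintro ⟨y, hy⟩; exact ⟨y, congrArg Subtype.val hy⟩
    · rintro ⟨y, hy⟩; exact ⟨y, Subtype.ext hy⟩
  let e5 := Submodule.quotEquivOfEq _ _ hrange
  exact ⟨e0 ≪≫ e1 ≪≫ e2 ≪≫
    (e5.trans e3).toModuleIso⟩

end Resolution

end Groth.Agent.CAlgH.TorHullExt
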