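import Mathlib
import Groth.Agent.CAlgH.FlatComplexFibres

/-! A map of modules inducing isomorphisms on all Tor at residue fields is an isomorphism. -/

universe u
set_option autoImplicit false
open TensorProduct Function CategoryTheory CategoryTheory.Limits

namespace Groth.Agent.CAlgH.TorIsoModules

variable {A : Type u} [CommRing A]

section Cls

variable {κ : Type*} {c : ComplexShape κ} {K L : HomologicalComplex (ModuleCat.{u} A) c} {i j k : κ}

/-- cycles as elements -/
noncomputable def cls (hjk : c.next j = k) : LinearMap.ker (K.d j k).hom →ₗ[A] K.homology j :=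
  (K.liftCycles (ModuleCat.ofHom (LinearMap.ker (K.d j k).hom).subtype) k hjk
    (ModuleCat.hom_ext (LinearMap.ext fun x => x.2)) ≫ K.homologyπ j).hom

theorem iCycles_liftCycles (hjk : c.next j = k) (x : LinearMap.ker (K.d j k).hom) :
    K.iCycles j (K.liftCycles (ModuleCat.ofHom (LinearMap.ker (K.d j k).hom).subtype) k hjk
      (ModuleCat.hom_ext (LinearMap.ext fun x => x.2)) x) = (x : K.X j) := by
  rw [← CategoryTheory.comp_apply, HomologicalComplex.liftCycles_i]
  rfl

theorem cls_eq_zero_iff (hij : c.prev j = i) (hjk : c.next j = k) (x : LinearMap.ker (K.d j k).hom) :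
    cls hjk x = 0 ↔ (x : K.X j) ∈ LinearMap.range (K.d i j).hom := by
  have hex := ShortComplex.exact_of_g_is_cokernel
    (ShortComplex.mk (K.toCycles i j) (K.homologyπ j) (K.toCycles_comp_homologyπ i j))
    (K.homologyIsCokernel i j hij)
  rw [ShortComplex.moduleCat_exact_iff] at hex
  set z := K.liftCycles (ModuleCat.ofHom (LinearMap.ker (K.d j k).hom).subtype) k hjk
      (ModuleCat.hom_ext (LinearMap.ext fun x => x.2)) x
  constructor
  · intro h
    obtain ⟨w, hw⟩ := hex z h
    refine ⟨w, ?_⟩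
    have e := congrArg (K.iCycles j) hw
    dsimp only at e
    rw [← CategoryTheory.comp_apply, HomologicalComplex.toCycles_i, iCycles_liftCycles hjk] at e
    exact e
  · rintro ⟨w, hw⟩
    have hc : z = K.toCycles i j w := by
      apply (ModuleCat.mono_iff_injective (K.iCycles j)).mp inferInstance
      rw [iCycles_liftCycles hjk, ← CategoryTheory.comp_apply, HomologicalComplex.toCycles_i]
      exact hw.symm
    show K.homologyπ j z = 0
    rw [hc, ← CategoryTheory.comp_apply, K.toCycles_comp_homologyπ]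
    rfl

theorem cls_surjective (hjk : c.next j = k) : Surjective (cls (K := K) hjk) := by
  intro h
  obtain ⟨z, rfl⟩ := (ModuleCat.epi_iff_surjective (K.homologyπ j)).mp inferInstance h
  refine ⟨⟨K.iCycles j z, ?_⟩, congrArg (K.homologyπ j) ?_⟩
  · rw [LinearMap.mem_ker]
    show K.d j k (K.iCycles j z) = 0
    rw [← CategoryTheory.comp_apply, K.iCycles_d j k]
    rfl
  · exact (ModuleCat.mono_iff_injective (K.iCycles j)).mp inferInstance (iCycles_liftCycles hjk _)

theorem cls_map (hjk : c.next j = k) (φ : K ⟶ L) (x : LinearMap.ker (K.d j k).hom)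
    (h : φ.f j (x : K.X j) ∈ LinearMap.ker (L.d j k).hom) :
    HomologicalComplex.homologyMap φ j (cls hjk x) = cls hjk ⟨φ.f j (x : K.X j), h⟩ := by
  set z := K.liftCycles (ModuleCat.ofHom (LinearMap.ker (K.d j k).hom).subtype) k hjk
      (ModuleCat.hom_ext (LinearMap.ext fun x => x.2)) x
  show HomologicalComplex.homologyMap φ j (K.homologyπ j z) = L.homologyπ j _
  rw [← CategoryTheory.comp_apply, HomologicalComplex.homologyπ_naturality, CategoryTheory.comp_apply]
  congr 1
  apply (ModuleCat.mono_iff_injective (L.iCycles j)).mp inferInstance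
  rw [← CategoryTheory.comp_apply, HomologicalComplex.cyclesMap_i, CategoryTheory.comp_apply,
    iCycles_liftCycles hjk]
  exact (iCycles_liftCycles hjk ⟨φ.f j (x : K.X j), h⟩).symm

theorem quasiIso_elements (hij : c.prev j = i) (hjk : c.next j = k) (φ : K ⟶ L)
    (hiso : IsIso (HomologicalComplex.homologyMap φ j)) :
    (∀ y : K.X j, K.d j k y = 0 → φ.f j y ∈ LinearMap.range (L.d i j).hom →
      y ∈ LinearMap.range (K.d i j).hom) ∧
    (∀ z : L.X j, L.d j k z = 0 →
      ∃ y : K.X j, K.d j k y = 0 ∧ z - φ.f j y ∈ LinearMap.range (L.d i j).hom) := by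
  have hm : ∀ y : K.X j, K.d j k y = 0 → φ.f j y ∈ LinearMap.ker (L.d j k).hom := fun y hy => by
    rw [LinearMap.mem_ker]
    have := CategoryTheory.congr_fun (φ.comm j k) y
    simp only [CategoryTheory.comp_apply] at this
    rw [show (L.d j k).hom (φ.f j y) = L.d j k (φ.f j y) from rfl, this, hy, map_zero]
  constructor
  · intro y hy hy'
    refine (cls_eq_zero_iff hij hjk ⟨y, hy⟩).mp ?_
    apply (ModuleCat.mono_iff_injective (HomologicalComplex.homologyMap φ j)).mp inferInstance
    rw [map_zero, cls_map hjk φ ⟨y, hy⟩ (hm y hy)]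
    exact (cls_eq_zero_iff hij hjk _).mpr hy'
  · intro z hz
    obtain ⟨a, ha⟩ := (ModuleCat.epi_iff_surjective (HomologicalComplex.homologyMap φ j)).mp inferInstance
      (cls hjk ⟨z, hz⟩)
    obtain ⟨⟨y, hy⟩, rfl⟩ := cls_surjective hjk a
    refine ⟨y, hy, ?_⟩
    have := (cls_map hjk φ ⟨y, hy⟩ (hm y hy)).symm.trans ha
    rw [← sub_eq_zero, ← map_sub, cls_eq_zero_iff hij hjk] at this
    rw [← neg_mem_iff, neg_sub]
    exact this

end Cls

theorem flat_prod (X Y : Type u) [AddCommGroup X] [Module A X] [AddCommGroup Y] [Module A Y]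
    [Module.Flat A X] [Module.Flat A Y] : Module.Flat A (X × Y) := by
  rw [Module.Flat.iff_lTensor_preserves_injective_linearMap]
  intro N N' _ _ _ _ f hf
  have h1 : ∀ z : (X × Y) ⊗[A] N, TensorProduct.prodLeft A A X Y N' (f.lTensor (X × Y) z) =
      Prod.map (f.lTensor X) (f.lTensor Y) (TensorProduct.prodLeft A A X Y N z) := fun z => by
    induction z using TensorProduct.induction_on with
    | zero => simp [Prod.map]; rfl
    | tmul a b => obtain ⟨a₁, a₂⟩ := a; simp [Prod.map]
    | add a b ha hb => simp only [map_add, ha, hb, Prod.map, Prod.fst_add, Prod.snd_add, Prod.mk_add_mk]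
  intro a b hab
  apply (TensorProduct.prodLeft A A X Y N).injective
  apply Prod.map_injective.2 ⟨Module.Flat.lTensor_preserves_injective_linearMap f hf,
    Module.Flat.lTensor_preserves_injective_linearMap f hf⟩
  rw [← h1, ← h1, hab]

/-- zero, zero, `P 0`, `P 1`, … -/
noncomputable def padP (P : ℕ → ModuleCat.{u} A) : ℕ → ModuleCat.{u} A
  | 0 => ModuleCat.of A PUnit
  | 1 => ModuleCat.of A PUnit
  | n + 2 => P n

/-- zero, `Q 0`, `Q 1`, … -/
noncomputable def padQ (Q : ℕ → ModuleCat.{u} A) : ℕ → ModuleCat.{u} A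
  | 0 => ModuleCat.of A PUnit
  | n + 1 => Q n

variable {P Q : ℕ → ModuleCat.{u} A} (dP : ∀ n, P (n + 1) →ₗ[A] P n) (dQ : ∀ n, Q (n + 1) →ₗ[A] Q n)
  (φ : ∀ n, P n →ₗ[A] Q n)

noncomputable def dPm : ∀ n, padP P (n + 1) →ₗ[A] padP P n
  | 0 => 0
  | 1 => 0
  | n + 2 => dP n

noncomputable def dQm : ∀ n, padQ Q (n + 1) →ₗ[A] padQ Q n
  | 0 => 0
  | n + 1 => dQ n

noncomputable def φm : ∀ n, padP P (n + 1) →ₗ[A] padQ Q n
  | 0 => 0
  | n + 1 => φ n

/-- cone -/
noncomputable def dC (n : ℕ) :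
    ModuleCat.of A (padP P (n + 1) × padQ Q (n + 1)) →ₗ[A] ModuleCat.of A (padP P n × padQ Q n) :=
  LinearMap.prod (-(dPm dP n ∘ₗ LinearMap.fst A _ _))
    (φm φ n ∘ₗ LinearMap.fst A _ _ + dQm dQ n ∘ₗ LinearMap.snd A _ _)

theorem dC_comp (hP : ∀ n, (dP n).comp (dP (n + 1)) = 0) (hQ : ∀ n, (dQ n).comp (dQ (n + 1)) = 0)
    (hφ : ∀ n, (dQ n).comp (φ (n + 1)) = (φ n).comp (dP n)) (n : ℕ) :
    (dC dP dQ φ n).comp (dC dP dQ φ (n + 1)) = 0 := by
  refine LinearMap.ext fun ⟨a, b⟩ => Prod.ext ?_ ?_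
  · show -(dPm dP n (-(dPm dP (n + 1) a))) = 0
    rw [map_neg, neg_neg]
    rcases n with - | - | n
    · rfl
    · rfl
    · exact LinearMap.congr_fun (hP n) a
  · show φm φ n (-(dPm dP (n + 1) a)) + dQm dQ n (φm φ (n + 1) a + dQm dQ (n + 1) b) = 0
    rcases n with - | n
    · show (0 : _ →ₗ[A] _) _ + (0 : _ →ₗ[A] _) _ = 0
      simp
    · exact (congrArg₂ (· + ·) (map_neg (φ n) (dP n a)) ((map_add (dQ n) _ _).trans
        (congrArg₂ (· + ·) (LinearMap.congr_fun (hφ n) a) (LinearMap.congr_fun (hQ n) b)))).trans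
        ((congrArg (-(φ n (dP n a)) + ·) (add_zero (φ n (dP n a)))).trans (neg_add_cancel _))

theorem exactWith_cone (X : Type u) [AddCommGroup X] [Module A X]
    (hφ : ∀ n, (dQ n).comp (φ (n + 1)) = (φ n).comp (dP n))
    (hinj0 : ∀ y : X ⊗[A] P 0, (φ 0).lTensor X y ∈ LinearMap.range ((dQ 0).lTensor X) →
      y ∈ LinearMap.range ((dP 0).lTensor X))
    (hsurj0 : ∀ z : X ⊗[A] Q 0, ∃ y : X ⊗[A] P 0, z - (φ 0).lTensor X y ∈ LinearMap.range ((dQ 0).lTensor X))
    (hinj : ∀ n, ∀ y : X ⊗[A] P (n + 1), (dP n).lTensor X y = 0 →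
      (φ (n + 1)).lTensor X y ∈ LinearMap.range ((dQ (n + 1)).lTensor X) →
      y ∈ LinearMap.range ((dP (n + 1)).lTensor X))
    (hsurj : ∀ n, ∀ z : X ⊗[A] Q (n + 1), (dQ n).lTensor X z = 0 →
      ∃ y : X ⊗[A] P (n + 1), (dP n).lTensor X y = 0 ∧
        z - (φ (n + 1)).lTensor X y ∈ LinearMap.range ((dQ (n + 1)).lTensor X)) :
    FlatComplexFibres.ExactWith (fun n => ModuleCat.of A (padP P n × padQ Q n)) (dC dP dQ φ) X := by
  let e := fun n => TensorProduct.prodRight A A X (padP P n) (padQ Q n)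
  have he : ∀ n, ∀ v : X ⊗[A] (padP P (n + 1) × padQ Q (n + 1)), e n ((dC dP dQ φ n).lTensor X v) =
      (-((dPm dP n).lTensor X (e (n + 1) v).1),
        (φm φ n).lTensor X (e (n + 1) v).1 + (dQm dQ n).lTensor X (e (n + 1) v).2) := fun n v => by
    induction v using TensorProduct.induction_on with
    | zero => simp; rfl
    | tmul x ab =>
      obtain ⟨a, b⟩ := ab
      show e n (x ⊗ₜ[A] ((-(dPm dP n a), φm φ n a + dQm dQ n b) : padP P n × padQ Q n)) = _
      simp [e, tmul_neg, tmul_add]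
    | add a b ha hb =>
      simp only [map_add, ha, hb, Prod.fst_add, Prod.snd_add, Prod.mk_add_mk, neg_add]
      congr 1
      abel
  intro n z hz
  have hz1 : (dPm dP n).lTensor X (e (n + 1) z).1 = 0 := by
    have := congrArg Prod.fst ((he n z).symm.trans (by rw [hz, map_zero]))
    exact neg_eq_zero.1 this
  have hz2 : (φm φ n).lTensor X (e (n + 1) z).1 + (dQm dQ n).lTensor X (e (n + 1) z).2 = 0 :=
    congrArg Prod.snd ((he n z).symm.trans (by rw [hz, map_zero]))
  suffices ∃ a b, -((dPm dP (n + 1)).lTensor X a) = (e (n + 1) z).1 ∧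
      (φm φ (n + 1)).lTensor X a + (dQm dQ (n + 1)).lTensor X b = (e (n + 1) z).2 by
    obtain ⟨a, b, h1, h2⟩ := this
    refine ⟨(e (n + 1 + 1)).symm (a, b), (e (n + 1)).injective ((he (n + 1) _).trans ?_)⟩
    rw [LinearEquiv.apply_symm_apply]
    exact Prod.ext h1 h2
  generalize (e (n + 1) z).1 = p at hz1 hz2 ⊢
  generalize (e (n + 1) z).2 = q at hz2 ⊢
  rcases n with - | n
  · obtain ⟨y, w, hw⟩ := hsurj0 q
    haveI : Subsingleton (X ⊗[A] padP P (0 + 1)) :=
      inferInstanceAs (Subsingleton (X ⊗[A] PUnit.{u + 1}))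
    exact ⟨y, w, Subsingleton.elim _ _, by
      show (φ 0).lTensor X y + (dQ 0).lTensor X w = q
      rw [hw, add_sub_cancel]⟩
  change X ⊗[A] Q (n + 1) at q
  have hp : p ∈ LinearMap.range ((dP n).lTensor X) := by
    rcases n with - | n
    · exact hinj0 p ⟨-q, (map_neg _ q).trans (eq_neg_of_add_eq_zero_left hz2).symm⟩
    · exact hinj n p hz1 ⟨-q, (map_neg _ q).trans (eq_neg_of_add_eq_zero_left hz2).symm⟩
  obtain ⟨p', hp'⟩ := hp
  have hc : (dQ n).lTensor X ((φ (n + 1)).lTensor X p' + q) = 0 := by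
    rw [map_add, ← LinearMap.comp_apply, ← LinearMap.lTensor_comp, hφ, LinearMap.lTensor_comp,
      LinearMap.comp_apply, hp']
    exact hz2
  obtain ⟨c, hc0, w, hw⟩ := hsurj n _ hc
  refine ⟨c - p', w, ?_, ?_⟩
  · show -((dP n).lTensor X (c - p')) = p
    rw [map_sub, hc0, hp', zero_sub, neg_neg]
  · show (φ (n + 1)).lTensor X (c - p') + (dQ (n + 1)).lTensor X w = q
    rw [map_sub, hw]
    abel

theorem isIso_of_tor [IsNoetherianRing A] {M N : ModuleCat.{u} A} (u : M ⟶ N)
    (h : ∀ (x : Ideal A) [x.IsPrime] (i : ℕ),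
      IsIso (((Tor (ModuleCat.{u} A) i).obj (ModuleCat.of A x.ResidueField)).map u)) :
    IsIso u := by
  let PM := projectiveResolution M
  let PN := projectiveResolution N
  let ψ := ProjectiveResolution.lift u PM PN
  have hcomm : ψ.f 0 ≫ PN.π.f 0 = PM.π.f 0 ≫ u := ProjectiveResolution.lift_commutes_zero u PM PN
  let P : ℕ → ModuleCat.{u} A := fun n => PM.complex.X n
  let Q : ℕ → ModuleCat.{u} A := fun n => PN.complex.X n
  let dP : ∀ n, P (n + 1) →ₗ[A] P n := fun n => (PM.complex.d (n + 1) n).hom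
  let dQ : ∀ n, Q (n + 1) →ₗ[A] Q n := fun n => (PN.complex.d (n + 1) n).hom
  let φ : ∀ n, P n →ₗ[A] Q n := fun n => (ψ.f n).hom
  have hP : ∀ n, (dP n).comp (dP (n + 1)) = 0 := fun n =>
    congrArg ModuleCat.Hom.hom (PM.complex.d_comp_d (n + 1 + 1) (n + 1) n)
  have hQ : ∀ n, (dQ n).comp (dQ (n + 1)) = 0 := fun n =>
    congrArg ModuleCat.Hom.hom (PN.complex.d_comp_d (n + 1 + 1) (n + 1) n)
  have hφ : ∀ n, (dQ n).comp (φ (n + 1)) = (φ n).comp (dP n) := fun n =>
    congrArg ModuleCat.Hom.hom (ψ.comm (n + 1) n)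
  haveI : ∀ n, Module.Flat A (ModuleCat.of A (padP P n × padQ Q n)) := fun n => by
    haveI : Module.Flat A (padP P n) := by
      rcases n with - | - | n
      · exact (inferInstance : Module.Flat A PUnit.{u + 1})
      · exact (inferInstance : Module.Flat A PUnit.{u + 1})
      · haveI : Module.Projective A (PM.complex.X n) := (IsProjective.iff_projective _).2 (PM.projective n)
        exact (inferInstance : Module.Flat A (PM.complex.X n))
    haveI : Module.Flat A (padQ Q n) := by
      rcases n with - | n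
      · exact (inferInstance : Module.Flat A PUnit.{u + 1})
      · haveI : Module.Projective A (PN.complex.X n) := (IsProjective.iff_projective _).2 (PN.projective n)
        exact (inferInstance : Module.Flat A (PN.complex.X n))
    exact flat_prod (padP P n) (padQ Q n)
  have hex := FlatComplexFibres.exact_of_residueFields
    (F := fun n => ModuleCat.of A (padP P n × padQ Q n)) (d := dC dP dQ φ) (dC_comp dP dQ φ hP hQ hφ) (fun x _ => by
    let X := ModuleCat.of A x.ResidueField
    let F₁ := (MonoidalCategory.tensoringLeft (ModuleCat.{u} A)).obj X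
    have hiso : ∀ i, IsIso (HomologicalComplex.homologyMap ((F₁.mapHomologicalComplex _).map ψ) i) := fun i => by
      have e := ProjectiveResolution.isoLeftDerivedObj_hom_naturality u PM PN ψ hcomm F₁ i
      haveI : IsIso ((F₁.leftDerived i).map u) := h x i
      have : IsIso ((F₁.mapHomologicalComplex _ ⋙ HomologicalComplex.homologyFunctor _ _ i).map ψ) := by
        have e' : (F₁.mapHomologicalComplex _ ⋙ HomologicalComplex.homologyFunctor _ _ i).map ψ =
            (PM.isoLeftDerivedObj F₁ i).inv ≫ (F₁.leftDerived i).map u ≫ (PN.isoLeftDerivedObj F₁ i).hom := by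
          rw [e, Iso.inv_hom_id_assoc]
        rw [e']
        infer_instance
      exact this
    refine exactWith_cone dP dQ φ x.ResidueField hφ ?_ ?_ ?_ ?_
    · intro y hy
      refine (quasiIso_elements (ChainComplex.prev ℕ 0) ChainComplex.next_nat_zero _ (hiso 0)).1 y ?_ hy
      rw [HomologicalComplex.shape _ 0 0 (by simp)]
      rfl
    · intro z
      obtain ⟨y, -, hy⟩ := (quasiIso_elements (ChainComplex.prev ℕ 0) ChainComplex.next_nat_zero _ (hiso 0)).2 z (by
        rw [HomologicalComplex.shape _ 0 0 (by simp)]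
        rfl)
      exact ⟨y, hy⟩
    · intro n y hy hy'
      exact (quasiIso_elements (ChainComplex.prev ℕ (n + 1)) (ChainComplex.next_nat_succ n) _ (hiso (n + 1))).1
        y hy hy'
    · intro n z hz
      exact (quasiIso_elements (ChainComplex.prev ℕ (n + 1)) (ChainComplex.next_nat_succ n) _ (hiso (n + 1))).2
        z hz)
  let εM : P 0 →ₗ[A] M := (PM.π.f 0).hom
  let εN : Q 0 →ₗ[A] N := (PN.π.f 0).hom
  have hεM : Surjective εM := (ModuleCat.epi_iff_surjective (PM.π.f 0)).1 inferInstance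
  have hεN : Surjective εN := (ModuleCat.epi_iff_surjective (PN.π.f 0)).1 inferInstance
  have hdM : LinearMap.range (dP 0) = LinearMap.ker εM :=
    (ShortComplex.exact_of_g_is_cokernel (ShortComplex.mk _ _ PM.complex_d_comp_π_f_zero)
      PM.isColimitCokernelCofork).moduleCat_range_eq_ker
  have hdN : LinearMap.range (dQ 0) = LinearMap.ker εN :=
    (ShortComplex.exact_of_g_is_cokernel (ShortComplex.mk _ _ PN.complex_d_comp_π_f_zero)
      PN.isColimitCokernelCofork).moduleCat_range_eq_ker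
  have hsq : ∀ p, u (εM p) = εN (φ 0 p) := fun p => (CategoryTheory.congr_fun hcomm p).symm
  rw [ConcreteCategory.isIso_iff_bijective]
  constructor
  · refine (injective_iff_map_eq_zero u.hom).2 fun m hm => ?_
    obtain ⟨p, rfl⟩ := hεM m
    have hp : φ 0 p ∈ LinearMap.range (dQ 0) := by
      rw [hdN, LinearMap.mem_ker, ← hsq]
      exact hm
    obtain ⟨q, hq⟩ := hp
    obtain ⟨⟨a, b⟩, hab⟩ := (hex 1 (p, -q)).1 (Prod.ext (Subsingleton.elim (α := PUnit.{u + 1}) _ _) (by
      show φ 0 p + dQ 0 (-q) = 0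
      rw [map_neg, hq, add_neg_cancel]))
    have h1 : -(dP 0 a) = p := congrArg Prod.fst hab
    have h2 : p ∈ LinearMap.range (dP 0) := ⟨-a, (map_neg (dP 0) a).trans h1⟩
    rwa [hdM, LinearMap.mem_ker] at h2
  · intro t
    obtain ⟨q, rfl⟩ := hεN t
    obtain ⟨⟨a, b⟩, hab⟩ := (hex 0 (PUnit.unit, q)).1 rfl
    have h2 : φ 0 a + dQ 0 b = q := congrArg Prod.snd hab
    refine ⟨εM a, ?_⟩
    have hb : εN (dQ 0 b) = 0 := LinearMap.mem_ker.1 (hdN ▸ LinearMap.mem_range_self _ b)
    rw [← h2, map_add, hb, add_zero]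
    exact hsq a

end Groth.Agent.CAlgH.TorIsoModules
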