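import Groth.Agent.CAlgH.CIPresentation
import Groth.Agent.CAlgH.Avramov
import Groth.Agent.CAlgH.AvramovCI
import Groth.Agent.EGA41Lib.FlatRegular
import Groth.Prelude.Def_EGA4b

/-!
# Transversally regular sequences and complete intersection fibres
-/

universe u

set_option autoImplicit false

open IsLocalRing RingTheory.Sequence
open scoped Pointwise

namespace Groth.Agent.CAlgH.TransRegularCI

variable {A C : Type u} [CommRing A] [CommRing C] [Algebra A C]

/-- Regularity descends to reductions when the quotient is flat. -/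
theorem isSMulRegular_reduction (I : Ideal A) {N : Type u} [AddCommGroup N] [Module C N] [Module A N]
    [IsScalarTower A C N] {y : C} (hy : IsSMulRegular N y) [Module.Flat A (QuotSMulTop y N)] :
    IsSMulRegular (N ⧸ (I.map (algebraMap A C) • (⊤ : Submodule C N))) y := by
  rw [isSMulRegular_quotient_iff_mem_of_smul_mem]
  intro n hn
  rw [← Submodule.restrictScalars_mem A, Ideal.smul_restrictScalars, Submodule.restrictScalars_top] at hn ⊢
  obtain ⟨l, r, hr, s, hs⟩ : ∃ (l : ℕ) (r : Fin l → A), (∀ i, r i ∈ I) ∧ ∃ s : Fin l → N,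
      ∑ i, r i • s i = y • n := by
    refine Submodule.smul_induction_on hn (fun m hm x _ => ⟨1, fun _ => m, fun _ => hm, fun _ => x, by simp⟩) ?_
    rintro a b ⟨la, ra, hra, sa, rfl⟩ ⟨lb, rb, hrb, sb, rfl⟩
    exact ⟨la + lb, Fin.append ra rb, Fin.addCases (by simpa using hra) (by simpa using hrb),
      Fin.append sa sb, by simp [Fin.sum_univ_add]⟩
  let q : N →ₗ[A] QuotSMulTop y N := (Submodule.mkQ (y • (⊤ : Submodule C N))).restrictScalars A
  have hrel : ∑ i, r i • q (s i) = 0 := by
    simp only [← map_smul, ← map_sum, hs]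
    exact (Submodule.Quotient.mk_eq_zero _).2 (Submodule.smul_mem_pointwise_smul _ _ _ trivial)
  obtain ⟨k, a, z, hz, ha⟩ := Module.Flat.isTrivialRelation_of_sum_smul_eq_zero (R := A) (M := QuotSMulTop y N) hrel
  simp only at hz ha
  choose t ht using fun j => Submodule.mkQ_surjective (y • (⊤ : Submodule C N)) (z j)
  have he : ∀ i, ∃ e : N, s i - ∑ j, a i j • t j = y • e := fun i => by
    have h0 : q (s i - ∑ j, a i j • t j) = 0 := by
      rw [map_sub, sub_eq_zero, hz i, map_sum]
      exact Finset.sum_congr rfl fun j _ => by rw [map_smul]; exact congrArg (a i j • ·) (ht j).symm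
    obtain ⟨e, -, he⟩ := (Submodule.mem_smul_pointwise_iff_exists _ _ _).1 ((Submodule.Quotient.mk_eq_zero _).1 h0)
    exact ⟨e, he.symm⟩
  choose e he using he
  have hn' : y • n = y • ∑ i, r i • e i := by
    rw [← hs, Finset.smul_sum]
    calc ∑ i, r i • s i = ∑ i, r i • (y • e i) + ∑ j, (∑ i, r i * a i j) • t j := by
          simp only [Finset.sum_smul, mul_smul]
          rw [Finset.sum_comm, ← Finset.sum_add_distrib]
          refine Finset.sum_congr rfl fun i _ => ?_
          rw [← Finset.smul_sum, ← smul_add, ← he i, sub_add_cancel]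
      _ = _ := by
          simp only [ha, zero_smul, Finset.sum_const_zero, add_zero]
          exact Finset.sum_congr rfl fun i _ => smul_comm _ _ _
  rw [hy hn']
  exact sum_mem fun i _ => Submodule.smul_mem_smul (hr i) trivial

/-- Sequences with flat successive quotients stay regular on reductions. -/
theorem isWeaklyRegular_reduction (I : Ideal A) : ∀ (rs : List C) {N : Type u} [AddCommGroup N] [Module C N]
    [Module A N] [IsScalarTower A C N], IsWeaklyRegular N rs →
      (∀ i ≤ rs.length, Module.Flat A (N ⧸ (Ideal.ofList (rs.take i) • (⊤ : Submodule C N)))) →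
      IsWeaklyRegular (N ⧸ (I.map (algebraMap A C) • (⊤ : Submodule C N))) rs
  | [], N, _, _, _, _, _, _ => IsWeaklyRegular.nil C _
  | y :: rs, N, _, _, _, _, hreg, hflat => by
    obtain ⟨hy, hrs⟩ := (isWeaklyRegular_cons_iff N y rs).1 hreg
    have hf : ∀ i ≤ rs.length,
        Module.Flat A (QuotSMulTop y N ⧸ (Ideal.ofList (rs.take i) • (⊤ : Submodule C (QuotSMulTop y N)))) := by
      intro i hi
      have := hflat (i + 1) (by simpa using hi)
      rw [List.take_succ_cons] at this
      exact Module.Flat.of_linearEquiv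
        ((Submodule.quotOfListConsSMulTopEquivQuotSMulTopInner N y (rs.take i)).restrictScalars A).symm
    have : Module.Flat A (QuotSMulTop y N) := by
      have := hf 0 (Nat.zero_le _)
      rw [List.take_zero, Ideal.ofList_nil, Submodule.bot_smul] at this
      exact Module.Flat.of_linearEquiv ((Submodule.quotEquivOfEqBot (⊥ : Submodule C (QuotSMulTop y N)) rfl).restrictScalars A).symm
    refine (isWeaklyRegular_cons_iff _ y rs).2 ⟨isSMulRegular_reduction I hy, ?_⟩
    have h := isWeaklyRegular_reduction I rs (N := QuotSMulTop y N) hrs hf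
    let J := I.map (algebraMap A C)
    let g : N →ₗ[C] QuotSMulTop y N ⧸ (J • (⊤ : Submodule C (QuotSMulTop y N))) :=
      (J • (⊤ : Submodule C (QuotSMulTop y N))).mkQ ∘ₗ (y • (⊤ : Submodule C N)).mkQ
    let k : N →ₗ[C] QuotSMulTop y (N ⧸ (J • (⊤ : Submodule C N))) :=
      (y • (⊤ : Submodule C (N ⧸ (J • (⊤ : Submodule C N))))).mkQ ∘ₗ (J • (⊤ : Submodule C N)).mkQ
    have hg : LinearMap.ker g = y • ⊤ ⊔ J • ⊤ := by
      rw [LinearMap.ker_comp, Submodule.ker_mkQ]
      have : J • (⊤ : Submodule C (QuotSMulTop y N)) =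
          Submodule.map (y • (⊤ : Submodule C N)).mkQ (J • ⊤) := by
        rw [Submodule.map_smul'', Submodule.map_top, Submodule.range_mkQ]
      rw [this, Submodule.comap_map_mkQ]
    have hk : LinearMap.ker k = y • ⊤ ⊔ J • ⊤ := by
      rw [LinearMap.ker_comp, Submodule.ker_mkQ]
      have : y • (⊤ : Submodule C (N ⧸ (J • (⊤ : Submodule C N)))) =
          Submodule.map (J • (⊤ : Submodule C N)).mkQ (y • ⊤) := by
        rw [Submodule.map_pointwise_smul, Submodule.map_top, Submodule.range_mkQ]
      rw [this, Submodule.comap_map_mkQ, sup_comm]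
    let e' := (k.quotKerEquivOfSurjective
        ((Submodule.mkQ_surjective _).comp (Submodule.mkQ_surjective _))).symm.trans
      ((Submodule.quotEquivOfEq _ _ (hk.trans hg.symm)).trans (g.quotKerEquivOfSurjective
        ((Submodule.mkQ_surjective _).comp (Submodule.mkQ_surjective _))))
    exact (e'.isWeaklyRegular_congr rs).2 h

section Local

variable [IsLocalRing A] [IsNoetherianRing A] [IsLocalRing C] [IsNoetherianRing C]
  [IsLocalHom (algebraMap A C)] [Module.Flat A C]

theorem exists_transRegularSeq_iff (hreg : IsRegularLocalRing (EGA4.FibRing A C)) {B : Type u}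
    [CommRing B] [IsLocalRing B] [Algebra C B] [Algebra A B] [IsScalarTower A C B] [IsLocalHom (algebraMap A B)]
    (hsurj : Function.Surjective (algebraMap C B)) :
    (∃ rs : List C, Ideal.ofList rs = RingHom.ker (algebraMap C B) ∧
      (IsWeaklyRegular C rs ∧ ∀ j : ℕ, j ≤ rs.length → Module.Flat A (C ⧸ Ideal.ofList (rs.take j)))) ↔
      (Module.Flat A B ∧ Pi1.IsCompleteIntersection (EGA4.FibRing A B)) := by
  have : IsRegularLocalRing (C ⧸ (maximalIdeal A).map (algebraMap A C)) := hreg
  have : IsNoetherianRing B := isNoetherianRing_of_surjective C B _ hsurj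
  let mC := (maximalIdeal A).map (algebraMap A C)
  let J := RingHom.ker (algebraMap C B)
  have hJ : J ≤ maximalIdeal C := le_maximalIdeal (RingHom.ker_ne_top _)
  have hmB : (maximalIdeal A).map (algebraMap A B) = mC.map (algebraMap C B) := by
    rw [Ideal.map_map, ← IsScalarTower.algebraMap_eq]
  let p : C →+* B ⧸ (maximalIdeal A).map (algebraMap A B) := (Ideal.Quotient.mk _).comp (algebraMap C B)
  have hp : Function.Surjective p := Ideal.Quotient.mk_surjective.comp hsurj
  let π : C ⧸ mC →+* B ⧸ (maximalIdeal A).map (algebraMap A B) := Ideal.Quotient.lift mC p fun x hx => by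
    show Ideal.Quotient.mk _ (algebraMap C B x) = 0
    rw [Ideal.Quotient.eq_zero_iff_mem, hmB]
    exact Ideal.mem_map_of_mem _ hx
  have hπ : Function.Surjective π := Ideal.Quotient.lift_surjective_of_surjective _ _ hp
  have hπk : RingHom.ker π = J.map (Ideal.Quotient.mk mC) := by
    refine (Ideal.ker_quotient_lift p _).trans ?_
    rw [show RingHom.ker p = ((maximalIdeal A).map (algebraMap A B)).comap (algebraMap C B) by
      rw [← RingHom.comap_ker, Ideal.mk_ker], hmB, Ideal.comap_map_of_surjective' _ hsurj, Ideal.map_sup,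
      Ideal.map_quotient_self, bot_sup_eq]
  have : Nontrivial (B ⧸ (maximalIdeal A).map (algebraMap A B)) := Ideal.Quotient.nontrivial_iff.2
    (ne_top_of_le_ne_top (maximalIdeal.isMaximal B).ne_top (IsLocalRing.map_maximalIdeal_le _))
  have : IsLocalRing (B ⧸ (maximalIdeal A).map (algebraMap A B)) := .of_surjective' _ Ideal.Quotient.mk_surjective
  have hCI : Pi1.IsCompleteIntersection (EGA4.FibRing A B) ↔ CInt.IsRegularIdeal (J.map (Ideal.Quotient.mk mC)) := by
    rw [← hπk]
    exact CIPresentation.isCompleteIntersection_iff π hπ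
  have hsmul : mC • (⊤ : Submodule C C) = mC := by rw [smul_eq_mul, Ideal.mul_top]
  have hflatC : ∀ (rs : List C), (∀ j : ℕ, j ≤ rs.length → Module.Flat A (C ⧸ Ideal.ofList (rs.take j))) ↔
      ∀ j : ℕ, j ≤ rs.length → Module.Flat A (C ⧸ (Ideal.ofList (rs.take j) • (⊤ : Submodule C C))) := fun rs => by
    refine forall₂_congr fun j _ => ?_
    have e : Ideal.ofList (rs.take j) • (⊤ : Submodule C C) = Ideal.ofList (rs.take j) := by
      rw [smul_eq_mul, Ideal.mul_top]
    exact ⟨fun h => Module.Flat.of_linearEquiv ((Submodule.quotEquivOfEq _ _ e).restrictScalars A),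
      fun h => Module.Flat.of_linearEquiv ((Submodule.quotEquivOfEq _ _ e.symm).restrictScalars A)⟩
  let eB : (C ⧸ J) ≃ₐ[A] B := Ideal.quotientKerAlgEquivOfSurjective
    (f := IsScalarTower.toAlgHom A C B) hsurj
  rw [hCI]
  constructor
  · rintro ⟨rs, hrsJ, hrs, hflat⟩
    have hlast := hflat rs.length le_rfl
    rw [List.take_length, hrsJ] at hlast
    refine ⟨Module.Flat.of_linearEquiv eB.symm.toLinearEquiv, rs.map (Ideal.Quotient.mk mC),
      RegularIdealLocal.isRegular_of_mem ?_ ?_, by rw [← Ideal.map_ofList, hrsJ]⟩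
    · refine (isWeaklyRegular_map_algebraMap_iff (C ⧸ mC) (C ⧸ mC) rs).2 ?_
      exact ((Submodule.quotEquivOfEq _ _ hsmul).isWeaklyRegular_congr rs).1
        (isWeaklyRegular_reduction (maximalIdeal A) rs hrs ((hflatC rs).1 hflat))
    · intro y hy
      obtain ⟨x, hx, rfl⟩ := List.mem_map.1 hy
      have : IsLocalHom (Ideal.Quotient.mk mC) := .of_surjective _ Ideal.Quotient.mk_surjective
      exact map_nonunit _ _ (hJ (hrsJ.le (Ideal.subset_span hx)))
  · rintro ⟨hB, bs, hbs, hbsJ⟩
    have hlift : ∀ y ∈ bs, ∃ z ∈ J, Ideal.Quotient.mk mC z = y := fun y hy =>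
      (Ideal.mem_map_iff_of_surjective _ Ideal.Quotient.mk_surjective).1 (hbsJ ▸ Ideal.subset_span hy)
    choose g hgJ hg using hlift
    let zs : List C := bs.pmap g fun _ h => h
    have hzs : zs.map (Ideal.Quotient.mk mC) = bs := by simp [zs, List.map_pmap, hg]
    have hzsJ : Ideal.ofList zs ≤ J := Ideal.span_le.2 fun y hy => by
      obtain ⟨w, hw, rfl⟩ := List.mem_pmap.1 hy
      exact hgJ _ _
    have hJeq : Ideal.ofList zs = J := by
      refine le_antisymm hzsJ (Submodule.le_of_le_smul_of_le_jacobson_bot (IsNoetherian.noetherian J)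
        ((IsLocalRing.map_maximalIdeal_le (algebraMap A C)).trans (maximalIdeal_le_jacobson _)) fun y hy => ?_)
      have hy' : Ideal.Quotient.mk mC y ∈ (Ideal.ofList zs).map (Ideal.Quotient.mk mC) := by
        rw [Ideal.map_ofList, hzs, hbsJ]; exact Ideal.mem_map_of_mem _ hy
      obtain ⟨w, hw, hwy⟩ := (Ideal.mem_map_iff_of_surjective _ Ideal.Quotient.mk_surjective).1 hy'
      have hd := Avramov.mem_sup_of_flat (R := A) (A := A) (S := C) (B := B) Function.surjective_id hsurj
        (x := y - w) (sub_mem hy (hzsJ hw)) (Ideal.Quotient.eq.1 hwy.symm)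
      rw [show RingHom.ker (algebraMap A A) = ⊥ from (RingHom.injective_iff_ker_eq_bot _).1 Function.injective_id,
        Ideal.map_bot, bot_sup_eq] at hd
      rw [← add_sub_cancel w y]
      exact add_mem (Submodule.mem_sup_left hw) (Submodule.mem_sup_right hd)
    have hwr : IsWeaklyRegular (C ⧸ (mC • (⊤ : Submodule C C))) zs :=
      ((Submodule.quotEquivOfEq _ _ hsmul).isWeaklyRegular_congr zs).2
        ((isWeaklyRegular_map_algebraMap_iff (C ⧸ mC) (C ⧸ mC) zs).1 (by
          show IsWeaklyRegular (C ⧸ mC) (zs.map (Ideal.Quotient.mk mC))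
          rw [hzs]; exact hbs.toIsWeaklyRegular))
    obtain ⟨h1, h2⟩ := EGA41Lib.isWeaklyRegular_and_flat_of_fibre (A := A) zs (N := C) hwr
    exact ⟨zs, hJeq, h1, (hflatC zs).2 h2⟩

end Local

end Groth.Agent.CAlgH.TransRegularCI
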