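import Groth.Agent.CAlgH.FlatRegularCoker
import Groth.Agent.CInt15.NormalFlat
import Groth.Agent.FlatMorSlice.Regular
import Groth.Agent.Props12.FlatOver
import Mathlib

/-!
# Regular sequences with flat quotient: flatness of the ring and of the partial quotients
-/

universe u

set_option autoImplicit false
set_option backward.isDefEq.respectTransparency false

open Function RingTheory.Sequence
open scoped Pointwise
open Groth.Agent.EGA43.InjFibre

namespace Groth.Agent.CAlgH.TransversalAlg

variable {R P : Type u} [CommRing R] [CommRing P] [Algebra R P] [Algebra.FinitePresentation R P]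

/-- Flatness at `q` from that of the quotient by a regular sequence in `q`. -/
theorem flat_of_isWeaklyRegular (q : PrimeSpectrum P) : ∀ (rs : List P), (∀ r ∈ rs, r ∈ q.asIdeal) →
    ∀ (N : Type u) [AddCommGroup N] [Module P N] [Module R N] [IsScalarTower R P N]
      [Module.FinitePresentation P N], IsWeaklyRegular N rs →
      Module.Flat R (LocalizedModule q.asIdeal.primeCompl (N ⧸ (Ideal.ofList rs • ⊤ : Submodule P N))) →
      Module.Flat R (LocalizedModule q.asIdeal.primeCompl N)
  | [], _, N, _, _, _, _, _, _, h =>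
    FlatMorSlice.flat_localized_congr (Submodule.quotEquivOfEqBot _ (by simp)) _ h
  | f :: fs, hq, N, _, _, _, _, _, hreg, h => by
    obtain ⟨hf, hfs⟩ := (isWeaklyRegular_cons_iff N f fs).1 hreg
    have : Module.FinitePresentation P (QuotSMulTop f N) := by
      refine Module.finitePresentation_of_surjective _ (Submodule.mkQ_surjective _) ?_
      rw [Submodule.ker_mkQ]
      exact Submodule.FG.map (LinearMap.lsmul P N f) Module.Finite.fg_top
    have h1 := flat_of_isWeaklyRegular q fs (fun r hr => hq r (List.mem_cons_of_mem _ hr)) (QuotSMulTop f N) hfs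
      (FlatMorSlice.flat_localized_congr (Submodule.quotOfListConsSMulTopEquivQuotSMulTopInner N f fs) _ h)
    refine FlatRegularCoker.flat_localized_of_regular_coker f q (hq f List.mem_cons_self) ⟨fun m hm => ?_, ?_⟩
    · exact ⟨1, q.asIdeal.primeCompl.one_mem, by rw [one_smul]; exact hf (hm.trans (smul_zero f).symm)⟩
    · refine FlatMorSlice.flat_localized_congr (Submodule.quotEquivOfEq _ _ ?_) _ h1
      ext x
      rw [Submodule.mem_smul_pointwise_iff_exists]
      exact ⟨fun ⟨y, _, hy⟩ => ⟨y, hy⟩, fun ⟨y, hy⟩ => ⟨y, trivial, hy⟩⟩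

/-- All the partial quotients are flat at `q`. -/
theorem flat_take (q : PrimeSpectrum P) (rs : List P) (hq : ∀ r ∈ rs, r ∈ q.asIdeal)
    (hreg : IsWeaklyRegular P rs)
    (h : Module.Flat R (LocalizedModule q.asIdeal.primeCompl (P ⧸ Ideal.ofList rs))) (j : ℕ) :
    Module.Flat R (LocalizedModule q.asIdeal.primeCompl (P ⧸ Ideal.ofList (rs.take j))) := by
  let J : Ideal P := Ideal.ofList (rs.take j)
  let N := P ⧸ (J • ⊤ : Submodule P P)
  have : Module.FinitePresentation P N := by
    refine Module.finitePresentation_of_surjective _ (Submodule.mkQ_surjective _) ?_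
    rw [Submodule.ker_mkQ, smul_eq_mul, Ideal.mul_top]
    exact Submodule.fg_span (List.finite_toSet _)
  rw [← List.take_append_drop j rs, isWeaklyRegular_append_iff] at hreg
  have hsup : J ⊔ Ideal.ofList (rs.drop j) = Ideal.ofList rs := by
    rw [← Ideal.ofList_append, List.take_append_drop]
  have h1 := flat_of_isWeaklyRegular q (rs.drop j) (fun r hr => hq r (List.mem_of_mem_drop hr)) N hreg.2
    (FlatMorSlice.flat_localized_congr ((Submodule.quotEquivOfEq _ _ (by rw [hsup, smul_eq_mul, Ideal.mul_top])).trans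
      (CInt15.quotQuot J (Ideal.ofList (rs.drop j)) P).symm) _ h)
  exact FlatMorSlice.flat_localized_congr (Submodule.quotEquivOfEq _ _ (by rw [smul_eq_mul, Ideal.mul_top])) _ h1

/-- Flatness at `q` of the ring itself. -/
theorem flat_self (q : PrimeSpectrum P) (rs : List P) (hq : ∀ r ∈ rs, r ∈ q.asIdeal)
    (hreg : IsWeaklyRegular P rs)
    (h : Module.Flat R (LocalizedModule q.asIdeal.primeCompl (P ⧸ Ideal.ofList rs))) :
    Module.Flat R (LocalizedModule q.asIdeal.primeCompl P) :=
  FlatMorSlice.flat_localized_congr (Submodule.quotEquivOfEqBot _ (by simp)) _ (flat_take q rs hq hreg h 0)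

omit [Algebra.FinitePresentation R P] in
/-- Quotients of a localisation. -/
theorem flat_quotient_map (M : Submonoid P) (L : Type u) [CommRing L] [Algebra P L] [IsLocalization M L]
    [Algebra R L] [IsScalarTower R P L] (J : Ideal P) (h : Module.Flat R (LocalizedModule M (P ⧸ J))) :
    Module.Flat R (L ⧸ J.map (algebraMap P L)) := by
  have : IsLocalizedModule M (TensorProduct.mk P L (P ⧸ J) 1) :=
    (isLocalizedModule_iff_isBaseChange M L _).2 (TensorProduct.isBaseChange P (P ⧸ J) L)
  let e := ((Algebra.TensorProduct.quotIdealMapEquivTensorQuot L J).toLinearEquiv.restrictScalars P).trans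
    (IsLocalizedModule.iso M (TensorProduct.mk P L (P ⧸ J) 1)).symm
  exact Module.Flat.of_linearEquiv (e.restrictScalars R)

/-- Flatness of all partial quotients on a basic open. -/
theorem exists_flat_take_away (q : PrimeSpectrum P) (rs : List P) (hq : ∀ r ∈ rs, r ∈ q.asIdeal)
    (hreg : IsWeaklyRegular P rs)
    (h : Module.Flat R (LocalizedModule q.asIdeal.primeCompl (P ⧸ Ideal.ofList rs))) :
    ∃ G ∉ q.asIdeal, ∀ (L : Type u) [CommRing L] [Algebra P L] [IsLocalization.Away G L]
      [Algebra R L] [IsScalarTower R P L] (j : ℕ),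
        Module.Flat R (L ⧸ Ideal.ofList ((rs.map (algebraMap P L)).take j)) := by
  classical
  have key : ∀ j : Fin (rs.length + 1), ∃ c ∉ q.asIdeal, ∀ (r : Ideal P) [r.IsPrime], c ∉ r →
      Module.Flat R (LocalizedModule r.primeCompl (P ⧸ Ideal.ofList (rs.take j))) := fun j => by
    have : Module.FinitePresentation P (P ⧸ Ideal.ofList (rs.take j)) := by
      refine Module.finitePresentation_of_surjective _ (Submodule.mkQ_surjective _) ?_
      rw [Submodule.ker_mkQ]
      exact Submodule.fg_span (List.finite_toSet _)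
    obtain ⟨_, ⟨_, ⟨c, rfl⟩, rfl⟩, hc, hle⟩ :=
      PrimeSpectrum.isBasis_basic_opens.exists_subset_of_mem_open (show q ∈ _ from flat_take q rs hq hreg h j)
        (EGA43.FlatDescent.isOpen_setOf_flat (A := R) (S := P) (N := P ⧸ Ideal.ofList (rs.take j)))
    exact ⟨c, hc, fun r _ hr => hle (a := ⟨r, inferInstance⟩) hr⟩
  choose c hc hfl using key
  refine ⟨∏ j, c j, q.asIdeal.primeCompl.prod_mem fun j _ => hc j, fun L _ _ _ _ _ j => ?_⟩
  rw [← List.map_take, ← Ideal.map_ofList]
  obtain ⟨i, hi⟩ : ∃ i : Fin (rs.length + 1), rs.take i = rs.take j :=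
    ⟨⟨min j rs.length, by omega⟩, by simp [List.take_eq_take_iff]⟩
  refine flat_quotient_map (Submonoid.powers (∏ j, c j)) L _ ?_
  rw [← hi]
  exact FlatMorSlice.flat_away_of_forall _ fun r _ hr => hfl i r fun h =>
    hr (r.mem_of_dvd (Finset.dvd_prod_of_mem _ (Finset.mem_univ i)) h)

end Groth.Agent.CAlgH.TransversalAlg
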