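import Groth.Agent.CAlgH.TransversalImmersion

/-!
# Fibrewise regular immersions of flat schemes are regular (EGA IV 19.2.4)
-/

universe u

set_option autoImplicit false
set_option linter.style.haveILetI false
set_option backward.isDefEq.respectTransparency false

open CategoryTheory CategoryTheory.Limits AlgebraicGeometry RingTheory.Sequence IsLocalRing

namespace Groth.Agent.CAlgH.TransversalImmersion

attribute [local instance] CommAlg6.isLocalRing_fibLocRing

variable {X Y S : Scheme.{u}} (u : Y ⟶ X) (g : X ⟶ S) [IsClosedImmersion u]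

theorem isPullback_fiberMap (s : S) :
    IsPullback ((u ≫ g).fiberι s) (CInt.fiberMap u g s) u (g.fiberι s) :=
  IsPullback.of_bot (h₁₁ := (u ≫ g).fiberι s)
    (by
      rw [show CInt.fiberMap u g s ≫ pullback.snd g (S.fromSpecResidueField s) =
        pullback.snd (u ≫ g) (S.fromSpecResidueField s) from (pullback.lift_snd _ _ _).trans (Category.comp_id _)]
      exact IsPullback.of_hasPullback (u ≫ g) (S.fromSpecResidueField s))
    (pullback.lift_fst _ _ _).symm (IsPullback.of_hasPullback g (S.fromSpecResidueField s))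

/-- The kernel at a stalk of the fibre, from a chart. -/
theorem ker_fiberMap_stalkMap (s : S) (z : ↥((u ≫ g).fiber s)) {U : X.Opens}
    (hU : IsAffineOpen U) (hzU : g.fiberι s (CInt.fiberMap u g s z) ∈ U) :
    RingHom.ker ((CInt.fiberMap u g s).stalkMap z).hom =
      ((RingHom.ker (u.app U).hom).map (X.presheaf.germ U _ hzU).hom).map
        ((g.fiberι s).stalkMap (CInt.fiberMap u g s z)).hom := by
  let i' := CInt.fiberMap u g s
  have hsq := isPullback_fiberMap u g s
  have : IsClosedImmersion i' := MorphismProperty.of_isPullback (P := @IsClosedImmersion) hsq inferInstance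
  obtain ⟨_, ⟨Q, hQ, rfl⟩, hzQ, hQU⟩ := (g.fiber s).isBasis_affineOpens.exists_subset_of_mem_open
    (show i' z ∈ g.fiberι s ⁻¹ᵁ U from hzU) (g.fiberι s ⁻¹ᵁ U).2
  replace hQU : Q ≤ g.fiberι s ⁻¹ᵁ U := hQU
  have : IsClosedImmersion (u ∣_ U) := IsZariskiLocalAtTarget.restrict ‹IsClosedImmersion u› U
  obtain ⟨-, hk⟩ := KoszulChart.baseChange u (g.fiberι s) i' ((u ≫ g).fiberι s) hsq hU hQ hQU
  rw [CIImmersion.ker_stalkMap_eq i' z hQ hzQ, hk, Ideal.map_map, Ideal.map_map]
  exact congrArg (fun φ => Ideal.map φ _) (FlatMorSlice.germ_appLE_eq (g.fiberι s) hQU hzQ)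

/-- Regularity of the fibre ideal in a chart. -/
theorem isRegularIdeal_fib [LocallyOfFiniteType g] (s : S) (z : ↥((u ≫ g).fiber s)) {V : S.Opens}
    (hV : IsAffineOpen V) {U : X.Opens} (hU : IsAffineOpen U) (e : U ≤ g ⁻¹ᵁ V)
    (hzU : g.fiberι s (CInt.fiberMap u g s z) ∈ U)
    (h : CInt.IsRegularIdeal (RingHom.ker ((CInt.fiberMap u g s).stalkMap z).hom)) :
    letI := (g.appLE V U e).hom.toAlgebra
    CInt.IsRegularIdeal (((RingHom.ker (u.app U).hom).map
        (algebraMap Γ(X, U) (Localization.AtPrime (hU.primeIdealOf ⟨_, hzU⟩).asIdeal))).map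
      (Ideal.Quotient.mk (((hU.primeIdealOf ⟨_, hzU⟩).asIdeal.comap (algebraMap Γ(S, V) Γ(X, U))).map
        (algebraMap Γ(S, V) (Localization.AtPrime (hU.primeIdealOf ⟨_, hzU⟩).asIdeal))))) := by
  letI := (g.appLE V U e).hom.toAlgebra
  let x := g.fiberι s (CInt.fiberMap u g s z)
  let q := (hU.primeIdealOf ⟨x, hzU⟩).asIdeal
  let _ := X.presheaf.algebra_section_stalk ⟨x, hzU⟩
  have := hU.isLocalization_stalk ⟨x, hzU⟩
  let E : X.presheaf.stalk x ≃ₐ[Γ(X, U)] Localization.AtPrime q :=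
    IsLocalization.algEquiv q.primeCompl _ _
  obtain ⟨hσ, hker⟩ := Props12.stalkMap_fiberι g s (CInt.fiberMap u g s z)
  rw [FlatMorSlice.map_stalkMap_maximalIdeal_eq g hV hU e hzU] at hker
  rw [ker_fiberMap_stalkMap u g s z hU hzU] at h
  have : IsLocallyNoetherian (g.fiber s) := by
    have : LocallyOfFiniteType (g.fiberToSpecResidueField s) :=
      MorphismProperty.pullback_snd (P := @LocallyOfFiniteType) _ _ ‹_›
    exact LocallyOfFiniteType.isLocallyNoetherian (g.fiberToSpecResidueField s)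
  let σ := ((g.fiberι s).stalkMap (CInt.fiberMap u g s z)).hom.comp E.symm.toRingEquiv.toRingHom
  have hσs : Function.Surjective σ := hσ.comp E.symm.surjective
  have hEg : ∀ a, E (X.presheaf.germ U x hzU a) = algebraMap _ (Localization.AtPrime q) a := fun a => E.commutes a
  let pQ := (q.comap (algebraMap Γ(S, V) Γ(X, U))).map (algebraMap Γ(S, V) (Localization.AtPrime q))
  have hσk : RingHom.ker σ = pQ := by
    rw [show RingHom.ker σ = (RingHom.ker ((g.fiberι s).stalkMap (CInt.fiberMap u g s z)).hom).comap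
      E.symm.toRingEquiv.toRingHom from (RingHom.comap_ker _ _).symm, hker]
    show Ideal.comap E.symm.toRingEquiv _ = _
    rw [← Ideal.map_symm, Ideal.map_map, ← Ideal.map_coe, Ideal.map_map]
    show _ = Ideal.map (algebraMap Γ(S, V) (Localization.AtPrime q)) _
    rw [IsScalarTower.algebraMap_eq Γ(S, V) Γ(X, U) (Localization.AtPrime q)]
    exact congrArg (fun φ => Ideal.map φ _) (RingHom.ext fun r => hEg (algebraMap Γ(S, V) Γ(X, U) r))
  let ε : Localization.AtPrime q ⧸ pQ ≃+* (g.fiber s).presheaf.stalk (CInt.fiberMap u g s z) :=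
    (Ideal.quotEquivOfEq hσk.symm).trans (RingHom.quotientKerEquivOfSurjective hσs)
  have : Nontrivial (Localization.AtPrime q ⧸ pQ) := ε.toEquiv.nontrivial
  have : IsLocalRing (Localization.AtPrime q ⧸ pQ) := IsLocalRing.of_surjective' (Ideal.Quotient.mk _) Ideal.Quotient.mk_surjective
  have h2 := CIPresentation.isRegularIdeal_map_equiv ε.symm h
  have hε : ∀ a, ε (Ideal.Quotient.mk pQ (algebraMap _ (Localization.AtPrime q) a)) =
      (g.fiberι s).stalkMap (CInt.fiberMap u g s z) (X.presheaf.germ U x hzU a) := fun a => by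
    show (g.fiberι s).stalkMap _ (E.symm (algebraMap _ (Localization.AtPrime q) a)) = _
    rw [AlgEquiv.commutes]
    rfl
  rw [Ideal.map_map, Ideal.map_map] at h2
  rw [Ideal.map_map]
  convert h2 using 2
  refine RingHom.ext fun a => ?_
  show _ = ε.symm _
  rw [RingEquiv.eq_symm_apply]
  exact hε a

/-- A fibrewise regular immersion with flat source and flat ambient scheme is regular. -/
theorem regular_of_fibre [LocallyOfFinitePresentation g] [LocallyOfFinitePresentation (u ≫ g)] (s : S)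
    (z : ↥((u ≫ g).fiber s)) (W : Y.Opens) (hzW : (u ≫ g).fiberι s z ∈ W)
    (hflatY : ∀ y' ∈ W, ((u ≫ g).stalkMap y').hom.Flat)
    (hflatX : (g.stalkMap (u ((u ≫ g).fiberι s z))).hom.Flat)
    (h : CInt.IsRegularIdeal (RingHom.ker ((CInt.fiberMap u g s).stalkMap z).hom)) :
    ∃ V : X.Opens, u ((u ≫ g).fiberι s z) ∈ V ∧ Mor2.IsRegularClosedImmersion (u ∣_ V) := by
  obtain ⟨x, hx⟩ : ∃ x, x = g.fiberι s (CInt.fiberMap u g s z) := ⟨_, rfl⟩
  have hxy : u ((u ≫ g).fiberι s z) = g.fiberι s (CInt.fiberMap u g s z) :=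
    congrArg (fun φ : (u ≫ g).fiber s ⟶ X => φ z) (isPullback_fiberMap u g s).w
  generalize hy : (u ≫ g).fiberι s z = y at *
  obtain ⟨_, ⟨V, hV, rfl⟩, hxV, -⟩ :=
    S.isBasis_affineOpens.exists_subset_of_mem_open (Set.mem_univ (g (u y))) isOpen_univ
  have hC : IsClosed (u '' (W : Set Y)ᶜ) := u.isClosedEmbedding.isClosedMap _ W.2.isClosed_compl
  let W' : X.Opens := g ⁻¹ᵁ V ⊓ ⟨(u '' (W : Set Y)ᶜ)ᶜ, hC.isOpen_compl⟩ ⊓
    ⟨_, EGA43.FlatDescent.isOpen_flat_stalkMap g⟩
  have hyW' : u y ∈ W' :=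
    ⟨⟨hxV, fun ⟨y', hy', he⟩ => hy' (u.isClosedEmbedding.injective he ▸ hzW)⟩, hflatX⟩
  obtain ⟨_, ⟨U, hU, rfl⟩, hyU, hle⟩ := X.isBasis_affineOpens.exists_subset_of_mem_open hyW' W'.2
  replace hle : U ≤ W' := hle
  have e : U ≤ g ⁻¹ᵁ V := fun a ha => (hle ha).1.1
  have hUW : ∀ y', u y' ∈ U → y' ∈ W := fun y' hy' => by
    by_contra hn
    exact (hle hy').1.2 ⟨y', hn, rfl⟩
  let U' := u ⁻¹ᵁ U
  have hU' : IsAffineOpen U' := hU.preimage u
  have e' : U' ≤ (u ≫ g) ⁻¹ᵁ V := fun z hz => e hz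
  let P := Γ(X, U)
  let B := Γ(Y, U')
  letI : Algebra Γ(S, V) P := (g.appLE V U e).hom.toAlgebra
  letI : Algebra Γ(S, V) B := ((u ≫ g).appLE V U' e').hom.toAlgebra
  have : Algebra.FinitePresentation Γ(S, V) P :=
    HasRingHomProperty.appLE @LocallyOfFinitePresentation g ‹_› ⟨V, hV⟩ ⟨U, hU⟩ e
  have : Algebra.FinitePresentation Γ(S, V) B :=
    HasRingHomProperty.appLE @LocallyOfFinitePresentation (u ≫ g) ‹_› ⟨V, hV⟩ ⟨U', hU'⟩ e'
  have : Module.Flat Γ(S, V) P := flat_appLE_of_forall g hV hU e fun a ha => (hle ha).2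
  have : Module.Flat Γ(S, V) B := flat_appLE_of_forall (u ≫ g) hV hU' e' fun y' hy' => hflatY y' (hUW y' hy')
  have hcomm : (u ≫ g).appLE V U' e' = g.appLE V U e ≫ u.app U := by
    rw [Scheme.Hom.app_eq_appLE, Scheme.Hom.appLE_comp_appLE]
  let π : P →ₐ[Γ(S, V)] B := ⟨(u.app U).hom, fun c => (ConcreteCategory.congr_hom hcomm c).symm⟩
  have hπ : Function.Surjective π := u.app_surjective U hU
  have : Module.Flat Γ(S, V) (P ⧸ RingHom.ker π.toRingHom) :=
    Module.Flat.of_linearEquiv (Ideal.quotientKerAlgEquivOfSurjective hπ).toLinearEquiv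
  have hzU : g.fiberι s (CInt.fiberMap u g s z) ∈ U := hxy ▸ hyU
  obtain ⟨rs, G, hG, hrsI, hgen, hcolon, -⟩ := CIOpen.exists_regular_generators (RingHom.ker π.toRingHom)
    (Algebra.FinitePresentation.ker_fG_of_surjective π hπ) (hU.primeIdealOf ⟨_, hzU⟩).asIdeal
    (isRegularIdeal_fib u g s z hV hU e hzU h)
  have hD : IsAffineOpen (X.basicOpen G) := hU.basicOpen G
  have hyD : u y ∈ X.basicOpen G := by
    rw [hxy]
    refine (X.mem_basicOpen G _ hzU).2 ?_
    let := X.presheaf.algebra_section_stalk ⟨_, hzU⟩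
    have := hU.isLocalization_stalk ⟨_, hzU⟩
    exact IsLocalization.map_units (X.presheaf.stalk _) (⟨G, hG⟩ : (hU.primeIdealOf ⟨_, hzU⟩).asIdeal.primeCompl)
  have := hU.isLocalization_basicOpen G
  let ρ := algebraMap P Γ(X, X.basicOpen G)
  have hkerD : RingHom.ker (u.app (X.basicOpen G)).hom = Ideal.ofList (rs.map ρ) := by
    rw [← Scheme.Hom.ker_apply u ⟨_, hD⟩, ← Ideal.map_ofList,
      ← CIOpen.map_eq_of_mul_mem (L := Γ(X, X.basicOpen G)) (Submonoid.powers G) (Submonoid.mem_powers G) hrsI hgen]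
    refine ((u.ker.map_ideal_basicOpen ⟨U, hU⟩ G).symm.trans ?_)
    rw [Scheme.Hom.ker_apply]
    rfl
  refine ⟨X.basicOpen G, hyD, CIImmersion.isRegularClosedImmersion_restrict u hD _ ⟨?_, ?_⟩ hkerD⟩
  · exact CIOpen.isWeaklyRegular_localization (Submonoid.powers G) (Submonoid.mem_powers G) hcolon
  · rw [smul_eq_mul, Ideal.mul_top, ne_comm, ← hkerD]
    have : Nonempty (u ⁻¹ᵁ X.basicOpen G : Y.Opens) := ⟨⟨y, hyD⟩⟩
    exact RingHom.ker_ne_top _

/-- Fibres of a morphism locally of finite type are locally Noetherian. -/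
theorem isLocallyNoetherian_fiber [LocallyOfFiniteType g] (s : S) : IsLocallyNoetherian (g.fiber s) := by
  have : LocallyOfFiniteType (g.fiberToSpecResidueField s) :=
    MorphismProperty.pullback_snd (P := @LocallyOfFiniteType) _ _ ‹_›
  exact LocallyOfFiniteType.isLocallyNoetherian (g.fiberToSpecResidueField s)

theorem isClosedImmersion_fiberMap (s : S) : IsClosedImmersion (CInt.fiberMap u g s) :=
  MorphismProperty.of_isPullback (P := @IsClosedImmersion) (isPullback_fiberMap u g s) inferInstance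

/-- The fibre ideal at a stalk is regular. -/
theorem isRegularIdeal_fiber [LocallyOfFinitePresentation g] (s : S) (z : ↥((u ≫ g).fiber s)) (W : Y.Opens)
    (hzW : (u ≫ g).fiberι s z ∈ W) (hflat : ∀ y' ∈ W, ((u ≫ g).stalkMap y').hom.Flat)
    (h : ∃ V : X.Opens, u ((u ≫ g).fiberι s z) ∈ V ∧ Mor2.IsRegularClosedImmersion (u ∣_ V)) :
    CInt.IsRegularIdeal (RingHom.ker ((CInt.fiberMap u g s).stalkMap z).hom) := by
  have := isClosedImmersion_fiberMap u g s
  have := isLocallyNoetherian_fiber g s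
  obtain ⟨Q, hQ, hzQ, ts, hts, hk⟩ := fibre_chart u g s z W hzW hflat h
  rw [Scheme.Hom.ker_apply] at hk
  exact (RegImmLocal.nhd_iff _ z).1 ⟨Q, hzQ, CIImmersion.isRegularClosedImmersion_restrict _ hQ ts hts hk⟩

omit [IsClosedImmersion u] in
theorem flat_stalkMap_of_ι (q : Y ⟶ S) (W : Y.Opens) (h : Flat (W.ι ≫ q)) (y : Y) (hy : y ∈ W) :
    (q.stalkMap y).hom.Flat := by
  have h2 := Flat.stalkMap (W.ι ≫ q) (⟨y, hy⟩ : W)
  rw [Scheme.Hom.stalkMap_comp, CommRingCat.hom_comp] at h2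
  let e := (asIso (W.ι.stalkMap (⟨y, hy⟩ : W))).commRingCatIsoToRingEquiv
  have h3 := h2.comp (RingHom.Flat.of_bijective (f := e.symm.toRingHom) e.symm.bijective)
  have : e.symm.toRingHom.comp ((W.ι.stalkMap (⟨y, hy⟩ : W)).hom.comp (q.stalkMap y).hom) = (q.stalkMap y).hom :=
    RingHom.ext fun a => e.symm_apply_apply _
  exact this ▸ h3

omit [IsClosedImmersion u] in
theorem flat_ι_comp (q : Y ⟶ S) (W : Y.Opens) (h : ∀ y ∈ W, (q.stalkMap y).hom.Flat) : Flat (W.ι ≫ q) := by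
  refine Flat.of_stalkMap _ fun w => ?_
  rw [Scheme.Hom.stalkMap_comp, CommRingCat.hom_comp]
  exact (h _ w.2).comp (RingHom.Flat.of_bijective (f := (W.ι.stalkMap w).hom)
    (ConcreteCategory.bijective_of_isIso (W.ι.stalkMap w)))

/-- A regular closed immersion is regular near every point. -/
theorem exists_nhd_of_regular (h : Mor2.IsRegularClosedImmersion u) (y : Y) :
    ∃ V : X.Opens, u y ∈ V ∧ Mor2.IsRegularClosedImmersion (u ∣_ V) := by
  obtain ⟨U, hU, hyU, rs, hrs, hk⟩ := h.2 y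
  rw [Scheme.Hom.ker_apply] at hk
  exact ⟨U, hyU, CIImmersion.isRegularClosedImmersion_restrict u hU rs hrs hk⟩

theorem isRegular_of_nhds (h : ∀ y, ∃ V : X.Opens, u y ∈ V ∧ Mor2.IsRegularClosedImmersion (u ∣_ V)) :
    Mor2.IsRegularClosedImmersion u := by
  refine ⟨inferInstance, fun y => ?_⟩
  obtain ⟨V, hyV, hV⟩ := h y
  obtain ⟨U, hU, hyU, rs, hrs, hk⟩ := CIImmersion.exists_regular_chart u y V hyV hV
  exact ⟨U, hU, hyU, rs, hrs, by rw [Scheme.Hom.ker_apply]; exact hk⟩

end Groth.Agent.CAlgH.TransversalImmersion
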