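import Groth.Prelude.Def_CInt
import Groth.Agent.CAlgH.TransversalAlg
import Groth.Agent.CAlgH.RegImmLocal
import Groth.Agent.CAlgH.CIOpen
import Groth.Agent.FlatMorSlice.Bridge
import Groth.Agent.FlatMorSlice.BaseChange
import Groth.Agent.EGA43.FlatDescent.SchemeOpen
import Groth.Agent.Props12.Stalks

/-!
# Transversally regular immersions (EGA IV 19.2.4)
-/

universe u

set_option autoImplicit false
set_option linter.style.haveILetI false
set_option backward.isDefEq.respectTransparency false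

open CategoryTheory CategoryTheory.Limits AlgebraicGeometry RingTheory.Sequence

namespace Groth.Agent.CAlgH.TransversalImmersion

variable {X Y S : Scheme.{u}}

/-- Flatness at a point, from a chart. -/
theorem flat_stalkMap_of_chart (g : X ⟶ S) {V : S.Opens} (hV : IsAffineOpen V) {U : X.Opens}
    (hU : IsAffineOpen U) (e : U ≤ g ⁻¹ᵁ V) {x : X} (hx : x ∈ U)
    (h : letI := (g.appLE V U e).hom.toAlgebra
      Module.Flat Γ(S, V) (LocalizedModule (hU.primeIdealOf ⟨x, hx⟩).asIdeal.primeCompl Γ(X, U))) :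
    (g.stalkMap x).hom.Flat := by
  let := (g.appLE V U e).hom.toAlgebra
  rw [RingHom.Flat.respectsIso.arrow_mk_iso_iff (IsAffineOpen.arrowStalkMapIso g V hV U hU e hx)]
  exact (EGA43.FlatDescent.flat_localRingHom_iff (R := Γ(S, V)) (S := Γ(X, U)) _ _
    congr($(IsAffineOpen.comap_primeIdealOf_appLE V hV U hU e hx).1).symm).2 h

/-- A chart all whose points are points of flatness is flat. -/
theorem flat_appLE_of_forall (g : X ⟶ S) {V : S.Opens} (hV : IsAffineOpen V) {U : X.Opens}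
    (hU : IsAffineOpen U) (e : U ≤ g ⁻¹ᵁ V) (h : ∀ x ∈ U, (g.stalkMap x).hom.Flat) :
    letI := (g.appLE V U e).hom.toAlgebra
    Module.Flat Γ(S, V) Γ(X, U) := by
  let := (g.appLE V U e).hom.toAlgebra
  refine Module.flat_of_isLocalized_maximal (S := Γ(X, U)) (M := Γ(X, U))
    (Mₚ := fun P [P.IsMaximal] => LocalizedModule P.primeCompl Γ(X, U))
    (f := fun P [P.IsMaximal] => LocalizedModule.mkLinearMap P.primeCompl Γ(X, U)) fun P hP => ?_
  let q : PrimeSpectrum Γ(X, U) := ⟨P, hP.isPrime⟩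
  have hmem : hU.fromSpec q ∈ U := by
    have : hU.fromSpec q ∈ Set.range hU.fromSpec := ⟨q, rfl⟩
    rwa [hU.range_fromSpec] at this
  have h1 := FlatMorSlice.flat_localized_of_stalkMap g hV hU e hmem (h _ hmem)
  have h2 : hU.primeIdealOf ⟨_, hmem⟩ = q :=
    hU.fromSpec.isOpenEmbedding.injective (hU.fromSpec_primeIdealOf _)
  rwa [h2] at h1

/-- A regular chart inside a given open. -/
theorem exists_adapted_chart (u : Y ⟶ X) [IsClosedImmersion u] (y : Y) (W : X.Opens) (hyW : u y ∈ W)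
    (h : ∃ V : X.Opens, u y ∈ V ∧ Mor2.IsRegularClosedImmersion (u ∣_ V)) :
    ∃ (U : X.Opens) (_ : IsAffineOpen U), u y ∈ U ∧ U ≤ W ∧ ∃ rs : List Γ(X, U),
      IsWeaklyRegular Γ(X, U) rs ∧ RingHom.ker (u.app U).hom = Ideal.ofList rs := by
  obtain ⟨V₀, hy, hreg⟩ := h
  obtain ⟨U, hU, hyU, rs, hrs, hker⟩ := CIImmersion.exists_regular_chart u y V₀ hy hreg
  obtain ⟨c, hc, hyc⟩ := hU.exists_basicOpen_le (V := W) ⟨u y, hyW⟩ hyU
  have hle : X.basicOpen c ≤ U := X.basicOpen_le c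
  have : IsClosedImmersion (u ∣_ U) := IsZariskiLocalAtTarget.restrict ‹IsClosedImmersion u› U
  obtain ⟨-, hk⟩ := KoszulChart.restrict u hU (hU.basicOpen c) hle
  let ρ := (X.presheaf.map (homOfLE hle).op).hom
  refine ⟨_, hU.basicOpen c, hyc, hc, rs.map ρ, ?_, ?_⟩
  · let _ : Algebra Γ(X, U) Γ(X, X.basicOpen c) := ρ.toAlgebra
    have : Module.Flat Γ(X, U) Γ(X, X.basicOpen c) := KoszulChart.flat_restrict hU (hU.basicOpen c) hle
    exact hrs.toIsWeaklyRegular.of_flat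
  · rw [hk, hker, Ideal.map_ofList]

/-- The base change of a closed immersion cut out by a sequence with flat partial quotients. -/
theorem chart_baseChange {Z S' : Scheme.{u}} (i : Z ⟶ X) [IsClosedImmersion i] (q : X ⟶ S) {V : S.Opens}
    (hV : IsAffineOpen V) {D : X.Opens} (hD : IsAffineOpen D) (e : D ≤ q ⁻¹ᵁ V) (rs : List Γ(X, D))
    (hker : RingHom.ker (i.app D).hom = Ideal.ofList rs) (hw : IsWeaklyRegular Γ(X, D) rs)
    (hfl : letI := (q.appLE V D e).hom.toAlgebra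
      ∀ j, Module.Flat Γ(S, V) (Γ(X, D) ⧸ Ideal.ofList (rs.take j)))
    (g : S' ⟶ S) (w₁ : (i ≫ q) ≫ 𝟙 S = i ≫ q) (w₂ : g ≫ 𝟙 S = 𝟙 S' ≫ g)
    (z : ↥(pullback (i ≫ q) g))
    (hz : pullback.fst q g (pullback.map (i ≫ q) g q g i (𝟙 S') (𝟙 S) w₁ w₂ z) ∈ D) :
    ∃ (Q : (pullback q g).Opens) (hQ : IsAffineOpen Q),
      pullback.map (i ≫ q) g q g i (𝟙 S') (𝟙 S) w₁ w₂ z ∈ Q ∧ ∃ ts : List Γ(pullback q g, Q),
        IsRegular Γ(pullback q g, Q) ts ∧
          (pullback.map (i ≫ q) g q g i (𝟙 S') (𝟙 S) w₁ w₂).ker.ideal ⟨Q, hQ⟩ = Ideal.ofList ts := by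
  let i' := pullback.map (i ≫ q) g q g i (𝟙 S') (𝟙 S) w₁ w₂
  have h1 : i' ≫ pullback.snd q g = pullback.snd (i ≫ q) g :=
    (pullback.lift_snd _ _ _).trans (Category.comp_id _)
  have h2 : i' ≫ pullback.fst q g = pullback.fst (i ≫ q) g ≫ i := pullback.lift_fst _ _ _
  have hsq : IsPullback (pullback.fst (i ≫ q) g) i' i (pullback.fst q g) :=
    IsPullback.of_bot (h₁₁ := pullback.fst (i ≫ q) g)
      (by rw [h1]; exact IsPullback.of_hasPullback (i ≫ q) g) h2.symm (IsPullback.of_hasPullback q g)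
  have : IsClosedImmersion i' := MorphismProperty.of_isPullback (P := @IsClosedImmersion) hsq inferInstance
  let p := i' z
  have hpV : pullback.snd q g p ∈ g ⁻¹ᵁ V := by
    show g (pullback.snd q g p) ∈ V
    rw [← Scheme.Hom.comp_apply, ← pullback.condition, Scheme.Hom.comp_apply]
    exact e hz
  obtain ⟨_, ⟨W, hW, rfl⟩, hpW, hWV⟩ := S'.isBasis_affineOpens.exists_subset_of_mem_open hpV (g ⁻¹ᵁ V).2
  replace hWV : W ≤ g ⁻¹ᵁ V := hWV
  let Q : (pullback q g).Opens := pullback.fst q g ⁻¹ᵁ D ⊓ pullback.snd q g ⁻¹ᵁ W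
  have hQ : IsAffineOpen Q := by
    have : IsAffine _ := hV
    have : IsAffine _ := hW
    have : IsAffine _ := hD
    exact .of_isIso (Scheme.Hom.isPullback_resLE (IsPullback.of_hasPullback q g) hWV e (UY := Q) rfl).isoPullback.hom
  have : IsClosedImmersion (i ∣_ D) := IsZariskiLocalAtTarget.restrict ‹IsClosedImmersion i› D
  obtain ⟨-, hk⟩ := KoszulChart.baseChange i (pullback.fst q g) i' (pullback.fst (i ≫ q) g) hsq hD hQ inf_le_left
  let _ : Algebra Γ(S, V) Γ(X, D) := (q.appLE V D e).hom.toAlgebra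
  let _ : Algebra Γ(S, V) Γ(S', W) := (g.appLE V W hWV).hom.toAlgebra
  let _ : Algebra Γ(S', W) Γ(pullback q g, Q) := ((pullback.snd q g).appLE W Q inf_le_right).hom.toAlgebra
  let _ : Algebra Γ(X, D) Γ(pullback q g, Q) := ((pullback.fst q g).appLE D Q inf_le_left).hom.toAlgebra
  let _ : Algebra Γ(S, V) Γ(pullback q g, Q) :=
    (g.appLE V W hWV ≫ (pullback.snd q g).appLE W Q inf_le_right).hom.toAlgebra
  have : IsScalarTower Γ(S, V) Γ(S', W) Γ(pullback q g, Q) := .of_algebraMap_eq' rfl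
  have : IsScalarTower Γ(S, V) Γ(X, D) Γ(pullback q g, Q) := .of_algebraMap_eq' (congrArg CommRingCat.Hom.hom
    (show g.appLE V W hWV ≫ (pullback.snd q g).appLE W Q inf_le_right =
      q.appLE V D e ≫ (pullback.fst q g).appLE D Q inf_le_left by
      simp only [Scheme.Hom.appLE_comp_appLE, pullback.condition]))
  have : Algebra.IsPushout Γ(S, V) Γ(S', W) Γ(X, D) Γ(pullback q g, Q) :=
    CommRingCat.isPushout_iff_isPushout.1 ((isIso_pushoutSection_iff (IsPullback.of_hasPullback q g) hWV e rfl).1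
      (isIso_pushoutSection_of_isAffineOpen (IsPullback.of_hasPullback q g) hWV e rfl hV hW hD)).flip
  have hker' : i'.ker.ideal ⟨Q, hQ⟩ = Ideal.ofList (rs.map (algebraMap Γ(X, D) Γ(pullback q g, Q))) := by
    rw [Scheme.Hom.ker_apply, hk, hker, Ideal.map_ofList]
    rfl
  refine ⟨Q, hQ, ⟨hz, hpW⟩, _, ⟨FlatMorSlice.isWeaklyRegular_pushout (R := Γ(S, V)) (R' := Γ(S', W)) rs hw hfl,
    fun h => ?_⟩, hker'⟩
  rw [Ideal.smul_eq_mul, Ideal.mul_top, ← hker', Scheme.Hom.ker_apply] at h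
  have hone : (i'.app Q).hom 1 = 0 := RingHom.mem_ker.1 (h ▸ Submodule.mem_top)
  rw [map_one] at hone
  have hz' : z ∈ i' ⁻¹ᵁ Q := ⟨hz, hpW⟩
  have := congrArg ((pullback (i ≫ q) g).presheaf.germ (i' ⁻¹ᵁ Q) z hz').hom hone
  rw [map_one, map_zero] at this
  exact one_ne_zero this

variable (u : Y ⟶ X) (g : X ⟶ S) [IsClosedImmersion u] [LocallyOfFinitePresentation g]

/-- Over a flat closed subscheme cut out by a regular sequence: a chart with flat partial quotients. -/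
theorem exists_transversal_chart (y : Y) (W : Y.Opens) (hyW : y ∈ W)
    (hflat : ∀ y' ∈ W, ((u ≫ g).stalkMap y').hom.Flat)
    (h : ∃ V : X.Opens, u y ∈ V ∧ Mor2.IsRegularClosedImmersion (u ∣_ V)) :
    (g.stalkMap (u y)).hom.Flat ∧
    ∃ (V : S.Opens) (_ : IsAffineOpen V) (D : X.Opens) (_ : IsAffineOpen D) (e : D ≤ g ⁻¹ᵁ V),
      u y ∈ D ∧ ∃ rs : List Γ(X, D), IsWeaklyRegular Γ(X, D) rs ∧ RingHom.ker (u.app D).hom = Ideal.ofList rs ∧
        letI := (g.appLE V D e).hom.toAlgebra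
        ∀ j, Module.Flat Γ(S, V) (Γ(X, D) ⧸ Ideal.ofList (rs.take j)) := by
  obtain ⟨_, ⟨V, hV, rfl⟩, hxV, -⟩ :=
    S.isBasis_affineOpens.exists_subset_of_mem_open (Set.mem_univ (g (u y))) isOpen_univ
  have hC : IsClosed (u '' (W : Set Y)ᶜ) := u.isClosedEmbedding.isClosedMap _ W.2.isClosed_compl
  let W' : X.Opens := g ⁻¹ᵁ V ⊓ ⟨(u '' (W : Set Y)ᶜ)ᶜ, hC.isOpen_compl⟩
  have hyW' : u y ∈ W' := ⟨hxV, fun ⟨y', hy', he⟩ => hy' (u.isClosedEmbedding.injective he ▸ hyW)⟩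
  obtain ⟨U, hU, hyU, hUW, rs, hrs, hker⟩ := exists_adapted_chart u y W' hyW' h
  have e : U ≤ g ⁻¹ᵁ V := hUW.trans inf_le_left
  have hUW₂ : ∀ y', u y' ∈ U → y' ∈ W := fun y' hy' => by
    by_contra hn
    exact (hUW hy').2 ⟨y', hn, rfl⟩
  let U' := u ⁻¹ᵁ U
  have hU' : IsAffineOpen U' := hU.preimage u
  have e' : U' ≤ (u ≫ g) ⁻¹ᵁ V := fun z hz => e hz
  let P := Γ(X, U)
  let B := Γ(Y, U')
  letI : Algebra Γ(S, V) P := (g.appLE V U e).hom.toAlgebra
  letI : Algebra Γ(S, V) B := ((u ≫ g).appLE V U' e').hom.toAlgebra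
  have : Algebra.FinitePresentation Γ(S, V) P :=
    HasRingHomProperty.appLE @LocallyOfFinitePresentation g ‹_› ⟨V, hV⟩ ⟨U, hU⟩ e
  have : Module.Flat Γ(S, V) B := flat_appLE_of_forall (u ≫ g) hV hU' e' fun y' hy' => hflat y' (hUW₂ y' hy')
  have hcomm : (u ≫ g).appLE V U' e' = g.appLE V U e ≫ u.app U := by
    rw [Scheme.Hom.app_eq_appLE, Scheme.Hom.appLE_comp_appLE]
  let π : P →ₐ[Γ(S, V)] B := ⟨(u.app U).hom, fun c => (ConcreteCategory.congr_hom hcomm c).symm⟩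
  have hπ : Function.Surjective π := u.app_surjective U hU
  let q := hU.primeIdealOf ⟨u y, hyU⟩
  have hrsq : ∀ r ∈ rs, r ∈ q.asIdeal := fun r hr => by
    let _ := X.presheaf.algebra_section_stalk ⟨u y, hyU⟩
    have := hU.isLocalization_stalk ⟨u y, hyU⟩
    refine (IsLocalization.AtPrime.to_map_mem_maximal_iff (X.presheaf.stalk (u y)) q.asIdeal r).1 ?_
    refine IsLocalRing.le_maximalIdeal (RingHom.ker_ne_top (u.stalkMap y).hom) ?_
    rw [CIImmersion.ker_stalkMap_eq u y hU hyU, hker]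
    exact Ideal.mem_map_of_mem _ (Ideal.subset_span hr)
  have : Module.Flat Γ(S, V) (P ⧸ RingHom.ker π.toRingHom) :=
    Module.Flat.of_linearEquiv (Ideal.quotientKerAlgEquivOfSurjective hπ).toLinearEquiv
  have : Module.Flat Γ(S, V) (P ⧸ Ideal.ofList rs) :=
    Module.Flat.of_linearEquiv (Ideal.quotientEquivAlgOfEq Γ(S, V)
      (show Ideal.ofList rs = RingHom.ker π.toRingHom from hker.symm)).toLinearEquiv
  have hq : Module.Flat Γ(S, V) (LocalizedModule q.asIdeal.primeCompl (P ⧸ Ideal.ofList rs)) :=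
    Props12.flat_localizedModule _ _
  refine ⟨flat_stalkMap_of_chart g hV hU e hyU (TransversalAlg.flat_self q rs hrsq hrs hq), ?_⟩
  obtain ⟨G, hG, hfl⟩ := TransversalAlg.exists_flat_take_away q rs hrsq hrs hq
  have hle : X.basicOpen G ≤ U := X.basicOpen_le G
  have hyD : u y ∈ X.basicOpen G := by
    refine (X.mem_basicOpen G (u y) hyU).2 ?_
    let := X.presheaf.algebra_section_stalk ⟨u y, hyU⟩
    have := hU.isLocalization_stalk ⟨u y, hyU⟩
    exact IsLocalization.map_units (X.presheaf.stalk (u y)) (⟨G, hG⟩ : q.asIdeal.primeCompl)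
  have : IsClosedImmersion (u ∣_ U) := IsZariskiLocalAtTarget.restrict ‹IsClosedImmersion u› U
  obtain ⟨-, hk⟩ := KoszulChart.restrict u hU (hU.basicOpen G) hle
  have := hU.isLocalization_basicOpen G
  refine ⟨V, hV, X.basicOpen G, hU.basicOpen G, hle.trans e, hyD, rs.map (algebraMap P Γ(X, X.basicOpen G)), ?_, ?_, ?_⟩
  · have : Module.Flat P Γ(X, X.basicOpen G) := IsLocalization.flat _ (Submonoid.powers G)
    exact hrs.of_flat
  · rw [hk, hker, Ideal.map_ofList]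
    rfl
  · letI : Algebra Γ(S, V) Γ(X, X.basicOpen G) := (g.appLE V (X.basicOpen G) (hle.trans e)).hom.toAlgebra
    have : IsScalarTower Γ(S, V) P Γ(X, X.basicOpen G) := .of_algebraMap_eq' (congrArg CommRingCat.Hom.hom
      (Scheme.Hom.appLE_map g e (homOfLE hle).op).symm)
    exact fun j => hfl _ j

/-- The fibre immersion is regular near a point at which the immersion is regular and the subscheme flat. -/
theorem fibre_chart (s : S) (z : ↥((u ≫ g).fiber s)) (W : Y.Opens) (hzW : (u ≫ g).fiberι s z ∈ W)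
    (hflat : ∀ y' ∈ W, ((u ≫ g).stalkMap y').hom.Flat)
    (h : ∃ V : X.Opens, u ((u ≫ g).fiberι s z) ∈ V ∧ Mor2.IsRegularClosedImmersion (u ∣_ V)) :
    ∃ (Q : (g.fiber s).Opens) (hQ : IsAffineOpen Q), CInt.fiberMap u g s z ∈ Q ∧ ∃ ts : List Γ(g.fiber s, Q),
      IsRegular Γ(g.fiber s, Q) ts ∧ (CInt.fiberMap u g s).ker.ideal ⟨Q, hQ⟩ = Ideal.ofList ts := by
  obtain ⟨-, V, hV, D, hD, e, hyD, rs, hw, hker, hfl⟩ := exists_transversal_chart u g _ W hzW hflat h
  refine chart_baseChange u g hV hD e rs hker hw hfl (S.fromSpecResidueField s) (by simp) (by simp) z ?_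
  have : (CInt.fiberMap u g s ≫ g.fiberι s) z = ((u ≫ g).fiberι s ≫ u) z :=
    congrArg (fun φ : (u ≫ g).fiber s ⟶ X => φ z) (pullback.lift_fst _ _ _)
  exact this ▸ hyD

end Groth.Agent.CAlgH.TransversalImmersion
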