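import Groth.Agent.S2641
import Groth.Agent.S2684
import Groth.Agent.CommAlg6.FormallyCatenary
import Groth.Agent.CommAlg6.CatenaryHeight
import Groth.Agent.CommAlg6.FlatEquidim
import Mathlib

/-!
# Geometrically normal formal fibres and unibranch imply universally catenary
-/

set_option autoImplicit false
set_option linter.style.haveILetI false
universe u

open IsLocalRing

namespace Groth.Agent.CAlgH.UnibranchCatenary

/-- A quotient all whose minimal primes give the same dimension is equidimensional. -/
theorem isEquidim_quotient {R : Type u} [CommRing R] [IsLocalRing R] [IsNoetherianRing R] (J : Ideal R)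
    (hJ : J ≤ maximalIdeal R) (d : WithBot ℕ∞) (h : ∀ Q ∈ J.minimalPrimes, ringKrullDim (R ⧸ Q) = d) :
    EGA4.IsEquidim (R ⧸ J) := by
  haveI : Nontrivial (R ⧸ J) := Ideal.Quotient.nontrivial_iff.2 fun h => (maximalIdeal.isMaximal R).ne_top (top_le_iff.1 (h ▸ hJ))
  haveI : IsLocalRing (R ⧸ J) := .of_surjective' _ Ideal.Quotient.mk_surjective
  have h2 : ∀ P ∈ minimalPrimes (R ⧸ J), ringKrullDim ((R ⧸ J) ⧸ P) = d := by
    intro P hP
    have hQ : P.comap (Ideal.Quotient.mk J) ∈ J.minimalPrimes := by
      rw [Ideal.minimalPrimes_eq_comap]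
      exact ⟨P, hP, rfl⟩
    rw [← h _ hQ]
    refine (ringKrullDim_eq_of_ringEquiv ?_).symm
    refine (Ideal.quotEquivOfEq ?_).trans (RingHom.quotientKerEquivOfSurjective
      (f := (Ideal.Quotient.mk P).comp (Ideal.Quotient.mk J))
      (Ideal.Quotient.mk_surjective.comp Ideal.Quotient.mk_surjective))
    rw [← RingHom.comap_ker, Ideal.mk_ker]
  obtain ⟨P0, hP0, hP0le, hP0e⟩ := CommAlg6.exists_minimalPrimes_hq_eq_height (maximalIdeal (R ⧸ J))
  haveI := hP0.1.1
  have hd : ringKrullDim (R ⧸ J) = d := by
    rw [← h2 P0 hP0, ← CommAlg6.hq_eq_ringKrullDim_quotient P0, hP0e, maximalIdeal_height_eq_ringKrullDim]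
  exact fun P hP => (h2 P hP).trans hd.symm

/-- A local ring whose completion is catenary and has one minimal prime is formally catenary. -/
theorem isFormallyEquidim_quotient_of_isDomain_completion {R : Type u} [CommRing R] [IsLocalRing R] [IsNoetherianRing R]
    [IsDomain (EGA4.Cpl R)] (p : Ideal R) [p.IsPrime] : EGA4.IsFormallyEquidim (R ⧸ p) := by
  let Rh := EGA4.Cpl R
  haveI : IsNoetherianRing Rh := Groth.Agent.Matlis6.isNoetherianRing_adicCompletion _
  haveI : Module.Flat R Rh := AdicCompletion.flat_of_isNoetherian _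
  haveI : IsLocalHom (algebraMap R Rh) := CommAlg6.isLocalHom_completion R
  haveI : IsLocalRing (R ⧸ p) := .of_surjective' _ Ideal.Quotient.mk_surjective
  have hcat : CAlg.IsCatenary Rh := CommAlg6.isCatenary_completion R
  have he : EGA4.IsEquidim Rh := by
    intro P hP
    have hPb : P = ⊥ := by
      rw [IsDomain.minimalPrimes_eq_singleton_bot] at hP
      exact hP
    subst hPb
    exact ringKrullDim_eq_of_ringEquiv (RingEquiv.quotientBot Rh)
  rw [CommAlg6.isFormallyEquidim_quotient_iff R p]
  obtain ⟨d, hd⟩ : ∃ d, ∀ Q ∈ (p.map (algebraMap R Rh)).minimalPrimes, ringKrullDim (Rh ⧸ Q) = d := by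
    let h0 := (p.height : WithBot ℕ∞)
    have key : ∀ Q ∈ (p.map (algebraMap R Rh)).minimalPrimes, h0 + ringKrullDim (Rh ⧸ Q) = ringKrullDim Rh := by
      intro Q hQ
      haveI := hQ.1.1
      haveI : Q.LiesOver p := by
        constructor
        refine le_antisymm (Ideal.map_le_iff_le_comap.1 hQ.1.2) ?_
        by_contra hne
        have hlt : p < Q.under R := lt_of_le_not_ge (Ideal.map_le_iff_le_comap.1 hQ.1.2) hne
        obtain ⟨Q', hQ', hQ'p, hQ'o⟩ := Ideal.exists_ideal_lt_liesOver_of_lt Q hlt
        exact hQ'.not_ge (hQ.2 ⟨hQ'p, Ideal.map_le_iff_le_comap.2 hQ'o.over.le⟩ hQ'.le)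
      have hh : Q.height = p.height := by
        rw [Ideal.height_eq_height_add_of_liesOver_of_hasGoingDown p Q, CommAlg6.height_map_mk_eq_zero hQ, add_zero]
      show (p.height : WithBot ℕ∞) + _ = _
      rw [← hh]
      exact CommAlg6.height_add_ringKrullDim_quotient_of_equidim hcat he Q
    have hJ : p.map (algebraMap R Rh) ≠ ⊤ := ne_top_of_le_ne_top (maximalIdeal.isMaximal Rh).ne_top
      ((Ideal.map_mono (le_maximalIdeal (Ideal.IsPrime.ne_top inferInstance))).trans
        (CommAlg6.map_maximalIdeal_le (A := R) (B := Rh)))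
    obtain ⟨Q0, hQ0⟩ := Ideal.nonempty_minimalPrimes hJ
    refine ⟨ringKrullDim (Rh ⧸ Q0), fun Q hQ => ?_⟩
    have e := (key Q hQ).trans (key Q0 hQ0).symm
    obtain ⟨h, hh⟩ := ENat.ne_top_iff_exists.1 (Ideal.height_ne_top_of_isPrime (I := p))
    change (p.height : WithBot ℕ∞) + _ = (p.height : WithBot ℕ∞) + _ at e
    rw [← hh] at e
    revert e
    generalize ringKrullDim (Rh ⧸ Q) = a
    generalize ringKrullDim (Rh ⧸ Q0) = b
    intro e
    cases a with
    | bot =>
      cases b with
      | bot => rfl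
      | coe b => rw [WithBot.add_bot, ← WithBot.coe_add] at e; exact absurd e WithBot.bot_ne_coe
    | coe a =>
      cases b with
      | bot => rw [WithBot.add_bot, ← WithBot.coe_add] at e; exact absurd e WithBot.coe_ne_bot
      | coe b =>
        rw [← WithBot.coe_add, ← WithBot.coe_add, WithBot.coe_inj] at e
        exact congrArg _ (WithTop.add_left_cancel (ENat.coe_ne_top h) e)
  exact isEquidim_quotient _ ((Ideal.map_mono (le_maximalIdeal (Ideal.IsPrime.ne_top inferInstance))).trans
    (CommAlg6.map_maximalIdeal_le (A := R) (B := Rh))) d hd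

/-- The reduction of a unibranch ring is unibranch. -/
theorem isUnibranch_red {A : Type u} [CommRing A] [IsLocalRing A] [IsLocalRing (CAlg2.red A)] (hu : CAlg2.IsUnibranch A) :
    CAlg2.IsUnibranch (CAlg2.red A) := by
  haveI : IsDomain (CAlg2.red A) := hu.1
  haveI : IsLocalRing (CAlg2.normRed A) := hu.2
  let R := CAlg2.red A
  let e' : R ≃+* CAlg2.red R :=
    ((Ideal.quotEquivOfEq (nilradical_eq_zero R)).trans (RingEquiv.quotientBot R)).symm
  haveI : IsDomain (CAlg2.red R) := e'.symm.injective.isDomain e'.symm.toRingHom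
  refine ⟨inferInstance, ?_⟩
  let K := FractionRing (CAlg2.red R)
  let g : FractionRing R ≃+* K := IsFractionRing.ringEquivOfRingEquiv e'
  have hg : g.toRingHom.comp (algebraMap R (FractionRing R)) = (algebraMap (CAlg2.red R) K).comp e'.toRingHom :=
    RingHom.ext fun r => IsFractionRing.ringEquivOfRingEquiv_algebraMap e' r
  let φ : integralClosure R (FractionRing R) →+* CAlg2.normRed R :=
    (g.toRingHom.comp (Subalgebra.val (integralClosure R (FractionRing R))).toRingHom).codRestrict
      (integralClosure (CAlg2.red R) K).toSubring fun x => by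
      obtain ⟨p, hp, hpx⟩ := x.2
      refine ⟨p.map e'.toRingHom, hp.map _, ?_⟩
      rw [Polynomial.eval₂_map, ← hg]
      show Polynomial.eval₂ (g.toRingHom.comp (algebraMap R (FractionRing R))) (g.toRingHom x.1) p = 0
      rw [← Polynomial.hom_eval₂, hpx, map_zero]
  refine IsLocalRing.of_surjective' φ fun y => ?_
  obtain ⟨p, hp, hpy⟩ := y.2
  have hy : IsIntegral R (g.symm y.1) := by
    refine ⟨p.map e'.symm.toRingHom, hp.map _, g.injective ?_⟩
    rw [Polynomial.eval₂_map, map_zero]
    show g.toRingHom (Polynomial.eval₂ _ _ p) = 0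
    rw [Polynomial.hom_eval₂, ← RingHom.comp_assoc, hg, RingHom.comp_assoc]
    simp only [RingEquiv.toRingHom_comp_symm_toRingHom, RingHom.comp_id]
    rw [show g.toRingHom (g.symm y.1) = y.1 from g.apply_symm_apply y.1]
    exact hpy
  exact ⟨⟨g.symm y.1, hy⟩, Subtype.ext (g.apply_symm_apply y.1)⟩

/-- The main statement. -/
theorem isUniversallyCatenary (A : Type u) [CommRing A]
    [IsLocalRing A] [IsNoetherianRing A] (hA : EGA4.HasGeomNormalFormalFibres A)
    (hu : CAlg2.IsUnibranch A) : CAlg.IsUniversallyCatenary A := by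
  refine CommAlg6.isUniversallyCatenary_of_isFormallyCatenary A fun p _ => ?_
  let R := CAlg2.red A
  haveI : IsDomain R := hu.1
  haveI : IsLocalRing R := .of_surjective' _ Ideal.Quotient.mk_surjective
  haveI : Algebra.EssFiniteType A R := inferInstance
  have hR : EGA4.HasGeomNormalFormalFibres R := S2641.result A hA R
  have huR : CAlg2.IsUnibranch R := isUnibranch_red hu
  haveI : IsDomain (EGA4.Cpl R) := ((S2684.result R hR).1).2 huR
  let p' : Ideal R := p.map (Ideal.Quotient.mk (nilradical A))
  have hn : nilradical A ≤ p := nilradical_le_prime p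
  haveI : p'.IsPrime := Ideal.map_isPrime_of_surjective Ideal.Quotient.mk_surjective (by rwa [Ideal.mk_ker])
  haveI : IsLocalRing (R ⧸ p') := .of_surjective' _ Ideal.Quotient.mk_surjective
  exact (CommAlg6.isFormallyEquidim_congr (Ideal.Quotient.mk p) Ideal.Quotient.mk_surjective
    ((Ideal.Quotient.mk p').comp (Ideal.Quotient.mk (nilradical A)))
    (Ideal.Quotient.mk_surjective.comp Ideal.Quotient.mk_surjective)
    (by rw [Ideal.mk_ker, ← RingHom.comap_ker, Ideal.mk_ker, Ideal.comap_map_of_surjective' _ Ideal.Quotient.mk_surjective,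
      Ideal.mk_ker, sup_eq_left.2 hn])).2
    (isFormallyEquidim_quotient_of_isDomain_completion p')

end Groth.Agent.CAlgH.UnibranchCatenary
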