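import Groth.Agent.UnivHomeo.Scheme
import Mathlib.RingTheory.Localization.Away.Basic
import Mathlib.Data.Nat.Choose.Factorization
import Mathlib.Algebra.CharP.Lemmas

/-! Universal homeomorphisms that are isomorphisms away from `p`. -/

universe u

set_option autoImplicit false

open AlgebraicGeometry CategoryTheory

namespace Groth.Agent.CAlgH.UnivHomeoAway

variable {A B : Type u} [CommRing A] [CommRing B] (φ : A →+* B) (p : ℕ)

theorem exists_pow_mul_mem (h : Function.Surjective (Localization.awayMap φ (p : A))) (b : B) :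
    ∃ K : ℕ, (p : B) ^ K * b ∈ φ.range := by
  obtain ⟨z, hz⟩ := h (algebraMap B _ b)
  obtain ⟨k, a, ha⟩ := IsLocalization.Away.surj (p : A) z
  have h1 : algebraMap B (Localization.Away (φ (p : A))) (b * φ (p : A) ^ k) = algebraMap B _ (φ a) := by
    have := congrArg (Localization.awayMap φ (p : A)) ha
    rw [map_mul, hz, map_pow] at this
    simp only [Localization.awayMap, IsLocalization.Away.map, IsLocalization.map_eq] at this
    rwa [map_mul, map_pow]
  obtain ⟨⟨_, m, rfl⟩, hm⟩ := IsLocalization.exists_of_eq (M := Submonoid.powers (φ (p : A))) h1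
  refine ⟨m + k, ⟨(p : A) ^ m * a, ?_⟩⟩
  simp only [map_mul, map_pow, map_natCast] at hm ⊢
  rw [← hm, pow_add]
  ring

theorem pow_mul_pow_mem {K : ℕ} {x : B} (hx : (p : B) ^ K * x ∈ φ.range) {r M : ℕ} (h : K * r ≤ M) :
    (p : B) ^ M * x ^ r ∈ φ.range := by
  obtain ⟨c, rfl⟩ := Nat.exists_eq_add_of_le h
  rw [pow_add, mul_comm (_ ^ (K * r)), mul_assoc, pow_mul, ← mul_pow]
  exact mul_mem (pow_mem (natCast_mem _ p) c) (pow_mem hx r)

theorem add_pow_mem (hp : p.Prime) (hK : ∀ b : B, ∃ K : ℕ, (p : B) ^ K * b ∈ φ.range) {x y : B} {n m : ℕ}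
    (hx : x ^ p ^ n ∈ φ.range) (hy : y ^ p ^ m ∈ φ.range) : ∃ N : ℕ, (x + y) ^ p ^ N ∈ φ.range := by
  set L := n + m with hL
  have hxL : x ^ p ^ L ∈ φ.range := by rw [hL, pow_add, pow_mul]; exact pow_mem hx _
  have hyL : y ^ p ^ L ∈ φ.range := by rw [hL, add_comm, pow_add, pow_mul]; exact pow_mem hy _
  obtain ⟨K₁, hK₁⟩ := hK x
  obtain ⟨K₂, hK₂⟩ := hK y
  have hpos : 0 < p ^ L := pow_pos hp.pos L
  set N := L + (K₁ + K₂) * p ^ L with hN
  refine ⟨N, ?_⟩
  rw [add_pow]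
  refine sum_mem fun i hi => ?_
  rw [Finset.mem_range, Nat.lt_succ_iff] at hi
  set j := p ^ N - i with hj
  have hij : i + j = p ^ N := by omega
  have hdN : p ^ L ∣ p ^ N := pow_dvd_pow p (by omega)
  by_cases hd : p ^ L ∣ i
  · have hd' : p ^ L ∣ j := (Nat.dvd_add_right hd).1 (hij ▸ hdN)
    obtain ⟨q, hq⟩ := hd
    obtain ⟨q', hq'⟩ := hd'
    rw [hq, hq', pow_mul, pow_mul]
    exact mul_mem (mul_mem (pow_mem hxL q) (pow_mem hyL q')) (natCast_mem _ _)
  · have hi0 : i ≠ 0 := by rintro rfl; exact hd (dvd_zero _)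
    have hv : i.factorization p < L := by
      by_contra hge
      exact hd ((hp.pow_dvd_iff_le_factorization hi0).2 (not_lt.1 hge))
    have hc : p ^ (N - L) ∣ (p ^ N).choose i := by
      rw [hp.pow_dvd_iff_le_factorization (Nat.choose_pos hi).ne', Nat.factorization_choose_prime_pow hp hi hi0]
      omega
    obtain ⟨c, hc⟩ := hc
    have ei : x ^ i = x ^ (i % p ^ L) * (x ^ p ^ L) ^ (i / p ^ L) := by
      rw [← pow_mul, ← pow_add, Nat.mod_add_div]
    have ej : y ^ j = y ^ (j % p ^ L) * (y ^ p ^ L) ^ (j / p ^ L) := by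
      rw [← pow_mul, ← pow_add, Nat.mod_add_div]
    rw [hc, Nat.cast_mul, Nat.cast_pow, ei, ej, show N - L = K₁ * p ^ L + K₂ * p ^ L by
        rw [hN, Nat.add_sub_cancel_left, add_mul], pow_add (p : B),
      show x ^ (i % p ^ L) * (x ^ p ^ L) ^ (i / p ^ L) * (y ^ (j % p ^ L) * (y ^ p ^ L) ^ (j / p ^ L)) *
        ((p : B) ^ (K₁ * p ^ L) * (p : B) ^ (K₂ * p ^ L) * (c : B)) =
        ((p : B) ^ (K₁ * p ^ L) * x ^ (i % p ^ L)) * ((p : B) ^ (K₂ * p ^ L) * y ^ (j % p ^ L)) *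
          ((x ^ p ^ L) ^ (i / p ^ L) * (y ^ p ^ L) ^ (j / p ^ L) * (c : B)) by ring]
    exact mul_mem (mul_mem (pow_mul_pow_mem φ p hK₁ (Nat.mul_le_mul_left _ (Nat.mod_lt _ hpos).le))
      (pow_mul_pow_mem φ p hK₂ (Nat.mul_le_mul_left _ (Nat.mod_lt _ hpos).le)))
      (mul_mem (mul_mem (pow_mem hxL _) (pow_mem hyL _)) (natCast_mem _ c))

theorem exists_pow_mem (hp : p.Prime) (hK : ∀ b : B, ∃ K : ℕ, (p : B) ^ K * b ∈ φ.range)
    (hint : φ.IsIntegral) (hrad : UnivHomeo.Rad φ) (b : B) : ∃ n : ℕ, b ^ p ^ n ∈ φ.range := by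
  let C : Subring B :=
    { carrier := {x | ∃ n : ℕ, x ^ p ^ n ∈ φ.range}
      one_mem' := ⟨0, by simp⟩
      zero_mem' := ⟨0, by simp⟩
      neg_mem' := by
        rintro x ⟨n, hn⟩
        exact ⟨n, by rw [neg_pow]; exact mul_mem (pow_mem (neg_mem (one_mem _)) _) hn⟩
      mul_mem' := by
        rintro x y ⟨n, hn⟩ ⟨m, hm⟩
        refine ⟨n + m, ?_⟩
        rw [mul_pow]
        refine mul_mem ?_ ?_
        · rw [pow_add, pow_mul]; exact pow_mem hn _
        · rw [add_comm, pow_add, pow_mul]; exact pow_mem hm _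
      add_mem' := by
        rintro x y ⟨n, hn⟩ ⟨m, hm⟩
        exact add_pow_mem φ p hp hK hn hm }
  have hroot : ∀ (x : B) (k : ℕ), x ^ p ^ k ∈ C → x ∈ C := by
    rintro x k ⟨n, hn⟩
    exact ⟨k + n, by rw [pow_add, pow_mul]; exact hn⟩
  have hC : C = ⊤ := by
    refine UnivHomeo.eq_top_of_closed φ C hint hrad (fun x hx => ⟨0, by simpa using hx⟩) ?_ (Or.inr ?_)
    · intro x h2 h3
      refine hroot x 1 ?_
      rw [pow_one]
      rcases hp.eq_two_or_odd' with hp2 | ⟨k, hk⟩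
      · rw [hp2]; exact h2
      · obtain ⟨k, rfl⟩ : ∃ l, k = l + 1 := ⟨k - 1, by have := hp.two_le; omega⟩
        rw [show p = 2 * k + 3 by omega, pow_add, pow_mul]
        exact C.mul_mem (pow_mem h2 k) h3
    · intro l hl x h1 h2
      by_cases hlp : l = p
      · subst hlp; exact hroot x 1 (by rwa [pow_one])
      · obtain ⟨K, hKx⟩ := hK x
        have hcop : Nat.Coprime l (p ^ K) := ((Nat.coprime_primes hl hp).2 hlp).pow_right K
        obtain ⟨u, v, huv⟩ := Nat.Coprime.isCoprime hcop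
        have hKx' : (p : B) ^ K * x ∈ C := ⟨0, by simpa using hKx⟩
        have : x = (u : B) * ((l : B) * x) + (v : B) * ((p : B) ^ K * x) := by
          have h := congrArg (fun z : ℤ => (z : B)) huv
          push_cast at h
          linear_combination (-x) * h
        rw [this]
        exact C.add_mem (C.mul_mem (intCast_mem C u) h1) (C.mul_mem (intCast_mem C v) hKx')
  exact (hC ▸ Subring.mem_top b : b ∈ C)

theorem main (hp : p.Prime) (h : Function.Bijective (Localization.awayMap φ (p : A))) :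
    FlatMor.IsUnivHomeo (Spec.map (CommRingCat.ofHom φ)) ↔
      (∀ a ∈ RingHom.ker φ, IsNilpotent a) ∧ ∀ b : B, ∃ n : ℕ, (p ^ n : B) * b ∈ φ.range ∧ b ^ (p ^ n) ∈ φ.range := by
  rw [UnivHomeo.isUnivHomeo_iff]
  have hK := exists_pow_mul_mem φ p h.2
  constructor
  · rintro ⟨hint, hrad, hker⟩
    refine ⟨fun a ha => hker ha, fun b => ?_⟩
    obtain ⟨K, hKb⟩ := hK b
    obtain ⟨n, hn⟩ := exists_pow_mem φ p hp hK hint hrad b
    refine ⟨K + n, ?_, ?_⟩
    · rw [add_comm, pow_add, mul_assoc]; exact mul_mem (pow_mem (natCast_mem _ p) _) hKb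
    · rw [add_comm, pow_add, pow_mul]; exact pow_mem hn _
  · rintro ⟨hker, hb⟩
    refine ⟨fun b => ?_, fun K _ g₁ g₂ hg => RingHom.ext fun b => ?_, fun a ha => hker a ha⟩
    · obtain ⟨n, -, a, ha⟩ := hb b
      exact ⟨Polynomial.X ^ p ^ n - Polynomial.C a, Polynomial.monic_X_pow_sub_C a (pow_pos hp.pos n).ne', by
        rw [Polynomial.eval₂_sub, Polynomial.eval₂_X_pow, Polynomial.eval₂_C, ha, sub_self]⟩
    · obtain ⟨n, ⟨a, ha⟩, a', ha'⟩ := hb b
      by_cases hpK : (p : K) = 0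
      · haveI : Fact p.Prime := ⟨hp⟩
        haveI : CharP K p := ringChar.of_eq (CharP.ringChar_of_prime_eq_zero hp hpK)
        refine iterateFrobenius_inj K p n ?_
        rw [iterateFrobenius_def, iterateFrobenius_def, ← map_pow, ← map_pow, ← ha']
        exact RingHom.congr_fun hg a'
      · have h1 := RingHom.congr_fun hg a
        simp only [RingHom.comp_apply, ha, map_mul, map_pow, map_natCast] at h1
        exact mul_left_cancel₀ (pow_ne_zero n hpK) h1

end Groth.Agent.CAlgH.UnivHomeoAway
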