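import Groth.Agent.CAlgH.WeakAssFlat
import Groth.Agent.HenselLib.HullFlat
import Groth.Agent.HenselLib.HensBase
import Groth.Agent.HenselLib.TensorHull

/-!
# Weakly associated closed point and (strict) henselization
-/

set_option autoImplicit false

universe u

open TensorProduct IsLocalRing

namespace Groth.Agent.CAlgH.WeakAssHull

open CAlgH3 HenselLib WeakAssFlat

/-- Flat base change contracts annihilators of elements. -/
theorem annEl_one_tmul_le {B : Type u} [CommRing B] {C : Type u} [CommRing C] [Algebra B C] [Module.Flat B C]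
    {N : Type u} [AddCommGroup N] [Module B N] (y : N) :
    annEl C ((1 : C) ⊗ₜ[B] y) ≤ (annEl B y).map (algebraMap B C) := by
  intro c hc
  let q : (B ⧸ annEl B y) →ₗ[B] N := Submodule.liftQ (annEl B y) (LinearMap.toSpanSingleton B N y)
    (fun r hr => mem_annEl.1 hr)
  have hq : Function.Injective q := by
    rw [← LinearMap.ker_eq_bot]
    exact Submodule.ker_liftQ_eq_bot _ _ _ fun r hr => mem_annEl.2 hr
  have hc' : c • ((1 : C) ⊗ₜ[B] y) = 0 := mem_annEl.1 hc
  have h0 : LinearMap.lTensor C q (c ⊗ₜ[B] Submodule.Quotient.mk 1) = 0 := by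
    rw [LinearMap.lTensor_tmul, Submodule.liftQ_apply, LinearMap.toSpanSingleton_apply, one_smul]
    rw [TensorProduct.smul_tmul', smul_eq_mul, mul_one] at hc'
    exact hc'
  have h1 := congrArg (TensorProduct.tensorQuotEquivQuotSMul C (annEl B y))
    ((map_eq_zero_iff _ (Module.Flat.lTensor_preserves_injective_linearMap q hq)).1 h0)
  rw [map_zero, show (Submodule.Quotient.mk (1 : B) : B ⧸ annEl B y) = Ideal.Quotient.mk _ 1 from rfl,
    TensorProduct.tensorQuotEquivQuotSMul_tmul_mk, one_smul, Submodule.Quotient.mk_eq_zero,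
    Ideal.smul_top_eq_map] at h1
  exact h1

/-- Ascent along a flat local map with trivial closed fibre. -/
theorem maximal_mem_of_flat {A : Type u} [CommRing A] [IsLocalRing A] {C : Type u} [CommRing C] [IsLocalRing C]
    [Algebra A C] [Module.Flat A C] (hm : (maximalIdeal A).map (algebraMap A C) = maximalIdeal C)
    {M : Type u} [AddCommGroup M] [Module A M] (h : maximalIdeal A ∈ FlatCA.weakAss A M) :
    maximalIdeal C ∈ FlatCA.weakAss C (C ⊗[A] M) := by
  obtain ⟨m, hm'⟩ := mem_weakAss.1 h
  refine mem_weakAss.2 ⟨1 ⊗ₜ m, ⟨inferInstance,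
    (annEl_one_tmul_le m).trans (hm ▸ Ideal.map_mono hm'.1.2)⟩, fun P hP _ => ?_⟩
  have := hP.1
  have hle : annEl A m ≤ P.comap (algebraMap A C) := fun r hr => hP.2 (mem_annEl.2 (by
    rw [algebraMap_smul, TensorProduct.smul_tmul', TensorProduct.smul_tmul, mem_annEl.1 hr,
      TensorProduct.tmul_zero]))
  rw [← hm, Ideal.map_le_iff_le_comap]
  exact hm'.2 ⟨inferInstance, hle⟩ (le_maximalIdeal (Ideal.IsPrime.ne_top inferInstance))

section Hull

variable {R K : Type u} [CommRing R] [IsLocalRing R] [Field K] [Algebra R K] [IsLocalRing (Hull R K)]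
  [IsLocalHom (algebraMap R (Hull R K))]
variable {M : Type u} [AddCommGroup M] [Module R M]

/-- Descent from a hull. -/
theorem maximal_mem_of_hull (h : maximalIdeal (Hull R K) ∈ FlatCA.weakAss (Hull R K) (Hull R K ⊗[R] M)) :
    maximalIdeal R ∈ FlatCA.weakAss R M := by
  obtain ⟨z, hz⟩ := mem_weakAss.1 h
  obtain ⟨P, z', hz'⟩ := TensorHull.exists_rep_rTensor z
  letI : Algebra P.Ring (Hull R K) := (ι P).toRingHom.toAlgebra
  haveI : IsScalarTower R P.Ring (Hull R K) := IsScalarTower.of_algHom (ι P)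
  haveI : Module.Flat P.Ring (Hull R K) := flat_of_flat_of_etale (R := R)
  let u : Ideal P.Ring := (maximalIdeal (Hull R K)).comap (algebraMap P.Ring (Hull R K))
  haveI : u.LiesOver (maximalIdeal R) := ⟨by
    rw [Ideal.under_def]
    simp only [u]
    rw [Ideal.comap_comap, ← IsScalarTower.algebraMap_eq]
    exact (IsLocalRing.maximalIdeal_comap (algebraMap R (Hull R K))).symm⟩
  have hφ : ∀ y : P.Ring ⊗[R] M, AlgebraTensorModule.cancelBaseChange R P.Ring (Hull R K) (Hull R K) M
      ((1 : Hull R K) ⊗ₜ[P.Ring] y) = (ι P).toLinearMap.rTensor M y := by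
    intro y
    induction y using TensorProduct.induction_on with
    | zero => simp
    | tmul b m =>
      rw [AlgebraTensorModule.cancelBaseChange_tmul, LinearMap.rTensor_tmul, Algebra.smul_def, mul_one]
      rfl
    | add a b ha hb => rw [TensorProduct.tmul_add, map_add, map_add, ha, hb]
  let e := AlgebraTensorModule.cancelBaseChange R P.Ring (Hull R K) (Hull R K) M
  have hz'' : e ((1 : Hull R K) ⊗ₜ[P.Ring] z') = z := by rw [hφ, hz']
  have hann : ∀ c : P.Ring, algebraMap P.Ring (Hull R K) c ∈ annEl (Hull R K) z →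
      ∃ t ∉ u, t * c ∈ annEl P.Ring z' := by
    intro c hc
    have h1 : (1 : Hull R K) ∈ annEl (Hull R K) ((1 : Hull R K) ⊗ₜ[P.Ring] (c • z')) := by
      have hs : (1 : Hull R K) ⊗ₜ[P.Ring] (c • z') =
          algebraMap P.Ring (Hull R K) c • ((1 : Hull R K) ⊗ₜ[P.Ring] z') := by
        rw [algebraMap_smul, TensorProduct.smul_tmul']
        exact (TensorProduct.smul_tmul c (1 : Hull R K) z').symm
      rw [mem_annEl, one_smul, hs]
      apply e.injective
      rw [map_smul, map_zero, hz'']
      exact mem_annEl.1 hc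
    have h2 := annEl_one_tmul_le (C := Hull R K) (c • z') h1
    have h3 : ¬ annEl P.Ring (c • z') ≤ u := fun hle =>
      (maximalIdeal.isMaximal (Hull R K)).ne_top ((Ideal.eq_top_iff_one _).2
        (Ideal.map_le_iff_le_comap.2 hle h2))
    obtain ⟨t, ht, htu⟩ := SetLike.not_le_iff_exists.1 h3
    exact ⟨t, htu, by rw [mem_annEl, ← smul_smul]; exact mem_annEl.1 ht⟩
  have hu : u ∈ FlatCA.weakAss P.Ring (P.Ring ⊗[R] M) := by
    refine mem_weakAss.2 ⟨z', ⟨inferInstance, fun c hc => hz.1.2 (mem_annEl.2 ?_)⟩, fun Q hQ hQu a ha => ?_⟩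
    · rw [← hz'', ← map_smul, algebraMap_smul, TensorProduct.smul_tmul']
      erw [TensorProduct.smul_tmul c (1 : Hull R K) z']
      rw [mem_annEl.1 hc, TensorProduct.tmul_zero, map_zero]
    · have hrad : algebraMap P.Ring (Hull R K) a ∈ (annEl (Hull R K) z).radical := by
        rw [(radical_eq_maximalIdeal_iff _).2 hz]; exact ha
      obtain ⟨k, hk⟩ := hrad
      rw [← map_pow] at hk
      obtain ⟨t, ht, ht'⟩ := hann _ hk
      exact hQ.1.mem_of_pow_mem k ((hQ.1.mem_or_mem (hQ.2 ht')).resolve_left fun h' => ht (hQu h'))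
  exact (mem_iff_of_etale M (maximalIdeal R) u).1 hu

end Hull

variable {R S : Type u} [CommRing R] [IsLocalRing R] [CommRing S] [IsLocalRing S] [Algebra R S]
  [IsLocalHom (algebraMap R S)] (M : Type u) [AddCommGroup M] [Module R M]

theorem mem_iff_of_equiv {K : Type u} [Field K] [Algebra R K] [IsLocalRing (Hull R K)]
    [IsLocalHom (algebraMap R (Hull R K))] (e : Hull R K ≃ₐ[R] S)
    (hm : (maximalIdeal R).map (algebraMap R S) = maximalIdeal S) :
    maximalIdeal S ∈ FlatCA.weakAss S (S ⊗[R] M) ↔ maximalIdeal R ∈ FlatCA.weakAss R M := by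
  refine ⟨fun h => maximal_mem_of_hull (K := K) ?_, fun h => ?_⟩
  · obtain ⟨z, hz⟩ := mem_weakAss.1 h
    let g : S ⊗[R] M ≃ₗ[R] Hull R K ⊗[R] M := TensorProduct.congr e.symm.toLinearEquiv (.refl R M)
    have hg : ∀ (s : S) (y : S ⊗[R] M), g (s • y) = e.symm s • g y := by
      intro s y
      induction y using TensorProduct.induction_on with
      | zero => simp
      | tmul b m => simp [g, TensorProduct.smul_tmul', smul_eq_mul]
      | add a b ha hb => simp only [smul_add, map_add, ha, hb]
    refine mem_weakAss.2 ⟨g z, maximal_minimalPrimes (fun ht => ?_) ?_⟩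
    · exact hz.1.1.ne_top (top_le_iff.1 ((annEl_eq_top.2 (g.injective ((annEl_eq_top.1 ht).trans (map_zero g).symm))).ge.trans hz.1.2))
    · intro a ha
      have ha' : e a ∈ maximalIdeal S := fun hu => ha (by simpa using hu.map e.symm)
      rw [← (radical_eq_maximalIdeal_iff _).2 hz] at ha'
      obtain ⟨k, hk⟩ := ha'
      refine ⟨k, mem_annEl.2 ?_⟩
      have := congrArg g (mem_annEl.1 hk)
      rwa [hg, map_zero, ← map_pow, AlgEquiv.symm_apply_apply] at this
  · haveI : Module.Flat R S := Module.Flat.of_linearEquiv e.symm.toLinearEquiv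
    exact maximal_mem_of_flat hm h

theorem mem_iff_henselization [Hensel.IsHenselization R S] :
    maximalIdeal S ∈ FlatCA.weakAss S (S ⊗[R] M) ↔ maximalIdeal R ∈ FlatCA.weakAss R M := by
  obtain ⟨e⟩ := exists_equiv_localH (R := R) S
  letI : Field (R ⧸ maximalIdeal R) := Ideal.Quotient.field _
  exact mem_iff_of_equiv M e (HensBase.map_maximalIdeal_of_isHenselization R S)

theorem mem_iff_strictHenselization [Hensel.IsStrictHenselization R S] :
    maximalIdeal S ∈ FlatCA.weakAss S (S ⊗[R] M) ↔ maximalIdeal R ∈ FlatCA.weakAss R M := by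
  obtain ⟨e⟩ := exists_equiv_localSH (R := R) S
  exact mem_iff_of_equiv M e (HensBase.map_maximalIdeal_of_isStrictHenselization R S)

end Groth.Agent.CAlgH.WeakAssHull
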